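import Cfsg.Agent.Helper28.FicB13

/-! # The Fi₂₃ presentation, cosets of the subgroup generated by a, …, i: the coset enumeration, part 14 (helper28; generated) -/

set_option autoImplicit false

noncomputable section

namespace Cfsg.Agent.Helper28.FicA

open Cfsg.Agent.Helper28.CosetTable

theorem L71447 : sm ga N8332 = N5934 := ded_14_1 (flp_f L51003) (flp_a L49522) L71445
theorem L71449 : sm gb N8332 = N5750 := ded_22_1 (flp_f L49524) L49516 L71445
theorem L71461 : sm ge N5750 = N8334 := rfl
theorem L71463 : sm ga N8334 = N5757 := ded_13_1 (flp_e L49576) (flp_a L49526) L71461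
theorem L71465 : sm gc N8334 = N5752 := ded_28_1 (flp_e L49540) (flp_c L49528) L71461
theorem L71468 : sm gg N5750 = N8335 := rfl
theorem L71475 : sm gf N8335 = N5836 := ded_45_1 (flp_g L50202) (flp_f L34848) (flp_g L34418) L49524 L71468
theorem L71477 : sm gh N5750 = N8336 := rfl
theorem L71485 : sm gd N5751 = N8337 := rfl
theorem L71489 : sm gg N8337 = N5838 := ded_36_2 (flp_d L50218) (flp_g L49538) L71485
theorem L71493 : sm gi N5751 = N8338 := rfl
theorem L71500 : sm gg N8338 = N5839 := ded_51_1 (flp_i L50225) (flp_g L49538) L71493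
theorem L71502 : sm gg N5752 = N8339 := rfl
theorem L71508 : sm gh N5752 = N8340 := rfl
theorem L71510 : sm ga N8340 = N5763 := ded_17_1 (flp_h L49623) (flp_a L49542) L71508
theorem L71512 : sm ge N8340 = N5754 := ded_43_1 (flp_h L49553) L49540 L71508
theorem L71523 : sm gh N5753 = N8342 := rfl
theorem L71525 : sm ga N8342 = N5765 := ded_17_1 (flp_h L49638) (flp_a L49547) L71523
theorem L71539 : sm gd N5757 = N8344 := rfl
theorem L71541 : sm gb N8344 = N5946 := ded_20_1 (flp_d L51097) (flp_b L49578) L71539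
theorem L71545 : sm gg N5757 = N8345 := rfl
theorem L71547 : sm gb N8345 = N5947 := ded_23_1 (flp_g L51102) (flp_b L49578) L71545
theorem L71549 : sm gc N8345 = N5762 := ded_30_1 (flp_g L49617) (flp_c L49580) L71545
theorem L71551 : sm ge N8345 = N5758 := ded_41_1 (flp_g L49583) L49576 L71545
theorem L71553 : sm gh N5757 = N8346 := rfl
theorem L71557 : sm gc N8346 = N5763 := ded_32_1 (flp_h L49623) (flp_c L49580) L71553
theorem L71562 : sm gj N5758 = N8347 := rfl
theorem L71569 : sm gf N8347 = N5848 := ded_46_1 (flp_j L50296) (flp_f L49590) L71562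
theorem L71571 : sm gh N5758 = N8348 := rfl
theorem L71573 : sm gb N8348 = N5950 := ded_25_1 (flp_h L51122) (flp_b L49585) L71571
theorem L71575 : sm gc N8348 = N5765 := ded_32_1 (flp_h L49638) (flp_c L49587) L71571
theorem L71615 : sm gf N5762 = N8353 := rfl
theorem L71617 : sm gb N8353 = N5767 := ded_22_1 (flp_f L49654) (flp_b L49619) L71615
theorem L71619 : sm ge N8353 = N5854 := ded_40_1 (flp_f L50346) L34944 (flp_f L34470) (flp_e L49621) L71615
theorem L71622 : sm gj N5762 = N8354 := rfl
theorem L71624 : sm gb N8354 = N5768 := ded_24_1 (flp_j L49661) (flp_b L49619) L71622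
theorem L71628 : sm gh N5762 = N8355 := rfl
theorem L71630 : sm gb N8355 = N5769 := ded_25_1 (flp_h L49667) (flp_b L49619) L71628
theorem L71632 : sm ge N8355 = N5765 := ded_43_1 (flp_h L49638) (flp_e L49621) L71628
theorem L71634 : sm gg N8355 = N5763 := ded_50_1 (flp_h L49623) L49617 L71628
theorem L71636 : sm gd N5763 = N8356 := rfl
theorem L71638 : sm gb N8356 = N5770 := ded_20_1 (flp_d L49675) (flp_b L49625) L71636
theorem L71642 : sm gi N5763 = N8357 := rfl
theorem L71649 : sm gh N5764 = N8358 := rfl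
theorem L71655 : sm gj N8358 = N5765 := ded_52_1 (flp_h L49638) L49630 L71649
theorem L71658 : sm gi N5765 = N8359 := rfl
theorem L71660 : sm gb N8359 = N5773 := ded_26_1 (flp_i L49695) (flp_b L49640) L71658
theorem L71663 : sm gf N8359 = N5860 := ded_48_1 (flp_i L50392) (flp_f L49642) L71658
theorem L71667 : sm gj N5767 = N8360 := rfl
theorem L71669 : sm gc N8360 = N5962 := ded_31_1 (flp_j L51217) (flp_c L49656) L71667
theorem L71671 : sm ge N8360 = N5861 := ded_42_1 (flp_j L50399) (flp_e L49658) L71667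
theorem L71673 : sm gf N8360 = N5768 := ded_46_1 (flp_j L49661) L49654 L71667
theorem L71675 : sm gh N5767 = N8361 := rfl
theorem L71684 : sm gh N5768 = N8362 := rfl
theorem L71690 : sm gj N8362 = N5769 := ded_52_1 (flp_h L49667) L49661 L71684
theorem L71692 : sm gd N5769 = N8363 := rfl
theorem L71694 : sm gg N8363 = N5770 := ded_36_2 (flp_d L49675) (flp_g L49673) L71692
theorem L71697 : sm gi N5769 = N8364 := rfl
theorem L71705 : sm gc N5770 = N8365 := rfl
theorem L71709 : sm gd N8365 = N5967 := ded_27_2 (flp_c L51250) (flp_d L35543) (flp_c L34503) L49675 L71705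
theorem L71711 : sm gi N5770 = N8366 := rfl
theorem L71713 : sm gd N8366 = N5771 := ded_39_1 (flp_i L49679) L49675 L71711
theorem L71726 : sm gd N5774 = N8368 := rfl
theorem L71728 : sm ga N8368 = N5775 := ded_12_1 (flp_d L49714) (flp_a L49706) L71726
theorem L71731 : sm gj N8368 = N8368 := ded_37_2 (flp_d L71726) L49711 L71726
theorem L71745 : sm gc N5775 = N8370 := rfl
theorem L71748 : sm gj N8370 = N8370 := ded_31_2 (flp_c L71745) L49718 L71745
theorem L71751 : sm gd N8370 = N5783 := ded_27_2 (flp_c L49780) (flp_d L34583) (flp_c L34546) L49714 L71745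
theorem L71753 : sm gf N5775 = N8371 := rfl
theorem L71768 : sm gg N5776 = N8373 := rfl
theorem L71770 : sm gb N8373 = N5779 := ded_23_1 (flp_g L49746) (flp_b L49723) L71768
theorem L71777 : sm ge N5777 = N8374 := rfl
theorem L71781 : sm gj N8374 = N8374 := ded_42_2 (flp_e L71777) L49737 L71777
theorem L71784 : sm gf N8374 = N8374 := ded_40_2 (flp_e L71777) (flp_f L49731) L34557 L49731 L71777
theorem L71785 : sm gg N5777 = N8375 := rfl
theorem L71792 : sm gh N5777 = N8376 := rfl
theorem L71796 : sm gf N8376 = N5778 := ded_47_1 (flp_h L49739) L49731 L71792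
theorem L71800 : sm gi N5778 = N8377 := rfl
theorem L71808 : sm gj N5779 = N8378 := rfl
theorem L71817 : sm gc N5781 = N8379 := rfl
theorem L71821 : sm ge N8379 = N5792 := ded_28_2 (flp_c L49847) (flp_e L49770) L71817
theorem L71825 : sm gf N5781 = N8380 := rfl
theorem L71827 : sm ga N8380 = N5784 := ded_14_1 (flp_f L49787) (flp_a L49766) L71825
theorem L71831 : sm gj N8380 = N8380 := ded_46_2 (flp_f L71825) L49768 L71825
theorem L71833 : sm gh N5781 = N8381 := rfl
theorem L71848 : sm gf N5783 = N8383 := rfl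
theorem L71851 : sm gc N8383 = N5784 := ded_29_1 (flp_f L49787) L49780 L71848
theorem L71855 : sm gh N5783 = N8384 := rfl
theorem L71863 : sm ge N5784 = N8385 := rfl
theorem L71865 : sm gb N8385 = N5787 := ded_21_1 (flp_e L49810) (flp_b L49789) L71863
theorem L71872 : sm gg N5784 = N8386 := rfl
theorem L71879 : sm gh N5784 = N8387 := rfl
theorem L71904 : sm gg N5787 = N8390 := rfl
theorem L71908 : sm ge N8390 = N5788 := ded_41_1 (flp_g L49818) L49810 L71904
theorem L71911 : sm gh N5787 = N8391 := rfl
theorem L71916 : sm gf N8391 = N5804 := ded_47_1 (flp_h L49940) (flp_f L49816) L71911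
theorem L71919 : sm gj N5788 = N8392 := rfl
theorem L71925 : sm gg N8392 = N8392 := ded_49_1 (flp_j L71919) (flp_g L49818) L34604 L49818 L71919
theorem L71926 : sm gh N5788 = N8393 := rfl
theorem L71932 : sm gi N5789 = N8394 := rfl
theorem L71936 : sm gf N8394 = N5790 := ded_48_1 (flp_i L49831) (flp_f L49827) L71932
theorem L71940 : sm gb N5792 = N8395 := rfl
theorem L71946 : sm gf N5792 = N8396 := rfl
theorem L71948 : sm ga N8396 = N5796 := ded_14_1 (flp_f L49878) (flp_a L49849) L71946
theorem L71950 : sm gc N8396 = N5793 := ded_29_1 (flp_f L49854) L49847 L71946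
theorem L71962 : sm ge N5793 = N8398 := rfl
theorem L71969 : sm gg N5793 = N8399 := rfl
theorem L71976 : sm gh N5793 = N8400 := rfl
theorem L71983 : sm gd N8400 = N5813 := ded_38_1 (flp_h L50013) L34722 (flp_h L34639) (flp_d L49858) L71976
theorem L72003 : sm ge N5796 = N8403 := rfl
theorem L72010 : sm gg N5796 = N8404 := rfl
theorem L72017 : sm gh N5796 = N8405 := rfl
theorem L72020 : sm gc N8405 = N5800 := ded_32_1 (flp_h L49906) (flp_c L49881) L72017
theorem L72022 : sm gf N8405 = N5797 := ded_47_1 (flp_h L49886) L49878 L72017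
theorem L72025 : sm gd N5797 = N8406 := rfl
theorem L72054 : sm gj N5799 = N8410 := rfl
theorem L72058 : sm gd N8410 = N5802 := ded_37_1 (flp_j L49923) (flp_d L49903) L72054
theorem L72062 : sm gh N5799 = N8411 := rfl
theorem L72080 : sm gf N5803 = N8413 := rfl
theorem L72085 : sm gj N5803 = N8414 := rfl
theorem L72089 : sm ge N8414 = N5805 := ded_42_1 (flp_j L49946) (flp_e L49937) L72085
theorem L72093 : sm gh N5803 = N8415 := rfl
theorem L72096 : sm ge N8415 = N5806 := ded_43_1 (flp_h L49953) (flp_e L49937) L72093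
theorem L72098 : sm gg N8415 = N5804 := ded_50_1 (flp_h L49940) L49933 L72093
theorem L72100 : sm gd N5804 = N8416 := rfl
theorem L72103 : sm ge N8416 = N5829 := ded_34_2 (flp_d L50148) L34813 (flp_d L34691) (flp_e L49943) L72100
theorem L72106 : sm gi N5804 = N8417 := rfl
theorem L72111 : sm gj N8417 = N8417 := ded_53_1 (flp_i L72106) L49945 L72106
theorem L72113 : sm gh N5805 = N8418 := rfl
theorem L72119 : sm gd N8418 = N5831 := ded_38_1 (flp_h L50163) L34821 (flp_h L34705) (flp_d L49949) L72113
theorem L72129 : sm gf N5808 = N8420 := rfl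
theorem L72131 : sm ga N8420 = N5970 := ded_14_1 (flp_f L51271) (flp_a L49976) L72129
theorem L72133 : sm gb N8420 = N5809 := ded_22_1 (flp_f L49978) L49969 L72129
theorem L72137 : sm gi N8420 = N5833 := ded_48_2 (flp_f L50178) (flp_i L49974) L72129
theorem L72139 : sm gh N5808 = N8421 := rfl
theorem L72147 : sm ge N5809 = N8422 := rfl
theorem L72149 : sm ga N8422 = N5816 := ded_13_1 (flp_e L50037) (flp_a L49980) L72147
theorem L72154 : sm gi N8422 = N5835 := ded_44_2 (flp_e L50194) (flp_i L49986) L72147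
theorem L72157 : sm gg N5809 = N8423 := rfl
theorem L72161 : sm gc N8423 = N5812 := ded_30_1 (flp_g L50005) (flp_c L49982) L72157
theorem L72164 : sm gi N8423 = N5836 := ded_51_2 (flp_g L50202) (flp_i L49986) L72157
theorem L72175 : sm gd N5810 = N8425 := rfl
theorem L72177 : sm ga N8425 = N5819 := ded_12_1 (flp_d L50065) (flp_a L49990) L72175
theorem L72181 : sm gi N5810 = N8426 := rfl
theorem L72189 : sm gh N8426 = N5839 := ded_54_1 (flp_i L50225) (flp_h L34856) (flp_i L34715) L49988 L72181
theorem L72191 : sm gg N5811 = N8427 := rfl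
theorem L72193 : sm ga N8427 = N5821 := ded_15_1 (flp_g L50081) (flp_a L49998) L72191
theorem L72196 : sm ge N8427 = N5812 := ded_41_1 (flp_g L50005) L49996 L72191
theorem L72198 : sm gi N8427 = N5840 := ded_51_2 (flp_g L50233) (flp_i L50001) L72191
theorem L72200 : sm gh N5811 = N8428 := rfl
theorem L72204 : sm ge N8428 = N5813 := ded_43_1 (flp_h L50013) L49996 L72200
theorem L72217 : sm gh N5812 = N8430 := rfl
theorem L72232 : sm gd N5816 = N8432 := rfl
theorem L72234 : sm gb N8432 = N5982 := ded_20_1 (flp_d L51374) (flp_b L50039) L72232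
theorem L72238 : sm gi N8432 = N5845 := ded_39_2 (flp_d L50270) (flp_i L50044) L72232
theorem L72242 : sm gg N5816 = N8433 := rfl
theorem L72246 : sm gc N8433 = N5821 := ded_30_1 (flp_g L50081) (flp_c L50041) L72242
theorem L72250 : sm gi N8433 = N5846 := ded_51_2 (flp_g L50278) (flp_i L50044) L72242
theorem L72252 : sm gh N5816 = N8434 := rfl
theorem L72258 : sm ge N8434 = N5818 := ded_43_1 (flp_h L50056) L50037 L72252
theorem L72262 : sm gj N5817 = N8435 := rfl
theorem L72264 : sm gb N8435 = N5985 := ded_24_1 (flp_j L51399) (flp_b L50049) L72262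
theorem L72269 : sm gi N8435 = N5848 := ded_53_2 (flp_j L50296) (flp_i L50054) L72262
theorem L72272 : sm gh N5817 = N8436 := rfl
theorem L72278 : sm gg N8436 = N5818 := ded_50_1 (flp_h L50056) L50047 L72272
theorem L72280 : sm gd N5818 = N8437 := rfl
theorem L72282 : sm gb N8437 = N5987 := ded_20_1 (flp_d L51413) (flp_b L50058) L72280
theorem L72284 : sm gf N8437 = N5819 := ded_35_2 (flp_d L50065) (flp_f L50062) L72280
theorem L72288 : sm gi N5818 = N8438 := rfl
theorem L72294 : sm gf N8438 = N5820 := ded_48_1 (flp_i L50071) (flp_f L50062) L72288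
theorem L72299 : sm ge N5819 = N8439 := rfl
theorem L72301 : sm gb N8439 = N5989 := ded_21_1 (flp_e L51429) (flp_b L50067) L72299
theorem L72306 : sm gi N5819 = N8440 := rfl
theorem L72310 : sm gd N8440 = N5820 := ded_39_1 (flp_i L50071) L50065 L72306
theorem L72313 : sm gf N5821 = N8441 := rfl
theorem L72315 : sm gb N8441 = N5826 := ded_22_1 (flp_f L50122) (flp_b L50083) L72313
theorem L72318 : sm gi N8441 = N5854 := ded_48_2 (flp_f L50346) (flp_i L50088) L72313
theorem L72321 : sm gj N5821 = N8442 := rfl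
theorem L72323 : sm gb N8442 = N5827 := ded_24_1 (flp_j L50130) (flp_b L50083) L72321
theorem L72326 : sm ge N8442 = N5823 := ded_42_1 (flp_j L50098) (flp_e L50086) L72321
theorem L72331 : sm gh N5821 = N8443 := rfl
theorem L72337 : sm gg N8443 = N5822 := ded_50_1 (flp_h L50090) L50081 L72331
theorem L72339 : sm gd N5822 = N8444 := rfl
theorem L72346 : sm gi N5822 = N8445 := rfl
theorem L72354 : sm gh N8445 = N5858 := ded_54_1 (flp_i L50376) (flp_h L34946) (flp_i L34764) L50090 L72346
theorem L72356 : sm gh N5823 = N8446 := rfl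
theorem L72358 : sm gb N8446 = N5831 := ded_25_1 (flp_h L50163) (flp_b L50100) L72356
theorem L72371 : sm gj N5826 = N8448 := rfl
theorem L72373 : sm gc N8448 = N5998 := ded_31_1 (flp_j L51505) (flp_c L50124) L72371
theorem L72376 : sm gf N8448 = N5827 := ded_46_1 (flp_j L50130) L50122 L72371
theorem L72380 : sm gh N5826 = N8449 := rfl
theorem L72382 : sm gc N8449 = N5999 := ded_32_1 (flp_h L51513) (flp_c L50124) L72380
theorem L72387 : sm gh N5827 = N8450 := rfl
theorem L72391 : sm ge N8450 = N5831 := ded_43_1 (flp_h L50163) (flp_e L50135) L72387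
theorem L72394 : sm gj N8450 = N5828 := ded_52_1 (flp_h L50140) L50130 L72387
theorem L72396 : sm gd N5828 = N8451 := rfl
theorem L72398 : sm gg N8451 = N5829 := ded_36_2 (flp_d L50148) (flp_g L50146) L72396
theorem L72411 : sm gc N5829 = N8453 := rfl
theorem L72433 : sm ge N5833 = N8456 := rfl
theorem L72435 : sm ga N8456 = N6006 := ded_13_1 (flp_e L51563) (flp_a L50180) L72433
theorem L72437 : sm gb N8456 = N5835 := ded_21_1 (flp_e L50194) (flp_b L50182) L72433
theorem L72441 : sm gg N5833 = N8457 := rfl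
theorem L72445 : sm gb N8457 = N5836 := ded_23_1 (flp_g L50202) (flp_b L50182) L72441
theorem L72473 : sm gd N5835 = N8461 := rfl
theorem L72475 : sm ga N8461 = N5845 := ded_12_1 (flp_d L50270) (flp_a L50196) L72473
theorem L72481 : sm gg N5835 = N8462 := rfl
theorem L72483 : sm ga N8462 = N5846 := ded_15_1 (flp_g L50278) (flp_a L50196) L72481
theorem L72485 : sm gc N8462 = N5840 := ded_30_1 (flp_g L50233) (flp_c L50198) L72481
theorem L72487 : sm ge N8462 = N5836 := ded_41_1 (flp_g L50202) L50194 L72481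
theorem L72489 : sm gh N5835 = N8463 := rfl
theorem L72491 : sm ga N8463 = N5847 := ded_17_1 (flp_h L50286) (flp_a L50196) L72489
theorem L72493 : sm gc N8463 = N5841 := ded_32_1 (flp_h L50240) (flp_c L50198) L72489
theorem L72499 : sm gj N5836 = N8464 := rfl
theorem L72533 : sm ge N5838 = N8468 := rfl
theorem L72535 : sm ga N8468 = N5852 := ded_13_1 (flp_e L50330) (flp_a L50220) L72533
theorem L72549 : sm gf N5840 = N8470 := rfl
theorem L72551 : sm ga N8470 = N5854 := ded_14_1 (flp_f L50346) (flp_a L50235) L72549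
theorem L72555 : sm gj N5840 = N8471 := rfl
theorem L72557 : sm ga N8471 = N5855 := ded_16_1 (flp_j L50352) (flp_a L50235) L72555
theorem L72563 : sm gh N5840 = N8472 := rfl
theorem L72565 : sm ga N8472 = N5856 := ded_17_1 (flp_h L50360) (flp_a L50235) L72563
theorem L72569 : sm gg N8472 = N5841 := ded_50_1 (flp_h L50240) L50233 L72563
theorem L72571 : sm gd N5841 = N8473 := rfl
theorem L72573 : sm ga N8473 = N5857 := ded_12_1 (flp_d L50368) (flp_a L50242) L72571
theorem L72587 : sm gh N5842 = N8475 := rfl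
theorem L72589 : sm ga N8475 = N5859 := ded_17_1 (flp_h L50384) (flp_a L50250) L72587
theorem L72602 : sm gg N5845 = N8477 := rfl
theorem L72604 : sm gb N8477 = N6026 := ded_23_1 (flp_g L51724) (flp_b L50272) L72602
theorem L72607 : sm gd N8477 = N5846 := ded_36_1 (flp_g L50278) L50270 L72602
theorem L72610 : sm gh N5845 = N8478 := rfl
theorem L72612 : sm gb N8478 = N6027 := ded_25_1 (flp_h L51731) (flp_b L50272) L72610
theorem L72618 : sm gf N5846 = N8479 := rfl
theorem L72620 : sm gb N8479 = N6028 := ded_22_1 (flp_f L51738) (flp_b L50280) L72618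
theorem L72625 : sm gj N5846 = N8480 := rfl
theorem L72627 : sm gb N8480 = N6029 := ded_24_1 (flp_j L51743) (flp_b L50280) L72625
theorem L72629 : sm gc N8480 = N5855 := ded_31_1 (flp_j L50352) (flp_c L50282) L72625
theorem L72631 : sm ge N8480 = N5848 := ded_42_1 (flp_j L50296) (flp_e L50284) L72625
theorem L72634 : sm gh N5846 = N8481 := rfl
theorem L72638 : sm gc N8481 = N5856 := ded_32_1 (flp_h L50360) (flp_c L50282) L72634
theorem L72640 : sm ge N8481 = N5849 := ded_43_1 (flp_h L50304) (flp_e L50284) L72634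
theorem L72642 : sm gg N8481 = N5847 := ded_50_1 (flp_h L50286) L50278 L72634
theorem L72644 : sm gd N5847 = N8482 := rfl
theorem L72650 : sm gi N5847 = N8483 := rfl
theorem L72654 : sm gc N8483 = N5858 := ded_33_1 (flp_i L50376) (flp_c L50290) L72650
theorem L72660 : sm gh N5848 = N8484 := rfl
theorem L72662 : sm gb N8484 = N6033 := ded_25_1 (flp_h L51771) (flp_b L50298) L72660
theorem L72664 : sm gc N8484 = N5859 := ded_32_1 (flp_h L50384) (flp_c L50300) L72660
theorem L72667 : sm gj N8484 = N5849 := ded_52_1 (flp_h L50304) L50296 L72660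
theorem L72669 : sm gd N5849 = N8485 := rfl
theorem L72677 : sm gi N5849 = N8486 := rfl
theorem L72685 : sm ge N5850 = N8487 := rfl
theorem L72702 : sm gf N5852 = N8489 := rfl
theorem L72726 : sm gj N5854 = N8492 := rfl
theorem L72728 : sm gb N8492 = N5861 := ded_24_1 (flp_j L50399) (flp_b L50348) L72726
theorem L72733 : sm gh N5854 = N8493 := rfl
theorem L72735 : sm gb N8493 = N5862 := ded_25_1 (flp_h L50406) (flp_b L50348) L72733
theorem L72737 : sm gf N8493 = N5856 := ded_47_1 (flp_h L50360) L50346 L72733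
theorem L72740 : sm gh N5855 = N8494 := rfl
theorem L72742 : sm gb N8494 = N5863 := ded_25_1 (flp_h L50413) (flp_b L50354) L72740
theorem L72749 : sm gd N5856 = N8495 := rfl
theorem L72757 : sm gi N5856 = N8496 := rfl
theorem L72781 : sm gi N5859 = N8499 := rfl
theorem L72783 : sm gb N8499 = N5867 := ded_26_1 (flp_i L50445) (flp_b L50386) L72781
theorem L72789 : sm gg N5861 = N8500 := rfl
theorem L72796 : sm gh N5861 = N8501 := rfl
theorem L72802 : sm gj N8501 = N5862 := ded_52_1 (flp_h L50406) L50399 L72796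
theorem L72804 : sm gd N5862 = N8502 := rfl
theorem L72806 : sm gf N8502 = N5864 := ded_35_2 (flp_d L50422) (flp_f L50410) L72804
theorem L72811 : sm gi N5862 = N8503 := rfl
theorem L72815 : sm gf N8503 = N5865 := ded_48_1 (flp_i L50429) (flp_f L50410) L72811
theorem L72818 : sm gd N5863 = N8504 := rfl
theorem L72835 : sm gi N5864 = N8506 := rfl
theorem L72850 : sm gb N5868 = N8508 := rfl
theorem L72855 : sm gj N8508 = N5909 := ded_24_2 (flp_b L50801) (flp_j L50459) L72850
theorem L72857 : sm gi N8508 = N5884 := ded_26_2 (flp_b L50599) (flp_i L50461) L72850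
theorem L72859 : sm gf N5868 = N8509 := rfl
theorem L72861 : sm ga N8509 = N5872 := ded_14_1 (flp_f L50493) (flp_a L50455) L72859
theorem L72863 : sm gc N8509 = N5869 := ded_29_1 (flp_f L50464) L50453 L72859
theorem L72866 : sm gj N8509 = N5910 := ded_46_2 (flp_f L50809) (flp_j L50459) L72859
theorem L72868 : sm gi N8509 = N5885 := ded_48_2 (flp_f L50606) (flp_i L50461) L72859
theorem L72870 : sm gh N5868 = N8510 := rfl
theorem L72878 : sm gj N8510 = N5911 := ded_52_1 (flp_h L50818) (flp_j L50459) L72870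
theorem L72880 : sm ge N5869 = N8511 := rfl
theorem L72882 : sm ga N8511 = N5874 := ded_13_1 (flp_e L50510) (flp_a L50466) L72880
theorem L72884 : sm gj N8511 = N5912 := ded_42_2 (flp_e L50827) (flp_j L50470) L72880
theorem L72886 : sm gi N8511 = N5887 := ded_44_2 (flp_e L50625) (flp_i L50472) L72880
theorem L72890 : sm gg N5869 = N8512 := rfl
theorem L72894 : sm gd N8512 = N5871 := ded_36_1 (flp_g L50483) (flp_d L50468) L72890
theorem L72896 : sm gi N8512 = N5888 := ded_51_2 (flp_g L50633) (flp_i L50472) L72890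
theorem L72908 : sm gi N5870 = N8514 := rfl
theorem L72917 : sm gh N8514 = N5890 := ded_54_1 (flp_i L50650) (flp_h L35146) (flp_i L35035) L50474 L72908
theorem L72919 : sm gj N5871 = N8515 := rfl
theorem L72921 : sm ga N8515 = N5878 := ded_16_1 (flp_j L50549) (flp_a L50485) L72919
theorem L72927 : sm gi N8515 = N5891 := ded_53_2 (flp_j L50660) (flp_i L50490) L72919
theorem L72929 : sm gg N8515 = N5916 := ded_49_1 (flp_j L50862) (flp_g L35286) (flp_j L35043) L50483 L72919
theorem L72931 : sm ge N5872 = N8516 := rfl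
theorem L72933 : sm gc N8516 = N5874 := ded_28_1 (flp_e L50510) (flp_c L50495) L72931
theorem L72935 : sm gj N8516 = N5917 := ded_42_2 (flp_e L50873) (flp_j L50498) L72931
theorem L72937 : sm gi N8516 = N5892 := ded_44_2 (flp_e L50671) (flp_i L50500) L72931
theorem L72940 : sm gg N5872 = N8517 := rfl
theorem L72942 : sm gc N8517 = N5875 := ded_30_1 (flp_g L50520) (flp_c L50495) L72940
theorem L72945 : sm gi N8517 = N5893 := ded_51_2 (flp_g L50678) (flp_i L50500) L72940
theorem L72948 : sm gh N5872 = N8518 := rfl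
theorem L72950 : sm gc N8518 = N5876 := ded_32_1 (flp_h L50529) (flp_c L50495) L72948
theorem L72954 : sm gj N8518 = N5919 := ded_52_1 (flp_h L50889) (flp_j L50498) L72948
theorem L72956 : sm gd N5873 = N8519 := rfl
theorem L72959 : sm gj N8519 = N5920 := ded_37_2 (flp_d L50895) (flp_j L50508) L72956
theorem L72973 : sm gg N5874 = N8521 := rfl
theorem L72975 : sm gb N8521 = N5879 := ded_23_1 (flp_g L50561) (flp_b L50512) L72973
theorem L72977 : sm gd N8521 = N8521 := ded_36_1 (flp_g L72973) L50518 L72973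
theorem L72980 : sm gi N8521 = N5897 := ded_51_2 (flp_g L50708) (flp_i L50516) L72973
theorem L72982 : sm gh N5874 = N8522 := rfl
theorem L72991 : sm gj N5875 = N8523 := rfl
theorem L72993 : sm gb N8523 = N5881 := ded_24_1 (flp_j L50575) (flp_b L50522) L72991
theorem L72995 : sm gd N8523 = N5878 := ded_37_1 (flp_j L50549) (flp_d L50524) L72991
theorem L72998 : sm gi N8523 = N5899 := ded_53_2 (flp_j L50724) (flp_i L50526) L72991
theorem L73021 : sm gf N5879 = N8526 := rfl
theorem L73024 : sm gi N8526 = N5902 := ded_48_2 (flp_f L50752) (flp_i L50566) L73021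
theorem L73028 : sm gj N5879 = N8527 := rfl
theorem L73033 : sm gi N8527 = N5903 := ded_53_2 (flp_j L50757) (flp_i L50566) L73028
theorem L73035 : sm gg N8527 = N5928 := ded_49_1 (flp_j L50962) (flp_g L35357) (flp_j L35089) L50561 L73028
theorem L73037 : sm gh N5879 = N8528 := rfl
theorem L73039 : sm ge N8528 = N5882 := ded_43_1 (flp_h L50584) (flp_e L50564) L73037
theorem L73041 : sm gg N8528 = N5880 := ded_50_1 (flp_h L50568) L50561 L73037
theorem L73043 : sm gd N5880 = N8529 := rfl
theorem L73046 : sm gj N8529 = N5930 := ded_37_2 (flp_d L50975) (flp_j L50573) L73043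
theorem L73050 : sm gi N5880 = N8530 := rfl
theorem L73067 : sm gi N5882 = N8532 := rfl
theorem L73071 : sm gg N8532 = N5883 := ded_51_1 (flp_i L50590) (flp_g L50587) L73067
theorem L73073 : sm gh N8532 = N5908 := ded_54_1 (flp_i L50794) (flp_h L35245) (flp_i L35099) L50584 L73067
theorem L73075 : sm gf N5884 = N8533 := rfl
theorem L73077 : sm gb N8533 = N5885 := ded_22_1 (flp_f L50606) L50599 L73075
theorem L73080 : sm gj N8533 = N5934 := ded_46_2 (flp_f L51003) (flp_j L50604) L73075
theorem L73082 : sm gh N5884 = N8534 := rfl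
theorem L73088 : sm gj N8534 = N5935 := ded_52_1 (flp_h L51008) (flp_j L50604) L73082
theorem L73090 : sm ge N5885 = N8535 := rfl
theorem L73096 : sm gj N8535 = N5936 := ded_42_2 (flp_e L51015) (flp_j L50613) L73090
theorem L73099 : sm gg N5885 = N8536 := rfl
theorem L73101 : sm ga N8536 = N5893 := ded_15_1 (flp_g L50678) (flp_a L50608) L73099
theorem L73103 : sm gc N8536 = N5888 := ded_30_1 (flp_g L50633) (flp_c L50610) L73099
theorem L73117 : sm gd N5886 = N8538 := rfl
theorem L73119 : sm ga N8538 = N5895 := ded_12_1 (flp_d L50692) (flp_a L50617) L73117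
theorem L73122 : sm gj N8538 = N5939 := ded_37_2 (flp_d L51039) (flp_j L50623) L73117
theorem L73137 : sm gg N5887 = N8540 := rfl
theorem L73142 : sm ge N8540 = N5888 := ded_41_1 (flp_g L50633) L50625 L73137
theorem L73153 : sm gj N5888 = N8542 := rfl
theorem L73155 : sm ga N8542 = N5899 := ded_16_1 (flp_j L50724) (flp_a L50635) L73153
theorem L73157 : sm gd N8542 = N5891 := ded_37_1 (flp_j L50660) (flp_d L50637) L73153
theorem L73160 : sm gg N8542 = N5943 := ded_49_1 (flp_j L51071) (flp_g L35419) (flp_j L35144) L50633 L73153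
theorem L73162 : sm gh N5888 = N8543 := rfl
theorem L73167 : sm gg N8543 = N5889 := ded_50_1 (flp_h L50640) L50633 L73162
theorem L73169 : sm gd N8543 = N6111 := ded_38_1 (flp_h L52426) L36396 (flp_h L35162) (flp_d L50637) L73162
theorem L73171 : sm gi N5889 = N8544 := rfl
theorem L73177 : sm gf N8544 = N5890 := ded_48_1 (flp_i L50650) (flp_f L50644) L73171
theorem L73181 : sm gd N5892 = N8545 := rfl
theorem L73184 : sm gj N8545 = N5946 := ded_37_2 (flp_d L51097) (flp_j L50675) L73181
theorem L73188 : sm gg N5892 = N8546 := rfl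
theorem L73190 : sm gc N8546 = N5897 := ded_30_1 (flp_g L50708) (flp_c L50673) L73188
theorem L73192 : sm ge N8546 = N5893 := ded_41_1 (flp_g L50678) L50671 L73188
theorem L73194 : sm gh N5892 = N8547 := rfl
theorem L73201 : sm gj N8547 = N5948 := ded_52_1 (flp_h L51108) (flp_j L50675) L73194
theorem L73203 : sm gj N5893 = N8548 := rfl
theorem L73211 : sm gh N5893 = N8549 := rfl
theorem L73213 : sm gc N8549 = N5900 := ded_32_1 (flp_h L50733) (flp_c L50680) L73211
theorem L73218 : sm gd N5894 = N8550 := rfl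
theorem L73222 : sm gj N8550 = N5951 := ded_37_2 (flp_d L51130) (flp_j L50690) L73218
theorem L73227 : sm gi N5894 = N8551 := rfl
theorem L73235 : sm ge N5895 = N8552 := rfl
theorem L73240 : sm gj N8552 = N5953 := ded_42_2 (flp_e L51143) (flp_j L50695) L73235
theorem L73253 : sm gf N5897 = N8554 := rfl
theorem L73255 : sm gb N8554 = N5902 := ded_22_1 (flp_f L50752) (flp_b L50710) L73253
theorem L73269 : sm gh N5897 = N8556 := rfl
theorem L73273 : sm ge N8556 = N5900 := ded_43_1 (flp_h L50733) (flp_e L50713) L73269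
theorem L73275 : sm gg N8556 = N5898 := ded_50_1 (flp_h L50715) L50708 L73269
theorem L73277 : sm gd N5898 = N8557 := rfl
theorem L73282 : sm gj N8557 = N5958 := ded_37_2 (flp_d L51182) (flp_j L50722) L73277
theorem L73284 : sm ge N8557 = N6125 := ded_34_2 (flp_d L52551) L36485 (flp_d L35203) (flp_e L50719) L73277
theorem L73287 : sm gi N5898 = N8558 := rfl
theorem L73316 : sm gj N5902 = N8561 := rfl
theorem L73320 : sm gf N8561 = N5903 := ded_46_1 (flp_j L50757) L50752 L73316
theorem L73322 : sm gh N5902 = N8562 := rfl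
theorem L73325 : sm gf N8562 = N5904 := ded_47_1 (flp_h L50764) L50752 L73322
theorem L73328 : sm gh N5903 = N8563 := rfl
theorem L73330 : sm ge N8563 = N5907 := ded_43_1 (flp_h L50785) (flp_e L50760) L73328
theorem L73332 : sm gg N8563 = N5964 := ded_50_1 (flp_h L51231) (flp_g L50762) L73328
theorem L73334 : sm gj N8563 = N5904 := ded_52_1 (flp_h L50764) L50757 L73328
theorem L73336 : sm gd N5904 = N8564 := rfl
theorem L73338 : sm gg N8564 = N5905 := ded_36_2 (flp_d L50770) (flp_g L50768) L73336
theorem L73349 : sm gc N5905 = N8566 := rfl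
theorem L73351 : sm ge N8566 = N6134 := ded_28_2 (flp_c L52627) (flp_e L50775) L73349
theorem L73354 : sm gj N8566 = N5967 := ded_31_2 (flp_c L51250) (flp_j L50773) L73349
theorem L73357 : sm gi N5905 = N8567 := rfl
theorem L73364 : sm gj N8567 = N5968 := ded_53_1 (flp_i L51256) (flp_j L50773) L73357
theorem L73375 : sm gf N5909 = N8569 := rfl
theorem L73377 : sm gb N8569 = N5910 := ded_22_1 (flp_f L50809) L50801 L73375
theorem L73380 : sm gi N8569 = N5934 := ded_48_2 (flp_f L51003) (flp_i L50807) L73375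
theorem L73382 : sm gh N5909 = N8570 := rfl
theorem L73387 : sm gg N8570 = N5971 := ded_50_1 (flp_h L51279) (flp_g L50805) L73382
theorem L73389 : sm ge N5910 = N8571 := rfl
theorem L73391 : sm ga N8571 = N5917 := ded_13_1 (flp_e L50873) (flp_a L50811) L73389
theorem L73393 : sm gc N8571 = N5912 := ded_28_1 (flp_e L50827) (flp_c L50813) L73389
theorem L73395 : sm gi N8571 = N5936 := ded_44_2 (flp_e L51015) (flp_i L50816) L73389
theorem L73398 : sm gg N5910 = N8572 := rfl
theorem L73400 : sm ga N8572 = N5918 := ded_15_1 (flp_g L50880) (flp_a L50811) L73398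
theorem L73402 : sm gc N8572 = N5913 := ded_30_1 (flp_g L50835) (flp_c L50813) L73398
theorem L73405 : sm gi N8572 = N5937 := ded_51_2 (flp_g L51022) (flp_i L50816) L73398
theorem L73407 : sm gf N8572 = N5973 := ded_45_1 (flp_g L51295) (flp_f L35577) (flp_g L35265) L50809 L73398
theorem L73409 : sm gh N5910 = N8573 := rfl
theorem L73413 : sm gc N8573 = N5914 := ded_32_1 (flp_h L50845) (flp_c L50813) L73409
theorem L73417 : sm gd N5911 = N8574 := rfl
theorem L73421 : sm gg N8574 = N5975 := ded_36_2 (flp_d L51313) (flp_g L50825) L73417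
theorem L73436 : sm gg N5912 = N8576 := rfl
theorem L73438 : sm ga N8576 = N5922 := ded_15_1 (flp_g L50910) (flp_a L50829) L73436
theorem L73441 : sm ge N8576 = N5913 := ded_41_1 (flp_g L50835) L50827 L73436
theorem L73443 : sm gi N8576 = N5941 := ded_51_2 (flp_g L51057) (flp_i L50831) L73436
theorem L73445 : sm gh N5912 = N8577 := rfl
theorem L73452 : sm gj N5913 = N8578 := rfl
theorem L73458 : sm gf N8578 = N5979 := ded_46_1 (flp_j L51348) (flp_f L50843) L73452
theorem L73460 : sm gi N8578 = N5943 := ded_53_2 (flp_j L51071) (flp_i L50841) L73452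
theorem L73462 : sm gh N5913 = N8579 := rfl
theorem L73468 : sm gg N8579 = N5914 := ded_50_1 (flp_h L50845) L50835 L73462
theorem L73471 : sm gi N5914 = N8580 := rfl
theorem L73480 : sm gd N5917 = N8581 := rfl
theorem L73483 : sm gi N8581 = N5946 := ded_39_2 (flp_d L51097) (flp_i L50877) L73480
theorem L73485 : sm gc N8581 = N8581 := ded_27_1 (flp_d L73480) L50875 L35317 (flp_c L50875) L73480
theorem L73487 : sm gg N5917 = N8582 := rfl
theorem L73489 : sm gc N8582 = N5922 := ded_30_1 (flp_g L50910) (flp_c L50875) L73487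
theorem L73491 : sm ge N8582 = N5918 := ded_41_1 (flp_g L50880) L50873 L73487
theorem L73493 : sm gi N8582 = N5947 := ded_51_2 (flp_g L51102) (flp_i L50877) L73487
theorem L73495 : sm gh N5917 = N8583 := rfl
theorem L73511 : sm gh N5918 = N8585 := rfl
theorem L73515 : sm gf N8585 = N5986 := ded_47_1 (flp_h L51407) (flp_f L50887) L73511
theorem L73519 : sm gd N5919 = N8586 := rfl
theorem L73521 : sm gf N8586 = N5920 := ded_35_2 (flp_d L50895) (flp_f L50893) L73519
theorem L73533 : sm ge N5920 = N8588 := rfl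
theorem L73540 : sm gi N5920 = N8589 := rfl
theorem L73545 : sm gg N8589 = N5990 := ded_51_1 (flp_i L51435) (flp_g L50897) L73540
theorem L73547 : sm gf N5922 = N8590 := rfl
theorem L73552 : sm gi N8590 = N5955 := ded_48_2 (flp_f L51159) (flp_i L50917) L73547
theorem L73554 : sm ge N8590 = N5991 := ded_40_1 (flp_f L51441) L35682 (flp_f L35327) (flp_e L50915) L73547
theorem L73557 : sm gj N5922 = N8591 := rfl
theorem L73564 : sm gi N8591 = N5956 := ded_53_2 (flp_j L51167) (flp_i L50917) L73557
theorem L73566 : sm gh N5922 = N8592 := rfl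
theorem L73568 : sm gb N8592 = N5929 := ded_25_1 (flp_h L50969) (flp_b L50912) L73566
theorem L73570 : sm ge N8592 = N5925 := ded_43_1 (flp_h L50936) (flp_e L50915) L73566
theorem L73572 : sm gg N8592 = N5923 := ded_50_1 (flp_h L50919) L50910 L73566
theorem L73574 : sm gd N5923 = N8593 := rfl
theorem L73576 : sm gb N8593 = N5930 := ded_20_1 (flp_d L50975) (flp_b L50921) L73574
theorem L73610 : sm gj N5927 = N8597 := rfl
theorem L73613 : sm ge N8597 = N5998 := ded_42_1 (flp_j L51505) (flp_e L50959) L73610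
theorem L73615 : sm gf N8597 = N5928 := ded_46_1 (flp_j L50962) L50954 L73610
theorem L73617 : sm gi N8597 = N5962 := ded_53_2 (flp_j L51217) (flp_i L50957) L73610
theorem L73619 : sm gh N5927 = N8598 := rfl
theorem L73621 : sm ge N8598 = N5999 := ded_43_1 (flp_h L51513) (flp_e L50959) L73619
theorem L73623 : sm gf N8598 = N5929 := ded_47_1 (flp_h L50969) L50954 L73619
theorem L73626 : sm gh N5928 = N8599 := rfl
theorem L73628 : sm ge N8599 = N5932 := ded_43_1 (flp_h L50987) (flp_e L50965) L73626
theorem L73630 : sm gj N8599 = N5929 := ded_52_1 (flp_h L50969) L50962 L73626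
theorem L73632 : sm gd N5929 = N8600 := rfl
theorem L73634 : sm gg N8600 = N5930 := ded_36_2 (flp_d L50975) (flp_g L50973) L73632
theorem L73638 : sm gi N5929 = N8601 := rfl
theorem L73646 : sm gc N5930 = N8602 := rfl
theorem L73651 : sm gi N5930 = N8603 := rfl
theorem L73653 : sm gd N8603 = N5931 := ded_39_1 (flp_i L50980) L50975 L73651
theorem L73666 : sm ge N5934 = N8605 := rfl
theorem L73668 : sm gb N8605 = N5936 := ded_21_1 (flp_e L51015) (flp_b L51005) L73666
theorem L73671 : sm gg N5934 = N8606 := rfl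
theorem L73673 : sm gb N8606 = N5937 := ded_23_1 (flp_g L51022) (flp_b L51005) L73671
theorem L73676 : sm gf N8606 = N6007 := ded_45_1 (flp_g L51569) (flp_f L35770) (flp_g L35395) L51003 L73671
theorem L73678 : sm gh N5934 = N8607 := rfl
theorem L73682 : sm gf N8607 = N5935 := ded_47_1 (flp_h L51008) L51003 L73678
theorem L73684 : sm gd N5935 = N8608 := rfl
theorem L73688 : sm gg N8608 = N6009 := ded_36_2 (flp_d L51581) (flp_g L51013) L73684
theorem L73691 : sm gi N5935 = N8609 := rfl
theorem L73696 : sm gg N8609 = N6010 := ded_51_1 (flp_i L51587) (flp_g L51013) L73691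
theorem L73698 : sm gd N5936 = N8610 := rfl
theorem L73705 : sm gg N5936 = N8611 := rfl
theorem L73709 : sm gc N8611 = N5941 := ded_30_1 (flp_g L51057) (flp_c L51019) L73705
theorem L73711 : sm ge N8611 = N5937 := ded_41_1 (flp_g L51022) L51015 L73705
theorem L73713 : sm gh N5936 = N8612 := rfl
theorem L73722 : sm gj N5937 = N8613 := rfl
theorem L73726 : sm gc N8613 = N5943 := ded_31_1 (flp_j L51071) (flp_c L51026) L73722
theorem L73731 : sm gh N5937 = N8614 := rfl
theorem L73735 : sm gc N8614 = N5944 := ded_32_1 (flp_h L51079) (flp_c L51026) L73731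
theorem L73741 : sm gd N5938 = N8615 := rfl
theorem L73745 : sm gf N8615 = N5939 := ded_35_2 (flp_d L51039) (flp_f L51037) L73741
theorem L73747 : sm gc N8615 = N6147 := ded_27_1 (flp_d L52743) L36612 (flp_d L35433) (flp_c L51035) L73741
theorem L73758 : sm ge N5939 = N8617 := rfl
theorem L73762 : sm gc N8617 = N6149 := ded_28_1 (flp_e L52759) (flp_c L51045) L73758
theorem L73764 : sm gg N8617 = N6018 := ded_41_2 (flp_e L51655) (flp_g L51043) L73758
theorem L73786 : sm gj N5941 = N8620 := rfl
theorem L73788 : sm ga N8620 = N5956 := ded_16_1 (flp_j L51167) (flp_a L51059) L73786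
theorem L73791 : sm ge N8620 = N5943 := ded_42_1 (flp_j L51071) (flp_e L51062) L73786
theorem L73793 : sm gh N5941 = N8621 := rfl
theorem L73801 : sm gd N5942 = N8622 := rfl
theorem L73803 : sm ga N8622 = N5958 := ded_12_1 (flp_d L51182) (flp_a L51066) L73801
theorem L73806 : sm ge N8622 = N6153 := ded_34_2 (flp_d L52794) L36647 (flp_d L35433) (flp_e L51068) L73801
theorem L73816 : sm gh N5943 = N8624 := rfl
theorem L73820 : sm gf N8624 = N6024 := ded_47_1 (flp_h L51707) (flp_f L51077) L73816
theorem L73822 : sm gj N8624 = N5944 := ded_52_1 (flp_h L51079) L51071 L73816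
theorem L73824 : sm gd N8624 = N6155 := ded_38_1 (flp_h L52810) L36655 (flp_h L35452) (flp_d L51075) L73816
theorem L73836 : sm gg N5946 = N8626 := rfl
theorem L73839 : sm gd N8626 = N5947 := ded_36_1 (flp_g L51102) L51097 L73836
theorem L73842 : sm gh N5946 = N8627 := rfl
theorem L73847 : sm gf N5947 = N8628 := rfl
theorem L73849 : sm gc N8628 = N5955 := ded_29_1 (flp_f L51159) (flp_c L51104) L73847
theorem L73851 : sm ge N8628 = N6028 := ded_40_1 (flp_f L51738) L35874 (flp_f L35464) (flp_e L51106) L73847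
theorem L73854 : sm gj N5947 = N8629 := rfl
theorem L73856 : sm gc N8629 = N5956 := ded_31_1 (flp_j L51167) (flp_c L51104) L73854
theorem L73860 : sm gh N5947 = N8630 := rfl
theorem L73866 : sm gg N8630 = N5948 := ded_50_1 (flp_h L51108) L51102 L73860
theorem L73868 : sm gd N5948 = N8631 := rfl
theorem L73886 : sm gd N5950 = N8634 := rfl
theorem L73888 : sm gf N8634 = N6034 := ded_35_2 (flp_d L51778) (flp_f L51126) L73886
theorem L73892 : sm gc N8634 = N6164 := ded_27_1 (flp_d L52886) L36713 (flp_d L35516) (flp_c L51124) L73886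
theorem L73895 : sm gi N5950 = N8635 := rfl
theorem L73899 : sm gf N8635 = N6035 := ded_48_1 (flp_i L51785) (flp_f L51126) L73895
theorem L73903 : sm ge N5951 = N8636 := rfl
theorem L73905 : sm gc N8636 = N6166 := ded_28_1 (flp_e L52904) (flp_c L51134) L73903
theorem L73922 : sm gi N5953 = N8639 := rfl
theorem L73929 : sm gg N8639 = N6039 := ded_51_1 (flp_i L51813) (flp_g L51147) L73922
theorem L73938 : sm gj N5955 = N8641 := rfl
theorem L73945 : sm gf N8641 = N5956 := ded_46_1 (flp_j L51167) L51159 L73938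
theorem L73947 : sm gh N5955 = N8642 := rfl
theorem L73949 : sm gb N8642 = N5963 := ded_25_1 (flp_h L51224) (flp_b L51161) L73947
theorem L73953 : sm gf N8642 = N5957 := ded_47_1 (flp_h L51174) L51159 L73947
theorem L73956 : sm gh N5956 = N8643 := rfl
theorem L73960 : sm ge N8643 = N5960 := ded_43_1 (flp_h L51197) (flp_e L51172) L73956
theorem L73962 : sm gj N8643 = N5957 := ded_52_1 (flp_h L51174) L51167 L73956
theorem L73964 : sm gd N5957 = N8644 := rfl
theorem L73968 : sm gg N8644 = N5958 := ded_36_2 (flp_d L51182) (flp_g L51180) L73964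
theorem L73970 : sm ge N8644 = N6172 := ded_34_2 (flp_d L52946) L36761 (flp_d L35516) (flp_e L51178) L73964
theorem L73973 : sm gi N5957 = N8645 := rfl
theorem L73979 : sm gg N8645 = N5959 := ded_51_1 (flp_i L51190) (flp_g L51180) L73973
theorem L73981 : sm gc N5958 = N8646 := rfl
theorem L73983 : sm ge N8646 = N6174 := ded_28_2 (flp_c L52964) (flp_e L51187) L73981
theorem L73987 : sm gi N5958 = N8647 := rfl
theorem L74006 : sm gg N5962 = N8649 := rfl
theorem L74012 : sm gh N5962 = N8650 := rfl
theorem L74016 : sm gf N8650 = N5964 := ded_47_1 (flp_h L51231) (flp_f L51222) L74012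
theorem L74018 : sm gj N8650 = N5963 := ded_52_1 (flp_h L51224) L51217 L74012
theorem L74020 : sm gd N5963 = N8651 := rfl
theorem L74027 : sm gi N5963 = N8652 := rfl
theorem L74034 : sm gd N5964 = N8653 := rfl
theorem L74036 : sm gj N8653 = N5965 := ded_37_2 (flp_d L51237) (flp_j L51235) L74034
theorem L74047 : sm gc N5965 = N8655 := rfl
theorem L74051 : sm gg N8655 = N5967 := ded_30_2 (flp_c L51250) (flp_g L51239) L74047
theorem L74054 : sm gi N5965 = N8656 := rfl
theorem L74060 : sm gg N8656 = N5968 := ded_51_1 (flp_i L51256) (flp_g L51239) L74054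
theorem L74062 : sm gb N5967 = N8657 := rfl
theorem L74064 : sm ge N8657 = N6181 := ded_21_2 (flp_b L53015) (flp_e L51252) L74062
theorem L74081 : sm ge N5970 = N8660 := rfl
theorem L74083 : sm gb N8660 = N5972 := ded_21_1 (flp_e L51285) (flp_b L51273) L74081
theorem L74086 : sm gi N8660 = N6006 := ded_44_2 (flp_e L51563) (flp_i L51277) L74081
theorem L74089 : sm gg N5970 = N8661 := rfl
theorem L74096 : sm gh N5970 = N8662 := rfl
theorem L74098 : sm gb N8662 = N5974 := ded_25_1 (flp_h L51304) (flp_b L51273) L74096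
theorem L74100 : sm gf N8662 = N5971 := ded_47_1 (flp_h L51279) L51271 L74096
theorem L74103 : sm gd N5971 = N8663 := rfl
theorem L74109 : sm gi N5971 = N8664 := rfl
theorem L74115 : sm gh N8664 = N6010 := ded_54_1 (flp_i L51587) (flp_h L35776) (flp_i L35575) L51279 L74109
theorem L74117 : sm gd N5972 = N8665 := rfl
theorem L74119 : sm ga N8665 = N5982 := ded_12_1 (flp_d L51374) (flp_a L51287) L74117
theorem L74123 : sm gi N8665 = N6011 := ded_39_2 (flp_d L51593) (flp_i L51292) L74117
theorem L74125 : sm gc N8665 = N6054 := ded_27_1 (flp_d L51934) L36032 (flp_d L35602) (flp_c L51289) L74117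
theorem L74128 : sm gg N5972 = N8666 := rfl
theorem L74132 : sm gc N8666 = N5977 := ded_30_1 (flp_g L51330) (flp_c L51289) L74128
theorem L74136 : sm gi N8666 = N6012 := ded_51_2 (flp_g L51602) (flp_i L51292) L74128
theorem L74138 : sm gh N5972 = N8667 := rfl
theorem L74140 : sm ga N8667 = N5984 := ded_17_1 (flp_h L51391) (flp_a L51287) L74138
theorem L74142 : sm gc N8667 = N5978 := ded_32_1 (flp_h L51340) (flp_c L51289) L74138
theorem L74148 : sm gj N5973 = N8668 := rfl
theorem L74150 : sm ga N8668 = N5985 := ded_16_1 (flp_j L51399) (flp_a L51297) L74148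
theorem L74152 : sm gc N8668 = N5979 := ded_31_1 (flp_j L51348) (flp_c L51299) L74148
theorem L74158 : sm gh N5973 = N8669 := rfl
theorem L74160 : sm ga N8669 = N5986 := ded_17_1 (flp_h L51407) (flp_a L51297) L74158
theorem L74164 : sm gg N8669 = N5974 := ded_50_1 (flp_h L51304) L51295 L74158
theorem L74166 : sm gd N5974 = N8670 := rfl
theorem L74175 : sm gi N5974 = N8671 := rfl
theorem L74184 : sm gh N8671 = N6017 := ded_54_1 (flp_i L51646) (flp_h L35797) (flp_i L35585) L51304 L74175
theorem L74186 : sm ge N5975 = N8672 := rfl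
theorem L74194 : sm gi N5975 = N8673 := rfl
theorem L74199 : sm gd N8673 = N5976 := ded_39_1 (flp_i L51320) L51313 L74194
theorem L74202 : sm gf N5977 = N8674 := rfl
theorem L74204 : sm ga N8674 = N5991 := ded_14_1 (flp_f L51441) (flp_a L51332) L74202
theorem L74206 : sm gd N8674 = N6061 := ded_35_1 (flp_f L52005) (flp_d L51334) L74202
theorem L74208 : sm gi N8674 = N6020 := ded_48_2 (flp_f L51673) (flp_i L51338) L74202
theorem L74211 : sm gj N5977 = N8675 := rfl
theorem L74213 : sm ga N8675 = N5992 := ded_16_1 (flp_j L51450) (flp_a L51332) L74211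
theorem L74219 : sm gi N8675 = N6021 := ded_53_2 (flp_j L51680) (flp_i L51338) L74211
theorem L74222 : sm gh N5977 = N8676 := rfl
theorem L74224 : sm ga N8676 = N5993 := ded_17_1 (flp_h L51461) (flp_a L51332) L74222
theorem L74228 : sm gg N8676 = N5978 := ded_50_1 (flp_h L51340) L51330 L74222
theorem L74230 : sm gd N5978 = N8677 := rfl
theorem L74232 : sm ga N8677 = N5994 := ded_12_1 (flp_d L51469) (flp_a L51342) L74230
theorem L74237 : sm gh N8677 = N6064 := ded_38_2 (flp_d L52031) (flp_h L36075) (flp_d L35602) L51340 L74230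
theorem L74239 : sm gi N5978 = N8678 := rfl
theorem L74247 : sm gh N8678 = N6023 := ded_54_1 (flp_i L51698) (flp_h L35830) (flp_i L35600) L51340 L74239
theorem L74266 : sm gg N5982 = N8681 := rfl
theorem L74268 : sm gc N8681 = N6066 := ded_30_1 (flp_g L52049) (flp_c L51380) L74266
theorem L74270 : sm gd N8681 = N5983 := ded_36_1 (flp_g L51383) L51374 L74266
theorem L74273 : sm gi N8681 = N6026 := ded_51_2 (flp_g L51724) (flp_i L51378) L74266
theorem L74275 : sm gh N5982 = N8682 := rfl
theorem L74282 : sm gf N5983 = N8683 := rfl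
theorem L74284 : sm gc N8683 = N5991 := ded_29_1 (flp_f L51441) (flp_c L51385) L74282
theorem L74286 : sm gi N8683 = N6028 := ded_48_2 (flp_f L51738) (flp_i L51389) L74282
theorem L74289 : sm gj N5983 = N8684 := rfl
theorem L74295 : sm gi N8684 = N6029 := ded_53_2 (flp_j L51743) (flp_i L51389) L74289
theorem L74298 : sm gh N5983 = N8685 := rfl
theorem L74306 : sm gd N5984 = N8686 := rfl
theorem L74320 : sm gh N5985 = N8688 := rfl
theorem L74322 : sm gc N8688 = N5996 := ded_32_1 (flp_h L51488) (flp_c L51401) L74320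
theorem L74325 : sm gj N8688 = N5986 := ded_52_1 (flp_h L51407) L51399 L74320
theorem L74327 : sm gd N5986 = N8689 := rfl
theorem L74333 : sm gi N5986 = N8690 := rfl
theorem L74339 : sm gh N8690 = N6035 := ded_54_1 (flp_i L51785) (flp_h L35890) (flp_i L35654) L51407 L74333
theorem L74346 : sm gi N5987 = N8692 := rfl
theorem L74351 : sm gf N8692 = N5990 := ded_48_1 (flp_i L51435) (flp_f L51415) L74346
theorem L74354 : sm gf N5989 = N8693 := rfl
theorem L74360 : sm gi N5989 = N8694 := rfl
theorem L74364 : sm ge N8694 = N5990 := ded_44_1 (flp_i L51435) L51429 L74360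
theorem L74367 : sm gh N5990 = N8695 := rfl
theorem L74371 : sm gd N8695 = N6040 := ded_38_1 (flp_h L51821) L35922 (flp_h L35674) (flp_d L51438) L74367
theorem L74374 : sm gj N5991 = N8696 := rfl
theorem L74376 : sm gb N8696 = N5998 := ded_24_1 (flp_j L51505) (flp_b L51443) L74374
theorem L74378 : sm gd N8696 = N6076 := ded_37_1 (flp_j L52132) (flp_d L51445) L74374
theorem L74384 : sm gh N5991 = N8697 := rfl
theorem L74386 : sm gb N8697 = N5999 := ded_25_1 (flp_h L51513) (flp_b L51443) L74384
theorem L74388 : sm gf N8697 = N5993 := ded_47_1 (flp_h L51461) L51441 L74384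
theorem L74391 : sm gh N5992 = N8698 := rfl
theorem L74393 : sm gb N8698 = N6000 := ded_25_1 (flp_h L51518) (flp_b L51452) L74391
theorem L74398 : sm gj N8698 = N5993 := ded_52_1 (flp_h L51461) L51450 L74391
theorem L74400 : sm gd N5993 = N8699 := rfl
theorem L74404 : sm gg N8699 = N5994 := ded_36_2 (flp_d L51469) (flp_g L51467) L74400
theorem L74419 : sm gc N5994 = N8701 := rfl
theorem L74424 : sm gh N8701 = N6080 := ded_32_2 (flp_c L52168) (flp_h L51476) L74419
theorem L74426 : sm gi N5994 = N8702 := rfl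
theorem L74430 : sm gd N8702 = N5995 := ded_39_1 (flp_i L51478) L51469 L74426
theorem L74446 : sm gg N5998 = N8704 := rfl
theorem L74448 : sm gd N8704 = N6081 := ded_36_1 (flp_g L52174) (flp_d L51507) L74446
theorem L74454 : sm gh N5998 = N8705 := rfl
theorem L74456 : sm gf N8705 = N6000 := ded_47_1 (flp_h L51518) (flp_f L51509) L74454
theorem L74458 : sm gj N8705 = N5999 := ded_52_1 (flp_h L51513) L51505 L74454
theorem L74460 : sm gd N5999 = N8706 := rfl
theorem L74462 : sm gf N8706 = N6001 := ded_35_2 (flp_d L51525) (flp_f L51515) L74460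
theorem L74465 : sm gh N8706 = N6083 := ded_38_2 (flp_d L52191) (flp_h L36219) (flp_d L35722) L51513 L74460
theorem L74474 : sm gd N6000 = N8708 := rfl
theorem L74477 : sm gj N8708 = N6001 := ded_37_2 (flp_d L51525) (flp_j L51523) L74474
theorem L74480 : sm gh N8708 = N6084 := ded_38_2 (flp_d L52197) (flp_h L36227) (flp_d L35729) L51518 L74474
theorem L74491 : sm gc N6001 = N8710 := rfl
theorem L74494 : sm gg N8710 = N6003 := ded_30_2 (flp_c L51540) (flp_g L51527) L74491
theorem L74496 : sm gh N8710 = N6085 := ded_32_2 (flp_c L52204) (flp_h L51530) L74491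
theorem L74498 : sm gi N6001 = N8711 := rfl
theorem L74506 : sm gb N6003 = N8712 := rfl
theorem L74513 : sm gi N6003 = N8713 := rfl
theorem L74515 : sm gc N8713 = N6004 := ded_33_1 (flp_i L51547) L51540 L74513
theorem L74521 : sm gd N6006 = N8714 := rfl
theorem L74523 : sm gb N8714 = N6011 := ded_20_1 (flp_d L51593) (flp_b L51565) L74521
theorem L74528 : sm gg N6006 = N8715 := rfl
theorem L74530 : sm gb N8715 = N6012 := ded_23_1 (flp_g L51602) (flp_b L51565) L74528
theorem L74534 : sm gh N6006 = N8716 := rfl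
theorem L74536 : sm gb N8716 = N6013 := ded_25_1 (flp_h L51610) (flp_b L51565) L74534
theorem L74542 : sm gj N6007 = N8717 := rfl
theorem L74548 : sm gh N6007 = N8718 := rfl
theorem L74552 : sm gg N8718 = N6008 := ded_50_1 (flp_h L51574) L51569 L74548
theorem L74554 : sm gd N6008 = N8719 := rfl
theorem L74558 : sm gf N8719 = N6009 := ded_35_2 (flp_d L51581) (flp_f L51578) L74554
theorem L74569 : sm gc N6009 = N8721 := rfl
theorem L74575 : sm ge N6009 = N8722 := rfl
theorem L74577 : sm gb N8722 = N6018 := ded_21_1 (flp_e L51655) (flp_b L51583) L74575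
theorem L74589 : sm gg N6011 = N8724 := rfl
theorem L74591 : sm ga N8724 = N6026 := ded_15_1 (flp_g L51724) (flp_a L51595) L74589
theorem L74593 : sm gc N8724 = N6090 := ded_30_1 (flp_g L52243) (flp_c L51599) L74589
theorem L74595 : sm gd N8724 = N6012 := ded_36_1 (flp_g L51602) L51593 L74589
theorem L74598 : sm gh N6011 = N8725 := rfl
theorem L74607 : sm gf N6012 = N8726 := rfl
theorem L74609 : sm ga N8726 = N6028 := ded_14_1 (flp_f L51738) (flp_a L51604) L74607
theorem L74611 : sm gc N8726 = N6020 := ded_29_1 (flp_f L51673) (flp_c L51606) L74607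
theorem L74614 : sm gj N6012 = N8727 := rfl
theorem L74618 : sm gc N8727 = N6021 := ded_31_1 (flp_j L51680) (flp_c L51606) L74614
theorem L74623 : sm gh N6012 = N8728 := rfl
theorem L74629 : sm ge N8728 = N6015 := ded_43_1 (flp_h L51628) (flp_e L51608) L74623
theorem L74631 : sm gg N8728 = N6013 := ded_50_1 (flp_h L51610) L51602 L74623
theorem L74633 : sm gd N6013 = N8729 := rfl
theorem L74640 : sm gi N6013 = N8730 := rfl
theorem L74646 : sm ge N8730 = N6017 := ded_44_1 (flp_i L51646) (flp_e L51616) L74640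
theorem L74659 : sm gd N6015 = N8732 := rfl
theorem L74665 : sm gc N8732 = N6192 := ded_27_1 (flp_d L53102) L36889 (flp_d L35852) (flp_c L51632) L74659
theorem L74668 : sm gi N6015 = N8733 := rfl
theorem L74672 : sm gc N8733 = N6025 := ded_33_1 (flp_i L51716) (flp_c L51632) L74668
theorem L74674 : sm gg N8733 = N6017 := ded_51_1 (flp_i L51646) (flp_g L51634) L74668
theorem L74695 : sm gf N6018 = N8736 := rfl
theorem L74697 : sm ga N8736 = N6038 := ded_14_1 (flp_f L51806) (flp_a L51657) L74695
theorem L74704 : sm gi N6018 = N8737 := rfl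
theorem L74711 : sm ge N8737 = N6019 := ded_44_1 (flp_i L51664) L51655 L74704
theorem L74714 : sm gh N6019 = N8738 := rfl
theorem L74722 : sm gj N6020 = N8739 := rfl
theorem L74724 : sm ga N8739 = N6041 := ded_16_1 (flp_j L51827) (flp_a L51675) L74722
theorem L74726 : sm gd N8739 = N6094 := ded_37_1 (flp_j L52277) (flp_d L51677) L74722
theorem L74728 : sm gf N8739 = N6021 := ded_46_1 (flp_j L51680) L51673 L74722
theorem L74730 : sm gh N6020 = N8740 := rfl
theorem L74732 : sm ga N8740 = N6042 := ded_17_1 (flp_h L51835) (flp_a L51675) L74730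
theorem L74734 : sm gf N8740 = N6022 := ded_47_1 (flp_h L51689) L51673 L74730
theorem L74738 : sm gh N6021 = N8741 := rfl
theorem L74766 : sm gf N6026 = N8744 := rfl
theorem L74768 : sm gc N8744 = N6095 := ded_29_1 (flp_f L52285) (flp_c L51726) L74766
theorem L74770 : sm gd N8744 = N6028 := ded_35_1 (flp_f L51738) (flp_d L51728) L74766
theorem L74773 : sm gj N6026 = N8745 := rfl
theorem L74775 : sm gc N8745 = N6096 := ded_31_1 (flp_j L52291) (flp_c L51726) L74773
theorem L74781 : sm gh N6026 = N8746 := rfl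
theorem L74788 : sm gd N6027 = N8747 := rfl
theorem L74793 : sm gh N8747 = N6031 := ded_38_2 (flp_d L51758) (flp_h L35876) L35863 L51731 L74788
theorem L74795 : sm gi N6027 = N8748 := rfl
theorem L74797 : sm gc N8748 = N6098 := ded_33_1 (flp_i L52305) (flp_c L51733) L74795
theorem L74802 : sm gj N6028 = N8749 := rfl
theorem L74806 : sm gf N8749 = N6029 := ded_46_1 (flp_j L51743) L51738 L74802
theorem L74808 : sm gh N6028 = N8750 := rfl
theorem L74815 : sm gh N6029 = N8751 := rfl
theorem L74819 : sm ge N8751 = N6033 := ded_43_1 (flp_h L51771) (flp_e L51747) L74815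
theorem L74824 : sm gd N6030 = N8752 := rfl
theorem L74829 : sm gi N6030 = N8753 := rfl
theorem L74833 : sm ge N8753 = N6035 := ded_44_1 (flp_i L51785) (flp_e L51754) L74829
theorem L74837 : sm ge N6031 = N8754 := rfl
theorem L74841 : sm gd N8754 = N6036 := ded_34_1 (flp_e L51791) (flp_d L35896) (flp_e L35880) L51758 L74837
theorem L74850 : sm gd N6033 = N8756 := rfl
theorem L74853 : sm gj N8756 = N6034 := ded_37_2 (flp_d L51778) (flp_j L51776) L74850
theorem L74855 : sm gc N8756 = N6200 := ded_27_1 (flp_d L53168) L36947 (flp_d L35966) (flp_c L51773) L74850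
theorem L74858 : sm gi N6033 = N8757 := rfl
theorem L74865 : sm ge N6034 = N8758 := rfl
theorem L74872 : sm gi N6034 = N8759 := rfl
theorem L74878 : sm gg N8759 = N6037 := ded_51_1 (flp_i L51797) (flp_g L51780) L74872
theorem L74880 : sm gf N6036 = N8760 := rfl
theorem L74886 : sm ge N8760 = N6038 := ded_40_1 (flp_f L51806) (flp_e L35911) (flp_f L35898) L51791 L74880
theorem L74888 : sm gi N6036 = N8761 := rfl
theorem L74895 : sm gh N6037 = N8762 := rfl
theorem L74903 : sm gg N6038 = N8763 := rfl
theorem L74909 : sm gi N6038 = N8764 := rfl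
theorem L74914 : sm gf N8764 = N6039 := ded_48_1 (flp_i L51813) L51806 L74909
theorem L74917 : sm gh N6039 = N8765 := rfl
theorem L74921 : sm ge N8765 = N6040 := ded_43_1 (flp_h L51821) (flp_e L51818) L74917
theorem L74974 : sm gd N6050 = N8772 := rfl
theorem L74976 : sm ga N8772 = N8772 := ded_12_1 (flp_d L74974) L51900 L74974
theorem L74977 : sm gb N8772 = N6054 := ded_20_1 (flp_d L51934) (flp_b L51901) L74974
theorem L74979 : sm gf N8772 = N8772 := ded_35_2 (flp_d L74974) L51906 L74974
theorem L74980 : sm gj N8772 = N8772 := ded_37_2 (flp_d L74974) L51903 L74974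
theorem L74981 : sm gi N8772 = N6087 := ded_39_2 (flp_d L52218) (flp_i L51904) L74974
theorem L74983 : sm ge N8772 = N8772 := ded_34_2 (flp_d L74974) (flp_e L51898) L36015 L51898 L74974
theorem L74984 : sm gg N6050 = N8773 := rfl
theorem L74986 : sm ga N8773 = N8773 := ded_15_1 (flp_g L74984) L51900 L74984
theorem L74987 : sm gb N8773 = N6055 := ded_23_1 (flp_g L51943) (flp_b L51901) L74984
theorem L74989 : sm ge N8773 = N6051 := ded_41_1 (flp_g L51907) L51898 L74984
theorem L74991 : sm gi N8773 = N6088 := ded_51_2 (flp_g L52226) (flp_i L51904) L74984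
theorem L74993 : sm gh N6050 = N8774 := rfl
theorem L74996 : sm gb N8774 = N6056 := ded_25_1 (flp_h L51953) (flp_b L51901) L74993
theorem L75003 : sm gj N6051 = N8775 := rfl
theorem L75005 : sm ga N8775 = N8775 := ded_16_1 (flp_j L75003) L51909 L75003
theorem L75006 : sm gb N8775 = N6057 := ded_24_1 (flp_j L51964) (flp_b L51910) L75003
theorem L75008 : sm gd N8775 = N8775 := ded_37_1 (flp_j L75003) L51912 L75003
theorem L75009 : sm gf N8775 = N8775 := ded_46_1 (flp_j L75003) L51915 L75003
theorem L75010 : sm gi N8775 = N6089 := ded_53_2 (flp_j L52234) (flp_i L51913) L75003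
theorem L75012 : sm gg N8775 = N8775 := ded_49_1 (flp_j L75003) (flp_g L51907) L36016 L51907 L75003
theorem L75013 : sm gh N6051 = N8776 := rfl
theorem L75019 : sm gg N8776 = N6052 := ded_50_1 (flp_h L51916) L51907 L75013
theorem L75022 : sm gd N6052 = N8777 := rfl
theorem L75027 : sm gf N8777 = N6053 := ded_35_2 (flp_d L51925) (flp_f L51921) L75022
theorem L75040 : sm ge N6053 = N8779 := rfl
theorem L75043 : sm gb N8779 = N6060 := ded_21_1 (flp_e L51995) (flp_b L51928) L75040
theorem L75050 : sm gg N6054 = N8780 := rfl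
theorem L75052 : sm ga N8780 = N6066 := ded_15_1 (flp_g L52049) (flp_a L51936) L75050
theorem L75054 : sm gd N8780 = N6055 := ded_36_1 (flp_g L51943) L51934 L75050
theorem L75056 : sm ge N8780 = N8780 := ded_41_1 (flp_g L75050) L51942 L75050
theorem L75057 : sm gi N8780 = N6090 := ded_51_2 (flp_g L52243) (flp_i L51940) L75050
theorem L75059 : sm gh N6054 = N8781 := rfl
theorem L75066 : sm gf N6055 = N8782 := rfl
theorem L75068 : sm ga N8782 = N6068 := ded_14_1 (flp_f L52063) (flp_a L51945) L75066
theorem L75070 : sm gc N8782 = N6061 := ded_29_1 (flp_f L52005) (flp_c L51947) L75066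
theorem L75072 : sm gi N8782 = N6092 := ded_48_2 (flp_f L52258) (flp_i L51951) L75066
theorem L75074 : sm ge N8782 = N8782 := ded_40_1 (flp_f L75066) L51949 L36047 (flp_e L51949) L75066
theorem L75075 : sm gg N8782 = N8782 := ded_45_2 (flp_f L75066) (flp_g L51943) L36037 L51943 L75066
theorem L75076 : sm gj N6055 = N8783 := rfl
theorem L75078 : sm ga N8783 = N6069 := ded_16_1 (flp_j L52072) (flp_a L51945) L75076
theorem L75080 : sm gc N8783 = N6062 := ded_31_1 (flp_j L52013) (flp_c L51947) L75076
theorem L75082 : sm ge N8783 = N6057 := ded_42_1 (flp_j L51964) (flp_e L51949) L75076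
theorem L75084 : sm gi N8783 = N6093 := ded_53_2 (flp_j L52267) (flp_i L51951) L75076
theorem L75086 : sm gg N8783 = N8783 := ded_49_1 (flp_j L75076) (flp_g L51943) L36034 L51943 L75076
theorem L75087 : sm gh N6055 = N8784 := rfl
theorem L75089 : sm ga N8784 = N6070 := ded_17_1 (flp_h L52082) (flp_a L51945) L75087
theorem L75091 : sm gc N8784 = N6063 := ded_32_1 (flp_h L52022) (flp_c L51947) L75087
theorem L75093 : sm ge N8784 = N6058 := ded_43_1 (flp_h L51975) (flp_e L51949) L75087
theorem L75095 : sm gg N8784 = N6056 := ded_50_1 (flp_h L51953) L51943 L75087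
theorem L75097 : sm gi N8784 = N8784 := ded_54_2 (flp_h L75087) L51951 L36280 (flp_i L51951) L75087
theorem L75098 : sm gd N6056 = N8785 := rfl
theorem L75100 : sm ga N8785 = N6071 := ded_12_1 (flp_d L52092) (flp_a L51955) L75098
theorem L75105 : sm gh N6057 = N8786 := rfl
theorem L75107 : sm ga N8786 = N6072 := ded_17_1 (flp_h L52098) (flp_a L51966) L75105
theorem L75109 : sm gc N8786 = N6065 := ded_32_1 (flp_h L52039) (flp_c L51968) L75105
theorem L75111 : sm gf N8786 = N8786 := ded_47_1 (flp_h L75105) L51971 L75105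
theorem L75112 : sm gg N8786 = N8786 := ded_50_1 (flp_h L75105) L51974 L75105
theorem L75113 : sm gj N8786 = N6058 := ded_52_1 (flp_h L51975) L51964 L75105
theorem L75115 : sm gi N8786 = N8786 := ded_54_2 (flp_h L75105) L51972 L36289 (flp_i L51972) L75105
theorem L75134 : sm gf N6060 = N8789 := rfl
theorem L75136 : sm ga N8789 = N6075 := ded_14_1 (flp_f L52124) (flp_a L51997) L75134
theorem L75143 : sm gj N6061 = N8790 := rfl
theorem L75145 : sm ga N8790 = N6076 := ded_16_1 (flp_j L52132) (flp_a L52007) L75143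
theorem L75148 : sm gf N8790 = N6062 := ded_46_1 (flp_j L52013) L52005 L75143
theorem L75150 : sm gi N8790 = N6094 := ded_53_2 (flp_j L52277) (flp_i L52009) L75143
theorem L75152 : sm gh N6061 = N8791 := rfl
theorem L75154 : sm ga N8791 = N6077 := ded_17_1 (flp_h L52141) (flp_a L52007) L75152
theorem L75157 : sm gf N8791 = N6063 := ded_47_1 (flp_h L52022) L52005 L75152
theorem L75161 : sm gh N6062 = N8792 := rfl
theorem L75163 : sm ga N8792 = N6078 := ded_17_1 (flp_h L52150) (flp_a L52015) L75161
theorem L75165 : sm ge N8792 = N6065 := ded_43_1 (flp_h L52039) (flp_e L52017) L75161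
theorem L75168 : sm gj N8792 = N6063 := ded_52_1 (flp_h L52022) L52013 L75161
theorem L75171 : sm gd N6063 = N8793 := rfl
theorem L75173 : sm ga N8793 = N6079 := ded_12_1 (flp_d L52160) (flp_a L52024) L75171
theorem L75179 : sm gc N6064 = N8794 := rfl
theorem L75181 : sm ga N8794 = N6080 := ded_11_1 (flp_c L52168) (flp_a L52033) L75179
theorem L75187 : sm gf N6066 = N8795 := rfl
theorem L75190 : sm gd N8795 = N6068 := ded_35_1 (flp_f L52063) (flp_d L52052) L75187
theorem L75192 : sm gi N8795 = N6095 := ded_48_2 (flp_f L52285) (flp_i L52055) L75187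
theorem L75195 : sm gj N6066 = N8796 := rfl
theorem L75198 : sm gd N8796 = N6069 := ded_37_1 (flp_j L52072) (flp_d L52052) L75195
theorem L75201 : sm gi N8796 = N6096 := ded_53_2 (flp_j L52291) (flp_i L52055) L75195
theorem L75204 : sm gh N6066 = N8797 := rfl
theorem L75208 : sm gg N8797 = N6067 := ded_50_1 (flp_h L52057) L52049 L75204
theorem L75210 : sm gd N6067 = N8798 := rfl
theorem L75215 : sm gh N8798 = N6071 := ded_38_2 (flp_d L52092) (flp_h L36120) L36103 L52057 L75210
theorem L75225 : sm gj N6068 = N8800 := rfl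
theorem L75230 : sm ge N8800 = N8800 := ded_42_1 (flp_j L75225) L52070 L75225
theorem L75231 : sm gf N8800 = N6069 := ded_46_1 (flp_j L52072) L52063 L75225
theorem L75233 : sm gi N8800 = N6099 := ded_53_2 (flp_j L52312) (flp_i L52068) L75225
theorem L75235 : sm gh N6068 = N8801 := rfl
theorem L75237 : sm gb N8801 = N8801 := ded_25_1 (flp_h L75235) L52065 L75235
theorem L75238 : sm gc N8801 = N6077 := ded_32_1 (flp_h L52141) (flp_c L52066) L75235
theorem L75240 : sm ge N8801 = N8801 := ded_43_1 (flp_h L75235) L52070 L75235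
theorem L75241 : sm gf N8801 = N6070 := ded_47_1 (flp_h L52082) L52063 L75235
theorem L75243 : sm gg N8801 = N8801 := ded_50_1 (flp_h L75235) L52071 L75235
theorem L75244 : sm gi N8801 = N8801 := ded_54_2 (flp_h L75235) L52068 L36324 (flp_i L52068) L75235
theorem L75245 : sm gh N6069 = N8802 := rfl
theorem L75247 : sm gb N8802 = N8802 := ded_25_1 (flp_h L75245) L52074 L75245
theorem L75248 : sm gc N8802 = N6078 := ded_32_1 (flp_h L52150) (flp_c L52075) L75245
theorem L75250 : sm ge N8802 = N6072 := ded_43_1 (flp_h L52098) (flp_e L52077) L75245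
theorem L75252 : sm gg N8802 = N8802 := ded_50_1 (flp_h L75245) L52081 L75245
theorem L75253 : sm gj N8802 = N6070 := ded_52_1 (flp_h L52082) L52072 L75245
theorem L75255 : sm gi N8802 = N8802 := ded_54_2 (flp_h L75245) L52079 L36334 (flp_i L52079) L75245
theorem L75256 : sm gd N6070 = N8803 := rfl
theorem L75259 : sm gg N8803 = N6071 := ded_36_2 (flp_d L52092) (flp_g L52089) L75256
theorem L75276 : sm gd N6072 = N8806 := rfl
theorem L75278 : sm gb N8806 = N8806 := ded_20_1 (flp_d L75276) L52100 L75276
theorem L75279 : sm gf N8806 = N8806 := ded_35_2 (flp_d L75276) L52103 L75276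
theorem L75280 : sm gg N8806 = N8806 := ded_36_2 (flp_d L75276) L52104 L75276
theorem L75281 : sm gj N8806 = N6073 := ded_37_2 (flp_d L52108) (flp_j L52105) L75276
theorem L75283 : sm gi N8806 = N8806 := ded_39_2 (flp_d L75276) L52107 L75276
theorem L75284 : sm gc N8806 = N8806 := ded_27_1 (flp_d L75276) L52101 L36209 (flp_c L52101) L75276
theorem L75285 : sm gh N8806 = N8806 := ded_38_2 (flp_d L75276) (flp_h L52098) L36135 L52098 L75276
theorem L75286 : sm ge N6073 = N8807 := rfl
theorem L75290 : sm gg N8807 = N6074 := ded_41_2 (flp_e L52117) (flp_g L52112) L75286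
theorem L75294 : sm gf N6074 = N8808 := rfl
theorem L75301 : sm ge N8808 = N6075 := ded_40_1 (flp_f L52124) (flp_e L36158) (flp_f L36152) L52117 L75294
theorem L75303 : sm gg N6075 = N8809 := rfl
theorem L75310 : sm gf N8809 = N8809 := ded_45_1 (flp_g L75303) (flp_f L52124) L36162 L52124 L75303
theorem L75311 : sm gg N6076 = N8810 := rfl
theorem L75313 : sm gb N8810 = N6081 := ded_23_1 (flp_g L52174) (flp_b L52134) L75311
theorem L75320 : sm gh N6076 = N8811 := rfl
theorem L75322 : sm gb N8811 = N6082 := ded_25_1 (flp_h L52182) (flp_b L52134) L75320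
theorem L75325 : sm gf N8811 = N6078 := ded_47_1 (flp_h L52150) (flp_f L52137) L75320
theorem L75327 : sm gj N8811 = N6077 := ded_52_1 (flp_h L52141) L52132 L75320
theorem L75330 : sm gd N6077 = N8812 := rfl
theorem L75334 : sm gf N8812 = N6079 := ded_35_2 (flp_d L52160) (flp_f L52146) L75330
theorem L75338 : sm gd N6078 = N8813 := rfl
theorem L75343 : sm gj N8813 = N6079 := ded_37_2 (flp_d L52160) (flp_j L52157) L75338
theorem L75347 : sm gc N6079 = N8814 := rfl
theorem L75350 : sm gg N8814 = N6080 := ded_30_2 (flp_c L52168) (flp_g L52164) L75347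
theorem L75361 : sm gh N6081 = N8816 := rfl
theorem L75366 : sm gg N8816 = N6082 := ded_50_1 (flp_h L52182) L52174 L75361
theorem L75370 : sm gd N6082 = N8817 := rfl
theorem L75372 : sm gf N8817 = N6084 := ded_35_2 (flp_d L52197) (flp_f L52186) L75370
theorem L75374 : sm gj N8817 = N6083 := ded_37_2 (flp_d L52191) (flp_j L52188) L75370
theorem L75377 : sm gc N6083 = N8818 := rfl
theorem L75379 : sm gf N8818 = N6085 := ded_29_2 (flp_c L52204) (flp_f L52193) L75377
theorem L75384 : sm ge N6083 = N8819 := rfl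
theorem L75390 : sm gc N6084 = N8820 := rfl
theorem L75394 : sm gj N8820 = N6085 := ded_31_2 (flp_c L52204) (flp_j L52200) L75390
theorem L75398 : sm gb N6085 = N8821 := rfl
theorem L75402 : sm gg N8821 = N6086 := ded_23_2 (flp_b L52211) (flp_g L52207) L75398
theorem L75405 : sm ga N6086 = N8822 := rfl
theorem L75412 : sm gc N6087 = N8823 := rfl
theorem L75414 : sm ga N8823 = N8823 := ded_11_1 (flp_c L75412) L52220 L75412
theorem L75415 : sm ge N8823 = N8823 := ded_28_2 (flp_c L75412) L52225 L75412
theorem L75416 : sm gf N8823 = N8823 := ded_29_2 (flp_c L75412) L52223 L75412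
theorem L75417 : sm gj N8823 = N8823 := ded_31_2 (flp_c L75412) L52224 L75412
theorem L75418 : sm gg N6087 = N8824 := rfl
theorem L75420 : sm ga N8824 = N8824 := ded_15_1 (flp_g L75418) L52220 L75418
theorem L75421 : sm gb N8824 = N6090 := ded_23_1 (flp_g L52243) (flp_b L52221) L75418
theorem L75423 : sm gd N8824 = N6088 := ded_36_1 (flp_g L52226) L52218 L75418
theorem L75425 : sm ge N8824 = N8824 := ded_41_1 (flp_g L75418) L52225 L75418
theorem L75426 : sm gh N6087 = N8825 := rfl
theorem L75435 : sm gf N6088 = N8826 := rfl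
theorem L75437 : sm ga N8826 = N8826 := ded_14_1 (flp_f L75435) L52228 L75435
theorem L75438 : sm gb N8826 = N6092 := ded_22_1 (flp_f L52258) (flp_b L52229) L75435
theorem L75440 : sm gh N8826 = N8826 := ded_47_2 (flp_f L75435) L52233 L75435
theorem L75441 : sm ge N8826 = N8826 := ded_40_1 (flp_f L75435) L52231 L36264 (flp_e L52231) L75435
theorem L75442 : sm gg N8826 = N8826 := ded_45_2 (flp_f L75435) (flp_g L52226) L36256 L52226 L75435
theorem L75443 : sm gj N6088 = N8827 := rfl
theorem L75445 : sm ga N8827 = N8827 := ded_16_1 (flp_j L75443) L52228 L75443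
theorem L75446 : sm gb N8827 = N6093 := ded_24_1 (flp_j L52267) (flp_b L52229) L75443
theorem L75448 : sm ge N8827 = N6089 := ded_42_1 (flp_j L52234) (flp_e L52231) L75443
theorem L75450 : sm gh N8827 = N8827 := ded_52_2 (flp_j L75443) L52233 L75443
theorem L75451 : sm gg N8827 = N8827 := ded_49_1 (flp_j L75443) (flp_g L52226) L36254 L52226 L75443
theorem L75452 : sm gf N6090 = N8828 := rfl
theorem L75454 : sm ga N8828 = N6095 := ded_14_1 (flp_f L52285) (flp_a L52245) L75452
theorem L75456 : sm gd N8828 = N6092 := ded_35_1 (flp_f L52258) (flp_d L52247) L75452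
theorem L75459 : sm gj N6090 = N8829 := rfl
theorem L75461 : sm ga N8829 = N6096 := ded_16_1 (flp_j L52291) (flp_a L52245) L75459
theorem L75463 : sm gd N8829 = N6093 := ded_37_1 (flp_j L52267) (flp_d L52247) L75459
theorem L75467 : sm gh N6090 = N8830 := rfl
theorem L75469 : sm ga N8830 = N6097 := ded_17_1 (flp_h L52298) (flp_a L52245) L75467
theorem L75483 : sm gj N6092 = N8832 := rfl
theorem L75487 : sm gc N8832 = N6094 := ded_31_1 (flp_j L52277) (flp_c L52262) L75483
theorem L75490 : sm gf N8832 = N6093 := ded_46_1 (flp_j L52267) L52258 L75483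
theorem L75493 : sm gg N6094 = N8833 := rfl
theorem L75495 : sm ga N8833 = N6100 := ded_15_1 (flp_g L52321) (flp_a L52279) L75493
theorem L75501 : sm ge N6095 = N8834 := rfl
theorem L75507 : sm gj N6095 = N8835 := rfl
theorem L75510 : sm gd N8835 = N6099 := ded_37_1 (flp_j L52312) (flp_d L52288) L75507
theorem L75512 : sm gf N8835 = N6096 := ded_46_1 (flp_j L52291) L52285 L75507
theorem L75521 : sm gh N6096 = N8837 := rfl
theorem L75526 : sm gj N8837 = N6097 := ded_52_1 (flp_h L52298) L52291 L75521
theorem L75529 : sm gi N6097 = N8838 := rfl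
theorem L75534 : sm gg N8838 = N6098 := ded_51_1 (flp_i L52305) (flp_g L52302) L75529
theorem L75545 : sm ge N6101 = N8840 := rfl
theorem L75550 : sm gj N8840 = N6137 := ded_42_2 (flp_e L52652) (flp_j L52335) L75545
theorem L75553 : sm gf N8840 = N6210 := ded_40_2 (flp_e L53243) (flp_f L37012) (flp_e L36354) L52329 L75545
theorem L75563 : sm gh N6101 = N8842 := rfl
theorem L75566 : sm gb N8842 = N6105 := ded_25_1 (flp_h L52368) (flp_b L52332) L75563
theorem L75568 : sm gf N8842 = N6102 := ded_47_1 (flp_h L52338) L52329 L75563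
theorem L75570 : sm gj N8842 = N6139 := ded_52_1 (flp_h L52669) (flp_j L52335) L75563
theorem L75572 : sm gd N6102 = N8843 := rfl
theorem L75578 : sm gj N8843 = N6140 := ded_37_2 (flp_d L52676) (flp_j L52346) L75572
theorem L75581 : sm gi N6102 = N8844 := rfl
theorem L75592 : sm gd N6103 = N8845 := rfl
theorem L75594 : sm ga N8845 = N6113 := ded_12_1 (flp_d L52442) (flp_a L52350) L75592
theorem L75596 : sm gf N8845 = N6215 := ded_35_2 (flp_d L53289) (flp_f L52357) L75592
theorem L75598 : sm gj N8845 = N6142 := ded_37_2 (flp_d L52694) (flp_j L52354) L75592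
theorem L75603 : sm gg N6103 = N8846 := rfl
theorem L75605 : sm ga N8846 = N6114 := ded_15_1 (flp_g L52452) (flp_a L52350) L75603
theorem L75607 : sm gc N8846 = N6108 := ded_30_1 (flp_g L52398) (flp_c L52352) L75603
theorem L75609 : sm ge N8846 = N6104 := ded_41_1 (flp_g L52359) L52348 L75603
theorem L75612 : sm gh N6103 = N8847 := rfl
theorem L75622 : sm gj N8847 = N6144 := ded_52_1 (flp_h L52713) (flp_j L52354) L75612
theorem L75624 : sm gj N6104 = N8848 := rfl
theorem L75626 : sm ga N8848 = N6116 := ded_16_1 (flp_j L52471) (flp_a L52361) L75624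
theorem L75628 : sm gc N8848 = N6110 := ded_31_1 (flp_j L52416) (flp_c L52363) L75624
theorem L75633 : sm gg N8848 = N6145 := ded_49_1 (flp_j L52723) (flp_g L36598) (flp_j L36368) L52359 L75624
theorem L75635 : sm gh N6104 = N8849 := rfl
theorem L75637 : sm ga N8849 = N6117 := ded_17_1 (flp_h L52481) (flp_a L52361) L75635
theorem L75642 : sm gg N8849 = N6105 := ded_50_1 (flp_h L52368) L52359 L75635
theorem L75644 : sm gd N6105 = N8850 := rfl
theorem L75648 : sm gf N8850 = N6106 := ded_35_2 (flp_d L52378) (flp_f L52374) L75644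
theorem L75650 : sm gj N8850 = N6147 := ded_37_2 (flp_d L52743) (flp_j L52376) L75644
theorem L75664 : sm ge N6106 = N8852 := rfl
theorem L75669 : sm gj N8852 = N6149 := ded_42_2 (flp_e L52759) (flp_j L52383) L75664
theorem L75672 : sm gd N8852 = N6221 := ded_34_1 (flp_e L53351) (flp_d L37060) (flp_e L36377) L52378 L75664
theorem L75683 : sm gf N6108 = N8854 := rfl
theorem L75692 : sm gj N6108 = N8855 := rfl
theorem L75697 : sm ge N8855 = N6110 := ded_42_1 (flp_j L52416) (flp_e L52403) L75692
theorem L75700 : sm gg N8855 = N6151 := ded_49_1 (flp_j L52776) (flp_g L36634) (flp_j L36386) L52398 L75692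
theorem L75702 : sm gh N6108 = N8856 := rfl
theorem L75708 : sm gg N8856 = N6109 := ded_50_1 (flp_h L52406) L52398 L75702
theorem L75710 : sm gd N6109 = N8857 := rfl
theorem L75714 : sm gf N8857 = N6225 := ded_35_2 (flp_d L53388) (flp_f L52412) L75710
theorem L75716 : sm gj N8857 = N6153 := ded_37_2 (flp_d L52794) (flp_j L52414) L75710
theorem L75719 : sm gi N6109 = N8858 := rfl
theorem L75730 : sm gh N6110 = N8859 := rfl
theorem L75747 : sm gg N6113 = N8861 := rfl
theorem L75751 : sm gd N8861 = N6114 := ded_36_1 (flp_g L52452) L52442 L75747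
theorem L75755 : sm gh N6113 = N8862 := rfl
theorem L75760 : sm gf N8862 = N6229 := ded_47_1 (flp_h L53425) (flp_f L52445) L75755
theorem L75762 : sm gj N8862 = N6158 := ded_52_1 (flp_h L52836) (flp_j L52447) L75755
theorem L75764 : sm gf N6114 = N8863 := rfl
theorem L75773 : sm gj N6114 = N8864 := rfl
theorem L75776 : sm gc N8864 = N6123 := ded_31_1 (flp_j L52533) (flp_c L52455) L75773
theorem L75781 : sm gg N8864 = N6159 := ded_49_1 (flp_j L52843) (flp_g L36683) (flp_j L36433) L52452 L75773
theorem L75783 : sm gh N6114 = N8865 := rfl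
theorem L75792 : sm gd N6115 = N8866 := rfl
theorem L75795 : sm gf N8866 = N6232 := ded_35_2 (flp_d L53451) (flp_f L52467) L75792
theorem L75797 : sm gj N8866 = N6161 := ded_37_2 (flp_d L52862) (flp_j L52469) L75792
theorem L75811 : sm gh N6116 = N8868 := rfl
theorem L75817 : sm gg N8868 = N6163 := ded_50_1 (flp_h L52877) (flp_g L52479) L75811
theorem L75819 : sm gj N8868 = N6117 := ded_52_1 (flp_h L52481) L52471 L75811
theorem L75821 : sm gd N6117 = N8869 := rfl
theorem L75825 : sm gg N8869 = N6118 := ded_36_2 (flp_d L52489) (flp_g L52487) L75821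
theorem L75828 : sm gi N6117 = N8870 := rfl
theorem L75831 : sm gc N8870 = N6128 := ded_33_1 (flp_i L52580) (flp_c L52484) L75828
theorem L75837 : sm ge N6118 = N8871 := rfl
theorem L75840 : sm gj N8871 = N6166 := ded_42_2 (flp_e L52904) (flp_j L52494) L75837
theorem L75852 : sm gf N6120 = N8873 := rfl
theorem L75855 : sm gd N8873 = N6238 := ded_35_1 (flp_f L53504) (flp_d L52514) L75852
theorem L75857 : sm gj N8873 = N6168 := ded_46_2 (flp_f L52915) (flp_j L52511) L75852
theorem L75860 : sm gi N6120 = N8874 := rfl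
theorem L75863 : sm gd N8874 = N6239 := ded_39_1 (flp_i L53512) (flp_d L52514) L75860
theorem L75868 : sm gj N8874 = N6169 := ded_53_1 (flp_i L52921) (flp_j L52511) L75860
theorem L75878 : sm gj N6122 = N8876 := rfl
theorem L75884 : sm gf N8876 = N6123 := ded_46_1 (flp_j L52533) L52524 L75878
theorem L75888 : sm gh N6122 = N8877 := rfl
theorem L75893 : sm gf N8877 = N6124 := ded_47_1 (flp_h L52543) L52524 L75888
theorem L75895 : sm gg N8877 = N6241 := ded_50_1 (flp_h L53531) (flp_g L52531) L75888
theorem L75897 : sm gh N6123 = N8878 := rfl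
theorem L75903 : sm gg N8878 = N6171 := ded_50_1 (flp_h L52937) (flp_g L52541) L75897
theorem L75905 : sm gj N8878 = N6124 := ded_52_1 (flp_h L52543) L52533 L75897
theorem L75907 : sm gd N6124 = N8879 := rfl
theorem L75911 : sm gg N8879 = N6125 := ded_36_2 (flp_d L52551) (flp_g L52549) L75907
theorem L75923 : sm gc N6125 = N8881 := rfl
theorem L75925 : sm gf N8881 = N6244 := ded_29_2 (flp_c L53558) (flp_f L52555) L75923
theorem L75930 : sm gi N6125 = N8882 := rfl
theorem L75940 : sm gi N6127 = N8883 := rfl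
theorem L75947 : sm gj N8883 = N6128 := ded_53_1 (flp_i L52580) (flp_j L52578) L75940
theorem L75950 : sm gh N6129 = N8884 := rfl
theorem L75954 : sm gf N8884 = N6131 := ded_47_1 (flp_h L52605) (flp_f L52593) L75950
theorem L75957 : sm gj N8884 = N6130 := ded_52_1 (flp_h L52597) L52588 L75950
theorem L75959 : sm gd N6130 = N8885 := rfl
theorem L75963 : sm gg N8885 = N6246 := ded_36_2 (flp_d L53573) (flp_g L52603) L75959
theorem L75966 : sm gi N6130 = N8886 := rfl
theorem L75972 : sm gg N8886 = N6247 := ded_51_1 (flp_i L53579) (flp_g L52603) L75966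
theorem L75975 : sm gd N6131 = N8887 := rfl
theorem L75977 : sm gg N8887 = N6177 := ded_36_2 (flp_d L52986) (flp_g L52610) L75975
theorem L75979 : sm gj N8887 = N6132 := ded_37_2 (flp_d L52614) (flp_j L52612) L75975
theorem L75982 : sm gi N6131 = N8888 := rfl
theorem L75985 : sm ge N8888 = N6136 := ded_44_1 (flp_i L52643) (flp_e L52608) L75982
theorem L75987 : sm gg N8888 = N6178 := ded_51_1 (flp_i L52992) (flp_g L52610) L75982
theorem L75992 : sm gc N6132 = N8889 := rfl
theorem L75994 : sm gg N8889 = N6134 := ded_30_2 (flp_c L52627) (flp_g L52616) L75992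
theorem L76004 : sm gb N6134 = N8891 := rfl
theorem L76009 : sm gj N8891 = N6181 := ded_24_2 (flp_b L53015) (flp_j L52631) L76004
theorem L76029 : sm gd N6137 = N8894 := rfl
theorem L76034 : sm gf N8894 = N6253 := ded_35_2 (flp_d L53625) (flp_f L52658) L76029
theorem L76038 : sm gg N6137 = N8895 := rfl
theorem L76047 : sm gh N6137 = N8896 := rfl
theorem L76052 : sm ge N8896 = N6139 := ded_43_1 (flp_h L52669) L52652 L76047
theorem L76056 : sm gj N6138 = N8897 := rfl
theorem L76062 : sm gf N8897 = N6184 := ded_46_1 (flp_j L53034) (flp_f L52667) L76056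
theorem L76065 : sm gh N6138 = N8898 := rfl
theorem L76068 : sm gb N8898 = N6146 := ded_25_1 (flp_h L52733) (flp_b L52663) L76065
theorem L76072 : sm gg N8898 = N6139 := ded_50_1 (flp_h L52669) L52660 L76065
theorem L76074 : sm gd N6139 = N8899 := rfl
theorem L76079 : sm gf N8899 = N6140 := ded_35_2 (flp_d L52676) (flp_f L52674) L76074
theorem L76096 : sm ge N6140 = N8902 := rfl
theorem L76101 : sm gg N8902 = N6189 := ded_41_2 (flp_e L53075) (flp_g L52681) L76096
theorem L76104 : sm gd N8902 = N6258 := ded_34_1 (flp_e L53669) (flp_d L37286) (flp_e L36585) L52676 L76096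
theorem L76115 : sm gg N6142 = N8904 := rfl
theorem L76120 : sm gd N8904 = N6143 := ded_36_1 (flp_g L52703) L52694 L76115
theorem L76125 : sm gh N6142 = N8905 := rfl
theorem L76133 : sm gj N6143 = N8906 := rfl
theorem L76135 : sm ga N8906 = N6159 := ded_16_1 (flp_j L52843) (flp_a L52705) L76133
theorem L76137 : sm gc N8906 = N6151 := ded_31_1 (flp_j L52776) (flp_c L52707) L76133
theorem L76139 : sm ge N8906 = N6145 := ded_42_1 (flp_j L52723) (flp_e L52709) L76133
theorem L76143 : sm gh N6143 = N8907 := rfl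
theorem L76147 : sm gc N8907 = N6152 := ded_32_1 (flp_h L52785) (flp_c L52707) L76143
theorem L76154 : sm gd N6144 = N8908 := rfl
theorem L76156 : sm ga N8908 = N6161 := ded_12_1 (flp_d L52862) (flp_a L52715) L76154
theorem L76158 : sm gf N8908 = N6261 := ded_35_2 (flp_d L53695) (flp_f L52721) L76154
theorem L76171 : sm gh N6145 = N8910 := rfl
theorem L76179 : sm gj N8910 = N6146 := ded_52_1 (flp_h L52733) L52723 L76171
theorem L76181 : sm gd N6146 = N8911 := rfl
theorem L76183 : sm ga N8911 = N6164 := ded_12_1 (flp_d L52886) (flp_a L52735) L76181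
theorem L76185 : sm gf N8911 = N6192 := ded_35_2 (flp_d L53102) (flp_f L52739) L76181
theorem L76190 : sm gi N6146 = N8912 := rfl
theorem L76198 : sm gg N8912 = N6148 := ded_51_1 (flp_i L52750) (flp_g L52741) L76190
theorem L76201 : sm ge N6147 = N8913 := rfl
theorem L76214 : sm gf N6149 = N8915 := rfl
theorem L76216 : sm ga N8915 = N6168 := ded_14_1 (flp_f L52915) (flp_a L52761) L76214
theorem L76221 : sm gi N6149 = N8916 := rfl
theorem L76225 : sm gd N8916 = N6266 := ded_39_1 (flp_i L53735) (flp_d L52766) L76221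
theorem L76231 : sm gh N6150 = N8917 := rfl
theorem L76235 : sm gg N8917 = N6198 := ded_50_1 (flp_h L53152) (flp_g L52774) L76231
theorem L76239 : sm gh N6151 = N8918 := rfl
theorem L76248 : sm gd N6152 = N8919 := rfl
theorem L76253 : sm gg N8919 = N6153 := ded_36_2 (flp_d L52794) (flp_g L52792) L76248
theorem L76266 : sm gc N6153 = N8921 := rfl
theorem L76290 : sm gj N6157 = N8924 := rfl
theorem L76294 : sm gd N8924 = N6159 := ded_37_1 (flp_j L52843) (flp_d L52831) L76290
theorem L76299 : sm gh N6157 = N8925 := rfl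
theorem L76305 : sm gg N8925 = N6158 := ded_50_1 (flp_h L52836) L52827 L76299
theorem L76307 : sm gd N6158 = N8926 := rfl
theorem L76310 : sm gf N8926 = N6270 := ded_35_2 (flp_d L53769) (flp_f L52841) L76307
theorem L76312 : sm gh N8926 = N6161 := ded_38_2 (flp_d L52862) (flp_h L36692) L36675 L52836 L76307
theorem L76314 : sm gi N6158 = N8927 := rfl
theorem L76322 : sm gh N6159 = N8928 := rfl
theorem L76330 : sm gj N8928 = N6160 := ded_52_1 (flp_h L52852) L52843 L76322
theorem L76332 : sm gd N6160 = N8929 := rfl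
theorem L76336 : sm gg N8929 = N6161 := ded_36_2 (flp_d L52862) (flp_g L52860) L76332
theorem L76349 : sm gc N6161 = N8931 := rfl
theorem L76351 : sm gf N8931 = N6272 := ded_29_2 (flp_c L53783) (flp_f L52865) L76349
theorem L76353 : sm gd N8931 = N6174 := ded_27_2 (flp_c L52964) (flp_d L36766) (flp_c L36695) L52862 L76349
theorem L76355 : sm ge N6161 = N8932 := rfl
theorem L76358 : sm gd N8932 = N6166 := ded_34_1 (flp_e L52904) (flp_d L36719) (flp_e L36697) L52862 L76355
theorem L76360 : sm gi N6161 = N8933 := rfl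
theorem L76367 : sm gd N6163 = N8934 := rfl
theorem L76370 : sm gf N8934 = N6200 := ded_35_2 (flp_d L53168) (flp_f L52882) L76367
theorem L76372 : sm gj N8934 = N6164 := ded_37_2 (flp_d L52886) (flp_j L52884) L76367
theorem L76385 : sm ge N6164 = N8936 := rfl
theorem L76388 : sm gg N8936 = N6166 := ded_41_2 (flp_e L52904) (flp_g L52891) L76385
theorem L76391 : sm gi N6164 = N8937 := rfl
theorem L76400 : sm gf N6166 = N8938 := rfl
theorem L76406 : sm gi N6166 = N8939 := rfl
theorem L76418 : sm gg N6168 = N8941 := rfl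
theorem L76421 : sm gd N8941 = N6278 := ded_36_1 (flp_g L53825) (flp_d L52918) L76418
theorem L76424 : sm gf N8941 = N6207 := ded_45_1 (flp_g L53222) (flp_f L36982) (flp_g L36736) L52915 L76418
theorem L76426 : sm gi N6168 = N8942 := rfl
theorem L76433 : sm gh N6169 = N8943 := rfl
theorem L76438 : sm gg N8943 = N6209 := ded_50_1 (flp_h L53236) (flp_g L52928) L76433
theorem L76441 : sm gd N6171 = N8944 := rfl
theorem L76459 : sm gc N6172 = N8946 := rfl
theorem L76462 : sm gg N8946 = N6174 := ded_30_2 (flp_c L52964) (flp_g L52951) L76459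
theorem L76465 : sm gi N6172 = N8947 := rfl
theorem L76474 : sm gb N6174 = N8948 := rfl
theorem L76476 : sm gf N8948 = N6281 := ded_22_2 (flp_b L53849) (flp_f L52966) L76474
theorem L76495 : sm gc N6177 = N8951 := rfl
theorem L76498 : sm gj N8951 = N6179 := ded_31_2 (flp_c L53001) (flp_j L52989) L76495
theorem L76509 : sm gb N6179 = N8953 := rfl
theorem L76513 : sm gg N8953 = N6181 := ded_23_2 (flp_b L53015) (flp_g L53004) L76509
theorem L76531 : sm ga N6181 = N8956 := rfl
theorem L76537 : sm gi N6181 = N8957 := rfl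
theorem L76542 : sm gf N8957 = N6285 := ded_48_1 (flp_i L53876) (flp_f L53018) L76537
theorem L76544 : sm gh N6182 = N8958 := rfl
theorem L76546 : sm gc N8958 = N6183 := ded_32_1 (flp_h L53028) (flp_c L53023) L76544
theorem L76551 : sm gh N6184 = N8959 := rfl
theorem L76558 : sm gj N8959 = N6185 := ded_52_1 (flp_h L53043) L53034 L76551
theorem L76560 : sm gd N6185 = N8960 := rfl
theorem L76563 : sm gb N8960 = N6192 := ded_20_1 (flp_d L53102) (flp_b L53046) L76560
theorem L76565 : sm gg N8960 = N6186 := ded_36_2 (flp_d L53051) (flp_g L53049) L76560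
theorem L76568 : sm gi N6185 = N8961 := rfl
theorem L76574 : sm gg N8961 = N6187 := ded_51_1 (flp_i L53060) (flp_g L53049) L76568
theorem L76577 : sm gc N6186 = N8962 := rfl
theorem L76615 : sm gf N6189 = N8967 := rfl
theorem L76618 : sm gb N8967 = N6196 := ded_22_1 (flp_f L53135) (flp_b L53078) L76615
theorem L76620 : sm gd N8967 = N6289 := ded_35_1 (flp_f L53907) (flp_d L53082) L76615
theorem L76624 : sm gi N6189 = N8968 := rfl
theorem L76642 : sm gd N6191 = N8970 := rfl
theorem L76644 : sm ga N8970 = N6200 := ded_12_1 (flp_d L53168) (flp_a L53094) L76642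
theorem L76647 : sm gj N8970 = N6192 := ded_37_2 (flp_d L53102) (flp_j L53100) L76642
theorem L76661 : sm ge N6192 = N8972 := rfl
theorem L76665 : sm gg N8972 = N6194 := ded_41_2 (flp_e L53119) (flp_g L53106) L76661
theorem L76677 : sm gf N6194 = N8974 := rfl
theorem L76684 : sm ge N8974 = N6196 := ded_40_1 (flp_f L53135) (flp_e L36913) (flp_f L36898) L53119 L76677
theorem L76686 : sm gi N6194 = N8975 := rfl
theorem L76694 : sm gh N6195 = N8976 := rfl
theorem L76698 : sm gf N8976 = N6198 := ded_47_1 (flp_h L53152) (flp_f L53132) L76694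
theorem L76710 : sm gi N6196 = N8978 := rfl
theorem L76727 : sm ge N6200 = N8980 := rfl
theorem L76735 : sm gi N6200 = N8981 := rfl
theorem L76786 : sm gj N6207 = N8988 := rfl
theorem L76793 : sm gi N6207 = N8989 := rfl
theorem L76796 : sm gd N8989 = N6296 := ded_39_1 (flp_i L53969) (flp_d L53225) L76793
theorem L76807 : sm gd N6209 = N8991 := rfl
theorem L76813 : sm gh N8991 = N6298 := ded_38_2 (flp_d L53986) (flp_h L37532) (flp_d L36992) L53236 L76807
theorem L76815 : sm gd N6210 = N8992 := rfl
theorem L76820 : sm gj N8992 = N6253 := ded_37_2 (flp_d L53625) (flp_j L53248) L76815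
theorem L76823 : sm ge N8992 = N6299 := ded_34_2 (flp_d L53993) (flp_e L37541) (flp_d L37017) L53243 L76815
theorem L76825 : sm gg N6210 = N8993 := rfl
theorem L76828 : sm gb N8993 = N6216 := ded_23_1 (flp_g L53299) (flp_b L53246) L76825
theorem L76834 : sm gh N6210 = N8994 := rfl
theorem L76841 : sm gj N8994 = N6254 := ded_52_1 (flp_h L53634) (flp_j L53248) L76834
theorem L76843 : sm gh N6211 = N8995 := rfl
theorem L76849 : sm gg N8995 = N6212 := ded_50_1 (flp_h L53261) L53251 L76843
theorem L76852 : sm gd N6212 = N8996 := rfl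
theorem L76859 : sm gj N8996 = N6255 := ded_37_2 (flp_d L53642) (flp_j L53268) L76852
theorem L76861 : sm gh N8996 = N6303 := ded_38_2 (flp_d L54033) (flp_h L37560) (flp_d L37017) L53261 L76852
theorem L76873 : sm gc N6213 = N8998 := rfl
theorem L76877 : sm gj N8998 = N6257 := ded_31_2 (flp_c L53661) (flp_j L53276) L76873
theorem L76879 : sm gh N8998 = N6305 := ded_32_2 (flp_c L54053) (flp_h L53278) L76873
theorem L76882 : sm ge N6213 = N8999 := rfl
theorem L76885 : sm gb N8999 = N6221 := ded_21_1 (flp_e L53351) (flp_b L53273) L76882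
theorem L76890 : sm gh N8999 = N6306 := ded_43_2 (flp_e L54061) (flp_h L53278) L76882
theorem L76902 : sm gg N6215 = N9001 := rfl
theorem L76907 : sm gd N9001 = N6216 := ded_36_1 (flp_g L53299) L53289 L76902
theorem L76909 : sm ge N9001 = N6308 := ded_41_1 (flp_g L54080) (flp_e L53297) L76902
theorem L76913 : sm gh N6215 = N9002 := rfl
theorem L76920 : sm gj N9002 = N6260 := ded_52_1 (flp_h L53687) (flp_j L53293) L76913
theorem L76922 : sm gf N6216 = N9003 := rfl
theorem L76931 : sm gh N6216 = N9004 := rfl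
theorem L76939 : sm gg N9004 = N6217 := ded_50_1 (flp_h L53309) L53299 L76931
theorem L76942 : sm gd N6217 = N9005 := rfl
theorem L76946 : sm gj N9005 = N6261 := ded_37_2 (flp_d L53695) (flp_j L53317) L76942
theorem L76959 : sm gd N6218 = N9007 := rfl
theorem L76964 : sm gg N9007 = N6219 := ded_36_2 (flp_d L53329) (flp_g L53326) L76959
theorem L76968 : sm gh N9007 = N6314 := ded_38_2 (flp_d L54137) (flp_h L37619) (flp_d L37045) L53319 L76959
theorem L76981 : sm ge N6219 = N9009 := rfl
theorem L76986 : sm gj N9009 = N6263 := ded_42_2 (flp_e L53710) (flp_j L53335) L76981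
theorem L76988 : sm gh N9009 = N6316 := ded_43_2 (flp_e L54157) (flp_h L53338) L76981
theorem L76990 : sm gi N6219 = N9010 := rfl
theorem L76999 : sm gj N9010 = N6264 := ded_53_1 (flp_i L53718) (flp_j L53335) L76990
theorem L77001 : sm gf N6221 = N9011 := rfl
theorem L77003 : sm ga N9011 = N6238 := ded_14_1 (flp_f L53504) (flp_a L53353) L77001
theorem L77006 : sm gj N9011 = N6265 := ded_46_2 (flp_f L53728) (flp_j L53357) L77001
theorem L77008 : sm gh N9011 = N6318 := ded_47_2 (flp_f L54175) (flp_h L53359) L77001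
theorem L77010 : sm gi N6221 = N9012 := rfl
theorem L77020 : sm gh N6222 = N9013 := rfl
theorem L77026 : sm gj N9013 = N6267 := ded_52_1 (flp_h L53744) (flp_j L53369) L77020
theorem L77029 : sm gi N9013 = N6320 := ded_54_2 (flp_h L54194) (flp_i L37658) (flp_h L37068) L53361 L77020
theorem L77031 : sm gh N6223 = N9014 := rfl
theorem L77033 : sm ga N9014 = N6241 := ded_17_1 (flp_h L53531) (flp_a L53373) L77031
theorem L77036 : sm gf N9014 = N6224 := ded_47_1 (flp_h L53379) L53371 L77031
theorem L77039 : sm gd N6224 = N9015 := rfl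
theorem L77043 : sm gg N9015 = N6225 := ded_36_2 (flp_d L53388) (flp_g L53385) L77039
theorem L77058 : sm gc N6225 = N9017 := rfl
theorem L77063 : sm gj N9017 = N6268 := ded_31_2 (flp_c L53754) (flp_j L53392) L77058
theorem L77075 : sm gf N6228 = N9019 := rfl
theorem L77079 : sm gd N9019 = N6230 := ded_35_1 (flp_f L53433) (flp_d L53419) L77075
theorem L77083 : sm gh N6228 = N9020 := rfl
theorem L77089 : sm gg N9020 = N6229 := ded_50_1 (flp_h L53425) L53415 L77083
theorem L77092 : sm gd N6229 = N9021 := rfl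
theorem L77095 : sm gj N9021 = N6270 := ded_37_2 (flp_d L53769) (flp_j L53431) L77092
theorem L77097 : sm gh N9021 = N6232 := ded_38_2 (flp_d L53451) (flp_h L37134) L37116 L53425 L77092
theorem L77108 : sm gh N6230 = N9023 := rfl
theorem L77114 : sm gf N9023 = N6231 := ded_47_1 (flp_h L53441) L53433 L77108
theorem L77117 : sm gd N6231 = N9024 := rfl
theorem L77120 : sm gg N9024 = N6232 := ded_36_2 (flp_d L53451) (flp_g L53448) L77117
theorem L77134 : sm gc N6232 = N9026 := rfl
theorem L77136 : sm gj N9026 = N6272 := ded_31_2 (flp_c L53783) (flp_j L53454) L77134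
theorem L77140 : sm ge N6232 = N9027 := rfl
theorem L77143 : sm gj N9027 = N6273 := ded_42_2 (flp_e L53788) (flp_j L53454) L77140
theorem L77145 : sm gd N9027 = N6236 := ded_34_1 (flp_e L53486) (flp_d L37152) (flp_e L37139) L53451 L77140
theorem L77154 : sm ge N6234 = N9029 := rfl
theorem L77158 : sm gg N9029 = N6236 := ded_41_2 (flp_e L53486) (flp_g L53470) L77154
theorem L77161 : sm gh N9029 = N6336 := ded_43_2 (flp_e L54335) (flp_h L53474) L77154
theorem L77173 : sm gf N6236 = N9031 := rfl
theorem L77179 : sm gh N9031 = N6338 := ded_47_2 (flp_f L54352) (flp_h L53492) L77173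
theorem L77183 : sm gi N6236 = N9032 := rfl
theorem L77189 : sm gj N9032 = N6276 := ded_53_1 (flp_i L53808) (flp_j L53490) L77183
theorem L77202 : sm gg N6238 = N9034 := rfl
theorem L77206 : sm gh N9034 = N6341 := ded_50_2 (flp_g L54377) (flp_h L53510) L77202
theorem L77209 : sm gi N6238 = N9035 := rfl
theorem L77215 : sm gj N9035 = N6279 := ded_53_1 (flp_i L53833) (flp_j L53508) L77209
theorem L77217 : sm gh N6239 = N9036 := rfl
theorem L77226 : sm gi N9036 = N6343 := ded_54_2 (flp_h L54392) (flp_i L37812) (flp_h L37179) L53512 L77217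
theorem L77228 : sm gd N6241 = N9037 := rfl
theorem L77230 : sm gb N9037 = N6246 := ded_20_1 (flp_d L53573) (flp_b L53533) L77228
theorem L77232 : sm gf N9037 = N6242 := ded_35_2 (flp_d L53539) (flp_f L53536) L77228
theorem L77245 : sm gc N6242 = N9039 := rfl
theorem L77248 : sm gg N9039 = N6244 := ded_30_2 (flp_c L53558) (flp_g L53543) L77245
theorem L77262 : sm gb N6244 = N9041 := rfl
theorem L77265 : sm gj N9041 = N6281 := ded_24_2 (flp_b L53849) (flp_j L53561) L77262
theorem L77286 : sm gc N6246 = N9044 := rfl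
theorem L77288 : sm gf N9044 = N6248 := ded_29_2 (flp_c L53587) (flp_f L53575) L77286
theorem L77293 : sm ge N6246 = N9045 := rfl
theorem L77306 : sm gb N6248 = N9047 := rfl
theorem L77310 : sm gg N9047 = N6250 := ded_23_2 (flp_b L53603) (flp_g L53590) L77306
theorem L77314 : sm gi N6248 = N9048 := rfl
theorem L77338 : sm gi N6250 = N9051 := rfl
theorem L77344 : sm gj N9051 = N6285 := ded_53_1 (flp_i L53876) (flp_j L53607) L77338
theorem L77346 : sm gh N6251 = N9052 := rfl
theorem L77348 : sm gc N9052 = N6252 := ded_32_1 (flp_h L53618) (flp_c L53612) L77346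
theorem L77354 : sm gc N6253 = N9053 := rfl
theorem L77362 : sm gh N6253 = N9054 := rfl
theorem L77367 : sm ge N9054 = N6361 := ded_43_1 (flp_h L54553) (flp_e L53632) L77362
theorem L77370 : sm gd N6254 = N9055 := rfl
theorem L77385 : sm gc N6255 = N9057 := rfl
theorem L77391 : sm gh N9057 = N6364 := ded_32_2 (flp_c L54578) (flp_h L53650) L77385
theorem L77394 : sm ge N6255 = N9058 := rfl
theorem L77400 : sm gh N9058 = N6365 := ded_43_2 (flp_e L54586) (flp_h L53650) L77394
theorem L77402 : sm gi N6255 = N9059 := rfl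
theorem L77412 : sm ge N6257 = N9060 := rfl
theorem L77420 : sm gh N9060 = N6367 := ded_43_2 (flp_e L54602) (flp_h L53666) L77412
theorem L77430 : sm gf N6258 = N9062 := rfl
theorem L77435 : sm gh N9062 = N6369 := ded_47_2 (flp_f L54619) (flp_h L53676) L77430
theorem L77437 : sm gi N6258 = N9063 := rfl
theorem L77456 : sm gd N6260 = N9065 := rfl
theorem L77458 : sm ga N9065 = N6270 := ded_12_1 (flp_d L53769) (flp_a L53689) L77456
theorem L77461 : sm gh N9065 = N6261 := ded_38_2 (flp_d L53695) (flp_h L37312) L37303 L53687 L77456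
theorem L77463 : sm gi N6260 = N9066 := rfl
theorem L77472 : sm gc N6261 = N9067 := rfl
theorem L77479 : sm ge N6261 = N9068 := rfl
theorem L77484 : sm gd N9068 = N6263 := ded_34_1 (flp_e L53710) (flp_d L37321) (flp_e L37318) L53695 L77479
theorem L77486 : sm gi N6261 = N9069 := rfl
theorem L77493 : sm gf N6263 = N9070 := rfl
theorem L77498 : sm gh N9070 = N6377 := ded_47_2 (flp_f L54682) (flp_h L53716) L77493
theorem L77502 : sm gi N6263 = N9071 := rfl
theorem L77521 : sm gg N6265 = N9073 := rfl
theorem L77526 : sm gh N9073 = N6380 := ded_50_2 (flp_g L54706) (flp_h L53733) L77521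
theorem L77530 : sm gi N6265 = N9074 := rfl
theorem L77537 : sm gh N6266 = N9075 := rfl
theorem L77546 : sm gi N9075 = N6382 := ded_54_2 (flp_h L54722) (flp_i L38044) (flp_h L37348) L53735 L77537
theorem L77548 : sm gb N6268 = N9076 := rfl
theorem L77569 : sm gc N6270 = N9079 := rfl
theorem L77572 : sm gh N9079 = N6272 := ded_32_2 (flp_c L53783) (flp_h L53773) L77569
theorem L77575 : sm ge N6270 = N9080 := rfl
theorem L77579 : sm gh N9080 = N6273 := ded_43_2 (flp_e L53788) (flp_h L53773) L77575
theorem L77581 : sm gd N9080 = N6387 := ded_34_1 (flp_e L54764) (flp_d L38080) (flp_e L37378) L53769 L77575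
theorem L77589 : sm gb N6272 = N9082 := rfl
theorem L77591 : sm gd N9082 = N6281 := ded_20_2 (flp_b L53849) (flp_d L53786) L77589
theorem L77595 : sm ge N6272 = N9083 := rfl
theorem L77608 : sm gf N6273 = N9085 := rfl
theorem L77611 : sm gd N9085 = N6275 := ded_35_1 (flp_f L53800) (flp_d L53792) L77608
theorem L77626 : sm gg N6275 = N9088 := rfl
theorem L77632 : sm gh N9088 = N6395 := ded_50_2 (flp_g L54818) (flp_h L53804) L77626
theorem L77635 : sm gi N6275 = N9089 := rfl
theorem L77643 : sm gh N6276 = N9090 := rfl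
theorem L77650 : sm gi N9090 = N6397 := ded_54_2 (flp_h L54833) (flp_i L38119) (flp_h L37399) L53808 L77643
theorem L77652 : sm gj N6278 = N9091 := rfl
theorem L77658 : sm gh N9091 = N6398 := ded_52_2 (flp_j L54840) (flp_h L53829) L77652
theorem L77660 : sm gi N6278 = N9092 := rfl
theorem L77668 : sm gh N6279 = N9093 := rfl
theorem L77674 : sm gi N9093 = N6400 := ded_54_2 (flp_h L54856) (flp_i L38141) (flp_h L37414) L53833 L77668
theorem L77691 : sm gi N6281 = N9096 := rfl
theorem L77713 : sm gh N6285 = N9099 := rfl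
theorem L77715 : sm gb N9099 = N6286 := ded_25_1 (flp_h L53883) (flp_b L53878) L77713
theorem L77720 : sm gd N6286 = N9100 := rfl
theorem L77731 : sm gf N6287 = N9102 := rfl
theorem L77738 : sm gh N9102 = N6409 := ded_47_2 (flp_f L54926) (flp_h L53897) L77731
theorem L77741 : sm gi N6287 = N9103 := rfl
theorem L77760 : sm gg N6289 = N9105 := rfl
theorem L77766 : sm gh N9105 = N6412 := ded_50_2 (flp_g L54951) (flp_h L53913) L77760
theorem L77768 : sm gi N6289 = N9106 := rfl
theorem L77787 : sm gj N6292 = N9108 := rfl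
theorem L77793 : sm gh N9108 = N6415 := ded_52_2 (flp_j L54976) (flp_h L53940) L77787
theorem L77796 : sm gi N6292 = N9109 := rfl
theorem L77831 : sm gh N6296 = N9113 := rfl
theorem L77838 : sm gi N9113 = N6420 := ded_54_2 (flp_h L55018) (flp_i L38278) (flp_h L37522) L53969 L77831
theorem L77855 : sm gc N6299 = N9116 := rfl
theorem L77859 : sm gj N9116 = N6360 := ded_31_2 (flp_c L54545) (flp_j L53999) L77855
theorem L77864 : sm gg N6299 = N9117 := rfl
theorem L77867 : sm gb N9117 = N6308 := ded_23_1 (flp_g L54080) (flp_b L53996) L77864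
theorem L77869 : sm gd N9117 = N6300 := ded_36_1 (flp_g L54002) L53993 L77864
theorem L77873 : sm gh N6299 = N9118 := rfl
theorem L77876 : sm gb N9118 = N6309 := ded_25_1 (flp_h L54089) (flp_b L53996) L77873
theorem L77879 : sm gj N9118 = N6361 := ded_52_1 (flp_h L54553) (flp_j L53999) L77873
theorem L77881 : sm gf N6300 = N9119 := rfl
theorem L77884 : sm gb N9119 = N6310 := ded_22_1 (flp_f L54097) (flp_b L54005) L77881
theorem L77891 : sm gh N6300 = N9120 := rfl
theorem L77894 : sm gb N9120 = N6311 := ded_25_1 (flp_h L54107) (flp_b L54005) L77891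
theorem L77902 : sm gd N6301 = N9121 := rfl
theorem L77908 : sm gj N9121 = N6362 := ded_37_2 (flp_d L54560) (flp_j L54021) L77902
theorem L77922 : sm gd N6302 = N9123 := rfl
theorem L77925 : sm gb N9123 = N6314 := ded_20_1 (flp_d L54137) (flp_b L54026) L77922
theorem L77928 : sm gg N9123 = N6303 := ded_36_2 (flp_d L54033) (flp_g L54030) L77922
theorem L77942 : sm gc N6303 = N9125 := rfl
theorem L77945 : sm gf N9125 = N6305 := ded_29_2 (flp_c L54053) (flp_f L54038) L77942
theorem L77947 : sm gj N9125 = N6364 := ded_31_2 (flp_c L54578) (flp_j L54040) L77942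
theorem L77951 : sm ge N6303 = N9126 := rfl
theorem L77956 : sm gj N9126 = N6365 := ded_42_2 (flp_e L54586) (flp_j L54040) L77951
theorem L77969 : sm ge N6305 = N9128 := rfl
theorem L77976 : sm gj N9128 = N6367 := ded_42_2 (flp_e L54602) (flp_j L54057) L77969
theorem L77978 : sm gi N6305 = N9129 := rfl
theorem L77988 : sm gf N6306 = N9130 := rfl
theorem L77994 : sm gj N9130 = N6369 := ded_46_2 (flp_f L54619) (flp_j L54067) L77988
theorem L77996 : sm gi N6306 = N9131 := rfl
theorem L78005 : sm gj N9131 = N6370 := ded_53_1 (flp_i L54625) (flp_j L54067) L77996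
theorem L78016 : sm gf N6308 = N9133 := rfl
theorem L78018 : sm ga N9133 = N6326 := ded_14_1 (flp_f L54254) (flp_a L54082) L78016
theorem L78021 : sm gd N9133 = N6310 := ded_35_1 (flp_f L54097) (flp_d L54085) L78016
theorem L78026 : sm gh N6308 = N9134 := rfl
theorem L78031 : sm gg N9134 = N6309 := ded_50_1 (flp_h L54089) L54080 L78026
theorem L78034 : sm gd N6309 = N9135 := rfl
theorem L78036 : sm ga N9135 = N6328 := ded_12_1 (flp_d L54270) (flp_a L54091) L78034
theorem L78039 : sm gj N9135 = N6372 := ded_37_2 (flp_d L54643) (flp_j L54095) L78034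
theorem L78041 : sm gh N9135 = N6312 := ded_38_2 (flp_d L54118) (flp_h L37608) L37589 L54089 L78034
theorem L78052 : sm gh N6310 = N9137 := rfl
theorem L78054 : sm ga N9137 = N6330 := ded_17_1 (flp_h L54286) (flp_a L54099) L78052
theorem L78056 : sm gc N9137 = N6321 := ded_32_1 (flp_h L54203) (flp_c L54101) L78052
theorem L78059 : sm gf N9137 = N6311 := ded_47_1 (flp_h L54107) L54097 L78052
theorem L78063 : sm gd N6311 = N9138 := rfl
theorem L78067 : sm gg N9138 = N6312 := ded_36_2 (flp_d L54118) (flp_g L54115) L78063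
theorem L78082 : sm gc N6312 = N9140 := rfl
theorem L78087 : sm gj N9140 = N6374 := ded_31_2 (flp_c L54659) (flp_j L54123) L78082
theorem L78089 : sm gd N9140 = N6324 := ded_27_2 (flp_c L54234) (flp_d L37688) (flp_c L37612) L54118 L78082
theorem L78091 : sm ge N6312 = N9141 := rfl
theorem L78095 : sm gj N9141 = N6375 := ded_42_2 (flp_e L54667) (flp_j L54123) L78091
theorem L78108 : sm ge N6314 = N9143 := rfl
theorem L78113 : sm gg N9143 = N6316 := ded_41_2 (flp_e L54157) (flp_g L54142) L78108
theorem L78127 : sm gf N6316 = N9145 := rfl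
theorem L78134 : sm ge N9145 = N6318 := ded_40_1 (flp_f L54175) (flp_e L37649) (flp_f L37633) L54157 L78127
theorem L78136 : sm gi N6316 = N9146 := rfl
theorem L78138 : sm ga N9146 = N6339 := ded_18_1 (flp_i L54360) (flp_a L54159) L78136
theorem L78155 : sm gg N6318 = N9148 := rfl
theorem L78162 : sm gi N6318 = N9149 := rfl
theorem L78168 : sm gf N9149 = N6319 := ded_48_1 (flp_i L54183) L54175 L78162
theorem L78172 : sm gh N6319 = N9150 := rfl
theorem L78180 : sm gj N9150 = N6382 := ded_52_1 (flp_h L54722) (flp_j L54192) L78172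
theorem L78182 : sm gd N6321 = N9151 := rfl
theorem L78184 : sm ga N9151 = N6344 := ded_12_1 (flp_d L54401) (flp_a L54205) L78182
theorem L78187 : sm gf N9151 = N6322 := ded_35_2 (flp_d L54213) (flp_f L54209) L78182
theorem L78203 : sm gc N6322 = N9153 := rfl
theorem L78205 : sm ga N9153 = N6346 := ded_11_1 (flp_c L54420) (flp_a L54215) L78203
theorem L78208 : sm gg N9153 = N6324 := ded_30_2 (flp_c L54234) (flp_g L54218) L78203
theorem L78212 : sm gi N6322 = N9154 := rfl
theorem L78220 : sm gg N9154 = N6325 := ded_51_1 (flp_i L54243) (flp_g L54218) L78212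
theorem L78223 : sm gb N6324 = N9155 := rfl
theorem L78227 : sm gj N9155 = N6383 := ded_24_2 (flp_b L54731) (flp_j L54240) L78223
theorem L78231 : sm gi N6324 = N9156 := rfl
theorem L78239 : sm gj N9156 = N6384 := ded_53_1 (flp_i L54738) (flp_j L54240) L78231
theorem L78252 : sm ge N6326 = N9158 := rfl
theorem L78260 : sm gh N6326 = N9159 := rfl
theorem L78268 : sm gd N6327 = N9160 := rfl
theorem L78271 : sm gg N9160 = N6328 := ded_36_2 (flp_d L54270) (flp_g L54267) L78268
theorem L78274 : sm gh N9160 = N6331 := ded_38_2 (flp_d L54296) (flp_h L37744) (flp_d L37724) L54263 L78268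
theorem L78284 : sm gc N6328 = N9162 := rfl
theorem L78287 : sm gj N9162 = N6386 := ded_31_2 (flp_c L54757) (flp_j L54274) L78284
theorem L78289 : sm gh N9162 = N6333 := ded_32_2 (flp_c L54313) (flp_h L54276) L78284
theorem L78292 : sm ge N6328 = N9163 := rfl
theorem L78295 : sm gj N9163 = N6387 := ded_42_2 (flp_e L54764) (flp_j L54274) L78292
theorem L78297 : sm gh N9163 = N6334 := ded_43_2 (flp_e L54320) (flp_h L54276) L78292
theorem L78307 : sm gd N6330 = N9165 := rfl
theorem L78310 : sm gf N9165 = N6331 := ded_35_2 (flp_d L54296) (flp_f L54292) L78307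
theorem L78325 : sm gc N6331 = N9167 := rfl
theorem L78327 : sm gg N9167 = N6333 := ded_30_2 (flp_c L54313) (flp_g L54299) L78325
theorem L78340 : sm gi N6331 = N9169 := rfl
theorem L78345 : sm gg N9169 = N6335 := ded_51_1 (flp_i L54327) (flp_g L54299) L78340
theorem L78348 : sm gb N6333 = N9170 := rfl
theorem L78353 : sm gj N9170 = N6389 := ded_24_2 (flp_b L54777) (flp_j L54316) L78348
theorem L78356 : sm ge N6333 = N9171 := rfl
theorem L78360 : sm gj N9171 = N6390 := ded_42_2 (flp_e L54784) (flp_j L54316) L78356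
theorem L78363 : sm gi N6333 = N9172 := rfl
theorem L78367 : sm gd N9172 = N6349 := ded_39_1 (flp_i L54446) (flp_d L54318) L78363
theorem L78372 : sm gf N6334 = N9173 := rfl
theorem L78375 : sm gd N9173 = N6338 := ded_35_1 (flp_f L54352) (flp_d L54325) L78372
theorem L78377 : sm gj N9173 = N6392 := ded_46_2 (flp_f L54798) (flp_j L54323) L78372
theorem L78380 : sm gi N6334 = N9174 := rfl
theorem L78383 : sm gd N9174 = N6339 := ded_39_1 (flp_i L54360) (flp_d L54325) L78380
theorem L78387 : sm gj N9174 = N6393 := ded_53_1 (flp_i L54804) (flp_j L54323) L78380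
theorem L78396 : sm gf N6336 = N9176 := rfl
theorem L78420 : sm gg N6338 = N9179 := rfl
theorem L78426 : sm gi N6338 = N9180 := rfl
theorem L78430 : sm ge N9180 = N6342 := ded_44_1 (flp_i L54383) (flp_e L54358) L78426
theorem L78432 : sm gf N9180 = N6339 := ded_48_1 (flp_i L54360) L54352 L78426
theorem L78434 : sm gj N9180 = N6396 := ded_53_1 (flp_i L54825) (flp_j L54356) L78426
theorem L78436 : sm gh N6339 = N9181 := rfl
theorem L78444 : sm gj N6341 = N9182 := rfl
theorem L78450 : sm gg N9182 = N6398 := ded_49_1 (flp_j L54840) (flp_g L38134) (flp_j L37810) L54377 L78444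
theorem L78452 : sm gi N6341 = N9183 := rfl
theorem L78460 : sm gh N6342 = N9184 := rfl
theorem L78468 : sm gd N6343 = N9185 := rfl
theorem L78476 : sm gc N6344 = N9186 := rfl
theorem L78478 : sm gf N9186 = N6346 := ded_29_2 (flp_c L54420) (flp_f L54405) L78476
theorem L78483 : sm ge N6344 = N9187 := rfl
theorem L78485 : sm gb N9187 = N6352 := ded_21_1 (flp_e L54473) (flp_b L54403) L78483
theorem L78492 : sm gi N6344 = N9188 := rfl
theorem L78494 : sm gb N9188 = N6353 := ded_26_1 (flp_i L54481) (flp_b L54403) L78492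
theorem L78496 : sm gd N9188 = N6345 := ded_39_1 (flp_i L54410) L54401 L78492
theorem L78502 : sm gb N6346 = N9189 := rfl
theorem L78511 : sm gi N6346 = N9190 := rfl
theorem L78529 : sm ga N6348 = N9192 := rfl
theorem L78548 : sm gh N6349 = N9194 := rfl
theorem L78554 : sm gj N9194 = N6404 := ded_52_1 (flp_h L54886) (flp_j L54452) L78548
theorem L78557 : sm gb N6351 = N9195 := rfl
theorem L78560 : sm gf N9195 = N6354 := ded_22_2 (flp_b L54490) (flp_f L54467) L78557
theorem L78565 : sm ge N6351 = N9196 := rfl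
theorem L78567 : sm ga N9196 = N9196 := ded_13_1 (flp_e L78565) L54466 L78565
theorem L78568 : sm gc N9196 = N6352 := ded_28_1 (flp_e L54473) L54464 L78565
theorem L78570 : sm gg N9196 = N9196 := ded_41_2 (flp_e L78565) L54469 L78565
theorem L78571 : sm gj N9196 = N9196 := ded_42_2 (flp_e L78565) L54470 L78565
theorem L78572 : sm gh N9196 = N9196 := ded_43_2 (flp_e L78565) L54471 L78565
theorem L78573 : sm gf N9196 = N9196 := ded_40_2 (flp_e L78565) L54467 L37896 (flp_f L54467) L78565
theorem L78574 : sm gi N6351 = N9197 := rfl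
theorem L78580 : sm gf N9197 = N6355 := ded_48_1 (flp_i L54498) (flp_f L54467) L78574
theorem L78584 : sm gi N6352 = N9198 := rfl
theorem L78602 : sm ga N6354 = N9200 := rfl
theorem L78606 : sm gg N9200 = N6357 := ded_15_2 (flp_a L54517) (flp_g L54494) L78602
theorem L78620 : sm gh N6355 = N9202 := rfl
theorem L78626 : sm gg N9202 = N6359 := ded_50_1 (flp_h L54535) (flp_g L54505) L78620
theorem L78630 : sm gi N6357 = N9203 := rfl
theorem L78638 : sm gj N9203 = N6405 := ded_53_1 (flp_i L54894) (flp_j L54522) L78630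
theorem L78658 : sm gh N6360 = N9206 := rfl
theorem L78662 : sm gc N9206 = N6361 := ded_32_1 (flp_h L54553) L54545 L78658
theorem L78666 : sm gd N6361 = N9207 := rfl
theorem L78673 : sm gh N9207 = N6362 := ded_38_2 (flp_d L54560) (flp_h L37946) L37938 L54553 L78666
theorem L78683 : sm gc N6362 = N9209 := rfl
theorem L78689 : sm ge N6362 = N9210 := rfl
theorem L78695 : sm gd N9210 = N6365 := ded_34_1 (flp_e L54586) (flp_d L37956) (flp_e L37952) L54560 L78689
theorem L78706 : sm ge N6364 = N9212 := rfl
theorem L78710 : sm gc N9212 = N6365 := ded_28_1 (flp_e L54586) L54578 L78706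
theorem L78723 : sm gf N6365 = N9214 := rfl
theorem L78738 : sm gh N6366 = N9216 := rfl
theorem L78747 : sm gd N6367 = N9217 := rfl
theorem L78751 : sm gg N9217 = N6408 := ded_36_2 (flp_d L54919) (flp_g L54608) L78747
theorem L78755 : sm gf N6367 = N9218 := rfl
theorem L78761 : sm gi N6367 = N9219 := rfl
theorem L78779 : sm gg N6369 = N9221 := rfl
theorem L78787 : sm gi N6369 = N9222 := rfl
theorem L78795 : sm gh N6370 = N9223 := rfl
theorem L78804 : sm gc N6372 = N9224 := rfl
theorem L78810 : sm gh N9224 = N6374 := ded_32_2 (flp_c L54659) (flp_h L54649) L78804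
theorem L78813 : sm ge N6372 = N9225 := rfl
theorem L78818 : sm gh N9225 = N6375 := ded_43_2 (flp_e L54667) (flp_h L54649) L78813
theorem L78828 : sm gb N6374 = N9227 := rfl
theorem L78830 : sm gd N9227 = N6383 := ded_20_2 (flp_b L54731) (flp_d L54665) L78828
theorem L78834 : sm ge N6374 = N9228 := rfl
theorem L78838 : sm gc N9228 = N6375 := ded_28_1 (flp_e L54667) L54659 L78834
theorem L78842 : sm gi N6374 = N9229 := rfl
theorem L78852 : sm gf N6375 = N9230 := rfl
theorem L78856 : sm gd N9230 = N6377 := ded_35_1 (flp_f L54682) (flp_d L54672) L78852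
theorem L78859 : sm gi N6375 = N9231 := rfl
theorem L78875 : sm gg N6377 = N9233 := rfl
theorem L78908 : sm gi N6380 = N9237 := rfl
theorem L78914 : sm gf N9237 = N6416 := ded_48_1 (flp_i L54984) (flp_f L54712) L78908
theorem L78925 : sm gd N6382 = N9239 := rfl
theorem L78933 : sm ga N6383 = N9240 := rfl
theorem L78942 : sm gi N6383 = N9241 := rfl
theorem L78950 : sm gh N6384 = N9242 := rfl
theorem L78960 : sm gb N6386 = N9243 := rfl
theorem L78965 : sm gh N9243 = N6389 := ded_25_2 (flp_b L54777) (flp_h L54761) L78960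
theorem L78968 : sm ge N6386 = N9244 := rfl
theorem L78970 : sm gc N9244 = N6387 := ded_28_1 (flp_e L54764) L54757 L78968
theorem L78973 : sm gh N9244 = N6390 := ded_43_2 (flp_e L54784) (flp_h L54761) L78968
theorem L78975 : sm gi N6386 = N9245 := rfl
theorem L78982 : sm gf N6387 = N9246 := rfl
theorem L78985 : sm gh N9246 = N6392 := ded_47_2 (flp_f L54798) (flp_h L54768) L78982
theorem L78988 : sm gi N6387 = N9247 := rfl
theorem L79002 : sm ga N6389 = N9249 := rfl
theorem L79009 : sm ge N6389 = N9250 := rfl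
theorem L79016 : sm gi N6389 = N9251 := rfl
theorem L79021 : sm gd N9251 = N6403 := ded_39_1 (flp_i L54877) (flp_d L54779) L79016
theorem L79031 : sm gi N6390 = N9253 := rfl
theorem L79033 : sm gc N9253 = N6393 := ded_33_1 (flp_i L54804) (flp_c L54786) L79031
theorem L79036 : sm ge N9253 = N6391 := ded_44_1 (flp_i L54790) L54784 L79031
theorem L79039 : sm gh N6391 = N9254 := rfl
theorem L79045 : sm gg N6392 = N9255 := rfl
theorem L79052 : sm gi N6392 = N9256 := rfl
theorem L79055 : sm gd N9256 = N6396 := ded_39_1 (flp_i L54825) (flp_d L54801) L79052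
theorem L79060 : sm gh N6393 = N9257 := rfl
theorem L79066 : sm gj N6395 = N9258 := rfl
theorem L79073 : sm gi N6395 = N9259 := rfl
theorem L79082 : sm gh N6396 = N9260 := rfl
theorem L79088 : sm gf N9260 = N6397 := ded_47_1 (flp_h L54833) (flp_f L54831) L79082
theorem L79090 : sm gd N6397 = N9261 := rfl
theorem L79095 : sm gi N6398 = N9262 := rfl
theorem L79104 : sm gh N6399 = N9263 := rfl
theorem L79110 : sm gg N9263 = N6400 := ded_50_1 (flp_h L54856) (flp_g L54854) L79104
theorem L79112 : sm gd N6400 = N9264 := rfl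
theorem L79134 : sm gh N6403 = N9267 := rfl
theorem L79136 : sm gb N9267 = N6404 := ded_25_1 (flp_h L54886) (flp_b L54879) L79134
theorem L79144 : sm gd N6404 = N9268 := rfl
theorem L79150 : sm gh N6405 = N9269 := rfl
theorem L79175 : sm gf N6408 = N9272 := rfl
theorem L79180 : sm gd N9272 = N6409 := ded_35_1 (flp_f L54926) L54919 L79175
theorem L79199 : sm gg N6409 = N9275 := rfl
theorem L79206 : sm gi N6409 = N9276 := rfl
theorem L79210 : sm gc N9276 = N6413 := ded_33_1 (flp_i L54958) (flp_c L54930) L79206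
theorem L79213 : sm gf N9276 = N6410 := ded_48_1 (flp_i L54934) L54926 L79206
theorem L79216 : sm gh N6410 = N9277 := rfl
theorem L79233 : sm gj N6412 = N9279 := rfl
theorem L79236 : sm gb N9279 = N6415 := ded_24_1 (flp_j L54976) (flp_b L54954) L79233
theorem L79241 : sm gi N6412 = N9280 := rfl
theorem L79248 : sm gg N9280 = N6413 := ded_51_1 (flp_i L54958) L54951 L79241
theorem L79250 : sm gh N6413 = N9281 := rfl
theorem L79267 : sm gi N6415 = N9283 := rfl
theorem L79277 : sm gh N6416 = N9284 := rfl
theorem L79309 : sm gd N6420 = N9288 := rfl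
theorem L79312 : sm gg N9288 = N6421 := ded_36_2 (flp_d L55025) (flp_g L55023) L79309
theorem L79336 : sm gd N6423 = N9292 := rfl
theorem L79338 : sm ga N9292 = N9292 := ded_12_1 (flp_d L79336) L55040 L79336
theorem L79339 : sm gb N9292 = N9292 := ded_20_1 (flp_d L79336) L55041 L79336
theorem L79340 : sm gf N9292 = N6424 := ded_35_2 (flp_d L55049) (flp_f L55044) L79336
theorem L79342 : sm gg N9292 = N9292 := ded_36_2 (flp_d L79336) L55046 L79336
theorem L79343 : sm gj N9292 = N9292 := ded_37_2 (flp_d L79336) L55047 L79336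
theorem L79344 : sm gi N9292 = N9292 := ded_39_2 (flp_d L79336) L55048 L79336
theorem L79345 : sm gh N9292 = N9292 := ded_38_2 (flp_d L79336) (flp_h L55038) L38305 L55038 L79336
theorem L79346 : sm gc N6424 = N9293 := rfl
theorem L79348 : sm ga N9293 = N9293 := ded_11_1 (flp_c L79346) L55051 L79346
theorem L79349 : sm gg N9293 = N6425 := ded_30_2 (flp_c L55058) (flp_g L55053) L79346
theorem L79351 : sm gj N9293 = N9293 := ded_31_2 (flp_c L79346) L55055 L79346
theorem L79352 : sm gh N9293 = N9293 := ded_32_2 (flp_c L79346) L55057 L79346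
theorem L79353 : sm gi N9293 = N9293 := ded_33_2 (flp_c L79346) L55056 L79346
theorem L79354 : sm gd N9293 = N9293 := ded_27_2 (flp_c L79346) (flp_d L55049) L38315 L55049 L79346
theorem L79355 : sm ge N6424 = N9294 := rfl
theorem L79357 : sm ga N9294 = N9294 := ded_13_1 (flp_e L79355) L55051 L79355
theorem L79358 : sm gb N9294 = N9294 := ded_21_1 (flp_e L79355) L55052 L79355
theorem L79359 : sm gg N9294 = N6426 := ded_41_2 (flp_e L55067) (flp_g L55053) L79355
theorem L79361 : sm gj N9294 = N9294 := ded_42_2 (flp_e L79355) L55055 L79355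
theorem L79362 : sm gh N9294 = N9294 := ded_43_2 (flp_e L79355) L55057 L79355
theorem L79363 : sm gi N9294 = N9294 := ded_44_2 (flp_e L79355) L55056 L79355
theorem L79364 : sm gd N9294 = N6431 := ded_34_1 (flp_e L55113) (flp_d L38348) (flp_e L38316) L55049 L79355
theorem L79366 : sm gb N6425 = N9295 := rfl
theorem L79368 : sm gd N9295 = N9295 := ded_20_2 (flp_b L79366) L55066 L79366
theorem L79369 : sm gf N9295 = N9295 := ded_22_2 (flp_b L79366) L55061 L79366
theorem L79370 : sm gj N9295 = N6427 := ded_24_2 (flp_b L55077) (flp_j L55062) L79366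
theorem L79372 : sm gh N9295 = N9295 := ded_25_2 (flp_b L79366) L55064 L79366
theorem L79373 : sm gi N9295 = N9295 := ded_26_2 (flp_b L79366) L55065 L79366
theorem L79374 : sm gc N9295 = N9295 := ded_19_2 (flp_b L79366) (flp_c L55058) L38325 L55058 L79366
theorem L79375 : sm ge N6425 = N9296 := rfl
theorem L79377 : sm ga N9296 = N9296 := ded_13_1 (flp_e L79375) L55060 L79375
theorem L79378 : sm gc N9296 = N6426 := ded_28_1 (flp_e L55067) L55058 L79375
theorem L79380 : sm gj N9296 = N6428 := ded_42_2 (flp_e L55085) (flp_j L55062) L79375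
theorem L79382 : sm gh N9296 = N9296 := ded_43_2 (flp_e L79375) L55064 L79375
theorem L79383 : sm gi N9296 = N9296 := ded_44_2 (flp_e L79375) L55065 L79375
theorem L79384 : sm gf N6426 = N9297 := rfl
theorem L79386 : sm ga N9297 = N9297 := ded_14_1 (flp_f L79384) L55069 L79384
theorem L79387 : sm gb N9297 = N9297 := ded_22_1 (flp_f L79384) L55070 L79384
theorem L79388 : sm gd N9297 = N6434 := ded_35_1 (flp_f L55144) (flp_d L55075) L79384
theorem L79390 : sm gj N9297 = N6429 := ded_46_2 (flp_f L55093) (flp_j L55071) L79384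
theorem L79392 : sm gh N9297 = N9297 := ded_47_2 (flp_f L79384) L55073 L79384
theorem L79393 : sm gi N9297 = N9297 := ded_48_2 (flp_f L79384) L55074 L79384
theorem L79394 : sm ge N9297 = N9297 := ded_40_1 (flp_f L79384) (flp_e L55067) L38326 L55067 L79384
theorem L79395 : sm ga N6427 = N9298 := rfl
theorem L79397 : sm gc N9298 = N9298 := ded_11_2 (flp_a L79395) L55084 L79395
theorem L79398 : sm gd N9298 = N9298 := ded_12_2 (flp_a L79395) L55079 L79395
theorem L79399 : sm gf N9298 = N9298 := ded_14_2 (flp_a L79395) L55080 L79395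
theorem L79400 : sm gg N9298 = N9298 := ded_15_2 (flp_a L79395) L55081 L79395
theorem L79401 : sm gh N9298 = N9298 := ded_17_2 (flp_a L79395) L55082 L79395
theorem L79402 : sm gi N9298 = N9298 := ded_18_2 (flp_a L79395) L55083 L79395
theorem L79403 : sm gb N9298 = N9298 := ded_10_2 (flp_a L79395) (flp_b L55077) L38333 L55077 L79395
theorem L79404 : sm ge N6427 = N9299 := rfl
theorem L79406 : sm gb N9299 = N6428 := ded_21_1 (flp_e L55085) L55077 L79404
theorem L79408 : sm gc N9299 = N9299 := ded_28_1 (flp_e L79404) L55084 L79404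
theorem L79409 : sm gg N9299 = N9299 := ded_41_2 (flp_e L79404) L55081 L79404
theorem L79410 : sm gh N9299 = N9299 := ded_43_2 (flp_e L79404) L55082 L79404
theorem L79411 : sm gi N9299 = N9299 := ded_44_2 (flp_e L79404) L55083 L79404
theorem L79412 : sm gd N6428 = N9300 := rfl
theorem L79414 : sm ga N9300 = N9300 := ded_12_1 (flp_d L79412) L55087 L79412
theorem L79415 : sm gg N9300 = N9300 := ded_36_2 (flp_d L79412) L55090 L79412
theorem L79416 : sm gi N9300 = N9300 := ded_39_2 (flp_d L79412) L55092 L79412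
theorem L79417 : sm gc N9300 = N6437 := ded_27_1 (flp_d L55175) L38392 (flp_d L38346) (flp_c L55088) L79412
theorem L79419 : sm ge N9300 = N9300 := ded_34_2 (flp_d L79412) (flp_e L55085) L38338 L55085 L79412
theorem L79420 : sm gf N6428 = N9301 := rfl
theorem L79422 : sm ga N9301 = N9301 := ded_14_1 (flp_f L79420) L55087 L79420
theorem L79423 : sm gc N9301 = N6429 := ded_29_1 (flp_f L55093) (flp_c L55088) L79420
theorem L79425 : sm gh N9301 = N9301 := ded_47_2 (flp_f L79420) L55091 L79420
theorem L79426 : sm gi N9301 = N9301 := ded_48_2 (flp_f L79420) L55092 L79420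
theorem L79427 : sm ge N9301 = N9301 := ded_40_1 (flp_f L79420) (flp_e L55085) L38334 L55085 L79420
theorem L79428 : sm gg N6429 = N9302 := rfl
theorem L79430 : sm ga N9302 = N9302 := ded_15_1 (flp_g L79428) L55095 L79428
theorem L79431 : sm gb N9302 = N9302 := ded_23_1 (flp_g L79428) L55096 L79428
theorem L79432 : sm gd N9302 = N6439 := ded_36_1 (flp_g L55191) (flp_d L55097) L79428
theorem L79434 : sm ge N9302 = N9302 := ded_41_1 (flp_g L79428) L55101 L79428
theorem L79435 : sm gh N9302 = N9302 := ded_50_2 (flp_g L79428) L55099 L79428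
theorem L79436 : sm gi N9302 = N9302 := ded_51_2 (flp_g L79428) L55100 L79428
theorem L79437 : sm gf N9302 = N9302 := ded_45_1 (flp_g L79428) (flp_f L55093) L38343 L55093 L79428
theorem L79438 : sm gb N6430 = N9303 := rfl
theorem L79440 : sm gd N9303 = N9303 := ded_20_2 (flp_b L79438) L55112 L79438
theorem L79441 : sm gf N9303 = N9303 := ded_22_2 (flp_b L79438) L55105 L79438
theorem L79442 : sm gg N9303 = N6432 := ded_23_2 (flp_b L55123) (flp_g L55106) L79438
theorem L79444 : sm gj N9303 = N9303 := ded_24_2 (flp_b L79438) L55108 L79438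
theorem L79445 : sm gh N9303 = N6465 := ded_25_2 (flp_b L55431) (flp_h L55109) L79438
theorem L79447 : sm gi N9303 = N9303 := ded_26_2 (flp_b L79438) L55111 L79438
theorem L79448 : sm gc N9303 = N9303 := ded_19_2 (flp_b L79438) (flp_c L55102) L38351 L55102 L79438
theorem L79449 : sm ge N6430 = N9304 := rfl
theorem L79451 : sm ga N9304 = N9304 := ded_13_1 (flp_e L79449) L55104 L79449
theorem L79452 : sm gc N9304 = N6431 := ded_28_1 (flp_e L55113) L55102 L79449
theorem L79454 : sm gg N9304 = N6433 := ded_41_2 (flp_e L55134) (flp_g L55106) L79449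
theorem L79456 : sm gj N9304 = N9304 := ded_42_2 (flp_e L79449) L55108 L79449
theorem L79457 : sm gh N9304 = N6466 := ded_43_2 (flp_e L55440) (flp_h L55109) L79449
theorem L79459 : sm gi N9304 = N9304 := ded_44_2 (flp_e L79449) L55111 L79449
theorem L79460 : sm gf N6431 = N9305 := rfl
theorem L79462 : sm ga N9305 = N9305 := ded_14_1 (flp_f L79460) L55115 L79460
theorem L79463 : sm gb N9305 = N9305 := ded_22_1 (flp_f L79460) L55116 L79460
theorem L79464 : sm gj N9305 = N9305 := ded_46_2 (flp_f L79460) L55119 L79460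
theorem L79465 : sm gh N9305 = N6467 := ded_47_2 (flp_f L55448) (flp_h L55120) L79460
theorem L79467 : sm gi N9305 = N9305 := ded_48_2 (flp_f L79460) L55122 L79460
theorem L79468 : sm ge N9305 = N9305 := ded_40_1 (flp_f L79460) (flp_e L55113) L38352 L55113 L79460
theorem L79469 : sm ga N6432 = N9306 := rfl
theorem L79471 : sm gc N9306 = N9306 := ded_11_2 (flp_a L79469) L55133 L79469
theorem L79472 : sm gd N9306 = N9306 := ded_12_2 (flp_a L79469) L55125 L79469
theorem L79473 : sm gf N9306 = N6440 := ded_14_2 (flp_a L55201) (flp_f L55126) L79469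
theorem L79475 : sm gj N9306 = N6435 := ded_16_2 (flp_a L55155) (flp_j L55128) L79469
theorem L79477 : sm gh N9306 = N6471 := ded_17_2 (flp_a L55489) (flp_h L55130) L79469
theorem L79479 : sm gi N9306 = N9306 := ded_18_2 (flp_a L79469) L55132 L79469
theorem L79480 : sm gb N9306 = N9306 := ded_10_2 (flp_a L79469) (flp_b L55123) L38361 L55123 L79469
theorem L79481 : sm ge N6432 = N9307 := rfl
theorem L79483 : sm gb N9307 = N6433 := ded_21_1 (flp_e L55134) L55123 L79481
theorem L79485 : sm gc N9307 = N9307 := ded_28_1 (flp_e L79481) L55133 L79481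
theorem L79486 : sm gj N9307 = N6436 := ded_42_2 (flp_e L55166) (flp_j L55128) L79481
theorem L79488 : sm gh N9307 = N6472 := ded_43_2 (flp_e L55499) (flp_h L55130) L79481
theorem L79490 : sm gi N9307 = N9307 := ded_44_2 (flp_e L79481) L55132 L79481
theorem L79491 : sm gd N6433 = N9308 := rfl
theorem L79493 : sm ga N9308 = N9308 := ded_12_1 (flp_d L79491) L55136 L79491
theorem L79494 : sm gj N9308 = N6437 := ded_37_2 (flp_d L55175) (flp_j L55139) L79491
theorem L79496 : sm gi N9308 = N9308 := ded_39_2 (flp_d L79491) L55143 L79491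
theorem L79497 : sm ge N9308 = N9308 := ded_34_2 (flp_d L79491) (flp_e L55134) L38369 L55134 L79491
theorem L79498 : sm gf N6433 = N9309 := rfl
theorem L79500 : sm ga N9309 = N9309 := ded_14_1 (flp_f L79498) L55136 L79498
theorem L79501 : sm gc N9309 = N6434 := ded_29_1 (flp_f L55144) (flp_c L55137) L79498
theorem L79503 : sm gj N9309 = N6438 := ded_46_2 (flp_f L55181) (flp_j L55139) L79498
theorem L79505 : sm gh N9309 = N6474 := ded_47_2 (flp_f L55514) (flp_h L55141) L79498
theorem L79507 : sm gi N9309 = N9309 := ded_48_2 (flp_f L79498) L55143 L79498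
theorem L79508 : sm ge N9309 = N6443 := ded_40_1 (flp_f L55232) (flp_e L38417) (flp_f L38362) L55134 L79498
theorem L79510 : sm gg N6434 = N9310 := rfl
theorem L79512 : sm ga N9310 = N9310 := ded_15_1 (flp_g L79510) L55146 L79510
theorem L79513 : sm gb N9310 = N9310 := ded_23_1 (flp_g L79510) L55147 L79510
theorem L79514 : sm ge N9310 = N6444 := ded_41_1 (flp_g L55242) (flp_e L55153) L79510
theorem L79516 : sm gh N9310 = N6475 := ded_50_2 (flp_g L55523) (flp_h L55150) L79510
theorem L79518 : sm gi N9310 = N9310 := ded_51_2 (flp_g L79510) L55152 L79510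
theorem L79519 : sm ge N6435 = N9311 := rfl
theorem L79521 : sm ga N9311 = N6436 := ded_13_1 (flp_e L55166) L55155 L79519
theorem L79523 : sm gb N9311 = N9311 := ded_21_1 (flp_e L79519) L55165 L79519
theorem L79524 : sm gc N9311 = N9311 := ded_28_1 (flp_e L79519) L55157 L79519
theorem L79525 : sm gg N9311 = N9311 := ded_41_2 (flp_e L79519) L55161 L79519
theorem L79526 : sm gh N9311 = N6481 := ded_43_2 (flp_e L55581) (flp_h L55162) L79519
theorem L79528 : sm gi N9311 = N9311 := ded_44_2 (flp_e L79519) L55164 L79519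
theorem L79529 : sm gd N6436 = N9312 := rfl
theorem L79531 : sm gb N9312 = N6437 := ded_20_1 (flp_d L55175) (flp_b L55168) L79529
theorem L79533 : sm gg N9312 = N9312 := ded_36_2 (flp_d L79529) L55171 L79529
theorem L79534 : sm gi N9312 = N9312 := ded_39_2 (flp_d L79529) L55174 L79529
theorem L79535 : sm ge N9312 = N9312 := ded_34_2 (flp_d L79529) (flp_e L55166) L38381 L55166 L79529
theorem L79536 : sm gf N6436 = N9313 := rfl
theorem L79538 : sm gb N9313 = N6438 := ded_22_1 (flp_f L55181) (flp_b L55168) L79536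
theorem L79540 : sm gc N9313 = N9313 := ded_29_1 (flp_f L79536) L55170 L79536
theorem L79541 : sm gh N9313 = N6483 := ded_47_2 (flp_f L55595) (flp_h L55172) L79536
theorem L79543 : sm gi N9313 = N9313 := ded_48_2 (flp_f L79536) L55174 L79536
theorem L79544 : sm ge N9313 = N6447 := ded_40_1 (flp_f L55270) (flp_e L38448) (flp_f L38382) L55166 L79536
theorem L79546 : sm gf N6437 = N9314 := rfl
theorem L79548 : sm ga N9314 = N9314 := ded_14_1 (flp_f L79546) L55177 L79546
theorem L79549 : sm gd N9314 = N6438 := ded_35_1 (flp_f L55181) L55175 L79546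
theorem L79551 : sm gi N9314 = N9314 := ded_48_2 (flp_f L79546) L55179 L79546
theorem L79552 : sm gh N6437 = N9315 := rfl
theorem L79554 : sm ga N9315 = N9315 := ded_17_1 (flp_h L79552) L55177 L79552
theorem L79555 : sm ge N9315 = N9315 := ded_43_1 (flp_h L79552) L55180 L79552
theorem L79556 : sm gg N9315 = N9315 := ded_50_1 (flp_h L79552) L55178 L79552
theorem L79557 : sm gd N9315 = N6485 := ded_38_1 (flp_h L55608) (flp_d L38666) (flp_h L38395) L55175 L79552
theorem L79559 : sm gg N6438 = N9316 := rfl
theorem L79561 : sm ga N9316 = N9316 := ded_15_1 (flp_g L79559) L55183 L79559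
theorem L79562 : sm gc N9316 = N6439 := ded_30_1 (flp_g L55191) (flp_c L55184) L79559
theorem L79564 : sm ge N9316 = N6450 := ded_41_1 (flp_g L55294) (flp_e L55189) L79559
theorem L79566 : sm gh N9316 = N6486 := ded_50_2 (flp_g L55615) (flp_h L55186) L79559
theorem L79568 : sm gi N9316 = N9316 := ded_51_2 (flp_g L79559) L55188 L79559
theorem L79569 : sm gf N9316 = N9316 := ded_45_1 (flp_g L79559) (flp_f L55181) L38394 L55181 L79559
theorem L79570 : sm gj N6439 = N9317 := rfl
theorem L79572 : sm ga N9317 = N9317 := ded_16_1 (flp_j L79570) L55193 L79570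
theorem L79573 : sm gb N9317 = N9317 := ded_24_1 (flp_j L79570) L55194 L79570
theorem L79574 : sm ge N9317 = N6451 := ded_42_1 (flp_j L55304) (flp_e L55195) L79570
theorem L79576 : sm gf N9317 = N9317 := ded_46_1 (flp_j L79570) L55200 L79570
theorem L79577 : sm gh N9317 = N6487 := ded_52_2 (flp_j L55623) (flp_h L55197) L79570
theorem L79579 : sm gi N9317 = N9317 := ded_53_2 (flp_j L79570) L55199 L79570
theorem L79580 : sm ge N6440 = N9318 := rfl
theorem L79582 : sm ga N9318 = N6441 := ded_13_1 (flp_e L55212) L55201 L79580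
theorem L79584 : sm gb N9318 = N9318 := ded_21_1 (flp_e L79580) L55211 L79580
theorem L79585 : sm gc N9318 = N9318 := ded_28_1 (flp_e L79580) L55203 L79580
theorem L79586 : sm gg N9318 = N9318 := ded_41_2 (flp_e L79580) L55205 L79580
theorem L79587 : sm gj N9318 = N6445 := ded_42_2 (flp_e L55251) (flp_j L55206) L79580
theorem L79589 : sm gh N9318 = N6493 := ded_43_2 (flp_e L55686) (flp_h L55208) L79580
theorem L79591 : sm gi N9318 = N9318 := ded_44_2 (flp_e L79580) L55210 L79580
theorem L79592 : sm gd N6441 = N9319 := rfl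
theorem L79594 : sm gb N9319 = N6442 := ded_20_1 (flp_d L55223) (flp_b L55214) L79592
theorem L79596 : sm gg N9319 = N9319 := ded_36_2 (flp_d L79592) L55217 L79592
theorem L79597 : sm gj N9319 = N6446 := ded_37_2 (flp_d L55262) (flp_j L55218) L79592
theorem L79599 : sm gi N9319 = N9319 := ded_39_2 (flp_d L79592) L55222 L79592
theorem L79600 : sm ge N9319 = N9319 := ded_34_2 (flp_d L79592) (flp_e L55212) L38409 L55212 L79592
theorem L79601 : sm gf N6441 = N9320 := rfl
theorem L79603 : sm gb N9320 = N6443 := ded_22_1 (flp_f L55232) (flp_b L55214) L79601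
theorem L79605 : sm gc N9320 = N9320 := ded_29_1 (flp_f L79601) L55216 L79601
theorem L79606 : sm gj N9320 = N6447 := ded_46_2 (flp_f L55270) (flp_j L55218) L79601
theorem L79608 : sm gh N9320 = N6495 := ded_47_2 (flp_f L55704) (flp_h L55220) L79601
theorem L79610 : sm gi N9320 = N9320 := ded_48_2 (flp_f L79601) L55222 L79601
theorem L79611 : sm gf N6442 = N9321 := rfl
theorem L79613 : sm ga N9321 = N9321 := ded_14_1 (flp_f L79611) L55225 L79611
theorem L79614 : sm gc N9321 = N9321 := ded_29_1 (flp_f L79611) L55230 L79611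
theorem L79615 : sm gd N9321 = N6443 := ded_35_1 (flp_f L55232) L55223 L79611
theorem L79617 : sm gj N9321 = N6448 := ded_46_2 (flp_f L55278) (flp_j L55227) L79611
theorem L79619 : sm gi N9321 = N9321 := ded_48_2 (flp_f L79611) L55229 L79611
theorem L79620 : sm gh N6442 = N9322 := rfl
theorem L79622 : sm ga N9322 = N9322 := ded_17_1 (flp_h L79620) L55225 L79620
theorem L79623 : sm gc N9322 = N9322 := ded_32_1 (flp_h L79620) L55230 L79620
theorem L79624 : sm ge N9322 = N9322 := ded_43_1 (flp_h L79620) L55231 L79620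
theorem L79625 : sm gg N9322 = N9322 := ded_50_1 (flp_h L79620) L55226 L79620
theorem L79626 : sm gj N9322 = N6449 := ded_52_1 (flp_h L55285) (flp_j L55227) L79620
theorem L79628 : sm gd N9322 = N6497 := ded_38_1 (flp_h L55720) (flp_d L38738) (flp_h L38425) L55223 L79620
theorem L79630 : sm gg N6443 = N9323 := rfl
theorem L79632 : sm ga N9323 = N9323 := ded_15_1 (flp_g L79630) L55234 L79630
theorem L79633 : sm gc N9323 = N6444 := ded_30_1 (flp_g L55242) (flp_c L55235) L79630
theorem L79635 : sm gh N9323 = N6498 := ded_50_2 (flp_g L55730) (flp_h L55239) L79630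
theorem L79637 : sm gi N9323 = N9323 := ded_51_2 (flp_g L79630) L55241 L79630
theorem L79638 : sm gf N9323 = N9323 := ded_45_1 (flp_g L79630) (flp_f L55232) L38422 L55232 L79630
theorem L79639 : sm gj N6444 = N9324 := rfl
theorem L79641 : sm ga N9324 = N9324 := ded_16_1 (flp_j L79639) L55244 L79639
theorem L79642 : sm gb N9324 = N9324 := ded_24_1 (flp_j L79639) L55245 L79639
theorem L79643 : sm gd N9324 = N9324 := ded_37_1 (flp_j L79639) L55246 L79639
theorem L79644 : sm gf N9324 = N9324 := ded_46_1 (flp_j L79639) L55250 L79639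
theorem L79645 : sm gh N9324 = N6499 := ded_52_2 (flp_j L55736) (flp_h L55247) L79639
theorem L79647 : sm gi N9324 = N9324 := ded_53_2 (flp_j L79639) L55249 L79639
theorem L79648 : sm gg N9324 = N6451 := ded_49_1 (flp_j L55304) (flp_g L38474) (flp_j L38433) L55242 L79639
theorem L79650 : sm gd N6445 = N9325 := rfl
theorem L79652 : sm ga N9325 = N6446 := ded_12_1 (flp_d L55262) (flp_a L55253) L79650
theorem L79654 : sm gb N9325 = N9325 := ded_20_1 (flp_d L79650) L55255 L79650
theorem L79655 : sm gg N9325 = N6452 := ded_36_2 (flp_d L55314) (flp_g L55257) L79650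
theorem L79657 : sm gi N9325 = N9325 := ded_39_2 (flp_d L79650) L55261 L79650
theorem L79658 : sm ge N9325 = N9325 := ded_34_2 (flp_d L79650) (flp_e L55251) L38441 L55251 L79650
theorem L79659 : sm gf N6445 = N9326 := rfl
theorem L79661 : sm ga N9326 = N6447 := ded_14_1 (flp_f L55270) (flp_a L55253) L79659
theorem L79663 : sm gb N9326 = N9326 := ded_22_1 (flp_f L79659) L55255 L79659
theorem L79664 : sm gc N9326 = N9326 := ded_29_1 (flp_f L79659) L55256 L79659
theorem L79665 : sm gh N9326 = N6508 := ded_47_2 (flp_f L55823) (flp_h L55259) L79659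
theorem L79667 : sm gi N9326 = N9326 := ded_48_2 (flp_f L79659) L55261 L79659
theorem L79668 : sm gc N6446 = N9327 := rfl
theorem L79670 : sm ge N9327 = N9327 := ded_28_2 (flp_c L79668) L55269 L79668
theorem L79671 : sm gg N9327 = N6454 := ded_30_2 (flp_c L55333) (flp_g L55266) L79668
theorem L79673 : sm gi N9327 = N9327 := ded_33_2 (flp_c L79668) L55268 L79668
theorem L79674 : sm gb N9327 = N9327 := ded_19_1 (flp_c L79668) L55264 L38464 (flp_b L55264) L79668
theorem L79675 : sm gd N9327 = N9327 := ded_27_2 (flp_c L79668) (flp_d L55262) L38452 L55262 L79668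
theorem L79676 : sm gf N6446 = N9328 := rfl
theorem L79678 : sm gb N9328 = N6448 := ded_22_1 (flp_f L55278) (flp_b L55264) L79676
theorem L79680 : sm gd N9328 = N6447 := ded_35_1 (flp_f L55270) L55262 L79676
theorem L79682 : sm gi N9328 = N9328 := ded_48_2 (flp_f L79676) L55268 L79676
theorem L79683 : sm gh N6446 = N9329 := rfl
theorem L79685 : sm gb N9329 = N6449 := ded_25_1 (flp_h L55285) (flp_b L55264) L79683
theorem L79687 : sm ge N9329 = N9329 := ded_43_1 (flp_h L79683) L55269 L79683
theorem L79688 : sm gg N9329 = N6456 := ded_50_1 (flp_h L55348) (flp_g L55266) L79683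
theorem L79690 : sm gd N9329 = N6511 := ded_38_1 (flp_h L55844) (flp_d L38821) (flp_h L38455) L55262 L79683
theorem L79692 : sm gg N6447 = N9330 := rfl
theorem L79694 : sm gb N9330 = N6450 := ded_23_1 (flp_g L55294) (flp_b L55272) L79692
theorem L79696 : sm gc N9330 = N9330 := ded_30_1 (flp_g L79692) L55274 L79692
theorem L79697 : sm gh N9330 = N6512 := ded_50_2 (flp_g L55852) (flp_h L55275) L79692
theorem L79699 : sm gi N9330 = N9330 := ded_51_2 (flp_g L79692) L55277 L79692
theorem L79700 : sm gf N9330 = N6457 := ded_45_1 (flp_g L55356) (flp_f L38501) (flp_g L38453) L55270 L79692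
theorem L79702 : sm ge N6448 = N9331 := rfl
theorem L79704 : sm ga N9331 = N9331 := ded_13_1 (flp_e L79702) L55280 L79702
theorem L79705 : sm gc N9331 = N9331 := ded_28_1 (flp_e L79702) L55281 L79702
theorem L79706 : sm gi N9331 = N9331 := ded_44_2 (flp_e L79702) L55284 L79702
theorem L79707 : sm gf N9331 = N9331 := ded_40_2 (flp_e L79702) (flp_f L55278) L38465 L55278 L79702
theorem L79708 : sm gg N6448 = N9332 := rfl
theorem L79710 : sm ga N9332 = N9332 := ded_15_1 (flp_g L79708) L55280 L79708
theorem L79711 : sm gc N9332 = N9332 := ded_30_1 (flp_g L79708) L55281 L79708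
theorem L79712 : sm gd N9332 = N6450 := ded_36_1 (flp_g L55294) (flp_d L55282) L79708
theorem L79714 : sm gi N9332 = N9332 := ded_51_2 (flp_g L79708) L55284 L79708
theorem L79715 : sm gf N9332 = N6459 := ded_45_1 (flp_g L55373) (flp_f L38511) (flp_g L38461) L55278 L79708
theorem L79717 : sm gh N6448 = N9333 := rfl
theorem L79719 : sm ga N9333 = N9333 := ded_17_1 (flp_h L79717) L55280 L79717
theorem L79720 : sm gc N9333 = N9333 := ded_32_1 (flp_h L79717) L55281 L79717
theorem L79721 : sm gf N9333 = N6449 := ded_47_1 (flp_h L55285) L55278 L79717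
theorem L79723 : sm gd N9333 = N6515 := ded_38_1 (flp_h L55875) L38839 (flp_h L38471) (flp_d L55282) L79717
theorem L79725 : sm gi N6449 = N9334 := rfl
theorem L79727 : sm ga N9334 = N9334 := ded_18_1 (flp_i L79725) L55287 L79725
theorem L79728 : sm gc N9334 = N9334 := ded_33_1 (flp_i L79725) L55288 L79725
theorem L79729 : sm gd N9334 = N6516 := ded_39_1 (flp_i L55882) (flp_d L55292) L79725
theorem L79731 : sm ge N9334 = N9334 := ded_44_1 (flp_i L79725) L55289 L79725
theorem L79732 : sm gg N9334 = N6461 := ded_51_1 (flp_i L55389) (flp_g L55290) L79725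
theorem L79734 : sm gh N9334 = N9334 := ded_54_1 (flp_i L79725) (flp_h L55285) L38463 L55285 L79725
theorem L79735 : sm gj N6450 = N9335 := rfl
theorem L79737 : sm ga N9335 = N9335 := ded_16_1 (flp_j L79735) L55296 L79735
theorem L79738 : sm gc N9335 = N6451 := ded_31_1 (flp_j L55304) (flp_c L55297) L79735
theorem L79740 : sm gf N9335 = N6462 := ded_46_1 (flp_j L55398) (flp_f L55302) L79735
theorem L79742 : sm gh N9335 = N6517 := ded_52_2 (flp_j L55891) (flp_h L55299) L79735
theorem L79744 : sm gi N9335 = N9335 := ded_53_2 (flp_j L79735) L55301 L79735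
theorem L79745 : sm gc N6452 = N9336 := rfl
theorem L79747 : sm ga N9336 = N6454 := ded_11_1 (flp_c L55333) (flp_a L55316) L79745
theorem L79749 : sm ge N9336 = N9336 := ded_28_2 (flp_c L79745) L55321 L79745
theorem L79750 : sm gj N9336 = N9336 := ded_31_2 (flp_c L79745) L55319 L79745
theorem L79751 : sm gi N9336 = N9336 := ded_33_2 (flp_c L79745) L55320 L79745
theorem L79752 : sm gd N9336 = N9336 := ded_27_2 (flp_c L79745) (flp_d L55314) L38489 L55314 L79745
theorem L79753 : sm gf N6452 = N9337 := rfl
theorem L79755 : sm ga N9337 = N6455 := ded_14_1 (flp_f L55340) (flp_a L55316) L79753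
theorem L79757 : sm gb N9337 = N9337 := ded_22_1 (flp_f L79753) L55318 L79753
theorem L79758 : sm gd N9337 = N6453 := ded_35_1 (flp_f L55322) L55314 L79753
theorem L79760 : sm gj N9337 = N9337 := ded_46_2 (flp_f L79753) L55319 L79753
theorem L79761 : sm gi N9337 = N9337 := ded_48_2 (flp_f L79753) L55320 L79753
theorem L79762 : sm gh N6452 = N9338 := rfl
theorem L79764 : sm ga N9338 = N6456 := ded_17_1 (flp_h L55348) (flp_a L55316) L79762
theorem L79766 : sm gb N9338 = N9338 := ded_25_1 (flp_h L79762) L55318 L79762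
theorem L79767 : sm ge N9338 = N9338 := ded_43_1 (flp_h L79762) L55321 L79762
theorem L79768 : sm gj N9338 = N9338 := ded_52_1 (flp_h L79762) L55319 L79762
theorem L79769 : sm gd N9338 = N6531 := ded_38_1 (flp_h L56021) (flp_d L38933) (flp_h L38491) L55314 L79762
theorem L79771 : sm gg N6453 = N9339 := rfl
theorem L79773 : sm ga N9339 = N6457 := ded_15_1 (flp_g L55356) (flp_a L55324) L79771
theorem L79775 : sm gb N9339 = N9339 := ded_23_1 (flp_g L79771) L55326 L79771
theorem L79776 : sm gc N9339 = N9339 := ded_30_1 (flp_g L79771) L55327 L79771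
theorem L79777 : sm ge N9339 = N9339 := ded_41_1 (flp_g L79771) L55332 L79771
theorem L79778 : sm gh N9339 = N6532 := ded_50_2 (flp_g L56029) (flp_h L55329) L79771
theorem L79780 : sm gi N9339 = N9339 := ded_51_2 (flp_g L79771) L55331 L79771
theorem L79781 : sm gf N6454 = N9340 := rfl
theorem L79783 : sm gb N9340 = N9340 := ded_22_1 (flp_f L79781) L55338 L79781
theorem L79784 : sm gc N9340 = N6455 := ded_29_1 (flp_f L55340) L55333 L79781
theorem L79786 : sm gd N9340 = N9340 := ded_35_1 (flp_f L79781) L55339 L79781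
theorem L79787 : sm gj N9340 = N9340 := ded_46_2 (flp_f L79781) L55336 L79781
theorem L79788 : sm gi N9340 = N9340 := ded_48_2 (flp_f L79781) L55337 L79781
theorem L79789 : sm gh N6454 = N9341 := rfl
theorem L79791 : sm gb N9341 = N9341 := ded_25_1 (flp_h L79789) L55338 L79789
theorem L79792 : sm gc N9341 = N6456 := ded_32_1 (flp_h L55348) L55333 L79789
theorem L79794 : sm ge N9341 = N9341 := ded_43_1 (flp_h L79789) L55335 L79789
theorem L79795 : sm gj N9341 = N9341 := ded_52_1 (flp_h L79789) L55336 L79789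
theorem L79796 : sm ge N6455 = N9342 := rfl
theorem L79798 : sm gb N9342 = N6458 := ded_21_1 (flp_e L55365) (flp_b L55342) L79796
theorem L79800 : sm gj N9342 = N9342 := ded_42_2 (flp_e L79796) L55346 L79796
theorem L79801 : sm gi N9342 = N9342 := ded_44_2 (flp_e L79796) L55347 L79796
theorem L79802 : sm gd N9342 = N9342 := ded_34_1 (flp_e L79796) L55344 L38510 (flp_d L55344) L79796
theorem L79803 : sm gf N9342 = N9342 := ded_40_2 (flp_e L79796) (flp_f L55340) L38500 L55340 L79796
theorem L79804 : sm gg N6455 = N9343 := rfl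
theorem L79806 : sm gb N9343 = N6459 := ded_23_1 (flp_g L55373) (flp_b L55342) L79804
theorem L79808 : sm gd N9343 = N6457 := ded_36_1 (flp_g L55356) (flp_d L55344) L79804
theorem L79810 : sm gi N9343 = N9343 := ded_51_2 (flp_g L79804) L55347 L79804
theorem L79811 : sm gh N6455 = N9344 := rfl
theorem L79813 : sm gb N9344 = N6460 := ded_25_1 (flp_h L55380) (flp_b L55342) L79811
theorem L79815 : sm gf N9344 = N6456 := ded_47_1 (flp_h L55348) L55340 L79811
theorem L79817 : sm gj N9344 = N9344 := ded_52_1 (flp_h L79811) L55346 L79811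
theorem L79818 : sm gd N9344 = N6537 := ded_38_1 (flp_h L56067) L38961 (flp_h L38507) (flp_d L55344) L79811
theorem L79820 : sm gi N6456 = N9345 := rfl
theorem L79822 : sm gb N9345 = N6461 := ded_26_1 (flp_i L55389) (flp_b L55350) L79820
theorem L79824 : sm gd N9345 = N6538 := ded_39_1 (flp_i L56074) (flp_d L55354) L79820
theorem L79826 : sm ge N9345 = N9345 := ded_44_1 (flp_i L79820) L55352 L79820
theorem L79827 : sm gj N9345 = N9345 := ded_53_1 (flp_i L79820) L55353 L79820
theorem L79828 : sm gh N9345 = N9345 := ded_54_1 (flp_i L79820) (flp_h L55348) L38499 L55348 L79820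
theorem L79829 : sm gj N6457 = N9346 := rfl
theorem L79831 : sm gb N9346 = N6462 := ded_24_1 (flp_j L55398) (flp_b L55358) L79829
theorem L79833 : sm gc N9346 = N9346 := ded_31_1 (flp_j L79829) L55360 L79829
theorem L79834 : sm ge N9346 = N9346 := ded_42_1 (flp_j L79829) L55361 L79829
theorem L79835 : sm gh N9346 = N6539 := ded_52_2 (flp_j L56081) (flp_h L55362) L79829
theorem L79837 : sm gi N9346 = N9346 := ded_53_2 (flp_j L79829) L55364 L79829
theorem L79838 : sm gg N9346 = N9346 := ded_49_1 (flp_j L79829) (flp_g L55356) L38506 L55356 L79829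
theorem L79839 : sm gg N6458 = N9347 := rfl
theorem L79841 : sm ga N9347 = N9347 := ded_15_1 (flp_g L79839) L55367 L79839
theorem L79842 : sm gc N9347 = N9347 := ded_30_1 (flp_g L79839) L55368 L79839
theorem L79843 : sm gd N9347 = N9347 := ded_36_1 (flp_g L79839) L55371 L79839
theorem L79844 : sm ge N9347 = N6459 := ded_41_1 (flp_g L55373) L55365 L79839
theorem L79846 : sm gi N9347 = N9347 := ded_51_2 (flp_g L79839) L55370 L79839
theorem L79847 : sm gh N6458 = N9348 := rfl
theorem L79849 : sm ga N9348 = N9348 := ded_17_1 (flp_h L79847) L55367 L79847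
theorem L79850 : sm gc N9348 = N9348 := ded_32_1 (flp_h L79847) L55368 L79847
theorem L79851 : sm ge N9348 = N6460 := ded_43_1 (flp_h L55380) L55365 L79847
theorem L79853 : sm gf N9348 = N9348 := ded_47_1 (flp_h L79847) L55372 L79847
theorem L79854 : sm gj N9348 = N9348 := ded_52_1 (flp_h L79847) L55369 L79847
theorem L79855 : sm gj N6459 = N9349 := rfl
theorem L79857 : sm ga N9349 = N9349 := ded_16_1 (flp_j L79855) L55375 L79855
theorem L79858 : sm gc N9349 = N9349 := ded_31_1 (flp_j L79855) L55376 L79855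
theorem L79859 : sm gd N9349 = N6462 := ded_37_1 (flp_j L55398) (flp_d L55377) L79855
theorem L79861 : sm gi N9349 = N9349 := ded_53_2 (flp_j L79855) L55379 L79855
theorem L79862 : sm gg N9349 = N9349 := ded_49_1 (flp_j L79855) (flp_g L55373) L38517 L55373 L79855
theorem L79863 : sm gh N6459 = N9350 := rfl
theorem L79865 : sm ga N9350 = N9350 := ded_17_1 (flp_h L79863) L55375 L79863
theorem L79866 : sm gc N9350 = N9350 := ded_32_1 (flp_h L79863) L55376 L79863
theorem L79867 : sm gg N9350 = N6460 := ded_50_1 (flp_h L55380) L55373 L79863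
theorem L79869 : sm gd N9350 = N6543 := ded_38_1 (flp_h L56114) L38991 (flp_h L38533) (flp_d L55377) L79863
theorem L79871 : sm gi N6460 = N9351 := rfl
theorem L79873 : sm ga N9351 = N9351 := ded_18_1 (flp_i L79871) L55382 L79871
theorem L79874 : sm gc N9351 = N9351 := ded_33_1 (flp_i L79871) L55383 L79871
theorem L79875 : sm gd N9351 = N6544 := ded_39_1 (flp_i L56121) (flp_d L55387) L79871
theorem L79877 : sm gf N9351 = N6461 := ded_48_1 (flp_i L55389) (flp_f L55384) L79871
theorem L79879 : sm gj N9351 = N9351 := ded_53_1 (flp_i L79871) L55386 L79871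
theorem L79880 : sm gh N9351 = N9351 := ded_54_1 (flp_i L79871) (flp_h L55380) L38518 L55380 L79871
theorem L79881 : sm gb N6463 = N9352 := rfl
theorem L79883 : sm gd N9352 = N6745 := ded_20_2 (flp_b L57853) (flp_d L55418) L79881
theorem L79885 : sm gf N9352 = N9352 := ded_22_2 (flp_b L79881) L55411 L79881
theorem L79886 : sm gg N9352 = N6468 := ded_23_2 (flp_b L55455) (flp_g L55412) L79881
theorem L79888 : sm gj N9352 = N9352 := ded_24_2 (flp_b L79881) L55414 L79881
theorem L79889 : sm gh N9352 = N9352 := ded_25_2 (flp_b L79881) L55415 L79881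
theorem L79890 : sm gi N9352 = N6465 := ded_26_2 (flp_b L55431) (flp_i L55416) L79881
theorem L79892 : sm gc N9352 = N9352 := ded_19_2 (flp_b L79881) (flp_c L55408) L38549 L55408 L79881
theorem L79893 : sm ge N6463 = N9353 := rfl
theorem L79895 : sm ga N9353 = N9353 := ded_13_1 (flp_e L79893) L55410 L79893
theorem L79896 : sm gc N9353 = N6464 := ded_28_1 (flp_e L55420) L55408 L79893
theorem L79898 : sm gg N9353 = N6469 := ded_41_2 (flp_e L55467) (flp_g L55412) L79893
theorem L79900 : sm gj N9353 = N9353 := ded_42_2 (flp_e L79893) L55414 L79893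
theorem L79901 : sm gh N9353 = N9353 := ded_43_2 (flp_e L79893) L55415 L79893
theorem L79902 : sm gi N9353 = N6466 := ded_44_2 (flp_e L55440) (flp_i L55416) L79893
theorem L79904 : sm gf N6464 = N9354 := rfl
theorem L79906 : sm ga N9354 = N9354 := ded_14_1 (flp_f L79904) L55422 L79904
theorem L79907 : sm gb N9354 = N9354 := ded_22_1 (flp_f L79904) L55423 L79904
theorem L79908 : sm gd N9354 = N9354 := ded_35_1 (flp_f L79904) L55430 L79904
theorem L79909 : sm gj N9354 = N9354 := ded_46_2 (flp_f L79904) L55426 L79904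
theorem L79910 : sm gh N9354 = N9354 := ded_47_2 (flp_f L79904) L55427 L79904
theorem L79911 : sm gi N9354 = N6467 := ded_48_2 (flp_f L55448) (flp_i L55428) L79904
theorem L79913 : sm ge N9354 = N9354 := ded_40_1 (flp_f L79904) (flp_e L55420) L38550 L55420 L79904
theorem L79914 : sm ga N6465 = N9355 := rfl
theorem L79916 : sm gc N9355 = N9355 := ded_11_2 (flp_a L79914) L55439 L79914
theorem L79917 : sm gd N9355 = N6748 := ded_12_2 (flp_a L57883) (flp_d L55433) L79914
theorem L79919 : sm gf N9355 = N9355 := ded_14_2 (flp_a L79914) L55435 L79914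
theorem L79920 : sm gg N9355 = N6471 := ded_15_2 (flp_a L55489) (flp_g L55436) L79914
theorem L79922 : sm gj N9355 = N9355 := ded_16_2 (flp_a L79914) L55438 L79914
theorem L79923 : sm gb N9355 = N9355 := ded_10_2 (flp_a L79914) (flp_b L55431) L38559 L55431 L79914
theorem L79924 : sm ge N6465 = N9356 := rfl
theorem L79926 : sm gb N9356 = N6466 := ded_21_1 (flp_e L55440) L55431 L79924
theorem L79928 : sm gc N9356 = N9356 := ded_28_1 (flp_e L79924) L55439 L79924
theorem L79929 : sm gg N9356 = N6472 := ded_41_2 (flp_e L55499) (flp_g L55436) L79924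
theorem L79931 : sm gj N9356 = N9356 := ded_42_2 (flp_e L79924) L55438 L79924
theorem L79932 : sm gd N6466 = N9357 := rfl
theorem L79934 : sm ga N9357 = N9357 := ded_12_1 (flp_d L79932) L55442 L79932
theorem L79935 : sm gg N9357 = N6473 := ded_36_2 (flp_d L55506) (flp_g L55445) L79932
theorem L79937 : sm gj N9357 = N9357 := ded_37_2 (flp_d L79932) L55447 L79932
theorem L79938 : sm gc N9357 = N9357 := ded_27_1 (flp_d L79932) L55443 L38573 (flp_c L55443) L79932
theorem L79939 : sm ge N9357 = N6750 := ded_34_2 (flp_d L57903) (flp_e L40206) (flp_d L38564) L55440 L79932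
theorem L79941 : sm gf N6466 = N9358 := rfl
theorem L79943 : sm ga N9358 = N9358 := ded_14_1 (flp_f L79941) L55442 L79941
theorem L79944 : sm gc N9358 = N6467 := ded_29_1 (flp_f L55448) (flp_c L55443) L79941
theorem L79946 : sm gj N9358 = N9358 := ded_46_2 (flp_f L79941) L55447 L79941
theorem L79947 : sm ge N9358 = N9358 := ded_40_1 (flp_f L79941) (flp_e L55440) L38560 L55440 L79941
theorem L79948 : sm gg N6467 = N9359 := rfl
theorem L79950 : sm ga N9359 = N9359 := ded_15_1 (flp_g L79948) L55450 L79948
theorem L79951 : sm gb N9359 = N9359 := ded_23_1 (flp_g L79948) L55451 L79948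
theorem L79952 : sm gd N9359 = N9359 := ded_36_1 (flp_g L79948) L55452 L79948
theorem L79953 : sm ge N9359 = N9359 := ded_41_1 (flp_g L79948) L55454 L79948
theorem L79954 : sm gf N9359 = N6475 := ded_45_1 (flp_g L55523) (flp_f L38612) (flp_g L38570) L55448 L79948
theorem L79956 : sm ga N6468 = N9360 := rfl
theorem L79959 : sm gd N9360 = N6758 := ded_12_2 (flp_a L57982) (flp_d L55457) L79956
theorem L79961 : sm gf N9360 = N6488 := ded_14_2 (flp_a L55631) (flp_f L55459) L79956
theorem L79963 : sm gj N9360 = N6476 := ded_16_2 (flp_a L55530) (flp_j L55461) L79956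
theorem L79966 : sm gi N9360 = N6471 := ded_18_2 (flp_a L55489) (flp_i L55464) L79956
theorem L79969 : sm ge N6468 = N9361 := rfl
theorem L79971 : sm gb N9361 = N6469 := ded_21_1 (flp_e L55467) L55455 L79969
theorem L79973 : sm gc N9361 = N9361 := ded_28_1 (flp_e L79969) L55466 L79969
theorem L79974 : sm gj N9361 = N6477 := ded_42_2 (flp_e L55542) (flp_j L55461) L79969
theorem L79976 : sm gh N9361 = N9361 := ded_43_2 (flp_e L79969) L55463 L79969
theorem L79977 : sm gi N9361 = N6472 := ded_44_2 (flp_e L55499) (flp_i L55464) L79969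
theorem L79979 : sm gd N6469 = N9362 := rfl
theorem L79981 : sm ga N9362 = N9362 := ded_12_1 (flp_d L79979) L55469 L79979
theorem L79982 : sm gj N9362 = N6478 := ded_37_2 (flp_d L55551) (flp_j L55472) L79979
theorem L79984 : sm gi N9362 = N6473 := ded_39_2 (flp_d L55506) (flp_i L55475) L79979
theorem L79986 : sm gc N9362 = N9362 := ded_27_1 (flp_d L79979) L55470 L38595 (flp_c L55470) L79979
theorem L79987 : sm ge N9362 = N6760 := ded_34_2 (flp_d L58003) (flp_e L40265) (flp_d L38584) L55467 L79979
theorem L79989 : sm gf N6469 = N9363 := rfl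
theorem L79991 : sm ga N9363 = N9363 := ded_14_1 (flp_f L79989) L55469 L79989
theorem L79992 : sm gc N9363 = N6470 := ded_29_1 (flp_f L55477) (flp_c L55470) L79989
theorem L79994 : sm gj N9363 = N6479 := ded_46_2 (flp_f L55560) (flp_j L55472) L79989
theorem L79996 : sm gh N9363 = N9363 := ded_47_2 (flp_f L79989) L55474 L79989
theorem L79997 : sm gi N9363 = N6474 := ded_48_2 (flp_f L55514) (flp_i L55475) L79989
theorem L79999 : sm ge N9363 = N6491 := ded_40_1 (flp_f L55666) (flp_e L38699) (flp_f L38577) L55467 L79989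
theorem L80001 : sm gg N6470 = N9364 := rfl
theorem L80003 : sm ga N9364 = N9364 := ded_15_1 (flp_g L80001) L55479 L80001
theorem L80004 : sm gb N9364 = N9364 := ded_23_1 (flp_g L80001) L55480 L80001
theorem L80005 : sm gd N9364 = N9364 := ded_36_1 (flp_g L80001) L55481 L80001
theorem L80006 : sm ge N9364 = N6492 := ded_41_1 (flp_g L55676) (flp_e L55487) L80001
theorem L80008 : sm gh N9364 = N9364 := ded_50_2 (flp_g L80001) L55484 L80001
theorem L80009 : sm gi N9364 = N6475 := ded_51_2 (flp_g L55523) (flp_i L55485) L80001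
theorem L80011 : sm ge N6471 = N9365 := rfl
theorem L80013 : sm ga N9365 = N6472 := ded_13_1 (flp_e L55499) L55489 L80011
theorem L80015 : sm gb N9365 = N9365 := ded_21_1 (flp_e L80011) L55498 L80011
theorem L80016 : sm gc N9365 = N9365 := ded_28_1 (flp_e L80011) L55491 L80011
theorem L80017 : sm gj N9365 = N6481 := ded_42_2 (flp_e L55581) (flp_j L55496) L80011
theorem L80019 : sm gd N6472 = N9366 := rfl
theorem L80021 : sm gb N9366 = N6473 := ded_20_1 (flp_d L55506) (flp_b L55501) L80019
theorem L80023 : sm gj N9366 = N6482 := ded_37_2 (flp_d L55588) (flp_j L55504) L80019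
theorem L80025 : sm ge N9366 = N6764 := ded_34_2 (flp_d L58042) (flp_e L40296) (flp_d L38598) L55499 L80019
theorem L80027 : sm gf N6472 = N9367 := rfl
theorem L80029 : sm gb N9367 = N6474 := ded_22_1 (flp_f L55514) (flp_b L55501) L80027
theorem L80031 : sm gc N9367 = N9367 := ded_29_1 (flp_f L80027) L55503 L80027
theorem L80032 : sm gj N9367 = N6483 := ded_46_2 (flp_f L55595) (flp_j L55504) L80027
theorem L80034 : sm ge N9367 = N6495 := ded_40_1 (flp_f L55704) (flp_e L38730) (flp_f L38600) L55499 L80027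
theorem L80036 : sm gf N6473 = N9368 := rfl
theorem L80038 : sm ga N9368 = N9368 := ded_14_1 (flp_f L80036) L55508 L80036
theorem L80039 : sm gc N9368 = N9368 := ded_29_1 (flp_f L80036) L55511 L80036
theorem L80040 : sm gd N9368 = N6474 := ded_35_1 (flp_f L55514) L55506 L80036
theorem L80042 : sm gj N9368 = N6484 := ded_46_2 (flp_f L55602) (flp_j L55509) L80036
theorem L80044 : sm gh N6473 = N9369 := rfl
theorem L80046 : sm ga N9369 = N9369 := ded_17_1 (flp_h L80044) L55508 L80044
theorem L80047 : sm gc N9369 = N9369 := ded_32_1 (flp_h L80044) L55511 L80044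
theorem L80048 : sm ge N9369 = N6767 := ded_43_1 (flp_h L58067) (flp_e L55512) L80044
theorem L80050 : sm gj N9369 = N6485 := ded_52_1 (flp_h L55608) (flp_j L55509) L80044
theorem L80052 : sm gg N6474 = N9370 := rfl
theorem L80054 : sm ga N9370 = N9370 := ded_15_1 (flp_g L80052) L55516 L80052
theorem L80055 : sm gc N9370 = N6475 := ded_30_1 (flp_g L55523) (flp_c L55517) L80052
theorem L80057 : sm ge N9370 = N6498 := ded_41_1 (flp_g L55730) (flp_e L55521) L80052
theorem L80059 : sm gj N6475 = N9371 := rfl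
theorem L80061 : sm ga N9371 = N9371 := ded_16_1 (flp_j L80059) L55525 L80059
theorem L80062 : sm gb N9371 = N9371 := ded_24_1 (flp_j L80059) L55526 L80059
theorem L80063 : sm gd N9371 = N9371 := ded_37_1 (flp_j L80059) L55527 L80059
theorem L80064 : sm ge N9371 = N6499 := ded_42_1 (flp_j L55736) (flp_e L55528) L80059
theorem L80066 : sm gg N9371 = N6487 := ded_49_1 (flp_j L55623) (flp_g L38680) (flp_j L38617) L55523 L80059
theorem L80068 : sm ge N6476 = N9372 := rfl
theorem L80070 : sm ga N9372 = N6477 := ded_13_1 (flp_e L55542) L55530 L80068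
theorem L80076 : sm gi N9372 = N6481 := ded_44_2 (flp_e L55581) (flp_i L55539) L80068
theorem L80078 : sm gd N6477 = N9373 := rfl
theorem L80080 : sm gb N9373 = N6478 := ded_20_1 (flp_d L55551) (flp_b L55544) L80078
theorem L80082 : sm gg N9373 = N9373 := ded_36_2 (flp_d L80078) L55547 L80078
theorem L80083 : sm gi N9373 = N6482 := ded_39_2 (flp_d L55588) (flp_i L55549) L80078
theorem L80085 : sm ge N9373 = N6779 := ded_34_2 (flp_d L58179) (flp_e L40388) (flp_d L38623) L55542 L80078
theorem L80087 : sm gf N6477 = N9374 := rfl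
theorem L80089 : sm gb N9374 = N6479 := ded_22_1 (flp_f L55560) (flp_b L55544) L80087
theorem L80091 : sm gc N9374 = N9374 := ded_29_1 (flp_f L80087) L55546 L80087
theorem L80092 : sm gh N9374 = N9374 := ded_47_2 (flp_f L80087) L55548 L80087
theorem L80093 : sm gi N9374 = N6483 := ded_48_2 (flp_f L55595) (flp_i L55549) L80087
theorem L80095 : sm ge N9374 = N6502 := ded_40_1 (flp_f L55766) (flp_e L38773) (flp_f L38625) L55542 L80087
theorem L80097 : sm gf N6478 = N9375 := rfl
theorem L80099 : sm ga N9375 = N9375 := ded_14_1 (flp_f L80097) L55553 L80097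
theorem L80100 : sm gc N9375 = N9375 := ded_29_1 (flp_f L80097) L55557 L80097
theorem L80101 : sm gd N9375 = N6479 := ded_35_1 (flp_f L55560) L55551 L80097
theorem L80103 : sm gi N9375 = N6484 := ded_48_2 (flp_f L55602) (flp_i L55555) L80097
theorem L80105 : sm gh N6478 = N9376 := rfl
theorem L80107 : sm ga N9376 = N9376 := ded_17_1 (flp_h L80105) L55553 L80105
theorem L80108 : sm gc N9376 = N9376 := ded_32_1 (flp_h L80105) L55557 L80105
theorem L80109 : sm ge N9376 = N6782 := ded_43_1 (flp_h L58204) (flp_e L55558) L80105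
theorem L80111 : sm gg N9376 = N9376 := ded_50_1 (flp_h L80105) L55554 L80105
theorem L80112 : sm gd N9376 = N9376 := ded_38_1 (flp_h L80105) (flp_d L55551) L38638 L55551 L80105
theorem L80113 : sm gg N6479 = N9377 := rfl
theorem L80115 : sm ga N9377 = N9377 := ded_15_1 (flp_g L80113) L55562 L80113
theorem L80116 : sm gc N9377 = N6480 := ded_30_1 (flp_g L55570) (flp_c L55563) L80113
theorem L80118 : sm ge N9377 = N6505 := ded_41_1 (flp_g L55793) (flp_e L55568) L80113
theorem L80120 : sm gh N9377 = N9377 := ded_50_2 (flp_g L80113) L55565 L80113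
theorem L80121 : sm gi N9377 = N6486 := ded_51_2 (flp_g L55615) (flp_i L55566) L80113
theorem L80123 : sm gf N9377 = N9377 := ded_45_1 (flp_g L80113) (flp_f L55560) L38637 L55560 L80113
theorem L80124 : sm gj N6480 = N9378 := rfl
theorem L80126 : sm ga N9378 = N9378 := ded_16_1 (flp_j L80124) L55572 L80124
theorem L80127 : sm gb N9378 = N9378 := ded_24_1 (flp_j L80124) L55573 L80124
theorem L80128 : sm gd N9378 = N9378 := ded_37_1 (flp_j L80124) L55574 L80124
theorem L80129 : sm ge N9378 = N6506 := ded_42_1 (flp_j L55803) (flp_e L55575) L80124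
theorem L80131 : sm gf N9378 = N9378 := ded_46_1 (flp_j L80124) L55580 L80124
theorem L80132 : sm gh N9378 = N9378 := ded_52_2 (flp_j L80124) L55577 L80124
theorem L80133 : sm gi N9378 = N6487 := ded_53_2 (flp_j L55623) (flp_i L55578) L80124
theorem L80135 : sm gd N6481 = N9379 := rfl
theorem L80137 : sm ga N9379 = N6482 := ded_12_1 (flp_d L55588) (flp_a L55583) L80135
theorem L80139 : sm gb N9379 = N9379 := ded_20_1 (flp_d L80135) L55585 L80135
theorem L80140 : sm gg N9379 = N9379 := ded_36_2 (flp_d L80135) L55587 L80135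
theorem L80141 : sm ge N9379 = N6785 := ded_34_2 (flp_d L58230) (flp_e L40424) (flp_d L38654) L55581 L80135
theorem L80143 : sm gf N6481 = N9380 := rfl
theorem L80145 : sm ga N9380 = N6483 := ded_14_1 (flp_f L55595) (flp_a L55583) L80143
theorem L80147 : sm gb N9380 = N9380 := ded_22_1 (flp_f L80143) L55585 L80143
theorem L80148 : sm gc N9380 = N9380 := ded_29_1 (flp_f L80143) L55586 L80143
theorem L80149 : sm ge N9380 = N6508 := ded_40_1 (flp_f L55823) (flp_e L38813) (flp_f L38656) L55581 L80143
theorem L80151 : sm gc N6482 = N9381 := rfl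
theorem L80153 : sm ge N9381 = N6787 := ded_28_2 (flp_c L58246) (flp_e L55593) L80151
theorem L80155 : sm gg N9381 = N9381 := ded_30_2 (flp_c L80151) L55592 L80151
theorem L80156 : sm gb N9381 = N9381 := ded_19_1 (flp_c L80151) L55590 L38670 (flp_b L55590) L80151
theorem L80157 : sm gd N9381 = N9381 := ded_27_2 (flp_c L80151) (flp_d L55588) L38664 L55588 L80151
theorem L80158 : sm gf N6482 = N9382 := rfl
theorem L80160 : sm gb N9382 = N6484 := ded_22_1 (flp_f L55602) (flp_b L55590) L80158
theorem L80162 : sm gd N9382 = N6483 := ded_35_1 (flp_f L55595) L55588 L80158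
theorem L80164 : sm gh N6482 = N9383 := rfl
theorem L80166 : sm gb N9383 = N6485 := ded_25_1 (flp_h L55608) (flp_b L55590) L80164
theorem L80168 : sm ge N9383 = N6789 := ded_43_1 (flp_h L58258) (flp_e L55593) L80164
theorem L80170 : sm gg N9383 = N9383 := ded_50_1 (flp_h L80164) L55592 L80164
theorem L80171 : sm gg N6483 = N9384 := rfl
theorem L80173 : sm gb N9384 = N6486 := ded_23_1 (flp_g L55615) (flp_b L55597) L80171
theorem L80175 : sm gc N9384 = N9384 := ded_30_1 (flp_g L80171) L55599 L80171
theorem L80176 : sm ge N9384 = N6512 := ded_41_1 (flp_g L55852) (flp_e L55600) L80171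
theorem L80178 : sm gf N9384 = N9384 := ded_45_1 (flp_g L80171) (flp_f L55595) L38665 L55595 L80171
theorem L80179 : sm ge N6484 = N9385 := rfl
theorem L80181 : sm ga N9385 = N9385 := ded_13_1 (flp_e L80179) L55604 L80179
theorem L80182 : sm gc N9385 = N9385 := ded_28_1 (flp_e L80179) L55605 L80179
theorem L80183 : sm gd N9385 = N6513 := ded_34_1 (flp_e L55859) L38839 (flp_e L38678) (flp_d L55606) L80179
theorem L80185 : sm gf N9385 = N6791 := ded_40_2 (flp_e L58274) (flp_f L40447) (flp_e L38671) L55602 L80179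
theorem L80187 : sm gg N6484 = N9386 := rfl
theorem L80189 : sm ga N9386 = N9386 := ded_15_1 (flp_g L80187) L55604 L80187
theorem L80190 : sm gc N9386 = N9386 := ded_30_1 (flp_g L80187) L55605 L80187
theorem L80191 : sm gd N9386 = N6486 := ded_36_1 (flp_g L55615) (flp_d L55606) L80187
theorem L80193 : sm gf N9386 = N9386 := ded_45_1 (flp_g L80187) (flp_f L55602) L38669 L55602 L80187
theorem L80194 : sm gh N6484 = N9387 := rfl
theorem L80196 : sm ga N9387 = N9387 := ded_17_1 (flp_h L80194) L55604 L80194
theorem L80197 : sm gc N9387 = N9387 := ded_32_1 (flp_h L80194) L55605 L80194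
theorem L80198 : sm gf N9387 = N6485 := ded_47_1 (flp_h L55608) L55602 L80194
theorem L80200 : sm gi N6485 = N9388 := rfl
theorem L80202 : sm ga N9388 = N9388 := ded_18_1 (flp_i L80200) L55610 L80200
theorem L80203 : sm gc N9388 = N9388 := ded_33_1 (flp_i L80200) L55611 L80200
theorem L80204 : sm ge N9388 = N6794 := ded_44_1 (flp_i L58294) (flp_e L55612) L80200
theorem L80206 : sm gg N9388 = N9388 := ded_51_1 (flp_i L80200) L55614 L80200
theorem L80207 : sm gj N6486 = N9389 := rfl
theorem L80209 : sm ga N9389 = N9389 := ded_16_1 (flp_j L80207) L55617 L80207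
theorem L80210 : sm gc N9389 = N6487 := ded_31_1 (flp_j L55623) (flp_c L55618) L80207
theorem L80212 : sm ge N9389 = N6517 := ded_42_1 (flp_j L55891) (flp_e L55620) L80207
theorem L80214 : sm gf N9389 = N9389 := ded_46_1 (flp_j L80207) L55622 L80207
theorem L80215 : sm ge N6488 = N9390 := rfl
theorem L80217 : sm ga N9390 = N6489 := ded_13_1 (flp_e L55643) L55631 L80215
theorem L80222 : sm gj N9390 = N6500 := ded_42_2 (flp_e L55745) (flp_j L55637) L80215
theorem L80225 : sm gi N9390 = N6493 := ded_44_2 (flp_e L55686) (flp_i L55640) L80215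
theorem L80227 : sm gd N6489 = N9391 := rfl
theorem L80229 : sm gb N9391 = N6490 := ded_20_1 (flp_d L55654) (flp_b L55645) L80227
theorem L80231 : sm gg N9391 = N9391 := ded_36_2 (flp_d L80227) L55648 L80227
theorem L80232 : sm gj N9391 = N6501 := ded_37_2 (flp_d L55756) (flp_j L55649) L80227
theorem L80234 : sm gi N9391 = N6494 := ded_39_2 (flp_d L55695) (flp_i L55652) L80227
theorem L80236 : sm ge N9391 = N6802 := ded_34_2 (flp_d L58374) (flp_e L40521) (flp_d L38690) L55643 L80227
theorem L80238 : sm gf N6489 = N9392 := rfl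
theorem L80240 : sm gb N9392 = N6491 := ded_22_1 (flp_f L55666) (flp_b L55645) L80238
theorem L80242 : sm gc N9392 = N9392 := ded_29_1 (flp_f L80238) L55647 L80238
theorem L80243 : sm gj N9392 = N6502 := ded_46_2 (flp_f L55766) (flp_j L55649) L80238
theorem L80245 : sm gh N9392 = N9392 := ded_47_2 (flp_f L80238) L55651 L80238
theorem L80246 : sm gi N9392 = N6495 := ded_48_2 (flp_f L55704) (flp_i L55652) L80238
theorem L80248 : sm gf N6490 = N9393 := rfl
theorem L80250 : sm ga N9393 = N9393 := ded_14_1 (flp_f L80248) L55656 L80248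
theorem L80251 : sm gc N9393 = N6553 := ded_29_1 (flp_f L56214) (flp_c L55662) L80248
theorem L80253 : sm gd N9393 = N6491 := ded_35_1 (flp_f L55666) L55654 L80248
theorem L80255 : sm gj N9393 = N6503 := ded_46_2 (flp_f L55774) (flp_j L55658) L80248
theorem L80257 : sm gi N9393 = N6496 := ded_48_2 (flp_f L55711) (flp_i L55660) L80248
theorem L80259 : sm gh N6490 = N9394 := rfl
theorem L80261 : sm ga N9394 = N9394 := ded_17_1 (flp_h L80259) L55656 L80259
theorem L80262 : sm gc N9394 = N6554 := ded_32_1 (flp_h L56223) (flp_c L55662) L80259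
theorem L80264 : sm ge N9394 = N6805 := ded_43_1 (flp_h L58404) (flp_e L55664) L80259
theorem L80266 : sm gg N9394 = N9394 := ded_50_1 (flp_h L80259) L55657 L80259
theorem L80267 : sm gj N9394 = N6504 := ded_52_1 (flp_h L55783) (flp_j L55658) L80259
theorem L80269 : sm gd N9394 = N9394 := ded_38_1 (flp_h L80259) (flp_d L55654) L38707 L55654 L80259
theorem L80270 : sm gg N6491 = N9395 := rfl
theorem L80272 : sm ga N9395 = N9395 := ded_15_1 (flp_g L80270) L55668 L80270
theorem L80273 : sm gc N9395 = N6492 := ded_30_1 (flp_g L55676) (flp_c L55669) L80270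
theorem L80275 : sm gh N9395 = N9395 := ded_50_2 (flp_g L80270) L55673 L80270
theorem L80276 : sm gi N9395 = N6498 := ded_51_2 (flp_g L55730) (flp_i L55674) L80270
theorem L80278 : sm gf N9395 = N9395 := ded_45_1 (flp_g L80270) (flp_f L55666) L38704 L55666 L80270
theorem L80279 : sm gj N6492 = N9396 := rfl
theorem L80281 : sm ga N9396 = N9396 := ded_16_1 (flp_j L80279) L55678 L80279
theorem L80282 : sm gb N9396 = N9396 := ded_24_1 (flp_j L80279) L55679 L80279
theorem L80283 : sm gd N9396 = N6556 := ded_37_1 (flp_j L56240) (flp_d L55680) L80279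
theorem L80285 : sm gf N9396 = N9396 := ded_46_1 (flp_j L80279) L55685 L80279
theorem L80286 : sm gh N9396 = N9396 := ded_52_2 (flp_j L80279) L55682 L80279
theorem L80287 : sm gi N9396 = N6499 := ded_53_2 (flp_j L55736) (flp_i L55683) L80279
theorem L80289 : sm gg N9396 = N6506 := ded_49_1 (flp_j L55803) (flp_g L38802) (flp_j L38716) L55676 L80279
theorem L80291 : sm gd N6493 = N9397 := rfl
theorem L80293 : sm ga N9397 = N6494 := ded_12_1 (flp_d L55695) (flp_a L55688) L80291
theorem L80295 : sm gb N9397 = N9397 := ded_20_1 (flp_d L80291) L55690 L80291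
theorem L80296 : sm gg N9397 = N9397 := ded_36_2 (flp_d L80291) L55692 L80291
theorem L80297 : sm gj N9397 = N6507 := ded_37_2 (flp_d L55814) (flp_j L55693) L80291
theorem L80299 : sm ge N9397 = N6808 := ded_34_2 (flp_d L58432) (flp_e L40561) (flp_d L38724) L55686 L80291
theorem L80301 : sm gf N6493 = N9398 := rfl
theorem L80303 : sm ga N9398 = N6495 := ded_14_1 (flp_f L55704) (flp_a L55688) L80301
theorem L80305 : sm gb N9398 = N9398 := ded_22_1 (flp_f L80301) L55690 L80301
theorem L80306 : sm gc N9398 = N9398 := ded_29_1 (flp_f L80301) L55691 L80301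
theorem L80307 : sm gj N9398 = N6508 := ded_46_2 (flp_f L55823) (flp_j L55693) L80301
theorem L80309 : sm gc N6494 = N9399 := rfl
theorem L80311 : sm ge N9399 = N6810 := ded_28_2 (flp_c L58450) (flp_e L55702) L80309
theorem L80313 : sm gg N9399 = N9399 := ded_30_2 (flp_c L80309) L55699 L80309
theorem L80314 : sm gj N9399 = N6509 := ded_31_2 (flp_c L55829) (flp_j L55700) L80309
theorem L80316 : sm gb N9399 = N6559 := ded_19_1 (flp_c L56270) L39111 (flp_c L38744) (flp_b L55697) L80309
theorem L80318 : sm gd N9399 = N9399 := ded_27_2 (flp_c L80309) (flp_d L55695) L38734 L55695 L80309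
theorem L80319 : sm gf N6494 = N9400 := rfl
theorem L80321 : sm gb N9400 = N6496 := ded_22_1 (flp_f L55711) (flp_b L55697) L80319
theorem L80323 : sm gd N9400 = N6495 := ded_35_1 (flp_f L55704) L55695 L80319
theorem L80325 : sm gj N9400 = N6510 := ded_46_2 (flp_f L55838) (flp_j L55700) L80319
theorem L80327 : sm gh N6494 = N9401 := rfl
theorem L80329 : sm gb N9401 = N6497 := ded_25_1 (flp_h L55720) (flp_b L55697) L80327
theorem L80331 : sm ge N9401 = N6812 := ded_43_1 (flp_h L58467) (flp_e L55702) L80327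
theorem L80333 : sm gg N9401 = N9401 := ded_50_1 (flp_h L80327) L55699 L80327
theorem L80334 : sm gj N9401 = N6511 := ded_52_1 (flp_h L55844) (flp_j L55700) L80327
theorem L80336 : sm gg N6495 = N9402 := rfl
theorem L80338 : sm gb N9402 = N6498 := ded_23_1 (flp_g L55730) (flp_b L55706) L80336
theorem L80340 : sm gc N9402 = N9402 := ded_30_1 (flp_g L80336) L55708 L80336
theorem L80341 : sm gf N9402 = N9402 := ded_45_1 (flp_g L80336) (flp_f L55704) L38735 L55704 L80336
theorem L80342 : sm ge N6496 = N9403 := rfl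
theorem L80344 : sm ga N9403 = N9403 := ded_13_1 (flp_e L80342) L55713 L80342
theorem L80345 : sm gc N9403 = N6563 := ded_28_1 (flp_e L56304) (flp_c L55714) L80342
theorem L80347 : sm gj N9403 = N6513 := ded_42_2 (flp_e L55859) (flp_j L55718) L80342
theorem L80349 : sm gf N9403 = N6814 := ded_40_2 (flp_e L58483) (flp_f L40588) (flp_e L38746) L55711 L80342
theorem L80351 : sm gg N6496 = N9404 := rfl
theorem L80353 : sm ga N9404 = N9404 := ded_15_1 (flp_g L80351) L55713 L80351
theorem L80354 : sm gc N9404 = N6564 := ded_30_1 (flp_g L56312) (flp_c L55714) L80351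
theorem L80356 : sm gd N9404 = N6498 := ded_36_1 (flp_g L55730) (flp_d L55716) L80351
theorem L80358 : sm gf N9404 = N9404 := ded_45_1 (flp_g L80351) (flp_f L55711) L38741 L55711 L80351
theorem L80359 : sm gh N6496 = N9405 := rfl
theorem L80361 : sm ga N9405 = N9405 := ded_17_1 (flp_h L80359) L55713 L80359
theorem L80362 : sm gc N9405 = N6565 := ded_32_1 (flp_h L56318) (flp_c L55714) L80359
theorem L80364 : sm gf N9405 = N6497 := ded_47_1 (flp_h L55720) L55711 L80359
theorem L80366 : sm gj N9405 = N6515 := ded_52_1 (flp_h L55875) (flp_j L55718) L80359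
theorem L80368 : sm gi N6497 = N9406 := rfl
theorem L80370 : sm ga N9406 = N9406 := ded_18_1 (flp_i L80368) L55722 L80368
theorem L80371 : sm gc N9406 = N6566 := ded_33_1 (flp_i L56326) (flp_c L55723) L80368
theorem L80373 : sm ge N9406 = N6817 := ded_44_1 (flp_i L58508) (flp_e L55725) L80368
theorem L80375 : sm gg N9406 = N9406 := ded_51_1 (flp_i L80368) L55727 L80368
theorem L80376 : sm gj N9406 = N6516 := ded_53_1 (flp_i L55882) (flp_j L55728) L80368
theorem L80378 : sm gj N6498 = N9407 := rfl
theorem L80380 : sm ga N9407 = N9407 := ded_16_1 (flp_j L80378) L55732 L80378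
theorem L80381 : sm gc N9407 = N6499 := ded_31_1 (flp_j L55736) (flp_c L55733) L80378
theorem L80383 : sm gf N9407 = N9407 := ded_46_1 (flp_j L80378) L55735 L80378
theorem L80384 : sm gg N9407 = N6517 := ded_49_1 (flp_j L55891) (flp_g L38850) (flp_j L38753) L55730 L80378
theorem L80386 : sm gd N6500 = N9408 := rfl
theorem L80388 : sm ga N9408 = N6501 := ded_12_1 (flp_d L55756) (flp_a L55747) L80386
theorem L80391 : sm gg N9408 = N6518 := ded_36_2 (flp_d L55898) (flp_g L55751) L80386
theorem L80393 : sm gi N9408 = N6507 := ded_39_2 (flp_d L55814) (flp_i L55754) L80386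
theorem L80395 : sm ge N9408 = N6826 := ded_34_2 (flp_d L58592) (flp_e L40673) (flp_d L38765) L55745 L80386
theorem L80397 : sm gf N6500 = N9409 := rfl
theorem L80399 : sm ga N9409 = N6502 := ded_14_1 (flp_f L55766) (flp_a L55747) L80397
theorem L80404 : sm gi N9409 = N6508 := ded_48_2 (flp_f L55823) (flp_i L55754) L80397
theorem L80406 : sm gc N6501 = N9410 := rfl
theorem L80408 : sm ge N9410 = N6828 := ded_28_2 (flp_c L58610) (flp_e L55764) L80406
theorem L80410 : sm gg N9410 = N6520 := ded_30_2 (flp_c L55919) (flp_g L55760) L80406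
theorem L80412 : sm gi N9410 = N6509 := ded_33_2 (flp_c L55829) (flp_i L55762) L80406
theorem L80414 : sm gb N9410 = N6577 := ded_19_1 (flp_c L56431) L39221 (flp_c L38790) (flp_b L55758) L80406
theorem L80416 : sm gd N9410 = N9410 := ded_27_2 (flp_c L80406) (flp_d L55756) L38777 L55756 L80406
theorem L80417 : sm gf N6501 = N9411 := rfl
theorem L80419 : sm gb N9411 = N6503 := ded_22_1 (flp_f L55774) (flp_b L55758) L80417
theorem L80421 : sm gd N9411 = N6502 := ded_35_1 (flp_f L55766) L55756 L80417
theorem L80423 : sm gi N9411 = N6510 := ded_48_2 (flp_f L55838) (flp_i L55762) L80417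
theorem L80425 : sm gh N6501 = N9412 := rfl
theorem L80427 : sm gb N9412 = N6504 := ded_25_1 (flp_h L55783) (flp_b L55758) L80425
theorem L80429 : sm ge N9412 = N6830 := ded_43_1 (flp_h L58628) (flp_e L55764) L80425
theorem L80431 : sm gg N9412 = N6522 := ded_50_1 (flp_h L55938) (flp_g L55760) L80425
theorem L80433 : sm gd N9412 = N9412 := ded_38_1 (flp_h L80425) (flp_d L55756) L38780 L55756 L80425
theorem L80434 : sm gg N6502 = N9413 := rfl
theorem L80436 : sm gb N9413 = N6505 := ded_23_1 (flp_g L55793) (flp_b L55768) L80434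
theorem L80438 : sm gc N9413 = N9413 := ded_30_1 (flp_g L80434) L55770 L80434
theorem L80439 : sm gh N9413 = N9413 := ded_50_2 (flp_g L80434) L55771 L80434
theorem L80440 : sm gi N9413 = N6512 := ded_51_2 (flp_g L55852) (flp_i L55772) L80434
theorem L80442 : sm gf N9413 = N6523 := ded_45_1 (flp_g L55946) (flp_f L38884) (flp_g L38778) L55766 L80434
theorem L80444 : sm ge N6503 = N9414 := rfl
theorem L80446 : sm ga N9414 = N9414 := ded_13_1 (flp_e L80444) L55776 L80444
theorem L80447 : sm gc N9414 = N6581 := ded_28_1 (flp_e L56466) (flp_c L55777) L80444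
theorem L80449 : sm gi N9414 = N6513 := ded_44_2 (flp_e L55859) (flp_i L55781) L80444
theorem L80451 : sm gf N9414 = N6832 := ded_40_2 (flp_e L58644) (flp_f L40700) (flp_e L38792) L55774 L80444
theorem L80453 : sm gg N6503 = N9415 := rfl
theorem L80455 : sm ga N9415 = N9415 := ded_15_1 (flp_g L80453) L55776 L80453
theorem L80456 : sm gc N9415 = N6582 := ded_30_1 (flp_g L56474) (flp_c L55777) L80453
theorem L80458 : sm gd N9415 = N6505 := ded_36_1 (flp_g L55793) (flp_d L55779) L80453
theorem L80460 : sm gi N9415 = N6514 := ded_51_2 (flp_g L55866) (flp_i L55781) L80453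
theorem L80462 : sm gf N9415 = N6525 := ded_45_1 (flp_g L55966) (flp_f L38894) (flp_g L38786) L55774 L80453
theorem L80464 : sm gh N6503 = N9416 := rfl
theorem L80466 : sm ga N9416 = N9416 := ded_17_1 (flp_h L80464) L55776 L80464
theorem L80467 : sm gc N9416 = N6583 := ded_32_1 (flp_h L56483) (flp_c L55777) L80464
theorem L80469 : sm gf N9416 = N6504 := ded_47_1 (flp_h L55783) L55774 L80464
theorem L80471 : sm gd N9416 = N9416 := ded_38_1 (flp_h L80464) L55779 L38799 (flp_d L55779) L80464
theorem L80472 : sm gi N6504 = N9417 := rfl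
theorem L80474 : sm ga N9417 = N9417 := ded_18_1 (flp_i L80472) L55785 L80472
theorem L80475 : sm gc N9417 = N6584 := ded_33_1 (flp_i L56488) (flp_c L55786) L80472
theorem L80477 : sm gd N9417 = N9417 := ded_39_1 (flp_i L80472) L55792 L80472
theorem L80478 : sm ge N9417 = N6835 := ded_44_1 (flp_i L58669) (flp_e L55788) L80472
theorem L80480 : sm gg N9417 = N6527 := ded_51_1 (flp_i L55984) (flp_g L55790) L80472
theorem L80482 : sm gh N9417 = N6516 := ded_54_1 (flp_i L55882) (flp_h L38841) (flp_i L38788) L55783 L80472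
theorem L80484 : sm gj N6505 = N9418 := rfl
theorem L80486 : sm ga N9418 = N9418 := ded_16_1 (flp_j L80484) L55795 L80484
theorem L80487 : sm gc N9418 = N6506 := ded_31_1 (flp_j L55803) (flp_c L55796) L80484
theorem L80489 : sm gf N9418 = N6528 := ded_46_1 (flp_j L55995) (flp_f L55801) L80484
theorem L80491 : sm gh N9418 = N9418 := ded_52_2 (flp_j L80484) L55798 L80484
theorem L80492 : sm gi N9418 = N6517 := ded_53_2 (flp_j L55891) (flp_i L55799) L80484
theorem L80494 : sm gc N6507 = N9419 := rfl
theorem L80496 : sm ga N9419 = N6509 := ded_11_1 (flp_c L55829) (flp_a L55816) L80494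
theorem L80498 : sm ge N9419 = N6837 := ded_28_2 (flp_c L58687) (flp_e L55821) L80494
theorem L80500 : sm gg N9419 = N6529 := ded_30_2 (flp_c L56005) (flp_g L55819) L80494
theorem L80502 : sm gd N9419 = N9419 := ded_27_2 (flp_c L80494) (flp_d L55814) L38818 L55814 L80494
theorem L80503 : sm gf N6507 = N9420 := rfl
theorem L80505 : sm ga N9420 = N6510 := ded_14_1 (flp_f L55838) (flp_a L55816) L80503
theorem L80507 : sm gb N9420 = N9420 := ded_22_1 (flp_f L80503) L55818 L80503
theorem L80508 : sm gd N9420 = N6508 := ded_35_1 (flp_f L55823) L55814 L80503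
theorem L80510 : sm gh N6507 = N9421 := rfl
theorem L80512 : sm ga N9421 = N6511 := ded_17_1 (flp_h L55844) (flp_a L55816) L80510
theorem L80514 : sm gb N9421 = N9421 := ded_25_1 (flp_h L80510) L55818 L80510
theorem L80515 : sm ge N9421 = N6839 := ded_43_1 (flp_h L58702) (flp_e L55821) L80510
theorem L80517 : sm gg N9421 = N6531 := ded_50_1 (flp_h L56021) (flp_g L55819) L80510
theorem L80519 : sm gg N6508 = N9422 := rfl
theorem L80521 : sm ga N9422 = N6512 := ded_15_1 (flp_g L55852) (flp_a L55825) L80519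
theorem L80523 : sm gb N9422 = N9422 := ded_23_1 (flp_g L80519) L55827 L80519
theorem L80524 : sm gc N9422 = N9422 := ded_30_1 (flp_g L80519) L55828 L80519
theorem L80525 : sm gf N9422 = N6532 := ded_45_1 (flp_g L56029) (flp_f L38941) (flp_g L38819) L55823 L80519
theorem L80527 : sm gf N6509 = N9423 := rfl
theorem L80529 : sm gb N9423 = N6590 := ded_22_1 (flp_f L56543) (flp_b L55835) L80527
theorem L80531 : sm gc N9423 = N6510 := ded_29_1 (flp_f L55838) L55829 L80527
theorem L80533 : sm gd N9423 = N9423 := ded_35_1 (flp_f L80527) L55837 L80527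
theorem L80534 : sm gh N6509 = N9424 := rfl
theorem L80536 : sm gb N9424 = N6591 := ded_25_1 (flp_h L56548) (flp_b L55835) L80534
theorem L80538 : sm gc N9424 = N6511 := ded_32_1 (flp_h L55844) L55829 L80534
theorem L80540 : sm ge N9424 = N6842 := ded_43_1 (flp_h L58728) (flp_e L55831) L80534
theorem L80542 : sm gg N9424 = N6534 := ded_50_1 (flp_h L56044) (flp_g L55833) L80534
theorem L80544 : sm ge N6510 = N9425 := rfl
theorem L80546 : sm gb N9425 = N6513 := ded_21_1 (flp_e L55859) (flp_b L55840) L80544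
theorem L80548 : sm gf N9425 = N6843 := ded_40_2 (flp_e L58736) (flp_f L40759) (flp_e L38827) L55838 L80544
theorem L80550 : sm gg N6510 = N9426 := rfl
theorem L80552 : sm gb N9426 = N6514 := ded_23_1 (flp_g L55866) (flp_b L55840) L80550
theorem L80554 : sm gd N9426 = N6512 := ded_36_1 (flp_g L55852) (flp_d L55842) L80550
theorem L80556 : sm gf N9426 = N6536 := ded_45_1 (flp_g L56061) (flp_f L38957) (flp_g L38825) L55838 L80550
theorem L80558 : sm gh N6510 = N9427 := rfl
theorem L80560 : sm gb N9427 = N6515 := ded_25_1 (flp_h L55875) (flp_b L55840) L80558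
theorem L80562 : sm gf N9427 = N6511 := ded_47_1 (flp_h L55844) L55838 L80558
theorem L80564 : sm gi N6511 = N9428 := rfl
theorem L80566 : sm gb N9428 = N6516 := ded_26_1 (flp_i L55882) (flp_b L55846) L80564
theorem L80568 : sm ge N9428 = N6846 := ded_44_1 (flp_i L58755) (flp_e L55848) L80564
theorem L80570 : sm gg N9428 = N6538 := ded_51_1 (flp_i L56074) (flp_g L55850) L80564
theorem L80572 : sm gj N6512 = N9429 := rfl
theorem L80574 : sm gb N9429 = N6517 := ded_24_1 (flp_j L55891) (flp_b L55854) L80572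
theorem L80576 : sm gc N9429 = N9429 := ded_31_1 (flp_j L80572) L55856 L80572
theorem L80577 : sm gf N9429 = N6539 := ded_46_1 (flp_j L56081) (flp_f L55857) L80572
theorem L80579 : sm gg N6513 = N9430 := rfl
theorem L80581 : sm ga N9430 = N9430 := ded_15_1 (flp_g L80579) L55861 L80579
theorem L80582 : sm gc N9430 = N6597 := ded_30_1 (flp_g L56596) (flp_c L55862) L80579
theorem L80584 : sm ge N9430 = N6514 := ded_41_1 (flp_g L55866) L55859 L80579
theorem L80586 : sm gh N6513 = N9431 := rfl
theorem L80588 : sm ga N9431 = N9431 := ded_17_1 (flp_h L80586) L55861 L80586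
theorem L80589 : sm gc N9431 = N6598 := ded_32_1 (flp_h L56602) (flp_c L55862) L80586
theorem L80591 : sm ge N9431 = N6515 := ded_43_1 (flp_h L55875) L55859 L80586
theorem L80593 : sm gf N9431 = N6849 := ded_47_1 (flp_h L58778) (flp_f L55864) L80586
theorem L80595 : sm gj N6514 = N9432 := rfl
theorem L80597 : sm ga N9432 = N9432 := ded_16_1 (flp_j L80595) L55868 L80595
theorem L80598 : sm gc N9432 = N6599 := ded_31_1 (flp_j L56609) (flp_c L55869) L80595
theorem L80600 : sm gd N9432 = N6517 := ded_37_1 (flp_j L55891) (flp_d L55871) L80595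
theorem L80602 : sm gf N9432 = N6542 := ded_46_1 (flp_j L56106) (flp_f L55873) L80595
theorem L80604 : sm gh N6514 = N9433 := rfl
theorem L80606 : sm ga N9433 = N9433 := ded_17_1 (flp_h L80604) L55868 L80604
theorem L80607 : sm gc N9433 = N6600 := ded_32_1 (flp_h L56616) (flp_c L55869) L80604
theorem L80609 : sm gf N9433 = N6543 := ded_47_1 (flp_h L56114) (flp_f L55873) L80604
theorem L80611 : sm gg N9433 = N6515 := ded_50_1 (flp_h L55875) L55866 L80604
theorem L80613 : sm gi N6515 = N9434 := rfl
theorem L80615 : sm ga N9434 = N9434 := ded_18_1 (flp_i L80613) L55877 L80613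
theorem L80616 : sm gc N9434 = N6601 := ded_33_1 (flp_i L56624) (flp_c L55878) L80613
theorem L80618 : sm gf N9434 = N6516 := ded_48_1 (flp_i L55882) (flp_f L55880) L80613
theorem L80620 : sm gc N6518 = N9435 := rfl
theorem L80622 : sm ga N9435 = N6520 := ded_11_1 (flp_c L55919) (flp_a L55900) L80620
theorem L80624 : sm ge N9435 = N6864 := ded_28_2 (flp_c L58909) (flp_e L55906) L80620
theorem L80627 : sm gi N9435 = N6529 := ded_33_2 (flp_c L56005) (flp_i L55904) L80620
theorem L80630 : sm gf N6518 = N9436 := rfl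
theorem L80632 : sm ga N9436 = N6521 := ded_14_1 (flp_f L55929) (flp_a L55900) L80630
theorem L80635 : sm gd N9436 = N6519 := ded_35_1 (flp_f L55908) L55898 L80630
theorem L80638 : sm gi N9436 = N6530 := ded_48_2 (flp_f L56013) (flp_i L55904) L80630
theorem L80640 : sm gh N6518 = N9437 := rfl
theorem L80649 : sm gg N6519 = N9438 := rfl
theorem L80651 : sm ga N9438 = N6523 := ded_15_1 (flp_g L55946) (flp_a L55910) L80649
theorem L80657 : sm gi N9438 = N6532 := ded_51_2 (flp_g L56029) (flp_i L55916) L80649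
theorem L80659 : sm gf N6520 = N9439 := rfl
theorem L80661 : sm gb N9439 = N6617 := ded_22_1 (flp_f L56766) (flp_b L55926) L80659
theorem L80663 : sm gc N9439 = N6521 := ded_29_1 (flp_f L55929) L55919 L80659
theorem L80665 : sm gd N9439 = N9439 := ded_35_1 (flp_f L80659) L55928 L80659
theorem L80666 : sm gj N9439 = N9439 := ded_46_2 (flp_f L80659) L55923 L80659
theorem L80667 : sm gi N9439 = N6533 := ded_48_2 (flp_f L56036) (flp_i L55924) L80659
theorem L80669 : sm gh N6520 = N9440 := rfl
theorem L80671 : sm gb N9440 = N6618 := ded_25_1 (flp_h L56774) (flp_b L55926) L80669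
theorem L80673 : sm gc N9440 = N6522 := ded_32_1 (flp_h L55938) L55919 L80669
theorem L80675 : sm ge N9440 = N6869 := ded_43_1 (flp_h L58955) (flp_e L55921) L80669
theorem L80677 : sm gj N9440 = N9440 := ded_52_1 (flp_h L80669) L55923 L80669
theorem L80678 : sm ge N6521 = N9441 := rfl
theorem L80680 : sm gb N9441 = N6524 := ded_21_1 (flp_e L55955) (flp_b L55931) L80678
theorem L80682 : sm gj N9441 = N9441 := ded_42_2 (flp_e L80678) L55935 L80678
theorem L80683 : sm gi N9441 = N6535 := ded_44_2 (flp_e L56053) (flp_i L55936) L80678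
theorem L80685 : sm gd N9441 = N9441 := ded_34_1 (flp_e L80678) L55933 L38893 (flp_d L55933) L80678
theorem L80686 : sm gf N9441 = N6870 := ded_40_2 (flp_e L58962) (flp_f L40912) (flp_e L38882) L55929 L80678
theorem L80688 : sm gg N6521 = N9442 := rfl
theorem L80690 : sm gb N9442 = N6525 := ded_23_1 (flp_g L55966) (flp_b L55931) L80688
theorem L80692 : sm gd N9442 = N6523 := ded_36_1 (flp_g L55946) (flp_d L55933) L80688
theorem L80694 : sm gi N9442 = N6536 := ded_51_2 (flp_g L56061) (flp_i L55936) L80688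
theorem L80696 : sm gh N6521 = N9443 := rfl
theorem L80698 : sm gb N9443 = N6526 := ded_25_1 (flp_h L55975) (flp_b L55931) L80696
theorem L80700 : sm gf N9443 = N6522 := ded_47_1 (flp_h L55938) L55929 L80696
theorem L80702 : sm gj N9443 = N9443 := ded_52_1 (flp_h L80696) L55935 L80696
theorem L80703 : sm gd N9443 = N9443 := ded_38_1 (flp_h L80696) L55933 L38890 (flp_d L55933) L80696
theorem L80704 : sm gi N6522 = N9444 := rfl
theorem L80706 : sm gb N9444 = N6527 := ded_26_1 (flp_i L55984) (flp_b L55940) L80704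
theorem L80708 : sm gd N9444 = N9444 := ded_39_1 (flp_i L80704) L55945 L80704
theorem L80709 : sm ge N9444 = N6873 := ded_44_1 (flp_i L58985) (flp_e L55942) L80704
theorem L80711 : sm gj N9444 = N9444 := ded_53_1 (flp_i L80704) L55944 L80704
theorem L80712 : sm gh N9444 = N6538 := ded_54_1 (flp_i L56074) (flp_h L38964) (flp_i L38880) L55938 L80704
theorem L80714 : sm gj N6523 = N9445 := rfl
theorem L80716 : sm gb N9445 = N6528 := ded_24_1 (flp_j L55995) (flp_b L55948) L80714
theorem L80718 : sm gc N9445 = N9445 := ded_31_1 (flp_j L80714) L55950 L80714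
theorem L80719 : sm ge N9445 = N9445 := ded_42_1 (flp_j L80714) L55951 L80714
theorem L80720 : sm gh N9445 = N9445 := ded_52_2 (flp_j L80714) L55952 L80714
theorem L80721 : sm gi N9445 = N6539 := ded_53_2 (flp_j L56081) (flp_i L55953) L80714
theorem L80723 : sm gg N9445 = N9445 := ded_49_1 (flp_j L80714) (flp_g L55946) L38889 L55946 L80714
theorem L80724 : sm gg N6524 = N9446 := rfl
theorem L80726 : sm ga N9446 = N9446 := ded_15_1 (flp_g L80724) L55957 L80724
theorem L80727 : sm gc N9446 = N6624 := ded_30_1 (flp_g L56826) (flp_c L55958) L80724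
theorem L80729 : sm gd N9446 = N9446 := ded_36_1 (flp_g L80724) L55963 L80724
theorem L80730 : sm ge N9446 = N6525 := ded_41_1 (flp_g L55966) L55955 L80724
theorem L80732 : sm gi N9446 = N6540 := ded_51_2 (flp_g L56088) (flp_i L55961) L80724
theorem L80734 : sm gh N6524 = N9447 := rfl
theorem L80736 : sm ga N9447 = N9447 := ded_17_1 (flp_h L80734) L55957 L80734
theorem L80737 : sm gc N9447 = N6625 := ded_32_1 (flp_h L56835) (flp_c L55958) L80734
theorem L80739 : sm ge N9447 = N6526 := ded_43_1 (flp_h L55975) L55955 L80734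
theorem L80741 : sm gf N9447 = N6876 := ded_47_1 (flp_h L59012) (flp_f L55964) L80734
theorem L80743 : sm gj N9447 = N9447 := ded_52_1 (flp_h L80734) L55960 L80734
theorem L80744 : sm gj N6525 = N9448 := rfl
theorem L80746 : sm ga N9448 = N9448 := ded_16_1 (flp_j L80744) L55968 L80744
theorem L80747 : sm gc N9448 = N6626 := ded_31_1 (flp_j L56843) (flp_c L55969) L80744
theorem L80749 : sm gd N9448 = N6528 := ded_37_1 (flp_j L55995) (flp_d L55971) L80744
theorem L80751 : sm gi N9448 = N6542 := ded_53_2 (flp_j L56106) (flp_i L55973) L80744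
theorem L80753 : sm gg N9448 = N9448 := ded_49_1 (flp_j L80744) (flp_g L55966) L38901 L55966 L80744
theorem L80754 : sm gh N6525 = N9449 := rfl
theorem L80756 : sm ga N9449 = N9449 := ded_17_1 (flp_h L80754) L55968 L80754
theorem L80757 : sm gc N9449 = N6627 := ded_32_1 (flp_h L56851) (flp_c L55969) L80754
theorem L80759 : sm gg N9449 = N6526 := ded_50_1 (flp_h L55975) L55966 L80754
theorem L80761 : sm gd N9449 = N9449 := ded_38_1 (flp_h L80754) L55971 L38919 (flp_d L55971) L80754
theorem L80762 : sm gi N6526 = N9450 := rfl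
theorem L80764 : sm ga N9450 = N9450 := ded_18_1 (flp_i L80762) L55977 L80762
theorem L80765 : sm gc N9450 = N6628 := ded_33_1 (flp_i L56856) (flp_c L55978) L80762
theorem L80767 : sm gd N9450 = N9450 := ded_39_1 (flp_i L80762) L55983 L80762
theorem L80768 : sm gf N9450 = N6527 := ded_48_1 (flp_i L55984) (flp_f L55980) L80762
theorem L80770 : sm gj N9450 = N9450 := ded_53_1 (flp_i L80762) L55982 L80762
theorem L80771 : sm gh N9450 = N6544 := ded_54_1 (flp_i L56121) (flp_h L38993) (flp_i L38902) L55975 L80762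
theorem L80773 : sm gb N6529 = N9451 := rfl
theorem L80775 : sm gd N9451 = N9451 := ded_20_2 (flp_b L80773) L56012 L80773
theorem L80776 : sm ge N9451 = N6880 := ded_21_2 (flp_b L59047) (flp_e L56009) L80773
theorem L80778 : sm gj N9451 = N9451 := ded_24_2 (flp_b L80773) L56011 L80773
theorem L80779 : sm ga N9451 = N6629 := ded_10_1 (flp_b L56864) L39516 (flp_b L38954) (flp_a L56007) L80773
theorem L80781 : sm gc N9451 = N9451 := ded_19_2 (flp_b L80773) (flp_c L56005) L38937 L56005 L80773
theorem L80782 : sm gf N6529 = N9452 := rfl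
theorem L80784 : sm ga N9452 = N6533 := ded_14_1 (flp_f L56036) (flp_a L56007) L80782
theorem L80786 : sm gc N9452 = N6530 := ded_29_1 (flp_f L56013) L56005 L80782
theorem L80788 : sm gd N9452 = N9452 := ded_35_1 (flp_f L80782) L56012 L80782
theorem L80789 : sm gj N9452 = N9452 := ded_46_2 (flp_f L80782) L56011 L80782
theorem L80790 : sm gh N6529 = N9453 := rfl
theorem L80792 : sm ga N9453 = N6534 := ded_17_1 (flp_h L56044) (flp_a L56007) L80790
theorem L80794 : sm gc N9453 = N6531 := ded_32_1 (flp_h L56021) L56005 L80790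
theorem L80796 : sm ge N9453 = N6882 := ded_43_1 (flp_h L59064) (flp_e L56009) L80790
theorem L80798 : sm gj N9453 = N9453 := ded_52_1 (flp_h L80790) L56011 L80790
theorem L80799 : sm ge N6530 = N9454 := rfl
theorem L80801 : sm ga N9454 = N6535 := ded_13_1 (flp_e L56053) (flp_a L56015) L80799
theorem L80803 : sm gb N9454 = N9454 := ded_21_1 (flp_e L80799) L56017 L80799
theorem L80804 : sm gj N9454 = N9454 := ded_42_2 (flp_e L80799) L56020 L80799
theorem L80805 : sm gd N9454 = N9454 := ded_34_1 (flp_e L80799) L56018 L38948 (flp_d L56018) L80799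
theorem L80806 : sm gf N9454 = N6883 := ded_40_2 (flp_e L59071) (flp_f L40985) (flp_e L38939) L56013 L80799
theorem L80808 : sm gg N6530 = N9455 := rfl
theorem L80810 : sm ga N9455 = N6536 := ded_15_1 (flp_g L56061) (flp_a L56015) L80808
theorem L80812 : sm gb N9455 = N9455 := ded_23_1 (flp_g L80808) L56017 L80808
theorem L80813 : sm gd N9455 = N6532 := ded_36_1 (flp_g L56029) (flp_d L56018) L80808
theorem L80815 : sm gh N6530 = N9456 := rfl
theorem L80817 : sm ga N9456 = N6537 := ded_17_1 (flp_h L56067) (flp_a L56015) L80815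
theorem L80819 : sm gb N9456 = N9456 := ded_25_1 (flp_h L80815) L56017 L80815
theorem L80820 : sm gf N9456 = N6531 := ded_47_1 (flp_h L56021) L56013 L80815
theorem L80822 : sm gj N9456 = N9456 := ded_52_1 (flp_h L80815) L56020 L80815
theorem L80823 : sm gi N6531 = N9457 := rfl
theorem L80825 : sm ga N9457 = N6538 := ded_18_1 (flp_i L56074) (flp_a L56023) L80823
theorem L80827 : sm gb N9457 = N9457 := ded_26_1 (flp_i L80823) L56025 L80823
theorem L80828 : sm ge N9457 = N6886 := ded_44_1 (flp_i L59094) (flp_e L56026) L80823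
theorem L80830 : sm gj N9457 = N9457 := ded_53_1 (flp_i L80823) L56028 L80823
theorem L80831 : sm gj N6532 = N9458 := rfl
theorem L80833 : sm ga N9458 = N6539 := ded_16_1 (flp_j L56081) (flp_a L56031) L80831
theorem L80835 : sm gb N9458 = N9458 := ded_24_1 (flp_j L80831) L56033 L80831
theorem L80836 : sm gc N9458 = N9458 := ded_31_1 (flp_j L80831) L56034 L80831
theorem L80837 : sm ge N9458 = N9458 := ded_42_1 (flp_j L80831) L56035 L80831
theorem L80838 : sm gg N9458 = N9458 := ded_49_1 (flp_j L80831) (flp_g L56029) L38947 L56029 L80831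
theorem L80839 : sm ge N6533 = N9459 := rfl
theorem L80841 : sm gb N9459 = N6637 := ded_21_1 (flp_e L56933) (flp_b L56038) L80839
theorem L80843 : sm gc N9459 = N6535 := ded_28_1 (flp_e L56053) (flp_c L56040) L80839
theorem L80845 : sm gj N9459 = N9459 := ded_42_2 (flp_e L80839) L56043 L80839
theorem L80846 : sm gf N9459 = N6888 := ded_40_2 (flp_e L59111) (flp_f L41009) (flp_e L38951) L56036 L80839
theorem L80848 : sm gg N6533 = N9460 := rfl
theorem L80850 : sm gb N9460 = N6638 := ded_23_1 (flp_g L56940) (flp_b L56038) L80848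
theorem L80852 : sm gc N9460 = N6536 := ded_30_1 (flp_g L56061) (flp_c L56040) L80848
theorem L80854 : sm gd N9460 = N9460 := ded_36_1 (flp_g L80848) L56042 L80848
theorem L80855 : sm gh N6533 = N9461 := rfl
theorem L80857 : sm gb N9461 = N6639 := ded_25_1 (flp_h L56945) (flp_b L56038) L80855
theorem L80859 : sm gc N9461 = N6537 := ded_32_1 (flp_h L56067) (flp_c L56040) L80855
theorem L80861 : sm gf N9461 = N6534 := ded_47_1 (flp_h L56044) L56036 L80855
theorem L80863 : sm gj N9461 = N9461 := ded_52_1 (flp_h L80855) L56043 L80855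
theorem L80864 : sm gd N6534 = N9462 := rfl
theorem L80866 : sm gb N9462 = N6640 := ded_20_1 (flp_d L56952) (flp_b L56046) L80864
theorem L80868 : sm gj N9462 = N9462 := ded_37_2 (flp_d L80864) L56052 L80864
theorem L80869 : sm gh N9462 = N9462 := ded_38_2 (flp_d L80864) (flp_h L56044) L38956 L56044 L80864
theorem L80870 : sm gi N6534 = N9463 := rfl
theorem L80872 : sm gb N9463 = N6641 := ded_26_1 (flp_i L56957) (flp_b L56046) L80870
theorem L80874 : sm gc N9463 = N6538 := ded_33_1 (flp_i L56074) (flp_c L56048) L80870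
theorem L80876 : sm ge N9463 = N6892 := ded_44_1 (flp_i L59143) (flp_e L56050) L80870
theorem L80878 : sm gj N9463 = N9463 := ded_53_1 (flp_i L80870) L56052 L80870
theorem L80879 : sm gg N6535 = N9464 := rfl
theorem L80881 : sm gb N9464 = N6540 := ded_23_1 (flp_g L56088) (flp_b L56055) L80879
theorem L80883 : sm gd N9464 = N9464 := ded_36_1 (flp_g L80879) L56058 L80879
theorem L80884 : sm ge N9464 = N6536 := ded_41_1 (flp_g L56061) L56053 L80879
theorem L80886 : sm gh N6535 = N9465 := rfl
theorem L80888 : sm gb N9465 = N6541 := ded_25_1 (flp_h L56096) (flp_b L56055) L80886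
theorem L80890 : sm ge N9465 = N6537 := ded_43_1 (flp_h L56067) L56053 L80886
theorem L80892 : sm gf N9465 = N6894 := ded_47_1 (flp_h L59157) (flp_f L56059) L80886
theorem L80894 : sm gj N9465 = N9465 := ded_52_1 (flp_h L80886) L56057 L80886
theorem L80895 : sm gj N6536 = N9466 := rfl
theorem L80897 : sm gb N9466 = N6542 := ded_24_1 (flp_j L56106) (flp_b L56063) L80895
theorem L80899 : sm gd N9466 = N6539 := ded_37_1 (flp_j L56081) (flp_d L56065) L80895
theorem L80901 : sm gg N9466 = N9466 := ded_49_1 (flp_j L80895) (flp_g L56061) L38963 L56061 L80895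
theorem L80902 : sm gh N6536 = N9467 := rfl
theorem L80904 : sm gb N9467 = N6543 := ded_25_1 (flp_h L56114) (flp_b L56063) L80902
theorem L80906 : sm gg N9467 = N6537 := ded_50_1 (flp_h L56067) L56061 L80902
theorem L80908 : sm gi N6537 = N9468 := rfl
theorem L80910 : sm gb N9468 = N6544 := ded_26_1 (flp_i L56121) (flp_b L56069) L80908
theorem L80912 : sm gf N9468 = N6538 := ded_48_1 (flp_i L56074) (flp_f L56071) L80908
theorem L80914 : sm gj N9468 = N9468 := ded_53_1 (flp_i L80908) L56073 L80908
theorem L80915 : sm gf N6540 = N9469 := rfl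
theorem L80917 : sm ga N9469 = N9469 := ded_14_1 (flp_f L80915) L56090 L80915
theorem L80918 : sm gc N9469 = N6647 := ded_29_1 (flp_f L57003) (flp_c L56091) L80915
theorem L80920 : sm gd N9469 = N9469 := ded_35_1 (flp_f L80915) L56093 L80915
theorem L80921 : sm gg N9469 = N6898 := ded_45_2 (flp_f L59186) (flp_g L41060) (flp_f L38984) L56088 L80915
theorem L80923 : sm gj N6540 = N9470 := rfl
theorem L80925 : sm ga N9470 = N9470 := ded_16_1 (flp_j L80923) L56090 L80923
theorem L80926 : sm gc N9470 = N6648 := ded_31_1 (flp_j L57010) (flp_c L56091) L80923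
theorem L80928 : sm gd N9470 = N9470 := ded_37_1 (flp_j L80923) L56093 L80923
theorem L80929 : sm ge N9470 = N6542 := ded_42_1 (flp_j L56106) (flp_e L56094) L80923
theorem L80931 : sm gg N9470 = N9470 := ded_49_1 (flp_j L80923) (flp_g L56088) L38982 L56088 L80923
theorem L80932 : sm gh N6540 = N9471 := rfl
theorem L80934 : sm ga N9471 = N9471 := ded_17_1 (flp_h L80932) L56090 L80932
theorem L80935 : sm gc N9471 = N6649 := ded_32_1 (flp_h L57018) (flp_c L56091) L80932
theorem L80937 : sm ge N9471 = N6543 := ded_43_1 (flp_h L56114) (flp_e L56094) L80932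
theorem L80939 : sm gg N9471 = N6541 := ded_50_1 (flp_h L56096) L56088 L80932
theorem L80941 : sm gd N6541 = N9472 := rfl
theorem L80943 : sm ga N9472 = N9472 := ded_12_1 (flp_d L80941) L56098 L80941
theorem L80944 : sm gf N9472 = N6901 := ded_35_2 (flp_d L59210) (flp_f L56103) L80941
theorem L80946 : sm gj N9472 = N9472 := ded_37_2 (flp_d L80941) L56105 L80941
theorem L80947 : sm gh N9472 = N9472 := ded_38_2 (flp_d L80941) (flp_h L56096) L38983 L56096 L80941
theorem L80948 : sm gi N6541 = N9473 := rfl
theorem L80950 : sm ga N9473 = N9473 := ded_18_1 (flp_i L80948) L56098 L80948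
theorem L80951 : sm gc N9473 = N6651 := ded_33_1 (flp_i L57034) (flp_c L56099) L80948
theorem L80953 : sm ge N9473 = N6544 := ded_44_1 (flp_i L56121) (flp_e L56101) L80948
theorem L80955 : sm gf N9473 = N6902 := ded_48_1 (flp_i L59216) (flp_f L56103) L80948
theorem L80957 : sm gj N9473 = N9473 := ded_53_1 (flp_i L80948) L56105 L80948
theorem L80958 : sm gh N6542 = N9474 := rfl
theorem L80960 : sm ga N9474 = N9474 := ded_17_1 (flp_h L80958) L56108 L80958
theorem L80961 : sm gc N9474 = N6652 := ded_32_1 (flp_h L57042) (flp_c L56109) L80958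
theorem L80963 : sm gg N9474 = N9474 := ded_50_1 (flp_h L80958) L56113 L80958
theorem L80964 : sm gj N9474 = N6543 := ded_52_1 (flp_h L56114) L56106 L80958
theorem L80966 : sm gi N6543 = N9475 := rfl
theorem L80968 : sm ga N9475 = N9475 := ded_18_1 (flp_i L80966) L56116 L80966
theorem L80969 : sm gc N9475 = N6653 := ded_33_1 (flp_i L57049) (flp_c L56117) L80966
theorem L80971 : sm gg N9475 = N6544 := ded_51_1 (flp_i L56121) (flp_g L56119) L80966
theorem L80973 : sm ge N6545 = N9476 := rfl
theorem L80975 : sm ga N9476 = N6546 := ded_13_1 (flp_e L56141) L56129 L80973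
theorem L80977 : sm gb N9476 = N9476 := ded_21_1 (flp_e L80973) L56140 L80973
theorem L80978 : sm gc N9476 = N9476 := ded_28_1 (flp_e L80973) L56131 L80973
theorem L80979 : sm gg N9476 = N9476 := ded_41_2 (flp_e L80973) L56134 L80973
theorem L80980 : sm gj N9476 = N6568 := ded_42_2 (flp_e L56345) (flp_j L56135) L80973
theorem L80982 : sm gh N9476 = N6550 := ded_43_2 (flp_e L56182) (flp_h L56137) L80973
theorem L80984 : sm gi N9476 = N9476 := ded_44_2 (flp_e L80973) L56139 L80973
theorem L80985 : sm gd N6546 = N9477 := rfl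
theorem L80987 : sm gb N9477 = N6547 := ded_20_1 (flp_d L56152) (flp_b L56143) L80985
theorem L80989 : sm gg N9477 = N9477 := ded_36_2 (flp_d L80985) L56146 L80985
theorem L80990 : sm gj N9477 = N6569 := ded_37_2 (flp_d L56356) (flp_j L56147) L80985
theorem L80992 : sm gi N9477 = N9477 := ded_39_2 (flp_d L80985) L56151 L80985
theorem L80993 : sm ge N9477 = N9477 := ded_34_2 (flp_d L80985) (flp_e L56141) L39018 L56141 L80985
theorem L80994 : sm gf N6546 = N9478 := rfl
theorem L80996 : sm gb N9478 = N6548 := ded_22_1 (flp_f L56161) (flp_b L56143) L80994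
theorem L80998 : sm gc N9478 = N9478 := ded_29_1 (flp_f L80994) L56145 L80994
theorem L80999 : sm gj N9478 = N6570 := ded_46_2 (flp_f L56364) (flp_j L56147) L80994
theorem L81001 : sm gh N9478 = N6552 := ded_47_2 (flp_f L56204) (flp_h L56149) L80994
theorem L81003 : sm gi N9478 = N9478 := ded_48_2 (flp_f L80994) L56151 L80994
theorem L81004 : sm ge N9478 = N9478 := ded_40_1 (flp_f L80994) (flp_e L56141) L39019 L56141 L80994
theorem L81005 : sm gf N6547 = N9479 := rfl
theorem L81007 : sm ga N9479 = N9479 := ded_14_1 (flp_f L81005) L56154 L81005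
theorem L81008 : sm gc N9479 = N9479 := ded_29_1 (flp_f L81005) L56159 L81005
theorem L81009 : sm gd N9479 = N6548 := ded_35_1 (flp_f L56161) L56152 L81005
theorem L81011 : sm gj N9479 = N6571 := ded_46_2 (flp_f L56373) (flp_j L56156) L81005
theorem L81013 : sm gi N9479 = N9479 := ded_48_2 (flp_f L81005) L56158 L81005
theorem L81014 : sm gh N6547 = N9480 := rfl
theorem L81016 : sm ga N9480 = N9480 := ded_17_1 (flp_h L81014) L56154 L81014
theorem L81017 : sm gc N9480 = N9480 := ded_32_1 (flp_h L81014) L56159 L81014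
theorem L81018 : sm ge N9480 = N9480 := ded_43_1 (flp_h L81014) L56160 L81014
theorem L81019 : sm gg N9480 = N9480 := ded_50_1 (flp_h L81014) L56155 L81014
theorem L81020 : sm gj N9480 = N6572 := ded_52_1 (flp_h L56380) (flp_j L56156) L81014
theorem L81022 : sm gd N9480 = N6554 := ded_38_1 (flp_h L56223) (flp_d L39071) (flp_h L39035) L56152 L81014
theorem L81024 : sm gg N6548 = N9481 := rfl
theorem L81026 : sm ga N9481 = N9481 := ded_15_1 (flp_g L81024) L56163 L81024
theorem L81027 : sm gc N9481 = N6549 := ded_30_1 (flp_g L56172) (flp_c L56164) L81024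
theorem L81029 : sm ge N9481 = N9481 := ded_41_1 (flp_g L81024) L56171 L81024
theorem L81030 : sm gh N9481 = N6555 := ded_50_2 (flp_g L56231) (flp_h L56168) L81024
theorem L81032 : sm gi N9481 = N9481 := ded_51_2 (flp_g L81024) L56170 L81024
theorem L81033 : sm gf N9481 = N9481 := ded_45_1 (flp_g L81024) (flp_f L56161) L39032 L56161 L81024
theorem L81034 : sm gj N6549 = N9482 := rfl
theorem L81036 : sm ga N9482 = N9482 := ded_16_1 (flp_j L81034) L56174 L81034
theorem L81037 : sm gb N9482 = N9482 := ded_24_1 (flp_j L81034) L56175 L81034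
theorem L81038 : sm gd N9482 = N9482 := ded_37_1 (flp_j L81034) L56176 L81034
theorem L81039 : sm ge N9482 = N9482 := ded_42_1 (flp_j L81034) L56177 L81034
theorem L81040 : sm gf N9482 = N9482 := ded_46_1 (flp_j L81034) L56181 L81034
theorem L81041 : sm gh N9482 = N6556 := ded_52_2 (flp_j L56240) (flp_h L56178) L81034
theorem L81043 : sm gi N9482 = N9482 := ded_53_2 (flp_j L81034) L56180 L81034
theorem L81044 : sm gg N9482 = N6574 := ded_49_1 (flp_j L56400) (flp_g L39198) (flp_j L39043) L56172 L81034
theorem L81046 : sm gd N6550 = N9483 := rfl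
theorem L81048 : sm ga N9483 = N6551 := ded_12_1 (flp_d L56193) (flp_a L56184) L81046
theorem L81050 : sm gb N9483 = N9483 := ded_20_1 (flp_d L81046) L56186 L81046
theorem L81051 : sm gg N9483 = N9483 := ded_36_2 (flp_d L81046) L56188 L81046
theorem L81052 : sm gj N9483 = N6575 := ded_37_2 (flp_d L56411) (flp_j L56189) L81046
theorem L81054 : sm gi N9483 = N6557 := ded_39_2 (flp_d L56250) (flp_i L56191) L81046
theorem L81056 : sm ge N9483 = N6905 := ded_34_2 (flp_d L59241) (flp_e L41101) (flp_d L39052) L56182 L81046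
theorem L81058 : sm gf N6550 = N9484 := rfl
theorem L81060 : sm ga N9484 = N6552 := ded_14_1 (flp_f L56204) (flp_a L56184) L81058
theorem L81062 : sm gb N9484 = N9484 := ded_22_1 (flp_f L81058) L56186 L81058
theorem L81063 : sm gc N9484 = N9484 := ded_29_1 (flp_f L81058) L56187 L81058
theorem L81064 : sm gj N9484 = N6576 := ded_46_2 (flp_f L56422) (flp_j L56189) L81058
theorem L81066 : sm gi N9484 = N6558 := ded_48_2 (flp_f L56260) (flp_i L56191) L81058
theorem L81068 : sm ge N9484 = N9484 := ded_40_1 (flp_f L81058) (flp_e L56182) L39054 L56182 L81058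
theorem L81069 : sm gc N6551 = N9485 := rfl
theorem L81071 : sm ge N9485 = N6907 := ded_28_2 (flp_c L59264) (flp_e L56202) L81069
theorem L81073 : sm gg N9485 = N9485 := ded_30_2 (flp_c L81069) L56197 L81069
theorem L81074 : sm gj N9485 = N6577 := ded_31_2 (flp_c L56431) (flp_j L56198) L81069
theorem L81076 : sm gi N9485 = N6559 := ded_33_2 (flp_c L56270) (flp_i L56200) L81069
theorem L81078 : sm gd N9485 = N9485 := ded_27_2 (flp_c L81069) (flp_d L56193) L39065 L56193 L81069
theorem L81079 : sm gf N6551 = N9486 := rfl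
theorem L81081 : sm gb N9486 = N6553 := ded_22_1 (flp_f L56214) (flp_b L56195) L81079
theorem L81083 : sm gd N9486 = N6552 := ded_35_1 (flp_f L56204) L56193 L81079
theorem L81085 : sm gj N9486 = N6578 := ded_46_2 (flp_f L56440) (flp_j L56198) L81079
theorem L81087 : sm gi N9486 = N6560 := ded_48_2 (flp_f L56278) (flp_i L56200) L81079
theorem L81089 : sm gh N6551 = N9487 := rfl
theorem L81091 : sm gb N9487 = N6554 := ded_25_1 (flp_h L56223) (flp_b L56195) L81089
theorem L81093 : sm ge N9487 = N6909 := ded_43_1 (flp_h L59283) (flp_e L56202) L81089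
theorem L81095 : sm gg N9487 = N9487 := ded_50_1 (flp_h L81089) L56197 L81089
theorem L81096 : sm gj N9487 = N6579 := ded_52_1 (flp_h L56448) (flp_j L56198) L81089
theorem L81098 : sm gg N6552 = N9488 := rfl
theorem L81100 : sm gb N9488 = N6555 := ded_23_1 (flp_g L56231) (flp_b L56206) L81098
theorem L81102 : sm gc N9488 = N9488 := ded_30_1 (flp_g L81098) L56208 L81098
theorem L81103 : sm ge N9488 = N9488 := ded_41_1 (flp_g L81098) L56213 L81098
theorem L81104 : sm gi N9488 = N6562 := ded_51_2 (flp_g L56296) (flp_i L56211) L81098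
theorem L81106 : sm gf N9488 = N9488 := ded_45_1 (flp_g L81098) (flp_f L56204) L39066 L56204 L81098
theorem L81107 : sm ge N6553 = N9489 := rfl
theorem L81109 : sm ga N9489 = N9489 := ded_13_1 (flp_e L81107) L56216 L81107
theorem L81110 : sm gj N9489 = N6581 := ded_42_2 (flp_e L56466) (flp_j L56219) L81107
theorem L81112 : sm gi N9489 = N6563 := ded_44_2 (flp_e L56304) (flp_i L56221) L81107
theorem L81114 : sm gd N9489 = N9489 := ded_34_1 (flp_e L81107) L56217 L39090 (flp_d L56217) L81107
theorem L81115 : sm gf N9489 = N6911 := ded_40_2 (flp_e L59302) (flp_f L41135) (flp_e L39079) L56214 L81107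
theorem L81117 : sm gg N6553 = N9490 := rfl
theorem L81119 : sm ga N9490 = N9490 := ded_15_1 (flp_g L81117) L56216 L81117
theorem L81120 : sm gd N9490 = N6555 := ded_36_1 (flp_g L56231) (flp_d L56217) L81117
theorem L81122 : sm gi N9490 = N6564 := ded_51_2 (flp_g L56312) (flp_i L56221) L81117
theorem L81124 : sm gf N9490 = N9490 := ded_45_1 (flp_g L81117) (flp_f L56214) L39074 L56214 L81117
theorem L81125 : sm gh N6553 = N9491 := rfl
theorem L81127 : sm ga N9491 = N9491 := ded_17_1 (flp_h L81125) L56216 L81125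
theorem L81128 : sm gf N9491 = N6554 := ded_47_1 (flp_h L56223) L56214 L81125
theorem L81130 : sm gj N9491 = N6583 := ded_52_1 (flp_h L56483) (flp_j L56219) L81125
theorem L81132 : sm gi N6554 = N9492 := rfl
theorem L81134 : sm ga N9492 = N9492 := ded_18_1 (flp_i L81132) L56225 L81132
theorem L81135 : sm ge N9492 = N6914 := ded_44_1 (flp_i L59326) (flp_e L56226) L81132
theorem L81137 : sm gg N9492 = N9492 := ded_51_1 (flp_i L81132) L56228 L81132
theorem L81138 : sm gj N9492 = N6584 := ded_53_1 (flp_i L56488) (flp_j L56229) L81132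
theorem L81140 : sm gh N9492 = N6566 := ded_54_1 (flp_i L56326) (flp_h L39134) (flp_i L39077) L56223 L81132
theorem L81142 : sm gj N6555 = N9493 := rfl
theorem L81144 : sm ga N9493 = N9493 := ded_16_1 (flp_j L81142) L56233 L81142
theorem L81145 : sm gc N9493 = N6556 := ded_31_1 (flp_j L56240) (flp_c L56234) L81142
theorem L81147 : sm ge N9493 = N9493 := ded_42_1 (flp_j L81142) L56236 L81142
theorem L81148 : sm gf N9493 = N9493 := ded_46_1 (flp_j L81142) L56239 L81142
theorem L81149 : sm gi N9493 = N6567 := ded_53_2 (flp_j L56335) (flp_i L56237) L81142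
theorem L81151 : sm gg N9493 = N6585 := ded_49_1 (flp_j L56497) (flp_g L39251) (flp_j L39086) L56231 L81142
theorem L81153 : sm gc N6557 = N9494 := rfl
theorem L81155 : sm ga N9494 = N6559 := ded_11_1 (flp_c L56270) (flp_a L56252) L81153
theorem L81157 : sm ge N9494 = N6916 := ded_28_2 (flp_c L59347) (flp_e L56258) L81153
theorem L81159 : sm gg N9494 = N9494 := ded_30_2 (flp_c L81153) L56255 L81153
theorem L81160 : sm gj N9494 = N6586 := ded_31_2 (flp_c L56507) (flp_j L56256) L81153
theorem L81162 : sm gd N9494 = N9494 := ded_27_2 (flp_c L81153) (flp_d L56250) L39104 L56250 L81153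
theorem L81163 : sm gf N6557 = N9495 := rfl
theorem L81165 : sm ga N9495 = N6560 := ded_14_1 (flp_f L56278) (flp_a L56252) L81163
theorem L81167 : sm gb N9495 = N9495 := ded_22_1 (flp_f L81163) L56254 L81163
theorem L81168 : sm gd N9495 = N6558 := ded_35_1 (flp_f L56260) L56250 L81163
theorem L81170 : sm gj N9495 = N6587 := ded_46_2 (flp_f L56516) (flp_j L56256) L81163
theorem L81172 : sm gh N6557 = N9496 := rfl
theorem L81174 : sm ga N9496 = N6561 := ded_17_1 (flp_h L56286) (flp_a L56252) L81172
theorem L81176 : sm gb N9496 = N9496 := ded_25_1 (flp_h L81172) L56254 L81172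
theorem L81177 : sm ge N9496 = N6918 := ded_43_1 (flp_h L59365) (flp_e L56258) L81172
theorem L81179 : sm gg N9496 = N9496 := ded_50_1 (flp_h L81172) L56255 L81172
theorem L81180 : sm gj N9496 = N6588 := ded_52_1 (flp_h L56523) (flp_j L56256) L81172
theorem L81182 : sm gd N9496 = N9496 := ded_38_1 (flp_h L81172) (flp_d L56250) L39108 L56250 L81172
theorem L81183 : sm gg N6558 = N9497 := rfl
theorem L81185 : sm ga N9497 = N6562 := ded_15_1 (flp_g L56296) (flp_a L56262) L81183
theorem L81187 : sm gb N9497 = N9497 := ded_23_1 (flp_g L81183) L56264 L81183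
theorem L81188 : sm gc N9497 = N9497 := ded_30_1 (flp_g L81183) L56265 L81183
theorem L81189 : sm ge N9497 = N9497 := ded_41_1 (flp_g L81183) L56269 L81183
theorem L81190 : sm gh N9497 = N9497 := ded_50_2 (flp_g L81183) L56268 L81183
theorem L81191 : sm gf N9497 = N9497 := ded_45_1 (flp_g L81183) (flp_f L56260) L39105 L56260 L81183
theorem L81192 : sm gf N6559 = N9498 := rfl
theorem L81194 : sm gc N9498 = N6560 := ded_29_1 (flp_f L56278) L56270 L81192
theorem L81196 : sm gd N9498 = N9498 := ded_35_1 (flp_f L81192) L56277 L81192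
theorem L81197 : sm gj N9498 = N6590 := ded_46_2 (flp_f L56543) (flp_j L56275) L81192
theorem L81199 : sm gh N6559 = N9499 := rfl
theorem L81201 : sm gc N9499 = N6561 := ded_32_1 (flp_h L56286) L56270 L81199
theorem L81203 : sm ge N9499 = N6921 := ded_43_1 (flp_h L59394) (flp_e L56272) L81199
theorem L81205 : sm gg N9499 = N9499 := ded_50_1 (flp_h L81199) L56274 L81199
theorem L81206 : sm gj N9499 = N6591 := ded_52_1 (flp_h L56548) (flp_j L56275) L81199
theorem L81208 : sm ge N6560 = N9500 := rfl
theorem L81210 : sm gb N9500 = N6563 := ded_21_1 (flp_e L56304) (flp_b L56280) L81208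
theorem L81212 : sm gj N9500 = N6592 := ded_42_2 (flp_e L56556) (flp_j L56284) L81208
theorem L81214 : sm gd N9500 = N9500 := ded_34_1 (flp_e L81208) L56282 L39126 (flp_d L56282) L81208
theorem L81215 : sm gf N9500 = N6922 := ded_40_2 (flp_e L59401) (flp_f L41200) (flp_e L39116) L56278 L81208
theorem L81217 : sm gg N6560 = N9501 := rfl
theorem L81219 : sm gb N9501 = N6564 := ded_23_1 (flp_g L56312) (flp_b L56280) L81217
theorem L81221 : sm gd N9501 = N6562 := ded_36_1 (flp_g L56296) (flp_d L56282) L81217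
theorem L81223 : sm gf N9501 = N9501 := ded_45_1 (flp_g L81217) (flp_f L56278) L39113 L56278 L81217
theorem L81224 : sm gh N6560 = N9502 := rfl
theorem L81226 : sm gb N9502 = N6565 := ded_25_1 (flp_h L56318) (flp_b L56280) L81224
theorem L81228 : sm gf N9502 = N6561 := ded_47_1 (flp_h L56286) L56278 L81224
theorem L81230 : sm gj N9502 = N6594 := ded_52_1 (flp_h L56571) (flp_j L56284) L81224
theorem L81232 : sm gd N9502 = N9502 := ded_38_1 (flp_h L81224) L56282 L39125 (flp_d L56282) L81224
theorem L81233 : sm gi N6561 = N9503 := rfl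
theorem L81235 : sm gb N9503 = N6566 := ded_26_1 (flp_i L56326) (flp_b L56288) L81233
theorem L81237 : sm gd N9503 = N9503 := ded_39_1 (flp_i L81233) L56295 L81233
theorem L81238 : sm ge N9503 = N6925 := ded_44_1 (flp_i L59425) (flp_e L56290) L81233
theorem L81240 : sm gg N9503 = N9503 := ded_51_1 (flp_i L81233) L56292 L81233
theorem L81241 : sm gj N9503 = N6595 := ded_53_1 (flp_i L56578) (flp_j L56293) L81233
theorem L81243 : sm gj N6562 = N9504 := rfl
theorem L81245 : sm gb N9504 = N6567 := ded_24_1 (flp_j L56335) (flp_b L56298) L81243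
theorem L81247 : sm gc N9504 = N9504 := ded_31_1 (flp_j L81243) L56300 L81243
theorem L81248 : sm ge N9504 = N9504 := ded_42_1 (flp_j L81243) L56301 L81243
theorem L81249 : sm gf N9504 = N9504 := ded_46_1 (flp_j L81243) L56303 L81243
theorem L81250 : sm gh N9504 = N9504 := ded_52_2 (flp_j L81243) L56302 L81243
theorem L81251 : sm gg N9504 = N6596 := ded_49_1 (flp_j L56587) (flp_g L39309) (flp_j L39123) L56296 L81243
theorem L81253 : sm gg N6563 = N9505 := rfl
theorem L81255 : sm ga N9505 = N9505 := ded_15_1 (flp_g L81253) L56306 L81253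
theorem L81256 : sm gd N9505 = N9505 := ded_36_1 (flp_g L81253) L56309 L81253
theorem L81257 : sm ge N9505 = N6564 := ded_41_1 (flp_g L56312) L56304 L81253
theorem L81259 : sm gh N6563 = N9506 := rfl
theorem L81261 : sm ga N9506 = N9506 := ded_17_1 (flp_h L81259) L56306 L81259
theorem L81262 : sm ge N9506 = N6565 := ded_43_1 (flp_h L56318) L56304 L81259
theorem L81264 : sm gf N9506 = N6928 := ded_47_1 (flp_h L59452) (flp_f L56310) L81259
theorem L81266 : sm gj N9506 = N6598 := ded_52_1 (flp_h L56602) (flp_j L56307) L81259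
theorem L81268 : sm gj N6564 = N9507 := rfl
theorem L81270 : sm ga N9507 = N9507 := ded_16_1 (flp_j L81268) L56314 L81268
theorem L81271 : sm gd N9507 = N6567 := ded_37_1 (flp_j L56335) (flp_d L56315) L81268
theorem L81273 : sm gf N9507 = N9507 := ded_46_1 (flp_j L81268) L56317 L81268
theorem L81274 : sm gg N9507 = N6599 := ded_49_1 (flp_j L56609) (flp_g L39324) (flp_j L39132) L56312 L81268
theorem L81276 : sm gh N6564 = N9508 := rfl
theorem L81278 : sm ga N9508 = N9508 := ded_17_1 (flp_h L81276) L56314 L81276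
theorem L81279 : sm gf N9508 = N9508 := ded_47_1 (flp_h L81276) L56317 L81276
theorem L81280 : sm gg N9508 = N6565 := ded_50_1 (flp_h L56318) L56312 L81276
theorem L81282 : sm gd N9508 = N9508 := ded_38_1 (flp_h L81276) L56315 L39149 (flp_d L56315) L81276
theorem L81283 : sm gi N6565 = N9509 := rfl
theorem L81285 : sm ga N9509 = N9509 := ded_18_1 (flp_i L81283) L56320 L81283
theorem L81286 : sm gd N9509 = N9509 := ded_39_1 (flp_i L81283) L56325 L81283
theorem L81287 : sm gf N9509 = N6566 := ded_48_1 (flp_i L56326) (flp_f L56321) L81283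
theorem L81289 : sm gj N9509 = N6601 := ded_53_1 (flp_i L56624) (flp_j L56323) L81283
theorem L81291 : sm gd N6568 = N9510 := rfl
theorem L81293 : sm ga N9510 = N6569 := ded_12_1 (flp_d L56356) (flp_a L56347) L81291
theorem L81295 : sm gb N9510 = N9510 := ded_20_1 (flp_d L81291) L56349 L81291
theorem L81296 : sm gg N9510 = N6602 := ded_36_2 (flp_d L56630) (flp_g L56351) L81291
theorem L81298 : sm gi N9510 = N9510 := ded_39_2 (flp_d L81291) L56355 L81291
theorem L81299 : sm ge N9510 = N9510 := ded_34_2 (flp_d L81291) (flp_e L56345) L39163 L56345 L81291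
theorem L81300 : sm gf N6568 = N9511 := rfl
theorem L81302 : sm ga N9511 = N6570 := ded_14_1 (flp_f L56364) (flp_a L56347) L81300
theorem L81304 : sm gb N9511 = N9511 := ded_22_1 (flp_f L81300) L56349 L81300
theorem L81305 : sm gc N9511 = N9511 := ded_29_1 (flp_f L81300) L56350 L81300
theorem L81306 : sm gh N9511 = N6576 := ded_47_2 (flp_f L56422) (flp_h L56353) L81300
theorem L81308 : sm gi N9511 = N9511 := ded_48_2 (flp_f L81300) L56355 L81300
theorem L81309 : sm ge N9511 = N9511 := ded_40_1 (flp_f L81300) (flp_e L56345) L39164 L56345 L81300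
theorem L81310 : sm gc N6569 = N9512 := rfl
theorem L81312 : sm ge N9512 = N9512 := ded_28_2 (flp_c L81310) L56363 L81310
theorem L81313 : sm gg N9512 = N6604 := ded_30_2 (flp_c L56650) (flp_g L56360) L81310
theorem L81315 : sm gi N9512 = N9512 := ded_33_2 (flp_c L81310) L56362 L81310
theorem L81316 : sm gb N9512 = N9512 := ded_19_1 (flp_c L81310) L56358 L39187 (flp_b L56358) L81310
theorem L81317 : sm gd N9512 = N9512 := ded_27_2 (flp_c L81310) (flp_d L56356) L39175 L56356 L81310
theorem L81318 : sm gf N6569 = N9513 := rfl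
theorem L81320 : sm gb N9513 = N6571 := ded_22_1 (flp_f L56373) (flp_b L56358) L81318
theorem L81322 : sm gd N9513 = N6570 := ded_35_1 (flp_f L56364) L56356 L81318
theorem L81324 : sm gi N9513 = N9513 := ded_48_2 (flp_f L81318) L56362 L81318
theorem L81325 : sm gh N6569 = N9514 := rfl
theorem L81327 : sm gb N9514 = N6572 := ded_25_1 (flp_h L56380) (flp_b L56358) L81325
theorem L81329 : sm ge N9514 = N9514 := ded_43_1 (flp_h L81325) L56363 L81325
theorem L81330 : sm gg N9514 = N6606 := ded_50_1 (flp_h L56665) (flp_g L56360) L81325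
theorem L81332 : sm gd N9514 = N6579 := ded_38_1 (flp_h L56448) (flp_d L39219) (flp_h L39178) L56356 L81325
theorem L81334 : sm gg N6570 = N9515 := rfl
theorem L81336 : sm gb N9515 = N6573 := ded_23_1 (flp_g L56389) (flp_b L56366) L81334
theorem L81338 : sm gc N9515 = N9515 := ded_30_1 (flp_g L81334) L56368 L81334
theorem L81339 : sm ge N9515 = N9515 := ded_41_1 (flp_g L81334) L56372 L81334
theorem L81340 : sm gh N9515 = N6580 := ded_50_2 (flp_g L56456) (flp_h L56369) L81334
theorem L81342 : sm gi N9515 = N9515 := ded_51_2 (flp_g L81334) L56371 L81334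
theorem L81343 : sm gf N9515 = N6607 := ded_45_1 (flp_g L56673) (flp_f L39371) (flp_g L39176) L56364 L81334
theorem L81345 : sm ge N6571 = N9516 := rfl
theorem L81347 : sm ga N9516 = N9516 := ded_13_1 (flp_e L81345) L56375 L81345
theorem L81348 : sm gc N9516 = N9516 := ded_28_1 (flp_e L81345) L56376 L81345
theorem L81349 : sm gi N9516 = N9516 := ded_44_2 (flp_e L81345) L56379 L81345
theorem L81350 : sm gd N9516 = N9516 := ded_34_1 (flp_e L81345) L56377 L39197 (flp_d L56377) L81345
theorem L81351 : sm gf N9516 = N9516 := ded_40_2 (flp_e L81345) (flp_f L56373) L39188 L56373 L81345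
theorem L81352 : sm gg N6571 = N9517 := rfl
theorem L81354 : sm ga N9517 = N9517 := ded_15_1 (flp_g L81352) L56375 L81352
theorem L81355 : sm gc N9517 = N9517 := ded_30_1 (flp_g L81352) L56376 L81352
theorem L81356 : sm gd N9517 = N6573 := ded_36_1 (flp_g L56389) (flp_d L56377) L81352
theorem L81358 : sm gi N9517 = N9517 := ded_51_2 (flp_g L81352) L56379 L81352
theorem L81359 : sm gf N9517 = N6609 := ded_45_1 (flp_g L56692) (flp_f L39382) (flp_g L39184) L56373 L81352
theorem L81361 : sm gh N6571 = N9518 := rfl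
theorem L81363 : sm ga N9518 = N9518 := ded_17_1 (flp_h L81361) L56375 L81361
theorem L81364 : sm gc N9518 = N9518 := ded_32_1 (flp_h L81361) L56376 L81361
theorem L81365 : sm gf N9518 = N6572 := ded_47_1 (flp_h L56380) L56373 L81361
theorem L81367 : sm gd N9518 = N6583 := ded_38_1 (flp_h L56483) L39240 (flp_h L39194) (flp_d L56377) L81361
theorem L81369 : sm gi N6572 = N9519 := rfl
theorem L81371 : sm ga N9519 = N9519 := ded_18_1 (flp_i L81369) L56382 L81369
theorem L81372 : sm gc N9519 = N9519 := ded_33_1 (flp_i L81369) L56383 L81369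
theorem L81373 : sm gd N9519 = N6584 := ded_39_1 (flp_i L56488) (flp_d L56387) L81369
theorem L81375 : sm ge N9519 = N9519 := ded_44_1 (flp_i L81369) L56384 L81369
theorem L81376 : sm gg N9519 = N6611 := ded_51_1 (flp_i L56708) (flp_g L56385) L81369
theorem L81378 : sm gh N9519 = N9519 := ded_54_1 (flp_i L81369) (flp_h L56380) L39186 L56380 L81369
theorem L81379 : sm gj N6573 = N9520 := rfl
theorem L81381 : sm ga N9520 = N9520 := ded_16_1 (flp_j L81379) L56391 L81379
theorem L81382 : sm gc N9520 = N6574 := ded_31_1 (flp_j L56400) (flp_c L56392) L81379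
theorem L81384 : sm ge N9520 = N9520 := ded_42_1 (flp_j L81379) L56394 L81379
theorem L81385 : sm gf N9520 = N6612 := ded_46_1 (flp_j L56717) (flp_f L56398) L81379
theorem L81387 : sm gh N9520 = N6585 := ded_52_2 (flp_j L56497) (flp_h L56395) L81379
theorem L81389 : sm gi N9520 = N9520 := ded_53_2 (flp_j L81379) L56397 L81379
theorem L81390 : sm gc N6575 = N9521 := rfl
theorem L81392 : sm ga N9521 = N6577 := ded_11_1 (flp_c L56431) (flp_a L56413) L81390
theorem L81394 : sm ge N9521 = N6932 := ded_28_2 (flp_c L59484) (flp_e L56420) L81390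
theorem L81396 : sm gg N9521 = N6613 := ded_30_2 (flp_c L56728) (flp_g L56416) L81390
theorem L81398 : sm gi N9521 = N6586 := ded_33_2 (flp_c L56507) (flp_i L56418) L81390
theorem L81400 : sm gd N9521 = N9521 := ded_27_2 (flp_c L81390) (flp_d L56411) L39214 L56411 L81390
theorem L81401 : sm gf N6575 = N9522 := rfl
theorem L81403 : sm ga N9522 = N6578 := ded_14_1 (flp_f L56440) (flp_a L56413) L81401
theorem L81405 : sm gb N9522 = N9522 := ded_22_1 (flp_f L81401) L56415 L81401
theorem L81406 : sm gd N9522 = N6576 := ded_35_1 (flp_f L56422) L56411 L81401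
theorem L81408 : sm gi N9522 = N6587 := ded_48_2 (flp_f L56516) (flp_i L56418) L81401
theorem L81410 : sm gh N6575 = N9523 := rfl
theorem L81412 : sm ga N9523 = N6579 := ded_17_1 (flp_h L56448) (flp_a L56413) L81410
theorem L81414 : sm gb N9523 = N9523 := ded_25_1 (flp_h L81410) L56415 L81410
theorem L81415 : sm ge N9523 = N6934 := ded_43_1 (flp_h L59503) (flp_e L56420) L81410
theorem L81417 : sm gg N9523 = N6615 := ded_50_1 (flp_h L56748) (flp_g L56416) L81410
theorem L81419 : sm gg N6576 = N9524 := rfl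
theorem L81421 : sm ga N9524 = N6580 := ded_15_1 (flp_g L56456) (flp_a L56424) L81419
theorem L81423 : sm gb N9524 = N9524 := ded_23_1 (flp_g L81419) L56426 L81419
theorem L81424 : sm gc N9524 = N9524 := ded_30_1 (flp_g L81419) L56427 L81419
theorem L81425 : sm ge N9524 = N9524 := ded_41_1 (flp_g L81419) L56430 L81419
theorem L81426 : sm gi N9524 = N6589 := ded_51_2 (flp_g L56533) (flp_i L56428) L81419
theorem L81428 : sm gf N9524 = N6616 := ded_45_1 (flp_g L56756) (flp_f L39429) (flp_g L39215) L56422 L81419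
theorem L81430 : sm gf N6577 = N9525 := rfl
theorem L81432 : sm gc N9525 = N6578 := ded_29_1 (flp_f L56440) L56431 L81430
theorem L81434 : sm gd N9525 = N9525 := ded_35_1 (flp_f L81430) L56439 L81430
theorem L81435 : sm gi N9525 = N6590 := ded_48_2 (flp_f L56543) (flp_i L56437) L81430
theorem L81437 : sm gh N6577 = N9526 := rfl
theorem L81439 : sm gc N9526 = N6579 := ded_32_1 (flp_h L56448) L56431 L81437
theorem L81441 : sm ge N9526 = N6937 := ded_43_1 (flp_h L59532) (flp_e L56433) L81437
theorem L81443 : sm gg N9526 = N6618 := ded_50_1 (flp_h L56774) (flp_g L56435) L81437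
theorem L81445 : sm ge N6578 = N9527 := rfl
theorem L81447 : sm gb N9527 = N6581 := ded_21_1 (flp_e L56466) (flp_b L56442) L81445
theorem L81449 : sm gi N9527 = N6592 := ded_44_2 (flp_e L56556) (flp_i L56446) L81445
theorem L81451 : sm gd N9527 = N9527 := ded_34_1 (flp_e L81445) L56444 L39236 (flp_d L56444) L81445
theorem L81452 : sm gf N9527 = N6938 := ded_40_2 (flp_e L59538) (flp_f L41295) (flp_e L39227) L56440 L81445
theorem L81454 : sm gg N6578 = N9528 := rfl
theorem L81456 : sm gb N9528 = N6582 := ded_23_1 (flp_g L56474) (flp_b L56442) L81454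
theorem L81458 : sm gd N9528 = N6580 := ded_36_1 (flp_g L56456) (flp_d L56444) L81454
theorem L81460 : sm gi N9528 = N6593 := ded_51_2 (flp_g L56563) (flp_i L56446) L81454
theorem L81462 : sm gf N9528 = N6620 := ded_45_1 (flp_g L56792) (flp_f L39448) (flp_g L39223) L56440 L81454
theorem L81464 : sm gh N6578 = N9529 := rfl
theorem L81466 : sm gb N9529 = N6583 := ded_25_1 (flp_h L56483) (flp_b L56442) L81464
theorem L81468 : sm gf N9529 = N6579 := ded_47_1 (flp_h L56448) L56440 L81464
theorem L81470 : sm gi N6579 = N9530 := rfl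
theorem L81472 : sm gb N9530 = N6584 := ded_26_1 (flp_i L56488) (flp_b L56450) L81470
theorem L81474 : sm ge N9530 = N6941 := ded_44_1 (flp_i L59562) (flp_e L56452) L81470
theorem L81476 : sm gg N9530 = N6622 := ded_51_1 (flp_i L56807) (flp_g L56454) L81470
theorem L81478 : sm gh N9530 = N6595 := ded_54_1 (flp_i L56578) (flp_h L39300) (flp_i L39225) L56448 L81470
theorem L81480 : sm gj N6580 = N9531 := rfl
theorem L81482 : sm gb N9531 = N6585 := ded_24_1 (flp_j L56497) (flp_b L56458) L81480
theorem L81484 : sm gc N9531 = N9531 := ded_31_1 (flp_j L81480) L56460 L81480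
theorem L81485 : sm ge N9531 = N9531 := ded_42_1 (flp_j L81480) L56461 L81480
theorem L81486 : sm gf N9531 = N6623 := ded_46_1 (flp_j L56816) (flp_f L56464) L81480
theorem L81488 : sm gi N9531 = N6596 := ded_53_2 (flp_j L56587) (flp_i L56462) L81480
theorem L81490 : sm gg N6581 = N9532 := rfl
theorem L81492 : sm ga N9532 = N9532 := ded_15_1 (flp_g L81490) L56468 L81490
theorem L81493 : sm gd N9532 = N9532 := ded_36_1 (flp_g L81490) L56471 L81490
theorem L81494 : sm ge N9532 = N6582 := ded_41_1 (flp_g L56474) L56466 L81490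
theorem L81496 : sm gi N9532 = N6597 := ded_51_2 (flp_g L56596) (flp_i L56469) L81490
theorem L81498 : sm gh N6581 = N9533 := rfl
theorem L81500 : sm ga N9533 = N9533 := ded_17_1 (flp_h L81498) L56468 L81498
theorem L81501 : sm ge N9533 = N6583 := ded_43_1 (flp_h L56483) L56466 L81498
theorem L81503 : sm gf N9533 = N6944 := ded_47_1 (flp_h L59591) (flp_f L56472) L81498
theorem L81505 : sm gj N6582 = N9534 := rfl
theorem L81507 : sm ga N9534 = N9534 := ded_16_1 (flp_j L81505) L56476 L81505
theorem L81508 : sm gd N9534 = N6585 := ded_37_1 (flp_j L56497) (flp_d L56477) L81505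
theorem L81510 : sm gf N9534 = N6626 := ded_46_1 (flp_j L56843) (flp_f L56481) L81505
theorem L81512 : sm gi N9534 = N6599 := ded_53_2 (flp_j L56609) (flp_i L56479) L81505
theorem L81514 : sm gh N6582 = N9535 := rfl
theorem L81516 : sm ga N9535 = N9535 := ded_17_1 (flp_h L81514) L56476 L81514
theorem L81517 : sm gf N9535 = N6627 := ded_47_1 (flp_h L56851) (flp_f L56481) L81514
theorem L81519 : sm gg N9535 = N6583 := ded_50_1 (flp_h L56483) L56474 L81514
theorem L81521 : sm gi N6583 = N9536 := rfl
theorem L81523 : sm ga N9536 = N9536 := ded_18_1 (flp_i L81521) L56485 L81521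
theorem L81524 : sm gf N9536 = N6584 := ded_48_1 (flp_i L56488) (flp_f L56486) L81521
theorem L81526 : sm gh N9536 = N6601 := ded_54_1 (flp_i L56624) (flp_h L39331) (flp_i L39242) L56483 L81521
theorem L81528 : sm gb N6586 = N9537 := rfl
theorem L81530 : sm gd N9537 = N9537 := ded_20_2 (flp_b L81528) L56515 L81528
theorem L81531 : sm ge N9537 = N6948 := ded_21_2 (flp_b L59621) (flp_e L56511) L81528
theorem L81533 : sm gg N9537 = N6629 := ded_23_2 (flp_b L56864) (flp_g L56513) L81528
theorem L81535 : sm gc N9537 = N9537 := ded_19_2 (flp_b L81528) (flp_c L56507) L39274 L56507 L81528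
theorem L81536 : sm gf N6586 = N9538 := rfl
theorem L81538 : sm ga N9538 = N6590 := ded_14_1 (flp_f L56543) (flp_a L56509) L81536
theorem L81540 : sm gc N9538 = N6587 := ded_29_1 (flp_f L56516) L56507 L81536
theorem L81542 : sm gd N9538 = N9538 := ded_35_1 (flp_f L81536) L56515 L81536
theorem L81543 : sm gh N6586 = N9539 := rfl
theorem L81545 : sm ga N9539 = N6591 := ded_17_1 (flp_h L56548) (flp_a L56509) L81543
theorem L81547 : sm gc N9539 = N6588 := ded_32_1 (flp_h L56523) L56507 L81543
theorem L81549 : sm ge N9539 = N6950 := ded_43_1 (flp_h L59636) (flp_e L56511) L81543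
theorem L81551 : sm gg N9539 = N6631 := ded_50_1 (flp_h L56879) (flp_g L56513) L81543
theorem L81553 : sm ge N6587 = N9540 := rfl
theorem L81555 : sm ga N9540 = N6592 := ded_13_1 (flp_e L56556) (flp_a L56518) L81553
theorem L81557 : sm gb N9540 = N9540 := ded_21_1 (flp_e L81553) L56520 L81553
theorem L81558 : sm gd N9540 = N9540 := ded_34_1 (flp_e L81553) L56521 L39286 (flp_d L56521) L81553
theorem L81559 : sm gf N9540 = N6951 := ded_40_2 (flp_e L59644) (flp_f L41370) (flp_e L39277) L56516 L81553
theorem L81561 : sm gg N6587 = N9541 := rfl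
theorem L81563 : sm ga N9541 = N6593 := ded_15_1 (flp_g L56563) (flp_a L56518) L81561
theorem L81565 : sm gb N9541 = N9541 := ded_23_1 (flp_g L81561) L56520 L81561
theorem L81566 : sm gd N9541 = N6589 := ded_36_1 (flp_g L56533) (flp_d L56521) L81561
theorem L81568 : sm gf N9541 = N6633 := ded_45_1 (flp_g L56898) (flp_f L39522) (flp_g L39275) L56516 L81561
theorem L81570 : sm gh N6587 = N9542 := rfl
theorem L81572 : sm ga N9542 = N6594 := ded_17_1 (flp_h L56571) (flp_a L56518) L81570
theorem L81574 : sm gb N9542 = N9542 := ded_25_1 (flp_h L81570) L56520 L81570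
theorem L81575 : sm gf N9542 = N6588 := ded_47_1 (flp_h L56523) L56516 L81570
theorem L81577 : sm gd N9542 = N9542 := ded_38_1 (flp_h L81570) L56521 L39285 (flp_d L56521) L81570
theorem L81578 : sm gi N6588 = N9543 := rfl
theorem L81580 : sm ga N9543 = N6595 := ded_18_1 (flp_i L56578) (flp_a L56525) L81578
theorem L81582 : sm gb N9543 = N9543 := ded_26_1 (flp_i L81578) L56527 L81578
theorem L81583 : sm gd N9543 = N9543 := ded_39_1 (flp_i L81578) L56532 L81578
theorem L81584 : sm ge N9543 = N6954 := ded_44_1 (flp_i L59668) (flp_e L56528) L81578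
theorem L81586 : sm gg N9543 = N6635 := ded_51_1 (flp_i L56914) (flp_g L56530) L81578
theorem L81588 : sm gj N6589 = N9544 := rfl
theorem L81590 : sm ga N9544 = N6596 := ded_16_1 (flp_j L56587) (flp_a L56535) L81588
theorem L81592 : sm gb N9544 = N9544 := ded_24_1 (flp_j L81588) L56537 L81588
theorem L81593 : sm gc N9544 = N9544 := ded_31_1 (flp_j L81588) L56538 L81588
theorem L81594 : sm ge N9544 = N9544 := ded_42_1 (flp_j L81588) L56539 L81588
theorem L81595 : sm gf N9544 = N6636 := ded_46_1 (flp_j L56923) (flp_f L56541) L81588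
theorem L81597 : sm gh N9544 = N9544 := ded_52_2 (flp_j L81588) L56540 L81588
theorem L81598 : sm ge N6590 = N9545 := rfl
theorem L81600 : sm gc N9545 = N6592 := ded_28_1 (flp_e L56556) (flp_c L56545) L81598
theorem L81602 : sm gf N9545 = N6956 := ded_40_2 (flp_e L59689) (flp_f L41398) (flp_e L39289) L56543 L81598
theorem L81604 : sm gg N6590 = N9546 := rfl
theorem L81606 : sm gc N9546 = N6593 := ded_30_1 (flp_g L56563) (flp_c L56545) L81604
theorem L81608 : sm gd N9546 = N9546 := ded_36_1 (flp_g L81604) L56547 L81604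
theorem L81609 : sm gf N9546 = N6638 := ded_45_1 (flp_g L56940) (flp_f L39548) (flp_g L39291) L56543 L81604
theorem L81611 : sm gh N6590 = N9547 := rfl
theorem L81613 : sm gc N9547 = N6594 := ded_32_1 (flp_h L56571) (flp_c L56545) L81611
theorem L81615 : sm gf N9547 = N6591 := ded_47_1 (flp_h L56548) L56543 L81611
theorem L81617 : sm gd N6591 = N9548 := rfl
theorem L81619 : sm gg N9548 = N6640 := ded_36_2 (flp_d L56952) (flp_g L56554) L81617
theorem L81621 : sm gc N9548 = N9548 := ded_27_1 (flp_d L81617) L56550 L39308 (flp_c L56550) L81617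
theorem L81622 : sm gh N9548 = N9548 := ded_38_2 (flp_d L81617) (flp_h L56548) L39293 L56548 L81617
theorem L81623 : sm gi N6591 = N9549 := rfl
theorem L81625 : sm gc N9549 = N6595 := ded_33_1 (flp_i L56578) (flp_c L56550) L81623
theorem L81627 : sm ge N9549 = N6960 := ded_44_1 (flp_i L59715) (flp_e L56552) L81623
theorem L81629 : sm gg N9549 = N6641 := ded_51_1 (flp_i L56957) (flp_g L56554) L81623
theorem L81631 : sm gg N6592 = N9550 := rfl
theorem L81633 : sm gb N9550 = N6597 := ded_23_1 (flp_g L56596) (flp_b L56558) L81631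
theorem L81635 : sm gd N9550 = N9550 := ded_36_1 (flp_g L81631) L56560 L81631
theorem L81636 : sm ge N9550 = N6593 := ded_41_1 (flp_g L56563) L56556 L81631
theorem L81638 : sm gh N6592 = N9551 := rfl
theorem L81640 : sm gb N9551 = N6598 := ded_25_1 (flp_h L56602) (flp_b L56558) L81638
theorem L81642 : sm ge N9551 = N6594 := ded_43_1 (flp_h L56571) L56556 L81638
theorem L81644 : sm gf N9551 = N6962 := ded_47_1 (flp_h L59728) (flp_f L56561) L81638
theorem L81646 : sm gj N6593 = N9552 := rfl
theorem L81648 : sm gb N9552 = N6599 := ded_24_1 (flp_j L56609) (flp_b L56565) L81646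
theorem L81650 : sm gd N9552 = N6596 := ded_37_1 (flp_j L56587) (flp_d L56567) L81646
theorem L81652 : sm gf N9552 = N6644 := ded_46_1 (flp_j L56981) (flp_f L56569) L81646
theorem L81654 : sm gh N6593 = N9553 := rfl
theorem L81656 : sm gb N9553 = N6600 := ded_25_1 (flp_h L56616) (flp_b L56565) L81654
theorem L81658 : sm gf N9553 = N6645 := ded_47_1 (flp_h L56988) (flp_f L56569) L81654
theorem L81660 : sm gg N9553 = N6594 := ded_50_1 (flp_h L56571) L56563 L81654
theorem L81662 : sm gd N9553 = N9553 := ded_38_1 (flp_h L81654) L56567 L39315 (flp_d L56567) L81654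
theorem L81663 : sm gi N6594 = N9554 := rfl
theorem L81665 : sm gb N9554 = N6601 := ded_26_1 (flp_i L56624) (flp_b L56573) L81663
theorem L81667 : sm gd N9554 = N9554 := ded_39_1 (flp_i L81663) L56577 L81663
theorem L81668 : sm gf N9554 = N6595 := ded_48_1 (flp_i L56578) (flp_f L56575) L81663
theorem L81670 : sm gf N6597 = N9555 := rfl
theorem L81672 : sm ga N9555 = N9555 := ded_14_1 (flp_f L81670) L56598 L81670
theorem L81673 : sm gd N9555 = N9555 := ded_35_1 (flp_f L81670) L56599 L81670
theorem L81674 : sm ge N9555 = N6647 := ded_40_1 (flp_f L57003) L39606 (flp_f L39329) (flp_e L56600) L81670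
theorem L81676 : sm gg N9555 = N6966 := ded_45_2 (flp_f L59760) (flp_g L41450) (flp_f L39322) L56596 L81670
theorem L81678 : sm gj N6597 = N9556 := rfl
theorem L81680 : sm ga N9556 = N9556 := ded_16_1 (flp_j L81678) L56598 L81678
theorem L81681 : sm gd N9556 = N9556 := ded_37_1 (flp_j L81678) L56599 L81678
theorem L81682 : sm ge N9556 = N6599 := ded_42_1 (flp_j L56609) (flp_e L56600) L81678
theorem L81684 : sm gh N6597 = N9557 := rfl
theorem L81686 : sm ga N9557 = N9557 := ded_17_1 (flp_h L81684) L56598 L81684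
theorem L81687 : sm ge N9557 = N6600 := ded_43_1 (flp_h L56616) (flp_e L56600) L81684
theorem L81689 : sm gg N9557 = N6598 := ded_50_1 (flp_h L56602) L56596 L81684
theorem L81691 : sm gd N6598 = N9558 := rfl
theorem L81693 : sm ga N9558 = N9558 := ded_12_1 (flp_d L81691) L56604 L81691
theorem L81694 : sm gf N9558 = N6969 := ded_35_2 (flp_d L59779) (flp_f L56607) L81691
theorem L81696 : sm ge N9558 = N9558 := ded_34_2 (flp_d L81691) L56605 L39336 (flp_e L56605) L81691
theorem L81697 : sm gh N9558 = N9558 := ded_38_2 (flp_d L81691) (flp_h L56602) L39321 L56602 L81691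
theorem L81698 : sm gi N6598 = N9559 := rfl
theorem L81700 : sm ga N9559 = N9559 := ded_18_1 (flp_i L81698) L56604 L81698
theorem L81701 : sm ge N9559 = N6601 := ded_44_1 (flp_i L56624) (flp_e L56605) L81698
theorem L81703 : sm gf N9559 = N6970 := ded_48_1 (flp_i L59785) (flp_f L56607) L81698
theorem L81705 : sm gh N6599 = N9560 := rfl
theorem L81707 : sm ga N9560 = N9560 := ded_17_1 (flp_h L81705) L56611 L81705
theorem L81708 : sm gf N9560 = N6652 := ded_47_1 (flp_h L57042) (flp_f L56614) L81705
theorem L81710 : sm gj N9560 = N6600 := ded_52_1 (flp_h L56616) L56609 L81705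
theorem L81712 : sm gd N9560 = N9560 := ded_38_1 (flp_h L81705) L56612 L39353 (flp_d L56612) L81705
theorem L81713 : sm gi N6600 = N9561 := rfl
theorem L81715 : sm ga N9561 = N9561 := ded_18_1 (flp_i L81713) L56618 L81713
theorem L81716 : sm gd N9561 = N9561 := ded_39_1 (flp_i L81713) L56623 L81713
theorem L81717 : sm gf N9561 = N6653 := ded_48_1 (flp_i L57049) (flp_f L56619) L81713
theorem L81719 : sm gg N9561 = N6601 := ded_51_1 (flp_i L56624) (flp_g L56621) L81713
theorem L81721 : sm gc N6602 = N9562 := rfl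
theorem L81723 : sm ga N9562 = N6604 := ded_11_1 (flp_c L56650) (flp_a L56632) L81721
theorem L81725 : sm ge N9562 = N9562 := ded_28_2 (flp_c L81721) L56637 L81721
theorem L81726 : sm gj N9562 = N9562 := ded_31_2 (flp_c L81721) L56635 L81721
theorem L81727 : sm gi N9562 = N9562 := ded_33_2 (flp_c L81721) L56636 L81721
theorem L81728 : sm gd N9562 = N9562 := ded_27_2 (flp_c L81721) (flp_d L56630) L39359 L56630 L81721
theorem L81729 : sm gf N6602 = N9563 := rfl
theorem L81731 : sm ga N9563 = N6605 := ded_14_1 (flp_f L56657) (flp_a L56632) L81729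
theorem L81733 : sm gb N9563 = N9563 := ded_22_1 (flp_f L81729) L56634 L81729
theorem L81734 : sm gd N9563 = N6603 := ded_35_1 (flp_f L56638) L56630 L81729
theorem L81736 : sm gj N9563 = N9563 := ded_46_2 (flp_f L81729) L56635 L81729
theorem L81737 : sm gi N9563 = N9563 := ded_48_2 (flp_f L81729) L56636 L81729
theorem L81738 : sm gh N6602 = N9564 := rfl
theorem L81740 : sm ga N9564 = N6606 := ded_17_1 (flp_h L56665) (flp_a L56632) L81738
theorem L81742 : sm gb N9564 = N9564 := ded_25_1 (flp_h L81738) L56634 L81738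
theorem L81743 : sm ge N9564 = N9564 := ded_43_1 (flp_h L81738) L56637 L81738
theorem L81744 : sm gj N9564 = N9564 := ded_52_1 (flp_h L81738) L56635 L81738
theorem L81745 : sm gd N9564 = N6615 := ded_38_1 (flp_h L56748) (flp_d L39419) (flp_h L39361) L56630 L81738
theorem L81747 : sm gg N6603 = N9565 := rfl
theorem L81749 : sm ga N9565 = N6607 := ded_15_1 (flp_g L56673) (flp_a L56640) L81747
theorem L81751 : sm gb N9565 = N9565 := ded_23_1 (flp_g L81747) L56642 L81747
theorem L81752 : sm gc N9565 = N9565 := ded_30_1 (flp_g L81747) L56643 L81747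
theorem L81753 : sm ge N9565 = N6668 := ded_41_1 (flp_g L57183) (flp_e L56648) L81747
theorem L81755 : sm gh N9565 = N6616 := ded_50_2 (flp_g L56756) (flp_h L56645) L81747
theorem L81757 : sm gi N9565 = N9565 := ded_51_2 (flp_g L81747) L56647 L81747
theorem L81758 : sm gf N6604 = N9566 := rfl
theorem L81760 : sm gb N9566 = N9566 := ded_22_1 (flp_f L81758) L56655 L81758
theorem L81761 : sm gc N9566 = N6605 := ded_29_1 (flp_f L56657) L56650 L81758
theorem L81763 : sm gd N9566 = N9566 := ded_35_1 (flp_f L81758) L56656 L81758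
theorem L81764 : sm gj N9566 = N9566 := ded_46_2 (flp_f L81758) L56653 L81758
theorem L81765 : sm gi N9566 = N9566 := ded_48_2 (flp_f L81758) L56654 L81758
theorem L81766 : sm gh N6604 = N9567 := rfl
theorem L81768 : sm gb N9567 = N9567 := ded_25_1 (flp_h L81766) L56655 L81766
theorem L81769 : sm gc N9567 = N6606 := ded_32_1 (flp_h L56665) L56650 L81766
theorem L81771 : sm ge N9567 = N9567 := ded_43_1 (flp_h L81766) L56652 L81766
theorem L81772 : sm gj N9567 = N9567 := ded_52_1 (flp_h L81766) L56653 L81766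
theorem L81773 : sm ge N6605 = N9568 := rfl
theorem L81775 : sm gb N9568 = N6608 := ded_21_1 (flp_e L56683) (flp_b L56659) L81773
theorem L81777 : sm gj N9568 = N9568 := ded_42_2 (flp_e L81773) L56663 L81773
theorem L81778 : sm gi N9568 = N9568 := ded_44_2 (flp_e L81773) L56664 L81773
theorem L81779 : sm gd N9568 = N6671 := ded_34_1 (flp_e L57207) L39730 (flp_e L39380) (flp_d L56661) L81773
theorem L81781 : sm gf N9568 = N9568 := ded_40_2 (flp_e L81773) (flp_f L56657) L39370 L56657 L81773
theorem L81782 : sm gg N6605 = N9569 := rfl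
theorem L81784 : sm gb N9569 = N6609 := ded_23_1 (flp_g L56692) (flp_b L56659) L81782
theorem L81786 : sm gd N9569 = N6607 := ded_36_1 (flp_g L56673) (flp_d L56661) L81782
theorem L81788 : sm gi N9569 = N9569 := ded_51_2 (flp_g L81782) L56664 L81782
theorem L81789 : sm gh N6605 = N9570 := rfl
theorem L81791 : sm gb N9570 = N6610 := ded_25_1 (flp_h L56699) (flp_b L56659) L81789
theorem L81793 : sm gf N9570 = N6606 := ded_47_1 (flp_h L56665) L56657 L81789
theorem L81795 : sm gj N9570 = N9570 := ded_52_1 (flp_h L81789) L56663 L81789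
theorem L81796 : sm gd N9570 = N6621 := ded_38_1 (flp_h L56800) L39452 (flp_h L39377) (flp_d L56661) L81789
theorem L81798 : sm gi N6606 = N9571 := rfl
theorem L81800 : sm gb N9571 = N6611 := ded_26_1 (flp_i L56708) (flp_b L56667) L81798
theorem L81802 : sm gd N9571 = N6622 := ded_39_1 (flp_i L56807) (flp_d L56671) L81798
theorem L81804 : sm ge N9571 = N9571 := ded_44_1 (flp_i L81798) L56669 L81798
theorem L81805 : sm gj N9571 = N9571 := ded_53_1 (flp_i L81798) L56670 L81798
theorem L81806 : sm gh N9571 = N9571 := ded_54_1 (flp_i L81798) (flp_h L56665) L39369 L56665 L81798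
theorem L81807 : sm gj N6607 = N9572 := rfl
theorem L81809 : sm gb N9572 = N6612 := ded_24_1 (flp_j L56717) (flp_b L56675) L81807
theorem L81811 : sm gc N9572 = N9572 := ded_31_1 (flp_j L81807) L56677 L81807
theorem L81812 : sm ge N9572 = N6675 := ded_42_1 (flp_j L57241) (flp_e L56678) L81807
theorem L81814 : sm gh N9572 = N6623 := ded_52_2 (flp_j L56816) (flp_h L56680) L81807
theorem L81816 : sm gi N9572 = N9572 := ded_53_2 (flp_j L81807) L56682 L81807
theorem L81817 : sm gg N9572 = N9572 := ded_49_1 (flp_j L81807) (flp_g L56673) L39376 L56673 L81807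
theorem L81818 : sm gg N6608 = N9573 := rfl
theorem L81820 : sm ga N9573 = N9573 := ded_15_1 (flp_g L81818) L56685 L81818
theorem L81821 : sm gc N9573 = N9573 := ded_30_1 (flp_g L81818) L56686 L81818
theorem L81822 : sm gd N9573 = N6676 := ded_36_1 (flp_g L57251) (flp_d L56689) L81818
theorem L81824 : sm ge N9573 = N6609 := ded_41_1 (flp_g L56692) L56683 L81818
theorem L81826 : sm gi N9573 = N9573 := ded_51_2 (flp_g L81818) L56688 L81818
theorem L81827 : sm gh N6608 = N9574 := rfl
theorem L81829 : sm ga N9574 = N9574 := ded_17_1 (flp_h L81827) L56685 L81827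
theorem L81830 : sm gc N9574 = N9574 := ded_32_1 (flp_h L81827) L56686 L81827
theorem L81831 : sm ge N9574 = N6610 := ded_43_1 (flp_h L56699) L56683 L81827
theorem L81833 : sm gf N9574 = N9574 := ded_47_1 (flp_h L81827) L56691 L81827
theorem L81834 : sm gj N9574 = N9574 := ded_52_1 (flp_h L81827) L56687 L81827
theorem L81835 : sm gj N6609 = N9575 := rfl
theorem L81837 : sm ga N9575 = N9575 := ded_16_1 (flp_j L81835) L56694 L81835
theorem L81838 : sm gc N9575 = N9575 := ded_31_1 (flp_j L81835) L56695 L81835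
theorem L81839 : sm gd N9575 = N6612 := ded_37_1 (flp_j L56717) (flp_d L56696) L81835
theorem L81841 : sm gi N9575 = N9575 := ded_53_2 (flp_j L81835) L56698 L81835
theorem L81842 : sm gg N9575 = N9575 := ded_49_1 (flp_j L81835) (flp_g L56692) L39388 L56692 L81835
theorem L81843 : sm gh N6609 = N9576 := rfl
theorem L81845 : sm ga N9576 = N9576 := ded_17_1 (flp_h L81843) L56694 L81843
theorem L81846 : sm gc N9576 = N9576 := ded_32_1 (flp_h L81843) L56695 L81843
theorem L81847 : sm gg N9576 = N6610 := ded_50_1 (flp_h L56699) L56692 L81843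
theorem L81849 : sm gd N9576 = N6627 := ded_38_1 (flp_h L56851) L39486 (flp_h L39405) (flp_d L56696) L81843
theorem L81851 : sm gi N6610 = N9577 := rfl
theorem L81853 : sm ga N9577 = N9577 := ded_18_1 (flp_i L81851) L56701 L81851
theorem L81854 : sm gc N9577 = N9577 := ded_33_1 (flp_i L81851) L56702 L81851
theorem L81855 : sm gd N9577 = N6628 := ded_39_1 (flp_i L56856) (flp_d L56706) L81851
theorem L81857 : sm gf N9577 = N6611 := ded_48_1 (flp_i L56708) (flp_f L56703) L81851
theorem L81859 : sm gj N9577 = N9577 := ded_53_1 (flp_i L81851) L56705 L81851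
theorem L81860 : sm gh N9577 = N9577 := ded_54_1 (flp_i L81851) (flp_h L56699) L39389 L56699 L81851
theorem L81861 : sm gb N6613 = N9578 := rfl
theorem L81863 : sm gd N9578 = N9578 := ded_20_2 (flp_b L81861) L56737 L81861
theorem L81864 : sm ge N9578 = N6973 := ded_21_2 (flp_b L59808) (flp_e L56732) L81861
theorem L81866 : sm gj N9578 = N9578 := ded_24_2 (flp_b L81861) L56734 L81861
theorem L81867 : sm gi N9578 = N6629 := ded_26_2 (flp_b L56864) (flp_i L56735) L81861
theorem L81869 : sm gc N9578 = N9578 := ded_19_2 (flp_b L81861) (flp_c L56728) L39423 L56728 L81861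
theorem L81870 : sm gf N6613 = N9579 := rfl
theorem L81872 : sm ga N9579 = N6617 := ded_14_1 (flp_f L56766) (flp_a L56730) L81870
theorem L81874 : sm gc N9579 = N6614 := ded_29_1 (flp_f L56738) L56728 L81870
theorem L81876 : sm gd N9579 = N9579 := ded_35_1 (flp_f L81870) L56737 L81870
theorem L81877 : sm gj N9579 = N9579 := ded_46_2 (flp_f L81870) L56734 L81870
theorem L81878 : sm gi N9579 = N6630 := ded_48_2 (flp_f L56871) (flp_i L56735) L81870
theorem L81880 : sm gh N6613 = N9580 := rfl
theorem L81882 : sm ga N9580 = N6618 := ded_17_1 (flp_h L56774) (flp_a L56730) L81880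
theorem L81884 : sm gc N9580 = N6615 := ded_32_1 (flp_h L56748) L56728 L81880
theorem L81886 : sm ge N9580 = N6975 := ded_43_1 (flp_h L59827) (flp_e L56732) L81880
theorem L81888 : sm gj N9580 = N9580 := ded_52_1 (flp_h L81880) L56734 L81880
theorem L81889 : sm ge N6614 = N9581 := rfl
theorem L81891 : sm ga N9581 = N6619 := ded_13_1 (flp_e L56781) (flp_a L56740) L81889
theorem L81893 : sm gb N9581 = N9581 := ded_21_1 (flp_e L81889) L56742 L81889
theorem L81894 : sm gj N9581 = N9581 := ded_42_2 (flp_e L81889) L56745 L81889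
theorem L81895 : sm gi N9581 = N6632 := ded_44_2 (flp_e L56888) (flp_i L56746) L81889
theorem L81897 : sm gd N9581 = N6684 := ded_34_1 (flp_e L57320) L39808 (flp_e L39438) (flp_d L56743) L81889
theorem L81899 : sm gf N9581 = N6976 := ded_40_2 (flp_e L59834) (flp_f L41493) (flp_e L39427) L56738 L81889
theorem L81901 : sm gg N6614 = N9582 := rfl
theorem L81903 : sm ga N9582 = N6620 := ded_15_1 (flp_g L56792) (flp_a L56740) L81901
theorem L81905 : sm gb N9582 = N9582 := ded_23_1 (flp_g L81901) L56742 L81901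
theorem L81906 : sm gd N9582 = N6616 := ded_36_1 (flp_g L56756) (flp_d L56743) L81901
theorem L81908 : sm gi N9582 = N6633 := ded_51_2 (flp_g L56898) (flp_i L56746) L81901
theorem L81910 : sm gh N6614 = N9583 := rfl
theorem L81912 : sm ga N9583 = N6621 := ded_17_1 (flp_h L56800) (flp_a L56740) L81910
theorem L81914 : sm gb N9583 = N9583 := ded_25_1 (flp_h L81910) L56742 L81910
theorem L81915 : sm gf N9583 = N6615 := ded_47_1 (flp_h L56748) L56738 L81910
theorem L81917 : sm gj N9583 = N9583 := ded_52_1 (flp_h L81910) L56745 L81910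
theorem L81918 : sm gi N6615 = N9584 := rfl
theorem L81920 : sm ga N9584 = N6622 := ded_18_1 (flp_i L56807) (flp_a L56750) L81918
theorem L81922 : sm gb N9584 = N9584 := ded_26_1 (flp_i L81918) L56752 L81918
theorem L81923 : sm ge N9584 = N6979 := ded_44_1 (flp_i L59862) (flp_e L56753) L81918
theorem L81925 : sm gj N9584 = N9584 := ded_53_1 (flp_i L81918) L56755 L81918
theorem L81926 : sm gh N9584 = N6635 := ded_54_1 (flp_i L56914) (flp_h L39530) (flp_i L39425) L56748 L81918
theorem L81928 : sm gj N6616 = N9585 := rfl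
theorem L81930 : sm ga N9585 = N6623 := ded_16_1 (flp_j L56816) (flp_a L56758) L81928
theorem L81932 : sm gb N9585 = N9585 := ded_24_1 (flp_j L81928) L56760 L81928
theorem L81933 : sm gc N9585 = N9585 := ded_31_1 (flp_j L81928) L56761 L81928
theorem L81934 : sm ge N9585 = N6688 := ded_42_1 (flp_j L57359) (flp_e L56762) L81928
theorem L81936 : sm gi N9585 = N6636 := ded_53_2 (flp_j L56923) (flp_i L56764) L81928
theorem L81938 : sm gg N9585 = N9585 := ded_49_1 (flp_j L81928) (flp_g L56756) L39435 L56756 L81928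
theorem L81939 : sm ge N6617 = N9586 := rfl
theorem L81941 : sm gc N9586 = N6619 := ded_28_1 (flp_e L56781) (flp_c L56768) L81939
theorem L81943 : sm gj N9586 = N9586 := ded_42_2 (flp_e L81939) L56771 L81939
theorem L81944 : sm gi N9586 = N6637 := ded_44_2 (flp_e L56933) (flp_i L56772) L81939
theorem L81946 : sm gf N9586 = N6981 := ded_40_2 (flp_e L59884) (flp_f L41522) (flp_e L39442) L56766 L81939
theorem L81948 : sm gg N6617 = N9587 := rfl
theorem L81950 : sm gc N9587 = N6620 := ded_30_1 (flp_g L56792) (flp_c L56768) L81948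
theorem L81952 : sm gd N9587 = N9587 := ded_36_1 (flp_g L81948) L56770 L81948
theorem L81953 : sm gi N9587 = N6638 := ded_51_2 (flp_g L56940) (flp_i L56772) L81948
theorem L81955 : sm gh N6617 = N9588 := rfl
theorem L81957 : sm gc N9588 = N6621 := ded_32_1 (flp_h L56800) (flp_c L56768) L81955
theorem L81959 : sm gf N9588 = N6618 := ded_47_1 (flp_h L56774) L56766 L81955
theorem L81961 : sm gj N9588 = N9588 := ded_52_1 (flp_h L81955) L56771 L81955
theorem L81962 : sm gd N6618 = N9589 := rfl
theorem L81964 : sm gj N9589 = N9589 := ded_37_2 (flp_d L81962) L56780 L81962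
theorem L81965 : sm gh N9589 = N9589 := ded_38_2 (flp_d L81962) (flp_h L56774) L39447 L56774 L81962
theorem L81966 : sm gi N6618 = N9590 := rfl
theorem L81968 : sm gc N9590 = N6622 := ded_33_1 (flp_i L56807) (flp_c L56776) L81966
theorem L81970 : sm ge N9590 = N6985 := ded_44_1 (flp_i L59912) (flp_e L56778) L81966
theorem L81972 : sm gj N9590 = N9590 := ded_53_1 (flp_i L81966) L56780 L81966
theorem L81973 : sm gh N9590 = N6641 := ded_54_1 (flp_i L56957) (flp_h L39554) (flp_i L39445) L56774 L81966
theorem L81975 : sm gg N6619 = N9591 := rfl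
theorem L81977 : sm gb N9591 = N6624 := ded_23_1 (flp_g L56826) (flp_b L56783) L81975
theorem L81979 : sm gd N9591 = N6694 := ded_36_1 (flp_g L57413) (flp_d L56788) L81975
theorem L81981 : sm ge N9591 = N6620 := ded_41_1 (flp_g L56792) L56781 L81975
theorem L81983 : sm gi N9591 = N6642 := ded_51_2 (flp_g L56964) (flp_i L56786) L81975
theorem L81985 : sm gh N6619 = N9592 := rfl
theorem L81987 : sm gb N9592 = N6625 := ded_25_1 (flp_h L56835) (flp_b L56783) L81985
theorem L81989 : sm ge N9592 = N6621 := ded_43_1 (flp_h L56800) L56781 L81985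
theorem L81991 : sm gf N9592 = N6987 := ded_47_1 (flp_h L59929) (flp_f L56790) L81985
theorem L81993 : sm gj N9592 = N9592 := ded_52_1 (flp_h L81985) L56785 L81985
theorem L81994 : sm gj N6620 = N9593 := rfl
theorem L81996 : sm gb N9593 = N6626 := ded_24_1 (flp_j L56843) (flp_b L56794) L81994
theorem L81998 : sm gd N9593 = N6623 := ded_37_1 (flp_j L56816) (flp_d L56796) L81994
theorem L82000 : sm gi N9593 = N6644 := ded_53_2 (flp_j L56981) (flp_i L56798) L81994
theorem L82002 : sm gg N9593 = N9593 := ded_49_1 (flp_j L81994) (flp_g L56792) L39454 L56792 L81994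
theorem L82003 : sm gh N6620 = N9594 := rfl
theorem L82005 : sm gb N9594 = N6627 := ded_25_1 (flp_h L56851) (flp_b L56794) L82003
theorem L82007 : sm gg N9594 = N6621 := ded_50_1 (flp_h L56800) L56792 L82003
theorem L82009 : sm gi N6621 = N9595 := rfl
theorem L82011 : sm gb N9595 = N6628 := ded_26_1 (flp_i L56856) (flp_b L56802) L82009
theorem L82013 : sm gf N9595 = N6622 := ded_48_1 (flp_i L56807) (flp_f L56804) L82009
theorem L82015 : sm gj N9595 = N9595 := ded_53_1 (flp_i L82009) L56806 L82009
theorem L82016 : sm gh N9595 = N6646 := ded_54_1 (flp_i L56995) (flp_h L39576) (flp_i L39455) L56800 L82009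
theorem L82018 : sm gf N6624 = N9596 := rfl
theorem L82020 : sm ga N9596 = N9596 := ded_14_1 (flp_f L82018) L56828 L82018
theorem L82021 : sm gd N9596 = N6699 := ded_35_1 (flp_f L57456) (flp_d L56829) L82018
theorem L82023 : sm gi N9596 = N6647 := ded_48_2 (flp_f L57003) (flp_i L56833) L82018
theorem L82025 : sm gg N9596 = N6991 := ded_45_2 (flp_f L59962) (flp_g L41581) (flp_f L39481) L56826 L82018
theorem L82027 : sm gj N6624 = N9597 := rfl
theorem L82029 : sm ga N9597 = N9597 := ded_16_1 (flp_j L82027) L56828 L82027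
theorem L82030 : sm gd N9597 = N6700 := ded_37_1 (flp_j L57465) (flp_d L56829) L82027
theorem L82032 : sm ge N9597 = N6626 := ded_42_1 (flp_j L56843) (flp_e L56831) L82027
theorem L82034 : sm gi N9597 = N6648 := ded_53_2 (flp_j L57010) (flp_i L56833) L82027
theorem L82036 : sm gg N9597 = N9597 := ded_49_1 (flp_j L82027) (flp_g L56826) L39476 L56826 L82027
theorem L82037 : sm gh N6624 = N9598 := rfl
theorem L82039 : sm ga N9598 = N9598 := ded_17_1 (flp_h L82037) L56828 L82037
theorem L82040 : sm ge N9598 = N6627 := ded_43_1 (flp_h L56851) (flp_e L56831) L82037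
theorem L82042 : sm gg N9598 = N6625 := ded_50_1 (flp_h L56835) L56826 L82037
theorem L82044 : sm gd N6625 = N9599 := rfl
theorem L82046 : sm ga N9599 = N9599 := ded_12_1 (flp_d L82044) L56837 L82044
theorem L82047 : sm gf N9599 = N6994 := ded_35_2 (flp_d L59986) (flp_f L56840) L82044
theorem L82049 : sm gj N9599 = N9599 := ded_37_2 (flp_d L82044) L56842 L82044
theorem L82050 : sm gh N9599 = N6702 := ded_38_2 (flp_d L57482) (flp_h L39901) (flp_d L39479) L56835 L82044
theorem L82052 : sm gi N6625 = N9600 := rfl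
theorem L82054 : sm ga N9600 = N9600 := ded_18_1 (flp_i L82052) L56837 L82052
theorem L82055 : sm ge N9600 = N6628 := ded_44_1 (flp_i L56856) (flp_e L56838) L82052
theorem L82057 : sm gf N9600 = N6995 := ded_48_1 (flp_i L59993) (flp_f L56840) L82052
theorem L82059 : sm gj N9600 = N9600 := ded_53_1 (flp_i L82052) L56842 L82052
theorem L82060 : sm gh N9600 = N6651 := ded_54_1 (flp_i L57034) (flp_h L39608) (flp_i L39477) L56835 L82052
theorem L82062 : sm gh N6626 = N9601 := rfl
theorem L82064 : sm ga N9601 = N9601 := ded_17_1 (flp_h L82062) L56845 L82062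
theorem L82065 : sm gg N9601 = N9601 := ded_50_1 (flp_h L82062) L56850 L82062
theorem L82066 : sm gj N9601 = N6627 := ded_52_1 (flp_h L56851) L56843 L82062
theorem L82068 : sm gi N6627 = N9602 := rfl
theorem L82070 : sm ga N9602 = N9602 := ded_18_1 (flp_i L82068) L56853 L82068
theorem L82071 : sm gg N9602 = N6628 := ded_51_1 (flp_i L56856) (flp_g L56854) L82068
theorem L82073 : sm gh N9602 = N6653 := ded_54_1 (flp_i L57049) (flp_h L39622) (flp_i L39488) L56851 L82068
theorem L82075 : sm gf N6629 = N9603 := rfl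
theorem L82077 : sm gb N9603 = N6630 := ded_22_1 (flp_f L56871) L56864 L82075
theorem L82079 : sm gc N9603 = N9603 := ded_29_1 (flp_f L82075) L56870 L82075
theorem L82080 : sm gd N9603 = N9603 := ded_35_1 (flp_f L82075) L56866 L82075
theorem L82081 : sm gj N9603 = N9603 := ded_46_2 (flp_f L82075) L56869 L82075
theorem L82082 : sm gh N6629 = N9604 := rfl
theorem L82084 : sm gb N9604 = N6631 := ded_25_1 (flp_h L56879) L56864 L82082
theorem L82086 : sm gc N9604 = N9604 := ded_32_1 (flp_h L82082) L56870 L82082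
theorem L82087 : sm ge N9604 = N6999 := ded_43_1 (flp_h L60024) (flp_e L56867) L82082
theorem L82089 : sm gj N9604 = N9604 := ded_52_1 (flp_h L82082) L56869 L82082
theorem L82090 : sm ge N6630 = N9605 := rfl
theorem L82092 : sm ga N9605 = N6637 := ded_13_1 (flp_e L56933) (flp_a L56873) L82090
theorem L82094 : sm gc N9605 = N6632 := ded_28_1 (flp_e L56888) (flp_c L56875) L82090
theorem L82096 : sm gj N9605 = N9605 := ded_42_2 (flp_e L82090) L56878 L82090
theorem L82097 : sm gf N9605 = N7000 := ded_40_2 (flp_e L60030) (flp_f L41625) (flp_e L39518) L56871 L82090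
theorem L82099 : sm gg N6630 = N9606 := rfl
theorem L82101 : sm ga N9606 = N6638 := ded_15_1 (flp_g L56940) (flp_a L56873) L82099
theorem L82103 : sm gc N9606 = N6633 := ded_30_1 (flp_g L56898) (flp_c L56875) L82099
theorem L82105 : sm gd N9606 = N9606 := ded_36_1 (flp_g L82099) L56877 L82099
theorem L82106 : sm gh N6630 = N9607 := rfl
theorem L82108 : sm ga N9607 = N6639 := ded_17_1 (flp_h L56945) (flp_a L56873) L82106
theorem L82110 : sm gc N9607 = N6634 := ded_32_1 (flp_h L56905) (flp_c L56875) L82106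
theorem L82112 : sm gf N9607 = N6631 := ded_47_1 (flp_h L56879) L56871 L82106
theorem L82114 : sm gj N9607 = N9607 := ded_52_1 (flp_h L82106) L56878 L82106
theorem L82115 : sm gd N6631 = N9608 := rfl
theorem L82117 : sm ga N9608 = N6640 := ded_12_1 (flp_d L56952) (flp_a L56881) L82115
theorem L82119 : sm gj N9608 = N9608 := ded_37_2 (flp_d L82115) L56887 L82115
theorem L82120 : sm gc N9608 = N9608 := ded_27_1 (flp_d L82115) L56883 L39538 (flp_c L56883) L82115
theorem L82121 : sm gh N9608 = N9608 := ded_38_2 (flp_d L82115) (flp_h L56879) L39521 L56879 L82115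
theorem L82122 : sm gi N6631 = N9609 := rfl
theorem L82124 : sm ga N9609 = N6641 := ded_18_1 (flp_i L56957) (flp_a L56881) L82122
theorem L82126 : sm gc N9609 = N6635 := ded_33_1 (flp_i L56914) (flp_c L56883) L82122
theorem L82128 : sm ge N9609 = N7004 := ded_44_1 (flp_i L60063) (flp_e L56885) L82122
theorem L82130 : sm gj N9609 = N9609 := ded_53_1 (flp_i L82122) L56887 L82122
theorem L82131 : sm gg N6632 = N9610 := rfl
theorem L82133 : sm ga N9610 = N6642 := ded_15_1 (flp_g L56964) (flp_a L56890) L82131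
theorem L82135 : sm gb N9610 = N9610 := ded_23_1 (flp_g L82131) L56892 L82131
theorem L82136 : sm gd N9610 = N6713 := ded_36_1 (flp_g L57579) (flp_d L56894) L82131
theorem L82138 : sm ge N9610 = N6633 := ded_41_1 (flp_g L56898) L56888 L82131
theorem L82140 : sm gh N6632 = N9611 := rfl
theorem L82142 : sm ga N9611 = N6643 := ded_17_1 (flp_h L56972) (flp_a L56890) L82140
theorem L82144 : sm gb N9611 = N9611 := ded_25_1 (flp_h L82140) L56892 L82140
theorem L82145 : sm ge N9611 = N6634 := ded_43_1 (flp_h L56905) L56888 L82140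
theorem L82147 : sm gf N9611 = N7006 := ded_47_1 (flp_h L60079) (flp_f L56896) L82140
theorem L82149 : sm gj N9611 = N9611 := ded_52_1 (flp_h L82140) L56893 L82140
theorem L82150 : sm gj N6633 = N9612 := rfl
theorem L82152 : sm ga N9612 = N6644 := ded_16_1 (flp_j L56981) (flp_a L56900) L82150
theorem L82154 : sm gb N9612 = N9612 := ded_24_1 (flp_j L82150) L56902 L82150
theorem L82155 : sm gd N9612 = N6636 := ded_37_1 (flp_j L56923) (flp_d L56903) L82150
theorem L82157 : sm gg N9612 = N9612 := ded_49_1 (flp_j L82150) (flp_g L56898) L39529 L56898 L82150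
theorem L82158 : sm gh N6633 = N9613 := rfl
theorem L82160 : sm ga N9613 = N6645 := ded_17_1 (flp_h L56988) (flp_a L56900) L82158
theorem L82162 : sm gb N9613 = N9613 := ded_25_1 (flp_h L82158) L56902 L82158
theorem L82163 : sm gg N9613 = N6634 := ded_50_1 (flp_h L56905) L56898 L82158
theorem L82165 : sm gd N9613 = N9613 := ded_38_1 (flp_h L82158) L56903 L39547 (flp_d L56903) L82158
theorem L82166 : sm gi N6634 = N9614 := rfl
theorem L82168 : sm ga N9614 = N6646 := ded_18_1 (flp_i L56995) (flp_a L56907) L82166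
theorem L82170 : sm gb N9614 = N9614 := ded_26_1 (flp_i L82166) L56909 L82166
theorem L82171 : sm gd N9614 = N9614 := ded_39_1 (flp_i L82166) L56913 L82166
theorem L82172 : sm gf N9614 = N6635 := ded_48_1 (flp_i L56914) (flp_f L56910) L82166
theorem L82174 : sm gj N9614 = N9614 := ded_53_1 (flp_i L82166) L56912 L82166
theorem L82175 : sm gd N6637 = N9615 := rfl
theorem L82177 : sm gf N9615 = N7010 := ded_35_2 (flp_d L60114) (flp_f L56938) L82175
theorem L82179 : sm gj N9615 = N9615 := ded_37_2 (flp_d L82175) L56937 L82175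
theorem L82180 : sm gc N9615 = N6718 := ded_27_1 (flp_d L57623) L40010 (flp_d L39566) (flp_c L56935) L82175
theorem L82182 : sm ge N9615 = N9615 := ded_34_2 (flp_d L82175) (flp_e L56933) L39552 L56933 L82175
theorem L82183 : sm gg N6637 = N9616 := rfl
theorem L82185 : sm gc N9616 = N6642 := ded_30_1 (flp_g L56964) (flp_c L56935) L82183
theorem L82187 : sm ge N9616 = N6638 := ded_41_1 (flp_g L56940) L56933 L82183
theorem L82189 : sm gh N6637 = N9617 := rfl
theorem L82191 : sm gc N9617 = N6643 := ded_32_1 (flp_h L56972) (flp_c L56935) L82189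
theorem L82193 : sm ge N9617 = N6639 := ded_43_1 (flp_h L56945) L56933 L82189
theorem L82195 : sm gf N9617 = N7012 := ded_47_1 (flp_h L60127) (flp_f L56938) L82189
theorem L82197 : sm gj N9617 = N9617 := ded_52_1 (flp_h L82189) L56937 L82189
theorem L82198 : sm gj N6638 = N9618 := rfl
theorem L82200 : sm gc N9618 = N6644 := ded_31_1 (flp_j L56981) (flp_c L56942) L82198
theorem L82202 : sm gd N9618 = N9618 := ded_37_1 (flp_j L82198) L56944 L82198
theorem L82203 : sm gg N9618 = N9618 := ded_49_1 (flp_j L82198) (flp_g L56940) L39553 L56940 L82198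
theorem L82204 : sm gh N6638 = N9619 := rfl
theorem L82206 : sm gc N9619 = N6645 := ded_32_1 (flp_h L56988) (flp_c L56942) L82204
theorem L82208 : sm gg N9619 = N6639 := ded_50_1 (flp_h L56945) L56940 L82204
theorem L82210 : sm gd N6639 = N9620 := rfl
theorem L82212 : sm gf N9620 = N6640 := ded_35_2 (flp_d L56952) (flp_f L56949) L82210
theorem L82214 : sm gj N9620 = N9620 := ded_37_2 (flp_d L82210) L56951 L82210
theorem L82215 : sm gc N9620 = N9620 := ded_27_1 (flp_d L82210) L56947 L39583 (flp_c L56947) L82210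
theorem L82216 : sm gh N9620 = N9620 := ded_38_2 (flp_d L82210) (flp_h L56945) L39552 L56945 L82210
theorem L82217 : sm gi N6639 = N9621 := rfl
theorem L82219 : sm gc N9621 = N6646 := ded_33_1 (flp_i L56995) (flp_c L56947) L82217
theorem L82221 : sm gf N9621 = N6641 := ded_48_1 (flp_i L56957) (flp_f L56949) L82217
theorem L82223 : sm gj N9621 = N9621 := ded_53_1 (flp_i L82217) L56951 L82217
theorem L82224 : sm ge N6640 = N9622 := rfl
theorem L82226 : sm gc N9622 = N9622 := ded_28_1 (flp_e L82224) L56955 L82224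
theorem L82227 : sm gj N9622 = N9622 := ded_42_2 (flp_e L82224) L56954 L82224
theorem L82228 : sm gh N9622 = N9622 := ded_43_2 (flp_e L82224) L56956 L82224
theorem L82229 : sm gd N9622 = N7017 := ded_34_1 (flp_e L60163) (flp_d L41704) (flp_e L39558) L56952 L82224
theorem L82231 : sm gi N6640 = N9623 := rfl
theorem L82233 : sm gc N9623 = N9623 := ded_33_1 (flp_i L82231) L56955 L82231
theorem L82234 : sm gd N9623 = N6641 := ded_39_1 (flp_i L56957) L56952 L82231
theorem L82236 : sm gj N9623 = N9623 := ded_53_1 (flp_i L82231) L56954 L82231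
theorem L82237 : sm gf N6642 = N9624 := rfl
theorem L82239 : sm gb N9624 = N6647 := ded_22_1 (flp_f L57003) (flp_b L56966) L82237
theorem L82241 : sm gd N9624 = N6726 := ded_35_1 (flp_f L57688) (flp_d L56968) L82237
theorem L82243 : sm gg N9624 = N7019 := ded_45_2 (flp_f L60177) (flp_g L41716) (flp_f L39568) L56964 L82237
theorem L82245 : sm gj N6642 = N9625 := rfl
theorem L82247 : sm gb N9625 = N6648 := ded_24_1 (flp_j L57010) (flp_b L56966) L82245
theorem L82249 : sm gd N9625 = N6727 := ded_37_1 (flp_j L57695) (flp_d L56968) L82245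
theorem L82251 : sm ge N9625 = N6644 := ded_42_1 (flp_j L56981) (flp_e L56970) L82245
theorem L82253 : sm gg N9625 = N9625 := ded_49_1 (flp_j L82245) (flp_g L56964) L39565 L56964 L82245
theorem L82254 : sm gh N6642 = N9626 := rfl
theorem L82256 : sm gb N9626 = N6649 := ded_25_1 (flp_h L57018) (flp_b L56966) L82254
theorem L82258 : sm ge N9626 = N6645 := ded_43_1 (flp_h L56988) (flp_e L56970) L82254
theorem L82260 : sm gg N9626 = N6643 := ded_50_1 (flp_h L56972) L56964 L82254
theorem L82262 : sm gd N6643 = N9627 := rfl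
theorem L82264 : sm gb N9627 = N6650 := ded_20_1 (flp_d L57025) (flp_b L56974) L82262
theorem L82266 : sm gf N9627 = N7022 := ded_35_2 (flp_d L60200) (flp_f L56978) L82262
theorem L82268 : sm gj N9627 = N9627 := ded_37_2 (flp_d L82262) L56980 L82262
theorem L82269 : sm ge N9627 = N9627 := ded_34_2 (flp_d L82262) L56976 L39583 (flp_e L56976) L82262
theorem L82270 : sm gh N9627 = N6729 := ded_38_2 (flp_d L57710) (flp_h L40053) (flp_d L39566) L56972 L82262
theorem L82272 : sm gi N6643 = N9628 := rfl
theorem L82274 : sm gb N9628 = N6651 := ded_26_1 (flp_i L57034) (flp_b L56974) L82272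
theorem L82276 : sm ge N9628 = N6646 := ded_44_1 (flp_i L56995) (flp_e L56976) L82272
theorem L82278 : sm gf N9628 = N7023 := ded_48_1 (flp_i L60209) (flp_f L56978) L82272
theorem L82280 : sm gj N9628 = N9628 := ded_53_1 (flp_i L82272) L56980 L82272
theorem L82281 : sm gh N6644 = N9629 := rfl
theorem L82283 : sm gb N9629 = N6652 := ded_25_1 (flp_h L57042) (flp_b L56983) L82281
theorem L82285 : sm gg N9629 = N9629 := ded_50_1 (flp_h L82281) L56987 L82281
theorem L82286 : sm gj N9629 = N6645 := ded_52_1 (flp_h L56988) L56981 L82281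
theorem L82288 : sm gd N9629 = N9629 := ded_38_1 (flp_h L82281) L56985 L39599 (flp_d L56985) L82281
theorem L82289 : sm gi N6645 = N9630 := rfl
theorem L82291 : sm gb N9630 = N6653 := ded_26_1 (flp_i L57049) (flp_b L56990) L82289
theorem L82293 : sm gd N9630 = N9630 := ded_39_1 (flp_i L82289) L56994 L82289
theorem L82294 : sm gg N9630 = N6646 := ded_51_1 (flp_i L56995) (flp_g L56992) L82289
theorem L82296 : sm gj N6647 = N9631 := rfl
theorem L82298 : sm ga N9631 = N9631 := ded_16_1 (flp_j L82296) L57005 L82296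
theorem L82299 : sm gd N9631 = N6733 := ded_37_1 (flp_j L57744) (flp_d L57006) L82296
theorem L82301 : sm gf N9631 = N6648 := ded_46_1 (flp_j L57010) L57003 L82296
theorem L82303 : sm gh N6647 = N9632 := rfl
theorem L82305 : sm ga N9632 = N9632 := ded_17_1 (flp_h L82303) L57005 L82303
theorem L82306 : sm gf N9632 = N6649 := ded_47_1 (flp_h L57018) L57003 L82303
theorem L82308 : sm gg N9632 = N7027 := ded_50_1 (flp_h L60240) (flp_g L57008) L82303
theorem L82310 : sm gh N6648 = N9633 := rfl
theorem L82312 : sm ga N9633 = N9633 := ded_17_1 (flp_h L82310) L57012 L82310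
theorem L82313 : sm ge N9633 = N6652 := ded_43_1 (flp_h L57042) (flp_e L57015) L82310
theorem L82315 : sm gg N9633 = N9633 := ded_50_1 (flp_h L82310) L57017 L82310
theorem L82316 : sm gj N9633 = N6649 := ded_52_1 (flp_h L57018) L57010 L82310
theorem L82318 : sm gd N6649 = N9634 := rfl
theorem L82320 : sm ga N9634 = N9634 := ded_12_1 (flp_d L82318) L57020 L82318
theorem L82321 : sm gg N9634 = N6650 := ded_36_2 (flp_d L57025) (flp_g L57023) L82318
theorem L82323 : sm ge N9634 = N9634 := ded_34_2 (flp_d L82318) L57021 L39627 (flp_e L57021) L82318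
theorem L82324 : sm gh N9634 = N6736 := ded_38_2 (flp_d L57769) (flp_h L40100) (flp_d L39604) L57018 L82318
theorem L82326 : sm gi N6649 = N9635 := rfl
theorem L82328 : sm ga N9635 = N9635 := ded_18_1 (flp_i L82326) L57020 L82326
theorem L82329 : sm ge N9635 = N6653 := ded_44_1 (flp_i L57049) (flp_e L57021) L82326
theorem L82331 : sm gg N9635 = N6651 := ded_51_1 (flp_i L57034) (flp_g L57023) L82326
theorem L82333 : sm gc N6650 = N9636 := rfl
theorem L82335 : sm ga N9636 = N9636 := ded_11_1 (flp_c L82333) L57027 L82333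
theorem L82336 : sm ge N9636 = N9636 := ded_28_2 (flp_c L82333) L57031 L82333
theorem L82337 : sm gf N9636 = N7031 := ded_29_2 (flp_c L60269) (flp_f L57028) L82333
theorem L82339 : sm gj N9636 = N9636 := ded_31_2 (flp_c L82333) L57030 L82333
theorem L82340 : sm gh N9636 = N6738 := ded_32_2 (flp_c L57783) (flp_h L57032) L82333
theorem L82342 : sm gi N6650 = N9637 := rfl
theorem L82344 : sm ga N9637 = N9637 := ded_18_1 (flp_i L82342) L57027 L82342
theorem L82345 : sm gd N9637 = N6651 := ded_39_1 (flp_i L57034) L57025 L82342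
theorem L82347 : sm ge N9637 = N9637 := ded_44_1 (flp_i L82342) L57031 L82342
theorem L82348 : sm gf N9637 = N7032 := ded_48_1 (flp_i L60277) (flp_f L57028) L82342
theorem L82350 : sm gj N9637 = N9637 := ded_53_1 (flp_i L82342) L57030 L82342
theorem L82351 : sm gi N6652 = N9638 := rfl
theorem L82353 : sm ga N9638 = N9638 := ded_18_1 (flp_i L82351) L57044 L82351
theorem L82354 : sm gd N9638 = N9638 := ded_39_1 (flp_i L82351) L57048 L82351
theorem L82355 : sm gg N9638 = N9638 := ded_51_1 (flp_i L82351) L57045 L82351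
theorem L82356 : sm gj N9638 = N6653 := ded_53_1 (flp_i L57049) (flp_j L57046) L82351
theorem L82358 : sm gc N6654 = N9639 := rfl
theorem L82360 : sm ga N9639 = N6656 := ded_11_1 (flp_c L57074) (flp_a L57057) L82358
theorem L82367 : sm gf N6654 = N9640 := rfl
theorem L82369 : sm ga N9640 = N6657 := ded_14_1 (flp_f L57083) (flp_a L57057) L82367
theorem L82371 : sm gb N9640 = N9640 := ded_22_1 (flp_f L82367) L57059 L82367
theorem L82372 : sm gd N9640 = N6655 := ded_35_1 (flp_f L57064) L57055 L82367
theorem L82385 : sm gg N6655 = N9642 := rfl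
theorem L82387 : sm ga N9642 = N6659 := ded_15_1 (flp_g L57099) (flp_a L57066) L82385
theorem L82395 : sm gf N6656 = N9643 := rfl
theorem L82397 : sm gb N9643 = N6669 := ded_22_1 (flp_f L57193) (flp_b L57080) L82395
theorem L82399 : sm gc N9643 = N6657 := ded_29_1 (flp_f L57083) L57074 L82395
theorem L82404 : sm gh N6656 = N9644 := rfl
theorem L82406 : sm gb N9644 = N6670 := ded_25_1 (flp_h L57200) (flp_b L57080) L82404
theorem L82408 : sm gc N9644 = N6658 := ded_32_1 (flp_h L57091) L57074 L82404
theorem L82411 : sm gg N9644 = N9644 := ded_50_1 (flp_h L82404) L57077 L82404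
theorem L82413 : sm ge N6657 = N9645 := rfl
theorem L82415 : sm gb N9645 = N6660 := ded_21_1 (flp_e L57108) (flp_b L57085) L82413
theorem L82421 : sm gg N6657 = N9646 := rfl
theorem L82423 : sm gb N9646 = N6661 := ded_23_1 (flp_g L57117) (flp_b L57085) L82421
theorem L82425 : sm gd N9646 = N6659 := ded_36_1 (flp_g L57099) (flp_d L57087) L82421
theorem L82429 : sm gh N6657 = N9647 := rfl
theorem L82431 : sm gb N9647 = N6662 := ded_25_1 (flp_h L57126) (flp_b L57085) L82429
theorem L82433 : sm gf N9647 = N6658 := ded_47_1 (flp_h L57091) L57083 L82429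
theorem L82437 : sm gi N6658 = N9648 := rfl
theorem L82446 : sm gj N6659 = N9649 := rfl
theorem L82448 : sm gb N9649 = N6664 := ded_24_1 (flp_j L57145) (flp_b L57101) L82446
theorem L82450 : sm gc N9649 = N9649 := ded_31_1 (flp_j L82446) L57103 L82446
theorem L82451 : sm ge N9649 = N9649 := ded_42_1 (flp_j L82446) L57104 L82446
theorem L82452 : sm gf N9649 = N9649 := ded_46_1 (flp_j L82446) L57107 L82446
theorem L82453 : sm gh N9649 = N9649 := ded_52_2 (flp_j L82446) L57105 L82446
theorem L82454 : sm gi N9649 = N9649 := ded_53_2 (flp_j L82446) L57106 L82446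
theorem L82455 : sm gg N9649 = N9649 := ded_49_1 (flp_j L82446) (flp_g L57099) L39658 L57099 L82446
theorem L82456 : sm gg N6660 = N9650 := rfl
theorem L82458 : sm ga N9650 = N9650 := ded_15_1 (flp_g L82456) L57110 L82456
theorem L82459 : sm gc N9650 = N6676 := ded_30_1 (flp_g L57251) (flp_c L57111) L82456
theorem L82461 : sm gd N9650 = N9650 := ded_36_1 (flp_g L82456) L57115 L82456
theorem L82462 : sm ge N9650 = N6661 := ded_41_1 (flp_g L57117) L57108 L82456
theorem L82464 : sm gi N9650 = N9650 := ded_51_2 (flp_g L82456) L57114 L82456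
theorem L82465 : sm gh N6660 = N9651 := rfl
theorem L82468 : sm gc N9651 = N6677 := ded_32_1 (flp_h L57257) (flp_c L57111) L82465
theorem L82474 : sm gj N6661 = N9652 := rfl
theorem L82476 : sm ga N9652 = N9652 := ded_16_1 (flp_j L82474) L57119 L82474
theorem L82477 : sm gc N9652 = N6678 := ded_31_1 (flp_j L57264) (flp_c L57120) L82474
theorem L82479 : sm gd N9652 = N6664 := ded_37_1 (flp_j L57145) (flp_d L57122) L82474
theorem L82481 : sm gf N9652 = N9652 := ded_46_1 (flp_j L82474) L57125 L82474
theorem L82482 : sm gi N9652 = N9652 := ded_53_2 (flp_j L82474) L57124 L82474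
theorem L82483 : sm gg N9652 = N9652 := ded_49_1 (flp_j L82474) (flp_g L57117) L39669 L57117 L82474
theorem L82484 : sm gh N6661 = N9653 := rfl
theorem L82487 : sm gc N9653 = N6679 := ded_32_1 (flp_h L57272) (flp_c L57120) L82484
theorem L82493 : sm gi N6662 = N9654 := rfl
theorem L82503 : sm gb N6665 = N9655 := rfl
theorem L82510 : sm gc N9655 = N9655 := ded_19_2 (flp_b L82503) (flp_c L57155) L39704 L57155 L82503
theorem L82511 : sm gf N6665 = N9656 := rfl
theorem L82513 : sm ga N9656 = N6669 := ded_14_1 (flp_f L57193) (flp_a L57157) L82511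
theorem L82515 : sm gc N9656 = N6666 := ded_29_1 (flp_f L57164) L57155 L82511
theorem L82520 : sm gh N6665 = N9657 := rfl
theorem L82524 : sm gc N9657 = N6667 := ded_32_1 (flp_h L57173) L57155 L82520
theorem L82529 : sm ge N6666 = N9658 := rfl
theorem L82531 : sm ga N9658 = N6671 := ded_13_1 (flp_e L57207) (flp_a L57166) L82529
theorem L82537 : sm gg N6666 = N9659 := rfl
theorem L82546 : sm gh N6666 = N9660 := rfl
theorem L82554 : sm gd N9660 = N6686 := ded_38_1 (flp_h L57340) L39808 (flp_h L39716) (flp_d L57169) L82546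
theorem L82556 : sm gi N6667 = N9661 := rfl
theorem L82561 : sm gd N9661 = N6687 := ded_39_1 (flp_i L57348) (flp_d L57181) L82556
theorem L82567 : sm gj N6668 = N9662 := rfl
theorem L82569 : sm ga N9662 = N6675 := ded_16_1 (flp_j L57241) (flp_a L57185) L82567
theorem L82571 : sm gb N9662 = N9662 := ded_24_1 (flp_j L82567) L57187 L82567
theorem L82572 : sm gc N9662 = N9662 := ded_31_1 (flp_j L82567) L57188 L82567
theorem L82573 : sm gf N9662 = N9662 := ded_46_1 (flp_j L82567) L57192 L82567
theorem L82574 : sm gh N9662 = N6688 := ded_52_2 (flp_j L57359) (flp_h L57189) L82567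
theorem L82576 : sm gi N9662 = N9662 := ded_53_2 (flp_j L82567) L57191 L82567
theorem L82577 : sm gg N9662 = N9662 := ded_49_1 (flp_j L82567) (flp_g L57183) L39715 L57183 L82567
theorem L82578 : sm ge N6669 = N9663 := rfl
theorem L82580 : sm gc N9663 = N6671 := ded_28_1 (flp_e L57207) (flp_c L57195) L82578
theorem L82585 : sm gg N6669 = N9664 := rfl
theorem L82587 : sm gc N9664 = N6672 := ded_30_1 (flp_g L57214) (flp_c L57195) L82585
theorem L82592 : sm gh N6669 = N9665 := rfl
theorem L82594 : sm gc N9665 = N6673 := ded_32_1 (flp_h L57222) (flp_c L57195) L82592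
theorem L82599 : sm gd N6670 = N9666 := rfl
theorem L82603 : sm gc N9666 = N6692 := ded_27_1 (flp_d L57396) L39843 (flp_d L39741) (flp_c L57202) L82599
theorem L82614 : sm gg N6671 = N9668 := rfl
theorem L82616 : sm gb N9668 = N6676 := ded_23_1 (flp_g L57251) (flp_b L57209) L82614
theorem L82618 : sm ge N9668 = N6672 := ded_41_1 (flp_g L57214) L57207 L82614
theorem L82620 : sm gi N9668 = N9668 := ded_51_2 (flp_g L82614) L57212 L82614
theorem L82621 : sm gh N6671 = N9669 := rfl
theorem L82623 : sm gb N9669 = N6677 := ded_25_1 (flp_h L57257) (flp_b L57209) L82621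
theorem L82625 : sm ge N9669 = N6673 := ded_43_1 (flp_h L57222) L57207 L82621
theorem L82629 : sm gj N6672 = N9670 := rfl
theorem L82631 : sm gb N9670 = N6678 := ded_24_1 (flp_j L57264) (flp_b L57216) L82629
theorem L82633 : sm gd N9670 = N6675 := ded_37_1 (flp_j L57241) (flp_d L57218) L82629
theorem L82635 : sm gf N9670 = N9670 := ded_46_1 (flp_j L82629) L57221 L82629
theorem L82636 : sm gi N9670 = N9670 := ded_53_2 (flp_j L82629) L57220 L82629
theorem L82637 : sm gg N9670 = N9670 := ded_49_1 (flp_j L82629) (flp_g L57214) L39732 L57214 L82629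
theorem L82638 : sm gh N6672 = N9671 := rfl
theorem L82640 : sm gb N9671 = N6679 := ded_25_1 (flp_h L57272) (flp_b L57216) L82638
theorem L82645 : sm gd N9671 = N6697 := ded_38_1 (flp_h L57440) L39862 (flp_h L39748) (flp_d L57218) L82638
theorem L82647 : sm gi N6673 = N9672 := rfl
theorem L82657 : sm gf N6676 = N9673 := rfl
theorem L82659 : sm ga N9673 = N9673 := ded_14_1 (flp_f L82657) L57253 L82657
theorem L82660 : sm gi N9673 = N9673 := ded_48_2 (flp_f L82657) L57256 L82657
theorem L82661 : sm ge N9673 = N9673 := ded_40_1 (flp_f L82657) L57254 L39764 (flp_e L57254) L82657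
theorem L82662 : sm gg N9673 = N9673 := ded_45_2 (flp_f L82657) (flp_g L57251) L39757 L57251 L82657
theorem L82663 : sm gj N6676 = N9674 := rfl
theorem L82665 : sm ga N9674 = N9674 := ded_16_1 (flp_j L82663) L57253 L82663
theorem L82666 : sm ge N9674 = N6678 := ded_42_1 (flp_j L57264) (flp_e L57254) L82663
theorem L82668 : sm gi N9674 = N9674 := ded_53_2 (flp_j L82663) L57256 L82663
theorem L82669 : sm gg N9674 = N9674 := ded_49_1 (flp_j L82663) (flp_g L57251) L39755 L57251 L82663
theorem L82670 : sm gh N6676 = N9675 := rfl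
theorem L82672 : sm ga N9675 = N9675 := ded_17_1 (flp_h L82670) L57253 L82670
theorem L82673 : sm ge N9675 = N6679 := ded_43_1 (flp_h L57272) (flp_e L57254) L82670
theorem L82675 : sm gg N9675 = N6677 := ded_50_1 (flp_h L57257) L57251 L82670
theorem L82677 : sm gd N6677 = N9676 := rfl
theorem L82679 : sm ga N9676 = N9676 := ded_12_1 (flp_d L82677) L57259 L82677
theorem L82680 : sm gf N9676 = N9676 := ded_35_2 (flp_d L82677) L57262 L82677
theorem L82681 : sm gj N9676 = N9676 := ded_37_2 (flp_d L82677) L57263 L82677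
theorem L82682 : sm ge N9676 = N6702 := ded_34_2 (flp_d L57482) L39905 (flp_d L39771) (flp_e L57260) L82677
theorem L82692 : sm gh N6678 = N9678 := rfl
theorem L82694 : sm ga N9678 = N9678 := ded_17_1 (flp_h L82692) L57266 L82692
theorem L82695 : sm gf N9678 = N9678 := ded_47_1 (flp_h L82692) L57269 L82692
theorem L82696 : sm gg N9678 = N9678 := ded_50_1 (flp_h L82692) L57271 L82692
theorem L82697 : sm gj N9678 = N6679 := ded_52_1 (flp_h L57272) L57264 L82692
theorem L82699 : sm gd N9678 = N6704 := ded_38_1 (flp_h L57499) L39914 (flp_h L39788) (flp_d L57267) L82692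
theorem L82701 : sm gi N6679 = N9679 := rfl
theorem L82704 : sm gd N9679 = N6705 := ded_39_1 (flp_i L57507) (flp_d L57278) L82701
theorem L82710 : sm gf N6681 = N9680 := rfl
theorem L82713 : sm gb N9680 = N6682 := ded_22_1 (flp_f L57300) L57289 L82710
theorem L82718 : sm gi N9680 = N6706 := ded_48_2 (flp_f L57516) (flp_i L57296) L82710
theorem L82720 : sm gh N6681 = N9681 := rfl
theorem L82723 : sm gb N9681 = N6683 := ded_25_1 (flp_h L57310) L57289 L82720
theorem L82730 : sm ge N6682 = N9682 := rfl
theorem L82732 : sm ga N9682 = N6689 := ded_13_1 (flp_e L57369) (flp_a L57302) L82730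
theorem L82734 : sm gc N9682 = N6684 := ded_28_1 (flp_e L57320) (flp_c L57304) L82730
theorem L82737 : sm gi N9682 = N6708 := ded_44_2 (flp_e L57534) (flp_i L57308) L82730
theorem L82739 : sm gf N9682 = N7036 := ded_40_2 (flp_e L60312) (flp_f L41814) (flp_e L39796) L57300 L82730
theorem L82741 : sm gg N6682 = N9683 := rfl
theorem L82743 : sm ga N9683 = N6690 := ded_15_1 (flp_g L57379) (flp_a L57302) L82741
theorem L82745 : sm gc N9683 = N6685 := ded_30_1 (flp_g L57330) (flp_c L57304) L82741
theorem L82748 : sm gi N9683 = N6709 := ded_51_2 (flp_g L57543) (flp_i L57308) L82741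
theorem L82760 : sm gd N6683 = N9685 := rfl
theorem L82762 : sm ga N9685 = N6692 := ded_12_1 (flp_d L57396) (flp_a L57312) L82760
theorem L82779 : sm gg N6684 = N9687 := rfl
theorem L82781 : sm ga N9687 = N6694 := ded_15_1 (flp_g L57413) (flp_a L57322) L82779
theorem L82783 : sm gb N9687 = N9687 := ded_23_1 (flp_g L82779) L57324 L82779
theorem L82784 : sm ge N9687 = N6685 := ded_41_1 (flp_g L57330) L57320 L82779
theorem L82786 : sm gi N9687 = N6713 := ded_51_2 (flp_g L57579) (flp_i L57326) L82779
theorem L82788 : sm gh N6684 = N9688 := rfl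
theorem L82790 : sm ga N9688 = N6695 := ded_17_1 (flp_h L57421) (flp_a L57322) L82788
theorem L82793 : sm ge N9688 = N6686 := ded_43_1 (flp_h L57340) L57320 L82788
theorem L82795 : sm gf N9688 = N7042 := ded_47_1 (flp_h L60369) (flp_f L57328) L82788
theorem L82798 : sm gj N6685 = N9689 := rfl
theorem L82800 : sm ga N9689 = N6696 := ded_16_1 (flp_j L57430) (flp_a L57332) L82798
theorem L82802 : sm gb N9689 = N9689 := ded_24_1 (flp_j L82798) L57334 L82798
theorem L82803 : sm gd N9689 = N6688 := ded_37_1 (flp_j L57359) (flp_d L57335) L82798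
theorem L82805 : sm gf N9689 = N9689 := ded_46_1 (flp_j L82798) L57339 L82798
theorem L82806 : sm gi N9689 = N6715 := ded_53_2 (flp_j L57596) (flp_i L57337) L82798
theorem L82808 : sm gg N9689 = N9689 := ded_49_1 (flp_j L82798) (flp_g L57330) L39810 L57330 L82798
theorem L82809 : sm gh N6685 = N9690 := rfl
theorem L82811 : sm ga N9690 = N6697 := ded_17_1 (flp_h L57440) (flp_a L57332) L82809
theorem L82827 : sm gd N6689 = N9692 := rfl
theorem L82829 : sm gb N9692 = N9692 := ded_20_1 (flp_d L82827) L57371 L82827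
theorem L82830 : sm gf N9692 = N7046 := ded_35_2 (flp_d L60408) (flp_f L57377) L82827
theorem L82832 : sm gj N9692 = N9692 := ded_37_2 (flp_d L82827) L57374 L82827
theorem L82833 : sm gi N9692 = N6718 := ded_39_2 (flp_d L57623) (flp_i L57375) L82827
theorem L82835 : sm ge N9692 = N9692 := ded_34_2 (flp_d L82827) (flp_e L57369) L39836 L57369 L82827
theorem L82836 : sm gg N6689 = N9693 := rfl
theorem L82838 : sm gb N9693 = N9693 := ded_23_1 (flp_g L82836) L57371 L82836
theorem L82839 : sm gc N9693 = N6694 := ded_30_1 (flp_g L57413) (flp_c L57372) L82836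
theorem L82841 : sm ge N9693 = N6690 := ded_41_1 (flp_g L57379) L57369 L82836
theorem L82843 : sm gi N9693 = N6719 := ded_51_2 (flp_g L57630) (flp_i L57375) L82836
theorem L82845 : sm gh N6689 = N9694 := rfl
theorem L82848 : sm gc N9694 = N6695 := ded_32_1 (flp_h L57421) (flp_c L57372) L82845
theorem L82850 : sm ge N9694 = N6691 := ded_43_1 (flp_h L57388) L57369 L82845
theorem L82852 : sm gf N9694 = N7048 := ded_47_1 (flp_h L60425) (flp_f L57377) L82845
theorem L82855 : sm gj N6690 = N9695 := rfl
theorem L82857 : sm gb N9695 = N9695 := ded_24_1 (flp_j L82855) L57381 L82855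
theorem L82858 : sm gc N9695 = N6696 := ded_31_1 (flp_j L57430) (flp_c L57382) L82855
theorem L82860 : sm gd N9695 = N9695 := ded_37_1 (flp_j L82855) L57384 L82855
theorem L82861 : sm gf N9695 = N9695 := ded_46_1 (flp_j L82855) L57387 L82855
theorem L82862 : sm gi N9695 = N6721 := ded_53_2 (flp_j L57647) (flp_i L57385) L82855
theorem L82864 : sm gg N9695 = N9695 := ded_49_1 (flp_j L82855) (flp_g L57379) L39837 L57379 L82855
theorem L82865 : sm gh N6690 = N9696 := rfl
theorem L82868 : sm gc N9696 = N6697 := ded_32_1 (flp_h L57440) (flp_c L57382) L82865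
theorem L82871 : sm gg N9696 = N6691 := ded_50_1 (flp_h L57388) L57379 L82865
theorem L82873 : sm gd N6691 = N9697 := rfl
theorem L82876 : sm gf N9697 = N6692 := ded_35_2 (flp_d L57396) (flp_f L57393) L82873
theorem L82890 : sm ge N6692 = N9699 := rfl
theorem L82898 : sm gi N6692 = N9700 := rfl
theorem L82901 : sm gd N9700 = N6693 := ded_39_1 (flp_i L57402) L57396 L82898
theorem L82905 : sm gf N6694 = N9701 := rfl
theorem L82907 : sm gb N9701 = N6699 := ded_22_1 (flp_f L57456) (flp_b L57415) L82905
theorem L82909 : sm gi N9701 = N6726 := ded_48_2 (flp_f L57688) (flp_i L57419) L82905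
theorem L82911 : sm ge N9701 = N9701 := ded_40_1 (flp_f L82905) L57417 L39866 (flp_e L57417) L82905
theorem L82912 : sm gg N9701 = N7055 := ded_45_2 (flp_f L60488) (flp_g L41925) (flp_f L39856) L57413 L82905
theorem L82914 : sm gj N6694 = N9702 := rfl
theorem L82916 : sm gb N9702 = N6700 := ded_24_1 (flp_j L57465) (flp_b L57415) L82914
theorem L82918 : sm ge N9702 = N6696 := ded_42_1 (flp_j L57430) (flp_e L57417) L82914
theorem L82920 : sm gi N9702 = N6727 := ded_53_2 (flp_j L57695) (flp_i L57419) L82914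
theorem L82922 : sm gg N9702 = N9702 := ded_49_1 (flp_j L82914) (flp_g L57413) L39853 L57413 L82914
theorem L82923 : sm gh N6694 = N9703 := rfl
theorem L82925 : sm gb N9703 = N6701 := ded_25_1 (flp_h L57474) (flp_b L57415) L82923
theorem L82927 : sm ge N9703 = N6697 := ded_43_1 (flp_h L57440) (flp_e L57417) L82923
theorem L82929 : sm gg N9703 = N6695 := ded_50_1 (flp_h L57421) L57413 L82923
theorem L82931 : sm gd N6695 = N9704 := rfl
theorem L82933 : sm gb N9704 = N6702 := ded_20_1 (flp_d L57482) (flp_b L57423) L82931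
theorem L82935 : sm gf N9704 = N7058 := ded_35_2 (flp_d L60512) (flp_f L57427) L82931
theorem L82937 : sm gj N9704 = N9704 := ded_37_2 (flp_d L82931) L57429 L82931
theorem L82938 : sm gi N6695 = N9705 := rfl
theorem L82940 : sm gb N9705 = N6703 := ded_26_1 (flp_i L57488) (flp_b L57423) L82938
theorem L82942 : sm ge N9705 = N6698 := ded_44_1 (flp_i L57447) (flp_e L57425) L82938
theorem L82947 : sm gh N9705 = N6730 := ded_54_1 (flp_i L57718) (flp_h L40053) (flp_i L39854) L57421 L82938
theorem L82949 : sm gh N6696 = N9706 := rfl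
theorem L82951 : sm gb N9706 = N6704 := ded_25_1 (flp_h L57499) (flp_b L57432) L82949
theorem L82953 : sm gf N9706 = N9706 := ded_47_1 (flp_h L82949) L57436 L82949
theorem L82954 : sm gg N9706 = N9706 := ded_50_1 (flp_h L82949) L57439 L82949
theorem L82955 : sm gj N9706 = N6697 := ded_52_1 (flp_h L57440) L57430 L82949
theorem L82957 : sm gi N6697 = N9707 := rfl
theorem L82959 : sm gb N9707 = N6705 := ded_26_1 (flp_i L57507) (flp_b L57442) L82957
theorem L82966 : sm gj N6699 = N9708 := rfl
theorem L82968 : sm ga N9708 = N9708 := ded_16_1 (flp_j L82966) L57458 L82966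
theorem L82969 : sm gc N9708 = N9708 := ded_31_1 (flp_j L82966) L57459 L82966
theorem L82970 : sm ge N9708 = N9708 := ded_42_1 (flp_j L82966) L57462 L82966
theorem L82971 : sm gf N9708 = N6700 := ded_46_1 (flp_j L57465) L57456 L82966
theorem L82973 : sm gi N9708 = N6733 := ded_53_2 (flp_j L57744) (flp_i L57460) L82966
theorem L82975 : sm gh N6699 = N9709 := rfl
theorem L82977 : sm ga N9709 = N9709 := ded_17_1 (flp_h L82975) L57458 L82975
theorem L82978 : sm gc N9709 = N9709 := ded_32_1 (flp_h L82975) L57459 L82975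
theorem L82979 : sm ge N9709 = N9709 := ded_43_1 (flp_h L82975) L57462 L82975
theorem L82980 : sm gf N9709 = N6701 := ded_47_1 (flp_h L57474) L57456 L82975
theorem L82982 : sm gg N9709 = N7063 := ded_50_1 (flp_h L60555) (flp_g L57463) L82975
theorem L82984 : sm gh N6700 = N9710 := rfl
theorem L82986 : sm ga N9710 = N9710 := ded_17_1 (flp_h L82984) L57467 L82984
theorem L82987 : sm gc N9710 = N9710 := ded_32_1 (flp_h L82984) L57468 L82984
theorem L82988 : sm ge N9710 = N6704 := ded_43_1 (flp_h L57499) (flp_e L57469) L82984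
theorem L82990 : sm gg N9710 = N9710 := ded_50_1 (flp_h L82984) L57473 L82984
theorem L82991 : sm gj N9710 = N6701 := ded_52_1 (flp_h L57474) L57465 L82984
theorem L82993 : sm gd N6701 = N9711 := rfl
theorem L82995 : sm ga N9711 = N9711 := ded_12_1 (flp_d L82993) L57476 L82993
theorem L82996 : sm gg N9711 = N6702 := ded_36_2 (flp_d L57482) (flp_g L57480) L82993
theorem L82998 : sm gi N6701 = N9712 := rfl
theorem L83000 : sm ga N9712 = N9712 := ded_18_1 (flp_i L82998) L57476 L82998
theorem L83001 : sm gc N9712 = N9712 := ded_33_1 (flp_i L82998) L57477 L82998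
theorem L83002 : sm ge N9712 = N6705 := ded_44_1 (flp_i L57507) (flp_e L57478) L82998
theorem L83004 : sm gg N9712 = N6703 := ded_51_1 (flp_i L57488) (flp_g L57480) L82998
theorem L83006 : sm gh N9712 = N6737 := ded_54_1 (flp_i L57775) (flp_h L40100) (flp_i L39899) L57474 L82998
theorem L83008 : sm gc N6702 = N9713 := rfl
theorem L83010 : sm ga N9713 = N9713 := ded_11_1 (flp_c L83008) L57484 L83008
theorem L83011 : sm gf N9713 = N7067 := ded_29_2 (flp_c L60587) (flp_f L57485) L83008
theorem L83013 : sm gj N9713 = N9713 := ded_31_2 (flp_c L83008) L57487 L83008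
theorem L83014 : sm gd N9713 = N9713 := ded_27_2 (flp_c L83008) (flp_d L57482) L39904 L57482 L83008
theorem L83015 : sm gi N6702 = N9714 := rfl
theorem L83017 : sm ga N9714 = N9714 := ded_18_1 (flp_i L83015) L57484 L83015
theorem L83018 : sm gd N9714 = N6703 := ded_39_1 (flp_i L57488) L57482 L83015
theorem L83020 : sm gf N9714 = N7068 := ded_48_1 (flp_i L60593) (flp_f L57485) L83015
theorem L83022 : sm gj N9714 = N9714 := ded_53_1 (flp_i L83015) L57487 L83015
theorem L83023 : sm gi N6704 = N9715 := rfl
theorem L83025 : sm ga N9715 = N9715 := ded_18_1 (flp_i L83023) L57501 L83023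
theorem L83026 : sm gc N9715 = N9715 := ded_33_1 (flp_i L83023) L57502 L83023
theorem L83027 : sm gf N9715 = N9715 := ded_48_1 (flp_i L83023) L57503 L83023
theorem L83028 : sm gg N9715 = N9715 := ded_51_1 (flp_i L83023) L57504 L83023
theorem L83029 : sm gj N9715 = N6705 := ded_53_1 (flp_i L57507) (flp_j L57505) L83023
theorem L83031 : sm gh N9715 = N6740 := ded_54_1 (flp_i L57800) (flp_h L40124) (flp_i L39917) L57499 L83023
theorem L83033 : sm ge N6706 = N9716 := rfl
theorem L83036 : sm gb N9716 = N6708 := ded_21_1 (flp_e L57534) (flp_b L57519) L83033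
theorem L83040 : sm gf N9716 = N7070 := ded_40_2 (flp_e L60611) (flp_f L42025) (flp_e L39939) L57516 L83033
theorem L83042 : sm gg N6706 = N9717 := rfl
theorem L83045 : sm gb N9717 = N6709 := ded_23_1 (flp_g L57543) (flp_b L57519) L83042
theorem L83050 : sm gh N6706 = N9718 := rfl
theorem L83068 : sm gi N6707 = N9720 := rfl
theorem L83078 : sm gd N6708 = N9721 := rfl
theorem L83080 : sm ga N9721 = N6718 := ded_12_1 (flp_d L57623) (flp_a L57536) L83078
theorem L83082 : sm gf N9721 = N7074 := ded_35_2 (flp_d L60646) (flp_f L57541) L83078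
theorem L83084 : sm gj N9721 = N9721 := ded_37_2 (flp_d L83078) L57540 L83078
theorem L83085 : sm ge N9721 = N9721 := ded_34_2 (flp_d L83078) (flp_e L57534) L39951 L57534 L83078
theorem L83086 : sm gg N6708 = N9722 := rfl
theorem L83088 : sm ga N9722 = N6719 := ded_15_1 (flp_g L57630) (flp_a L57536) L83086
theorem L83090 : sm gc N9722 = N6713 := ded_30_1 (flp_g L57579) (flp_c L57538) L83086
theorem L83092 : sm ge N9722 = N6709 := ded_41_1 (flp_g L57543) L57534 L83086
theorem L83094 : sm gh N6708 = N9723 := rfl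
theorem L83096 : sm ga N9723 = N6720 := ded_17_1 (flp_h L57637) (flp_a L57536) L83094
theorem L83098 : sm gc N9723 = N6714 := ded_32_1 (flp_h L57586) (flp_c L57538) L83094
theorem L83100 : sm ge N9723 = N6710 := ded_43_1 (flp_h L57551) L57534 L83094
theorem L83102 : sm gf N9723 = N7076 := ded_47_1 (flp_h L60661) (flp_f L57541) L83094
theorem L83105 : sm gj N6709 = N9724 := rfl
theorem L83107 : sm ga N9724 = N6721 := ded_16_1 (flp_j L57647) (flp_a L57545) L83105
theorem L83109 : sm gc N9724 = N6715 := ded_31_1 (flp_j L57596) (flp_c L57547) L83105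
theorem L83111 : sm gd N9724 = N9724 := ded_37_1 (flp_j L83105) L57549 L83105
theorem L83112 : sm gf N9724 = N9724 := ded_46_1 (flp_j L83105) L57550 L83105
theorem L83113 : sm gg N9724 = N9724 := ded_49_1 (flp_j L83105) (flp_g L57543) L39952 L57543 L83105
theorem L83114 : sm gh N6709 = N9725 := rfl
theorem L83116 : sm ga N9725 = N6722 := ded_17_1 (flp_h L57655) (flp_a L57545) L83114
theorem L83118 : sm gc N9725 = N6716 := ded_32_1 (flp_h L57605) (flp_c L57547) L83114
theorem L83151 : sm gf N6713 = N9729 := rfl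
theorem L83153 : sm ga N9729 = N6726 := ded_14_1 (flp_f L57688) (flp_a L57581) L83151
theorem L83155 : sm gb N9729 = N9729 := ded_22_1 (flp_f L83151) L57583 L83151
theorem L83156 : sm ge N9729 = N9729 := ded_40_1 (flp_f L83151) L57584 L39978 (flp_e L57584) L83151
theorem L83157 : sm gg N9729 = N7080 := ded_45_2 (flp_f L60700) (flp_g L42078) (flp_f L39969) L57579 L83151
theorem L83159 : sm gj N6713 = N9730 := rfl
theorem L83161 : sm ga N9730 = N6727 := ded_16_1 (flp_j L57695) (flp_a L57581) L83159
theorem L83163 : sm gb N9730 = N9730 := ded_24_1 (flp_j L83159) L57583 L83159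
theorem L83164 : sm ge N9730 = N6715 := ded_42_1 (flp_j L57596) (flp_e L57584) L83159
theorem L83166 : sm gg N9730 = N9730 := ded_49_1 (flp_j L83159) (flp_g L57579) L39968 L57579 L83159
theorem L83167 : sm gh N6713 = N9731 := rfl
theorem L83169 : sm ga N9731 = N6728 := ded_17_1 (flp_h L57702) (flp_a L57581) L83167
theorem L83171 : sm gb N9731 = N9731 := ded_25_1 (flp_h L83167) L57583 L83167
theorem L83172 : sm ge N9731 = N6716 := ded_43_1 (flp_h L57605) (flp_e L57584) L83167
theorem L83174 : sm gg N9731 = N6714 := ded_50_1 (flp_h L57586) L57579 L83167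
theorem L83176 : sm gd N6714 = N9732 := rfl
theorem L83178 : sm ga N9732 = N6729 := ded_12_1 (flp_d L57710) (flp_a L57588) L83176
theorem L83180 : sm gb N9732 = N9732 := ded_20_1 (flp_d L83176) L57590 L83176
theorem L83181 : sm gf N9732 = N7083 := ded_35_2 (flp_d L60723) (flp_f L57593) L83176
theorem L83183 : sm gj N9732 = N9732 := ded_37_2 (flp_d L83176) L57595 L83176
theorem L83184 : sm ge N9732 = N9732 := ded_34_2 (flp_d L83176) L57591 L39987 (flp_e L57591) L83176
theorem L83195 : sm gh N6715 = N9734 := rfl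
theorem L83197 : sm ga N9734 = N6731 := ded_17_1 (flp_h L57727) (flp_a L57598) L83195
theorem L83199 : sm gb N9734 = N9734 := ded_25_1 (flp_h L83195) L57600 L83195
theorem L83200 : sm gf N9734 = N9734 := ded_47_1 (flp_h L83195) L57603 L83195
theorem L83201 : sm gg N9734 = N9734 := ded_50_1 (flp_h L83195) L57604 L83195
theorem L83202 : sm gj N9734 = N6716 := ded_52_1 (flp_h L57605) L57596 L83195
theorem L83204 : sm gd N9734 = N9734 := ded_38_1 (flp_h L83195) L57601 L40005 (flp_d L57601) L83195
theorem L83205 : sm gi N6716 = N9735 := rfl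
theorem L83212 : sm gg N9735 = N6717 := ded_51_1 (flp_i L57614) (flp_g L57611) L83205
theorem L83214 : sm gg N6718 = N9736 := rfl
theorem L83216 : sm gb N9736 = N9736 := ded_23_1 (flp_g L83214) L57625 L83214
theorem L83217 : sm gd N9736 = N6719 := ded_36_1 (flp_g L57630) L57623 L83214
theorem L83219 : sm ge N9736 = N9736 := ded_41_1 (flp_g L83214) L57629 L83214
theorem L83220 : sm gh N6718 = N9737 := rfl
theorem L83222 : sm gb N9737 = N9737 := ded_25_1 (flp_h L83220) L57625 L83220
theorem L83223 : sm ge N9737 = N9737 := ded_43_1 (flp_h L83220) L57629 L83220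
theorem L83224 : sm gf N9737 = N7088 := ded_47_1 (flp_h L60767) (flp_f L57626) L83220
theorem L83226 : sm gj N9737 = N9737 := ded_52_1 (flp_h L83220) L57628 L83220
theorem L83227 : sm gf N6719 = N9738 := rfl
theorem L83229 : sm gb N9738 = N9738 := ded_22_1 (flp_f L83227) L57632 L83227
theorem L83230 : sm gc N9738 = N6726 := ded_29_1 (flp_f L57688) (flp_c L57633) L83227
theorem L83232 : sm ge N9738 = N9738 := ded_40_1 (flp_f L83227) L57635 L40021 (flp_e L57635) L83227
theorem L83233 : sm gg N9738 = N7089 := ded_45_2 (flp_f L60773) (flp_g L42128) (flp_f L40013) L57630 L83227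
theorem L83235 : sm gj N6719 = N9739 := rfl
theorem L83237 : sm gb N9739 = N9739 := ded_24_1 (flp_j L83235) L57632 L83235
theorem L83238 : sm gc N9739 = N6727 := ded_31_1 (flp_j L57695) (flp_c L57633) L83235
theorem L83240 : sm ge N9739 = N6721 := ded_42_1 (flp_j L57647) (flp_e L57635) L83235
theorem L83242 : sm gg N9739 = N9739 := ded_49_1 (flp_j L83235) (flp_g L57630) L40012 L57630 L83235
theorem L83243 : sm gh N6719 = N9740 := rfl
theorem L83245 : sm gb N9740 = N9740 := ded_25_1 (flp_h L83243) L57632 L83243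
theorem L83246 : sm gc N9740 = N6728 := ded_32_1 (flp_h L57702) (flp_c L57633) L83243
theorem L83248 : sm ge N9740 = N6722 := ded_43_1 (flp_h L57655) (flp_e L57635) L83243
theorem L83250 : sm gg N9740 = N6720 := ded_50_1 (flp_h L57637) L57630 L83243
theorem L83252 : sm gd N6720 = N9741 := rfl
theorem L83254 : sm gb N9741 = N9741 := ded_20_1 (flp_d L83252) L57639 L83252
theorem L83255 : sm gf N9741 = N7092 := ded_35_2 (flp_d L60796) (flp_f L57644) L83252
theorem L83257 : sm gj N9741 = N9741 := ded_37_2 (flp_d L83252) L57646 L83252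
theorem L83268 : sm gh N6721 = N9743 := rfl
theorem L83270 : sm gb N9743 = N9743 := ded_25_1 (flp_h L83268) L57649 L83268
theorem L83271 : sm gc N9743 = N6731 := ded_32_1 (flp_h L57727) (flp_c L57650) L83268
theorem L83273 : sm gf N9743 = N9743 := ded_47_1 (flp_h L83268) L57653 L83268
theorem L83274 : sm gg N9743 = N9743 := ded_50_1 (flp_h L83268) L57654 L83268
theorem L83275 : sm gj N9743 = N6722 := ded_52_1 (flp_h L57655) L57647 L83268
theorem L83277 : sm gd N6722 = N9744 := rfl
theorem L83281 : sm gg N9744 = N6723 := ded_36_2 (flp_d L57663) (flp_g L57661) L83277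
theorem L83300 : sm gi N6723 = N9747 := rfl
theorem L83304 : sm gd N9747 = N6724 := ded_39_1 (flp_i L57671) L57663 L83300
theorem L83306 : sm gf N9747 = N6725 := ded_48_1 (flp_i L57679) (flp_f L57666) L83300
theorem L83309 : sm gh N6725 = N9748 := rfl
theorem L83317 : sm gj N6726 = N9749 := rfl
theorem L83319 : sm gb N9749 = N6733 := ded_24_1 (flp_j L57744) (flp_b L57690) L83317
theorem L83321 : sm ge N9749 = N9749 := ded_42_1 (flp_j L83317) L57692 L83317
theorem L83322 : sm gf N9749 = N6727 := ded_46_1 (flp_j L57695) L57688 L83317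
theorem L83324 : sm gh N6726 = N9750 := rfl
theorem L83326 : sm gb N9750 = N6734 := ded_25_1 (flp_h L57751) (flp_b L57690) L83324
theorem L83328 : sm ge N9750 = N9750 := ded_43_1 (flp_h L83324) L57692 L83324
theorem L83329 : sm gf N9750 = N6728 := ded_47_1 (flp_h L57702) L57688 L83324
theorem L83331 : sm gg N9750 = N7097 := ded_50_1 (flp_h L60835) (flp_g L57693) L83324
theorem L83333 : sm gh N6727 = N9751 := rfl
theorem L83335 : sm gb N9751 = N6735 := ded_25_1 (flp_h L57760) (flp_b L57697) L83333
theorem L83337 : sm ge N9751 = N6731 := ded_43_1 (flp_h L57727) (flp_e L57699) L83333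
theorem L83339 : sm gg N9751 = N9751 := ded_50_1 (flp_h L83333) L57701 L83333
theorem L83340 : sm gj N9751 = N6728 := ded_52_1 (flp_h L57702) L57695 L83333
theorem L83342 : sm gd N6728 = N9752 := rfl
theorem L83344 : sm gb N9752 = N6736 := ded_20_1 (flp_d L57769) (flp_b L57704) L83342
theorem L83346 : sm gg N9752 = N6729 := ded_36_2 (flp_d L57710) (flp_g L57708) L83342
theorem L83348 : sm ge N9752 = N9752 := ded_34_2 (flp_d L83342) L57706 L40077 (flp_e L57706) L83342
theorem L83349 : sm gi N6728 = N9753 := rfl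
theorem L83351 : sm gb N9753 = N6737 := ded_26_1 (flp_i L57775) (flp_b L57704) L83349
theorem L83353 : sm ge N9753 = N6732 := ded_44_1 (flp_i L57736) (flp_e L57706) L83349
theorem L83355 : sm gg N9753 = N6730 := ded_51_1 (flp_i L57718) (flp_g L57708) L83349
theorem L83357 : sm gc N6729 = N9754 := rfl
theorem L83359 : sm ge N9754 = N9754 := ded_28_2 (flp_c L83357) L57717 L83357
theorem L83360 : sm gf N9754 = N7101 := ded_29_2 (flp_c L60867) (flp_f L57714) L83357
theorem L83362 : sm gj N9754 = N9754 := ded_31_2 (flp_c L83357) L57716 L83357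
theorem L83363 : sm gi N6729 = N9755 := rfl
theorem L83365 : sm gb N9755 = N6739 := ded_26_1 (flp_i L57791) (flp_b L57712) L83363
theorem L83367 : sm gd N9755 = N6730 := ded_39_1 (flp_i L57718) L57710 L83363
theorem L83369 : sm ge N9755 = N9755 := ded_44_1 (flp_i L83363) L57717 L83363
theorem L83370 : sm gf N9755 = N7102 := ded_48_1 (flp_i L60872) (flp_f L57714) L83363
theorem L83372 : sm gj N9755 = N9755 := ded_53_1 (flp_i L83363) L57716 L83363
theorem L83373 : sm gi N6731 = N9756 := rfl
theorem L83375 : sm gb N9756 = N6740 := ded_26_1 (flp_i L57800) (flp_b L57729) L83373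
theorem L83377 : sm gd N9756 = N9756 := ded_39_1 (flp_i L83373) L57735 L83373
theorem L83378 : sm gf N9756 = N9756 := ded_48_1 (flp_i L83373) L57731 L83373
theorem L83379 : sm gg N9756 = N9756 := ded_51_1 (flp_i L83373) L57732 L83373
theorem L83380 : sm gj N9756 = N6732 := ded_53_1 (flp_i L57736) (flp_j L57733) L83373
theorem L83382 : sm gg N6733 = N9757 := rfl
theorem L83384 : sm ga N9757 = N9757 := ded_15_1 (flp_g L83382) L57746 L83382
theorem L83385 : sm gc N9757 = N9757 := ded_30_1 (flp_g L83382) L57747 L83382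
theorem L83386 : sm ge N9757 = N9757 := ded_41_1 (flp_g L83382) L57748 L83382
theorem L83387 : sm gf N9757 = N9757 := ded_45_1 (flp_g L83382) L57749 L40099 (flp_f L57749) L83382
theorem L83388 : sm gj N9757 = N7104 := ded_49_2 (flp_g L60891) (flp_j L42223) (flp_g L40091) L57744 L83382
theorem L83390 : sm gh N6733 = N9758 := rfl
theorem L83392 : sm ga N9758 = N9758 := ded_17_1 (flp_h L83390) L57746 L83390
theorem L83393 : sm gc N9758 = N9758 := ded_32_1 (flp_h L83390) L57747 L83390
theorem L83394 : sm ge N9758 = N9758 := ded_43_1 (flp_h L83390) L57748 L83390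
theorem L83395 : sm gf N9758 = N6735 := ded_47_1 (flp_h L57760) (flp_f L57749) L83390
theorem L83397 : sm gj N9758 = N6734 := ded_52_1 (flp_h L57751) L57744 L83390
theorem L83399 : sm gd N6734 = N9759 := rfl
theorem L83401 : sm ga N9759 = N9759 := ded_12_1 (flp_d L83399) L57753 L83399
theorem L83402 : sm gf N9759 = N6736 := ded_35_2 (flp_d L57769) (flp_f L57756) L83399
theorem L83404 : sm gg N9759 = N7106 := ded_36_2 (flp_d L60906) (flp_g L57758) L83399
theorem L83406 : sm gi N6734 = N9760 := rfl
theorem L83408 : sm ga N9760 = N9760 := ded_18_1 (flp_i L83406) L57753 L83406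
theorem L83409 : sm gc N9760 = N9760 := ded_33_1 (flp_i L83406) L57754 L83406
theorem L83410 : sm ge N9760 = N9760 := ded_44_1 (flp_i L83406) L57755 L83406
theorem L83411 : sm gf N9760 = N6737 := ded_48_1 (flp_i L57775) (flp_f L57756) L83406
theorem L83413 : sm gg N9760 = N7107 := ded_51_1 (flp_i L60911) (flp_g L57758) L83406
theorem L83415 : sm gd N6735 = N9761 := rfl
theorem L83417 : sm ga N9761 = N9761 := ded_12_1 (flp_d L83415) L57762 L83415
theorem L83418 : sm gg N9761 = N9761 := ded_36_2 (flp_d L83415) L57766 L83415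
theorem L83419 : sm gj N9761 = N6736 := ded_37_2 (flp_d L57769) (flp_j L57767) L83415
theorem L83421 : sm ge N9761 = N9761 := ded_34_2 (flp_d L83415) L57764 L40132 (flp_e L57764) L83415
theorem L83422 : sm gi N6735 = N9762 := rfl
theorem L83424 : sm ga N9762 = N9762 := ded_18_1 (flp_i L83422) L57762 L83422
theorem L83425 : sm gc N9762 = N9762 := ded_33_1 (flp_i L83422) L57763 L83422
theorem L83426 : sm ge N9762 = N6740 := ded_44_1 (flp_i L57800) (flp_e L57764) L83422
theorem L83428 : sm gg N9762 = N9762 := ded_51_1 (flp_i L83422) L57766 L83422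
theorem L83429 : sm gj N9762 = N6737 := ded_53_1 (flp_i L57775) (flp_j L57767) L83422
theorem L83431 : sm gc N6736 = N9763 := rfl
theorem L83433 : sm ga N9763 = N9763 := ded_11_1 (flp_c L83431) L57771 L83431
theorem L83434 : sm ge N9763 = N9763 := ded_28_2 (flp_c L83431) L57774 L83431
theorem L83435 : sm gg N9763 = N6738 := ded_30_2 (flp_c L57783) (flp_g L57772) L83431
theorem L83437 : sm gd N9763 = N9763 := ded_27_2 (flp_c L83431) (flp_d L57769) L40103 L57769 L83431
theorem L83438 : sm gi N6736 = N9764 := rfl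
theorem L83440 : sm ga N9764 = N9764 := ded_18_1 (flp_i L83438) L57771 L83438
theorem L83441 : sm gd N9764 = N6737 := ded_39_1 (flp_i L57775) L57769 L83438
theorem L83443 : sm ge N9764 = N9764 := ded_44_1 (flp_i L83438) L57774 L83438
theorem L83444 : sm gg N9764 = N6739 := ded_51_1 (flp_i L57791) (flp_g L57772) L83438
theorem L83446 : sm gb N6738 = N9765 := rfl
theorem L83448 : sm gd N9765 = N9765 := ded_20_2 (flp_b L83446) L57790 L83446
theorem L83449 : sm ge N9765 = N9765 := ded_21_2 (flp_b L83446) L57786 L83446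
theorem L83450 : sm gf N9765 = N7112 := ded_22_2 (flp_b L60952) (flp_f L57787) L83446
theorem L83452 : sm gj N9765 = N9765 := ded_24_2 (flp_b L83446) L57789 L83446
theorem L83453 : sm gi N6738 = N9766 := rfl
theorem L83455 : sm ga N9766 = N9766 := ded_18_1 (flp_i L83453) L57785 L83453
theorem L83456 : sm gc N9766 = N6739 := ded_33_1 (flp_i L57791) L57783 L83453
theorem L83458 : sm gd N9766 = N9766 := ded_39_1 (flp_i L83453) L57790 L83453
theorem L83459 : sm ge N9766 = N9766 := ded_44_1 (flp_i L83453) L57786 L83453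
theorem L83460 : sm gf N9766 = N7113 := ded_48_1 (flp_i L60958) (flp_f L57787) L83453
theorem L83462 : sm gj N9766 = N9766 := ded_53_1 (flp_i L83453) L57789 L83453
theorem L83463 : sm gh N6739 = N9767 := rfl
theorem L83465 : sm ga N9767 = N9767 := ded_17_1 (flp_h L83463) L57793 L83463
theorem L83466 : sm ge N9767 = N9767 := ded_43_1 (flp_h L83463) L57796 L83463
theorem L83467 : sm gf N9767 = N7114 := ded_47_1 (flp_h L60967) (flp_f L57797) L83463
theorem L83469 : sm gj N9767 = N9767 := ded_52_1 (flp_h L83463) L57799 L83463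
theorem L83470 : sm gd N6741 = N9768 := rfl
theorem L83472 : sm ga N9768 = N9768 := ded_12_1 (flp_d L83470) L57811 L83470
theorem L83473 : sm gb N9768 = N7289 := ded_20_1 (flp_d L62471) (flp_b L57812) L83470
theorem L83475 : sm gf N9768 = N6742 := ded_35_2 (flp_d L57821) (flp_f L57816) L83470
theorem L83477 : sm gg N9768 = N9768 := ded_36_2 (flp_d L83470) L57818 L83470
theorem L83478 : sm gj N9768 = N9768 := ded_37_2 (flp_d L83470) L57819 L83470
theorem L83479 : sm gi N9768 = N9768 := ded_39_2 (flp_d L83470) L57820 L83470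
theorem L83480 : sm gh N9768 = N9768 := ded_38_2 (flp_d L83470) (flp_h L57809) L40147 L57809 L83470
theorem L83481 : sm gc N6742 = N9769 := rfl
theorem L83483 : sm ga N9769 = N9769 := ded_11_1 (flp_c L83481) L57823 L83481
theorem L83484 : sm gg N9769 = N6753 := ded_30_2 (flp_c L57928) (flp_g L57826) L83481
theorem L83486 : sm gj N9769 = N9769 := ded_31_2 (flp_c L83481) L57828 L83481
theorem L83487 : sm gh N9769 = N9769 := ded_32_2 (flp_c L83481) L57830 L83481
theorem L83488 : sm gi N9769 = N9769 := ded_33_2 (flp_c L83481) L57829 L83481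
theorem L83489 : sm gd N9769 = N9769 := ded_27_2 (flp_c L83481) (flp_d L57821) L40158 L57821 L83481
theorem L83490 : sm ge N6742 = N9770 := rfl
theorem L83492 : sm ga N9770 = N9770 := ded_13_1 (flp_e L83490) L57823 L83490
theorem L83493 : sm gb N9770 = N7291 := ded_21_1 (flp_e L62490) (flp_b L57824) L83490
theorem L83495 : sm gg N9770 = N6754 := ded_41_2 (flp_e L57937) (flp_g L57826) L83490
theorem L83497 : sm gj N9770 = N9770 := ded_42_2 (flp_e L83490) L57828 L83490
theorem L83498 : sm gh N9770 = N9770 := ded_43_2 (flp_e L83490) L57830 L83490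
theorem L83499 : sm gi N9770 = N9770 := ded_44_2 (flp_e L83490) L57829 L83490
theorem L83500 : sm gd N9770 = N6744 := ded_34_1 (flp_e L57842) (flp_d L40165) (flp_e L40159) L57821 L83490
theorem L83502 : sm gb N6743 = N9771 := rfl
theorem L83506 : sm gg N9771 = N6755 := ded_23_2 (flp_b L57948) (flp_g L57835) L83502
theorem L83509 : sm gh N9771 = N6745 := ded_25_2 (flp_b L57853) (flp_h L57838) L83502
theorem L83512 : sm gc N9771 = N7292 := ded_19_2 (flp_b L62501) (flp_c L43359) (flp_b L40168) L57831 L83502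
theorem L83514 : sm ge N6743 = N9772 := rfl
theorem L83516 : sm ga N9772 = N9772 := ded_13_1 (flp_e L83514) L57833 L83514
theorem L83517 : sm gc N9772 = N6744 := ded_28_1 (flp_e L57842) L57831 L83514
theorem L83519 : sm gg N9772 = N6756 := ded_41_2 (flp_e L57960) (flp_g L57835) L83514
theorem L83521 : sm gj N9772 = N9772 := ded_42_2 (flp_e L83514) L57837 L83514
theorem L83522 : sm gh N9772 = N6746 := ded_43_2 (flp_e L57863) (flp_h L57838) L83514
theorem L83524 : sm gi N9772 = N9772 := ded_44_2 (flp_e L83514) L57840 L83514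
theorem L83525 : sm gf N6744 = N9773 := rfl
theorem L83527 : sm ga N9773 = N9773 := ded_14_1 (flp_f L83525) L57844 L83525
theorem L83528 : sm gb N9773 = N7294 := ded_22_1 (flp_f L62522) (flp_b L57845) L83525
theorem L83530 : sm gj N9773 = N9773 := ded_46_2 (flp_f L83525) L57849 L83525
theorem L83531 : sm gh N9773 = N6747 := ded_47_2 (flp_f L57873) (flp_h L57850) L83525
theorem L83533 : sm gi N9773 = N9773 := ded_48_2 (flp_f L83525) L57852 L83525
theorem L83534 : sm ge N9773 = N9773 := ded_40_1 (flp_f L83525) (flp_e L57842) L40170 L57842 L83525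
theorem L83535 : sm ga N6745 = N9774 := rfl
theorem L83537 : sm gc N9774 = N7295 := ded_11_2 (flp_a L62531) (flp_c L57861) L83535
theorem L83540 : sm gg N9774 = N6758 := ded_15_2 (flp_a L57982) (flp_g L57856) L83535
theorem L83543 : sm gi N9774 = N6748 := ded_18_2 (flp_a L57883) (flp_i L57859) L83535
theorem L83546 : sm ge N6745 = N9775 := rfl
theorem L83548 : sm gb N9775 = N6746 := ded_21_1 (flp_e L57863) L57853 L83546
theorem L83550 : sm gc N9775 = N7296 := ded_28_1 (flp_e L62542) (flp_c L57861) L83546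
theorem L83552 : sm gg N9775 = N6759 := ded_41_2 (flp_e L57993) (flp_g L57856) L83546
theorem L83554 : sm gj N9775 = N9775 := ded_42_2 (flp_e L83546) L57858 L83546
theorem L83555 : sm gi N9775 = N6749 := ded_44_2 (flp_e L57893) (flp_i L57859) L83546
theorem L83557 : sm gd N6746 = N9776 := rfl
theorem L83559 : sm ga N9776 = N9776 := ded_12_1 (flp_d L83557) L57865 L83557
theorem L83560 : sm gg N9776 = N6760 := ded_36_2 (flp_d L58003) (flp_g L57868) L83557
theorem L83562 : sm gj N9776 = N9776 := ded_37_2 (flp_d L83557) L57870 L83557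
theorem L83563 : sm gi N9776 = N6750 := ded_39_2 (flp_d L57903) (flp_i L57871) L83557
theorem L83565 : sm gc N9776 = N9776 := ded_27_1 (flp_d L83557) L57866 L40196 (flp_c L57866) L83557
theorem L83566 : sm gf N6746 = N9777 := rfl
theorem L83568 : sm ga N9777 = N9777 := ded_14_1 (flp_f L83566) L57865 L83566
theorem L83569 : sm gc N9777 = N6747 := ded_29_1 (flp_f L57873) (flp_c L57866) L83566
theorem L83571 : sm gj N9777 = N9777 := ded_46_2 (flp_f L83566) L57870 L83566
theorem L83572 : sm gi N9777 = N6751 := ded_48_2 (flp_f L57910) (flp_i L57871) L83566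
theorem L83574 : sm ge N9777 = N9777 := ded_40_1 (flp_f L83566) (flp_e L57863) L40180 L57863 L83566
theorem L83575 : sm gg N6747 = N9778 := rfl
theorem L83577 : sm ga N9778 = N9778 := ded_15_1 (flp_g L83575) L57875 L83575
theorem L83578 : sm gb N9778 = N7299 := ded_23_1 (flp_g L62572) (flp_b L57876) L83575
theorem L83580 : sm gd N9778 = N9778 := ded_36_1 (flp_g L83575) L57878 L83575
theorem L83581 : sm ge N9778 = N9778 := ded_41_1 (flp_g L83575) L57882 L83575
theorem L83582 : sm gi N9778 = N6752 := ded_51_2 (flp_g L57918) (flp_i L57880) L83575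
theorem L83584 : sm gf N9778 = N6762 := ded_45_1 (flp_g L58022) (flp_f L40274) (flp_g L40191) L57873 L83575
theorem L83586 : sm ge N6748 = N9779 := rfl
theorem L83588 : sm ga N9779 = N6749 := ded_13_1 (flp_e L57893) L57883 L83586
theorem L83590 : sm gb N9779 = N9779 := ded_21_1 (flp_e L83586) L57892 L83586
theorem L83591 : sm gc N9779 = N7300 := ded_28_1 (flp_e L62582) (flp_c L57885) L83586
theorem L83593 : sm gg N9779 = N6763 := ded_41_2 (flp_e L58032) (flp_g L57888) L83586
theorem L83595 : sm gj N9779 = N9779 := ded_42_2 (flp_e L83586) L57890 L83586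
theorem L83596 : sm gh N9779 = N9779 := ded_43_2 (flp_e L83586) L57891 L83586
theorem L83597 : sm gd N6749 = N9780 := rfl
theorem L83599 : sm gb N9780 = N6750 := ded_20_1 (flp_d L57903) (flp_b L57895) L83597
theorem L83601 : sm gg N9780 = N6764 := ded_36_2 (flp_d L58042) (flp_g L57899) L83597
theorem L83603 : sm gj N9780 = N9780 := ded_37_2 (flp_d L83597) L57901 L83597
theorem L83604 : sm gf N6749 = N9781 := rfl
theorem L83606 : sm gb N9781 = N6751 := ded_22_1 (flp_f L57910) (flp_b L57895) L83604
theorem L83608 : sm gc N9781 = N7302 := ded_29_1 (flp_f L62600) (flp_c L57897) L83604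
theorem L83610 : sm gj N9781 = N9781 := ded_46_2 (flp_f L83604) L57901 L83604
theorem L83611 : sm gh N9781 = N9781 := ded_47_2 (flp_f L83604) L57902 L83604
theorem L83612 : sm ge N9781 = N9781 := ded_40_1 (flp_f L83604) (flp_e L57893) L40199 L57893 L83604
theorem L83613 : sm gf N6750 = N9782 := rfl
theorem L83615 : sm ga N9782 = N9782 := ded_14_1 (flp_f L83613) L57905 L83613
theorem L83616 : sm gc N9782 = N9782 := ded_29_1 (flp_f L83613) L57909 L83613
theorem L83617 : sm gd N9782 = N6751 := ded_35_1 (flp_f L57910) L57903 L83613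
theorem L83619 : sm gj N9782 = N9782 := ded_46_2 (flp_f L83613) L57908 L83613
theorem L83620 : sm gh N6750 = N9783 := rfl
theorem L83622 : sm ga N9783 = N9783 := ded_17_1 (flp_h L83620) L57905 L83620
theorem L83623 : sm gc N9783 = N9783 := ded_32_1 (flp_h L83620) L57909 L83620
theorem L83624 : sm gg N9783 = N6767 := ded_50_1 (flp_h L58067) (flp_g L57906) L83620
theorem L83626 : sm gj N9783 = N9783 := ded_52_1 (flp_h L83620) L57908 L83620
theorem L83627 : sm gd N9783 = N9783 := ded_38_1 (flp_h L83620) (flp_d L57903) L40214 L57903 L83620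
theorem L83628 : sm gg N6751 = N9784 := rfl
theorem L83630 : sm ga N9784 = N9784 := ded_15_1 (flp_g L83628) L57912 L83628
theorem L83631 : sm gc N9784 = N6752 := ded_30_1 (flp_g L57918) (flp_c L57913) L83628
theorem L83633 : sm ge N9784 = N9784 := ded_41_1 (flp_g L83628) L57917 L83628
theorem L83634 : sm gh N9784 = N9784 := ded_50_2 (flp_g L83628) L57916 L83628
theorem L83635 : sm gf N9784 = N6768 := ded_45_1 (flp_g L58074) (flp_f L40311) (flp_g L40211) L57910 L83628
theorem L83637 : sm gj N6752 = N9785 := rfl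
theorem L83648 : sm gb N6753 = N9786 := rfl
theorem L83652 : sm gj N9786 = N6770 := ded_24_2 (flp_b L58093) (flp_j L57932) L83648
theorem L83656 : sm gc N9786 = N7314 := ded_19_2 (flp_b L62719) (flp_c L43505) (flp_b L40227) L57928 L83648
theorem L83658 : sm ge N6753 = N9787 := rfl
theorem L83660 : sm ga N9787 = N9787 := ded_13_1 (flp_e L83658) L57930 L83658
theorem L83661 : sm gc N9787 = N6754 := ded_28_1 (flp_e L57937) L57928 L83658
theorem L83663 : sm gj N9787 = N6771 := ded_42_2 (flp_e L58102) (flp_j L57932) L83658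
theorem L83665 : sm gh N9787 = N9787 := ded_43_2 (flp_e L83658) L57934 L83658
theorem L83666 : sm gi N9787 = N9787 := ded_44_2 (flp_e L83658) L57935 L83658
theorem L83667 : sm gf N6754 = N9788 := rfl
theorem L83669 : sm ga N9788 = N9788 := ded_14_1 (flp_f L83667) L57939 L83667
theorem L83670 : sm gb N9788 = N7316 := ded_22_1 (flp_f L62736) (flp_b L57940) L83667
theorem L83672 : sm gd N9788 = N6757 := ded_35_1 (flp_f L57970) (flp_d L57946) L83667
theorem L83674 : sm gj N9788 = N6772 := ded_46_2 (flp_f L58110) (flp_j L57942) L83667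
theorem L83676 : sm gh N9788 = N9788 := ded_47_2 (flp_f L83667) L57944 L83667
theorem L83677 : sm gi N9788 = N9788 := ded_48_2 (flp_f L83667) L57945 L83667
theorem L83678 : sm ge N9788 = N9788 := ded_40_1 (flp_f L83667) (flp_e L57937) L40229 L57937 L83667
theorem L83679 : sm ga N6755 = N9789 := rfl
theorem L83681 : sm gc N9789 = N7317 := ded_11_2 (flp_a L62747) (flp_c L57958) L83679
theorem L83686 : sm gj N9789 = N6773 := ded_16_2 (flp_a L58120) (flp_j L57953) L83679
theorem L83691 : sm gb N9789 = N9789 := ded_10_2 (flp_a L83679) (flp_b L57948) L40236 L57948 L83679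
theorem L83692 : sm ge N6755 = N9790 := rfl
theorem L83694 : sm gb N9790 = N6756 := ded_21_1 (flp_e L57960) L57948 L83692
theorem L83696 : sm gc N9790 = N7318 := ded_28_1 (flp_e L62758) (flp_c L57958) L83692
theorem L83698 : sm gj N9790 = N6774 := ded_42_2 (flp_e L58132) (flp_j L57953) L83692
theorem L83700 : sm gh N9790 = N6759 := ded_43_2 (flp_e L57993) (flp_h L57955) L83692
theorem L83703 : sm gd N6756 = N9791 := rfl
theorem L83705 : sm ga N9791 = N9791 := ded_12_1 (flp_d L83703) L57962 L83703
theorem L83706 : sm gj N9791 = N6775 := ded_37_2 (flp_d L58142) (flp_j L57965) L83703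
theorem L83708 : sm gi N9791 = N9791 := ded_39_2 (flp_d L83703) L57969 L83703
theorem L83709 : sm ge N9791 = N9791 := ded_34_2 (flp_d L83703) (flp_e L57960) L40244 L57960 L83703
theorem L83710 : sm gf N6756 = N9792 := rfl
theorem L83712 : sm ga N9792 = N9792 := ded_14_1 (flp_f L83710) L57962 L83710
theorem L83713 : sm gc N9792 = N6757 := ded_29_1 (flp_f L57970) (flp_c L57963) L83710
theorem L83715 : sm gj N9792 = N6776 := ded_46_2 (flp_f L58148) (flp_j L57965) L83710
theorem L83717 : sm gh N9792 = N6761 := ded_47_2 (flp_f L58011) (flp_h L57967) L83710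
theorem L83719 : sm gi N9792 = N9792 := ded_48_2 (flp_f L83710) L57969 L83710
theorem L83720 : sm ge N9792 = N6799 := ded_40_1 (flp_f L58342) (flp_e L40489) (flp_f L40237) L57960 L83710
theorem L83722 : sm gg N6757 = N9793 := rfl
theorem L83724 : sm ga N9793 = N9793 := ded_15_1 (flp_g L83722) L57972 L83722
theorem L83725 : sm gb N9793 = N7321 := ded_23_1 (flp_g L62787) (flp_b L57973) L83722
theorem L83727 : sm ge N9793 = N6800 := ded_41_1 (flp_g L58352) (flp_e L57980) L83722
theorem L83729 : sm gh N9793 = N6762 := ded_50_2 (flp_g L58022) (flp_h L57977) L83722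
theorem L83731 : sm gi N9793 = N9793 := ded_51_2 (flp_g L83722) L57979 L83722
theorem L83732 : sm ge N6758 = N9794 := rfl
theorem L83734 : sm ga N9794 = N6759 := ded_13_1 (flp_e L57993) L57982 L83732
theorem L83737 : sm gc N9794 = N7322 := ded_28_1 (flp_e L62796) (flp_c L57984) L83732
theorem L83739 : sm gj N9794 = N6778 := ded_42_2 (flp_e L58169) (flp_j L57988) L83732
theorem L83741 : sm gi N9794 = N6763 := ded_44_2 (flp_e L58032) (flp_i L57990) L83732
theorem L83743 : sm gd N6759 = N9795 := rfl
theorem L83745 : sm gb N9795 = N6760 := ded_20_1 (flp_d L58003) (flp_b L57995) L83743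
theorem L83747 : sm gj N9795 = N6779 := ded_37_2 (flp_d L58179) (flp_j L57999) L83743
theorem L83749 : sm gi N9795 = N6764 := ded_39_2 (flp_d L58042) (flp_i L58001) L83743
theorem L83751 : sm gf N6759 = N9796 := rfl
theorem L83753 : sm gb N9796 = N6761 := ded_22_1 (flp_f L58011) (flp_b L57995) L83751
theorem L83755 : sm gc N9796 = N7324 := ded_29_1 (flp_f L62815) (flp_c L57997) L83751
theorem L83757 : sm gj N9796 = N6780 := ded_46_2 (flp_f L58186) (flp_j L57999) L83751
theorem L83759 : sm gi N9796 = N6765 := ded_48_2 (flp_f L58048) (flp_i L58001) L83751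
theorem L83761 : sm ge N9796 = N6803 := ded_40_1 (flp_f L58383) (flp_e L40521) (flp_f L40257) L57993 L83751
theorem L83763 : sm gf N6760 = N9797 := rfl
theorem L83765 : sm ga N9797 = N9797 := ded_14_1 (flp_f L83763) L58005 L83763
theorem L83766 : sm gc N9797 = N9797 := ded_29_1 (flp_f L83763) L58010 L83763
theorem L83767 : sm gd N9797 = N6761 := ded_35_1 (flp_f L58011) L58003 L83763
theorem L83769 : sm gj N9797 = N6781 := ded_46_2 (flp_f L58196) (flp_j L58006) L83763
theorem L83771 : sm gi N9797 = N6766 := ded_48_2 (flp_f L58059) (flp_i L58008) L83763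
theorem L83773 : sm gh N6760 = N9798 := rfl
theorem L83775 : sm ga N9798 = N9798 := ded_17_1 (flp_h L83773) L58005 L83773
theorem L83776 : sm gc N9798 = N9798 := ded_32_1 (flp_h L83773) L58010 L83773
theorem L83777 : sm gj N9798 = N6782 := ded_52_1 (flp_h L58204) (flp_j L58006) L83773
theorem L83779 : sm gg N6761 = N9799 := rfl
theorem L83781 : sm ga N9799 = N9799 := ded_15_1 (flp_g L83779) L58013 L83779
theorem L83782 : sm gc N9799 = N6762 := ded_30_1 (flp_g L58022) (flp_c L58014) L83779
theorem L83784 : sm ge N9799 = N6806 := ded_41_1 (flp_g L58412) (flp_e L58020) L83779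
theorem L83786 : sm gi N9799 = N6768 := ded_51_2 (flp_g L58074) (flp_i L58018) L83779
theorem L83788 : sm gj N6762 = N9800 := rfl
theorem L83790 : sm ga N9800 = N9800 := ded_16_1 (flp_j L83788) L58024 L83788
theorem L83791 : sm gb N9800 = N7328 := ded_24_1 (flp_j L62854) (flp_b L58025) L83788
theorem L83793 : sm gd N9800 = N9800 := ded_37_1 (flp_j L83788) L58027 L83788
theorem L83794 : sm ge N9800 = N6807 := ded_42_1 (flp_j L58420) (flp_e L58028) L83788
theorem L83796 : sm gi N9800 = N6769 := ded_53_2 (flp_j L58082) (flp_i L58030) L83788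
theorem L83798 : sm gg N9800 = N6784 := ded_49_1 (flp_j L58219) (flp_g L40413) (flp_j L40280) L58022 L83788
theorem L83800 : sm gd N6763 = N9801 := rfl
theorem L83802 : sm ga N9801 = N6764 := ded_12_1 (flp_d L58042) (flp_a L58034) L83800
theorem L83804 : sm gb N9801 = N9801 := ded_20_1 (flp_d L83800) L58036 L83800
theorem L83805 : sm gj N9801 = N6785 := ded_37_2 (flp_d L58230) (flp_j L58039) L83800
theorem L83807 : sm gf N6763 = N9802 := rfl
theorem L83809 : sm ga N9802 = N6765 := ded_14_1 (flp_f L58048) (flp_a L58034) L83807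
theorem L83811 : sm gb N9802 = N9802 := ded_22_1 (flp_f L83807) L58036 L83807
theorem L83812 : sm gc N9802 = N7330 := ded_29_1 (flp_f L62874) (flp_c L58037) L83807
theorem L83814 : sm gj N9802 = N6786 := ded_46_2 (flp_f L58236) (flp_j L58039) L83807
theorem L83816 : sm gh N9802 = N9802 := ded_47_2 (flp_f L83807) L58041 L83807
theorem L83817 : sm ge N9802 = N6809 := ded_40_1 (flp_f L58440) (flp_e L40561) (flp_f L40290) L58032 L83807
theorem L83819 : sm gc N6764 = N9803 := rfl
theorem L83821 : sm gj N9803 = N6787 := ded_31_2 (flp_c L58246) (flp_j L58046) L83819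
theorem L83823 : sm gb N9803 = N9803 := ded_19_1 (flp_c L83819) L58044 L40310 (flp_b L58044) L83819
theorem L83824 : sm gd N9803 = N7331 := ded_27_2 (flp_c L62885) (flp_d L43614) (flp_c L40300) L58042 L83819
theorem L83826 : sm gf N6764 = N9804 := rfl
theorem L83828 : sm gb N9804 = N6766 := ded_22_1 (flp_f L58059) (flp_b L58044) L83826
theorem L83830 : sm gd N9804 = N6765 := ded_35_1 (flp_f L58048) L58042 L83826
theorem L83832 : sm gj N9804 = N6788 := ded_46_2 (flp_f L58252) (flp_j L58046) L83826
theorem L83834 : sm gh N6764 = N9805 := rfl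
theorem L83836 : sm gb N9805 = N6767 := ded_25_1 (flp_h L58067) (flp_b L58044) L83834
theorem L83838 : sm gj N9805 = N6789 := ded_52_1 (flp_h L58258) (flp_j L58046) L83834
theorem L83840 : sm gd N9805 = N9805 := ded_38_1 (flp_h L83834) (flp_d L58042) L40304 L58042 L83834
theorem L83841 : sm gg N6765 = N9806 := rfl
theorem L83843 : sm gb N9806 = N6768 := ded_23_1 (flp_g L58074) (flp_b L58050) L83841
theorem L83845 : sm gc N9806 = N7334 := ded_30_1 (flp_g L62907) (flp_c L58052) L83841
theorem L83847 : sm ge N9806 = N6813 := ded_41_1 (flp_g L58475) (flp_e L58057) L83841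
theorem L83849 : sm gh N9806 = N9806 := ded_50_2 (flp_g L83841) L58056 L83841
theorem L83850 : sm ge N6766 = N9807 := rfl
theorem L83852 : sm ga N9807 = N9807 := ded_13_1 (flp_e L83850) L58061 L83850
theorem L83853 : sm gc N9807 = N9807 := ded_28_1 (flp_e L83850) L58062 L83850
theorem L83854 : sm gj N9807 = N6791 := ded_42_2 (flp_e L58274) (flp_j L58065) L83850
theorem L83856 : sm gd N9807 = N6814 := ded_34_1 (flp_e L58483) L40593 (flp_e L40319) (flp_d L58063) L83850
theorem L83858 : sm gg N6766 = N9808 := rfl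
theorem L83860 : sm ga N9808 = N9808 := ded_15_1 (flp_g L83858) L58061 L83858
theorem L83861 : sm gc N9808 = N9808 := ded_30_1 (flp_g L83858) L58062 L83858
theorem L83862 : sm gd N9808 = N6768 := ded_36_1 (flp_g L58074) (flp_d L58063) L83858
theorem L83864 : sm gh N6766 = N9809 := rfl
theorem L83866 : sm ga N9809 = N9809 := ded_17_1 (flp_h L83864) L58061 L83864
theorem L83867 : sm gc N9809 = N9809 := ded_32_1 (flp_h L83864) L58062 L83864
theorem L83868 : sm gf N9809 = N6767 := ded_47_1 (flp_h L58067) L58059 L83864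
theorem L83870 : sm gj N9809 = N6793 := ded_52_1 (flp_h L58287) (flp_j L58065) L83864
theorem L83872 : sm gd N9809 = N9809 := ded_38_1 (flp_h L83864) L58063 L40318 (flp_d L58063) L83864
theorem L83873 : sm gi N6767 = N9810 := rfl
theorem L83875 : sm ga N9810 = N9810 := ded_18_1 (flp_i L83873) L58069 L83873
theorem L83876 : sm gc N9810 = N9810 := ded_33_1 (flp_i L83873) L58070 L83873
theorem L83877 : sm gd N9810 = N9810 := ded_39_1 (flp_i L83873) L58073 L83873
theorem L83878 : sm gj N9810 = N6794 := ded_53_1 (flp_i L58294) (flp_j L58071) L83873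
theorem L83880 : sm gj N6768 = N9811 := rfl
theorem L83882 : sm ga N9811 = N9811 := ded_16_1 (flp_j L83880) L58076 L83880
theorem L83883 : sm gc N9811 = N6769 := ded_31_1 (flp_j L58082) (flp_c L58077) L83880
theorem L83885 : sm ge N9811 = N6818 := ded_42_1 (flp_j L58517) (flp_e L58079) L83880
theorem L83887 : sm gh N9811 = N9811 := ded_52_2 (flp_j L83880) L58081 L83880
theorem L83888 : sm gg N9811 = N6795 := ded_49_1 (flp_j L58300) (flp_g L40459) (flp_j L40316) L58074 L83880
theorem L83890 : sm ga N6770 = N9812 := rfl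
theorem L83900 : sm ge N6770 = N9813 := rfl
theorem L83902 : sm gb N9813 = N6771 := ded_21_1 (flp_e L58102) L58093 L83900
theorem L83904 : sm gc N9813 = N7352 := ded_28_1 (flp_e L63070) (flp_c L58100) L83900
theorem L83909 : sm gd N6771 = N9814 := rfl
theorem L83911 : sm ga N9814 = N9814 := ded_12_1 (flp_d L83909) L58104 L83909
theorem L83912 : sm gg N9814 = N9814 := ded_36_2 (flp_d L83909) L58107 L83909
theorem L83913 : sm gi N9814 = N9814 := ded_39_2 (flp_d L83909) L58109 L83909
theorem L83914 : sm gc N9814 = N6775 := ded_27_1 (flp_d L58142) L40362 (flp_d L40346) (flp_c L58105) L83909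
theorem L83916 : sm ge N9814 = N9814 := ded_34_2 (flp_d L83909) (flp_e L58102) L40337 L58102 L83909
theorem L83917 : sm gf N6771 = N9815 := rfl
theorem L83919 : sm ga N9815 = N9815 := ded_14_1 (flp_f L83917) L58104 L83917
theorem L83920 : sm gc N9815 = N6772 := ded_29_1 (flp_f L58110) (flp_c L58105) L83917
theorem L83922 : sm gh N9815 = N9815 := ded_47_2 (flp_f L83917) L58108 L83917
theorem L83923 : sm gi N9815 = N9815 := ded_48_2 (flp_f L83917) L58109 L83917
theorem L83924 : sm ge N9815 = N9815 := ded_40_1 (flp_f L83917) (flp_e L58102) L40333 L58102 L83917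
theorem L83925 : sm gg N6772 = N9816 := rfl
theorem L83927 : sm ga N9816 = N9816 := ded_15_1 (flp_g L83925) L58112 L83925
theorem L83928 : sm gb N9816 = N7355 := ded_23_1 (flp_g L63094) (flp_b L58113) L83925
theorem L83930 : sm gd N9816 = N6777 := ded_36_1 (flp_g L58158) (flp_d L58115) L83925
theorem L83932 : sm ge N9816 = N9816 := ded_41_1 (flp_g L83925) L58119 L83925
theorem L83933 : sm gh N9816 = N9816 := ded_50_2 (flp_g L83925) L58117 L83925
theorem L83934 : sm gi N9816 = N9816 := ded_51_2 (flp_g L83925) L58118 L83925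
theorem L83935 : sm gf N9816 = N9816 := ded_45_1 (flp_g L83925) (flp_f L58110) L40343 L58110 L83925
theorem L83936 : sm ge N6773 = N9817 := rfl
theorem L83938 : sm ga N9817 = N6774 := ded_13_1 (flp_e L58132) L58120 L83936
theorem L83941 : sm gc N9817 = N7356 := ded_28_1 (flp_e L63104) (flp_c L58122) L83936
theorem L83944 : sm gh N9817 = N6778 := ded_43_2 (flp_e L58169) (flp_h L58128) L83936
theorem L83947 : sm gd N6774 = N9818 := rfl
theorem L83949 : sm gb N9818 = N6775 := ded_20_1 (flp_d L58142) (flp_b L58134) L83947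
theorem L83954 : sm gf N6774 = N9819 := rfl
theorem L83956 : sm gb N9819 = N6776 := ded_22_1 (flp_f L58148) (flp_b L58134) L83954
theorem L83958 : sm gc N9819 = N7358 := ded_29_1 (flp_f L63120) (flp_c L58136) L83954
theorem L83960 : sm gh N9819 = N6780 := ded_47_2 (flp_f L58186) (flp_h L58139) L83954
theorem L83963 : sm ge N9819 = N6821 := ded_40_1 (flp_f L58546) (flp_e L40635) (flp_f L40351) L58132 L83954
theorem L83965 : sm gf N6775 = N9820 := rfl
theorem L83967 : sm ga N9820 = N9820 := ded_14_1 (flp_f L83965) L58144 L83965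
theorem L83968 : sm gd N9820 = N6776 := ded_35_1 (flp_f L58148) L58142 L83965
theorem L83970 : sm gi N9820 = N9820 := ded_48_2 (flp_f L83965) L58146 L83965
theorem L83971 : sm gh N6775 = N9821 := rfl
theorem L83973 : sm ga N9821 = N9821 := ded_17_1 (flp_h L83971) L58144 L83971
theorem L83974 : sm ge N9821 = N9821 := ded_43_1 (flp_h L83971) L58147 L83971
theorem L83975 : sm gg N9821 = N9821 := ded_50_1 (flp_h L83971) L58145 L83971
theorem L83976 : sm gd N9821 = N6782 := ded_38_1 (flp_h L58204) (flp_d L40397) (flp_h L40365) L58142 L83971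
theorem L83978 : sm gg N6776 = N9822 := rfl
theorem L83980 : sm ga N9822 = N9822 := ded_15_1 (flp_g L83978) L58150 L83978
theorem L83981 : sm gc N9822 = N6777 := ded_30_1 (flp_g L58158) (flp_c L58151) L83978
theorem L83983 : sm ge N9822 = N6824 := ded_41_1 (flp_g L58571) (flp_e L58156) L83978
theorem L83985 : sm gh N9822 = N6783 := ded_50_2 (flp_g L58209) (flp_h L58153) L83978
theorem L83987 : sm gi N9822 = N9822 := ded_51_2 (flp_g L83978) L58155 L83978
theorem L83988 : sm gf N9822 = N9822 := ded_45_1 (flp_g L83978) (flp_f L58148) L40364 L58148 L83978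
theorem L83989 : sm gj N6777 = N9823 := rfl
theorem L83991 : sm ga N9823 = N9823 := ded_16_1 (flp_j L83989) L58160 L83989
theorem L83992 : sm gb N9823 = N7362 := ded_24_1 (flp_j L63155) (flp_b L58161) L83989
theorem L83994 : sm ge N9823 = N6825 := ded_42_1 (flp_j L58581) (flp_e L58163) L83989
theorem L83996 : sm gf N9823 = N9823 := ded_46_1 (flp_j L83989) L58168 L83989
theorem L83997 : sm gh N9823 = N6784 := ded_52_2 (flp_j L58219) (flp_h L58165) L83989
theorem L83999 : sm gi N9823 = N9823 := ded_53_2 (flp_j L83989) L58167 L83989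
theorem L84000 : sm gd N6778 = N9824 := rfl
theorem L84002 : sm ga N9824 = N6779 := ded_12_1 (flp_d L58179) (flp_a L58171) L84000
theorem L84006 : sm gi N9824 = N6785 := ded_39_2 (flp_d L58230) (flp_i L58177) L84000
theorem L84008 : sm gf N6778 = N9825 := rfl
theorem L84010 : sm ga N9825 = N6780 := ded_14_1 (flp_f L58186) (flp_a L58171) L84008
theorem L84013 : sm gc N9825 = N7364 := ded_29_1 (flp_f L63175) (flp_c L58174) L84008
theorem L84015 : sm gi N9825 = N6786 := ded_48_2 (flp_f L58236) (flp_i L58177) L84008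
theorem L84019 : sm gc N6779 = N9826 := rfl
theorem L84021 : sm gg N9826 = N9826 := ded_30_2 (flp_c L84019) L58183 L84019
theorem L84022 : sm gi N9826 = N6787 := ded_33_2 (flp_c L58246) (flp_i L58184) L84019
theorem L84024 : sm gb N9826 = N9826 := ded_19_1 (flp_c L84019) L58181 L40403 (flp_b L58181) L84019
theorem L84025 : sm gd N9826 = N7365 := ded_27_2 (flp_c L63185) (flp_d L43811) (flp_c L40392) L58179 L84019
theorem L84027 : sm gf N6779 = N9827 := rfl
theorem L84029 : sm gb N9827 = N6781 := ded_22_1 (flp_f L58196) (flp_b L58181) L84027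
theorem L84031 : sm gd N9827 = N6780 := ded_35_1 (flp_f L58186) L58179 L84027
theorem L84033 : sm gi N9827 = N6788 := ded_48_2 (flp_f L58252) (flp_i L58184) L84027
theorem L84035 : sm gh N6779 = N9828 := rfl
theorem L84037 : sm gb N9828 = N6782 := ded_25_1 (flp_h L58204) (flp_b L58181) L84035
theorem L84039 : sm gg N9828 = N9828 := ded_50_1 (flp_h L84035) L58183 L84035
theorem L84040 : sm gg N6780 = N9829 := rfl
theorem L84042 : sm gb N9829 = N6783 := ded_23_1 (flp_g L58209) (flp_b L58188) L84040
theorem L84044 : sm gc N9829 = N7368 := ded_30_1 (flp_g L63206) (flp_c L58190) L84040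
theorem L84046 : sm ge N9829 = N6831 := ded_41_1 (flp_g L58634) (flp_e L58194) L84040
theorem L84048 : sm gi N9829 = N6790 := ded_51_2 (flp_g L58264) (flp_i L58192) L84040
theorem L84050 : sm gf N9829 = N9829 := ded_45_1 (flp_g L84040) (flp_f L58186) L40394 L58186 L84040
theorem L84051 : sm ge N6781 = N9830 := rfl
theorem L84053 : sm ga N9830 = N9830 := ded_13_1 (flp_e L84051) L58198 L84051
theorem L84054 : sm gc N9830 = N9830 := ded_28_1 (flp_e L84051) L58199 L84051
theorem L84055 : sm gi N9830 = N6791 := ded_44_2 (flp_e L58274) (flp_i L58202) L84051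
theorem L84057 : sm gd N9830 = N6832 := ded_34_1 (flp_e L58644) L40705 (flp_e L40411) (flp_d L58200) L84051
theorem L84059 : sm gg N6781 = N9831 := rfl
theorem L84061 : sm ga N9831 = N9831 := ded_15_1 (flp_g L84059) L58198 L84059
theorem L84062 : sm gc N9831 = N9831 := ded_30_1 (flp_g L84059) L58199 L84059
theorem L84063 : sm gd N9831 = N6783 := ded_36_1 (flp_g L58209) (flp_d L58200) L84059
theorem L84065 : sm gi N9831 = N6792 := ded_51_2 (flp_g L58280) (flp_i L58202) L84059
theorem L84067 : sm gf N9831 = N9831 := ded_45_1 (flp_g L84059) (flp_f L58196) L40400 L58196 L84059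
theorem L84068 : sm gh N6781 = N9832 := rfl
theorem L84070 : sm ga N9832 = N9832 := ded_17_1 (flp_h L84068) L58198 L84068
theorem L84071 : sm gc N9832 = N9832 := ded_32_1 (flp_h L84068) L58199 L84068
theorem L84072 : sm gf N9832 = N6782 := ded_47_1 (flp_h L58204) L58196 L84068
theorem L84074 : sm gi N6782 = N9833 := rfl
theorem L84076 : sm ga N9833 = N9833 := ded_18_1 (flp_i L84074) L58206 L84074
theorem L84077 : sm gc N9833 = N9833 := ded_33_1 (flp_i L84074) L58207 L84074
theorem L84078 : sm gg N9833 = N9833 := ded_51_1 (flp_i L84074) L58208 L84074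
theorem L84079 : sm gh N9833 = N6794 := ded_54_1 (flp_i L58294) (flp_h L40453) (flp_i L40401) L58204 L84074
theorem L84081 : sm gj N6783 = N9834 := rfl
theorem L84083 : sm ga N9834 = N9834 := ded_16_1 (flp_j L84081) L58211 L84081
theorem L84084 : sm gc N9834 = N6784 := ded_31_1 (flp_j L58219) (flp_c L58212) L84081
theorem L84086 : sm ge N9834 = N6836 := ded_42_1 (flp_j L58678) (flp_e L58214) L84081
theorem L84088 : sm gf N9834 = N9834 := ded_46_1 (flp_j L84081) L58218 L84081
theorem L84089 : sm gi N9834 = N6795 := ded_53_2 (flp_j L58300) (flp_i L58216) L84081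
theorem L84091 : sm gc N6785 = N9835 := rfl
theorem L84093 : sm ga N9835 = N6787 := ded_11_1 (flp_c L58246) (flp_a L58232) L84091
theorem L84096 : sm gd N9835 = N7374 := ded_27_2 (flp_c L63262) (flp_d L43864) (flp_c L40429) L58230 L84091
theorem L84098 : sm gf N6785 = N9836 := rfl
theorem L84100 : sm ga N9836 = N6788 := ded_14_1 (flp_f L58252) (flp_a L58232) L84098
theorem L84102 : sm gb N9836 = N9836 := ded_22_1 (flp_f L84098) L58234 L84098
theorem L84103 : sm gd N9836 = N6786 := ded_35_1 (flp_f L58236) L58230 L84098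
theorem L84105 : sm gh N6785 = N9837 := rfl
theorem L84112 : sm gg N6786 = N9838 := rfl
theorem L84114 : sm ga N9838 = N6790 := ded_15_1 (flp_g L58264) (flp_a L58238) L84112
theorem L84116 : sm gb N9838 = N9838 := ded_23_1 (flp_g L84112) L58240 L84112
theorem L84117 : sm gc N9838 = N7377 := ded_30_1 (flp_g L63285) (flp_c L58241) L84112
theorem L84119 : sm ge N9838 = N6840 := ded_41_1 (flp_g L58710) (flp_e L58244) L84112
theorem L84121 : sm gh N9838 = N9838 := ded_50_2 (flp_g L84112) L58243 L84112
theorem L84122 : sm gf N9838 = N9838 := ded_45_1 (flp_g L84112) (flp_f L58236) L40431 L58236 L84112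
theorem L84123 : sm gf N6787 = N9839 := rfl
theorem L84125 : sm gb N9839 = N9839 := ded_22_1 (flp_f L84123) L58249 L84123
theorem L84126 : sm gc N9839 = N6788 := ded_29_1 (flp_f L58252) L58246 L84123
theorem L84128 : sm gd N9839 = N7378 := ded_35_1 (flp_f L63295) (flp_d L58250) L84123
theorem L84130 : sm gh N6787 = N9840 := rfl
theorem L84136 : sm ge N6788 = N9841 := rfl
theorem L84138 : sm gb N9841 = N6791 := ded_21_1 (flp_e L58274) (flp_b L58254) L84136
theorem L84140 : sm gd N9841 = N6843 := ded_34_1 (flp_e L58736) L40763 (flp_e L40445) (flp_d L58256) L84136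
theorem L84142 : sm gg N6788 = N9842 := rfl
theorem L84144 : sm gb N9842 = N6792 := ded_23_1 (flp_g L58280) (flp_b L58254) L84142
theorem L84146 : sm gd N9842 = N6790 := ded_36_1 (flp_g L58264) (flp_d L58256) L84142
theorem L84148 : sm gf N9842 = N9842 := ded_45_1 (flp_g L84142) (flp_f L58252) L40437 L58252 L84142
theorem L84149 : sm gh N6788 = N9843 := rfl
theorem L84151 : sm gb N9843 = N6793 := ded_25_1 (flp_h L58287) (flp_b L58254) L84149
theorem L84153 : sm gf N9843 = N6789 := ded_47_1 (flp_h L58258) L58252 L84149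
theorem L84155 : sm gd N9843 = N9843 := ded_38_1 (flp_h L84149) L58256 L40444 (flp_d L58256) L84149
theorem L84156 : sm gi N6789 = N9844 := rfl
theorem L84158 : sm gb N9844 = N6794 := ded_26_1 (flp_i L58294) (flp_b L58260) L84156
theorem L84160 : sm gd N9844 = N9844 := ded_39_1 (flp_i L84156) L58263 L84156
theorem L84161 : sm gg N9844 = N9844 := ded_51_1 (flp_i L84156) L58262 L84156
theorem L84162 : sm gj N6790 = N9845 := rfl
theorem L84164 : sm gb N9845 = N6795 := ded_24_1 (flp_j L58300) (flp_b L58266) L84162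
theorem L84166 : sm gc N9845 = N7384 := ded_31_1 (flp_j L63335) (flp_c L58268) L84162
theorem L84168 : sm ge N9845 = N6847 := ded_42_1 (flp_j L58762) (flp_e L58270) L84162
theorem L84170 : sm gf N9845 = N9845 := ded_46_1 (flp_j L84162) L58273 L84162
theorem L84171 : sm gh N9845 = N9845 := ded_52_2 (flp_j L84162) L58272 L84162
theorem L84172 : sm gg N6791 = N9846 := rfl
theorem L84174 : sm ga N9846 = N9846 := ded_15_1 (flp_g L84172) L58276 L84172
theorem L84175 : sm gc N9846 = N9846 := ded_30_1 (flp_g L84172) L58277 L84172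
theorem L84176 : sm gd N9846 = N6848 := ded_36_1 (flp_g L58771) (flp_d L58278) L84172
theorem L84178 : sm ge N9846 = N6792 := ded_41_1 (flp_g L58280) L58274 L84172
theorem L84180 : sm gh N6791 = N9847 := rfl
theorem L84182 : sm ga N9847 = N9847 := ded_17_1 (flp_h L84180) L58276 L84180
theorem L84183 : sm gc N9847 = N9847 := ded_32_1 (flp_h L84180) L58277 L84180
theorem L84184 : sm ge N9847 = N6793 := ded_43_1 (flp_h L58287) L58274 L84180
theorem L84186 : sm gj N6792 = N9848 := rfl
theorem L84188 : sm ga N9848 = N9848 := ded_16_1 (flp_j L84186) L58282 L84186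
theorem L84189 : sm gc N9848 = N9848 := ded_31_1 (flp_j L84186) L58283 L84186
theorem L84190 : sm gd N9848 = N6795 := ded_37_1 (flp_j L58300) (flp_d L58284) L84186
theorem L84192 : sm gf N9848 = N9848 := ded_46_1 (flp_j L84186) L58286 L84186
theorem L84193 : sm gh N6792 = N9849 := rfl
theorem L84195 : sm ga N9849 = N9849 := ded_17_1 (flp_h L84193) L58282 L84193
theorem L84196 : sm gc N9849 = N9849 := ded_32_1 (flp_h L84193) L58283 L84193
theorem L84197 : sm gf N9849 = N9849 := ded_47_1 (flp_h L84193) L58286 L84193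
theorem L84198 : sm gg N9849 = N6793 := ded_50_1 (flp_h L58287) L58280 L84193
theorem L84200 : sm gd N9849 = N9849 := ded_38_1 (flp_h L84193) L58284 L40466 (flp_d L58284) L84193
theorem L84201 : sm gi N6793 = N9850 := rfl
theorem L84203 : sm ga N9850 = N9850 := ded_18_1 (flp_i L84201) L58289 L84201
theorem L84204 : sm gc N9850 = N9850 := ded_33_1 (flp_i L84201) L58290 L84201
theorem L84205 : sm gd N9850 = N9850 := ded_39_1 (flp_i L84201) L58293 L84201
theorem L84206 : sm gf N9850 = N6794 := ded_48_1 (flp_i L58294) (flp_f L58291) L84201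
theorem L84208 : sm ge N6796 = N9851 := rfl
theorem L84210 : sm ga N9851 = N6797 := ded_13_1 (flp_e L58321) L58309 L84208
theorem L84216 : sm gj N9851 = N6819 := ded_42_2 (flp_e L58526) (flp_j L58315) L84208
theorem L84218 : sm gh N9851 = N6801 := ded_43_2 (flp_e L58362) (flp_h L58317) L84208
theorem L84221 : sm gd N6797 = N9852 := rfl
theorem L84223 : sm gb N9852 = N6798 := ded_20_1 (flp_d L58333) (flp_b L58323) L84221
theorem L84226 : sm gj N9852 = N6820 := ded_37_2 (flp_d L58538) (flp_j L58328) L84221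
theorem L84230 : sm gf N6797 = N9853 := rfl
theorem L84232 : sm gb N9853 = N6799 := ded_22_1 (flp_f L58342) (flp_b L58323) L84230
theorem L84238 : sm gh N9853 = N6803 := ded_47_2 (flp_f L58383) (flp_h L58330) L84230
theorem L84241 : sm gf N6798 = N9854 := rfl
theorem L84243 : sm ga N9854 = N9854 := ded_14_1 (flp_f L84241) L58335 L84241
theorem L84244 : sm gc N9854 = N9854 := ded_29_1 (flp_f L84241) L58340 L84241
theorem L84245 : sm gd N9854 = N6799 := ded_35_1 (flp_f L58342) L58333 L84241
theorem L84247 : sm gj N9854 = N6822 := ded_46_2 (flp_f L58555) (flp_j L58337) L84241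
theorem L84249 : sm gi N9854 = N9854 := ded_48_2 (flp_f L84241) L58339 L84241
theorem L84250 : sm gh N6798 = N9855 := rfl
theorem L84252 : sm ga N9855 = N9855 := ded_17_1 (flp_h L84250) L58335 L84250
theorem L84253 : sm gc N9855 = N9855 := ded_32_1 (flp_h L84250) L58340 L84250
theorem L84254 : sm ge N9855 = N9855 := ded_43_1 (flp_h L84250) L58341 L84250
theorem L84255 : sm gg N9855 = N9855 := ded_50_1 (flp_h L84250) L58336 L84250
theorem L84256 : sm gj N9855 = N6823 := ded_52_1 (flp_h L58562) (flp_j L58337) L84250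
theorem L84258 : sm gd N9855 = N6805 := ded_38_1 (flp_h L58404) (flp_d L40532) (flp_h L40497) L58333 L84250
theorem L84260 : sm gg N6799 = N9856 := rfl
theorem L84262 : sm ga N9856 = N9856 := ded_15_1 (flp_g L84260) L58344 L84260
theorem L84263 : sm gc N9856 = N6800 := ded_30_1 (flp_g L58352) (flp_c L58345) L84260
theorem L84265 : sm gh N9856 = N6806 := ded_50_2 (flp_g L58412) (flp_h L58349) L84260
theorem L84267 : sm gi N9856 = N9856 := ded_51_2 (flp_g L84260) L58351 L84260
theorem L84268 : sm gf N9856 = N9856 := ded_45_1 (flp_g L84260) (flp_f L58342) L40494 L58342 L84260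
theorem L84269 : sm gj N6800 = N9857 := rfl
theorem L84271 : sm ga N9857 = N9857 := ded_16_1 (flp_j L84269) L58354 L84269
theorem L84272 : sm gb N9857 = N7401 := ded_24_1 (flp_j L63496) (flp_b L58355) L84269
theorem L84274 : sm gd N9857 = N9857 := ded_37_1 (flp_j L84269) L58357 L84269
theorem L84275 : sm gf N9857 = N9857 := ded_46_1 (flp_j L84269) L58361 L84269
theorem L84276 : sm gh N9857 = N6807 := ded_52_2 (flp_j L58420) (flp_h L58358) L84269
theorem L84278 : sm gi N9857 = N9857 := ded_53_2 (flp_j L84269) L58360 L84269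
theorem L84279 : sm gg N9857 = N6825 := ded_49_1 (flp_j L58581) (flp_g L40662) (flp_j L40506) L58352 L84269
theorem L84281 : sm gd N6801 = N9858 := rfl
theorem L84283 : sm ga N9858 = N6802 := ded_12_1 (flp_d L58374) (flp_a L58364) L84281
theorem L84287 : sm gj N9858 = N6826 := ded_37_2 (flp_d L58592) (flp_j L58370) L84281
theorem L84289 : sm gi N9858 = N6808 := ded_39_2 (flp_d L58432) (flp_i L58372) L84281
theorem L84291 : sm gf N6801 = N9859 := rfl
theorem L84293 : sm ga N9859 = N6803 := ded_14_1 (flp_f L58383) (flp_a L58364) L84291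
theorem L84296 : sm gc N9859 = N7403 := ded_29_1 (flp_f L63519) (flp_c L58367) L84291
theorem L84298 : sm gj N9859 = N6827 := ded_46_2 (flp_f L58601) (flp_j L58370) L84291
theorem L84302 : sm gc N6802 = N9860 := rfl
theorem L84304 : sm gg N9860 = N9860 := ded_30_2 (flp_c L84302) L58378 L84302
theorem L84305 : sm gj N9860 = N6828 := ded_31_2 (flp_c L58610) (flp_j L58379) L84302
theorem L84307 : sm gi N9860 = N6810 := ded_33_2 (flp_c L58450) (flp_i L58381) L84302
theorem L84309 : sm gb N9860 = N6907 := ded_19_1 (flp_c L59264) L41116 (flp_c L40540) (flp_b L58376) L84302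
theorem L84311 : sm gd N9860 = N7404 := ded_27_2 (flp_c L63529) (flp_d L44040) (flp_c L40525) L58374 L84302
theorem L84313 : sm gf N6802 = N9861 := rfl
theorem L84315 : sm gb N9861 = N6804 := ded_22_1 (flp_f L58393) (flp_b L58376) L84313
theorem L84317 : sm gd N9861 = N6803 := ded_35_1 (flp_f L58383) L58374 L84313
theorem L84319 : sm gj N9861 = N6829 := ded_46_2 (flp_f L58620) (flp_j L58379) L84313
theorem L84321 : sm gi N9861 = N6811 := ded_48_2 (flp_f L58459) (flp_i L58381) L84313
theorem L84323 : sm gh N6802 = N9862 := rfl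
theorem L84325 : sm gb N9862 = N6805 := ded_25_1 (flp_h L58404) (flp_b L58376) L84323
theorem L84327 : sm gg N9862 = N9862 := ded_50_1 (flp_h L84323) L58378 L84323
theorem L84328 : sm gj N9862 = N6830 := ded_52_1 (flp_h L58628) (flp_j L58379) L84323
theorem L84330 : sm gg N6803 = N9863 := rfl
theorem L84332 : sm gb N9863 = N6806 := ded_23_1 (flp_g L58412) (flp_b L58385) L84330
theorem L84334 : sm gc N9863 = N7407 := ded_30_1 (flp_g L63557) (flp_c L58387) L84330
theorem L84336 : sm gi N9863 = N6813 := ded_51_2 (flp_g L58475) (flp_i L58391) L84330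
theorem L84338 : sm gf N9863 = N9863 := ded_45_1 (flp_g L84330) (flp_f L58383) L40527 L58383 L84330
theorem L84339 : sm ge N6804 = N9864 := rfl
theorem L84341 : sm ga N9864 = N9864 := ded_13_1 (flp_e L84339) L58395 L84339
theorem L84342 : sm gc N9864 = N6911 := ded_28_1 (flp_e L59302) (flp_c L58396) L84339
theorem L84344 : sm gj N9864 = N6832 := ded_42_2 (flp_e L58644) (flp_j L58400) L84339
theorem L84346 : sm gi N9864 = N6814 := ded_44_2 (flp_e L58483) (flp_i L58402) L84339
theorem L84348 : sm gg N6804 = N9865 := rfl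
theorem L84350 : sm ga N9865 = N9865 := ded_15_1 (flp_g L84348) L58395 L84348
theorem L84351 : sm gc N9865 = N6912 := ded_30_1 (flp_g L59310) (flp_c L58396) L84348
theorem L84353 : sm gd N9865 = N6806 := ded_36_1 (flp_g L58412) (flp_d L58398) L84348
theorem L84355 : sm gi N9865 = N6815 := ded_51_2 (flp_g L58490) (flp_i L58402) L84348
theorem L84357 : sm gf N9865 = N9865 := ded_45_1 (flp_g L84348) (flp_f L58393) L40535 L58393 L84348
theorem L84358 : sm gh N6804 = N9866 := rfl
theorem L84360 : sm ga N9866 = N9866 := ded_17_1 (flp_h L84358) L58395 L84358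
theorem L84361 : sm gc N9866 = N6913 := ded_32_1 (flp_h L59318) (flp_c L58396) L84358
theorem L84363 : sm gf N9866 = N6805 := ded_47_1 (flp_h L58404) L58393 L84358
theorem L84365 : sm gj N9866 = N6834 := ded_52_1 (flp_h L58662) (flp_j L58400) L84358
theorem L84367 : sm gi N6805 = N9867 := rfl
theorem L84369 : sm ga N9867 = N9867 := ded_18_1 (flp_i L84367) L58406 L84367
theorem L84370 : sm gc N9867 = N6914 := ded_33_1 (flp_i L59326) (flp_c L58407) L84367
theorem L84372 : sm gg N9867 = N9867 := ded_51_1 (flp_i L84367) L58409 L84367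
theorem L84373 : sm gj N9867 = N6835 := ded_53_1 (flp_i L58669) (flp_j L58410) L84367
theorem L84375 : sm gh N9867 = N6817 := ded_54_1 (flp_i L58508) (flp_h L40597) (flp_i L40538) L58404 L84367
theorem L84377 : sm gj N6806 = N9868 := rfl
theorem L84379 : sm ga N9868 = N9868 := ded_16_1 (flp_j L84377) L58414 L84377
theorem L84380 : sm gc N9868 = N6807 := ded_31_1 (flp_j L58420) (flp_c L58415) L84377
theorem L84382 : sm gf N9868 = N9868 := ded_46_1 (flp_j L84377) L58419 L84377
theorem L84383 : sm gi N9868 = N6818 := ded_53_2 (flp_j L58517) (flp_i L58417) L84377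
theorem L84385 : sm gg N9868 = N6836 := ded_49_1 (flp_j L58678) (flp_g L40716) (flp_j L40547) L58412 L84377
theorem L84387 : sm gc N6808 = N9869 := rfl
theorem L84389 : sm ga N9869 = N6810 := ded_11_1 (flp_c L58450) (flp_a L58434) L84387
theorem L84391 : sm gg N9869 = N9869 := ded_30_2 (flp_c L84387) L58437 L84387
theorem L84392 : sm gj N9869 = N6837 := ded_31_2 (flp_c L58687) (flp_j L58438) L84387
theorem L84394 : sm gd N9869 = N7413 := ded_27_2 (flp_c L63619) (flp_d L44100) (flp_c L40566) L58432 L84387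
theorem L84396 : sm gf N6808 = N9870 := rfl
theorem L84398 : sm ga N9870 = N6811 := ded_14_1 (flp_f L58459) (flp_a L58434) L84396
theorem L84400 : sm gb N9870 = N9870 := ded_22_1 (flp_f L84396) L58436 L84396
theorem L84401 : sm gd N9870 = N6809 := ded_35_1 (flp_f L58440) L58432 L84396
theorem L84403 : sm gj N9870 = N6838 := ded_46_2 (flp_f L58695) (flp_j L58438) L84396
theorem L84405 : sm gh N6808 = N9871 := rfl
theorem L84407 : sm ga N9871 = N6812 := ded_17_1 (flp_h L58467) (flp_a L58434) L84405
theorem L84409 : sm gb N9871 = N9871 := ded_25_1 (flp_h L84405) L58436 L84405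
theorem L84410 : sm gg N9871 = N9871 := ded_50_1 (flp_h L84405) L58437 L84405
theorem L84411 : sm gj N9871 = N6839 := ded_52_1 (flp_h L58702) (flp_j L58438) L84405
theorem L84413 : sm gd N9871 = N9871 := ded_38_1 (flp_h L84405) (flp_d L58432) L40571 L58432 L84405
theorem L84414 : sm gg N6809 = N9872 := rfl
theorem L84416 : sm ga N9872 = N6813 := ded_15_1 (flp_g L58475) (flp_a L58442) L84414
theorem L84418 : sm gb N9872 = N9872 := ded_23_1 (flp_g L84414) L58444 L84414
theorem L84419 : sm gc N9872 = N7416 := ded_30_1 (flp_g L63648) (flp_c L58445) L84414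
theorem L84421 : sm gh N9872 = N9872 := ded_50_2 (flp_g L84414) L58449 L84414
theorem L84422 : sm gf N9872 = N9872 := ded_45_1 (flp_g L84414) (flp_f L58440) L40568 L58440 L84414
theorem L84423 : sm gf N6810 = N9873 := rfl
theorem L84425 : sm gb N9873 = N6920 := ded_22_1 (flp_f L59386) (flp_b L58455) L84423
theorem L84427 : sm gc N9873 = N6811 := ded_29_1 (flp_f L58459) L58450 L84423
theorem L84429 : sm gd N9873 = N7417 := ded_35_1 (flp_f L63656) (flp_d L58457) L84423
theorem L84431 : sm gj N9873 = N6841 := ded_46_2 (flp_f L58720) (flp_j L58453) L84423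
theorem L84433 : sm gh N6810 = N9874 := rfl
theorem L84435 : sm gb N9874 = N6921 := ded_25_1 (flp_h L59394) (flp_b L58455) L84433
theorem L84437 : sm gc N9874 = N6812 := ded_32_1 (flp_h L58467) L58450 L84433
theorem L84439 : sm gg N9874 = N9874 := ded_50_1 (flp_h L84433) L58452 L84433
theorem L84440 : sm gj N9874 = N6842 := ded_52_1 (flp_h L58728) (flp_j L58453) L84433
theorem L84442 : sm ge N6811 = N9875 := rfl
theorem L84444 : sm gb N9875 = N6814 := ded_21_1 (flp_e L58483) (flp_b L58461) L84442
theorem L84446 : sm gj N9875 = N6843 := ded_42_2 (flp_e L58736) (flp_j L58465) L84442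
theorem L84448 : sm gg N6811 = N9876 := rfl
theorem L84450 : sm gb N9876 = N6815 := ded_23_1 (flp_g L58490) (flp_b L58461) L84448
theorem L84452 : sm gd N9876 = N6813 := ded_36_1 (flp_g L58475) (flp_d L58463) L84448
theorem L84454 : sm gf N9876 = N9876 := ded_45_1 (flp_g L84448) (flp_f L58459) L40576 L58459 L84448
theorem L84455 : sm gh N6811 = N9877 := rfl
theorem L84457 : sm gb N9877 = N6816 := ded_25_1 (flp_h L58498) (flp_b L58461) L84455
theorem L84459 : sm gf N9877 = N6812 := ded_47_1 (flp_h L58467) L58459 L84455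
theorem L84461 : sm gj N9877 = N6845 := ded_52_1 (flp_h L58748) (flp_j L58465) L84455
theorem L84463 : sm gd N9877 = N9877 := ded_38_1 (flp_h L84455) L58463 L40587 (flp_d L58463) L84455
theorem L84464 : sm gi N6812 = N9878 := rfl
theorem L84466 : sm gb N9878 = N6817 := ded_26_1 (flp_i L58508) (flp_b L58469) L84464
theorem L84468 : sm gd N9878 = N9878 := ded_39_1 (flp_i L84464) L58474 L84464
theorem L84469 : sm gg N9878 = N9878 := ded_51_1 (flp_i L84464) L58471 L84464
theorem L84470 : sm gj N9878 = N6846 := ded_53_1 (flp_i L58755) (flp_j L58472) L84464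
theorem L84472 : sm gj N6813 = N9879 := rfl
theorem L84474 : sm gb N9879 = N6818 := ded_24_1 (flp_j L58517) (flp_b L58477) L84472
theorem L84476 : sm gc N9879 = N7423 := ded_31_1 (flp_j L63706) (flp_c L58479) L84472
theorem L84478 : sm gf N9879 = N9879 := ded_46_1 (flp_j L84472) L58482 L84472
theorem L84479 : sm gh N9879 = N9879 := ded_52_2 (flp_j L84472) L58481 L84472
theorem L84480 : sm gg N9879 = N6847 := ded_49_1 (flp_j L58762) (flp_g L40772) (flp_j L40585) L58475 L84472
theorem L84482 : sm gg N6814 = N9880 := rfl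
theorem L84484 : sm ga N9880 = N9880 := ded_15_1 (flp_g L84482) L58485 L84482
theorem L84485 : sm gc N9880 = N6927 := ded_30_1 (flp_g L59446) (flp_c L58486) L84482
theorem L84487 : sm ge N9880 = N6815 := ded_41_1 (flp_g L58490) L58483 L84482
theorem L84489 : sm gh N6814 = N9881 := rfl
theorem L84491 : sm ga N9881 = N9881 := ded_17_1 (flp_h L84489) L58485 L84489
theorem L84492 : sm gc N9881 = N6928 := ded_32_1 (flp_h L59452) (flp_c L58486) L84489
theorem L84494 : sm ge N9881 = N6816 := ded_43_1 (flp_h L58498) L58483 L84489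
theorem L84496 : sm gj N9881 = N6849 := ded_52_1 (flp_h L58778) (flp_j L58488) L84489
theorem L84498 : sm gj N6815 = N9882 := rfl
theorem L84500 : sm ga N9882 = N9882 := ded_16_1 (flp_j L84498) L58492 L84498
theorem L84501 : sm gc N9882 = N6929 := ded_31_1 (flp_j L59459) (flp_c L58493) L84498
theorem L84503 : sm gd N9882 = N6818 := ded_37_1 (flp_j L58517) (flp_d L58495) L84498
theorem L84505 : sm gf N9882 = N9882 := ded_46_1 (flp_j L84498) L58497 L84498
theorem L84506 : sm gg N9882 = N6850 := ded_49_1 (flp_j L58785) (flp_g L40786) (flp_j L40595) L58490 L84498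
theorem L84508 : sm gh N6815 = N9883 := rfl
theorem L84510 : sm ga N9883 = N9883 := ded_17_1 (flp_h L84508) L58492 L84508
theorem L84511 : sm gc N9883 = N6930 := ded_32_1 (flp_h L59467) (flp_c L58493) L84508
theorem L84513 : sm gf N9883 = N9883 := ded_47_1 (flp_h L84508) L58497 L84508
theorem L84514 : sm gg N9883 = N6816 := ded_50_1 (flp_h L58498) L58490 L84508
theorem L84516 : sm gd N9883 = N9883 := ded_38_1 (flp_h L84508) L58495 L40611 (flp_d L58495) L84508
theorem L84517 : sm gi N6816 = N9884 := rfl
theorem L84519 : sm ga N9884 = N9884 := ded_18_1 (flp_i L84517) L58500 L84517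
theorem L84520 : sm gc N9884 = N6931 := ded_33_1 (flp_i L59475) (flp_c L58501) L84517
theorem L84522 : sm gd N9884 = N9884 := ded_39_1 (flp_i L84517) L58507 L84517
theorem L84523 : sm gf N9884 = N6817 := ded_48_1 (flp_i L58508) (flp_f L58503) L84517
theorem L84525 : sm gj N9884 = N6852 := ded_53_1 (flp_i L58804) (flp_j L58505) L84517
theorem L84527 : sm gd N6819 = N9885 := rfl
theorem L84529 : sm ga N9885 = N6820 := ded_12_1 (flp_d L58538) (flp_a L58528) L84527
theorem L84532 : sm gg N9885 = N6853 := ded_36_2 (flp_d L58812) (flp_g L58533) L84527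
theorem L84536 : sm gf N6819 = N9886 := rfl
theorem L84543 : sm gh N9886 = N6827 := ded_47_2 (flp_f L58601) (flp_h L58535) L84536
theorem L84546 : sm gc N6820 = N9887 := rfl
theorem L84549 : sm gg N9887 = N6855 := ded_30_2 (flp_c L58832) (flp_g L58542) L84546
theorem L84553 : sm gd N9887 = N7438 := ded_27_2 (flp_c L63848) (flp_d L44259) (flp_c L40639) L58538 L84546
theorem L84555 : sm gf N6820 = N9888 := rfl
theorem L84557 : sm gb N9888 = N6822 := ded_22_1 (flp_f L58555) (flp_b L58540) L84555
theorem L84559 : sm gd N9888 = N6821 := ded_35_1 (flp_f L58546) L58538 L84555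
theorem L84562 : sm gh N6820 = N9889 := rfl
theorem L84564 : sm gb N9889 = N6823 := ded_25_1 (flp_h L58562) (flp_b L58540) L84562
theorem L84569 : sm gd N9889 = N6830 := ded_38_1 (flp_h L58628) (flp_d L40684) (flp_h L40643) L58538 L84562
theorem L84571 : sm gg N6821 = N9890 := rfl
theorem L84573 : sm gb N9890 = N6824 := ded_23_1 (flp_g L58571) (flp_b L58548) L84571
theorem L84577 : sm gh N9890 = N6831 := ded_50_2 (flp_g L58634) (flp_h L58552) L84571
theorem L84582 : sm ge N6822 = N9891 := rfl
theorem L84584 : sm ga N9891 = N9891 := ded_13_1 (flp_e L84582) L58557 L84582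
theorem L84585 : sm gc N9891 = N9891 := ded_28_1 (flp_e L84582) L58558 L84582
theorem L84586 : sm gi N9891 = N9891 := ded_44_2 (flp_e L84582) L58561 L84582
theorem L84587 : sm gf N9891 = N9891 := ded_40_2 (flp_e L84582) (flp_f L58555) L40653 L58555 L84582
theorem L84588 : sm gg N6822 = N9892 := rfl
theorem L84590 : sm ga N9892 = N9892 := ded_15_1 (flp_g L84588) L58557 L84588
theorem L84591 : sm gc N9892 = N9892 := ded_30_1 (flp_g L84588) L58558 L84588
theorem L84592 : sm gd N9892 = N6824 := ded_36_1 (flp_g L58571) (flp_d L58559) L84588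
theorem L84594 : sm gi N9892 = N9892 := ded_51_2 (flp_g L84588) L58561 L84588
theorem L84595 : sm gf N9892 = N6860 := ded_45_1 (flp_g L58874) (flp_f L40848) (flp_g L40649) L58555 L84588
theorem L84597 : sm gh N6822 = N9893 := rfl
theorem L84599 : sm ga N9893 = N9893 := ded_17_1 (flp_h L84597) L58557 L84597
theorem L84600 : sm gc N9893 = N9893 := ded_32_1 (flp_h L84597) L58558 L84597
theorem L84601 : sm gf N9893 = N6823 := ded_47_1 (flp_h L58562) L58555 L84597
theorem L84603 : sm gd N9893 = N6834 := ded_38_1 (flp_h L58662) L40705 (flp_h L40659) (flp_d L58559) L84597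
theorem L84605 : sm gi N6823 = N9894 := rfl
theorem L84607 : sm ga N9894 = N9894 := ded_18_1 (flp_i L84605) L58564 L84605
theorem L84608 : sm gc N9894 = N9894 := ded_33_1 (flp_i L84605) L58565 L84605
theorem L84609 : sm gd N9894 = N6835 := ded_39_1 (flp_i L58669) (flp_d L58569) L84605
theorem L84611 : sm ge N9894 = N9894 := ded_44_1 (flp_i L84605) L58566 L84605
theorem L84612 : sm gg N9894 = N6862 := ded_51_1 (flp_i L58890) (flp_g L58567) L84605
theorem L84614 : sm gh N9894 = N9894 := ded_54_1 (flp_i L84605) (flp_h L58562) L40651 L58562 L84605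
theorem L84615 : sm gj N6824 = N9895 := rfl
theorem L84617 : sm ga N9895 = N9895 := ded_16_1 (flp_j L84615) L58573 L84615
theorem L84618 : sm gc N9895 = N6825 := ded_31_1 (flp_j L58581) (flp_c L58574) L84615
theorem L84620 : sm gf N9895 = N6863 := ded_46_1 (flp_j L58899) (flp_f L58579) L84615
theorem L84622 : sm gh N9895 = N6836 := ded_52_2 (flp_j L58678) (flp_h L58576) L84615
theorem L84624 : sm gi N9895 = N9895 := ded_53_2 (flp_j L84615) L58578 L84615
theorem L84625 : sm gc N6826 = N9896 := rfl
theorem L84627 : sm ga N9896 = N6828 := ded_11_1 (flp_c L58610) (flp_a L58594) L84625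
theorem L84629 : sm gg N9896 = N6864 := ded_30_2 (flp_c L58909) (flp_g L58597) L84625
theorem L84631 : sm gi N9896 = N6837 := ded_33_2 (flp_c L58687) (flp_i L58599) L84625
theorem L84633 : sm gd N9896 = N7447 := ded_27_2 (flp_c L63924) (flp_d L44311) (flp_c L40678) L58592 L84625
theorem L84635 : sm gf N6826 = N9897 := rfl
theorem L84637 : sm ga N9897 = N6829 := ded_14_1 (flp_f L58620) (flp_a L58594) L84635
theorem L84640 : sm gd N9897 = N6827 := ded_35_1 (flp_f L58601) L58592 L84635
theorem L84642 : sm gi N9897 = N6838 := ded_48_2 (flp_f L58695) (flp_i L58599) L84635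
theorem L84644 : sm gh N6826 = N9898 := rfl
theorem L84646 : sm ga N9898 = N6830 := ded_17_1 (flp_h L58628) (flp_a L58594) L84644
theorem L84651 : sm gg N6827 = N9899 := rfl
theorem L84653 : sm ga N9899 = N6831 := ded_15_1 (flp_g L58634) (flp_a L58603) L84651
theorem L84658 : sm gi N9899 = N6840 := ded_51_2 (flp_g L58710) (flp_i L58608) L84651
theorem L84662 : sm gf N6828 = N9900 := rfl
theorem L84664 : sm gb N9900 = N6936 := ded_22_1 (flp_f L59524) (flp_b L58616) L84662
theorem L84666 : sm gc N9900 = N6829 := ded_29_1 (flp_f L58620) L58610 L84662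
theorem L84668 : sm gd N9900 = N7451 := ded_35_1 (flp_f L63962) (flp_d L58618) L84662
theorem L84670 : sm gi N9900 = N6841 := ded_48_2 (flp_f L58720) (flp_i L58614) L84662
theorem L84672 : sm gh N6828 = N9901 := rfl
theorem L84674 : sm gb N9901 = N6937 := ded_25_1 (flp_h L59532) (flp_b L58616) L84672
theorem L84676 : sm gc N9901 = N6830 := ded_32_1 (flp_h L58628) L58610 L84672
theorem L84678 : sm gg N9901 = N6869 := ded_50_1 (flp_h L58955) (flp_g L58612) L84672
theorem L84680 : sm ge N6829 = N9902 := rfl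
theorem L84682 : sm gb N9902 = N6832 := ded_21_1 (flp_e L58644) (flp_b L58622) L84680
theorem L84684 : sm gi N9902 = N6843 := ded_44_2 (flp_e L58736) (flp_i L58626) L84680
theorem L84686 : sm gg N6829 = N9903 := rfl
theorem L84688 : sm gb N9903 = N6833 := ded_23_1 (flp_g L58651) (flp_b L58622) L84686
theorem L84690 : sm gd N9903 = N6831 := ded_36_1 (flp_g L58634) (flp_d L58624) L84686
theorem L84692 : sm gi N9903 = N6844 := ded_51_2 (flp_g L58740) (flp_i L58626) L84686
theorem L84694 : sm gf N9903 = N6871 := ded_45_1 (flp_g L58970) (flp_f L40912) (flp_g L40688) L58620 L84686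
theorem L84696 : sm gh N6829 = N9904 := rfl
theorem L84698 : sm gb N9904 = N6834 := ded_25_1 (flp_h L58662) (flp_b L58622) L84696
theorem L84700 : sm gf N9904 = N6830 := ded_47_1 (flp_h L58628) L58620 L84696
theorem L84702 : sm gi N6830 = N9905 := rfl
theorem L84704 : sm gb N9905 = N6835 := ded_26_1 (flp_i L58669) (flp_b L58630) L84702
theorem L84706 : sm gg N9905 = N6873 := ded_51_1 (flp_i L58985) (flp_g L58632) L84702
theorem L84708 : sm gh N9905 = N6846 := ded_54_1 (flp_i L58755) (flp_h L40765) (flp_i L40690) L58628 L84702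
theorem L84710 : sm gj N6831 = N9906 := rfl
theorem L84712 : sm gb N9906 = N6836 := ded_24_1 (flp_j L58678) (flp_b L58636) L84710
theorem L84714 : sm gc N9906 = N7457 := ded_31_1 (flp_j L64011) (flp_c L58638) L84710
theorem L84716 : sm gf N9906 = N6874 := ded_46_1 (flp_j L58992) (flp_f L58642) L84710
theorem L84718 : sm gi N9906 = N6847 := ded_53_2 (flp_j L58762) (flp_i L58640) L84710
theorem L84720 : sm gg N6832 = N9907 := rfl
theorem L84722 : sm ga N9907 = N9907 := ded_15_1 (flp_g L84720) L58646 L84720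
theorem L84723 : sm gc N9907 = N6943 := ded_30_1 (flp_g L59583) (flp_c L58647) L84720
theorem L84725 : sm ge N9907 = N6833 := ded_41_1 (flp_g L58651) L58644 L84720
theorem L84727 : sm gi N9907 = N6848 := ded_51_2 (flp_g L58771) (flp_i L58649) L84720
theorem L84729 : sm gh N6832 = N9908 := rfl
theorem L84731 : sm ga N9908 = N9908 := ded_17_1 (flp_h L84729) L58646 L84729
theorem L84732 : sm gc N9908 = N6944 := ded_32_1 (flp_h L59591) (flp_c L58647) L84729
theorem L84734 : sm ge N9908 = N6834 := ded_43_1 (flp_h L58662) L58644 L84729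
theorem L84736 : sm gj N6833 = N9909 := rfl
theorem L84738 : sm ga N9909 = N9909 := ded_16_1 (flp_j L84736) L58653 L84736
theorem L84739 : sm gc N9909 = N6945 := ded_31_1 (flp_j L59596) (flp_c L58654) L84736
theorem L84741 : sm gd N9909 = N6836 := ded_37_1 (flp_j L58678) (flp_d L58656) L84736
theorem L84743 : sm gf N9909 = N6877 := ded_46_1 (flp_j L59020) (flp_f L58660) L84736
theorem L84745 : sm gi N9909 = N6850 := ded_53_2 (flp_j L58785) (flp_i L58658) L84736
theorem L84747 : sm gh N6833 = N9910 := rfl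
theorem L84749 : sm ga N9910 = N9910 := ded_17_1 (flp_h L84747) L58653 L84747
theorem L84750 : sm gc N9910 = N6946 := ded_32_1 (flp_h L59605) (flp_c L58654) L84747
theorem L84752 : sm gf N9910 = N6878 := ded_47_1 (flp_h L59030) (flp_f L58660) L84747
theorem L84754 : sm gg N9910 = N6834 := ded_50_1 (flp_h L58662) L58651 L84747
theorem L84756 : sm gi N6834 = N9911 := rfl
theorem L84758 : sm ga N9911 = N9911 := ded_18_1 (flp_i L84756) L58664 L84756
theorem L84759 : sm gc N9911 = N6947 := ded_33_1 (flp_i L59613) (flp_c L58665) L84756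
theorem L84761 : sm gf N9911 = N6835 := ded_48_1 (flp_i L58669) (flp_f L58667) L84756
theorem L84763 : sm gh N9911 = N6852 := ded_54_1 (flp_i L58804) (flp_h L40795) (flp_i L40707) L58662 L84756
theorem L84765 : sm gb N6837 = N9912 := rfl
theorem L84767 : sm gd N9912 = N7463 := ded_20_2 (flp_b L64070) (flp_d L58693) L84765
theorem L84769 : sm gg N9912 = N6880 := ded_23_2 (flp_b L59047) (flp_g L58691) L84765
theorem L84771 : sm ga N9912 = N6948 := ded_10_1 (flp_b L59621) L41364 (flp_b L40755) (flp_a L58689) L84765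
theorem L84773 : sm gc N9912 = N9912 := ded_19_2 (flp_b L84765) (flp_c L58687) L40740 L58687 L84765
theorem L84774 : sm gf N6837 = N9913 := rfl
theorem L84776 : sm ga N9913 = N6841 := ded_14_1 (flp_f L58720) (flp_a L58689) L84774
theorem L84778 : sm gc N9913 = N6838 := ded_29_1 (flp_f L58695) L58687 L84774
theorem L84780 : sm gd N9913 = N7464 := ded_35_1 (flp_f L64079) (flp_d L58693) L84774
theorem L84782 : sm gh N6837 = N9914 := rfl
theorem L84784 : sm ga N9914 = N6842 := ded_17_1 (flp_h L58728) (flp_a L58689) L84782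
theorem L84786 : sm gc N9914 = N6839 := ded_32_1 (flp_h L58702) L58687 L84782
theorem L84788 : sm gg N9914 = N6882 := ded_50_1 (flp_h L59064) (flp_g L58691) L84782
theorem L84790 : sm ge N6838 = N9915 := rfl
theorem L84792 : sm ga N9915 = N6843 := ded_13_1 (flp_e L58736) (flp_a L58697) L84790
theorem L84794 : sm gb N9915 = N9915 := ded_21_1 (flp_e L84790) L58699 L84790
theorem L84795 : sm gg N6838 = N9916 := rfl
theorem L84797 : sm ga N9916 = N6844 := ded_15_1 (flp_g L58740) (flp_a L58697) L84795
theorem L84799 : sm gb N9916 = N9916 := ded_23_1 (flp_g L84795) L58699 L84795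
theorem L84800 : sm gd N9916 = N6840 := ded_36_1 (flp_g L58710) (flp_d L58700) L84795
theorem L84802 : sm gf N9916 = N6884 := ded_45_1 (flp_g L59078) (flp_f L40985) (flp_g L40741) L58695 L84795
theorem L84804 : sm gh N6838 = N9917 := rfl
theorem L84806 : sm ga N9917 = N6845 := ded_17_1 (flp_h L58748) (flp_a L58697) L84804
theorem L84808 : sm gb N9917 = N9917 := ded_25_1 (flp_h L84804) L58699 L84804
theorem L84809 : sm gf N9917 = N6839 := ded_47_1 (flp_h L58702) L58695 L84804
theorem L84811 : sm gd N9917 = N9917 := ded_38_1 (flp_h L84804) L58700 L40750 (flp_d L58700) L84804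
theorem L84812 : sm gi N6839 = N9918 := rfl
theorem L84814 : sm ga N9918 = N6846 := ded_18_1 (flp_i L58755) (flp_a L58704) L84812
theorem L84816 : sm gb N9918 = N9918 := ded_26_1 (flp_i L84812) L58706 L84812
theorem L84817 : sm gd N9918 = N9918 := ded_39_1 (flp_i L84812) L58709 L84812
theorem L84818 : sm gg N9918 = N6886 := ded_51_1 (flp_i L59094) (flp_g L58707) L84812
theorem L84820 : sm gj N6840 = N9919 := rfl
theorem L84822 : sm ga N9919 = N6847 := ded_16_1 (flp_j L58762) (flp_a L58712) L84820
theorem L84824 : sm gb N9919 = N9919 := ded_24_1 (flp_j L84820) L58714 L84820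
theorem L84825 : sm gc N9919 = N7470 := ded_31_1 (flp_j L64130) (flp_c L58715) L84820
theorem L84827 : sm gf N9919 = N6887 := ded_46_1 (flp_j L59101) (flp_f L58718) L84820
theorem L84829 : sm gh N9919 = N9919 := ded_52_2 (flp_j L84820) L58717 L84820
theorem L84830 : sm ge N6841 = N9920 := rfl
theorem L84832 : sm gb N9920 = N6956 := ded_21_1 (flp_e L59689) (flp_b L58722) L84830
theorem L84834 : sm gc N9920 = N6843 := ded_28_1 (flp_e L58736) (flp_c L58724) L84830
theorem L84836 : sm gg N6841 = N9921 := rfl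
theorem L84838 : sm gb N9921 = N6957 := ded_23_1 (flp_g L59693) (flp_b L58722) L84836
theorem L84840 : sm gc N9921 = N6844 := ded_30_1 (flp_g L58740) (flp_c L58724) L84836
theorem L84842 : sm gd N9921 = N7472 := ded_36_1 (flp_g L64146) (flp_d L58726) L84836
theorem L84844 : sm gf N9921 = N6889 := ded_45_1 (flp_g L59118) (flp_f L41009) (flp_g L40753) L58720 L84836
theorem L84846 : sm gh N6841 = N9922 := rfl
theorem L84848 : sm gb N9922 = N6958 := ded_25_1 (flp_h L59701) (flp_b L58722) L84846
theorem L84850 : sm gc N9922 = N6845 := ded_32_1 (flp_h L58748) (flp_c L58724) L84846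
theorem L84852 : sm gf N9922 = N6842 := ded_47_1 (flp_h L58728) L58720 L84846
theorem L84854 : sm gd N6842 = N9923 := rfl
theorem L84856 : sm gb N9923 = N6959 := ded_20_1 (flp_d L59707) (flp_b L58730) L84854
theorem L84858 : sm gg N9923 = N6891 := ded_36_2 (flp_d L59135) (flp_g L58734) L84854
theorem L84860 : sm gc N9923 = N9923 := ded_27_1 (flp_d L84854) L58732 L40771 (flp_c L58732) L84854
theorem L84861 : sm gh N9923 = N7474 := ded_38_2 (flp_d L64162) (flp_h L44452) (flp_d L40757) L58728 L84854
theorem L84863 : sm gi N6842 = N9924 := rfl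
theorem L84865 : sm gb N9924 = N6960 := ded_26_1 (flp_i L59715) (flp_b L58730) L84863
theorem L84867 : sm gc N9924 = N6846 := ded_33_1 (flp_i L58755) (flp_c L58732) L84863
theorem L84869 : sm gg N9924 = N6892 := ded_51_1 (flp_i L59143) (flp_g L58734) L84863
theorem L84871 : sm gg N6843 = N9925 := rfl
theorem L84873 : sm gb N9925 = N6848 := ded_23_1 (flp_g L58771) (flp_b L58738) L84871
theorem L84875 : sm ge N9925 = N6844 := ded_41_1 (flp_g L58740) L58736 L84871
theorem L84877 : sm gh N6843 = N9926 := rfl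
theorem L84879 : sm gb N9926 = N6849 := ded_25_1 (flp_h L58778) (flp_b L58738) L84877
theorem L84881 : sm ge N9926 = N6845 := ded_43_1 (flp_h L58748) L58736 L84877
theorem L84883 : sm gj N6844 = N9927 := rfl
theorem L84885 : sm gb N9927 = N6850 := ded_24_1 (flp_j L58785) (flp_b L58742) L84883
theorem L84887 : sm gd N9927 = N6847 := ded_37_1 (flp_j L58762) (flp_d L58744) L84883
theorem L84889 : sm gf N9927 = N6895 := ded_46_1 (flp_j L59164) (flp_f L58746) L84883
theorem L84891 : sm gh N6844 = N9928 := rfl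
theorem L84893 : sm gb N9928 = N6851 := ded_25_1 (flp_h L58794) (flp_b L58742) L84891
theorem L84895 : sm gf N9928 = N6896 := ded_47_1 (flp_h L59171) (flp_f L58746) L84891
theorem L84897 : sm gg N9928 = N6845 := ded_50_1 (flp_h L58748) L58740 L84891
theorem L84899 : sm gd N9928 = N9928 := ded_38_1 (flp_h L84891) L58744 L40778 (flp_d L58744) L84891
theorem L84900 : sm gi N6845 = N9929 := rfl
theorem L84902 : sm gb N9929 = N6852 := ded_26_1 (flp_i L58804) (flp_b L58750) L84900
theorem L84904 : sm gd N9929 = N9929 := ded_39_1 (flp_i L84900) L58754 L84900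
theorem L84905 : sm gf N9929 = N6846 := ded_48_1 (flp_i L58755) (flp_f L58752) L84900
theorem L84907 : sm gf N6848 = N9930 := rfl
theorem L84909 : sm ga N9930 = N9930 := ded_14_1 (flp_f L84907) L58773 L84907
theorem L84910 : sm gc N9930 = N6966 := ded_29_1 (flp_f L59760) (flp_c L58774) L84907
theorem L84912 : sm ge N9930 = N6898 := ded_40_1 (flp_f L59186) L41066 (flp_f L40793) (flp_e L58776) L84907
theorem L84914 : sm gj N6848 = N9931 := rfl
theorem L84916 : sm ga N9931 = N9931 := ded_16_1 (flp_j L84914) L58773 L84914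
theorem L84917 : sm gc N9931 = N6967 := ded_31_1 (flp_j L59766) (flp_c L58774) L84914
theorem L84919 : sm ge N9931 = N6850 := ded_42_1 (flp_j L58785) (flp_e L58776) L84914
theorem L84921 : sm gh N6848 = N9932 := rfl
theorem L84923 : sm ga N9932 = N9932 := ded_17_1 (flp_h L84921) L58773 L84921
theorem L84924 : sm gc N9932 = N6968 := ded_32_1 (flp_h L59772) (flp_c L58774) L84921
theorem L84926 : sm ge N9932 = N6851 := ded_43_1 (flp_h L58794) (flp_e L58776) L84921
theorem L84928 : sm gg N9932 = N6849 := ded_50_1 (flp_h L58778) L58771 L84921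
theorem L84930 : sm gd N6849 = N9933 := rfl
theorem L84932 : sm ga N9933 = N9933 := ded_12_1 (flp_d L84930) L58780 L84930
theorem L84933 : sm ge N9933 = N9933 := ded_34_2 (flp_d L84930) L58783 L40802 (flp_e L58783) L84930
theorem L84934 : sm gi N6849 = N9934 := rfl
theorem L84936 : sm ga N9934 = N9934 := ded_18_1 (flp_i L84934) L58780 L84934
theorem L84937 : sm gc N9934 = N6970 := ded_33_1 (flp_i L59785) (flp_c L58781) L84934
theorem L84939 : sm ge N9934 = N6852 := ded_44_1 (flp_i L58804) (flp_e L58783) L84934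
theorem L84941 : sm gh N6850 = N9935 := rfl
theorem L84943 : sm ga N9935 = N9935 := ded_17_1 (flp_h L84941) L58787 L84941
theorem L84944 : sm gc N9935 = N6971 := ded_32_1 (flp_h L59790) (flp_c L58788) L84941
theorem L84946 : sm gf N9935 = N6903 := ded_47_1 (flp_h L59224) (flp_f L58792) L84941
theorem L84948 : sm gj N9935 = N6851 := ded_52_1 (flp_h L58794) L58785 L84941
theorem L84950 : sm gd N9935 = N9935 := ded_38_1 (flp_h L84941) L58790 L40818 (flp_d L58790) L84941
theorem L84951 : sm gi N6851 = N9936 := rfl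
theorem L84953 : sm ga N9936 = N9936 := ded_18_1 (flp_i L84951) L58796 L84951
theorem L84954 : sm gc N9936 = N6972 := ded_33_1 (flp_i L59799) (flp_c L58797) L84951
theorem L84956 : sm gd N9936 = N9936 := ded_39_1 (flp_i L84951) L58803 L84951
theorem L84957 : sm gf N9936 = N6904 := ded_48_1 (flp_i L59233) (flp_f L58799) L84951
theorem L84959 : sm gg N9936 = N6852 := ded_51_1 (flp_i L58804) (flp_g L58801) L84951
theorem L84961 : sm gc N6853 = N9937 := rfl
theorem L84968 : sm gd N9937 = N7499 := ded_27_2 (flp_c L64379) (flp_d L44607) (flp_c L40824) L58812 L84961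
theorem L84970 : sm gf N6853 = N9938 := rfl
theorem L84975 : sm gd N9938 = N6854 := ded_35_1 (flp_f L58820) L58812 L84970
theorem L84979 : sm gh N6853 = N9939 := rfl
theorem L84986 : sm gd N9939 = N6866 := ded_38_1 (flp_h L58928) (flp_d L40884) (flp_h L40827) L58812 L84979
theorem L84988 : sm gg N6854 = N9940 := rfl
theorem L84990 : sm ga N9940 = N6858 := ded_15_1 (flp_g L58856) (flp_a L58822) L84988
theorem L84996 : sm gh N9940 = N6867 := ded_50_2 (flp_g L58934) (flp_h L58828) L84988
theorem L84999 : sm gf N6855 = N9941 := rfl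
theorem L85002 : sm gc N9941 = N6856 := ded_29_1 (flp_f L58840) L58832 L84999
theorem L85004 : sm gd N9941 = N7503 := ded_35_1 (flp_f L64414) (flp_d L58838) L84999
theorem L85008 : sm gh N6855 = N9942 := rfl
theorem L85011 : sm gc N9942 = N6857 := ded_32_1 (flp_h L58848) L58832 L85008
theorem L85015 : sm ge N6856 = N9943 := rfl
theorem L85017 : sm gb N9943 = N6859 := ded_21_1 (flp_e L58866) (flp_b L58842) L85015
theorem L85023 : sm gg N6856 = N9944 := rfl
theorem L85025 : sm gb N9944 = N6860 := ded_23_1 (flp_g L58874) (flp_b L58842) L85023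
theorem L85027 : sm gd N9944 = N6858 := ded_36_1 (flp_g L58856) (flp_d L58844) L85023
theorem L85030 : sm gh N6856 = N9945 := rfl
theorem L85032 : sm gb N9945 = N6861 := ded_25_1 (flp_h L58881) (flp_b L58842) L85030
theorem L85037 : sm gd N9945 = N6872 := ded_38_1 (flp_h L58978) L40916 (flp_h L40844) (flp_d L58844) L85030
theorem L85039 : sm gi N6857 = N9946 := rfl
theorem L85041 : sm gb N9946 = N6862 := ded_26_1 (flp_i L58890) (flp_b L58850) L85039
theorem L85048 : sm gj N6858 = N9947 := rfl
theorem L85050 : sm gb N9947 = N6863 := ded_24_1 (flp_j L58899) (flp_b L58858) L85048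
theorem L85055 : sm gh N9947 = N6874 := ded_52_2 (flp_j L58992) (flp_h L58863) L85048
theorem L85059 : sm gg N6859 = N9948 := rfl
theorem L85061 : sm ga N9948 = N9948 := ded_15_1 (flp_g L85059) L58868 L85059
theorem L85062 : sm gc N9948 = N9948 := ded_30_1 (flp_g L85059) L58869 L85059
theorem L85063 : sm gd N9948 = N9948 := ded_36_1 (flp_g L85059) L58872 L85059
theorem L85064 : sm ge N9948 = N6860 := ded_41_1 (flp_g L58874) L58866 L85059
theorem L85066 : sm gi N9948 = N9948 := ded_51_2 (flp_g L85059) L58871 L85059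
theorem L85067 : sm gh N6859 = N9949 := rfl
theorem L85069 : sm ga N9949 = N9949 := ded_17_1 (flp_h L85067) L58868 L85067
theorem L85070 : sm gc N9949 = N9949 := ded_32_1 (flp_h L85067) L58869 L85067
theorem L85071 : sm ge N9949 = N6861 := ded_43_1 (flp_h L58881) L58866 L85067
theorem L85073 : sm gf N9949 = N9949 := ded_47_1 (flp_h L85067) L58873 L85067
theorem L85074 : sm gj N9949 = N9949 := ded_52_1 (flp_h L85067) L58870 L85067
theorem L85075 : sm gj N6860 = N9950 := rfl
theorem L85077 : sm ga N9950 = N9950 := ded_16_1 (flp_j L85075) L58876 L85075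
theorem L85078 : sm gc N9950 = N9950 := ded_31_1 (flp_j L85075) L58877 L85075
theorem L85079 : sm gd N9950 = N6863 := ded_37_1 (flp_j L58899) (flp_d L58878) L85075
theorem L85081 : sm gi N9950 = N9950 := ded_53_2 (flp_j L85075) L58880 L85075
theorem L85082 : sm gg N9950 = N9950 := ded_49_1 (flp_j L85075) (flp_g L58874) L40854 L58874 L85075
theorem L85083 : sm gh N6860 = N9951 := rfl
theorem L85085 : sm ga N9951 = N9951 := ded_17_1 (flp_h L85083) L58876 L85083
theorem L85086 : sm gc N9951 = N9951 := ded_32_1 (flp_h L85083) L58877 L85083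
theorem L85087 : sm gg N9951 = N6861 := ded_50_1 (flp_h L58881) L58874 L85083
theorem L85089 : sm gd N9951 = N6878 := ded_38_1 (flp_h L59030) L40949 (flp_h L40870) (flp_d L58878) L85083
theorem L85091 : sm gi N6861 = N9952 := rfl
theorem L85093 : sm ga N9952 = N9952 := ded_18_1 (flp_i L85091) L58883 L85091
theorem L85094 : sm gc N9952 = N9952 := ded_33_1 (flp_i L85091) L58884 L85091
theorem L85095 : sm gd N9952 = N6879 := ded_39_1 (flp_i L59037) (flp_d L58888) L85091
theorem L85097 : sm gf N9952 = N6862 := ded_48_1 (flp_i L58890) (flp_f L58885) L85091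
theorem L85099 : sm gj N9952 = N9952 := ded_53_1 (flp_i L85091) L58887 L85091
theorem L85100 : sm gh N9952 = N9952 := ded_54_1 (flp_i L85091) (flp_h L58881) L40855 L58881 L85091
theorem L85101 : sm gb N6864 = N9953 := rfl
theorem L85103 : sm gd N9953 = N7515 := ded_20_2 (flp_b L64513) (flp_d L58916) L85101
theorem L85106 : sm gi N9953 = N6880 := ded_26_2 (flp_b L59047) (flp_i L58914) L85101
theorem L85108 : sm ga N9953 = N6973 := ded_10_1 (flp_b L59808) L41486 (flp_b L40908) (flp_a L58911) L85101
theorem L85111 : sm gf N6864 = N9954 := rfl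
theorem L85113 : sm ga N9954 = N6868 := ded_14_1 (flp_f L58944) (flp_a L58911) L85111
theorem L85115 : sm gc N9954 = N6865 := ded_29_1 (flp_f L58918) L58909 L85111
theorem L85117 : sm gd N9954 = N7516 := ded_35_1 (flp_f L64523) (flp_d L58916) L85111
theorem L85120 : sm gi N9954 = N6881 := ded_48_2 (flp_f L59055) (flp_i L58914) L85111
theorem L85122 : sm gh N6864 = N9955 := rfl
theorem L85124 : sm ga N9955 = N6869 := ded_17_1 (flp_h L58955) (flp_a L58911) L85122
theorem L85126 : sm gc N9955 = N6866 := ded_32_1 (flp_h L58928) L58909 L85122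
theorem L85129 : sm ge N6865 = N9956 := rfl
theorem L85131 : sm ga N9956 = N6870 := ded_13_1 (flp_e L58962) (flp_a L58920) L85129
theorem L85135 : sm gi N9956 = N6883 := ded_44_2 (flp_e L59071) (flp_i L58926) L85129
theorem L85138 : sm gg N6865 = N9957 := rfl
theorem L85140 : sm ga N9957 = N6871 := ded_15_1 (flp_g L58970) (flp_a L58920) L85138
theorem L85143 : sm gd N9957 = N6867 := ded_36_1 (flp_g L58934) (flp_d L58923) L85138
theorem L85145 : sm gi N9957 = N6884 := ded_51_2 (flp_g L59078) (flp_i L58926) L85138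
theorem L85147 : sm gh N6865 = N9958 := rfl
theorem L85149 : sm ga N9958 = N6872 := ded_17_1 (flp_h L58978) (flp_a L58920) L85147
theorem L85163 : sm gj N6867 = N9960 := rfl
theorem L85165 : sm ga N9960 = N6874 := ded_16_1 (flp_j L58992) (flp_a L58936) L85163
theorem L85168 : sm gc N9960 = N7522 := ded_31_1 (flp_j L64580) (flp_c L58939) L85163
theorem L85171 : sm gi N9960 = N6887 := ded_53_2 (flp_j L59101) (flp_i L58942) L85163
theorem L85174 : sm ge N6868 = N9961 := rfl
theorem L85176 : sm gb N9961 = N6981 := ded_21_1 (flp_e L59884) (flp_b L58946) L85174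
theorem L85178 : sm gc N9961 = N6870 := ded_28_1 (flp_e L58962) (flp_c L58948) L85174
theorem L85180 : sm gj N9961 = N9961 := ded_42_2 (flp_e L85174) L58952 L85174
theorem L85181 : sm gi N9961 = N6888 := ded_44_2 (flp_e L59111) (flp_i L58953) L85174
theorem L85183 : sm gg N6868 = N9962 := rfl
theorem L85185 : sm gb N9962 = N6982 := ded_23_1 (flp_g L59891) (flp_b L58946) L85183
theorem L85187 : sm gc N9962 = N6871 := ded_30_1 (flp_g L58970) (flp_c L58948) L85183
theorem L85189 : sm gd N9962 = N7524 := ded_36_1 (flp_g L64600) (flp_d L58950) L85183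
theorem L85191 : sm gi N9962 = N6889 := ded_51_2 (flp_g L59118) (flp_i L58953) L85183
theorem L85193 : sm gh N6868 = N9963 := rfl
theorem L85195 : sm gb N9963 = N6983 := ded_25_1 (flp_h L59899) (flp_b L58946) L85193
theorem L85197 : sm gc N9963 = N6872 := ded_32_1 (flp_h L58978) (flp_c L58948) L85193
theorem L85199 : sm gf N9963 = N6869 := ded_47_1 (flp_h L58955) L58944 L85193
theorem L85201 : sm gj N9963 = N9963 := ded_52_1 (flp_h L85193) L58952 L85193
theorem L85202 : sm gd N6869 = N9964 := rfl
theorem L85204 : sm gb N9964 = N6984 := ded_20_1 (flp_d L59906) (flp_b L58957) L85202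
theorem L85207 : sm gh N9964 = N7526 := ded_38_2 (flp_d L64617) (flp_h L44745) (flp_d L40910) L58955 L85202
theorem L85209 : sm gi N6869 = N9965 := rfl
theorem L85211 : sm gb N9965 = N6985 := ded_26_1 (flp_i L59912) (flp_b L58957) L85209
theorem L85213 : sm gc N9965 = N6873 := ded_33_1 (flp_i L58985) (flp_c L58959) L85209
theorem L85215 : sm gj N9965 = N9965 := ded_53_1 (flp_i L85209) L58961 L85209
theorem L85216 : sm gh N9965 = N6892 := ded_54_1 (flp_i L59143) (flp_h L41018) (flp_i L40906) L58955 L85209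
theorem L85218 : sm gg N6870 = N9966 := rfl
theorem L85220 : sm gb N9966 = N6875 := ded_23_1 (flp_g L59002) (flp_b L58964) L85218
theorem L85222 : sm gd N9966 = N9966 := ded_36_1 (flp_g L85218) L58969 L85218
theorem L85223 : sm ge N9966 = N6871 := ded_41_1 (flp_g L58970) L58962 L85218
theorem L85225 : sm gi N9966 = N6893 := ded_51_2 (flp_g L59150) (flp_i L58967) L85218
theorem L85227 : sm gh N6870 = N9967 := rfl
theorem L85229 : sm gb N9967 = N6876 := ded_25_1 (flp_h L59012) (flp_b L58964) L85227
theorem L85231 : sm ge N9967 = N6872 := ded_43_1 (flp_h L58978) L58962 L85227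
theorem L85233 : sm gj N9967 = N9967 := ded_52_1 (flp_h L85227) L58966 L85227
theorem L85234 : sm gj N6871 = N9968 := rfl
theorem L85236 : sm gb N9968 = N6877 := ded_24_1 (flp_j L59020) (flp_b L58972) L85234
theorem L85238 : sm gd N9968 = N6874 := ded_37_1 (flp_j L58992) (flp_d L58974) L85234
theorem L85240 : sm gi N9968 = N6895 := ded_53_2 (flp_j L59164) (flp_i L58976) L85234
theorem L85242 : sm gg N9968 = N9968 := ded_49_1 (flp_j L85234) (flp_g L58970) L40918 L58970 L85234
theorem L85243 : sm gh N6871 = N9969 := rfl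
theorem L85245 : sm gb N9969 = N6878 := ded_25_1 (flp_h L59030) (flp_b L58972) L85243
theorem L85247 : sm gg N9969 = N6872 := ded_50_1 (flp_h L58978) L58970 L85243
theorem L85249 : sm gi N6872 = N9970 := rfl
theorem L85251 : sm gb N9970 = N6879 := ded_26_1 (flp_i L59037) (flp_b L58980) L85249
theorem L85253 : sm gf N9970 = N6873 := ded_48_1 (flp_i L58985) (flp_f L58982) L85249
theorem L85255 : sm gj N9970 = N9970 := ded_53_1 (flp_i L85249) L58984 L85249
theorem L85256 : sm gh N9970 = N6897 := ded_54_1 (flp_i L59178) (flp_h L41037) (flp_i L40919) L58978 L85249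
theorem L85258 : sm gf N6875 = N9971 := rfl
theorem L85260 : sm ga N9971 = N9971 := ded_14_1 (flp_f L85258) L59004 L85258
theorem L85261 : sm gc N9971 = N6991 := ded_29_1 (flp_f L59962) (flp_c L59005) L85258
theorem L85263 : sm gd N9971 = N9971 := ded_35_1 (flp_f L85258) L59007 L85258
theorem L85264 : sm gi N9971 = N6898 := ded_48_2 (flp_f L59186) (flp_i L59010) L85258
theorem L85266 : sm gj N6875 = N9972 := rfl
theorem L85268 : sm ga N9972 = N9972 := ded_16_1 (flp_j L85266) L59004 L85266
theorem L85269 : sm gc N9972 = N6992 := ded_31_1 (flp_j L59969) (flp_c L59005) L85266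
theorem L85271 : sm gd N9972 = N9972 := ded_37_1 (flp_j L85266) L59007 L85266
theorem L85272 : sm ge N9972 = N6877 := ded_42_1 (flp_j L59020) (flp_e L59008) L85266
theorem L85274 : sm gi N9972 = N6899 := ded_53_2 (flp_j L59192) (flp_i L59010) L85266
theorem L85276 : sm gg N9972 = N9972 := ded_49_1 (flp_j L85266) (flp_g L59002) L40940 L59002 L85266
theorem L85277 : sm gh N6875 = N9973 := rfl
theorem L85279 : sm ga N9973 = N9973 := ded_17_1 (flp_h L85277) L59004 L85277
theorem L85280 : sm gc N9973 = N6993 := ded_32_1 (flp_h L59979) (flp_c L59005) L85277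
theorem L85282 : sm ge N9973 = N6878 := ded_43_1 (flp_h L59030) (flp_e L59008) L85277
theorem L85284 : sm gg N9973 = N6876 := ded_50_1 (flp_h L59012) L59002 L85277
theorem L85286 : sm gd N6876 = N9974 := rfl
theorem L85288 : sm ga N9974 = N9974 := ded_12_1 (flp_d L85286) L59014 L85286
theorem L85289 : sm gj N9974 = N9974 := ded_37_2 (flp_d L85286) L59019 L85286
theorem L85290 : sm gh N9974 = N9974 := ded_38_2 (flp_d L85286) (flp_h L59012) L40943 L59012 L85286
theorem L85291 : sm gi N6876 = N9975 := rfl
theorem L85293 : sm ga N9975 = N9975 := ded_18_1 (flp_i L85291) L59014 L85291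
theorem L85294 : sm gc N9975 = N6995 := ded_33_1 (flp_i L59993) (flp_c L59015) L85291
theorem L85296 : sm ge N9975 = N6879 := ded_44_1 (flp_i L59037) (flp_e L59017) L85291
theorem L85298 : sm gj N9975 = N9975 := ded_53_1 (flp_i L85291) L59019 L85291
theorem L85299 : sm gh N9975 = N6902 := ded_54_1 (flp_i L59216) (flp_h L41068) (flp_i L40941) L59012 L85291
theorem L85301 : sm gh N6877 = N9976 := rfl
theorem L85303 : sm ga N9976 = N9976 := ded_17_1 (flp_h L85301) L59022 L85301
theorem L85304 : sm gc N9976 = N6996 := ded_32_1 (flp_h L60001) (flp_c L59023) L85301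
theorem L85306 : sm gg N9976 = N9976 := ded_50_1 (flp_h L85301) L59029 L85301
theorem L85307 : sm gj N9976 = N6878 := ded_52_1 (flp_h L59030) L59020 L85301
theorem L85309 : sm gi N6878 = N9977 := rfl
theorem L85311 : sm ga N9977 = N9977 := ded_18_1 (flp_i L85309) L59032 L85309
theorem L85312 : sm gc N9977 = N6997 := ded_33_1 (flp_i L60008) (flp_c L59033) L85309
theorem L85314 : sm gg N9977 = N6879 := ded_51_1 (flp_i L59037) (flp_g L59035) L85309
theorem L85316 : sm gh N9977 = N6904 := ded_54_1 (flp_i L59233) (flp_h L41084) (flp_i L40951) L59030 L85309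
theorem L85318 : sm gf N6880 = N9978 := rfl
theorem L85320 : sm ga N9978 = N6998 := ded_14_1 (flp_f L60016) (flp_a L59052) L85318
theorem L85322 : sm gb N9978 = N6881 := ded_22_1 (flp_f L59055) L59047 L85318
theorem L85324 : sm gc N9978 = N9978 := ded_29_1 (flp_f L85318) L59054 L85318
theorem L85325 : sm gd N9978 = N7540 := ded_35_1 (flp_f L64743) (flp_d L59049) L85318
theorem L85327 : sm gj N9978 = N9978 := ded_46_2 (flp_f L85318) L59051 L85318
theorem L85328 : sm gh N6880 = N9979 := rfl
theorem L85330 : sm ga N9979 = N6999 := ded_17_1 (flp_h L60024) (flp_a L59052) L85328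
theorem L85332 : sm gb N9979 = N6882 := ded_25_1 (flp_h L59064) L59047 L85328
theorem L85334 : sm gc N9979 = N9979 := ded_32_1 (flp_h L85328) L59054 L85328
theorem L85335 : sm gj N9979 = N9979 := ded_52_1 (flp_h L85328) L59051 L85328
theorem L85336 : sm ge N6881 = N9980 := rfl
theorem L85338 : sm ga N9980 = N6888 := ded_13_1 (flp_e L59111) (flp_a L59057) L85336
theorem L85340 : sm gc N9980 = N6883 := ded_28_1 (flp_e L59071) (flp_c L59059) L85336
theorem L85342 : sm gj N9980 = N9980 := ded_42_2 (flp_e L85336) L59063 L85336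
theorem L85343 : sm gg N6881 = N9981 := rfl
theorem L85345 : sm ga N9981 = N6889 := ded_15_1 (flp_g L59118) (flp_a L59057) L85343
theorem L85347 : sm gc N9981 = N6884 := ded_30_1 (flp_g L59078) (flp_c L59059) L85343
theorem L85349 : sm gd N9981 = N7543 := ded_36_1 (flp_g L64770) (flp_d L59061) L85343
theorem L85351 : sm gh N6881 = N9982 := rfl
theorem L85353 : sm ga N9982 = N6890 := ded_17_1 (flp_h L59126) (flp_a L59057) L85351
theorem L85355 : sm gc N9982 = N6885 := ded_32_1 (flp_h L59085) (flp_c L59059) L85351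
theorem L85357 : sm gf N9982 = N6882 := ded_47_1 (flp_h L59064) L59055 L85351
theorem L85359 : sm gj N9982 = N9982 := ded_52_1 (flp_h L85351) L59063 L85351
theorem L85360 : sm gd N6882 = N9983 := rfl
theorem L85362 : sm ga N9983 = N6891 := ded_12_1 (flp_d L59135) (flp_a L59066) L85360
theorem L85364 : sm gj N9983 = N9983 := ded_37_2 (flp_d L85360) L59070 L85360
theorem L85365 : sm gc N9983 = N9983 := ded_27_1 (flp_d L85360) L59068 L40999 (flp_c L59068) L85360
theorem L85366 : sm gh N9983 = N7545 := ded_38_2 (flp_d L64785) (flp_h L44859) (flp_d L40983) L59064 L85360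
theorem L85368 : sm gi N6882 = N9984 := rfl
theorem L85370 : sm ga N9984 = N6892 := ded_18_1 (flp_i L59143) (flp_a L59066) L85368
theorem L85372 : sm gc N9984 = N6886 := ded_33_1 (flp_i L59094) (flp_c L59068) L85368
theorem L85374 : sm gj N9984 = N9984 := ded_53_1 (flp_i L85368) L59070 L85368
theorem L85375 : sm gg N6883 = N9985 := rfl
theorem L85377 : sm ga N9985 = N6893 := ded_15_1 (flp_g L59150) (flp_a L59073) L85375
theorem L85379 : sm gb N9985 = N9985 := ded_23_1 (flp_g L85375) L59075 L85375
theorem L85380 : sm gd N9985 = N9985 := ded_36_1 (flp_g L85375) L59077 L85375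
theorem L85381 : sm ge N9985 = N6884 := ded_41_1 (flp_g L59078) L59071 L85375
theorem L85383 : sm gh N6883 = N9986 := rfl
theorem L85385 : sm ga N9986 = N6894 := ded_17_1 (flp_h L59157) (flp_a L59073) L85383
theorem L85387 : sm gb N9986 = N9986 := ded_25_1 (flp_h L85383) L59075 L85383
theorem L85388 : sm ge N9986 = N6885 := ded_43_1 (flp_h L59085) L59071 L85383
theorem L85390 : sm gj N9986 = N9986 := ded_52_1 (flp_h L85383) L59076 L85383
theorem L85391 : sm gj N6884 = N9987 := rfl
theorem L85393 : sm ga N9987 = N6895 := ded_16_1 (flp_j L59164) (flp_a L59080) L85391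
theorem L85395 : sm gb N9987 = N9987 := ded_24_1 (flp_j L85391) L59082 L85391
theorem L85396 : sm gd N9987 = N6887 := ded_37_1 (flp_j L59101) (flp_d L59083) L85391
theorem L85398 : sm gg N9987 = N9987 := ded_49_1 (flp_j L85391) (flp_g L59078) L40992 L59078 L85391
theorem L85399 : sm gh N6884 = N9988 := rfl
theorem L85401 : sm ga N9988 = N6896 := ded_17_1 (flp_h L59171) (flp_a L59080) L85399
theorem L85403 : sm gb N9988 = N9988 := ded_25_1 (flp_h L85399) L59082 L85399
theorem L85404 : sm gg N9988 = N6885 := ded_50_1 (flp_h L59085) L59078 L85399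
theorem L85406 : sm gd N9988 = N9988 := ded_38_1 (flp_h L85399) L59083 L41008 (flp_d L59083) L85399
theorem L85407 : sm gi N6885 = N9989 := rfl
theorem L85409 : sm ga N9989 = N6897 := ded_18_1 (flp_i L59178) (flp_a L59087) L85407
theorem L85411 : sm gb N9989 = N9989 := ded_26_1 (flp_i L85407) L59089 L85407
theorem L85412 : sm gd N9989 = N9989 := ded_39_1 (flp_i L85407) L59093 L85407
theorem L85413 : sm gf N9989 = N6886 := ded_48_1 (flp_i L59094) (flp_f L59090) L85407
theorem L85415 : sm gj N9989 = N9989 := ded_53_1 (flp_i L85407) L59092 L85407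
theorem L85416 : sm gd N6888 = N9990 := rfl
theorem L85418 : sm gb N9990 = N7010 := ded_20_1 (flp_d L60114) (flp_b L59113) L85416
theorem L85420 : sm gj N9990 = N9990 := ded_37_2 (flp_d L85416) L59117 L85416
theorem L85421 : sm gc N9990 = N9990 := ded_27_1 (flp_d L85416) L59115 L41030 (flp_c L59115) L85416
theorem L85422 : sm ge N9990 = N7552 := ded_34_2 (flp_d L64846) (flp_e L44912) (flp_d L41015) L59111 L85416
theorem L85424 : sm gg N6888 = N9991 := rfl
theorem L85426 : sm gb N9991 = N7011 := ded_23_1 (flp_g L60121) (flp_b L59113) L85424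
theorem L85428 : sm gc N9991 = N6893 := ded_30_1 (flp_g L59150) (flp_c L59115) L85424
theorem L85430 : sm ge N9991 = N6889 := ded_41_1 (flp_g L59118) L59111 L85424
theorem L85432 : sm gh N6888 = N9992 := rfl
theorem L85434 : sm gb N9992 = N7012 := ded_25_1 (flp_h L60127) (flp_b L59113) L85432
theorem L85436 : sm gc N9992 = N6894 := ded_32_1 (flp_h L59157) (flp_c L59115) L85432
theorem L85438 : sm ge N9992 = N6890 := ded_43_1 (flp_h L59126) L59111 L85432
theorem L85440 : sm gj N9992 = N9992 := ded_52_1 (flp_h L85432) L59117 L85432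
theorem L85441 : sm gj N6889 = N9993 := rfl
theorem L85443 : sm gb N9993 = N7013 := ded_24_1 (flp_j L60134) (flp_b L59120) L85441
theorem L85445 : sm gc N9993 = N6895 := ded_31_1 (flp_j L59164) (flp_c L59122) L85441
theorem L85447 : sm gd N9993 = N7555 := ded_37_1 (flp_j L64871) (flp_d L59124) L85441
theorem L85449 : sm gg N9993 = N9993 := ded_49_1 (flp_j L85441) (flp_g L59118) L41017 L59118 L85441
theorem L85450 : sm gh N6889 = N9994 := rfl
theorem L85452 : sm gb N9994 = N7014 := ded_25_1 (flp_h L60141) (flp_b L59120) L85450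
theorem L85454 : sm gc N9994 = N6896 := ded_32_1 (flp_h L59171) (flp_c L59122) L85450
theorem L85456 : sm gg N9994 = N6890 := ded_50_1 (flp_h L59126) L59118 L85450
theorem L85458 : sm gd N6890 = N9995 := rfl
theorem L85460 : sm gb N9995 = N7015 := ded_20_1 (flp_d L60147) (flp_b L59128) L85458
theorem L85462 : sm gf N9995 = N6891 := ded_35_2 (flp_d L59135) (flp_f L59132) L85458
theorem L85464 : sm gj N9995 = N9995 := ded_37_2 (flp_d L85458) L59134 L85458
theorem L85465 : sm gc N9995 = N9995 := ded_27_1 (flp_d L85458) L59130 L41044 (flp_c L59130) L85458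
theorem L85466 : sm gh N9995 = N7557 := ded_38_2 (flp_d L64886) (flp_h L44926) (flp_d L41015) L59126 L85458
theorem L85468 : sm gi N6890 = N9996 := rfl
theorem L85470 : sm gb N9996 = N7016 := ded_26_1 (flp_i L60156) (flp_b L59128) L85468
theorem L85472 : sm gc N9996 = N6897 := ded_33_1 (flp_i L59178) (flp_c L59130) L85468
theorem L85474 : sm gf N9996 = N6892 := ded_48_1 (flp_i L59143) (flp_f L59132) L85468
theorem L85476 : sm gj N9996 = N9996 := ded_53_1 (flp_i L85468) L59134 L85468
theorem L85477 : sm ge N6891 = N9997 := rfl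
theorem L85479 : sm gb N9997 = N7017 := ded_21_1 (flp_e L60163) (flp_b L59137) L85477
theorem L85481 : sm gc N9997 = N9997 := ded_28_1 (flp_e L85477) L59140 L85477
theorem L85482 : sm gj N9997 = N9997 := ded_42_2 (flp_e L85477) L59139 L85477
theorem L85483 : sm gh N9997 = N7559 := ded_43_2 (flp_e L64903) (flp_h L59141) L85477
theorem L85485 : sm gi N6891 = N9998 := rfl
theorem L85487 : sm gb N9998 = N7018 := ded_26_1 (flp_i L60170) (flp_b L59137) L85485
theorem L85489 : sm gc N9998 = N9998 := ded_33_1 (flp_i L85485) L59140 L85485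
theorem L85490 : sm gd N9998 = N6892 := ded_39_1 (flp_i L59143) L59135 L85485
theorem L85492 : sm gj N9998 = N9998 := ded_53_1 (flp_i L85485) L59139 L85485
theorem L85493 : sm gf N6893 = N9999 := rfl
theorem L85495 : sm gb N9999 = N6898 := ded_22_1 (flp_f L59186) (flp_b L59152) L85493
theorem L85497 : sm gd N9999 = N9999 := ded_35_1 (flp_f L85493) L59154 L85493
theorem L85498 : sm gj N6893 = N10000 := rfl
theorem L85500 : sm gb N10000 = N6899 := ded_24_1 (flp_j L59192) (flp_b L59152) L85498
theorem L85502 : sm gd N10000 = N10000 := ded_37_1 (flp_j L85498) L59154 L85498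
theorem L85503 : sm ge N10000 = N6895 := ded_42_1 (flp_j L59164) (flp_e L59155) L85498
theorem L85505 : sm gg N10000 = N10000 := ded_49_1 (flp_j L85498) (flp_g L59150) L41029 L59150 L85498
theorem L85506 : sm gh N6893 = N10001 := rfl
theorem L85508 : sm gb N10001 = N6900 := ded_25_1 (flp_h L59201) (flp_b L59152) L85506
theorem L85510 : sm ge N10001 = N6896 := ded_43_1 (flp_h L59171) (flp_e L59155) L85506
theorem L85512 : sm gg N10001 = N6894 := ded_50_1 (flp_h L59157) L59150 L85506
theorem L85514 : sm gd N6894 = N10002 := rfl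
theorem L85516 : sm gb N10002 = N6901 := ded_20_1 (flp_d L59210) (flp_b L59159) L85514
theorem L85518 : sm gj N10002 = N10002 := ded_37_2 (flp_d L85514) L59163 L85514
theorem L85519 : sm ge N10002 = N10002 := ded_34_2 (flp_d L85514) L59161 L41044 (flp_e L59161) L85514
theorem L85520 : sm gh N10002 = N10002 := ded_38_2 (flp_d L85514) (flp_h L59157) L41030 L59157 L85514
theorem L85521 : sm gi N6894 = N10003 := rfl
theorem L85523 : sm gb N10003 = N6902 := ded_26_1 (flp_i L59216) (flp_b L59159) L85521
theorem L85525 : sm ge N10003 = N6897 := ded_44_1 (flp_i L59178) (flp_e L59161) L85521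
theorem L85527 : sm gj N10003 = N10003 := ded_53_1 (flp_i L85521) L59163 L85521
theorem L85528 : sm gh N6895 = N10004 := rfl
theorem L85530 : sm gb N10004 = N6903 := ded_25_1 (flp_h L59224) (flp_b L59166) L85528
theorem L85532 : sm gg N10004 = N10004 := ded_50_1 (flp_h L85528) L59170 L85528
theorem L85533 : sm gj N10004 = N6896 := ded_52_1 (flp_h L59171) L59164 L85528
theorem L85535 : sm gd N10004 = N10004 := ded_38_1 (flp_h L85528) L59168 L41058 (flp_d L59168) L85528
theorem L85536 : sm gi N6896 = N10005 := rfl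
theorem L85538 : sm gb N10005 = N6904 := ded_26_1 (flp_i L59233) (flp_b L59173) L85536
theorem L85540 : sm gd N10005 = N10005 := ded_39_1 (flp_i L85536) L59177 L85536
theorem L85541 : sm gg N10005 = N6897 := ded_51_1 (flp_i L59178) (flp_g L59175) L85536
theorem L85543 : sm gj N6898 = N10006 := rfl
theorem L85545 : sm ga N10006 = N10006 := ded_16_1 (flp_j L85543) L59188 L85543
theorem L85546 : sm gc N10006 = N7026 := ded_31_1 (flp_j L60233) (flp_c L59189) L85543
theorem L85548 : sm gd N10006 = N10006 := ded_37_1 (flp_j L85543) L59191 L85543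
theorem L85549 : sm gf N10006 = N6899 := ded_46_1 (flp_j L59192) L59186 L85543
theorem L85551 : sm gh N6898 = N10007 := rfl
theorem L85553 : sm ga N10007 = N10007 := ded_17_1 (flp_h L85551) L59188 L85551
theorem L85554 : sm gc N10007 = N7027 := ded_32_1 (flp_h L60240) (flp_c L59189) L85551
theorem L85556 : sm gf N10007 = N6900 := ded_47_1 (flp_h L59201) L59186 L85551
theorem L85558 : sm gh N6899 = N10008 := rfl
theorem L85560 : sm ga N10008 = N10008 := ded_17_1 (flp_h L85558) L59194 L85558
theorem L85561 : sm gc N10008 = N7028 := ded_32_1 (flp_h L60245) (flp_c L59195) L85558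
theorem L85563 : sm ge N10008 = N6903 := ded_43_1 (flp_h L59224) (flp_e L59198) L85558
theorem L85565 : sm gg N10008 = N10008 := ded_50_1 (flp_h L85558) L59200 L85558
theorem L85566 : sm gj N10008 = N6900 := ded_52_1 (flp_h L59201) L59192 L85558
theorem L85568 : sm gd N6900 = N10009 := rfl
theorem L85570 : sm ga N10009 = N10009 := ded_12_1 (flp_d L85568) L59203 L85568
theorem L85571 : sm gg N10009 = N6901 := ded_36_2 (flp_d L59210) (flp_g L59208) L85568
theorem L85573 : sm ge N10009 = N10009 := ded_34_2 (flp_d L85568) L59206 L41091 (flp_e L59206) L85568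
theorem L85574 : sm gh N10009 = N10009 := ded_38_2 (flp_d L85568) (flp_h L59201) L41065 L59201 L85568
theorem L85575 : sm gi N6900 = N10010 := rfl
theorem L85577 : sm ga N10010 = N10010 := ded_18_1 (flp_i L85575) L59203 L85575
theorem L85578 : sm gc N10010 = N7030 := ded_33_1 (flp_i L60262) (flp_c L59204) L85575
theorem L85580 : sm ge N10010 = N6904 := ded_44_1 (flp_i L59233) (flp_e L59206) L85575
theorem L85582 : sm gg N10010 = N6902 := ded_51_1 (flp_i L59216) (flp_g L59208) L85575
theorem L85584 : sm gc N6901 = N10011 := rfl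
theorem L85586 : sm ga N10011 = N10011 := ded_11_1 (flp_c L85584) L59212 L85584
theorem L85587 : sm ge N10011 = N10011 := ded_28_2 (flp_c L85584) L59214 L85584
theorem L85588 : sm gj N10011 = N10011 := ded_31_2 (flp_c L85584) L59213 L85584
theorem L85589 : sm gh N10011 = N10011 := ded_32_2 (flp_c L85584) L59215 L85584
theorem L85590 : sm gd N10011 = N7031 := ded_27_2 (flp_c L60269) (flp_d L41775) (flp_c L41071) L59210 L85584
theorem L85592 : sm gi N6901 = N10012 := rfl
theorem L85594 : sm ga N10012 = N10012 := ded_18_1 (flp_i L85592) L59212 L85592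
theorem L85595 : sm gd N10012 = N6902 := ded_39_1 (flp_i L59216) L59210 L85592
theorem L85597 : sm ge N10012 = N10012 := ded_44_1 (flp_i L85592) L59214 L85592
theorem L85598 : sm gj N10012 = N10012 := ded_53_1 (flp_i L85592) L59213 L85592
theorem L85599 : sm gi N6903 = N10013 := rfl
theorem L85601 : sm ga N10013 = N10013 := ded_18_1 (flp_i L85599) L59226 L85599
theorem L85602 : sm gc N10013 = N7033 := ded_33_1 (flp_i L60285) (flp_c L59227) L85599
theorem L85604 : sm gd N10013 = N10013 := ded_39_1 (flp_i L85599) L59232 L85599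
theorem L85605 : sm gg N10013 = N10013 := ded_51_1 (flp_i L85599) L59229 L85599
theorem L85606 : sm gj N10013 = N6904 := ded_53_1 (flp_i L59233) (flp_j L59230) L85599
theorem L85608 : sm gc N6905 = N10014 := rfl
theorem L85610 : sm ga N10014 = N6907 := ded_11_1 (flp_c L59264) (flp_a L59243) L85608
theorem L85612 : sm gg N10014 = N10014 := ded_30_2 (flp_c L85608) L59246 L85608
theorem L85613 : sm gj N10014 = N6932 := ded_31_2 (flp_c L59484) (flp_j L59247) L85608
theorem L85615 : sm gi N10014 = N6916 := ded_33_2 (flp_c L59347) (flp_i L59249) L85608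
theorem L85617 : sm gd N10014 = N7575 := ded_27_2 (flp_c L65039) (flp_d L45052) (flp_c L41106) L59241 L85608
theorem L85619 : sm gf N6905 = N10015 := rfl
theorem L85621 : sm ga N10015 = N6908 := ded_14_1 (flp_f L59273) (flp_a L59243) L85619
theorem L85623 : sm gb N10015 = N10015 := ded_22_1 (flp_f L85619) L59245 L85619
theorem L85624 : sm gd N10015 = N6906 := ded_35_1 (flp_f L59251) L59241 L85619
theorem L85626 : sm gj N10015 = N6933 := ded_46_2 (flp_f L59494) (flp_j L59247) L85619
theorem L85628 : sm gi N10015 = N6917 := ded_48_2 (flp_f L59356) (flp_i L59249) L85619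
theorem L85630 : sm gh N6905 = N10016 := rfl
theorem L85632 : sm ga N10016 = N6909 := ded_17_1 (flp_h L59283) (flp_a L59243) L85630
theorem L85634 : sm gb N10016 = N10016 := ded_25_1 (flp_h L85630) L59245 L85630
theorem L85635 : sm gg N10016 = N10016 := ded_50_1 (flp_h L85630) L59246 L85630
theorem L85636 : sm gj N10016 = N6934 := ded_52_1 (flp_h L59503) (flp_j L59247) L85630
theorem L85638 : sm gd N10016 = N10016 := ded_38_1 (flp_h L85630) (flp_d L59241) L41111 L59241 L85630
theorem L85639 : sm gg N6906 = N10017 := rfl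
theorem L85641 : sm ga N10017 = N6910 := ded_15_1 (flp_g L59291) (flp_a L59253) L85639
theorem L85643 : sm gb N10017 = N10017 := ded_23_1 (flp_g L85639) L59255 L85639
theorem L85644 : sm gc N10017 = N7578 := ded_30_1 (flp_g L65072) (flp_c L59256) L85639
theorem L85646 : sm ge N10017 = N10017 := ded_41_1 (flp_g L85639) L59263 L85639
theorem L85647 : sm gh N10017 = N10017 := ded_50_2 (flp_g L85639) L59260 L85639
theorem L85648 : sm gi N10017 = N6919 := ded_51_2 (flp_g L59375) (flp_i L59261) L85639
theorem L85650 : sm gf N10017 = N10017 := ded_45_1 (flp_g L85639) (flp_f L59251) L41108 L59251 L85639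
theorem L85651 : sm gf N6907 = N10018 := rfl
theorem L85653 : sm gc N10018 = N6908 := ded_29_1 (flp_f L59273) L59264 L85651
theorem L85655 : sm gd N10018 = N7579 := ded_35_1 (flp_f L65083) (flp_d L59271) L85651
theorem L85657 : sm gj N10018 = N6936 := ded_46_2 (flp_f L59524) (flp_j L59267) L85651
theorem L85659 : sm gi N10018 = N6920 := ded_48_2 (flp_f L59386) (flp_i L59269) L85651
theorem L85661 : sm gh N6907 = N10019 := rfl
theorem L85663 : sm gc N10019 = N6909 := ded_32_1 (flp_h L59283) L59264 L85661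
theorem L85665 : sm gg N10019 = N10019 := ded_50_1 (flp_h L85661) L59266 L85661
theorem L85666 : sm gj N10019 = N6937 := ded_52_1 (flp_h L59532) (flp_j L59267) L85661
theorem L85668 : sm ge N6908 = N10020 := rfl
theorem L85670 : sm gb N10020 = N6911 := ded_21_1 (flp_e L59302) (flp_b L59275) L85668
theorem L85672 : sm gj N10020 = N6938 := ded_42_2 (flp_e L59538) (flp_j L59279) L85668
theorem L85674 : sm gi N10020 = N6922 := ded_44_2 (flp_e L59401) (flp_i L59281) L85668
theorem L85676 : sm gd N10020 = N10020 := ded_34_1 (flp_e L85668) L59277 L41134 (flp_d L59277) L85668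
theorem L85677 : sm gg N6908 = N10021 := rfl
theorem L85679 : sm gb N10021 = N6912 := ded_23_1 (flp_g L59310) (flp_b L59275) L85677
theorem L85681 : sm gd N10021 = N6910 := ded_36_1 (flp_g L59291) (flp_d L59277) L85677
theorem L85683 : sm gi N10021 = N6923 := ded_51_2 (flp_g L59408) (flp_i L59281) L85677
theorem L85685 : sm gf N10021 = N10021 := ded_45_1 (flp_g L85677) (flp_f L59273) L41118 L59273 L85677
theorem L85686 : sm gh N6908 = N10022 := rfl
theorem L85688 : sm gb N10022 = N6913 := ded_25_1 (flp_h L59318) (flp_b L59275) L85686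
theorem L85690 : sm gf N10022 = N6909 := ded_47_1 (flp_h L59283) L59273 L85686
theorem L85692 : sm gj N10022 = N6940 := ded_52_1 (flp_h L59555) (flp_j L59279) L85686
theorem L85694 : sm gd N10022 = N10022 := ded_38_1 (flp_h L85686) L59277 L41131 (flp_d L59277) L85686
theorem L85695 : sm gi N6909 = N10023 := rfl
theorem L85697 : sm gb N10023 = N6914 := ded_26_1 (flp_i L59326) (flp_b L59285) L85695
theorem L85699 : sm gd N10023 = N10023 := ded_39_1 (flp_i L85695) L59290 L85695
theorem L85700 : sm gg N10023 = N10023 := ded_51_1 (flp_i L85695) L59287 L85695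
theorem L85701 : sm gj N10023 = N6941 := ded_53_1 (flp_i L59562) (flp_j L59288) L85695
theorem L85703 : sm gh N10023 = N6925 := ded_54_1 (flp_i L59425) (flp_h L41208) (flp_i L41121) L59283 L85695
theorem L85705 : sm gj N6910 = N10024 := rfl
theorem L85707 : sm gb N10024 = N6915 := ded_24_1 (flp_j L59335) (flp_b L59293) L85705
theorem L85709 : sm gc N10024 = N7585 := ded_31_1 (flp_j L65138) (flp_c L59295) L85705
theorem L85711 : sm ge N10024 = N10024 := ded_42_1 (flp_j L85705) L59297 L85705
theorem L85712 : sm gf N10024 = N10024 := ded_46_1 (flp_j L85705) L59301 L85705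
theorem L85713 : sm gh N10024 = N10024 := ded_52_2 (flp_j L85705) L59298 L85705
theorem L85714 : sm gi N10024 = N6926 := ded_53_2 (flp_j L59434) (flp_i L59299) L85705
theorem L85716 : sm gg N10024 = N6942 := ded_49_1 (flp_j L59571) (flp_g L41310) (flp_j L41129) L59291 L85705
theorem L85718 : sm gg N6911 = N10025 := rfl
theorem L85720 : sm ga N10025 = N10025 := ded_15_1 (flp_g L85718) L59304 L85718
theorem L85721 : sm gd N10025 = N10025 := ded_36_1 (flp_g L85718) L59309 L85718
theorem L85722 : sm ge N10025 = N6912 := ded_41_1 (flp_g L59310) L59302 L85718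
theorem L85724 : sm gi N10025 = N6927 := ded_51_2 (flp_g L59446) (flp_i L59307) L85718
theorem L85726 : sm gh N6911 = N10026 := rfl
theorem L85728 : sm ga N10026 = N10026 := ded_17_1 (flp_h L85726) L59304 L85726
theorem L85729 : sm ge N10026 = N6913 := ded_43_1 (flp_h L59318) L59302 L85726
theorem L85731 : sm gj N10026 = N6944 := ded_52_1 (flp_h L59591) (flp_j L59305) L85726
theorem L85733 : sm gj N6912 = N10027 := rfl
theorem L85735 : sm ga N10027 = N10027 := ded_16_1 (flp_j L85733) L59312 L85733
theorem L85736 : sm gd N10027 = N6915 := ded_37_1 (flp_j L59335) (flp_d L59313) L85733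
theorem L85738 : sm gf N10027 = N10027 := ded_46_1 (flp_j L85733) L59317 L85733
theorem L85739 : sm gi N10027 = N6929 := ded_53_2 (flp_j L59459) (flp_i L59315) L85733
theorem L85741 : sm gg N10027 = N6945 := ded_49_1 (flp_j L59596) (flp_g L41328) (flp_j L41140) L59310 L85733
theorem L85743 : sm gh N6912 = N10028 := rfl
theorem L85745 : sm ga N10028 = N10028 := ded_17_1 (flp_h L85743) L59312 L85743
theorem L85746 : sm gf N10028 = N10028 := ded_47_1 (flp_h L85743) L59317 L85743
theorem L85747 : sm gg N10028 = N6913 := ded_50_1 (flp_h L59318) L59310 L85743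
theorem L85749 : sm gd N10028 = N10028 := ded_38_1 (flp_h L85743) L59313 L41157 (flp_d L59313) L85743
theorem L85750 : sm gi N6913 = N10029 := rfl
theorem L85752 : sm ga N10029 = N10029 := ded_18_1 (flp_i L85750) L59320 L85750
theorem L85753 : sm gd N10029 = N10029 := ded_39_1 (flp_i L85750) L59325 L85750
theorem L85754 : sm gf N10029 = N6914 := ded_48_1 (flp_i L59326) (flp_f L59321) L85750
theorem L85756 : sm gj N10029 = N6947 := ded_53_1 (flp_i L59613) (flp_j L59323) L85750
theorem L85758 : sm gh N10029 = N6931 := ded_54_1 (flp_i L59475) (flp_h L41239) (flp_i L41142) L59318 L85750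
theorem L85760 : sm gb N6916 = N10030 := rfl
theorem L85762 : sm gd N10030 = N7591 := ded_20_2 (flp_b L65197) (flp_d L59354) L85760
theorem L85764 : sm gg N10030 = N10030 := ded_23_2 (flp_b L85760) L59351 L85760
theorem L85765 : sm gj N10030 = N6948 := ded_24_2 (flp_b L59621) (flp_j L59352) L85760
theorem L85767 : sm gc N10030 = N10030 := ded_19_2 (flp_b L85760) (flp_c L59347) L41177 L59347 L85760
theorem L85768 : sm gf N6916 = N10031 := rfl
theorem L85770 : sm ga N10031 = N6920 := ded_14_1 (flp_f L59386) (flp_a L59349) L85768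
theorem L85772 : sm gc N10031 = N6917 := ded_29_1 (flp_f L59356) L59347 L85768
theorem L85774 : sm gd N10031 = N7592 := ded_35_1 (flp_f L65205) (flp_d L59354) L85768
theorem L85776 : sm gj N10031 = N6949 := ded_46_2 (flp_f L59628) (flp_j L59352) L85768
theorem L85778 : sm gh N6916 = N10032 := rfl
theorem L85780 : sm ga N10032 = N6921 := ded_17_1 (flp_h L59394) (flp_a L59349) L85778
theorem L85782 : sm gc N10032 = N6918 := ded_32_1 (flp_h L59365) L59347 L85778
theorem L85784 : sm gg N10032 = N10032 := ded_50_1 (flp_h L85778) L59351 L85778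
theorem L85785 : sm gj N10032 = N6950 := ded_52_1 (flp_h L59636) (flp_j L59352) L85778
theorem L85787 : sm ge N6917 = N10033 := rfl
theorem L85789 : sm ga N10033 = N6922 := ded_13_1 (flp_e L59401) (flp_a L59358) L85787
theorem L85791 : sm gb N10033 = N10033 := ded_21_1 (flp_e L85787) L59360 L85787
theorem L85792 : sm gj N10033 = N6951 := ded_42_2 (flp_e L59644) (flp_j L59363) L85787
theorem L85794 : sm gd N10033 = N10033 := ded_34_1 (flp_e L85787) L59361 L41192 (flp_d L59361) L85787
theorem L85795 : sm gg N6917 = N10034 := rfl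
theorem L85797 : sm ga N10034 = N6923 := ded_15_1 (flp_g L59408) (flp_a L59358) L85795
theorem L85799 : sm gb N10034 = N10034 := ded_23_1 (flp_g L85795) L59360 L85795
theorem L85800 : sm gd N10034 = N6919 := ded_36_1 (flp_g L59375) (flp_d L59361) L85795
theorem L85802 : sm gf N10034 = N10034 := ded_45_1 (flp_g L85795) (flp_f L59356) L41178 L59356 L85795
theorem L85803 : sm gh N6917 = N10035 := rfl
theorem L85805 : sm ga N10035 = N6924 := ded_17_1 (flp_h L59415) (flp_a L59358) L85803
theorem L85807 : sm gb N10035 = N10035 := ded_25_1 (flp_h L85803) L59360 L85803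
theorem L85808 : sm gf N10035 = N6918 := ded_47_1 (flp_h L59365) L59356 L85803
theorem L85810 : sm gj N10035 = N6953 := ded_52_1 (flp_h L59659) (flp_j L59363) L85803
theorem L85812 : sm gd N10035 = N7120 := ded_38_1 (flp_h L61024) L42302 (flp_h L41190) (flp_d L59361) L85803
theorem L85814 : sm gi N6918 = N10036 := rfl
theorem L85816 : sm ga N10036 = N6925 := ded_18_1 (flp_i L59425) (flp_a L59367) L85814
theorem L85818 : sm gb N10036 = N10036 := ded_26_1 (flp_i L85814) L59369 L85814
theorem L85819 : sm gd N10036 = N7121 := ded_39_1 (flp_i L61033) (flp_d L59373) L85814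
theorem L85821 : sm gg N10036 = N10036 := ded_51_1 (flp_i L85814) L59370 L85814
theorem L85822 : sm gj N10036 = N6954 := ded_53_1 (flp_i L59668) (flp_j L59371) L85814
theorem L85824 : sm gj N6919 = N10037 := rfl
theorem L85826 : sm ga N10037 = N6926 := ded_16_1 (flp_j L59434) (flp_a L59377) L85824
theorem L85828 : sm gb N10037 = N10037 := ded_24_1 (flp_j L85824) L59379 L85824
theorem L85829 : sm gc N10037 = N7598 := ded_31_1 (flp_j L65266) (flp_c L59380) L85824
theorem L85831 : sm ge N10037 = N10037 := ded_42_1 (flp_j L85824) L59382 L85824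
theorem L85832 : sm gf N10037 = N10037 := ded_46_1 (flp_j L85824) L59385 L85824
theorem L85833 : sm gh N10037 = N7122 := ded_52_2 (flp_j L61043) (flp_h L59383) L85824
theorem L85835 : sm gg N10037 = N6955 := ded_49_1 (flp_j L59677) (flp_g L41386) (flp_j L41188) L59375 L85824
theorem L85837 : sm ge N6920 = N10038 := rfl
theorem L85839 : sm gc N10038 = N6922 := ded_28_1 (flp_e L59401) (flp_c L59388) L85837
theorem L85841 : sm gj N10038 = N6956 := ded_42_2 (flp_e L59689) (flp_j L59392) L85837
theorem L85843 : sm gg N6920 = N10039 := rfl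
theorem L85845 : sm gc N10039 = N6923 := ded_30_1 (flp_g L59408) (flp_c L59388) L85843
theorem L85847 : sm gd N10039 = N7600 := ded_36_1 (flp_g L65285) (flp_d L59390) L85843
theorem L85849 : sm gf N10039 = N10039 := ded_45_1 (flp_g L85843) (flp_f L59386) L41195 L59386 L85843
theorem L85850 : sm gh N6920 = N10040 := rfl
theorem L85852 : sm gc N10040 = N6924 := ded_32_1 (flp_h L59415) (flp_c L59388) L85850
theorem L85854 : sm gf N10040 = N6921 := ded_47_1 (flp_h L59394) L59386 L85850
theorem L85856 : sm gj N10040 = N6958 := ded_52_1 (flp_h L59701) (flp_j L59392) L85850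
theorem L85858 : sm gd N6921 = N10041 := rfl
theorem L85860 : sm gg N10041 = N10041 := ded_36_2 (flp_d L85858) L59398 L85858
theorem L85861 : sm gj N10041 = N6959 := ded_37_2 (flp_d L59707) (flp_j L59399) L85858
theorem L85863 : sm gc N10041 = N7126 := ded_27_1 (flp_d L61082) L42339 (flp_d L41215) (flp_c L59396) L85858
theorem L85865 : sm gh N10041 = N7602 := ded_38_2 (flp_d L65298) (flp_h L45210) (flp_d L41198) L59394 L85858
theorem L85867 : sm gi N6921 = N10042 := rfl
theorem L85869 : sm gc N10042 = N6925 := ded_33_1 (flp_i L59425) (flp_c L59396) L85867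
theorem L85871 : sm gg N10042 = N10042 := ded_51_1 (flp_i L85867) L59398 L85867
theorem L85872 : sm gj N10042 = N6960 := ded_53_1 (flp_i L59715) (flp_j L59399) L85867
theorem L85874 : sm gg N6922 = N10043 := rfl
theorem L85876 : sm gb N10043 = N6927 := ded_23_1 (flp_g L59446) (flp_b L59403) L85874
theorem L85878 : sm gd N10043 = N10043 := ded_36_1 (flp_g L85874) L59407 L85874
theorem L85879 : sm ge N10043 = N6923 := ded_41_1 (flp_g L59408) L59401 L85874
theorem L85881 : sm gh N6922 = N10044 := rfl
theorem L85883 : sm gb N10044 = N6928 := ded_25_1 (flp_h L59452) (flp_b L59403) L85881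
theorem L85885 : sm ge N10044 = N6924 := ded_43_1 (flp_h L59415) L59401 L85881
theorem L85887 : sm gj N10044 = N6962 := ded_52_1 (flp_h L59728) (flp_j L59405) L85881
theorem L85889 : sm gj N6923 = N10045 := rfl
theorem L85891 : sm gb N10045 = N6929 := ded_24_1 (flp_j L59459) (flp_b L59410) L85889
theorem L85893 : sm gd N10045 = N6926 := ded_37_1 (flp_j L59434) (flp_d L59412) L85889
theorem L85895 : sm gf N10045 = N10045 := ded_46_1 (flp_j L85889) L59414 L85889
theorem L85896 : sm gg N10045 = N6963 := ded_49_1 (flp_j L59734) (flp_g L41415) (flp_j L41206) L59408 L85889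
theorem L85898 : sm gh N6923 = N10046 := rfl
theorem L85900 : sm gb N10046 = N6930 := ded_25_1 (flp_h L59467) (flp_b L59410) L85898
theorem L85902 : sm gf N10046 = N10046 := ded_47_1 (flp_h L85898) L59414 L85898
theorem L85903 : sm gg N10046 = N6924 := ded_50_1 (flp_h L59415) L59408 L85898
theorem L85905 : sm gd N10046 = N7131 := ded_38_1 (flp_h L61127) L42358 (flp_h L41224) (flp_d L59412) L85898
theorem L85907 : sm gi N6924 = N10047 := rfl
theorem L85909 : sm gb N10047 = N6931 := ded_26_1 (flp_i L59475) (flp_b L59417) L85907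
theorem L85911 : sm gd N10047 = N7132 := ded_39_1 (flp_i L61134) (flp_d L59423) L85907
theorem L85913 : sm gf N10047 = N6925 := ded_48_1 (flp_i L59425) (flp_f L59419) L85907
theorem L85915 : sm gj N10047 = N6965 := ded_53_1 (flp_i L59752) (flp_j L59421) L85907
theorem L85917 : sm gf N6927 = N10048 := rfl
theorem L85919 : sm ga N10048 = N10048 := ded_14_1 (flp_f L85917) L59448 L85917
theorem L85920 : sm gd N10048 = N10048 := ded_35_1 (flp_f L85917) L59449 L85917
theorem L85921 : sm ge N10048 = N10048 := ded_40_1 (flp_f L85917) L59450 L41238 (flp_e L59450) L85917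
theorem L85922 : sm gj N6927 = N10049 := rfl
theorem L85924 : sm ga N10049 = N10049 := ded_16_1 (flp_j L85922) L59448 L85922
theorem L85925 : sm gd N10049 = N10049 := ded_37_1 (flp_j L85922) L59449 L85922
theorem L85926 : sm ge N10049 = N6929 := ded_42_1 (flp_j L59459) (flp_e L59450) L85922
theorem L85928 : sm gg N10049 = N6967 := ded_49_1 (flp_j L59766) (flp_g L41450) (flp_j L41230) L59446 L85922
theorem L85930 : sm gh N6927 = N10050 := rfl
theorem L85932 : sm ga N10050 = N10050 := ded_17_1 (flp_h L85930) L59448 L85930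
theorem L85933 : sm ge N10050 = N6930 := ded_43_1 (flp_h L59467) (flp_e L59450) L85930
theorem L85935 : sm gg N10050 = N6928 := ded_50_1 (flp_h L59452) L59446 L85930
theorem L85937 : sm gd N6928 = N10051 := rfl
theorem L85939 : sm ga N10051 = N10051 := ded_12_1 (flp_d L85937) L59454 L85937
theorem L85940 : sm gj N10051 = N6969 := ded_37_2 (flp_d L59779) (flp_j L59457) L85937
theorem L85942 : sm ge N10051 = N7136 := ded_34_2 (flp_d L61169) L42402 (flp_d L41246) (flp_e L59455) L85937
theorem L85944 : sm gh N10051 = N10051 := ded_38_2 (flp_d L85937) (flp_h L59452) L41232 L59452 L85937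
theorem L85945 : sm gi N6928 = N10052 := rfl
theorem L85947 : sm ga N10052 = N10052 := ded_18_1 (flp_i L85945) L59454 L85945
theorem L85948 : sm ge N10052 = N6931 := ded_44_1 (flp_i L59475) (flp_e L59455) L85945
theorem L85950 : sm gj N10052 = N6970 := ded_53_1 (flp_i L59785) (flp_j L59457) L85945
theorem L85952 : sm gh N6929 = N10053 := rfl
theorem L85954 : sm ga N10053 = N10053 := ded_17_1 (flp_h L85952) L59461 L85952
theorem L85955 : sm gf N10053 = N10053 := ded_47_1 (flp_h L85952) L59464 L85952
theorem L85956 : sm gg N10053 = N6971 := ded_50_1 (flp_h L59790) (flp_g L59465) L85952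
theorem L85958 : sm gj N10053 = N6930 := ded_52_1 (flp_h L59467) L59459 L85952
theorem L85960 : sm gd N10053 = N7138 := ded_38_1 (flp_h L61186) L42411 (flp_h L41263) (flp_d L59462) L85952
theorem L85962 : sm gi N6930 = N10054 := rfl
theorem L85964 : sm ga N10054 = N10054 := ded_18_1 (flp_i L85962) L59469 L85962
theorem L85965 : sm gd N10054 = N7139 := ded_39_1 (flp_i L61195) (flp_d L59473) L85962
theorem L85967 : sm gf N10054 = N10054 := ded_48_1 (flp_i L85962) L59470 L85962
theorem L85968 : sm gg N10054 = N6931 := ded_51_1 (flp_i L59475) (flp_g L59471) L85962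
theorem L85970 : sm gb N6932 = N10055 := rfl
theorem L85972 : sm gd N10055 = N7616 := ded_20_2 (flp_b L65420) (flp_d L59492) L85970
theorem L85974 : sm gg N10055 = N6973 := ded_23_2 (flp_b L59808) (flp_g L59488) L85970
theorem L85976 : sm gi N10055 = N6948 := ded_26_2 (flp_b L59621) (flp_i L59490) L85970
theorem L85978 : sm gc N10055 = N10055 := ded_19_2 (flp_b L85970) (flp_c L59484) L41271 L59484 L85970
theorem L85979 : sm gf N6932 = N10056 := rfl
theorem L85981 : sm ga N10056 = N6936 := ded_14_1 (flp_f L59524) (flp_a L59486) L85979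
theorem L85983 : sm gc N10056 = N6933 := ded_29_1 (flp_f L59494) L59484 L85979
theorem L85985 : sm gd N10056 = N7617 := ded_35_1 (flp_f L65429) (flp_d L59492) L85979
theorem L85987 : sm gi N10056 = N6949 := ded_48_2 (flp_f L59628) (flp_i L59490) L85979
theorem L85989 : sm gh N6932 = N10057 := rfl
theorem L85991 : sm ga N10057 = N6937 := ded_17_1 (flp_h L59532) (flp_a L59486) L85989
theorem L85993 : sm gc N10057 = N6934 := ded_32_1 (flp_h L59503) L59484 L85989
theorem L85995 : sm gg N10057 = N6975 := ded_50_1 (flp_h L59827) (flp_g L59488) L85989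
theorem L85997 : sm ge N6933 = N10058 := rfl
theorem L85999 : sm ga N10058 = N6938 := ded_13_1 (flp_e L59538) (flp_a L59496) L85997
theorem L86001 : sm gb N10058 = N10058 := ded_21_1 (flp_e L85997) L59498 L85997
theorem L86002 : sm gi N10058 = N6951 := ded_44_2 (flp_e L59644) (flp_i L59501) L85997
theorem L86004 : sm gd N10058 = N10058 := ded_34_1 (flp_e L85997) L59499 L41286 (flp_d L59499) L85997
theorem L86005 : sm gg N6933 = N10059 := rfl
theorem L86007 : sm ga N10059 = N6939 := ded_15_1 (flp_g L59545) (flp_a L59496) L86005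
theorem L86009 : sm gb N10059 = N10059 := ded_23_1 (flp_g L86005) L59498 L86005
theorem L86010 : sm gd N10059 = N6935 := ded_36_1 (flp_g L59511) (flp_d L59499) L86005
theorem L86012 : sm gi N10059 = N6952 := ded_51_2 (flp_g L59650) (flp_i L59501) L86005
theorem L86014 : sm gf N10059 = N6977 := ded_45_1 (flp_g L59844) (flp_f L41493) (flp_g L41272) L59494 L86005
theorem L86016 : sm gh N6933 = N10060 := rfl
theorem L86018 : sm ga N10060 = N6940 := ded_17_1 (flp_h L59555) (flp_a L59496) L86016
theorem L86020 : sm gb N10060 = N10060 := ded_25_1 (flp_h L86016) L59498 L86016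
theorem L86021 : sm gf N10060 = N6934 := ded_47_1 (flp_h L59503) L59494 L86016
theorem L86023 : sm gd N10060 = N10060 := ded_38_1 (flp_h L86016) L59499 L41283 (flp_d L59499) L86016
theorem L86024 : sm gi N6934 = N10061 := rfl
theorem L86026 : sm ga N10061 = N6941 := ded_18_1 (flp_i L59562) (flp_a L59505) L86024
theorem L86028 : sm gb N10061 = N10061 := ded_26_1 (flp_i L86024) L59507 L86024
theorem L86029 : sm gd N10061 = N10061 := ded_39_1 (flp_i L86024) L59510 L86024
theorem L86030 : sm gg N10061 = N6979 := ded_51_1 (flp_i L59862) (flp_g L59508) L86024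
theorem L86032 : sm gh N10061 = N6954 := ded_54_1 (flp_i L59668) (flp_h L41377) (flp_i L41274) L59503 L86024
theorem L86034 : sm gj N6935 = N10062 := rfl
theorem L86036 : sm ga N10062 = N6942 := ded_16_1 (flp_j L59571) (flp_a L59513) L86034
theorem L86038 : sm gb N10062 = N10062 := ded_24_1 (flp_j L86034) L59515 L86034
theorem L86039 : sm gc N10062 = N7623 := ded_31_1 (flp_j L65489) (flp_c L59516) L86034
theorem L86041 : sm ge N10062 = N10062 := ded_42_1 (flp_j L86034) L59518 L86034
theorem L86042 : sm gf N10062 = N6980 := ded_46_1 (flp_j L59871) (flp_f L59522) L86034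
theorem L86044 : sm gh N10062 = N10062 := ded_52_2 (flp_j L86034) L59519 L86034
theorem L86045 : sm gi N10062 = N6955 := ded_53_2 (flp_j L59677) (flp_i L59520) L86034
theorem L86047 : sm ge N6936 = N10063 := rfl
theorem L86049 : sm gc N10063 = N6938 := ded_28_1 (flp_e L59538) (flp_c L59526) L86047
theorem L86051 : sm gi N10063 = N6956 := ded_44_2 (flp_e L59689) (flp_i L59530) L86047
theorem L86053 : sm gg N6936 = N10064 := rfl
theorem L86055 : sm gc N10064 = N6939 := ded_30_1 (flp_g L59545) (flp_c L59526) L86053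
theorem L86057 : sm gd N10064 = N7625 := ded_36_1 (flp_g L65508) (flp_d L59528) L86053
theorem L86059 : sm gi N10064 = N6957 := ded_51_2 (flp_g L59693) (flp_i L59530) L86053
theorem L86061 : sm gf N10064 = N6982 := ded_45_1 (flp_g L59891) (flp_f L41522) (flp_g L41289) L59524 L86053
theorem L86063 : sm gh N6936 = N10065 := rfl
theorem L86065 : sm gc N10065 = N6940 := ded_32_1 (flp_h L59555) (flp_c L59526) L86063
theorem L86067 : sm gf N10065 = N6937 := ded_47_1 (flp_h L59532) L59524 L86063
theorem L86069 : sm gd N6937 = N10066 := rfl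
theorem L86071 : sm gg N10066 = N6984 := ded_36_2 (flp_d L59906) (flp_g L59536) L86069
theorem L86073 : sm gc N10066 = N10066 := ded_27_1 (flp_d L86069) L59534 L41309 (flp_c L59534) L86069
theorem L86074 : sm gh N10066 = N7627 := ded_38_2 (flp_d L65522) (flp_h L45354) (flp_d L41293) L59532 L86069
theorem L86076 : sm gi N6937 = N10067 := rfl
theorem L86078 : sm gc N10067 = N6941 := ded_33_1 (flp_i L59562) (flp_c L59534) L86076
theorem L86080 : sm gg N10067 = N6985 := ded_51_1 (flp_i L59912) (flp_g L59536) L86076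
theorem L86082 : sm gh N10067 = N6960 := ded_54_1 (flp_i L59715) (flp_h L41404) (flp_i L41291) L59532 L86076
theorem L86084 : sm gg N6938 = N10068 := rfl
theorem L86086 : sm gb N10068 = N6943 := ded_23_1 (flp_g L59583) (flp_b L59540) L86084
theorem L86088 : sm gd N10068 = N10068 := ded_36_1 (flp_g L86084) L59544 L86084
theorem L86089 : sm ge N10068 = N6939 := ded_41_1 (flp_g L59545) L59538 L86084
theorem L86091 : sm gi N10068 = N6961 := ded_51_2 (flp_g L59721) (flp_i L59542) L86084
theorem L86093 : sm gh N6938 = N10069 := rfl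
theorem L86095 : sm gb N10069 = N6944 := ded_25_1 (flp_h L59591) (flp_b L59540) L86093
theorem L86097 : sm ge N10069 = N6940 := ded_43_1 (flp_h L59555) L59538 L86093
theorem L86099 : sm gj N6939 = N10070 := rfl
theorem L86101 : sm gb N10070 = N6945 := ded_24_1 (flp_j L59596) (flp_b L59547) L86099
theorem L86103 : sm gd N10070 = N6942 := ded_37_1 (flp_j L59571) (flp_d L59549) L86099
theorem L86105 : sm gf N10070 = N6988 := ded_46_1 (flp_j L59936) (flp_f L59553) L86099
theorem L86107 : sm gi N10070 = N6963 := ded_53_2 (flp_j L59734) (flp_i L59551) L86099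
theorem L86109 : sm gh N6939 = N10071 := rfl
theorem L86111 : sm gb N10071 = N6946 := ded_25_1 (flp_h L59605) (flp_b L59547) L86109
theorem L86113 : sm gf N10071 = N6989 := ded_47_1 (flp_h L59945) (flp_f L59553) L86109
theorem L86115 : sm gg N10071 = N6940 := ded_50_1 (flp_h L59555) L59545 L86109
theorem L86117 : sm gd N10071 = N10071 := ded_38_1 (flp_h L86109) L59549 L41317 (flp_d L59549) L86109
theorem L86118 : sm gi N6940 = N10072 := rfl
theorem L86120 : sm gb N10072 = N6947 := ded_26_1 (flp_i L59613) (flp_b L59557) L86118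
theorem L86122 : sm gd N10072 = N10072 := ded_39_1 (flp_i L86118) L59561 L86118
theorem L86123 : sm gf N10072 = N6941 := ded_48_1 (flp_i L59562) (flp_f L59559) L86118
theorem L86125 : sm gh N10072 = N6965 := ded_54_1 (flp_i L59752) (flp_h L41423) (flp_i L41301) L59555 L86118
theorem L86127 : sm gf N6943 = N10073 := rfl
theorem L86129 : sm ga N10073 = N10073 := ded_14_1 (flp_f L86127) L59585 L86127
theorem L86130 : sm gd N10073 = N10073 := ded_35_1 (flp_f L86127) L59586 L86127
theorem L86131 : sm gi N10073 = N6966 := ded_48_2 (flp_f L59760) (flp_i L59589) L86127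
theorem L86133 : sm ge N10073 = N6991 := ded_40_1 (flp_f L59962) L41586 (flp_f L41335) (flp_e L59587) L86127
theorem L86135 : sm gj N6943 = N10074 := rfl
theorem L86137 : sm ga N10074 = N10074 := ded_16_1 (flp_j L86135) L59585 L86135
theorem L86138 : sm gd N10074 = N10074 := ded_37_1 (flp_j L86135) L59586 L86135
theorem L86139 : sm ge N10074 = N6945 := ded_42_1 (flp_j L59596) (flp_e L59587) L86135
theorem L86141 : sm gi N10074 = N6967 := ded_53_2 (flp_j L59766) (flp_i L59589) L86135
theorem L86143 : sm gh N6943 = N10075 := rfl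
theorem L86145 : sm ga N10075 = N10075 := ded_17_1 (flp_h L86143) L59585 L86143
theorem L86146 : sm ge N10075 = N6946 := ded_43_1 (flp_h L59605) (flp_e L59587) L86143
theorem L86148 : sm gg N10075 = N6944 := ded_50_1 (flp_h L59591) L59583 L86143
theorem L86150 : sm gd N6944 = N10076 := rfl
theorem L86152 : sm ga N10076 = N10076 := ded_12_1 (flp_d L86150) L59593 L86150
theorem L86153 : sm ge N10076 = N10076 := ded_34_2 (flp_d L86150) L59594 L41342 (flp_e L59594) L86150
theorem L86154 : sm gh N10076 = N10076 := ded_38_2 (flp_d L86150) (flp_h L59591) L41327 L59591 L86150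
theorem L86155 : sm gi N6944 = N10077 := rfl
theorem L86157 : sm ga N10077 = N10077 := ded_18_1 (flp_i L86155) L59593 L86155
theorem L86158 : sm ge N10077 = N6947 := ded_44_1 (flp_i L59613) (flp_e L59594) L86155
theorem L86160 : sm gh N10077 = N6970 := ded_54_1 (flp_i L59785) (flp_h L41456) (flp_i L41325) L59591 L86155
theorem L86162 : sm gh N6945 = N10078 := rfl
theorem L86164 : sm ga N10078 = N10078 := ded_17_1 (flp_h L86162) L59598 L86162
theorem L86165 : sm gf N10078 = N6996 := ded_47_1 (flp_h L60001) (flp_f L59601) L86162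
theorem L86167 : sm gj N10078 = N6946 := ded_52_1 (flp_h L59605) L59596 L86162
theorem L86169 : sm gd N10078 = N10078 := ded_38_1 (flp_h L86162) L59599 L41359 (flp_d L59599) L86162
theorem L86170 : sm gi N6946 = N10079 := rfl
theorem L86172 : sm ga N10079 = N10079 := ded_18_1 (flp_i L86170) L59607 L86170
theorem L86173 : sm gd N10079 = N10079 := ded_39_1 (flp_i L86170) L59612 L86170
theorem L86174 : sm gf N10079 = N6997 := ded_48_1 (flp_i L60008) (flp_f L59608) L86170
theorem L86176 : sm gg N10079 = N6947 := ded_51_1 (flp_i L59613) (flp_g L59610) L86170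
theorem L86178 : sm gh N10079 = N6972 := ded_54_1 (flp_i L59799) (flp_h L41468) (flp_i L41333) L59605 L86170
theorem L86180 : sm gf N6948 = N10080 := rfl
theorem L86182 : sm gb N10080 = N6949 := ded_22_1 (flp_f L59628) L59621 L86180
theorem L86184 : sm gc N10080 = N10080 := ded_29_1 (flp_f L86180) L59627 L86180
theorem L86185 : sm gd N10080 = N7641 := ded_35_1 (flp_f L65643) (flp_d L59623) L86180
theorem L86187 : sm gh N6948 = N10081 := rfl
theorem L86189 : sm gb N10081 = N6950 := ded_25_1 (flp_h L59636) L59621 L86187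
theorem L86194 : sm ge N6949 = N10082 := rfl
theorem L86196 : sm ga N10082 = N6956 := ded_13_1 (flp_e L59689) (flp_a L59630) L86194
theorem L86198 : sm gc N10082 = N6951 := ded_28_1 (flp_e L59644) (flp_c L59632) L86194
theorem L86200 : sm gg N6949 = N10083 := rfl
theorem L86202 : sm ga N10083 = N6957 := ded_15_1 (flp_g L59693) (flp_a L59630) L86200
theorem L86204 : sm gc N10083 = N6952 := ded_30_1 (flp_g L59650) (flp_c L59632) L86200
theorem L86206 : sm gd N10083 = N7644 := ded_36_1 (flp_g L65665) (flp_d L59634) L86200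
theorem L86208 : sm gf N10083 = N7001 := ded_45_1 (flp_g L60037) (flp_f L41625) (flp_g L41366) L59628 L86200
theorem L86210 : sm gh N6949 = N10084 := rfl
theorem L86212 : sm ga N10084 = N6958 := ded_17_1 (flp_h L59701) (flp_a L59630) L86210
theorem L86214 : sm gc N10084 = N6953 := ded_32_1 (flp_h L59659) (flp_c L59632) L86210
theorem L86216 : sm gf N10084 = N6950 := ded_47_1 (flp_h L59636) L59628 L86210
theorem L86218 : sm gd N6950 = N10085 := rfl
theorem L86220 : sm ga N10085 = N6959 := ded_12_1 (flp_d L59707) (flp_a L59638) L86218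
theorem L86222 : sm gg N10085 = N7003 := ded_36_2 (flp_d L60054) (flp_g L59642) L86218
theorem L86224 : sm gc N10085 = N7145 := ded_27_1 (flp_d L61248) L42456 (flp_d L41384) (flp_c L59640) L86218
theorem L86226 : sm gh N10085 = N7646 := ded_38_2 (flp_d L65681) (flp_h L45463) (flp_d L41368) L59636 L86218
theorem L86228 : sm gi N6950 = N10086 := rfl
theorem L86230 : sm ga N10086 = N6960 := ded_18_1 (flp_i L59715) (flp_a L59638) L86228
theorem L86232 : sm gc N10086 = N6954 := ded_33_1 (flp_i L59668) (flp_c L59640) L86228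
theorem L86234 : sm gg N10086 = N7004 := ded_51_1 (flp_i L60063) (flp_g L59642) L86228
theorem L86236 : sm gg N6951 = N10087 := rfl
theorem L86238 : sm ga N10087 = N6961 := ded_15_1 (flp_g L59721) (flp_a L59646) L86236
theorem L86240 : sm gb N10087 = N10087 := ded_23_1 (flp_g L86236) L59648 L86236
theorem L86241 : sm gd N10087 = N10087 := ded_36_1 (flp_g L86236) L59649 L86236
theorem L86242 : sm ge N10087 = N6952 := ded_41_1 (flp_g L59650) L59644 L86236
theorem L86244 : sm gh N6951 = N10088 := rfl
theorem L86246 : sm ga N10088 = N6962 := ded_17_1 (flp_h L59728) (flp_a L59646) L86244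
theorem L86248 : sm gb N10088 = N10088 := ded_25_1 (flp_h L86244) L59648 L86244
theorem L86249 : sm ge N10088 = N6953 := ded_43_1 (flp_h L59659) L59644 L86244
theorem L86251 : sm gj N6952 = N10089 := rfl
theorem L86253 : sm ga N10089 = N6963 := ded_16_1 (flp_j L59734) (flp_a L59652) L86251
theorem L86255 : sm gb N10089 = N10089 := ded_24_1 (flp_j L86251) L59654 L86251
theorem L86256 : sm gd N10089 = N6955 := ded_37_1 (flp_j L59677) (flp_d L59655) L86251
theorem L86258 : sm gf N10089 = N7007 := ded_46_1 (flp_j L60087) (flp_f L59657) L86251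
theorem L86260 : sm gh N6952 = N10090 := rfl
theorem L86262 : sm ga N10090 = N6964 := ded_17_1 (flp_h L59742) (flp_a L59652) L86260
theorem L86264 : sm gb N10090 = N10090 := ded_25_1 (flp_h L86260) L59654 L86260
theorem L86265 : sm gf N10090 = N7008 := ded_47_1 (flp_h L60095) (flp_f L59657) L86260
theorem L86267 : sm gg N10090 = N6953 := ded_50_1 (flp_h L59659) L59650 L86260
theorem L86269 : sm gd N10090 = N7150 := ded_38_1 (flp_h L61293) L42474 (flp_h L41394) (flp_d L59655) L86260
theorem L86271 : sm gi N6953 = N10091 := rfl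
theorem L86273 : sm ga N10091 = N6965 := ded_18_1 (flp_i L59752) (flp_a L59661) L86271
theorem L86275 : sm gb N10091 = N10091 := ded_26_1 (flp_i L86271) L59663 L86271
theorem L86276 : sm gd N10091 = N7151 := ded_39_1 (flp_i L61302) (flp_d L59666) L86271
theorem L86278 : sm gf N10091 = N6954 := ded_48_1 (flp_i L59668) (flp_f L59664) L86271
theorem L86280 : sm gd N6956 = N10092 := rfl
theorem L86282 : sm gc N10092 = N10092 := ded_27_1 (flp_d L86280) L59691 L41414 (flp_c L59691) L86280
theorem L86283 : sm ge N10092 = N7653 := ded_34_2 (flp_d L65748) (flp_e L45522) (flp_d L41402) L59689 L86280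
theorem L86285 : sm gg N6956 = N10093 := rfl
theorem L86287 : sm gc N10093 = N6961 := ded_30_1 (flp_g L59721) (flp_c L59691) L86285
theorem L86289 : sm ge N10093 = N6957 := ded_41_1 (flp_g L59693) L59689 L86285
theorem L86291 : sm gh N6956 = N10094 := rfl
theorem L86293 : sm gc N10094 = N6962 := ded_32_1 (flp_h L59728) (flp_c L59691) L86291
theorem L86295 : sm ge N10094 = N6958 := ded_43_1 (flp_h L59701) L59689 L86291
theorem L86297 : sm gj N6957 = N10095 := rfl
theorem L86299 : sm gc N10095 = N6963 := ded_31_1 (flp_j L59734) (flp_c L59695) L86297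
theorem L86301 : sm gd N10095 = N7656 := ded_37_1 (flp_j L65765) (flp_d L59697) L86297
theorem L86303 : sm gf N10095 = N7013 := ded_46_1 (flp_j L60134) (flp_f L59699) L86297
theorem L86305 : sm gh N6957 = N10096 := rfl
theorem L86307 : sm gc N10096 = N6964 := ded_32_1 (flp_h L59742) (flp_c L59695) L86305
theorem L86309 : sm gf N10096 = N7014 := ded_47_1 (flp_h L60141) (flp_f L59699) L86305
theorem L86311 : sm gg N10096 = N6958 := ded_50_1 (flp_h L59701) L59693 L86305
theorem L86313 : sm gd N6958 = N10097 := rfl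
theorem L86315 : sm gf N10097 = N6959 := ded_35_2 (flp_d L59707) (flp_f L59705) L86313
theorem L86317 : sm gc N10097 = N7157 := ded_27_1 (flp_d L61353) L42526 (flp_d L41429) (flp_c L59703) L86313
theorem L86319 : sm gh N10097 = N7658 := ded_38_2 (flp_d L65779) (flp_h L45533) (flp_d L41402) L59701 L86313
theorem L86321 : sm gi N6958 = N10098 := rfl
theorem L86323 : sm gc N10098 = N6965 := ded_33_1 (flp_i L59752) (flp_c L59703) L86321
theorem L86325 : sm gf N10098 = N6960 := ded_48_1 (flp_i L59715) (flp_f L59705) L86321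
theorem L86327 : sm ge N6959 = N10099 := rfl
theorem L86329 : sm gc N10099 = N7159 := ded_28_1 (flp_e L61368) (flp_c L59711) L86327
theorem L86331 : sm gg N10099 = N7017 := ded_41_2 (flp_e L60163) (flp_g L59709) L86327
theorem L86333 : sm gh N10099 = N7660 := ded_43_2 (flp_e L65791) (flp_h L59713) L86327
theorem L86335 : sm gi N6959 = N10100 := rfl
theorem L86337 : sm gc N10100 = N7160 := ded_33_1 (flp_i L61376) (flp_c L59711) L86335
theorem L86339 : sm gd N10100 = N6960 := ded_39_1 (flp_i L59715) L59707 L86335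
theorem L86341 : sm gg N10100 = N7018 := ded_51_1 (flp_i L60170) (flp_g L59709) L86335
theorem L86343 : sm gf N6961 = N10101 := rfl
theorem L86345 : sm gb N10101 = N6966 := ded_22_1 (flp_f L59760) (flp_b L59723) L86343
theorem L86347 : sm gd N10101 = N10101 := ded_35_1 (flp_f L86343) L59725 L86343
theorem L86348 : sm ge N10101 = N7019 := ded_40_1 (flp_f L60177) L41722 (flp_f L41421) (flp_e L59726) L86343
theorem L86350 : sm gj N6961 = N10102 := rfl
theorem L86352 : sm gb N10102 = N6967 := ded_24_1 (flp_j L59766) (flp_b L59723) L86350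
theorem L86354 : sm gd N10102 = N10102 := ded_37_1 (flp_j L86350) L59725 L86350
theorem L86355 : sm ge N10102 = N6963 := ded_42_1 (flp_j L59734) (flp_e L59726) L86350
theorem L86357 : sm gh N6961 = N10103 := rfl
theorem L86359 : sm gb N10103 = N6968 := ded_25_1 (flp_h L59772) (flp_b L59723) L86357
theorem L86361 : sm ge N10103 = N6964 := ded_43_1 (flp_h L59742) (flp_e L59726) L86357
theorem L86363 : sm gg N10103 = N6962 := ded_50_1 (flp_h L59728) L59721 L86357
theorem L86365 : sm gd N6962 = N10104 := rfl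
theorem L86367 : sm gb N10104 = N6969 := ded_20_1 (flp_d L59779) (flp_b L59730) L86365
theorem L86369 : sm ge N10104 = N7164 := ded_34_2 (flp_d L61408) L42558 (flp_d L41429) (flp_e L59732) L86365
theorem L86371 : sm gh N10104 = N10104 := ded_38_2 (flp_d L86365) (flp_h L59728) L41414 L59728 L86365
theorem L86372 : sm gi N6962 = N10105 := rfl
theorem L86374 : sm gb N10105 = N6970 := ded_26_1 (flp_i L59785) (flp_b L59730) L86372
theorem L86376 : sm ge N10105 = N6965 := ded_44_1 (flp_i L59752) (flp_e L59732) L86372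
theorem L86378 : sm gh N6963 = N10106 := rfl
theorem L86380 : sm gb N10106 = N6971 := ded_25_1 (flp_h L59790) (flp_b L59736) L86378
theorem L86382 : sm gf N10106 = N7024 := ded_47_1 (flp_h L60216) (flp_f L59740) L86378
theorem L86384 : sm gj N10106 = N6964 := ded_52_1 (flp_h L59742) L59734 L86378
theorem L86386 : sm gd N10106 = N7166 := ded_38_1 (flp_h L61422) L42565 (flp_h L41448) (flp_d L59738) L86378
theorem L86388 : sm gi N6964 = N10107 := rfl
theorem L86390 : sm gb N10107 = N6972 := ded_26_1 (flp_i L59799) (flp_b L59744) L86388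
theorem L86392 : sm gd N10107 = N7167 := ded_39_1 (flp_i L61430) (flp_d L59750) L86388
theorem L86394 : sm gf N10107 = N7025 := ded_48_1 (flp_i L60225) (flp_f L59746) L86388
theorem L86396 : sm gg N10107 = N6965 := ded_51_1 (flp_i L59752) (flp_g L59748) L86388
theorem L86398 : sm gj N6966 = N10108 := rfl
theorem L86400 : sm ga N10108 = N10108 := ded_16_1 (flp_j L86398) L59762 L86398
theorem L86401 : sm gd N10108 = N10108 := ded_37_1 (flp_j L86398) L59763 L86398
theorem L86402 : sm ge N10108 = N7026 := ded_42_1 (flp_j L60233) (flp_e L59764) L86398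
theorem L86404 : sm gf N10108 = N6967 := ded_46_1 (flp_j L59766) L59760 L86398
theorem L86406 : sm gh N6966 = N10109 := rfl
theorem L86408 : sm ga N10109 = N10109 := ded_17_1 (flp_h L86406) L59762 L86406
theorem L86409 : sm ge N10109 = N7027 := ded_43_1 (flp_h L60240) (flp_e L59764) L86406
theorem L86411 : sm gf N10109 = N6968 := ded_47_1 (flp_h L59772) L59760 L86406
theorem L86413 : sm gh N6967 = N10110 := rfl
theorem L86415 : sm ga N10110 = N10110 := ded_17_1 (flp_h L86413) L59768 L86413
theorem L86416 : sm ge N10110 = N6971 := ded_43_1 (flp_h L59790) (flp_e L59770) L86413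
theorem L86418 : sm gj N10110 = N6968 := ded_52_1 (flp_h L59772) L59766 L86413
theorem L86420 : sm gd N6968 = N10111 := rfl
theorem L86422 : sm ga N10111 = N10111 := ded_12_1 (flp_d L86420) L59774 L86420
theorem L86423 : sm gg N10111 = N6969 := ded_36_2 (flp_d L59779) (flp_g L59777) L86420
theorem L86425 : sm ge N10111 = N7171 := ded_34_2 (flp_d L61466) L42606 (flp_d L41475) (flp_e L59775) L86420
theorem L86427 : sm gh N10111 = N10111 := ded_38_2 (flp_d L86420) (flp_h L59772) L41453 L59772 L86420
theorem L86428 : sm gi N6968 = N10112 := rfl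
theorem L86430 : sm ga N10112 = N10112 := ded_18_1 (flp_i L86428) L59774 L86428
theorem L86431 : sm ge N10112 = N6972 := ded_44_1 (flp_i L59799) (flp_e L59775) L86428
theorem L86433 : sm gg N10112 = N6970 := ded_51_1 (flp_i L59785) (flp_g L59777) L86428
theorem L86435 : sm gc N6969 = N10113 := rfl
theorem L86437 : sm ga N10113 = N10113 := ded_11_1 (flp_c L86435) L59781 L86435
theorem L86438 : sm ge N10113 = N7173 := ded_28_2 (flp_c L61481) (flp_e L59782) L86435
theorem L86440 : sm gh N10113 = N10113 := ded_32_2 (flp_c L86435) L59784 L86435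
theorem L86441 : sm gi N6969 = N10114 := rfl
theorem L86443 : sm ga N10114 = N10114 := ded_18_1 (flp_i L86441) L59781 L86441
theorem L86444 : sm gd N10114 = N6970 := ded_39_1 (flp_i L59785) L59779 L86441
theorem L86446 : sm ge N10114 = N7174 := ded_44_1 (flp_i L61487) (flp_e L59782) L86441
theorem L86448 : sm gi N6971 = N10115 := rfl
theorem L86450 : sm ga N10115 = N10115 := ded_18_1 (flp_i L86448) L59792 L86448
theorem L86451 : sm gd N10115 = N7175 := ded_39_1 (flp_i L61493) (flp_d L59797) L86448
theorem L86453 : sm gf N10115 = N7033 := ded_48_1 (flp_i L60285) (flp_f L59793) L86448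
theorem L86455 : sm gj N10115 = N6972 := ded_53_1 (flp_i L59799) (flp_j L59795) L86448
theorem L86457 : sm gf N6973 = N10116 := rfl
theorem L86459 : sm gb N10116 = N6974 := ded_22_1 (flp_f L59816) L59808 L86457
theorem L86461 : sm gc N10116 = N10116 := ded_29_1 (flp_f L86457) L59815 L86457
theorem L86462 : sm gd N10116 = N7677 := ded_35_1 (flp_f L65934) (flp_d L59810) L86457
theorem L86464 : sm gj N10116 = N10116 := ded_46_2 (flp_f L86457) L59812 L86457
theorem L86465 : sm gi N10116 = N6998 := ded_48_2 (flp_f L60016) (flp_i L59813) L86457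
theorem L86467 : sm gh N6973 = N10117 := rfl
theorem L86469 : sm gb N10117 = N6975 := ded_25_1 (flp_h L59827) L59808 L86467
theorem L86473 : sm ge N6974 = N10118 := rfl
theorem L86475 : sm ga N10118 = N6981 := ded_13_1 (flp_e L59884) (flp_a L59818) L86473
theorem L86477 : sm gc N10118 = N6976 := ded_28_1 (flp_e L59834) (flp_c L59820) L86473
theorem L86479 : sm gj N10118 = N10118 := ded_42_2 (flp_e L86473) L59824 L86473
theorem L86480 : sm gi N10118 = N7000 := ded_44_2 (flp_e L60030) (flp_i L59825) L86473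
theorem L86482 : sm gg N6974 = N10119 := rfl
theorem L86484 : sm ga N10119 = N6982 := ded_15_1 (flp_g L59891) (flp_a L59818) L86482
theorem L86486 : sm gc N10119 = N6977 := ded_30_1 (flp_g L59844) (flp_c L59820) L86482
theorem L86488 : sm gd N10119 = N7680 := ded_36_1 (flp_g L65961) (flp_d L59822) L86482
theorem L86490 : sm gi N10119 = N7001 := ded_51_2 (flp_g L60037) (flp_i L59825) L86482
theorem L86492 : sm gh N6974 = N10120 := rfl
theorem L86494 : sm ga N10120 = N6983 := ded_17_1 (flp_h L59899) (flp_a L59818) L86492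
theorem L86496 : sm gc N10120 = N6978 := ded_32_1 (flp_h L59853) (flp_c L59820) L86492
theorem L86498 : sm gf N10120 = N6975 := ded_47_1 (flp_h L59827) L59816 L86492
theorem L86500 : sm gj N10120 = N10120 := ded_52_1 (flp_h L86492) L59824 L86492
theorem L86501 : sm gd N6975 = N10121 := rfl
theorem L86503 : sm ga N10121 = N6984 := ded_12_1 (flp_d L59906) (flp_a L59829) L86501
theorem L86507 : sm gh N10121 = N7682 := ded_38_2 (flp_d L65978) (flp_h L45667) (flp_d L41491) L59827 L86501
theorem L86509 : sm gi N6975 = N10122 := rfl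
theorem L86511 : sm ga N10122 = N6985 := ded_18_1 (flp_i L59912) (flp_a L59829) L86509
theorem L86513 : sm gc N10122 = N6979 := ded_33_1 (flp_i L59862) (flp_c L59831) L86509
theorem L86515 : sm gj N10122 = N10122 := ded_53_1 (flp_i L86509) L59833 L86509
theorem L86516 : sm gh N10122 = N7004 := ded_54_1 (flp_i L60063) (flp_h L41634) (flp_i L41489) L59827 L86509
theorem L86518 : sm gg N6976 = N10123 := rfl
theorem L86520 : sm ga N10123 = N6986 := ded_15_1 (flp_g L59919) (flp_a L59836) L86518
theorem L86522 : sm gb N10123 = N10123 := ded_23_1 (flp_g L86518) L59838 L86518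
theorem L86523 : sm gd N10123 = N7041 := ded_36_1 (flp_g L60360) (flp_d L59842) L86518
theorem L86525 : sm ge N10123 = N6977 := ded_41_1 (flp_g L59844) L59834 L86518
theorem L86527 : sm gi N10123 = N7005 := ded_51_2 (flp_g L60070) (flp_i L59840) L86518
theorem L86529 : sm gh N6976 = N10124 := rfl
theorem L86531 : sm ga N10124 = N6987 := ded_17_1 (flp_h L59929) (flp_a L59836) L86529
theorem L86533 : sm gb N10124 = N10124 := ded_25_1 (flp_h L86529) L59838 L86529
theorem L86534 : sm ge N10124 = N6978 := ded_43_1 (flp_h L59853) L59834 L86529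
theorem L86536 : sm gj N10124 = N10124 := ded_52_1 (flp_h L86529) L59839 L86529
theorem L86537 : sm gj N6977 = N10125 := rfl
theorem L86539 : sm ga N10125 = N6988 := ded_16_1 (flp_j L59936) (flp_a L59846) L86537
theorem L86541 : sm gb N10125 = N10125 := ded_24_1 (flp_j L86537) L59848 L86537
theorem L86542 : sm gd N10125 = N6980 := ded_37_1 (flp_j L59871) (flp_d L59849) L86537
theorem L86544 : sm gi N10125 = N7007 := ded_53_2 (flp_j L60087) (flp_i L59851) L86537
theorem L86546 : sm gg N10125 = N10125 := ded_49_1 (flp_j L86537) (flp_g L59844) L41500 L59844 L86537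
theorem L86547 : sm gh N6977 = N10126 := rfl
theorem L86549 : sm ga N10126 = N6989 := ded_17_1 (flp_h L59945) (flp_a L59846) L86547
theorem L86551 : sm gb N10126 = N10126 := ded_25_1 (flp_h L86547) L59848 L86547
theorem L86552 : sm gg N10126 = N6978 := ded_50_1 (flp_h L59853) L59844 L86547
theorem L86554 : sm gd N10126 = N10126 := ded_38_1 (flp_h L86547) L59849 L41519 (flp_d L59849) L86547
theorem L86555 : sm gi N6978 = N10127 := rfl
theorem L86557 : sm ga N10127 = N6990 := ded_18_1 (flp_i L59952) (flp_a L59855) L86555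
theorem L86559 : sm gb N10127 = N10127 := ded_26_1 (flp_i L86555) L59857 L86555
theorem L86560 : sm gd N10127 = N10127 := ded_39_1 (flp_i L86555) L59861 L86555
theorem L86561 : sm gf N10127 = N6979 := ded_48_1 (flp_i L59862) (flp_f L59858) L86555
theorem L86563 : sm gj N10127 = N10127 := ded_53_1 (flp_i L86555) L59860 L86555
theorem L86564 : sm gh N10127 = N7009 := ded_54_1 (flp_i L60104) (flp_h L41656) (flp_i L41501) L59853 L86555
theorem L86566 : sm gd N6981 = N10128 := rfl
theorem L86568 : sm gj N10128 = N10128 := ded_37_2 (flp_d L86566) L59888 L86566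
theorem L86569 : sm gi N10128 = N7010 := ded_39_2 (flp_d L60114) (flp_i L59889) L86566
theorem L86571 : sm gc N10128 = N7046 := ded_27_1 (flp_d L60408) L41885 (flp_d L41543) (flp_c L59886) L86566
theorem L86573 : sm ge N10128 = N7689 := ded_34_2 (flp_d L66048) (flp_e L45730) (flp_d L41526) L59884 L86566
theorem L86575 : sm gg N6981 = N10129 := rfl
theorem L86577 : sm gc N10129 = N6986 := ded_30_1 (flp_g L59919) (flp_c L59886) L86575
theorem L86579 : sm ge N10129 = N6982 := ded_41_1 (flp_g L59891) L59884 L86575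
theorem L86581 : sm gi N10129 = N7011 := ded_51_2 (flp_g L60121) (flp_i L59889) L86575
theorem L86583 : sm gh N6981 = N10130 := rfl
theorem L86585 : sm gc N10130 = N6987 := ded_32_1 (flp_h L59929) (flp_c L59886) L86583
theorem L86587 : sm ge N10130 = N6983 := ded_43_1 (flp_h L59899) L59884 L86583
theorem L86589 : sm gj N10130 = N10130 := ded_52_1 (flp_h L86583) L59888 L86583
theorem L86590 : sm gj N6982 = N10131 := rfl
theorem L86592 : sm gc N10131 = N6988 := ded_31_1 (flp_j L59936) (flp_c L59893) L86590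
theorem L86594 : sm gd N10131 = N7692 := ded_37_1 (flp_j L66072) (flp_d L59895) L86590
theorem L86596 : sm gi N10131 = N7013 := ded_53_2 (flp_j L60134) (flp_i L59897) L86590
theorem L86598 : sm gg N10131 = N10131 := ded_49_1 (flp_j L86590) (flp_g L59891) L41528 L59891 L86590
theorem L86599 : sm gh N6982 = N10132 := rfl
theorem L86601 : sm gc N10132 = N6989 := ded_32_1 (flp_h L59945) (flp_c L59893) L86599
theorem L86603 : sm gg N10132 = N6983 := ded_50_1 (flp_h L59899) L59891 L86599
theorem L86605 : sm gd N6983 = N10133 := rfl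
theorem L86607 : sm gf N10133 = N6984 := ded_35_2 (flp_d L59906) (flp_f L59903) L86605
theorem L86609 : sm gj N10133 = N10133 := ded_37_2 (flp_d L86605) L59905 L86605
theorem L86610 : sm gc N10133 = N10133 := ded_27_1 (flp_d L86605) L59901 L41560 (flp_c L59901) L86605
theorem L86611 : sm gh N10133 = N7694 := ded_38_2 (flp_d L66085) (flp_h L45744) (flp_d L41526) L59899 L86605
theorem L86613 : sm gi N6983 = N10134 := rfl
theorem L86615 : sm gc N10134 = N6990 := ded_33_1 (flp_i L59952) (flp_c L59901) L86613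
theorem L86617 : sm gf N10134 = N6985 := ded_48_1 (flp_i L59912) (flp_f L59903) L86613
theorem L86619 : sm gj N10134 = N10134 := ded_53_1 (flp_i L86613) L59905 L86613
theorem L86620 : sm gh N10134 = N7016 := ded_54_1 (flp_i L60156) (flp_h L41697) (flp_i L41529) L59899 L86613
theorem L86622 : sm ge N6984 = N10135 := rfl
theorem L86626 : sm gh N10135 = N7696 := ded_43_2 (flp_e L66100) (flp_h L59910) L86622
theorem L86628 : sm gi N6984 = N10136 := rfl
theorem L86630 : sm gc N10136 = N10136 := ded_33_1 (flp_i L86628) L59909 L86628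
theorem L86631 : sm gd N10136 = N6985 := ded_39_1 (flp_i L59912) L59906 L86628
theorem L86633 : sm gj N10136 = N10136 := ded_53_1 (flp_i L86628) L59908 L86628
theorem L86634 : sm gf N6986 = N10137 := rfl
theorem L86636 : sm gb N10137 = N6991 := ded_22_1 (flp_f L59962) (flp_b L59921) L86634
theorem L86638 : sm gd N10137 = N7055 := ded_35_1 (flp_f L60488) (flp_d L59923) L86634
theorem L86640 : sm gi N10137 = N7019 := ded_48_2 (flp_f L60177) (flp_i L59927) L86634
theorem L86642 : sm gj N6986 = N10138 := rfl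
theorem L86644 : sm gb N10138 = N6992 := ded_24_1 (flp_j L59969) (flp_b L59921) L86642
theorem L86646 : sm gd N10138 = N7056 := ded_37_1 (flp_j L60495) (flp_d L59923) L86642
theorem L86648 : sm ge N10138 = N6988 := ded_42_1 (flp_j L59936) (flp_e L59925) L86642
theorem L86650 : sm gi N10138 = N7020 := ded_53_2 (flp_j L60183) (flp_i L59927) L86642
theorem L86652 : sm gg N10138 = N10138 := ded_49_1 (flp_j L86642) (flp_g L59919) L41540 L59919 L86642
theorem L86653 : sm gh N6986 = N10139 := rfl
theorem L86655 : sm gb N10139 = N6993 := ded_25_1 (flp_h L59979) (flp_b L59921) L86653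
theorem L86657 : sm ge N10139 = N6989 := ded_43_1 (flp_h L59945) (flp_e L59925) L86653
theorem L86659 : sm gg N10139 = N6987 := ded_50_1 (flp_h L59929) L59919 L86653
theorem L86661 : sm gd N6987 = N10140 := rfl
theorem L86663 : sm gb N10140 = N6994 := ded_20_1 (flp_d L59986) (flp_b L59931) L86661
theorem L86665 : sm gj N10140 = N10140 := ded_37_2 (flp_d L86661) L59935 L86661
theorem L86666 : sm ge N10140 = N10140 := ded_34_2 (flp_d L86661) L59933 L41560 (flp_e L59933) L86661
theorem L86667 : sm gh N10140 = N7058 := ded_38_2 (flp_d L60512) (flp_h L41933) (flp_d L41543) L59929 L86661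
theorem L86669 : sm gi N6987 = N10141 := rfl
theorem L86671 : sm gb N10141 = N6995 := ded_26_1 (flp_i L59993) (flp_b L59931) L86669
theorem L86673 : sm ge N10141 = N6990 := ded_44_1 (flp_i L59952) (flp_e L59933) L86669
theorem L86675 : sm gj N10141 = N10141 := ded_53_1 (flp_i L86669) L59935 L86669
theorem L86676 : sm gh N10141 = N7023 := ded_54_1 (flp_i L60209) (flp_h L41724) (flp_i L41541) L59929 L86669
theorem L86678 : sm gh N6988 = N10142 := rfl
theorem L86680 : sm gb N10142 = N6996 := ded_25_1 (flp_h L60001) (flp_b L59938) L86678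
theorem L86682 : sm gg N10142 = N10142 := ded_50_1 (flp_h L86678) L59944 L86678
theorem L86683 : sm gj N10142 = N6989 := ded_52_1 (flp_h L59945) L59936 L86678
theorem L86685 : sm gd N10142 = N10142 := ded_38_1 (flp_h L86678) L59940 L41577 (flp_d L59940) L86678
theorem L86686 : sm gi N6989 = N10143 := rfl
theorem L86688 : sm gb N10143 = N6997 := ded_26_1 (flp_i L60008) (flp_b L59947) L86686
theorem L86690 : sm gd N10143 = N10143 := ded_39_1 (flp_i L86686) L59951 L86686
theorem L86691 : sm gg N10143 = N6990 := ded_51_1 (flp_i L59952) (flp_g L59949) L86686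
theorem L86693 : sm gh N10143 = N7025 := ded_54_1 (flp_i L60225) (flp_h L41738) (flp_i L41551) L59945 L86686
theorem L86695 : sm gj N6991 = N10144 := rfl
theorem L86697 : sm ga N10144 = N10144 := ded_16_1 (flp_j L86695) L59964 L86695
theorem L86698 : sm gd N10144 = N7062 := ded_37_1 (flp_j L60546) (flp_d L59965) L86695
theorem L86700 : sm gf N10144 = N6992 := ded_46_1 (flp_j L59969) L59962 L86695
theorem L86702 : sm gi N10144 = N7026 := ded_53_2 (flp_j L60233) (flp_i L59967) L86695
theorem L86704 : sm gh N6991 = N10145 := rfl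
theorem L86706 : sm ga N10145 = N10145 := ded_17_1 (flp_h L86704) L59964 L86704
theorem L86707 : sm gf N10145 = N6993 := ded_47_1 (flp_h L59979) L59962 L86704
theorem L86709 : sm gh N6992 = N10146 := rfl
theorem L86711 : sm ga N10146 = N10146 := ded_17_1 (flp_h L86709) L59971 L86709
theorem L86712 : sm ge N10146 = N6996 := ded_43_1 (flp_h L60001) (flp_e L59974) L86709
theorem L86714 : sm gg N10146 = N10146 := ded_50_1 (flp_h L86709) L59978 L86709
theorem L86715 : sm gj N10146 = N6993 := ded_52_1 (flp_h L59979) L59969 L86709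
theorem L86717 : sm gd N6993 = N10147 := rfl
theorem L86719 : sm ga N10147 = N10147 := ded_12_1 (flp_d L86717) L59981 L86717
theorem L86720 : sm gg N10147 = N6994 := ded_36_2 (flp_d L59986) (flp_g L59984) L86717
theorem L86722 : sm ge N10147 = N10147 := ded_34_2 (flp_d L86717) L59982 L41609 (flp_e L59982) L86717
theorem L86723 : sm gh N10147 = N7065 := ded_38_2 (flp_d L60571) (flp_h L41984) (flp_d L41584) L59979 L86717
theorem L86725 : sm gi N6993 = N10148 := rfl
theorem L86727 : sm ga N10148 = N10148 := ded_18_1 (flp_i L86725) L59981 L86725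
theorem L86728 : sm ge N10148 = N6997 := ded_44_1 (flp_i L60008) (flp_e L59982) L86725
theorem L86730 : sm gg N10148 = N6995 := ded_51_1 (flp_i L59993) (flp_g L59984) L86725
theorem L86732 : sm gh N10148 = N7030 := ded_54_1 (flp_i L60262) (flp_h L41768) (flp_i L41588) L59979 L86725
theorem L86734 : sm gc N6994 = N10149 := rfl
theorem L86736 : sm ga N10149 = N10149 := ded_11_1 (flp_c L86734) L59988 L86734
theorem L86737 : sm ge N10149 = N10149 := ded_28_2 (flp_c L86734) L59990 L86734
theorem L86738 : sm gj N10149 = N10149 := ded_31_2 (flp_c L86734) L59989 L86734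
theorem L86739 : sm gh N10149 = N7067 := ded_32_2 (flp_c L60587) (flp_h L59991) L86734
theorem L86741 : sm gi N6994 = N10150 := rfl
theorem L86743 : sm ga N10150 = N10150 := ded_18_1 (flp_i L86741) L59988 L86741
theorem L86744 : sm gd N10150 = N6995 := ded_39_1 (flp_i L59993) L59986 L86741
theorem L86746 : sm ge N10150 = N10150 := ded_44_1 (flp_i L86741) L59990 L86741
theorem L86747 : sm gj N10150 = N10150 := ded_53_1 (flp_i L86741) L59989 L86741
theorem L86748 : sm gi N6996 = N10151 := rfl
theorem L86750 : sm ga N10151 = N10151 := ded_18_1 (flp_i L86748) L60003 L86748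
theorem L86751 : sm gd N10151 = N10151 := ded_39_1 (flp_i L86748) L60007 L86748
theorem L86752 : sm gg N10151 = N10151 := ded_51_1 (flp_i L86748) L60004 L86748
theorem L86753 : sm gj N10151 = N6997 := ded_53_1 (flp_i L60008) (flp_j L60005) L86748
theorem L86755 : sm gh N10151 = N7033 := ded_54_1 (flp_i L60285) (flp_h L41789) (flp_i L41601) L60001 L86748
theorem L86757 : sm ge N6998 = N10152 := rfl
theorem L86759 : sm gb N10152 = N7000 := ded_21_1 (flp_e L60030) (flp_b L60018) L86757
theorem L86761 : sm gc N10152 = N10152 := ded_28_1 (flp_e L86757) L60020 L86757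
theorem L86762 : sm gj N10152 = N10152 := ded_42_2 (flp_e L86757) L60023 L86757
theorem L86763 : sm gg N6998 = N10153 := rfl
theorem L86765 : sm gb N10153 = N7001 := ded_23_1 (flp_g L60037) (flp_b L60018) L86763
theorem L86767 : sm gc N10153 = N10153 := ded_30_1 (flp_g L86763) L60020 L86763
theorem L86768 : sm gd N10153 = N7714 := ded_36_1 (flp_g L66257) (flp_d L60021) L86763
theorem L86770 : sm gh N6998 = N10154 := rfl
theorem L86775 : sm gf N10154 = N6999 := ded_47_1 (flp_h L60024) L60016 L86770
theorem L86778 : sm gd N6999 = N10155 := rfl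
theorem L86783 : sm gh N10155 = N7716 := ded_38_2 (flp_d L66272) (flp_h L45878) (flp_d L41621) L60024 L86778
theorem L86785 : sm gi N6999 = N10156 := rfl
theorem L86787 : sm gb N10156 = N7004 := ded_26_1 (flp_i L60063) (flp_b L60026) L86785
theorem L86791 : sm gd N7000 = N10157 := rfl
theorem L86793 : sm ga N10157 = N7010 := ded_12_1 (flp_d L60114) (flp_a L60032) L86791
theorem L86795 : sm gj N10157 = N10157 := ded_37_2 (flp_d L86791) L60036 L86791
theorem L86796 : sm gc N10157 = N7074 := ded_27_1 (flp_d L60646) L42047 (flp_d L41647) (flp_c L60034) L86791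
theorem L86798 : sm ge N10157 = N7718 := ded_34_2 (flp_d L66285) (flp_e L45886) (flp_d L41631) L60030 L86791
theorem L86800 : sm gg N7000 = N10158 := rfl
theorem L86802 : sm ga N10158 = N7011 := ded_15_1 (flp_g L60121) (flp_a L60032) L86800
theorem L86804 : sm gc N10158 = N7005 := ded_30_1 (flp_g L60070) (flp_c L60034) L86800
theorem L86806 : sm ge N10158 = N7001 := ded_41_1 (flp_g L60037) L60030 L86800
theorem L86808 : sm gh N7000 = N10159 := rfl
theorem L86810 : sm ga N10159 = N7012 := ded_17_1 (flp_h L60127) (flp_a L60032) L86808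
theorem L86812 : sm gc N10159 = N7006 := ded_32_1 (flp_h L60079) (flp_c L60034) L86808
theorem L86814 : sm ge N10159 = N7002 := ded_43_1 (flp_h L60045) L60030 L86808
theorem L86816 : sm gj N10159 = N10159 := ded_52_1 (flp_h L86808) L60036 L86808
theorem L86817 : sm gj N7001 = N10160 := rfl
theorem L86819 : sm ga N10160 = N7013 := ded_16_1 (flp_j L60134) (flp_a L60039) L86817
theorem L86821 : sm gc N10160 = N7007 := ded_31_1 (flp_j L60087) (flp_c L60041) L86817
theorem L86823 : sm gd N10160 = N7721 := ded_37_1 (flp_j L66311) (flp_d L60043) L86817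
theorem L86825 : sm gg N10160 = N10160 := ded_49_1 (flp_j L86817) (flp_g L60037) L41633 L60037 L86817
theorem L86826 : sm gh N7001 = N10161 := rfl
theorem L86828 : sm ga N10161 = N7014 := ded_17_1 (flp_h L60141) (flp_a L60039) L86826
theorem L86830 : sm gc N10161 = N7008 := ded_32_1 (flp_h L60095) (flp_c L60041) L86826
theorem L86832 : sm gg N10161 = N7002 := ded_50_1 (flp_h L60045) L60037 L86826
theorem L86834 : sm gd N7002 = N10162 := rfl
theorem L86836 : sm ga N10162 = N7015 := ded_12_1 (flp_d L60147) (flp_a L60047) L86834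
theorem L86838 : sm gf N10162 = N7003 := ded_35_2 (flp_d L60054) (flp_f L60051) L86834
theorem L86841 : sm gc N10162 = N7185 := ded_27_1 (flp_d L61585) L42681 (flp_d L41664) (flp_c L60049) L86834
theorem L86843 : sm gh N10162 = N7723 := ded_38_2 (flp_d L66326) (flp_h L45900) (flp_d L41631) L60045 L86834
theorem L86845 : sm gi N7002 = N10163 := rfl
theorem L86847 : sm ga N10163 = N7016 := ded_18_1 (flp_i L60156) (flp_a L60047) L86845
theorem L86849 : sm gc N10163 = N7009 := ded_33_1 (flp_i L60104) (flp_c L60049) L86845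
theorem L86851 : sm gf N10163 = N7004 := ded_48_1 (flp_i L60063) (flp_f L60051) L86845
theorem L86853 : sm gj N10163 = N10163 := ded_53_1 (flp_i L86845) L60053 L86845
theorem L86854 : sm ge N7003 = N10164 := rfl
theorem L86856 : sm ga N10164 = N7017 := ded_13_1 (flp_e L60163) (flp_a L60056) L86854
theorem L86858 : sm gc N10164 = N7187 := ded_28_1 (flp_e L61604) (flp_c L60059) L86854
theorem L86861 : sm gh N10164 = N7725 := ded_43_2 (flp_e L66344) (flp_h L60061) L86854
theorem L86863 : sm gi N7003 = N10165 := rfl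
theorem L86865 : sm ga N10165 = N7018 := ded_18_1 (flp_i L60170) (flp_a L60056) L86863
theorem L86869 : sm gd N10165 = N7004 := ded_39_1 (flp_i L60063) L60054 L86863
theorem L86872 : sm gf N7005 = N10166 := rfl
theorem L86874 : sm ga N10166 = N7019 := ded_14_1 (flp_f L60177) (flp_a L60072) L86872
theorem L86876 : sm gb N10166 = N10166 := ded_22_1 (flp_f L86872) L60074 L86872
theorem L86877 : sm gd N10166 = N7080 := ded_35_1 (flp_f L60700) (flp_d L60075) L86872
theorem L86879 : sm gj N7005 = N10167 := rfl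
theorem L86881 : sm ga N10167 = N7020 := ded_16_1 (flp_j L60183) (flp_a L60072) L86879
theorem L86883 : sm gb N10167 = N10167 := ded_24_1 (flp_j L86879) L60074 L86879
theorem L86884 : sm gd N10167 = N7081 := ded_37_1 (flp_j L60706) (flp_d L60075) L86879
theorem L86886 : sm ge N10167 = N7007 := ded_42_1 (flp_j L60087) (flp_e L60077) L86879
theorem L86888 : sm gg N10167 = N10167 := ded_49_1 (flp_j L86879) (flp_g L60070) L41646 L60070 L86879
theorem L86889 : sm gh N7005 = N10168 := rfl
theorem L86891 : sm ga N10168 = N7021 := ded_17_1 (flp_h L60192) (flp_a L60072) L86889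
theorem L86893 : sm gb N10168 = N10168 := ded_25_1 (flp_h L86889) L60074 L86889
theorem L86894 : sm ge N10168 = N7008 := ded_43_1 (flp_h L60095) (flp_e L60077) L86889
theorem L86896 : sm gg N10168 = N7006 := ded_50_1 (flp_h L60079) L60070 L86889
theorem L86898 : sm gd N7006 = N10169 := rfl
theorem L86900 : sm ga N10169 = N7022 := ded_12_1 (flp_d L60200) (flp_a L60081) L86898
theorem L86902 : sm gb N10169 = N10169 := ded_20_1 (flp_d L86898) L60083 L86898
theorem L86903 : sm gj N10169 = N10169 := ded_37_2 (flp_d L86898) L60086 L86898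
theorem L86904 : sm ge N10169 = N7192 := ded_34_2 (flp_d L61648) L42717 (flp_d L41664) (flp_e L60084) L86898
theorem L86906 : sm gh N10169 = N7083 := ded_38_2 (flp_d L60723) (flp_h L42085) (flp_d L41647) L60079 L86898
theorem L86908 : sm gi N7006 = N10170 := rfl
theorem L86910 : sm ga N10170 = N7023 := ded_18_1 (flp_i L60209) (flp_a L60081) L86908
theorem L86912 : sm gb N10170 = N10170 := ded_26_1 (flp_i L86908) L60083 L86908
theorem L86913 : sm ge N10170 = N7009 := ded_44_1 (flp_i L60104) (flp_e L60084) L86908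
theorem L86915 : sm gj N10170 = N10170 := ded_53_1 (flp_i L86908) L60086 L86908
theorem L86916 : sm gh N7007 = N10171 := rfl
theorem L86918 : sm ga N10171 = N7024 := ded_17_1 (flp_h L60216) (flp_a L60089) L86916
theorem L86920 : sm gb N10171 = N10171 := ded_25_1 (flp_h L86916) L60091 L86916
theorem L86921 : sm gg N10171 = N10171 := ded_50_1 (flp_h L86916) L60094 L86916
theorem L86922 : sm gj N10171 = N7008 := ded_52_1 (flp_h L60095) L60087 L86916
theorem L86924 : sm gd N10171 = N7194 := ded_38_1 (flp_h L61667) L42726 (flp_h L41683) (flp_d L60092) L86916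
theorem L86926 : sm gi N7008 = N10172 := rfl
theorem L86928 : sm ga N10172 = N7025 := ded_18_1 (flp_i L60225) (flp_a L60097) L86926
theorem L86930 : sm gb N10172 = N10172 := ded_26_1 (flp_i L86926) L60099 L86926
theorem L86931 : sm gd N10172 = N7195 := ded_39_1 (flp_i L61675) (flp_d L60102) L86926
theorem L86933 : sm gg N10172 = N7009 := ded_51_1 (flp_i L60104) (flp_g L60100) L86926
theorem L86935 : sm gg N7010 = N10173 := rfl
theorem L86937 : sm gc N10173 = N7087 := ded_30_1 (flp_g L60760) (flp_c L60117) L86935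
theorem L86939 : sm gd N10173 = N7011 := ded_36_1 (flp_g L60121) L60114 L86935
theorem L86941 : sm ge N10173 = N7733 := ded_41_1 (flp_g L66424) (flp_e L60119) L86935
theorem L86943 : sm gh N7010 = N10174 := rfl
theorem L86945 : sm gc N10174 = N7088 := ded_32_1 (flp_h L60767) (flp_c L60117) L86943
theorem L86947 : sm ge N10174 = N7734 := ded_43_1 (flp_h L66430) (flp_e L60119) L86943
theorem L86949 : sm gj N10174 = N10174 := ded_52_1 (flp_h L86943) L60116 L86943
theorem L86950 : sm gf N7011 = N10175 := rfl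
theorem L86952 : sm gc N10175 = N7019 := ded_29_1 (flp_f L60177) (flp_c L60123) L86950
theorem L86954 : sm gj N7011 = N10176 := rfl
theorem L86956 : sm gc N10176 = N7020 := ded_31_1 (flp_j L60183) (flp_c L60123) L86954
theorem L86958 : sm ge N10176 = N7013 := ded_42_1 (flp_j L60134) (flp_e L60125) L86954
theorem L86960 : sm gg N10176 = N10176 := ded_49_1 (flp_j L86954) (flp_g L60121) L41690 L60121 L86954
theorem L86961 : sm gh N7011 = N10177 := rfl
theorem L86963 : sm gc N10177 = N7021 := ded_32_1 (flp_h L60192) (flp_c L60123) L86961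
theorem L86965 : sm ge N10177 = N7014 := ded_43_1 (flp_h L60141) (flp_e L60125) L86961
theorem L86967 : sm gg N10177 = N7012 := ded_50_1 (flp_h L60127) L60121 L86961
theorem L86969 : sm gd N7012 = N10178 := rfl
theorem L86971 : sm gj N10178 = N10178 := ded_37_2 (flp_d L86969) L60133 L86969
theorem L86972 : sm gi N7012 = N10179 := rfl
theorem L86974 : sm gc N10179 = N7023 := ded_33_1 (flp_i L60209) (flp_c L60129) L86972
theorem L86976 : sm ge N10179 = N7016 := ded_44_1 (flp_i L60156) (flp_e L60131) L86972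
theorem L86978 : sm gj N10179 = N10179 := ded_53_1 (flp_i L86972) L60133 L86972
theorem L86979 : sm gh N7013 = N10180 := rfl
theorem L86981 : sm gc N10180 = N7024 := ded_32_1 (flp_h L60216) (flp_c L60136) L86979
theorem L86983 : sm gg N10180 = N10180 := ded_50_1 (flp_h L86979) L60140 L86979
theorem L86984 : sm gj N10180 = N7014 := ded_52_1 (flp_h L60141) L60134 L86979
theorem L86986 : sm gd N7014 = N10181 := rfl
theorem L86988 : sm gg N10181 = N7015 := ded_36_2 (flp_d L60147) (flp_g L60145) L86986
theorem L86990 : sm gc N10181 = N7202 := ded_27_1 (flp_d L61734) L42776 (flp_d L41744) (flp_c L60143) L86986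
theorem L86992 : sm gh N10181 = N7741 := ded_38_2 (flp_d L66476) (flp_h L46000) (flp_d L41695) L60141 L86986
theorem L86994 : sm gi N7014 = N10182 := rfl
theorem L86996 : sm gc N10182 = N7025 := ded_33_1 (flp_i L60225) (flp_c L60143) L86994
theorem L86998 : sm gg N10182 = N7016 := ded_51_1 (flp_i L60156) (flp_g L60145) L86994
theorem L87000 : sm ge N7015 = N10183 := rfl
theorem L87002 : sm gc N10183 = N7204 := ded_28_1 (flp_e L61749) (flp_c L60152) L87000
theorem L87004 : sm gj N10183 = N10183 := ded_42_2 (flp_e L87000) L60151 L87000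
theorem L87005 : sm gh N10183 = N7743 := ded_43_2 (flp_e L66488) (flp_h L60154) L87000
theorem L87007 : sm gi N7015 = N10184 := rfl
theorem L87009 : sm gc N10184 = N7205 := ded_33_1 (flp_i L61755) (flp_c L60152) L87007
theorem L87011 : sm gd N10184 = N7016 := ded_39_1 (flp_i L60156) L60147 L87007
theorem L87013 : sm gf N10184 = N7018 := ded_48_1 (flp_i L60170) (flp_f L60149) L87007
theorem L87015 : sm gj N10184 = N10184 := ded_53_1 (flp_i L87007) L60151 L87007
theorem L87016 : sm gf N7017 = N10185 := rfl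
theorem L87018 : sm gc N10185 = N7206 := ded_29_1 (flp_f L61763) (flp_c L60165) L87016
theorem L87020 : sm gj N10185 = N10185 := ded_46_2 (flp_f L87016) L60167 L87016
theorem L87021 : sm gh N10185 = N7745 := ded_47_2 (flp_f L66502) (flp_h L60168) L87016
theorem L87023 : sm gi N7017 = N10186 := rfl
theorem L87025 : sm gc N10186 = N7207 := ded_33_1 (flp_i L61770) (flp_c L60165) L87023
theorem L87027 : sm ge N10186 = N7018 := ded_44_1 (flp_i L60170) L60163 L87023
theorem L87029 : sm gj N10186 = N10186 := ded_53_1 (flp_i L87023) L60167 L87023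
theorem L87030 : sm gh N7018 = N10187 := rfl
theorem L87037 : sm gj N7019 = N10188 := rfl
theorem L87039 : sm gb N10188 = N7026 := ded_24_1 (flp_j L60233) (flp_b L60179) L87037
theorem L87041 : sm gd N10188 = N7096 := ded_37_1 (flp_j L60828) (flp_d L60181) L87037
theorem L87043 : sm gf N10188 = N7020 := ded_46_1 (flp_j L60183) L60177 L87037
theorem L87045 : sm gh N7019 = N10189 := rfl
theorem L87047 : sm gb N10189 = N7027 := ded_25_1 (flp_h L60240) (flp_b L60179) L87045
theorem L87049 : sm gf N10189 = N7021 := ded_47_1 (flp_h L60192) L60177 L87045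
theorem L87051 : sm gh N7020 = N10190 := rfl
theorem L87053 : sm gb N10190 = N7028 := ded_25_1 (flp_h L60245) (flp_b L60185) L87051
theorem L87055 : sm ge N10190 = N7024 := ded_43_1 (flp_h L60216) (flp_e L60189) L87051
theorem L87057 : sm gg N10190 = N10190 := ded_50_1 (flp_h L87051) L60191 L87051
theorem L87058 : sm gj N10190 = N7021 := ded_52_1 (flp_h L60192) L60183 L87051
theorem L87060 : sm gd N7021 = N10191 := rfl
theorem L87062 : sm gb N10191 = N7029 := ded_20_1 (flp_d L60253) (flp_b L60194) L87060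
theorem L87064 : sm gg N10191 = N7022 := ded_36_2 (flp_d L60200) (flp_g L60198) L87060
theorem L87066 : sm ge N10191 = N7212 := ded_34_2 (flp_d L61809) L42832 (flp_d L41744) (flp_e L60196) L87060
theorem L87068 : sm gh N10191 = N7099 := ded_38_2 (flp_d L60851) (flp_h L42182) (flp_d L41720) L60192 L87060
theorem L87070 : sm gi N7021 = N10192 := rfl
theorem L87072 : sm gb N10192 = N7030 := ded_26_1 (flp_i L60262) (flp_b L60194) L87070
theorem L87074 : sm ge N10192 = N7025 := ded_44_1 (flp_i L60225) (flp_e L60196) L87070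
theorem L87076 : sm gg N10192 = N7023 := ded_51_1 (flp_i L60209) (flp_g L60198) L87070
theorem L87078 : sm gc N7022 = N10193 := rfl
theorem L87080 : sm ge N10193 = N7214 := ded_28_2 (flp_c L61826) (flp_e L60205) L87078
theorem L87082 : sm gj N10193 = N10193 := ded_31_2 (flp_c L87078) L60204 L87078
theorem L87083 : sm gh N10193 = N7101 := ded_32_2 (flp_c L60867) (flp_h L60207) L87078
theorem L87085 : sm gi N7022 = N10194 := rfl
theorem L87087 : sm gb N10194 = N7032 := ded_26_1 (flp_i L60277) (flp_b L60202) L87085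
theorem L87089 : sm gd N10194 = N7023 := ded_39_1 (flp_i L60209) L60200 L87085
theorem L87091 : sm ge N10194 = N7215 := ded_44_1 (flp_i L61832) (flp_e L60205) L87085
theorem L87093 : sm gj N10194 = N10194 := ded_53_1 (flp_i L87085) L60204 L87085
theorem L87094 : sm gi N7024 = N10195 := rfl
theorem L87096 : sm gb N10195 = N7033 := ded_26_1 (flp_i L60285) (flp_b L60218) L87094
theorem L87098 : sm gd N10195 = N7216 := ded_39_1 (flp_i L61840) (flp_d L60223) L87094
theorem L87100 : sm gg N10195 = N10195 := ded_51_1 (flp_i L87094) L60220 L87094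
theorem L87101 : sm gj N10195 = N7025 := ded_53_1 (flp_i L60225) (flp_j L60221) L87094
theorem L87103 : sm gg N7026 = N10196 := rfl
theorem L87105 : sm ga N10196 = N10196 := ded_15_1 (flp_g L87103) L60235 L87103
theorem L87106 : sm gd N10196 = N7104 := ded_36_1 (flp_g L60891) (flp_d L60236) L87103
theorem L87108 : sm gf N10196 = N10196 := ded_45_1 (flp_g L87103) L60238 L41767 (flp_f L60238) L87103
theorem L87109 : sm gh N7026 = N10197 := rfl
theorem L87111 : sm ga N10197 = N10197 := ded_17_1 (flp_h L87109) L60235 L87109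
theorem L87112 : sm gf N10197 = N7028 := ded_47_1 (flp_h L60245) (flp_f L60238) L87109
theorem L87114 : sm gj N10197 = N7027 := ded_52_1 (flp_h L60240) L60233 L87109
theorem L87116 : sm gd N7027 = N10198 := rfl
theorem L87118 : sm ga N10198 = N10198 := ded_12_1 (flp_d L87116) L60242 L87116
theorem L87119 : sm gf N10198 = N7029 := ded_35_2 (flp_d L60253) (flp_f L60243) L87116
theorem L87121 : sm gh N10198 = N7106 := ded_38_2 (flp_d L60906) (flp_h L42230) (flp_d L41758) L60240 L87116
theorem L87123 : sm gi N7027 = N10199 := rfl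
theorem L87125 : sm ga N10199 = N10199 := ded_18_1 (flp_i L87123) L60242 L87123
theorem L87126 : sm gf N10199 = N7030 := ded_48_1 (flp_i L60262) (flp_f L60243) L87123
theorem L87128 : sm gd N7028 = N10200 := rfl
theorem L87130 : sm ga N10200 = N10200 := ded_12_1 (flp_d L87128) L60247 L87128
theorem L87131 : sm gg N10200 = N10200 := ded_36_2 (flp_d L87128) L60250 L87128
theorem L87132 : sm gj N10200 = N7029 := ded_37_2 (flp_d L60253) (flp_j L60251) L87128
theorem L87134 : sm ge N10200 = N7221 := ded_34_2 (flp_d L61881) L42887 (flp_d L41795) (flp_e L60248) L87128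
theorem L87136 : sm gh N10200 = N7108 := ded_38_2 (flp_d L60918) (flp_h L42237) (flp_d L41763) L60245 L87128
theorem L87138 : sm gi N7028 = N10201 := rfl
theorem L87140 : sm ga N10201 = N10201 := ded_18_1 (flp_i L87138) L60247 L87138
theorem L87141 : sm ge N10201 = N7033 := ded_44_1 (flp_i L60285) (flp_e L60248) L87138
theorem L87143 : sm gg N10201 = N10201 := ded_51_1 (flp_i L87138) L60250 L87138
theorem L87144 : sm gj N10201 = N7030 := ded_53_1 (flp_i L60262) (flp_j L60251) L87138
theorem L87146 : sm gc N7029 = N10202 := rfl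
theorem L87148 : sm ga N10202 = N10202 := ded_11_1 (flp_c L87146) L60255 L87146
theorem L87149 : sm ge N10202 = N7223 := ded_28_2 (flp_c L61899) (flp_e L60258) L87146
theorem L87151 : sm gg N10202 = N7031 := ded_30_2 (flp_c L60269) (flp_g L60256) L87146
theorem L87153 : sm gh N10202 = N7110 := ded_32_2 (flp_c L60935) (flp_h L60260) L87146
theorem L87155 : sm gi N7029 = N10203 := rfl
theorem L87157 : sm ga N10203 = N10203 := ded_18_1 (flp_i L87155) L60255 L87155
theorem L87158 : sm gd N10203 = N7030 := ded_39_1 (flp_i L60262) L60253 L87155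
theorem L87160 : sm ge N10203 = N7224 := ded_44_1 (flp_i L61907) (flp_e L60258) L87155
theorem L87162 : sm gg N10203 = N7032 := ded_51_1 (flp_i L60277) (flp_g L60256) L87155
theorem L87164 : sm gb N7031 = N10204 := rfl
theorem L87166 : sm ge N10204 = N7225 := ded_21_2 (flp_b L61914) (flp_e L60272) L87164
theorem L87168 : sm gj N10204 = N10204 := ded_24_2 (flp_b L87164) L60274 L87164
theorem L87169 : sm gh N10204 = N7112 := ded_25_2 (flp_b L60952) (flp_h L60275) L87164
theorem L87171 : sm gi N7031 = N10205 := rfl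
theorem L87173 : sm ga N10205 = N10205 := ded_18_1 (flp_i L87171) L60271 L87171
theorem L87174 : sm gc N10205 = N7032 := ded_33_1 (flp_i L60277) L60269 L87171
theorem L87176 : sm ge N10205 = N7226 := ded_44_1 (flp_i L61921) (flp_e L60272) L87171
theorem L87178 : sm gj N10205 = N10205 := ded_53_1 (flp_i L87171) L60274 L87171
theorem L87179 : sm gh N7032 = N10206 := rfl
theorem L87181 : sm ga N10206 = N10206 := ded_17_1 (flp_h L87179) L60279 L87179
theorem L87182 : sm ge N10206 = N7227 := ded_43_1 (flp_h L61929) (flp_e L60282) L87179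
theorem L87184 : sm gj N10206 = N10206 := ded_52_1 (flp_h L87179) L60284 L87179
theorem L87185 : sm gi N10206 = N7114 := ded_54_2 (flp_h L60967) (flp_i L42268) (flp_h L41781) L60277 L87179
theorem L87187 : sm ge N7034 = N10207 := rfl
theorem L87190 : sm gb N10207 = N7036 := ded_21_1 (flp_e L60312) (flp_b L60296) L87187
theorem L87194 : sm gi N10207 = N7070 := ded_44_2 (flp_e L60611) (flp_i L60302) L87187
theorem L87196 : sm gg N7034 = N10208 := rfl
theorem L87199 : sm gb N10208 = N7037 := ded_23_1 (flp_g L60321) (flp_b L60296) L87196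
theorem L87202 : sm gd N10208 = N7758 := ded_36_1 (flp_g L66611) (flp_d L60299) L87196
theorem L87204 : sm gi N10208 = N7071 := ded_51_2 (flp_g L60618) (flp_i L60302) L87196
theorem L87207 : sm gh N7034 = N10209 := rfl
theorem L87235 : sm gd N7036 = N10212 := rfl
theorem L87237 : sm ga N10212 = N7046 := ded_12_1 (flp_d L60408) (flp_a L60314) L87235
theorem L87240 : sm gi N10212 = N7074 := ded_39_2 (flp_d L60646) (flp_i L60319) L87235
theorem L87242 : sm ge N10212 = N7761 := ded_34_2 (flp_d L66640) (flp_e L46149) (flp_d L41820) L60312 L87235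
theorem L87244 : sm gg N7036 = N10213 := rfl
theorem L87246 : sm ga N10213 = N7047 := ded_15_1 (flp_g L60416) (flp_a L60314) L87244
theorem L87248 : sm gc N10213 = N7041 := ded_30_1 (flp_g L60360) (flp_c L60316) L87244
theorem L87252 : sm gi N10213 = N7075 := ded_51_2 (flp_g L60653) (flp_i L60319) L87244
theorem L87254 : sm gh N7036 = N10214 := rfl
theorem L87256 : sm ga N10214 = N7048 := ded_17_1 (flp_h L60425) (flp_a L60314) L87254
theorem L87258 : sm gc N10214 = N7042 := ded_32_1 (flp_h L60369) (flp_c L60316) L87254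
theorem L87263 : sm gj N7037 = N10215 := rfl
theorem L87265 : sm ga N10215 = N7049 := ded_16_1 (flp_j L60433) (flp_a L60323) L87263
theorem L87267 : sm gc N10215 = N7043 := ded_31_1 (flp_j L60377) (flp_c L60325) L87263
theorem L87269 : sm gd N10215 = N7764 := ded_37_1 (flp_j L66669) (flp_d L60327) L87263
theorem L87275 : sm gh N7037 = N10216 := rfl
theorem L87277 : sm ga N10216 = N7050 := ded_17_1 (flp_h L60444) (flp_a L60323) L87275
theorem L87279 : sm gc N10216 = N7044 := ded_32_1 (flp_h L60388) (flp_c L60325) L87275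
theorem L87282 : sm gg N10216 = N7038 := ded_50_1 (flp_h L60332) L60321 L87275
theorem L87284 : sm gd N7038 = N10217 := rfl
theorem L87288 : sm gf N10217 = N7039 := ded_35_2 (flp_d L60341) (flp_f L60338) L87284
theorem L87305 : sm ge N7039 = N10219 := rfl
theorem L87307 : sm ga N10219 = N7053 := ded_13_1 (flp_e L60471) (flp_a L60343) L87305
theorem L87312 : sm gh N10219 = N7767 := ded_43_2 (flp_e L66698) (flp_h L60348) L87305
theorem L87314 : sm gi N7039 = N10220 := rfl
theorem L87319 : sm gd N10220 = N7040 := ded_39_1 (flp_i L60350) L60341 L87314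
theorem L87324 : sm gf N7041 = N10221 := rfl
theorem L87326 : sm ga N10221 = N7055 := ded_14_1 (flp_f L60488) (flp_a L60362) L87324
theorem L87328 : sm gb N10221 = N10221 := ded_22_1 (flp_f L87324) L60364 L87324
theorem L87329 : sm gi N10221 = N7080 := ded_48_2 (flp_f L60700) (flp_i L60367) L87324
theorem L87331 : sm ge N10221 = N10221 := ded_40_1 (flp_f L87324) L60365 L41850 (flp_e L60365) L87324
theorem L87332 : sm gj N7041 = N10222 := rfl
theorem L87334 : sm ga N10222 = N7056 := ded_16_1 (flp_j L60495) (flp_a L60362) L87332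
theorem L87336 : sm gb N10222 = N10222 := ded_24_1 (flp_j L87332) L60364 L87332
theorem L87337 : sm ge N10222 = N7043 := ded_42_1 (flp_j L60377) (flp_e L60365) L87332
theorem L87339 : sm gi N10222 = N7081 := ded_53_2 (flp_j L60706) (flp_i L60367) L87332
theorem L87341 : sm gg N10222 = N10222 := ded_49_1 (flp_j L87332) (flp_g L60360) L41838 L60360 L87332
theorem L87342 : sm gh N7041 = N10223 := rfl
theorem L87344 : sm ga N10223 = N7057 := ded_17_1 (flp_h L60504) (flp_a L60362) L87342
theorem L87349 : sm gg N10223 = N7042 := ded_50_1 (flp_h L60369) L60360 L87342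
theorem L87351 : sm gd N7042 = N10224 := rfl
theorem L87353 : sm ga N10224 = N7058 := ded_12_1 (flp_d L60512) (flp_a L60371) L87351
theorem L87358 : sm gi N7042 = N10225 := rfl
theorem L87366 : sm gh N10225 = N7084 := ded_54_1 (flp_i L60731) (flp_h L42085) (flp_i L41839) L60369 L87358
theorem L87368 : sm gh N7043 = N10226 := rfl
theorem L87375 : sm gj N10226 = N7044 := ded_52_1 (flp_h L60388) L60377 L87368
theorem L87378 : sm gi N7044 = N10227 := rfl
theorem L87385 : sm gg N10227 = N7045 := ded_51_1 (flp_i L60397) (flp_g L60394) L87378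
theorem L87389 : sm gg N7046 = N10228 := rfl
theorem L87391 : sm gb N10228 = N10228 := ded_23_1 (flp_g L87389) L60410 L87389
theorem L87392 : sm gd N10228 = N7047 := ded_36_1 (flp_g L60416) L60408 L87389
theorem L87394 : sm ge N10228 = N7773 := ded_41_1 (flp_g L66761) (flp_e L60414) L87389
theorem L87396 : sm gi N10228 = N7087 := ded_51_2 (flp_g L60760) (flp_i L60412) L87389
theorem L87398 : sm gh N7046 = N10229 := rfl
theorem L87400 : sm gb N10229 = N10229 := ded_25_1 (flp_h L87398) L60410 L87398
theorem L87401 : sm ge N10229 = N7774 := ded_43_1 (flp_h L66768) (flp_e L60414) L87398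
theorem L87403 : sm gj N10229 = N10229 := ded_52_1 (flp_h L87398) L60411 L87398
theorem L87404 : sm gf N7047 = N10230 := rfl
theorem L87406 : sm gb N10230 = N10230 := ded_22_1 (flp_f L87404) L60418 L87404
theorem L87407 : sm gc N10230 = N7055 := ded_29_1 (flp_f L60488) (flp_c L60419) L87404
theorem L87409 : sm gi N10230 = N7089 := ded_48_2 (flp_f L60773) (flp_i L60423) L87404
theorem L87411 : sm ge N10230 = N10230 := ded_40_1 (flp_f L87404) L60421 L41899 (flp_e L60421) L87404
theorem L87412 : sm gj N7047 = N10231 := rfl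
theorem L87414 : sm gb N10231 = N10231 := ded_24_1 (flp_j L87412) L60418 L87412
theorem L87415 : sm gc N10231 = N7056 := ded_31_1 (flp_j L60495) (flp_c L60419) L87412
theorem L87417 : sm ge N10231 = N7049 := ded_42_1 (flp_j L60433) (flp_e L60421) L87412
theorem L87419 : sm gi N10231 = N7090 := ded_53_2 (flp_j L60779) (flp_i L60423) L87412
theorem L87421 : sm gg N10231 = N10231 := ded_49_1 (flp_j L87412) (flp_g L60416) L41887 L60416 L87412
theorem L87422 : sm gh N7047 = N10232 := rfl
theorem L87425 : sm gc N10232 = N7057 := ded_32_1 (flp_h L60504) (flp_c L60419) L87422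
theorem L87427 : sm ge N10232 = N7050 := ded_43_1 (flp_h L60444) (flp_e L60421) L87422
theorem L87429 : sm gg N10232 = N7048 := ded_50_1 (flp_h L60425) L60416 L87422
theorem L87431 : sm gd N7048 = N10233 := rfl
theorem L87445 : sm gh N7049 = N10235 := rfl
theorem L87452 : sm gj N10235 = N7050 := ded_52_1 (flp_h L60444) L60433 L87445
theorem L87454 : sm gd N7050 = N10236 := rfl
theorem L87463 : sm gi N7050 = N10237 := rfl
theorem L87471 : sm gh N10237 = N7095 := ded_54_1 (flp_i L60819) (flp_h L42152) (flp_i L41897) L60444 L87463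
theorem L87473 : sm ge N7051 = N10238 := rfl
theorem L87478 : sm gh N10238 = N7781 := ded_43_2 (flp_e L66826) (flp_h L60459) L87473
theorem L87490 : sm gf N7053 = N10240 := rfl
theorem L87495 : sm gh N10240 = N7782 := ded_47_2 (flp_f L66832) (flp_h L60477) L87490
theorem L87506 : sm gj N7055 = N10242 := rfl
theorem L87508 : sm gb N10242 = N7062 := ded_24_1 (flp_j L60546) (flp_b L60490) L87506
theorem L87510 : sm ge N10242 = N10242 := ded_42_1 (flp_j L87506) L60494 L87506
theorem L87511 : sm gf N10242 = N7056 := ded_46_1 (flp_j L60495) L60488 L87506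
theorem L87513 : sm gi N10242 = N7096 := ded_53_2 (flp_j L60828) (flp_i L60492) L87506
theorem L87515 : sm gh N7055 = N10243 := rfl
theorem L87517 : sm gb N10243 = N7063 := ded_25_1 (flp_h L60555) (flp_b L60490) L87515
theorem L87519 : sm ge N10243 = N10243 := ded_43_1 (flp_h L87515) L60494 L87515
theorem L87520 : sm gf N10243 = N7057 := ded_47_1 (flp_h L60504) L60488 L87515
theorem L87522 : sm gh N7056 = N10244 := rfl
theorem L87524 : sm gb N10244 = N7064 := ded_25_1 (flp_h L60562) (flp_b L60497) L87522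
theorem L87526 : sm ge N10244 = N7060 := ded_43_1 (flp_h L60527) (flp_e L60499) L87522
theorem L87528 : sm gg N10244 = N10244 := ded_50_1 (flp_h L87522) L60503 L87522
theorem L87529 : sm gj N10244 = N7057 := ded_52_1 (flp_h L60504) L60495 L87522
theorem L87531 : sm gd N7057 = N10245 := rfl
theorem L87533 : sm gb N10245 = N7065 := ded_20_1 (flp_d L60571) (flp_b L60506) L87531

end Cfsg.Agent.Helper28.FicA
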