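import Cfsg.Agent.Helper28.FicB14

/-! # The Fi₂₃ presentation, cosets of the subgroup generated by a, …, i: the coset enumeration, part 15 (helper28; generated) -/

set_option autoImplicit false

noncomputable section

namespace Cfsg.Agent.Helper28.FicA

open Cfsg.Agent.Helper28.CosetTable

theorem L87535 : sm gg N10245 = N7058 := ded_36_2 (flp_d L60512) (flp_g L60510) L87531
theorem L87537 : sm ge N10245 = N10245 := ded_34_2 (flp_d L87531) L60508 L41957 (flp_e L60508) L87531
theorem L87538 : sm gi N7057 = N10246 := rfl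
theorem L87544 : sm gg N10246 = N7059 := ded_51_1 (flp_i L60518) (flp_g L60510) L87538
theorem L87546 : sm gh N10246 = N7100 := ded_54_1 (flp_i L60859) (flp_h L42182) (flp_i L41931) L60504 L87538
theorem L87548 : sm gc N7058 = N10247 := rfl
theorem L87550 : sm ge N10247 = N10247 := ded_28_2 (flp_c L87548) L60517 L87548
theorem L87551 : sm gj N10247 = N10247 := ded_31_2 (flp_c L87548) L60516 L87548
theorem L87552 : sm gi N7058 = N10248 := rfl
theorem L87554 : sm gb N10248 = N7068 := ded_26_1 (flp_i L60593) (flp_b L60514) L87552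
theorem L87556 : sm gd N10248 = N7059 := ded_39_1 (flp_i L60518) L60512 L87552
theorem L87560 : sm gi N7060 = N10249 := rfl
theorem L87562 : sm gb N10249 = N7069 := ded_26_1 (flp_i L60600) (flp_b L60529) L87560
theorem L87569 : sm gh N10249 = N7103 := ded_54_1 (flp_i L60881) (flp_h L42204) (flp_i L41947) L60527 L87560
theorem L87571 : sm gg N7062 = N10250 := rfl
theorem L87573 : sm ga N10250 = N10250 := ded_15_1 (flp_g L87571) L60548 L87571
theorem L87574 : sm gc N10250 = N10250 := ded_30_1 (flp_g L87571) L60549 L87571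
theorem L87575 : sm ge N10250 = N10250 := ded_41_1 (flp_g L87571) L60550 L87571
theorem L87576 : sm gi N10250 = N7104 := ded_51_2 (flp_g L60891) (flp_i L60553) L87571
theorem L87578 : sm gf N10250 = N10250 := ded_45_1 (flp_g L87571) L60551 L41983 (flp_f L60551) L87571
theorem L87579 : sm gh N7062 = N10251 := rfl
theorem L87581 : sm ga N10251 = N10251 := ded_17_1 (flp_h L87579) L60548 L87579
theorem L87582 : sm gc N10251 = N10251 := ded_32_1 (flp_h L87579) L60549 L87579
theorem L87583 : sm ge N10251 = N10251 := ded_43_1 (flp_h L87579) L60550 L87579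
theorem L87584 : sm gf N10251 = N7064 := ded_47_1 (flp_h L60562) (flp_f L60551) L87579
theorem L87586 : sm gj N10251 = N7063 := ded_52_1 (flp_h L60555) L60546 L87579
theorem L87588 : sm gd N7063 = N10252 := rfl
theorem L87590 : sm ga N10252 = N10252 := ded_12_1 (flp_d L87588) L60557 L87588
theorem L87591 : sm gf N10252 = N7065 := ded_35_2 (flp_d L60571) (flp_f L60560) L87588
theorem L87593 : sm gi N7063 = N10253 := rfl
theorem L87595 : sm ga N10253 = N10253 := ded_18_1 (flp_i L87593) L60557 L87593
theorem L87596 : sm gc N10253 = N10253 := ded_33_1 (flp_i L87593) L60558 L87593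
theorem L87597 : sm ge N10253 = N10253 := ded_44_1 (flp_i L87593) L60559 L87593
theorem L87598 : sm gf N10253 = N7066 := ded_48_1 (flp_i L60577) (flp_f L60560) L87593
theorem L87600 : sm gh N10253 = N7107 := ded_54_1 (flp_i L60911) (flp_h L42230) (flp_i L41972) L60555 L87593
theorem L87602 : sm gd N7064 = N10254 := rfl
theorem L87604 : sm ga N10254 = N10254 := ded_12_1 (flp_d L87602) L60564 L87602
theorem L87605 : sm gg N10254 = N10254 := ded_36_2 (flp_d L87602) L60568 L87602
theorem L87606 : sm gj N10254 = N7065 := ded_37_2 (flp_d L60571) (flp_j L60569) L87602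
theorem L87608 : sm ge N10254 = N10254 := ded_34_2 (flp_d L87602) L60566 L42014 (flp_e L60566) L87602
theorem L87609 : sm gi N7064 = N10255 := rfl
theorem L87611 : sm ga N10255 = N10255 := ded_18_1 (flp_i L87609) L60564 L87609
theorem L87612 : sm gc N10255 = N10255 := ded_33_1 (flp_i L87609) L60565 L87609
theorem L87613 : sm ge N10255 = N7069 := ded_44_1 (flp_i L60600) (flp_e L60566) L87609
theorem L87615 : sm gg N10255 = N10255 := ded_51_1 (flp_i L87609) L60568 L87609
theorem L87616 : sm gj N10255 = N7066 := ded_53_1 (flp_i L60577) (flp_j L60569) L87609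
theorem L87618 : sm gh N10255 = N7109 := ded_54_1 (flp_i L60926) (flp_h L42237) (flp_i L41981) L60562 L87609
theorem L87620 : sm gc N7065 = N10256 := rfl
theorem L87622 : sm ga N10256 = N10256 := ded_11_1 (flp_c L87620) L60573 L87620
theorem L87623 : sm ge N10256 = N10256 := ded_28_2 (flp_c L87620) L60576 L87620
theorem L87624 : sm gg N10256 = N7067 := ded_30_2 (flp_c L60587) (flp_g L60574) L87620
theorem L87626 : sm gd N10256 = N10256 := ded_27_2 (flp_c L87620) (flp_d L60571) L41987 L60571 L87620
theorem L87627 : sm gi N7065 = N10257 := rfl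
theorem L87629 : sm ga N10257 = N10257 := ded_18_1 (flp_i L87627) L60573 L87627
theorem L87630 : sm gd N10257 = N7066 := ded_39_1 (flp_i L60577) L60571 L87627
theorem L87632 : sm ge N10257 = N10257 := ded_44_1 (flp_i L87627) L60576 L87627
theorem L87633 : sm gg N10257 = N7068 := ded_51_1 (flp_i L60593) (flp_g L60574) L87627
theorem L87635 : sm gb N7067 = N10258 := rfl
theorem L87637 : sm gd N10258 = N10258 := ded_20_2 (flp_b L87635) L60592 L87635
theorem L87638 : sm ge N10258 = N10258 := ded_21_2 (flp_b L87635) L60590 L87635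
theorem L87639 : sm gj N10258 = N10258 := ded_24_2 (flp_b L87635) L60591 L87635
theorem L87640 : sm gi N7067 = N10259 := rfl
theorem L87642 : sm ga N10259 = N10259 := ded_18_1 (flp_i L87640) L60589 L87640
theorem L87643 : sm gc N10259 = N7068 := ded_33_1 (flp_i L60593) L60587 L87640
theorem L87645 : sm gd N10259 = N10259 := ded_39_1 (flp_i L87640) L60592 L87640
theorem L87646 : sm ge N10259 = N10259 := ded_44_1 (flp_i L87640) L60590 L87640
theorem L87647 : sm gj N10259 = N10259 := ded_53_1 (flp_i L87640) L60591 L87640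
theorem L87648 : sm gh N7068 = N10260 := rfl
theorem L87650 : sm ga N10260 = N10260 := ded_17_1 (flp_h L87648) L60595 L87648
theorem L87651 : sm ge N10260 = N10260 := ded_43_1 (flp_h L87648) L60598 L87648
theorem L87652 : sm gj N10260 = N10260 := ded_52_1 (flp_h L87648) L60599 L87648
theorem L87653 : sm gd N10260 = N7114 := ded_38_1 (flp_h L60967) L42271 (flp_h L42004) (flp_d L60596) L87648
theorem L87655 : sm gd N7070 = N10261 := rfl
theorem L87658 : sm gb N10261 = N7074 := ded_20_1 (flp_d L60646) (flp_b L60614) L87655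
theorem L87661 : sm ge N10261 = N7794 := ded_34_2 (flp_d L66935) (flp_e L46382) (flp_d L42031) L60611 L87655
theorem L87663 : sm gg N7070 = N10262 := rfl
theorem L87666 : sm gb N10262 = N7075 := ded_23_1 (flp_g L60653) (flp_b L60614) L87663
theorem L87669 : sm ge N10262 = N7071 := ded_41_1 (flp_g L60618) L60611 L87663
theorem L87671 : sm gh N7070 = N10263 := rfl
theorem L87680 : sm gj N7071 = N10264 := rfl
theorem L87683 : sm gb N10264 = N7077 := ded_24_1 (flp_j L60670) (flp_b L60621) L87680
theorem L87686 : sm gd N10264 = N7796 := ded_37_1 (flp_j L66952) (flp_d L60624) L87680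
theorem L87690 : sm gh N7071 = N10265 := rfl
theorem L87693 : sm gb N10265 = N7078 := ded_25_1 (flp_h L60680) (flp_b L60621) L87690
theorem L87697 : sm gg N10265 = N7072 := ded_50_1 (flp_h L60627) L60618 L87690
theorem L87700 : sm gi N7072 = N10266 := rfl
theorem L87710 : sm gg N7074 = N10267 := rfl
theorem L87712 : sm ga N10267 = N7087 := ded_15_1 (flp_g L60760) (flp_a L60648) L87710
theorem L87714 : sm gd N10267 = N7075 := ded_36_1 (flp_g L60653) L60646 L87710
theorem L87716 : sm ge N10267 = N7797 := ded_41_1 (flp_g L66962) (flp_e L60651) L87710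
theorem L87718 : sm gh N7074 = N10268 := rfl
theorem L87720 : sm ga N10268 = N7088 := ded_17_1 (flp_h L60767) (flp_a L60648) L87718
theorem L87722 : sm ge N10268 = N7798 := ded_43_1 (flp_h L66968) (flp_e L60651) L87718
theorem L87724 : sm gj N10268 = N10268 := ded_52_1 (flp_h L87718) L60650 L87718
theorem L87725 : sm gf N7075 = N10269 := rfl
theorem L87727 : sm ga N10269 = N7089 := ded_14_1 (flp_f L60773) (flp_a L60655) L87725
theorem L87729 : sm gc N10269 = N7080 := ded_29_1 (flp_f L60700) (flp_c L60657) L87725
theorem L87731 : sm ge N10269 = N10269 := ded_40_1 (flp_f L87725) L60659 L42058 (flp_e L60659) L87725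
theorem L87732 : sm gj N7075 = N10270 := rfl
theorem L87734 : sm ga N10270 = N7090 := ded_16_1 (flp_j L60779) (flp_a L60655) L87732
theorem L87736 : sm gc N10270 = N7081 := ded_31_1 (flp_j L60706) (flp_c L60657) L87732
theorem L87738 : sm ge N10270 = N7077 := ded_42_1 (flp_j L60670) (flp_e L60659) L87732
theorem L87740 : sm gg N10270 = N10270 := ded_49_1 (flp_j L87732) (flp_g L60653) L42049 L60653 L87732
theorem L87741 : sm gh N7075 = N10271 := rfl
theorem L87743 : sm ga N10271 = N7091 := ded_17_1 (flp_h L60787) (flp_a L60655) L87741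
theorem L87745 : sm gc N10271 = N7082 := ded_32_1 (flp_h L60714) (flp_c L60657) L87741
theorem L87749 : sm gg N10271 = N7076 := ded_50_1 (flp_h L60661) L60653 L87741
theorem L87751 : sm gd N7076 = N10272 := rfl
theorem L87753 : sm ga N10272 = N7092 := ded_12_1 (flp_d L60796) (flp_a L60663) L87751
theorem L87766 : sm gh N7077 = N10274 := rfl
theorem L87768 : sm ga N10274 = N7094 := ded_17_1 (flp_h L60809) (flp_a L60672) L87766
theorem L87787 : sm gj N7080 = N10276 := rfl
theorem L87789 : sm ga N10276 = N7096 := ded_16_1 (flp_j L60828) (flp_a L60702) L87787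
theorem L87791 : sm gb N10276 = N10276 := ded_24_1 (flp_j L87787) L60704 L87787
theorem L87792 : sm ge N10276 = N10276 := ded_42_1 (flp_j L87787) L60705 L87787
theorem L87793 : sm gf N10276 = N7081 := ded_46_1 (flp_j L60706) L60700 L87787
theorem L87795 : sm gh N7080 = N10277 := rfl
theorem L87797 : sm ga N10277 = N7097 := ded_17_1 (flp_h L60835) (flp_a L60702) L87795
theorem L87799 : sm gb N10277 = N10277 := ded_25_1 (flp_h L87795) L60704 L87795
theorem L87800 : sm ge N10277 = N10277 := ded_43_1 (flp_h L87795) L60705 L87795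
theorem L87801 : sm gf N10277 = N7082 := ded_47_1 (flp_h L60714) L60700 L87795
theorem L87803 : sm gh N7081 = N10278 := rfl
theorem L87805 : sm ga N10278 = N7098 := ded_17_1 (flp_h L60842) (flp_a L60708) L87803
theorem L87807 : sm gb N10278 = N10278 := ded_25_1 (flp_h L87803) L60710 L87803
theorem L87808 : sm ge N10278 = N7085 := ded_43_1 (flp_h L60739) (flp_e L60711) L87803
theorem L87810 : sm gg N10278 = N10278 := ded_50_1 (flp_h L87803) L60713 L87803
theorem L87811 : sm gj N10278 = N7082 := ded_52_1 (flp_h L60714) L60706 L87803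
theorem L87813 : sm gd N7082 = N10279 := rfl
theorem L87815 : sm ga N10279 = N7099 := ded_12_1 (flp_d L60851) (flp_a L60716) L87813
theorem L87817 : sm gb N10279 = N10279 := ded_20_1 (flp_d L87813) L60718 L87813
theorem L87818 : sm gg N10279 = N7083 := ded_36_2 (flp_d L60723) (flp_g L60721) L87813
theorem L87820 : sm ge N10279 = N7231 := ded_34_2 (flp_d L61968) L42956 (flp_d L42110) (flp_e L60719) L87813
theorem L87822 : sm gi N7082 = N10280 := rfl
theorem L87824 : sm ga N10280 = N7100 := ded_18_1 (flp_i L60859) (flp_a L60716) L87822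
theorem L87831 : sm gc N7083 = N10281 := rfl
theorem L87833 : sm ga N10281 = N7101 := ded_11_1 (flp_c L60867) (flp_a L60725) L87831
theorem L87835 : sm ge N10281 = N7233 := ded_28_2 (flp_c L61986) (flp_e L60729) L87831
theorem L87837 : sm gj N10281 = N10281 := ded_31_2 (flp_c L87831) L60728 L87831
theorem L87838 : sm gi N7083 = N10282 := rfl
theorem L87840 : sm ga N10282 = N7102 := ded_18_1 (flp_i L60872) (flp_a L60725) L87838
theorem L87843 : sm gd N10282 = N7084 := ded_39_1 (flp_i L60731) L60723 L87838
theorem L87845 : sm ge N10282 = N7234 := ded_44_1 (flp_i L61993) (flp_e L60729) L87838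
theorem L87848 : sm gi N7085 = N10283 := rfl
theorem L87850 : sm ga N10283 = N7103 := ded_18_1 (flp_i L60881) (flp_a L60741) L87848
theorem L87853 : sm gd N10283 = N7235 := ded_39_1 (flp_i L62002) (flp_d L60748) L87848
theorem L87859 : sm gf N7087 = N10284 := rfl
theorem L87861 : sm gb N10284 = N10284 := ded_22_1 (flp_f L87859) L60762 L87859
theorem L87862 : sm gd N10284 = N7089 := ded_35_1 (flp_f L60773) (flp_d L60763) L87859
theorem L87864 : sm gj N7087 = N10285 := rfl
theorem L87866 : sm gb N10285 = N10285 := ded_24_1 (flp_j L87864) L60762 L87864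
theorem L87867 : sm gd N10285 = N7090 := ded_37_1 (flp_j L60779) (flp_d L60763) L87864
theorem L87869 : sm ge N10285 = N7803 := ded_42_1 (flp_j L67010) (flp_e L60765) L87864
theorem L87871 : sm gg N10285 = N10285 := ded_49_1 (flp_j L87864) (flp_g L60760) L42125 L60760 L87864
theorem L87872 : sm gh N7087 = N10286 := rfl
theorem L87874 : sm gb N10286 = N10286 := ded_25_1 (flp_h L87872) L60762 L87872
theorem L87875 : sm ge N10286 = N7804 := ded_43_1 (flp_h L67016) (flp_e L60765) L87872
theorem L87877 : sm gg N10286 = N7088 := ded_50_1 (flp_h L60767) L60760 L87872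
theorem L87879 : sm gd N7088 = N10287 := rfl
theorem L87881 : sm gb N10287 = N10287 := ded_20_1 (flp_d L87879) L60769 L87879
theorem L87882 : sm gj N10287 = N10287 := ded_37_2 (flp_d L87879) L60772 L87879
theorem L87883 : sm ge N10287 = N10287 := ded_34_2 (flp_d L87879) L60770 L46454 (flp_e L60770) L87879
theorem L87884 : sm gh N10287 = N7092 := ded_38_2 (flp_d L60796) (flp_h L42135) L42122 L60767 L87879
theorem L87886 : sm gi N7088 = N10288 := rfl
theorem L87888 : sm gb N10288 = N10288 := ded_26_1 (flp_i L87886) L60769 L87886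
theorem L87889 : sm ge N10288 = N7805 := ded_44_1 (flp_i L67022) (flp_e L60770) L87886
theorem L87891 : sm gj N10288 = N10288 := ded_53_1 (flp_i L87886) L60772 L87886
theorem L87892 : sm gj N7089 = N10289 := rfl
theorem L87894 : sm gb N10289 = N10289 := ded_24_1 (flp_j L87892) L60775 L87892
theorem L87895 : sm gc N10289 = N7096 := ded_31_1 (flp_j L60828) (flp_c L60776) L87892
theorem L87897 : sm ge N10289 = N10289 := ded_42_1 (flp_j L87892) L60778 L87892
theorem L87898 : sm gf N10289 = N7090 := ded_46_1 (flp_j L60779) L60773 L87892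
theorem L87900 : sm gh N7089 = N10290 := rfl
theorem L87902 : sm gb N10290 = N10290 := ded_25_1 (flp_h L87900) L60775 L87900
theorem L87903 : sm gc N10290 = N7097 := ded_32_1 (flp_h L60835) (flp_c L60776) L87900
theorem L87905 : sm ge N10290 = N10290 := ded_43_1 (flp_h L87900) L60778 L87900
theorem L87906 : sm gf N10290 = N7091 := ded_47_1 (flp_h L60787) L60773 L87900
theorem L87908 : sm gh N7090 = N10291 := rfl
theorem L87910 : sm gb N10291 = N10291 := ded_25_1 (flp_h L87908) L60781 L87908
theorem L87911 : sm gc N10291 = N7098 := ded_32_1 (flp_h L60842) (flp_c L60782) L87908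
theorem L87913 : sm ge N10291 = N7094 := ded_43_1 (flp_h L60809) (flp_e L60784) L87908
theorem L87915 : sm gg N10291 = N10291 := ded_50_1 (flp_h L87908) L60786 L87908
theorem L87916 : sm gj N10291 = N7091 := ded_52_1 (flp_h L60787) L60779 L87908
theorem L87918 : sm gd N7091 = N10292 := rfl
theorem L87920 : sm gb N10292 = N10292 := ded_20_1 (flp_d L87918) L60789 L87918
theorem L87921 : sm gg N10292 = N7092 := ded_36_2 (flp_d L60796) (flp_g L60794) L87918
theorem L87923 : sm ge N10292 = N10292 := ded_34_2 (flp_d L87918) L60792 L42160 (flp_e L60792) L87918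
theorem L87924 : sm gi N7091 = N10293 := rfl
theorem L87927 : sm gc N10293 = N7100 := ded_33_1 (flp_i L60859) (flp_c L60790) L87924
theorem L87933 : sm gc N7092 = N10294 := rfl
theorem L87935 : sm ge N10294 = N10294 := ded_28_2 (flp_c L87933) L60800 L87933
theorem L87936 : sm gj N10294 = N10294 := ded_31_2 (flp_c L87933) L60799 L87933
theorem L87937 : sm gd N10294 = N7101 := ded_27_2 (flp_c L60867) (flp_d L42190) (flp_c L42138) L60796 L87933
theorem L87939 : sm gi N7092 = N10295 := rfl
theorem L87946 : sm gi N7094 = N10296 := rfl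
theorem L87949 : sm gc N10296 = N7103 := ded_33_1 (flp_i L60881) (flp_c L60812) L87946
theorem L87956 : sm gg N7096 = N10297 := rfl
theorem L87958 : sm gb N10297 = N7104 := ded_23_1 (flp_g L60891) (flp_b L60830) L87956
theorem L87960 : sm ge N10297 = N10297 := ded_41_1 (flp_g L87956) L60832 L87956
theorem L87961 : sm gf N10297 = N10297 := ded_45_1 (flp_g L87956) L60833 L42181 (flp_f L60833) L87956
theorem L87962 : sm gh N7096 = N10298 := rfl
theorem L87964 : sm gb N10298 = N7105 := ded_25_1 (flp_h L60897) (flp_b L60830) L87962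
theorem L87966 : sm ge N10298 = N10298 := ded_43_1 (flp_h L87962) L60832 L87962
theorem L87967 : sm gf N10298 = N7098 := ded_47_1 (flp_h L60842) (flp_f L60833) L87962
theorem L87969 : sm gj N10298 = N7097 := ded_52_1 (flp_h L60835) L60828 L87962
theorem L87971 : sm gd N7097 = N10299 := rfl
theorem L87973 : sm gb N10299 = N7106 := ded_20_1 (flp_d L60906) (flp_b L60837) L87971
theorem L87975 : sm gf N10299 = N7099 := ded_35_2 (flp_d L60851) (flp_f L60840) L87971
theorem L87977 : sm gi N7097 = N10300 := rfl
theorem L87979 : sm gb N10300 = N7107 := ded_26_1 (flp_i L60911) (flp_b L60837) L87977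
theorem L87981 : sm ge N10300 = N10300 := ded_44_1 (flp_i L87977) L60839 L87977
theorem L87982 : sm gf N10300 = N7100 := ded_48_1 (flp_i L60859) (flp_f L60840) L87977
theorem L87984 : sm gd N7098 = N10301 := rfl
theorem L87986 : sm gb N10301 = N7108 := ded_20_1 (flp_d L60918) (flp_b L60844) L87984
theorem L87988 : sm gg N10301 = N10301 := ded_36_2 (flp_d L87984) L60848 L87984
theorem L87989 : sm gj N10301 = N7099 := ded_37_2 (flp_d L60851) (flp_j L60849) L87984
theorem L87991 : sm ge N10301 = N7240 := ded_34_2 (flp_d L62049) L43021 (flp_d L42212) (flp_e L60846) L87984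
theorem L87993 : sm gi N7098 = N10302 := rfl
theorem L87995 : sm gb N10302 = N7109 := ded_26_1 (flp_i L60926) (flp_b L60844) L87993
theorem L87997 : sm ge N10302 = N7103 := ded_44_1 (flp_i L60881) (flp_e L60846) L87993
theorem L87999 : sm gg N10302 = N10302 := ded_51_1 (flp_i L87993) L60848 L87993
theorem L88000 : sm gj N10302 = N7100 := ded_53_1 (flp_i L60859) (flp_j L60849) L87993
theorem L88002 : sm gc N7099 = N10303 := rfl
theorem L88004 : sm ge N10303 = N7242 := ded_28_2 (flp_c L62067) (flp_e L60857) L88002
theorem L88006 : sm gg N10303 = N7101 := ded_30_2 (flp_c L60867) (flp_g L60855) L88002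
theorem L88008 : sm gi N7099 = N10304 := rfl
theorem L88010 : sm gb N10304 = N7111 := ded_26_1 (flp_i L60943) (flp_b L60853) L88008
theorem L88012 : sm gd N10304 = N7100 := ded_39_1 (flp_i L60859) L60851 L88008
theorem L88014 : sm ge N10304 = N7243 := ded_44_1 (flp_i L62072) (flp_e L60857) L88008
theorem L88016 : sm gg N10304 = N7102 := ded_51_1 (flp_i L60872) (flp_g L60855) L88008
theorem L88018 : sm gb N7101 = N10305 := rfl
theorem L88020 : sm ge N10305 = N7244 := ded_21_2 (flp_b L62080) (flp_e L60869) L88018
theorem L88022 : sm gj N10305 = N10305 := ded_24_2 (flp_b L88018) L60871 L88018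
theorem L88023 : sm gc N10305 = N7112 := ded_19_2 (flp_b L60952) (flp_c L42261) (flp_b L42192) L60867 L88018
theorem L88025 : sm gi N7101 = N10306 := rfl
theorem L88027 : sm gc N10306 = N7102 := ded_33_1 (flp_i L60872) L60867 L88025
theorem L88029 : sm ge N10306 = N7245 := ded_44_1 (flp_i L62087) (flp_e L60869) L88025
theorem L88031 : sm gj N10306 = N10306 := ded_53_1 (flp_i L88025) L60871 L88025
theorem L88032 : sm gh N7102 = N10307 := rfl
theorem L88034 : sm gb N10307 = N7114 := ded_25_1 (flp_h L60967) (flp_b L60874) L88032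
theorem L88036 : sm ge N10307 = N7246 := ded_43_1 (flp_h L62094) (flp_e L60878) L88032
theorem L88038 : sm gj N10307 = N10307 := ded_52_1 (flp_h L88032) L60880 L88032
theorem L88039 : sm gh N7104 = N10308 := rfl
theorem L88041 : sm ga N10308 = N10308 := ded_17_1 (flp_h L88039) L60893 L88039
theorem L88042 : sm gc N10308 = N10308 := ded_32_1 (flp_h L88039) L60894 L88039
theorem L88043 : sm ge N10308 = N10308 := ded_43_1 (flp_h L88039) L60895 L88039
theorem L88044 : sm gf N10308 = N10308 := ded_47_1 (flp_h L88039) L60896 L88039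
theorem L88045 : sm gg N10308 = N7105 := ded_50_1 (flp_h L60897) L60891 L88039
theorem L88047 : sm gd N7105 = N10309 := rfl
theorem L88049 : sm ga N10309 = N10309 := ded_12_1 (flp_d L88047) L60899 L88047
theorem L88050 : sm gf N10309 = N7108 := ded_35_2 (flp_d L60918) (flp_f L60902) L88047
theorem L88052 : sm gj N10309 = N7106 := ded_37_2 (flp_d L60906) (flp_j L60904) L88047
theorem L88054 : sm gi N7105 = N10310 := rfl
theorem L88056 : sm ga N10310 = N10310 := ded_18_1 (flp_i L88054) L60899 L88054
theorem L88057 : sm gc N10310 = N10310 := ded_33_1 (flp_i L88054) L60900 L88054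
theorem L88058 : sm ge N10310 = N10310 := ded_44_1 (flp_i L88054) L60901 L88054
theorem L88059 : sm gf N10310 = N7109 := ded_48_1 (flp_i L60926) (flp_f L60902) L88054
theorem L88061 : sm gj N10310 = N7107 := ded_53_1 (flp_i L60911) (flp_j L60904) L88054
theorem L88063 : sm gc N7106 = N10311 := rfl
theorem L88065 : sm ga N10311 = N10311 := ded_11_1 (flp_c L88063) L60908 L88063
theorem L88066 : sm gf N10311 = N7110 := ded_29_2 (flp_c L60935) (flp_f L60909) L88063
theorem L88068 : sm gd N10311 = N10311 := ded_27_2 (flp_c L88063) (flp_d L60906) L42233 L60906 L88063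
theorem L88069 : sm ge N7106 = N10312 := rfl
theorem L88071 : sm ga N10312 = N10312 := ded_13_1 (flp_e L88069) L60908 L88069
theorem L88072 : sm gd N10312 = N10312 := ded_34_1 (flp_e L88069) (flp_d L60906) L42234 L60906 L88069
theorem L88073 : sm gf N10312 = N7251 := ded_40_2 (flp_e L62137) L43087 (flp_e L42251) (flp_f L60909) L88069
theorem L88075 : sm gi N7106 = N10313 := rfl
theorem L88077 : sm ga N10313 = N10313 := ded_18_1 (flp_i L88075) L60908 L88075
theorem L88078 : sm gd N10313 = N7107 := ded_39_1 (flp_i L60911) L60906 L88075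
theorem L88080 : sm gf N10313 = N7111 := ded_48_1 (flp_i L60943) (flp_f L60909) L88075
theorem L88082 : sm gc N7108 = N10314 := rfl
theorem L88084 : sm ga N10314 = N10314 := ded_11_1 (flp_c L88082) L60920 L88082
theorem L88085 : sm ge N10314 = N7253 := ded_28_2 (flp_c L62150) (flp_e L60924) L88082
theorem L88087 : sm gg N10314 = N10314 := ded_30_2 (flp_c L88082) L60921 L88082
theorem L88088 : sm gj N10314 = N7110 := ded_31_2 (flp_c L60935) (flp_j L60922) L88082
theorem L88090 : sm gd N10314 = N10314 := ded_27_2 (flp_c L88082) (flp_d L60918) L42240 L60918 L88082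
theorem L88091 : sm gi N7108 = N10315 := rfl
theorem L88093 : sm ga N10315 = N10315 := ded_18_1 (flp_i L88091) L60920 L88091
theorem L88094 : sm gd N10315 = N7109 := ded_39_1 (flp_i L60926) L60918 L88091
theorem L88096 : sm ge N10315 = N7254 := ded_44_1 (flp_i L62158) (flp_e L60924) L88091
theorem L88098 : sm gg N10315 = N10315 := ded_51_1 (flp_i L88091) L60921 L88091
theorem L88099 : sm gj N10315 = N7111 := ded_53_1 (flp_i L60943) (flp_j L60922) L88091
theorem L88101 : sm gb N7110 = N10316 := rfl
theorem L88103 : sm gd N10316 = N10316 := ded_20_2 (flp_b L88101) L60942 L88101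
theorem L88104 : sm ge N10316 = N7255 := ded_21_2 (flp_b L62166) (flp_e L60938) L88101
theorem L88106 : sm gg N10316 = N7112 := ded_23_2 (flp_b L60952) (flp_g L60940) L88101
theorem L88108 : sm gi N7110 = N10317 := rfl
theorem L88110 : sm ga N10317 = N10317 := ded_18_1 (flp_i L88108) L60937 L88108
theorem L88111 : sm gc N10317 = N7111 := ded_33_1 (flp_i L60943) L60935 L88108
theorem L88113 : sm gd N10317 = N10317 := ded_39_1 (flp_i L88108) L60942 L88108
theorem L88114 : sm ge N10317 = N7256 := ded_44_1 (flp_i L62172) (flp_e L60938) L88108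
theorem L88116 : sm gg N10317 = N7113 := ded_51_1 (flp_i L60958) (flp_g L60940) L88108
theorem L88118 : sm gh N7111 = N10318 := rfl
theorem L88120 : sm ga N10318 = N10318 := ded_17_1 (flp_h L88118) L60945 L88118
theorem L88121 : sm ge N10318 = N7257 := ded_43_1 (flp_h L62181) (flp_e L60948) L88118
theorem L88123 : sm gg N10318 = N7114 := ded_50_1 (flp_h L60967) (flp_g L60950) L88118
theorem L88125 : sm ga N7112 = N10319 := rfl
theorem L88127 : sm gd N10319 = N10319 := ded_12_2 (flp_a L88125) L60954 L88125
theorem L88128 : sm ge N10319 = N7258 := ded_13_2 (flp_a L62187) (flp_e L60955) L88125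
theorem L88130 : sm gj N10319 = N10319 := ded_16_2 (flp_a L88125) L60957 L88125
theorem L88131 : sm gb N10319 = N10319 := ded_10_2 (flp_a L88125) (flp_b L60952) L42263 L60952 L88125
theorem L88132 : sm gi N7112 = N10320 := rfl
theorem L88134 : sm gb N10320 = N7113 := ded_26_1 (flp_i L60958) L60952 L88132
theorem L88136 : sm gd N10320 = N10320 := ded_39_1 (flp_i L88132) L60954 L88132
theorem L88137 : sm ge N10320 = N7259 := ded_44_1 (flp_i L62194) (flp_e L60955) L88132
theorem L88139 : sm gj N10320 = N10320 := ded_53_1 (flp_i L88132) L60957 L88132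
theorem L88140 : sm gh N7113 = N10321 := rfl
theorem L88142 : sm ga N10321 = N10321 := ded_17_1 (flp_h L88140) L60960 L88140
theorem L88143 : sm gc N10321 = N7114 := ded_32_1 (flp_h L60967) (flp_c L60961) L88140
theorem L88145 : sm ge N10321 = N7260 := ded_43_1 (flp_h L62202) (flp_e L60964) L88140
theorem L88147 : sm gj N10321 = N10321 := ded_52_1 (flp_h L88140) L60966 L88140
theorem L88148 : sm gf N7115 = N10322 := rfl
theorem L88151 : sm gb N10322 = N7116 := ded_22_1 (flp_f L60984) L60973 L88148
theorem L88154 : sm gd N10322 = N7808 := ded_35_1 (flp_f L67045) (flp_d L60975) L88148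
theorem L88156 : sm gj N10322 = N7140 := ded_46_2 (flp_f L61203) (flp_j L60979) L88148
theorem L88159 : sm gh N7115 = N10323 := rfl
theorem L88162 : sm gb N10323 = N7117 := ded_25_1 (flp_h L60995) L60973 L88159
theorem L88167 : sm gj N10323 = N7141 := ded_52_1 (flp_h L61212) (flp_j L60979) L88159
theorem L88169 : sm ge N7116 = N10324 := rfl
theorem L88171 : sm ga N10324 = N7123 := ded_13_1 (flp_e L61055) (flp_a L60986) L88169
theorem L88173 : sm gc N10324 = N7118 := ded_28_1 (flp_e L61005) (flp_c L60988) L88169
theorem L88175 : sm gj N10324 = N7142 := ded_42_2 (flp_e L61221) (flp_j L60992) L88169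
theorem L88177 : sm gi N10324 = N10324 := ded_44_2 (flp_e L88169) L60994 L88169
theorem L88178 : sm gf N10324 = N10324 := ded_40_2 (flp_e L88169) (flp_f L60984) L42290 L60984 L88169
theorem L88179 : sm gg N7116 = N10325 := rfl
theorem L88181 : sm ga N10325 = N7124 := ded_15_1 (flp_g L61064) (flp_a L60986) L88179
theorem L88183 : sm gc N10325 = N7119 := ded_30_1 (flp_g L61015) (flp_c L60988) L88179
theorem L88185 : sm gd N10325 = N7811 := ded_36_1 (flp_g L67078) (flp_d L60990) L88179
theorem L88187 : sm gi N10325 = N10325 := ded_51_2 (flp_g L88179) L60994 L88179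
theorem L88188 : sm gf N10325 = N10325 := ded_45_1 (flp_g L88179) (flp_f L60984) L42291 L60984 L88179
theorem L88189 : sm gh N7116 = N10326 := rfl
theorem L88191 : sm ga N10326 = N7125 := ded_17_1 (flp_h L61073) (flp_a L60986) L88189
theorem L88193 : sm gc N10326 = N7120 := ded_32_1 (flp_h L61024) (flp_c L60988) L88189
theorem L88195 : sm gf N10326 = N7117 := ded_47_1 (flp_h L60995) L60984 L88189
theorem L88197 : sm gj N10326 = N7144 := ded_52_1 (flp_h L61240) (flp_j L60992) L88189
theorem L88199 : sm gd N7117 = N10327 := rfl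
theorem L88201 : sm ga N10327 = N7126 := ded_12_1 (flp_d L61082) (flp_a L60997) L88199
theorem L88204 : sm gj N10327 = N7145 := ded_37_2 (flp_d L61248) (flp_j L61003) L88199
theorem L88208 : sm gi N7117 = N10328 := rfl
theorem L88210 : sm ga N10328 = N7127 := ded_18_1 (flp_i L61090) (flp_a L60997) L88208
theorem L88212 : sm gc N10328 = N7121 := ded_33_1 (flp_i L61033) (flp_c L60999) L88208
theorem L88214 : sm ge N10328 = N10328 := ded_44_1 (flp_i L88208) L61001 L88208
theorem L88215 : sm gg N10328 = N10328 := ded_51_1 (flp_i L88208) L61002 L88208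
theorem L88216 : sm gj N10328 = N7146 := ded_53_1 (flp_i L61256) (flp_j L61003) L88208
theorem L88218 : sm gh N10328 = N10328 := ded_54_1 (flp_i L88208) (flp_h L60995) L42294 L60995 L88208
theorem L88219 : sm gg N7118 = N10329 := rfl
theorem L88221 : sm ga N10329 = N7128 := ded_15_1 (flp_g L61100) (flp_a L61007) L88219
theorem L88223 : sm gb N10329 = N10329 := ded_23_1 (flp_g L88219) L61009 L88219
theorem L88224 : sm gd N10329 = N10329 := ded_36_1 (flp_g L88219) L61013 L88219
theorem L88225 : sm ge N10329 = N7119 := ded_41_1 (flp_g L61015) L61005 L88219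
theorem L88227 : sm gi N10329 = N10329 := ded_51_2 (flp_g L88219) L61012 L88219
theorem L88228 : sm gh N7118 = N10330 := rfl
theorem L88230 : sm ga N10330 = N7129 := ded_17_1 (flp_h L61108) (flp_a L61007) L88228
theorem L88232 : sm gb N10330 = N10330 := ded_25_1 (flp_h L88228) L61009 L88228
theorem L88233 : sm ge N10330 = N7120 := ded_43_1 (flp_h L61024) L61005 L88228
theorem L88235 : sm gf N10330 = N10330 := ded_47_1 (flp_h L88228) L61014 L88228
theorem L88236 : sm gj N10330 = N7148 := ded_52_1 (flp_h L61275) (flp_j L61010) L88228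
theorem L88238 : sm gj N7119 = N10331 := rfl
theorem L88240 : sm ga N10331 = N7130 := ded_16_1 (flp_j L61117) (flp_a L61017) L88238
theorem L88242 : sm gb N10331 = N10331 := ded_24_1 (flp_j L88238) L61019 L88238
theorem L88243 : sm gd N10331 = N7122 := ded_37_1 (flp_j L61043) (flp_d L61020) L88238
theorem L88245 : sm gf N10331 = N10331 := ded_46_1 (flp_j L88238) L61023 L88238
theorem L88246 : sm gi N10331 = N10331 := ded_53_2 (flp_j L88238) L61022 L88238
theorem L88247 : sm gg N10331 = N7149 := ded_49_1 (flp_j L61283) (flp_g L42469) (flp_j L42304) L61015 L88238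
theorem L88249 : sm gh N7119 = N10332 := rfl
theorem L88251 : sm ga N10332 = N7131 := ded_17_1 (flp_h L61127) (flp_a L61017) L88249
theorem L88253 : sm gb N10332 = N10332 := ded_25_1 (flp_h L88249) L61019 L88249
theorem L88254 : sm gf N10332 = N10332 := ded_47_1 (flp_h L88249) L61023 L88249
theorem L88255 : sm gg N10332 = N7120 := ded_50_1 (flp_h L61024) L61015 L88249
theorem L88257 : sm gi N7120 = N10333 := rfl
theorem L88259 : sm ga N10333 = N7132 := ded_18_1 (flp_i L61134) (flp_a L61026) L88257
theorem L88261 : sm gb N10333 = N10333 := ded_26_1 (flp_i L88257) L61028 L88257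
theorem L88262 : sm gf N10333 = N7121 := ded_48_1 (flp_i L61033) (flp_f L61029) L88257
theorem L88264 : sm gj N10333 = N7151 := ded_53_1 (flp_i L61302) (flp_j L61031) L88257
theorem L88266 : sm gh N10333 = N10333 := ded_54_1 (flp_i L88257) (flp_h L61024) L42306 L61024 L88257
theorem L88267 : sm gd N7123 = N10334 := rfl
theorem L88269 : sm gb N10334 = N10334 := ded_20_1 (flp_d L88267) L61057 L88267
theorem L88270 : sm gf N10334 = N10334 := ded_35_2 (flp_d L88267) L61063 L88267
theorem L88271 : sm gj N10334 = N7152 := ded_37_2 (flp_d L61310) (flp_j L61060) L88267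
theorem L88273 : sm gi N10334 = N10334 := ded_39_2 (flp_d L88267) L61062 L88267
theorem L88274 : sm gc N10334 = N10334 := ded_27_1 (flp_d L88267) L61058 L42352 (flp_c L61058) L88267
theorem L88275 : sm ge N10334 = N7820 := ded_34_2 (flp_d L67169) (flp_e L46575) (flp_d L42331) L61055 L88267
theorem L88277 : sm gg N7123 = N10335 := rfl
theorem L88279 : sm gb N10335 = N10335 := ded_23_1 (flp_g L88277) L61057 L88277
theorem L88280 : sm gc N10335 = N7128 := ded_30_1 (flp_g L61100) (flp_c L61058) L88277
theorem L88282 : sm ge N10335 = N7124 := ded_41_1 (flp_g L61064) L61055 L88277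
theorem L88284 : sm gi N10335 = N10335 := ded_51_2 (flp_g L88277) L61062 L88277
theorem L88285 : sm gh N7123 = N10336 := rfl
theorem L88287 : sm gb N10336 = N10336 := ded_25_1 (flp_h L88285) L61057 L88285
theorem L88288 : sm gc N10336 = N7129 := ded_32_1 (flp_h L61108) (flp_c L61058) L88285
theorem L88290 : sm ge N10336 = N7125 := ded_43_1 (flp_h L61073) L61055 L88285
theorem L88292 : sm gf N10336 = N10336 := ded_47_1 (flp_h L88285) L61063 L88285
theorem L88293 : sm gj N10336 = N7154 := ded_52_1 (flp_h L61326) (flp_j L61060) L88285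
theorem L88295 : sm gj N7124 = N10337 := rfl
theorem L88297 : sm gb N10337 = N10337 := ded_24_1 (flp_j L88295) L61066 L88295
theorem L88298 : sm gc N10337 = N7130 := ded_31_1 (flp_j L61117) (flp_c L61067) L88295
theorem L88300 : sm gd N10337 = N7823 := ded_37_1 (flp_j L67197) (flp_d L61069) L88295
theorem L88302 : sm gf N10337 = N10337 := ded_46_1 (flp_j L88295) L61072 L88295
theorem L88303 : sm gi N10337 = N10337 := ded_53_2 (flp_j L88295) L61071 L88295
theorem L88304 : sm gg N10337 = N7155 := ded_49_1 (flp_j L61334) (flp_g L42513) (flp_j L42333) L61064 L88295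
theorem L88306 : sm gh N7124 = N10338 := rfl
theorem L88308 : sm gb N10338 = N10338 := ded_25_1 (flp_h L88306) L61066 L88306
theorem L88309 : sm gc N10338 = N7131 := ded_32_1 (flp_h L61127) (flp_c L61067) L88306
theorem L88311 : sm gf N10338 = N10338 := ded_47_1 (flp_h L88306) L61072 L88306
theorem L88312 : sm gg N10338 = N7125 := ded_50_1 (flp_h L61073) L61064 L88306
theorem L88314 : sm gd N7125 = N10339 := rfl
theorem L88316 : sm gb N10339 = N10339 := ded_20_1 (flp_d L88314) L61075 L88314
theorem L88317 : sm gf N10339 = N7126 := ded_35_2 (flp_d L61082) (flp_f L61078) L88314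
theorem L88319 : sm gj N10339 = N7157 := ded_37_2 (flp_d L61353) (flp_j L61080) L88314
theorem L88321 : sm gh N10339 = N7825 := ded_38_2 (flp_d L67214) (flp_h L46592) (flp_d L42331) L61073 L88314
theorem L88323 : sm gi N7125 = N10340 := rfl
theorem L88325 : sm gb N10340 = N10340 := ded_26_1 (flp_i L88323) L61075 L88323
theorem L88326 : sm gc N10340 = N7132 := ded_33_1 (flp_i L61134) (flp_c L61076) L88323
theorem L88328 : sm gf N10340 = N7127 := ded_48_1 (flp_i L61090) (flp_f L61078) L88323
theorem L88330 : sm gj N10340 = N7158 := ded_53_1 (flp_i L61360) (flp_j L61080) L88323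
theorem L88332 : sm gh N10340 = N10340 := ded_54_1 (flp_i L88323) (flp_h L61073) L42335 L61073 L88323
theorem L88333 : sm ge N7126 = N10341 := rfl
theorem L88335 : sm gb N10341 = N10341 := ded_21_1 (flp_e L88333) L61084 L88333
theorem L88336 : sm gg N10341 = N10341 := ded_41_2 (flp_e L88333) L61085 L88333
theorem L88337 : sm gj N10341 = N7159 := ded_42_2 (flp_e L61368) (flp_j L61086) L88333
theorem L88339 : sm gh N10341 = N7827 := ded_43_2 (flp_e L67231) (flp_h L61088) L88333
theorem L88341 : sm gd N10341 = N10341 := ded_34_1 (flp_e L88333) (flp_d L61082) L42341 L61082 L88333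
theorem L88342 : sm gi N7126 = N10342 := rfl
theorem L88344 : sm gb N10342 = N10342 := ded_26_1 (flp_i L88342) L61084 L88342
theorem L88345 : sm gd N10342 = N7127 := ded_39_1 (flp_i L61090) L61082 L88342
theorem L88347 : sm gg N10342 = N10342 := ded_51_1 (flp_i L88342) L61085 L88342
theorem L88348 : sm gj N10342 = N7160 := ded_53_1 (flp_i L61376) (flp_j L61086) L88342
theorem L88350 : sm gf N7128 = N10343 := rfl
theorem L88352 : sm gb N10343 = N7133 := ded_22_1 (flp_f L61143) (flp_b L61102) L88350
theorem L88354 : sm gd N10343 = N10343 := ded_35_1 (flp_f L88350) L61104 L88350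
theorem L88355 : sm gi N10343 = N10343 := ded_48_2 (flp_f L88350) L61107 L88350
theorem L88356 : sm ge N10343 = N10343 := ded_40_1 (flp_f L88350) L61105 L42361 (flp_e L61105) L88350
theorem L88357 : sm gg N10343 = N10343 := ded_45_2 (flp_f L88350) (flp_g L61100) L42353 L61100 L88350
theorem L88358 : sm gj N7128 = N10344 := rfl
theorem L88360 : sm gb N10344 = N7134 := ded_24_1 (flp_j L61151) (flp_b L61102) L88358
theorem L88362 : sm gd N10344 = N10344 := ded_37_1 (flp_j L88358) L61104 L88358
theorem L88363 : sm ge N10344 = N7130 := ded_42_1 (flp_j L61117) (flp_e L61105) L88358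
theorem L88365 : sm gi N10344 = N10344 := ded_53_2 (flp_j L88358) L61107 L88358
theorem L88366 : sm gg N10344 = N7162 := ded_49_1 (flp_j L61392) (flp_g L42546) (flp_j L42349) L61100 L88358
theorem L88368 : sm gh N7128 = N10345 := rfl
theorem L88370 : sm gb N10345 = N7135 := ded_25_1 (flp_h L61161) (flp_b L61102) L88368
theorem L88372 : sm ge N10345 = N7131 := ded_43_1 (flp_h L61127) (flp_e L61105) L88368
theorem L88374 : sm gg N10345 = N7129 := ded_50_1 (flp_h L61108) L61100 L88368
theorem L88376 : sm gd N7129 = N10346 := rfl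
theorem L88378 : sm gb N10346 = N7136 := ded_20_1 (flp_d L61169) (flp_b L61110) L88376
theorem L88380 : sm gf N10346 = N10346 := ded_35_2 (flp_d L88376) L61114 L88376
theorem L88381 : sm gj N10346 = N7164 := ded_37_2 (flp_d L61408) (flp_j L61115) L88376
theorem L88383 : sm gh N10346 = N10346 := ded_38_2 (flp_d L88376) (flp_h L61108) L42352 L61108 L88376
theorem L88384 : sm gi N7129 = N10347 := rfl
theorem L88386 : sm gb N10347 = N7137 := ded_26_1 (flp_i L61176) (flp_b L61110) L88384
theorem L88388 : sm ge N10347 = N7132 := ded_44_1 (flp_i L61134) (flp_e L61112) L88384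
theorem L88390 : sm gf N10347 = N10347 := ded_48_1 (flp_i L88384) L61114 L88384
theorem L88391 : sm gj N10347 = N7165 := ded_53_1 (flp_i L61414) (flp_j L61115) L88384
theorem L88393 : sm gh N10347 = N10347 := ded_54_1 (flp_i L88384) (flp_h L61108) L42351 L61108 L88384
theorem L88394 : sm gh N7130 = N10348 := rfl
theorem L88396 : sm gb N10348 = N7138 := ded_25_1 (flp_h L61186) (flp_b L61119) L88394
theorem L88398 : sm gf N10348 = N10348 := ded_47_1 (flp_h L88394) L61123 L88394
theorem L88399 : sm gg N10348 = N7166 := ded_50_1 (flp_h L61422) (flp_g L61125) L88394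
theorem L88401 : sm gj N10348 = N7131 := ded_52_1 (flp_h L61127) L61117 L88394
theorem L88403 : sm gi N7131 = N10349 := rfl
theorem L88405 : sm gb N10349 = N7139 := ded_26_1 (flp_i L61195) (flp_b L61129) L88403
theorem L88407 : sm gf N10349 = N10349 := ded_48_1 (flp_i L88403) L61131 L88403
theorem L88408 : sm gg N10349 = N7132 := ded_51_1 (flp_i L61134) (flp_g L61132) L88403
theorem L88410 : sm gh N10349 = N10349 := ded_54_1 (flp_i L88403) (flp_h L61127) L42360 L61127 L88403
theorem L88411 : sm gj N7133 = N10350 := rfl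
theorem L88413 : sm ga N10350 = N10350 := ded_16_1 (flp_j L88411) L61145 L88411
theorem L88414 : sm gc N10350 = N10350 := ded_31_1 (flp_j L88411) L61146 L88411
theorem L88415 : sm gd N10350 = N10350 := ded_37_1 (flp_j L88411) L61147 L88411
theorem L88416 : sm ge N10350 = N10350 := ded_42_1 (flp_j L88411) L61149 L88411
theorem L88417 : sm gf N10350 = N7134 := ded_46_1 (flp_j L61151) L61143 L88411
theorem L88419 : sm gi N10350 = N10350 := ded_53_2 (flp_j L88411) L61148 L88411
theorem L88420 : sm gh N7133 = N10351 := rfl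
theorem L88422 : sm ga N10351 = N10351 := ded_17_1 (flp_h L88420) L61145 L88420
theorem L88423 : sm gc N10351 = N10351 := ded_32_1 (flp_h L88420) L61146 L88420
theorem L88424 : sm ge N10351 = N10351 := ded_43_1 (flp_h L88420) L61149 L88420
theorem L88425 : sm gf N10351 = N7135 := ded_47_1 (flp_h L61161) L61143 L88420
theorem L88427 : sm gg N10351 = N10351 := ded_50_1 (flp_h L88420) L61150 L88420
theorem L88428 : sm gh N7134 = N10352 := rfl
theorem L88430 : sm ga N10352 = N10352 := ded_17_1 (flp_h L88428) L61153 L88428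
theorem L88431 : sm gc N10352 = N10352 := ded_32_1 (flp_h L88428) L61154 L88428
theorem L88432 : sm ge N10352 = N7138 := ded_43_1 (flp_h L61186) (flp_e L61156) L88428
theorem L88434 : sm gg N10352 = N7170 := ded_50_1 (flp_h L61458) (flp_g L61159) L88428
theorem L88436 : sm gj N10352 = N7135 := ded_52_1 (flp_h L61161) L61151 L88428
theorem L88438 : sm gd N7135 = N10353 := rfl
theorem L88440 : sm ga N10353 = N10353 := ded_12_1 (flp_d L88438) L61163 L88438
theorem L88441 : sm gg N10353 = N7136 := ded_36_2 (flp_d L61169) (flp_g L61167) L88438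
theorem L88443 : sm gh N10353 = N10353 := ded_38_2 (flp_d L88438) (flp_h L61161) L42394 L61161 L88438
theorem L88444 : sm gi N7135 = N10354 := rfl
theorem L88446 : sm ga N10354 = N10354 := ded_18_1 (flp_i L88444) L61163 L88444
theorem L88447 : sm gc N10354 = N10354 := ded_33_1 (flp_i L88444) L61164 L88444
theorem L88448 : sm ge N10354 = N7139 := ded_44_1 (flp_i L61195) (flp_e L61165) L88444
theorem L88450 : sm gg N10354 = N7137 := ded_51_1 (flp_i L61176) (flp_g L61167) L88444
theorem L88452 : sm gh N10354 = N10354 := ded_54_1 (flp_i L88444) (flp_h L61161) L42397 L61161 L88444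
theorem L88453 : sm gc N7136 = N10355 := rfl
theorem L88455 : sm ga N10355 = N10355 := ded_11_1 (flp_c L88453) L61171 L88453
theorem L88456 : sm gf N10355 = N10355 := ded_29_2 (flp_c L88453) L61172 L88453
theorem L88457 : sm gj N10355 = N7173 := ded_31_2 (flp_c L61481) (flp_j L61173) L88453
theorem L88459 : sm gh N10355 = N10355 := ded_32_2 (flp_c L88453) L61175 L88453
theorem L88460 : sm gd N10355 = N10355 := ded_27_2 (flp_c L88453) (flp_d L61169) L42401 L61169 L88453
theorem L88461 : sm gi N7136 = N10356 := rfl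
theorem L88463 : sm ga N10356 = N10356 := ded_18_1 (flp_i L88461) L61171 L88461
theorem L88464 : sm gd N10356 = N7137 := ded_39_1 (flp_i L61176) L61169 L88461
theorem L88466 : sm gf N10356 = N10356 := ded_48_1 (flp_i L88461) L61172 L88461
theorem L88467 : sm gj N10356 = N7174 := ded_53_1 (flp_i L61487) (flp_j L61173) L88461
theorem L88469 : sm gi N7138 = N10357 := rfl
theorem L88471 : sm ga N10357 = N10357 := ded_18_1 (flp_i L88469) L61188 L88469
theorem L88472 : sm gc N10357 = N10357 := ded_33_1 (flp_i L88469) L61189 L88469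
theorem L88473 : sm gf N10357 = N10357 := ded_48_1 (flp_i L88469) L61190 L88469
theorem L88474 : sm gg N10357 = N7175 := ded_51_1 (flp_i L61493) (flp_g L61191) L88469
theorem L88476 : sm gj N10357 = N7139 := ded_53_1 (flp_i L61195) (flp_j L61193) L88469
theorem L88478 : sm gh N10357 = N10357 := ded_54_1 (flp_i L88469) (flp_h L61186) L42414 L61186 L88469
theorem L88479 : sm ge N7140 = N10358 := rfl
theorem L88482 : sm gb N10358 = N7142 := ded_21_1 (flp_e L61221) (flp_b L61206) L88479
theorem L88487 : sm gg N7140 = N10359 := rfl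
theorem L88490 : sm gb N10359 = N7143 := ded_23_1 (flp_g L61229) (flp_b L61206) L88487
theorem L88493 : sm gd N10359 = N7845 := ded_36_1 (flp_g L67401) (flp_d L61209) L88487
theorem L88496 : sm gf N10359 = N7177 := ded_45_1 (flp_g L61512) (flp_f L42640) (flp_g L42438) L61203 L88487
theorem L88498 : sm gh N7140 = N10360 := rfl
theorem L88501 : sm gb N10360 = N7144 := ded_25_1 (flp_h L61240) (flp_b L61206) L88498
theorem L88506 : sm gd N7141 = N10361 := rfl
theorem L88513 : sm gh N10361 = N7847 := ded_38_2 (flp_d L67420) (flp_h L46740) (flp_d L42435) L61212 L88506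
theorem L88515 : sm gi N7141 = N10362 := rfl
theorem L88522 : sm gg N10362 = N7180 := ded_51_1 (flp_i L61538) (flp_g L61219) L88515
theorem L88525 : sm gd N7142 = N10363 := rfl
theorem L88527 : sm ga N10363 = N7152 := ded_12_1 (flp_d L61310) (flp_a L61223) L88525
theorem L88529 : sm gf N10363 = N10363 := ded_35_2 (flp_d L88525) L61228 L88525
theorem L88530 : sm gi N10363 = N10363 := ded_39_2 (flp_d L88525) L61227 L88525
theorem L88531 : sm gc N10363 = N10363 := ded_27_1 (flp_d L88525) L61225 L42467 (flp_c L61225) L88525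
theorem L88532 : sm ge N10363 = N7849 := ded_34_2 (flp_d L67439) (flp_e L46751) (flp_d L42449) L61221 L88525
theorem L88534 : sm gg N7142 = N10364 := rfl
theorem L88536 : sm ga N10364 = N7153 := ded_15_1 (flp_g L61318) (flp_a L61223) L88534
theorem L88538 : sm gc N10364 = N7147 := ded_30_1 (flp_g L61266) (flp_c L61225) L88534
theorem L88540 : sm ge N10364 = N7143 := ded_41_1 (flp_g L61229) L61221 L88534
theorem L88542 : sm gi N10364 = N10364 := ded_51_2 (flp_g L88534) L61227 L88534
theorem L88543 : sm gh N7142 = N10365 := rfl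
theorem L88545 : sm ga N10365 = N7154 := ded_17_1 (flp_h L61326) (flp_a L61223) L88543
theorem L88547 : sm gc N10365 = N7148 := ded_32_1 (flp_h L61275) (flp_c L61225) L88543
theorem L88549 : sm ge N10365 = N7144 := ded_43_1 (flp_h L61240) L61221 L88543
theorem L88551 : sm gf N10365 = N10365 := ded_47_1 (flp_h L88543) L61228 L88543
theorem L88552 : sm gj N7143 = N10366 := rfl
theorem L88554 : sm ga N10366 = N7155 := ded_16_1 (flp_j L61334) (flp_a L61231) L88552
theorem L88556 : sm gc N10366 = N7149 := ded_31_1 (flp_j L61283) (flp_c L61233) L88552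
theorem L88558 : sm gd N10366 = N7852 := ded_37_1 (flp_j L67467) (flp_d L61235) L88552
theorem L88560 : sm gf N10366 = N7183 := ded_46_1 (flp_j L61567) (flp_f L61238) L88552
theorem L88562 : sm gi N10366 = N10366 := ded_53_2 (flp_j L88552) L61237 L88552
theorem L88563 : sm gh N7143 = N10367 := rfl
theorem L88565 : sm ga N10367 = N7156 := ded_17_1 (flp_h L61344) (flp_a L61231) L88563
theorem L88567 : sm gc N10367 = N7150 := ded_32_1 (flp_h L61293) (flp_c L61233) L88563
theorem L88569 : sm gf N10367 = N7184 := ded_47_1 (flp_h L61577) (flp_f L61238) L88563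
theorem L88571 : sm gg N10367 = N7144 := ded_50_1 (flp_h L61240) L61229 L88563
theorem L88573 : sm gd N7144 = N10368 := rfl
theorem L88575 : sm ga N10368 = N7157 := ded_12_1 (flp_d L61353) (flp_a L61242) L88573
theorem L88577 : sm gf N10368 = N7145 := ded_35_2 (flp_d L61248) (flp_f L61246) L88573
theorem L88579 : sm gh N10368 = N7854 := ded_38_2 (flp_d L67486) (flp_h L46769) (flp_d L42449) L61240 L88573
theorem L88581 : sm gi N7144 = N10369 := rfl
theorem L88583 : sm ga N10369 = N7158 := ded_18_1 (flp_i L61360) (flp_a L61242) L88581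
theorem L88585 : sm gc N10369 = N7151 := ded_33_1 (flp_i L61302) (flp_c L61244) L88581
theorem L88587 : sm gf N10369 = N7146 := ded_48_1 (flp_i L61256) (flp_f L61246) L88581
theorem L88589 : sm gh N10369 = N10369 := ded_54_1 (flp_i L88581) (flp_h L61240) L42451 L61240 L88581
theorem L88590 : sm ge N7145 = N10370 := rfl
theorem L88592 : sm ga N10370 = N7159 := ded_13_1 (flp_e L61368) (flp_a L61250) L88590
theorem L88594 : sm gg N10370 = N7187 := ded_41_2 (flp_e L61604) (flp_g L61252) L88590
theorem L88596 : sm gh N10370 = N7856 := ded_43_2 (flp_e L67501) (flp_h L61254) L88590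
theorem L88599 : sm gi N7145 = N10371 := rfl
theorem L88601 : sm ga N10371 = N7160 := ded_18_1 (flp_i L61376) (flp_a L61250) L88599
theorem L88603 : sm gd N10371 = N7146 := ded_39_1 (flp_i L61256) L61248 L88599
theorem L88607 : sm gf N7147 = N10372 := rfl
theorem L88609 : sm ga N10372 = N7161 := ded_14_1 (flp_f L61383) (flp_a L61268) L88607
theorem L88611 : sm gb N10372 = N10372 := ded_22_1 (flp_f L88607) L61270 L88607
theorem L88612 : sm gd N10372 = N10372 := ded_35_1 (flp_f L88607) L61271 L88607
theorem L88613 : sm gi N10372 = N10372 := ded_48_2 (flp_f L88607) L61274 L88607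
theorem L88614 : sm ge N10372 = N7189 := ded_40_1 (flp_f L61619) L42709 (flp_f L42477) (flp_e L61272) L88607
theorem L88616 : sm gg N10372 = N10372 := ded_45_2 (flp_f L88607) (flp_g L61266) L42468 L61266 L88607
theorem L88617 : sm gj N7147 = N10373 := rfl
theorem L88619 : sm ga N10373 = N7162 := ded_16_1 (flp_j L61392) (flp_a L61268) L88617
theorem L88621 : sm gb N10373 = N10373 := ded_24_1 (flp_j L88617) L61270 L88617
theorem L88622 : sm gd N10373 = N10373 := ded_37_1 (flp_j L88617) L61271 L88617
theorem L88623 : sm ge N10373 = N7149 := ded_42_1 (flp_j L61283) (flp_e L61272) L88617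
theorem L88625 : sm gi N10373 = N10373 := ded_53_2 (flp_j L88617) L61274 L88617
theorem L88626 : sm gh N7147 = N10374 := rfl
theorem L88628 : sm ga N10374 = N7163 := ded_17_1 (flp_h L61400) (flp_a L61268) L88626
theorem L88630 : sm gb N10374 = N10374 := ded_25_1 (flp_h L88626) L61270 L88626
theorem L88631 : sm ge N10374 = N7150 := ded_43_1 (flp_h L61293) (flp_e L61272) L88626
theorem L88633 : sm gg N10374 = N7148 := ded_50_1 (flp_h L61275) L61266 L88626
theorem L88635 : sm gd N7148 = N10375 := rfl
theorem L88637 : sm ga N10375 = N7164 := ded_12_1 (flp_d L61408) (flp_a L61277) L88635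
theorem L88639 : sm gb N10375 = N10375 := ded_20_1 (flp_d L88635) L61279 L88635
theorem L88640 : sm gf N10375 = N10375 := ded_35_2 (flp_d L88635) L61282 L88635
theorem L88641 : sm gh N10375 = N10375 := ded_38_2 (flp_d L88635) (flp_h L61275) L42467 L61275 L88635
theorem L88642 : sm gi N7148 = N10376 := rfl
theorem L88644 : sm ga N10376 = N7165 := ded_18_1 (flp_i L61414) (flp_a L61277) L88642
theorem L88646 : sm gb N10376 = N10376 := ded_26_1 (flp_i L88642) L61279 L88642
theorem L88647 : sm ge N10376 = N7151 := ded_44_1 (flp_i L61302) (flp_e L61280) L88642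
theorem L88649 : sm gf N10376 = N10376 := ded_48_1 (flp_i L88642) L61282 L88642
theorem L88650 : sm gh N10376 = N10376 := ded_54_1 (flp_i L88642) (flp_h L61275) L42466 L61275 L88642
theorem L88651 : sm gh N7149 = N10377 := rfl
theorem L88653 : sm ga N10377 = N7166 := ded_17_1 (flp_h L61422) (flp_a L61285) L88651
theorem L88655 : sm gb N10377 = N10377 := ded_25_1 (flp_h L88651) L61287 L88651
theorem L88656 : sm gf N10377 = N7194 := ded_47_1 (flp_h L61667) (flp_f L61290) L88651
theorem L88658 : sm gj N10377 = N7150 := ded_52_1 (flp_h L61293) L61283 L88651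
theorem L88660 : sm gi N7150 = N10378 := rfl
theorem L88662 : sm ga N10378 = N7167 := ded_18_1 (flp_i L61430) (flp_a L61295) L88660
theorem L88664 : sm gb N10378 = N10378 := ded_26_1 (flp_i L88660) L61297 L88660
theorem L88665 : sm gf N10378 = N7195 := ded_48_1 (flp_i L61675) (flp_f L61298) L88660
theorem L88667 : sm gg N10378 = N7151 := ded_51_1 (flp_i L61302) (flp_g L61300) L88660
theorem L88669 : sm gh N10378 = N10378 := ded_54_1 (flp_i L88660) (flp_h L61293) L42476 L61293 L88660
theorem L88670 : sm gg N7152 = N10379 := rfl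
theorem L88672 : sm gb N10379 = N10379 := ded_23_1 (flp_g L88670) L61312 L88670
theorem L88673 : sm gc N10379 = N10379 := ded_30_1 (flp_g L88670) L61315 L88670
theorem L88674 : sm gd N10379 = N7153 := ded_36_1 (flp_g L61318) L61310 L88670
theorem L88676 : sm ge N10379 = N7864 := ded_41_1 (flp_g L67580) (flp_e L61316) L88670
theorem L88678 : sm gi N10379 = N10379 := ded_51_2 (flp_g L88670) L61314 L88670
theorem L88679 : sm gh N7152 = N10380 := rfl
theorem L88681 : sm gb N10380 = N10380 := ded_25_1 (flp_h L88679) L61312 L88679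
theorem L88682 : sm gc N10380 = N10380 := ded_32_1 (flp_h L88679) L61315 L88679
theorem L88683 : sm ge N10380 = N7865 := ded_43_1 (flp_h L67588) (flp_e L61316) L88679
theorem L88685 : sm gf N10380 = N10380 := ded_47_1 (flp_h L88679) L61313 L88679
theorem L88686 : sm gf N7153 = N10381 := rfl
theorem L88688 : sm gb N10381 = N10381 := ded_22_1 (flp_f L88686) L61320 L88686
theorem L88689 : sm gc N10381 = N7161 := ded_29_1 (flp_f L61383) (flp_c L61321) L88686
theorem L88691 : sm gi N10381 = N10381 := ded_48_2 (flp_f L88686) L61325 L88686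
theorem L88692 : sm ge N10381 = N7196 := ded_40_1 (flp_f L61683) L42752 (flp_f L42521) (flp_e L61323) L88686
theorem L88694 : sm gg N10381 = N10381 := ded_45_2 (flp_f L88686) (flp_g L61318) L42512 L61318 L88686
theorem L88695 : sm gj N7153 = N10382 := rfl
theorem L88697 : sm gb N10382 = N10382 := ded_24_1 (flp_j L88695) L61320 L88695
theorem L88698 : sm gc N10382 = N7162 := ded_31_1 (flp_j L61392) (flp_c L61321) L88695
theorem L88700 : sm ge N10382 = N7155 := ded_42_1 (flp_j L61334) (flp_e L61323) L88695
theorem L88702 : sm gi N10382 = N10382 := ded_53_2 (flp_j L88695) L61325 L88695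
theorem L88703 : sm gh N7153 = N10383 := rfl
theorem L88705 : sm gb N10383 = N10383 := ded_25_1 (flp_h L88703) L61320 L88703
theorem L88706 : sm gc N10383 = N7163 := ded_32_1 (flp_h L61400) (flp_c L61321) L88703
theorem L88708 : sm ge N10383 = N7156 := ded_43_1 (flp_h L61344) (flp_e L61323) L88703
theorem L88710 : sm gg N10383 = N7154 := ded_50_1 (flp_h L61326) L61318 L88703
theorem L88712 : sm gd N7154 = N10384 := rfl
theorem L88714 : sm gb N10384 = N10384 := ded_20_1 (flp_d L88712) L61328 L88712
theorem L88715 : sm gf N10384 = N10384 := ded_35_2 (flp_d L88712) L61333 L88712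
theorem L88716 : sm gi N7154 = N10385 := rfl
theorem L88718 : sm gb N10385 = N10385 := ded_26_1 (flp_i L88716) L61328 L88716
theorem L88719 : sm gc N10385 = N7165 := ded_33_1 (flp_i L61414) (flp_c L61329) L88716
theorem L88721 : sm ge N10385 = N7158 := ded_44_1 (flp_i L61360) (flp_e L61331) L88716
theorem L88723 : sm gf N10385 = N10385 := ded_48_1 (flp_i L88716) L61333 L88716
theorem L88724 : sm gh N10385 = N10385 := ded_54_1 (flp_i L88716) (flp_h L61326) L42511 L61326 L88716
theorem L88725 : sm gh N7155 = N10386 := rfl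
theorem L88727 : sm gb N10386 = N10386 := ded_25_1 (flp_h L88725) L61336 L88725
theorem L88728 : sm gc N10386 = N7166 := ded_32_1 (flp_h L61422) (flp_c L61337) L88725
theorem L88730 : sm gf N10386 = N7201 := ded_47_1 (flp_h L61726) (flp_f L61341) L88725
theorem L88732 : sm gj N10386 = N7156 := ded_52_1 (flp_h L61344) L61334 L88725
theorem L88734 : sm gd N7156 = N10387 := rfl
theorem L88736 : sm gb N10387 = N10387 := ded_20_1 (flp_d L88734) L61346 L88734
theorem L88737 : sm gf N10387 = N7202 := ded_35_2 (flp_d L61734) (flp_f L61349) L88734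
theorem L88739 : sm gg N10387 = N7157 := ded_36_2 (flp_d L61353) (flp_g L61351) L88734
theorem L88741 : sm gh N10387 = N7871 := ded_38_2 (flp_d L67637) (flp_h L46878) (flp_d L42518) L61344 L88734
theorem L88743 : sm gi N7156 = N10388 := rfl
theorem L88745 : sm gb N10388 = N10388 := ded_26_1 (flp_i L88743) L61346 L88743
theorem L88746 : sm gc N10388 = N7167 := ded_33_1 (flp_i L61430) (flp_c L61347) L88743
theorem L88748 : sm gf N10388 = N7203 := ded_48_1 (flp_i L61741) (flp_f L61349) L88743
theorem L88750 : sm gg N10388 = N7158 := ded_51_1 (flp_i L61360) (flp_g L61351) L88743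
theorem L88752 : sm gh N10388 = N10388 := ded_54_1 (flp_i L88743) (flp_h L61344) L42520 L61344 L88743
theorem L88753 : sm ge N7157 = N10389 := rfl
theorem L88755 : sm gb N10389 = N10389 := ded_21_1 (flp_e L88753) L61355 L88753
theorem L88756 : sm gh N10389 = N7873 := ded_43_2 (flp_e L67654) (flp_h L61358) L88753
theorem L88758 : sm gi N7157 = N10390 := rfl
theorem L88760 : sm gb N10390 = N10390 := ded_26_1 (flp_i L88758) L61355 L88758
theorem L88761 : sm gd N10390 = N7158 := ded_39_1 (flp_i L61360) L61353 L88758
theorem L88763 : sm gf N10390 = N7160 := ded_48_1 (flp_i L61376) (flp_f L61356) L88758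
theorem L88765 : sm gf N7159 = N10391 := rfl
theorem L88767 : sm gb N10391 = N10391 := ded_22_1 (flp_f L88765) L61370 L88765
theorem L88768 : sm gd N10391 = N10391 := ded_35_1 (flp_f L88765) L61375 L88765
theorem L88769 : sm gh N10391 = N7875 := ded_47_2 (flp_f L67664) (flp_h L61373) L88765
theorem L88771 : sm gi N7159 = N10392 := rfl
theorem L88773 : sm gb N10392 = N10392 := ded_26_1 (flp_i L88771) L61370 L88771
theorem L88774 : sm gd N10392 = N10392 := ded_39_1 (flp_i L88771) L61375 L88771
theorem L88775 : sm ge N10392 = N7160 := ded_44_1 (flp_i L61376) L61368 L88771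
theorem L88777 : sm gg N10392 = N7207 := ded_51_1 (flp_i L61770) (flp_g L61371) L88771
theorem L88787 : sm gj N7161 = N10394 := rfl
theorem L88789 : sm gb N10394 = N7168 := ded_24_1 (flp_j L61439) (flp_b L61385) L88787
theorem L88791 : sm gd N10394 = N10394 := ded_37_1 (flp_j L88787) L61387 L88787
theorem L88792 : sm ge N10394 = N7209 := ded_42_1 (flp_j L61784) (flp_e L61389) L88787
theorem L88794 : sm gf N10394 = N7162 := ded_46_1 (flp_j L61392) L61383 L88787
theorem L88796 : sm gi N10394 = N10394 := ded_53_2 (flp_j L88787) L61388 L88787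
theorem L88797 : sm gh N7161 = N10395 := rfl
theorem L88799 : sm gb N10395 = N7169 := ded_25_1 (flp_h L61449) (flp_b L61385) L88797
theorem L88801 : sm ge N10395 = N7210 := ded_43_1 (flp_h L61793) (flp_e L61389) L88797
theorem L88803 : sm gf N10395 = N7163 := ded_47_1 (flp_h L61400) L61383 L88797
theorem L88805 : sm gg N10395 = N10395 := ded_50_1 (flp_h L88797) L61391 L88797
theorem L88806 : sm gh N7162 = N10396 := rfl
theorem L88808 : sm gb N10396 = N7170 := ded_25_1 (flp_h L61458) (flp_b L61394) L88806
theorem L88810 : sm ge N10396 = N7166 := ded_43_1 (flp_h L61422) (flp_e L61397) L88806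
theorem L88812 : sm gj N10396 = N7163 := ded_52_1 (flp_h L61400) L61392 L88806
theorem L88814 : sm gd N7163 = N10397 := rfl
theorem L88816 : sm gb N10397 = N7171 := ded_20_1 (flp_d L61466) (flp_b L61402) L88814
theorem L88818 : sm gg N10397 = N7164 := ded_36_2 (flp_d L61408) (flp_g L61406) L88814
theorem L88820 : sm gh N10397 = N10397 := ded_38_2 (flp_d L88814) (flp_h L61400) L42550 L61400 L88814
theorem L88821 : sm gi N7163 = N10398 := rfl
theorem L88823 : sm gb N10398 = N7172 := ded_26_1 (flp_i L61472) (flp_b L61402) L88821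
theorem L88825 : sm ge N10398 = N7167 := ded_44_1 (flp_i L61430) (flp_e L61404) L88821
theorem L88827 : sm gg N10398 = N7165 := ded_51_1 (flp_i L61414) (flp_g L61406) L88821
theorem L88829 : sm gh N10398 = N10398 := ded_54_1 (flp_i L88821) (flp_h L61400) L42553 L61400 L88821
theorem L88830 : sm gc N7164 = N10399 := rfl
theorem L88832 : sm gf N10399 = N10399 := ded_29_2 (flp_c L88830) L61412 L88830
theorem L88833 : sm gh N10399 = N10399 := ded_32_2 (flp_c L88830) L61413 L88830
theorem L88834 : sm gi N7164 = N10400 := rfl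
theorem L88836 : sm gb N10400 = N7174 := ded_26_1 (flp_i L61487) (flp_b L61410) L88834
theorem L88838 : sm gd N10400 = N7165 := ded_39_1 (flp_i L61414) L61408 L88834
theorem L88840 : sm gf N10400 = N10400 := ded_48_1 (flp_i L88834) L61412 L88834
theorem L88841 : sm gi N7166 = N10401 := rfl
theorem L88843 : sm gb N10401 = N7175 := ded_26_1 (flp_i L61493) (flp_b L61424) L88841
theorem L88845 : sm gf N10401 = N7216 := ded_48_1 (flp_i L61840) (flp_f L61426) L88841
theorem L88847 : sm gj N10401 = N7167 := ded_53_1 (flp_i L61430) (flp_j L61428) L88841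
theorem L88849 : sm gh N10401 = N10401 := ded_54_1 (flp_i L88841) (flp_h L61422) L42569 L61422 L88841
theorem L88850 : sm gg N7168 = N10402 := rfl
theorem L88852 : sm ga N10402 = N10402 := ded_15_1 (flp_g L88850) L61441 L88850
theorem L88853 : sm gc N10402 = N10402 := ded_30_1 (flp_g L88850) L61442 L88850
theorem L88854 : sm gd N10402 = N10402 := ded_36_1 (flp_g L88850) L61443 L88850
theorem L88855 : sm ge N10402 = N7217 := ded_41_1 (flp_g L61848) (flp_e L61444) L88850
theorem L88857 : sm gi N10402 = N10402 := ded_51_2 (flp_g L88850) L61448 L88850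
theorem L88858 : sm gj N10402 = N10402 := ded_49_2 (flp_g L88850) (flp_j L61439) L42593 L61439 L88850
theorem L88859 : sm gh N7168 = N10403 := rfl
theorem L88861 : sm ga N10403 = N10403 := ded_17_1 (flp_h L88859) L61441 L88859
theorem L88862 : sm gc N10403 = N10403 := ded_32_1 (flp_h L88859) L61442 L88859
theorem L88863 : sm ge N10403 = N7218 := ded_43_1 (flp_h L61857) (flp_e L61444) L88859
theorem L88865 : sm gf N10403 = N7170 := ded_47_1 (flp_h L61458) (flp_f L61446) L88859
theorem L88867 : sm gj N10403 = N7169 := ded_52_1 (flp_h L61449) L61439 L88859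
theorem L88869 : sm gd N7169 = N10404 := rfl
theorem L88871 : sm ga N10404 = N10404 := ded_12_1 (flp_d L88869) L61451 L88869
theorem L88872 : sm gf N10404 = N7171 := ded_35_2 (flp_d L61466) (flp_f L61455) L88869
theorem L88874 : sm gg N10404 = N10404 := ded_36_2 (flp_d L88869) L61457 L88869
theorem L88875 : sm gh N10404 = N10404 := ded_38_2 (flp_d L88869) (flp_h L61449) L42589 L61449 L88869
theorem L88876 : sm gi N7169 = N10405 := rfl
theorem L88878 : sm ga N10405 = N10405 := ded_18_1 (flp_i L88876) L61451 L88876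
theorem L88879 : sm gc N10405 = N10405 := ded_33_1 (flp_i L88876) L61452 L88876
theorem L88880 : sm ge N10405 = N7220 := ded_44_1 (flp_i L61873) (flp_e L61453) L88876
theorem L88882 : sm gf N10405 = N7172 := ded_48_1 (flp_i L61472) (flp_f L61455) L88876
theorem L88884 : sm gg N10405 = N10405 := ded_51_1 (flp_i L88876) L61457 L88876
theorem L88885 : sm gh N10405 = N10405 := ded_54_1 (flp_i L88876) (flp_h L61449) L42590 L61449 L88876
theorem L88886 : sm gd N7170 = N10406 := rfl
theorem L88888 : sm ga N10406 = N10406 := ded_12_1 (flp_d L88886) L61460 L88886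
theorem L88889 : sm gj N10406 = N7171 := ded_37_2 (flp_d L61466) (flp_j L61464) L88886
theorem L88891 : sm gh N10406 = N10406 := ded_38_2 (flp_d L88886) (flp_h L61458) L42598 L61458 L88886
theorem L88892 : sm gi N7170 = N10407 := rfl
theorem L88894 : sm ga N10407 = N10407 := ded_18_1 (flp_i L88892) L61460 L88892
theorem L88895 : sm gc N10407 = N10407 := ded_33_1 (flp_i L88892) L61461 L88892
theorem L88896 : sm ge N10407 = N7175 := ded_44_1 (flp_i L61493) (flp_e L61462) L88892
theorem L88898 : sm gj N10407 = N7172 := ded_53_1 (flp_i L61472) (flp_j L61464) L88892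
theorem L88900 : sm gh N10407 = N10407 := ded_54_1 (flp_i L88892) (flp_h L61458) L42601 L61458 L88892
theorem L88901 : sm gc N7171 = N10408 := rfl
theorem L88903 : sm ga N10408 = N10408 := ded_11_1 (flp_c L88901) L61468 L88901
theorem L88904 : sm gg N10408 = N7173 := ded_30_2 (flp_c L61481) (flp_g L61469) L88901
theorem L88906 : sm gh N10408 = N10408 := ded_32_2 (flp_c L88901) L61471 L88901
theorem L88907 : sm gd N10408 = N10408 := ded_27_2 (flp_c L88901) (flp_d L61466) L42605 L61466 L88901
theorem L88908 : sm gi N7171 = N10409 := rfl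
theorem L88910 : sm ga N10409 = N10409 := ded_18_1 (flp_i L88908) L61468 L88908
theorem L88911 : sm gd N10409 = N7172 := ded_39_1 (flp_i L61472) L61466 L88908
theorem L88913 : sm gg N10409 = N7174 := ded_51_1 (flp_i L61487) (flp_g L61469) L88908
theorem L88915 : sm gb N7173 = N10410 := rfl
theorem L88917 : sm gd N10410 = N10410 := ded_20_2 (flp_b L88915) L61486 L88915
theorem L88918 : sm gf N10410 = N10410 := ded_22_2 (flp_b L88915) L61484 L88915
theorem L88919 : sm gh N10410 = N10410 := ded_25_2 (flp_b L88915) L61485 L88915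
theorem L88920 : sm gi N7173 = N10411 := rfl
theorem L88922 : sm ga N10411 = N10411 := ded_18_1 (flp_i L88920) L61483 L88920
theorem L88923 : sm gc N10411 = N7174 := ded_33_1 (flp_i L61487) L61481 L88920
theorem L88925 : sm gd N10411 = N10411 := ded_39_1 (flp_i L88920) L61486 L88920
theorem L88926 : sm gf N10411 = N10411 := ded_48_1 (flp_i L88920) L61484 L88920
theorem L88927 : sm gh N7174 = N10412 := rfl
theorem L88929 : sm ga N10412 = N10412 := ded_17_1 (flp_h L88927) L61489 L88927
theorem L88930 : sm gf N10412 = N10412 := ded_47_1 (flp_h L88927) L61492 L88927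
theorem L88931 : sm gd N10412 = N10412 := ded_38_1 (flp_h L88927) L61490 L42622 (flp_d L61490) L88927
theorem L88932 : sm gi N10412 = N10412 := ded_54_2 (flp_h L88927) (flp_i L61487) L42614 L61487 L88927
theorem L88933 : sm gg N7176 = N10413 := rfl
theorem L88936 : sm gb N10413 = N7181 := ded_23_1 (flp_g L61547) (flp_b L61505) L88933
theorem L88940 : sm ge N10413 = N7177 := ded_41_1 (flp_g L61512) L61502 L88933
theorem L88943 : sm gh N7176 = N10414 := rfl
theorem L88946 : sm gb N10414 = N7182 := ded_25_1 (flp_h L61557) (flp_b L61505) L88943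
theorem L88953 : sm gj N7177 = N10415 := rfl
theorem L88956 : sm gb N10415 = N7183 := ded_24_1 (flp_j L61567) (flp_b L61515) L88953
theorem L88963 : sm gh N7177 = N10416 := rfl
theorem L88966 : sm gb N10416 = N7184 := ded_25_1 (flp_h L61577) (flp_b L61515) L88963
theorem L88971 : sm gd N7178 = N10417 := rfl
theorem L88979 : sm gh N10417 = N7893 := ded_38_2 (flp_d L67813) (flp_h L47029) (flp_d L42646) L61521 L88971
theorem L88998 : sm ge N7179 = N10420 := rfl
theorem L89004 : sm gh N10420 = N7896 := ded_43_2 (flp_e L67839) (flp_h L61536) L88998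
theorem L89015 : sm gf N7181 = N10422 := rfl
theorem L89017 : sm ga N10422 = N7196 := ded_14_1 (flp_f L61683) (flp_a L61549) L89015
theorem L89019 : sm gc N10422 = N7189 := ded_29_1 (flp_f L61619) (flp_c L61551) L89015
theorem L89021 : sm gd N10422 = N10422 := ded_35_1 (flp_f L89015) L61553 L89015
theorem L89022 : sm gi N10422 = N10422 := ded_48_2 (flp_f L89015) L61556 L89015
theorem L89023 : sm gg N10422 = N10422 := ded_45_2 (flp_f L89015) (flp_g L61547) L42667 L61547 L89015
theorem L89024 : sm gj N7181 = N10423 := rfl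
theorem L89026 : sm ga N10423 = N7197 := ded_16_1 (flp_j L61691) (flp_a L61549) L89024
theorem L89028 : sm gc N10423 = N7190 := ded_31_1 (flp_j L61628) (flp_c L61551) L89024
theorem L89030 : sm gd N10423 = N10423 := ded_37_1 (flp_j L89024) L61553 L89024
theorem L89031 : sm ge N10423 = N7183 := ded_42_1 (flp_j L61567) (flp_e L61554) L89024
theorem L89033 : sm gi N10423 = N10423 := ded_53_2 (flp_j L89024) L61556 L89024
theorem L89034 : sm gg N10423 = N10423 := ded_49_1 (flp_j L89024) (flp_g L61547) L42664 L61547 L89024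
theorem L89035 : sm gh N7181 = N10424 := rfl
theorem L89037 : sm ga N10424 = N7198 := ded_17_1 (flp_h L61701) (flp_a L61549) L89035
theorem L89039 : sm gc N10424 = N7191 := ded_32_1 (flp_h L61639) (flp_c L61551) L89035
theorem L89041 : sm ge N10424 = N7184 := ded_43_1 (flp_h L61577) (flp_e L61554) L89035
theorem L89043 : sm gg N10424 = N7182 := ded_50_1 (flp_h L61557) L61547 L89035
theorem L89045 : sm gd N7182 = N10425 := rfl
theorem L89047 : sm ga N10425 = N7199 := ded_12_1 (flp_d L61710) (flp_a L61559) L89045
theorem L89049 : sm gf N10425 = N10425 := ded_35_2 (flp_d L89045) L61565 L89045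
theorem L89050 : sm gj N10425 = N10425 := ded_37_2 (flp_d L89045) L61566 L89045
theorem L89051 : sm gh N10425 = N10425 := ded_38_2 (flp_d L89045) (flp_h L61557) L42666 L61557 L89045
theorem L89052 : sm gi N7182 = N10426 := rfl
theorem L89054 : sm ga N10426 = N7200 := ded_18_1 (flp_i L61716) (flp_a L61559) L89052
theorem L89056 : sm gc N10426 = N7193 := ded_33_1 (flp_i L61657) (flp_c L61561) L89052
theorem L89058 : sm ge N10426 = N7186 := ded_44_1 (flp_i L61594) (flp_e L61563) L89052
theorem L89060 : sm gf N10426 = N10426 := ded_48_1 (flp_i L89052) L61565 L89052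
theorem L89061 : sm gj N10426 = N10426 := ded_53_1 (flp_i L89052) L61566 L89052
theorem L89062 : sm gh N10426 = N10426 := ded_54_1 (flp_i L89052) (flp_h L61557) L42665 L61557 L89052
theorem L89063 : sm gh N7183 = N10427 := rfl
theorem L89065 : sm ga N10427 = N7201 := ded_17_1 (flp_h L61726) (flp_a L61569) L89063
theorem L89067 : sm gc N10427 = N7194 := ded_32_1 (flp_h L61667) (flp_c L61571) L89063
theorem L89069 : sm gg N10427 = N10427 := ded_50_1 (flp_h L89063) L61576 L89063
theorem L89070 : sm gj N10427 = N7184 := ded_52_1 (flp_h L61577) L61567 L89063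
theorem L89072 : sm gd N7184 = N10428 := rfl
theorem L89074 : sm ga N10428 = N7202 := ded_12_1 (flp_d L61734) (flp_a L61579) L89072
theorem L89076 : sm gg N10428 = N7185 := ded_36_2 (flp_d L61585) (flp_g L61583) L89072
theorem L89078 : sm gh N10428 = N7899 := ded_38_2 (flp_d L67865) (flp_h L47066) (flp_d L42674) L61577 L89072
theorem L89080 : sm gi N7184 = N10429 := rfl
theorem L89082 : sm ga N10429 = N7203 := ded_18_1 (flp_i L61741) (flp_a L61579) L89080
theorem L89084 : sm gc N10429 = N7195 := ded_33_1 (flp_i L61675) (flp_c L61581) L89080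
theorem L89086 : sm gg N10429 = N7186 := ded_51_1 (flp_i L61594) (flp_g L61583) L89080
theorem L89088 : sm gh N10429 = N10429 := ded_54_1 (flp_i L89080) (flp_h L61577) L42676 L61577 L89080
theorem L89089 : sm ge N7185 = N10430 := rfl
theorem L89091 : sm ga N10430 = N7204 := ded_13_1 (flp_e L61749) (flp_a L61587) L89089
theorem L89096 : sm gi N7185 = N10431 := rfl
theorem L89098 : sm ga N10431 = N7205 := ded_18_1 (flp_i L61755) (flp_a L61587) L89096
theorem L89100 : sm gd N10431 = N7186 := ded_39_1 (flp_i L61594) L61585 L89096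
theorem L89102 : sm gf N10431 = N7188 := ded_48_1 (flp_i L61612) (flp_f L61589) L89096
theorem L89105 : sm gf N7187 = N10432 := rfl
theorem L89107 : sm ga N10432 = N7206 := ded_14_1 (flp_f L61763) (flp_a L61606) L89105
theorem L89111 : sm gh N10432 = N7903 := ded_47_2 (flp_f L67896) (flp_h L61609) L89105
theorem L89113 : sm gi N7187 = N10433 := rfl
theorem L89115 : sm ga N10433 = N7207 := ded_18_1 (flp_i L61770) (flp_a L61606) L89113
theorem L89129 : sm gj N7189 = N10435 := rfl
theorem L89131 : sm ga N10435 = N7209 := ded_16_1 (flp_j L61784) (flp_a L61621) L89129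
theorem L89133 : sm gb N10435 = N10435 := ded_24_1 (flp_j L89129) L61623 L89129
theorem L89134 : sm gd N10435 = N7228 := ded_37_1 (flp_j L61937) (flp_d L61624) L89129
theorem L89136 : sm gf N10435 = N7190 := ded_46_1 (flp_j L61628) L61619 L89129
theorem L89138 : sm gi N10435 = N10435 := ded_53_2 (flp_j L89129) L61626 L89129
theorem L89139 : sm gh N7189 = N10436 := rfl
theorem L89141 : sm ga N10436 = N7210 := ded_17_1 (flp_h L61793) (flp_a L61621) L89139
theorem L89143 : sm gb N10436 = N10436 := ded_25_1 (flp_h L89139) L61623 L89139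
theorem L89144 : sm gf N10436 = N7191 := ded_47_1 (flp_h L61639) L61619 L89139
theorem L89146 : sm gg N10436 = N10436 := ded_50_1 (flp_h L89139) L61627 L89139
theorem L89147 : sm gh N7190 = N10437 := rfl
theorem L89149 : sm ga N10437 = N7211 := ded_17_1 (flp_h L61800) (flp_a L61630) L89147
theorem L89151 : sm gb N10437 = N10437 := ded_25_1 (flp_h L89147) L61632 L89147
theorem L89152 : sm ge N10437 = N7194 := ded_43_1 (flp_h L61667) (flp_e L61635) L89147
theorem L89154 : sm gg N10437 = N10437 := ded_50_1 (flp_h L89147) L61638 L89147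
theorem L89155 : sm gj N10437 = N7191 := ded_52_1 (flp_h L61639) L61628 L89147
theorem L89157 : sm gd N7191 = N10438 := rfl
theorem L89159 : sm ga N10438 = N7212 := ded_12_1 (flp_d L61809) (flp_a L61641) L89157
theorem L89161 : sm gb N10438 = N10438 := ded_20_1 (flp_d L89157) L61643 L89157
theorem L89162 : sm gg N10438 = N7192 := ded_36_2 (flp_d L61648) (flp_g L61646) L89157
theorem L89164 : sm gh N10438 = N7231 := ded_38_2 (flp_d L61968) (flp_h L42950) (flp_d L42707) L61639 L89157
theorem L89166 : sm gi N7191 = N10439 := rfl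
theorem L89168 : sm ga N10439 = N7213 := ded_18_1 (flp_i L61817) (flp_a L61641) L89166
theorem L89170 : sm gb N10439 = N10439 := ded_26_1 (flp_i L89166) L61643 L89166
theorem L89171 : sm ge N10439 = N7195 := ded_44_1 (flp_i L61675) (flp_e L61644) L89166
theorem L89173 : sm gg N10439 = N7193 := ded_51_1 (flp_i L61657) (flp_g L61646) L89166
theorem L89175 : sm gh N10439 = N10439 := ded_54_1 (flp_i L89166) (flp_h L61639) L42711 L61639 L89166
theorem L89176 : sm gc N7192 = N10440 := rfl
theorem L89178 : sm ga N10440 = N7214 := ded_11_1 (flp_c L61826) (flp_a L61650) L89176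
theorem L89180 : sm gf N10440 = N10440 := ded_29_2 (flp_c L89176) L61653 L89176
theorem L89181 : sm gj N10440 = N10440 := ded_31_2 (flp_c L89176) L61654 L89176
theorem L89182 : sm gh N10440 = N7233 := ded_32_2 (flp_c L61986) (flp_h L61655) L89176
theorem L89184 : sm gi N7192 = N10441 := rfl
theorem L89186 : sm ga N10441 = N7215 := ded_18_1 (flp_i L61832) (flp_a L61650) L89184
theorem L89188 : sm gb N10441 = N10441 := ded_26_1 (flp_i L89184) L61652 L89184
theorem L89189 : sm gd N10441 = N7193 := ded_39_1 (flp_i L61657) L61648 L89184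
theorem L89191 : sm gf N10441 = N10441 := ded_48_1 (flp_i L89184) L61653 L89184
theorem L89192 : sm gj N10441 = N10441 := ded_53_1 (flp_i L89184) L61654 L89184
theorem L89193 : sm gi N7194 = N10442 := rfl
theorem L89195 : sm ga N10442 = N7216 := ded_18_1 (flp_i L61840) (flp_a L61669) L89193
theorem L89197 : sm gb N10442 = N10442 := ded_26_1 (flp_i L89193) L61671 L89193
theorem L89198 : sm gg N10442 = N10442 := ded_51_1 (flp_i L89193) L61672 L89193
theorem L89199 : sm gj N10442 = N7195 := ded_53_1 (flp_i L61675) (flp_j L61673) L89193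
theorem L89201 : sm gh N10442 = N10442 := ded_54_1 (flp_i L89193) (flp_h L61667) L42728 L61667 L89193
theorem L89202 : sm gj N7196 = N10443 := rfl
theorem L89204 : sm gb N10443 = N10443 := ded_24_1 (flp_j L89202) L61685 L89202
theorem L89205 : sm gc N10443 = N7209 := ded_31_1 (flp_j L61784) (flp_c L61686) L89202
theorem L89207 : sm gd N10443 = N10443 := ded_37_1 (flp_j L89202) L61688 L89202
theorem L89208 : sm gf N10443 = N7197 := ded_46_1 (flp_j L61691) L61683 L89202
theorem L89210 : sm gi N10443 = N10443 := ded_53_2 (flp_j L89202) L61689 L89202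
theorem L89211 : sm gh N7196 = N10444 := rfl
theorem L89213 : sm gb N10444 = N10444 := ded_25_1 (flp_h L89211) L61685 L89211
theorem L89214 : sm gc N10444 = N7210 := ded_32_1 (flp_h L61793) (flp_c L61686) L89211
theorem L89216 : sm gf N10444 = N7198 := ded_47_1 (flp_h L61701) L61683 L89211
theorem L89218 : sm gg N10444 = N10444 := ded_50_1 (flp_h L89211) L61690 L89211
theorem L89219 : sm gh N7197 = N10445 := rfl
theorem L89221 : sm gb N10445 = N10445 := ded_25_1 (flp_h L89219) L61693 L89219
theorem L89222 : sm gc N10445 = N7211 := ded_32_1 (flp_h L61800) (flp_c L61694) L89219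
theorem L89224 : sm ge N10445 = N7201 := ded_43_1 (flp_h L61726) (flp_e L61697) L89219
theorem L89226 : sm gg N10445 = N10445 := ded_50_1 (flp_h L89219) L61700 L89219
theorem L89227 : sm gj N10445 = N7198 := ded_52_1 (flp_h L61701) L61691 L89219
theorem L89229 : sm gd N7198 = N10446 := rfl
theorem L89231 : sm gb N10446 = N10446 := ded_20_1 (flp_d L89229) L61703 L89229
theorem L89232 : sm gg N10446 = N7199 := ded_36_2 (flp_d L61710) (flp_g L61708) L89229
theorem L89234 : sm gh N10446 = N10446 := ded_38_2 (flp_d L89229) (flp_h L61701) L42751 L61701 L89229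
theorem L89235 : sm gi N7198 = N10447 := rfl
theorem L89237 : sm gb N10447 = N10447 := ded_26_1 (flp_i L89235) L61703 L89235
theorem L89238 : sm gc N10447 = N7213 := ded_33_1 (flp_i L61817) (flp_c L61704) L89235
theorem L89240 : sm ge N10447 = N7203 := ded_44_1 (flp_i L61741) (flp_e L61706) L89235
theorem L89242 : sm gg N10447 = N7200 := ded_51_1 (flp_i L61716) (flp_g L61708) L89235
theorem L89244 : sm gh N10447 = N10447 := ded_54_1 (flp_i L89235) (flp_h L61701) L42754 L61701 L89235
theorem L89245 : sm gc N7199 = N10448 := rfl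
theorem L89247 : sm gf N10448 = N10448 := ded_29_2 (flp_c L89245) L61713 L89245
theorem L89248 : sm gj N10448 = N10448 := ded_31_2 (flp_c L89245) L61714 L89245
theorem L89249 : sm gh N10448 = N10448 := ded_32_2 (flp_c L89245) L61715 L89245
theorem L89250 : sm gd N10448 = N7214 := ded_27_2 (flp_c L61826) (flp_d L42836) (flp_c L42758) L61710 L89245
theorem L89252 : sm ge N7199 = N10449 := rfl
theorem L89254 : sm gb N10449 = N10449 := ded_21_1 (flp_e L89252) L61712 L89252
theorem L89255 : sm gj N10449 = N10449 := ded_42_2 (flp_e L89252) L61714 L89252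
theorem L89256 : sm gh N10449 = N10449 := ded_43_2 (flp_e L89252) L61715 L89252
theorem L89257 : sm gd N10449 = N7204 := ded_34_1 (flp_e L61749) (flp_d L42780) (flp_e L42760) L61710 L89252
theorem L89259 : sm gi N7199 = N10450 := rfl
theorem L89261 : sm gb N10450 = N10450 := ded_26_1 (flp_i L89259) L61712 L89259
theorem L89262 : sm gd N10450 = N7200 := ded_39_1 (flp_i L61716) L61710 L89259
theorem L89264 : sm gf N10450 = N10450 := ded_48_1 (flp_i L89259) L61713 L89259
theorem L89265 : sm gj N10450 = N10450 := ded_53_1 (flp_i L89259) L61714 L89259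
theorem L89266 : sm gd N7201 = N10451 := rfl
theorem L89268 : sm gb N10451 = N10451 := ded_20_1 (flp_d L89266) L61728 L89266
theorem L89269 : sm gg N10451 = N10451 := ded_36_2 (flp_d L89266) L61731 L89266
theorem L89270 : sm gj N10451 = N7202 := ded_37_2 (flp_d L61734) (flp_j L61732) L89266
theorem L89272 : sm gh N10451 = N7907 := ded_38_2 (flp_d L67929) (flp_h L47127) (flp_d L42769) L61726 L89266
theorem L89274 : sm gi N7201 = N10452 := rfl
theorem L89276 : sm gb N10452 = N10452 := ded_26_1 (flp_i L89274) L61728 L89274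
theorem L89277 : sm gc N10452 = N7216 := ded_33_1 (flp_i L61840) (flp_c L61729) L89274
theorem L89279 : sm gg N10452 = N10452 := ded_51_1 (flp_i L89274) L61731 L89274
theorem L89280 : sm gj N10452 = N7203 := ded_53_1 (flp_i L61741) (flp_j L61732) L89274
theorem L89282 : sm gh N10452 = N10452 := ded_54_1 (flp_i L89274) (flp_h L61726) L42771 L61726 L89274
theorem L89283 : sm ge N7202 = N10453 := rfl
theorem L89285 : sm gb N10453 = N10453 := ded_21_1 (flp_e L89283) L61736 L89283
theorem L89286 : sm gg N10453 = N7204 := ded_41_2 (flp_e L61749) (flp_g L61737) L89283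
theorem L89288 : sm gh N10453 = N7909 := ded_43_2 (flp_e L67945) (flp_h L61739) L89283
theorem L89290 : sm gi N7202 = N10454 := rfl
theorem L89292 : sm gb N10454 = N10454 := ded_26_1 (flp_i L89290) L61736 L89290
theorem L89293 : sm gd N10454 = N7203 := ded_39_1 (flp_i L61741) L61734 L89290
theorem L89295 : sm gg N10454 = N7205 := ded_51_1 (flp_i L61755) (flp_g L61737) L89290
theorem L89297 : sm gf N7204 = N10455 := rfl
theorem L89299 : sm gb N10455 = N10455 := ded_22_1 (flp_f L89297) L61751 L89297
theorem L89300 : sm gj N10455 = N10455 := ded_46_2 (flp_f L89297) L61752 L89297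
theorem L89301 : sm gh N10455 = N7911 := ded_47_2 (flp_f L67958) (flp_h L61753) L89297
theorem L89303 : sm ge N10455 = N7206 := ded_40_1 (flp_f L61763) (flp_e L42797) (flp_f L42783) L61749 L89297
theorem L89305 : sm gi N7204 = N10456 := rfl
theorem L89307 : sm gb N10456 = N10456 := ded_26_1 (flp_i L89305) L61751 L89305
theorem L89308 : sm ge N10456 = N7205 := ded_44_1 (flp_i L61755) L61749 L89305
theorem L89310 : sm gj N10456 = N10456 := ded_53_1 (flp_i L89305) L61752 L89305
theorem L89320 : sm gg N7206 = N10458 := rfl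
theorem L89322 : sm gb N10458 = N10458 := ded_23_1 (flp_g L89320) L61765 L89320
theorem L89323 : sm gd N10458 = N10458 := ded_36_1 (flp_g L89320) L61766 L89320
theorem L89324 : sm gh N10458 = N7914 := ded_50_2 (flp_g L67979) (flp_h L61768) L89320
theorem L89326 : sm gi N7206 = N10459 := rfl
theorem L89328 : sm gb N10459 = N10459 := ded_26_1 (flp_i L89326) L61765 L89326
theorem L89329 : sm gd N10459 = N10459 := ded_39_1 (flp_i L89326) L61766 L89326
theorem L89330 : sm gf N10459 = N7207 := ded_48_1 (flp_i L61770) L61763 L89326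
theorem L89332 : sm gj N10459 = N10459 := ded_53_1 (flp_i L89326) L61767 L89326
theorem L89333 : sm gh N7207 = N10460 := rfl
theorem L89336 : sm ge N10460 = N7208 := ded_43_1 (flp_h L61777) (flp_e L61774) L89333
theorem L89339 : sm gi N10460 = N7916 := ded_54_2 (flp_h L67992) (flp_i L47169) (flp_h L42801) L61770 L89333
theorem L89341 : sm gg N7209 = N10461 := rfl
theorem L89343 : sm gb N10461 = N7217 := ded_23_1 (flp_g L61848) (flp_b L61786) L89341
theorem L89345 : sm gd N10461 = N7236 := ded_36_1 (flp_g L62013) (flp_d L61788) L89341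
theorem L89347 : sm gi N10461 = N10461 := ded_51_2 (flp_g L89341) L61792 L89341
theorem L89348 : sm gf N10461 = N10461 := ded_45_1 (flp_g L89341) L61790 L42827 (flp_f L61790) L89341
theorem L89349 : sm gj N10461 = N10461 := ded_49_2 (flp_g L89341) (flp_j L61784) L42817 L61784 L89341
theorem L89350 : sm gh N7209 = N10462 := rfl
theorem L89352 : sm gb N10462 = N7218 := ded_25_1 (flp_h L61857) (flp_b L61786) L89350
theorem L89354 : sm gf N10462 = N7211 := ded_47_1 (flp_h L61800) (flp_f L61790) L89350
theorem L89356 : sm gj N10462 = N7210 := ded_52_1 (flp_h L61793) L61784 L89350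
theorem L89358 : sm gd N7210 = N10463 := rfl
theorem L89360 : sm gb N10463 = N7219 := ded_20_1 (flp_d L61865) (flp_b L61795) L89358
theorem L89362 : sm gf N10463 = N7212 := ded_35_2 (flp_d L61809) (flp_f L61797) L89358
theorem L89364 : sm gg N10463 = N10463 := ded_36_2 (flp_d L89358) L61799 L89358
theorem L89365 : sm gh N10463 = N7238 := ded_38_2 (flp_d L62032) (flp_h L43007) (flp_d L42814) L61793 L89358
theorem L89367 : sm gi N7210 = N10464 := rfl
theorem L89369 : sm gb N10464 = N7220 := ded_26_1 (flp_i L61873) (flp_b L61795) L89367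
theorem L89371 : sm gf N10464 = N7213 := ded_48_1 (flp_i L61817) (flp_f L61797) L89367
theorem L89373 : sm gg N10464 = N10464 := ded_51_1 (flp_i L89367) L61799 L89367
theorem L89374 : sm gh N10464 = N10464 := ded_54_1 (flp_i L89367) (flp_h L61793) L42816 L61793 L89367
theorem L89375 : sm gd N7211 = N10465 := rfl
theorem L89377 : sm gb N10465 = N7221 := ded_20_1 (flp_d L61881) (flp_b L61802) L89375
theorem L89379 : sm gg N10465 = N10465 := ded_36_2 (flp_d L89375) L61806 L89375
theorem L89380 : sm gj N10465 = N7212 := ded_37_2 (flp_d L61809) (flp_j L61807) L89375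
theorem L89382 : sm gh N10465 = N7240 := ded_38_2 (flp_d L62049) (flp_h L43016) (flp_d L42822) L61800 L89375
theorem L89384 : sm gi N7211 = N10466 := rfl
theorem L89386 : sm gb N10466 = N7222 := ded_26_1 (flp_i L61889) (flp_b L61802) L89384
theorem L89388 : sm ge N10466 = N7216 := ded_44_1 (flp_i L61840) (flp_e L61804) L89384
theorem L89390 : sm gg N10466 = N10466 := ded_51_1 (flp_i L89384) L61806 L89384
theorem L89391 : sm gj N10466 = N7213 := ded_53_1 (flp_i L61817) (flp_j L61807) L89384
theorem L89393 : sm gh N10466 = N10466 := ded_54_1 (flp_i L89384) (flp_h L61800) L42826 L61800 L89384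
theorem L89394 : sm gc N7212 = N10467 := rfl
theorem L89396 : sm gg N10467 = N7214 := ded_30_2 (flp_c L61826) (flp_g L61813) L89394
theorem L89398 : sm gh N10467 = N7242 := ded_32_2 (flp_c L62067) (flp_h L61815) L89394
theorem L89400 : sm gi N7212 = N10468 := rfl
theorem L89402 : sm gb N10468 = N7224 := ded_26_1 (flp_i L61907) (flp_b L61811) L89400
theorem L89404 : sm gd N10468 = N7213 := ded_39_1 (flp_i L61817) L61809 L89400
theorem L89406 : sm gg N10468 = N7215 := ded_51_1 (flp_i L61832) (flp_g L61813) L89400
theorem L89408 : sm gb N7214 = N10469 := rfl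
theorem L89410 : sm gf N10469 = N10469 := ded_22_2 (flp_b L89408) L61828 L89408
theorem L89411 : sm gj N10469 = N10469 := ded_24_2 (flp_b L89408) L61829 L89408
theorem L89412 : sm gh N10469 = N7244 := ded_25_2 (flp_b L62080) (flp_h L61830) L89408
theorem L89414 : sm gc N10469 = N7225 := ded_19_2 (flp_b L61914) (flp_c L42908) (flp_b L42838) L61826 L89408
theorem L89416 : sm gi N7214 = N10470 := rfl
theorem L89418 : sm gc N10470 = N7215 := ded_33_1 (flp_i L61832) L61826 L89416
theorem L89420 : sm gf N10470 = N10470 := ded_48_1 (flp_i L89416) L61828 L89416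
theorem L89421 : sm gj N10470 = N10470 := ded_53_1 (flp_i L89416) L61829 L89416
theorem L89422 : sm gh N7215 = N10471 := rfl
theorem L89424 : sm gb N10471 = N7227 := ded_25_1 (flp_h L61929) (flp_b L61834) L89422
theorem L89426 : sm gf N10471 = N10471 := ded_47_1 (flp_h L89422) L61838 L89422
theorem L89427 : sm gj N10471 = N10471 := ded_52_1 (flp_h L89422) L61839 L89422
theorem L89428 : sm gd N10471 = N10471 := ded_38_1 (flp_h L89422) L61836 L42852 (flp_d L61836) L89422
theorem L89429 : sm gi N10471 = N7246 := ded_54_2 (flp_h L62094) (flp_i L43047) (flp_h L42842) L61832 L89422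
theorem L89431 : sm gh N7217 = N10472 := rfl
theorem L89433 : sm ga N10472 = N10472 := ded_17_1 (flp_h L89431) L61850 L89431
theorem L89434 : sm gc N10472 = N10472 := ded_32_1 (flp_h L89431) L61851 L89431
theorem L89435 : sm gf N10472 = N10472 := ded_47_1 (flp_h L89431) L61855 L89431
theorem L89436 : sm gg N10472 = N7218 := ded_50_1 (flp_h L61857) L61848 L89431
theorem L89438 : sm gj N10472 = N10472 := ded_52_1 (flp_h L89431) L61856 L89431
theorem L89439 : sm gd N7218 = N10473 := rfl
theorem L89441 : sm ga N10473 = N10473 := ded_12_1 (flp_d L89439) L61859 L89439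
theorem L89442 : sm gf N10473 = N7221 := ded_35_2 (flp_d L61881) (flp_f L61861) L89439
theorem L89444 : sm gj N10473 = N7219 := ded_37_2 (flp_d L61865) (flp_j L61863) L89439
theorem L89446 : sm gh N10473 = N7248 := ded_38_2 (flp_d L62111) (flp_h L43074) (flp_d L42871) L61857 L89439
theorem L89448 : sm gi N7218 = N10474 := rfl
theorem L89450 : sm ga N10474 = N10474 := ded_18_1 (flp_i L89448) L61859 L89448
theorem L89451 : sm gc N10474 = N10474 := ded_33_1 (flp_i L89448) L61860 L89448
theorem L89452 : sm gf N10474 = N7222 := ded_48_1 (flp_i L61889) (flp_f L61861) L89448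
theorem L89454 : sm gj N10474 = N7220 := ded_53_1 (flp_i L61873) (flp_j L61863) L89448
theorem L89456 : sm gh N10474 = N10474 := ded_54_1 (flp_i L89448) (flp_h L61857) L42875 L61857 L89448
theorem L89457 : sm gc N7219 = N10475 := rfl
theorem L89459 : sm ga N10475 = N10475 := ded_11_1 (flp_c L89457) L61867 L89457
theorem L89460 : sm gf N10475 = N7223 := ded_29_2 (flp_c L61899) (flp_f L61868) L89457
theorem L89462 : sm gg N10475 = N10475 := ded_30_2 (flp_c L89457) L61870 L89457
theorem L89463 : sm gh N10475 = N7250 := ded_32_2 (flp_c L62129) (flp_h L61871) L89457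
theorem L89465 : sm gd N10475 = N10475 := ded_27_2 (flp_c L89457) (flp_d L61865) L42879 L61865 L89457
theorem L89466 : sm ge N7219 = N10476 := rfl
theorem L89468 : sm ga N10476 = N10476 := ded_13_1 (flp_e L89466) L61867 L89466
theorem L89469 : sm gg N10476 = N10476 := ded_41_2 (flp_e L89466) L61870 L89466
theorem L89470 : sm gh N10476 = N7251 := ded_43_2 (flp_e L62137) (flp_h L61871) L89466
theorem L89472 : sm gi N7219 = N10477 := rfl
theorem L89474 : sm ga N10477 = N10477 := ded_18_1 (flp_i L89472) L61867 L89472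
theorem L89475 : sm gd N10477 = N7220 := ded_39_1 (flp_i L61873) L61865 L89472
theorem L89477 : sm gf N10477 = N7224 := ded_48_1 (flp_i L61907) (flp_f L61868) L89472
theorem L89479 : sm gg N10477 = N10477 := ded_51_1 (flp_i L89472) L61870 L89472
theorem L89480 : sm gc N7221 = N10478 := rfl
theorem L89482 : sm ga N10478 = N10478 := ded_11_1 (flp_c L89480) L61883 L89480
theorem L89483 : sm gg N10478 = N10478 := ded_30_2 (flp_c L89480) L61884 L89480
theorem L89484 : sm gj N10478 = N7223 := ded_31_2 (flp_c L61899) (flp_j L61885) L89480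
theorem L89486 : sm gh N10478 = N7253 := ded_32_2 (flp_c L62150) (flp_h L61887) L89480
theorem L89488 : sm gd N10478 = N10478 := ded_27_2 (flp_c L89480) (flp_d L61881) L42886 L61881 L89480
theorem L89489 : sm gi N7221 = N10479 := rfl
theorem L89491 : sm ga N10479 = N10479 := ded_18_1 (flp_i L89489) L61883 L89489
theorem L89492 : sm gd N10479 = N7222 := ded_39_1 (flp_i L61889) L61881 L89489
theorem L89494 : sm gg N10479 = N10479 := ded_51_1 (flp_i L89489) L61884 L89489
theorem L89495 : sm gj N10479 = N7224 := ded_53_1 (flp_i L61907) (flp_j L61885) L89489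
theorem L89497 : sm gb N7223 = N10480 := rfl
theorem L89499 : sm gd N10480 = N10480 := ded_20_2 (flp_b L89497) L61906 L89497
theorem L89500 : sm gg N10480 = N7225 := ded_23_2 (flp_b L61914) (flp_g L61902) L89497
theorem L89502 : sm gh N10480 = N7255 := ded_25_2 (flp_b L62166) (flp_h L61904) L89497
theorem L89504 : sm gi N7223 = N10481 := rfl
theorem L89506 : sm ga N10481 = N10481 := ded_18_1 (flp_i L89504) L61901 L89504
theorem L89507 : sm gc N10481 = N7224 := ded_33_1 (flp_i L61907) L61899 L89504
theorem L89509 : sm gd N10481 = N10481 := ded_39_1 (flp_i L89504) L61906 L89504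
theorem L89510 : sm gg N10481 = N7226 := ded_51_1 (flp_i L61921) (flp_g L61902) L89504
theorem L89512 : sm gh N7224 = N10482 := rfl
theorem L89514 : sm ga N10482 = N10482 := ded_17_1 (flp_h L89512) L61909 L89512
theorem L89515 : sm gg N10482 = N7227 := ded_50_1 (flp_h L61929) (flp_g L61912) L89512
theorem L89517 : sm gd N10482 = N10482 := ded_38_1 (flp_h L89512) L61910 L42907 (flp_d L61910) L89512
theorem L89518 : sm gi N10482 = N7257 := ded_54_2 (flp_h L62181) (flp_i L43124) (flp_h L42897) L61907 L89512
theorem L89520 : sm ga N7225 = N10483 := rfl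
theorem L89522 : sm gd N10483 = N10483 := ded_12_2 (flp_a L89520) L61916 L89520
theorem L89523 : sm gf N10483 = N10483 := ded_14_2 (flp_a L89520) L61917 L89520
theorem L89524 : sm gj N10483 = N10483 := ded_16_2 (flp_a L89520) L61918 L89520
theorem L89525 : sm gh N10483 = N7258 := ded_17_2 (flp_a L62187) (flp_h L61919) L89520
theorem L89527 : sm gb N10483 = N10483 := ded_10_2 (flp_a L89520) (flp_b L61914) L42910 L61914 L89520
theorem L89528 : sm gi N7225 = N10484 := rfl
theorem L89530 : sm gb N10484 = N7226 := ded_26_1 (flp_i L61921) L61914 L89528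
theorem L89532 : sm gd N10484 = N10484 := ded_39_1 (flp_i L89528) L61916 L89528
theorem L89533 : sm gf N10484 = N10484 := ded_48_1 (flp_i L89528) L61917 L89528
theorem L89534 : sm gj N10484 = N10484 := ded_53_1 (flp_i L89528) L61918 L89528
theorem L89535 : sm gh N7226 = N10485 := rfl
theorem L89537 : sm ga N10485 = N10485 := ded_17_1 (flp_h L89535) L61923 L89535
theorem L89538 : sm gc N10485 = N7227 := ded_32_1 (flp_h L61929) (flp_c L61924) L89535
theorem L89540 : sm gf N10485 = N10485 := ded_47_1 (flp_h L89535) L61927 L89535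
theorem L89541 : sm gj N10485 = N10485 := ded_52_1 (flp_h L89535) L61928 L89535
theorem L89542 : sm gi N10485 = N7260 := ded_54_2 (flp_h L62202) (flp_i L43137) (flp_h L42913) L61921 L89535
theorem L89544 : sm gg N7228 = N10486 := rfl
theorem L89546 : sm ga N10486 = N7236 := ded_15_1 (flp_g L62013) (flp_a L61939) L89544
theorem L89548 : sm gb N10486 = N10486 := ded_23_1 (flp_g L89544) L61941 L89544
theorem L89549 : sm gc N10486 = N10486 := ded_30_1 (flp_g L89544) L61942 L89544
theorem L89550 : sm ge N10486 = N10486 := ded_41_1 (flp_g L89544) L61943 L89544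
theorem L89551 : sm gi N10486 = N10486 := ded_51_2 (flp_g L89544) L61946 L89544
theorem L89552 : sm gf N10486 = N10486 := ded_45_1 (flp_g L89544) L61944 L42949 (flp_f L61944) L89544
theorem L89553 : sm gj N10486 = N10486 := ded_49_2 (flp_g L89544) (flp_j L61937) L42939 L61937 L89544
theorem L89554 : sm gh N7228 = N10487 := rfl
theorem L89556 : sm ga N10487 = N7237 := ded_17_1 (flp_h L62022) (flp_a L61939) L89554
theorem L89558 : sm gb N10487 = N10487 := ded_25_1 (flp_h L89554) L61941 L89554
theorem L89559 : sm gc N10487 = N10487 := ded_32_1 (flp_h L89554) L61942 L89554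
theorem L89560 : sm ge N10487 = N10487 := ded_43_1 (flp_h L89554) L61943 L89554
theorem L89561 : sm gf N10487 = N7230 := ded_47_1 (flp_h L61957) (flp_f L61944) L89554
theorem L89563 : sm gj N10487 = N7229 := ded_52_1 (flp_h L61947) L61937 L89554
theorem L89565 : sm gd N7229 = N10488 := rfl
theorem L89567 : sm ga N10488 = N7238 := ded_12_1 (flp_d L62032) (flp_a L61949) L89565
theorem L89569 : sm gb N10488 = N10488 := ded_20_1 (flp_d L89565) L61951 L89565
theorem L89570 : sm gf N10488 = N7231 := ded_35_2 (flp_d L61968) (flp_f L61954) L89565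
theorem L89572 : sm gg N10488 = N10488 := ded_36_2 (flp_d L89565) L61956 L89565
theorem L89573 : sm gi N7229 = N10489 := rfl
theorem L89575 : sm ga N10489 = N7239 := ded_18_1 (flp_i L62039) (flp_a L61949) L89573
theorem L89577 : sm gb N10489 = N10489 := ded_26_1 (flp_i L89573) L61951 L89573
theorem L89578 : sm gc N10489 = N10489 := ded_33_1 (flp_i L89573) L61952 L89573
theorem L89579 : sm ge N10489 = N10489 := ded_44_1 (flp_i L89573) L61953 L89573
theorem L89580 : sm gf N10489 = N7232 := ded_48_1 (flp_i L61975) (flp_f L61954) L89573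
theorem L89582 : sm gg N10489 = N10489 := ded_51_1 (flp_i L89573) L61956 L89573
theorem L89583 : sm gh N10489 = N10489 := ded_54_1 (flp_i L89573) (flp_h L61947) L42937 L61947 L89573
theorem L89584 : sm gd N7230 = N10490 := rfl
theorem L89586 : sm ga N10490 = N7240 := ded_12_1 (flp_d L62049) (flp_a L61959) L89584
theorem L89588 : sm gb N10490 = N10490 := ded_20_1 (flp_d L89584) L61961 L89584
theorem L89589 : sm gg N10490 = N10490 := ded_36_2 (flp_d L89584) L61965 L89584
theorem L89590 : sm gj N10490 = N7231 := ded_37_2 (flp_d L61968) (flp_j L61966) L89584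
theorem L89592 : sm gi N7230 = N10491 := rfl
theorem L89594 : sm ga N10491 = N7241 := ded_18_1 (flp_i L62056) (flp_a L61959) L89592
theorem L89596 : sm gb N10491 = N10491 := ded_26_1 (flp_i L89592) L61961 L89592
theorem L89597 : sm gc N10491 = N10491 := ded_33_1 (flp_i L89592) L61962 L89592
theorem L89598 : sm ge N10491 = N7235 := ded_44_1 (flp_i L62002) (flp_e L61963) L89592
theorem L89600 : sm gg N10491 = N10491 := ded_51_1 (flp_i L89592) L61965 L89592
theorem L89601 : sm gj N10491 = N7232 := ded_53_1 (flp_i L61975) (flp_j L61966) L89592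
theorem L89603 : sm gh N10491 = N10491 := ded_54_1 (flp_i L89592) (flp_h L61957) L42948 L61957 L89592
theorem L89604 : sm gc N7231 = N10492 := rfl
theorem L89606 : sm ga N10492 = N7242 := ded_11_1 (flp_c L62067) (flp_a L61970) L89604
theorem L89608 : sm gg N10492 = N7233 := ded_30_2 (flp_c L61986) (flp_g L61973) L89604
theorem L89610 : sm gd N10492 = N10492 := ded_27_2 (flp_c L89604) (flp_d L61968) L42955 L61968 L89604
theorem L89611 : sm gi N7231 = N10493 := rfl
theorem L89613 : sm ga N10493 = N7243 := ded_18_1 (flp_i L62072) (flp_a L61970) L89611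
theorem L89615 : sm gb N10493 = N10493 := ded_26_1 (flp_i L89611) L61972 L89611
theorem L89616 : sm gd N10493 = N7232 := ded_39_1 (flp_i L61975) L61968 L89611
theorem L89618 : sm gg N10493 = N7234 := ded_51_1 (flp_i L61993) (flp_g L61973) L89611
theorem L89620 : sm gb N7233 = N10494 := rfl
theorem L89622 : sm gd N10494 = N10494 := ded_20_2 (flp_b L89620) L61992 L89620
theorem L89623 : sm gf N10494 = N10494 := ded_22_2 (flp_b L89620) L61990 L89620
theorem L89624 : sm gj N10494 = N10494 := ded_24_2 (flp_b L89620) L61991 L89620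
theorem L89625 : sm gc N10494 = N10494 := ded_19_2 (flp_b L89620) (flp_c L61986) L42964 L61986 L89620
theorem L89626 : sm gi N7233 = N10495 := rfl
theorem L89628 : sm ga N10495 = N7245 := ded_18_1 (flp_i L62087) (flp_a L61988) L89626
theorem L89630 : sm gc N10495 = N7234 := ded_33_1 (flp_i L61993) L61986 L89626
theorem L89632 : sm gd N10495 = N10495 := ded_39_1 (flp_i L89626) L61992 L89626
theorem L89633 : sm gf N10495 = N10495 := ded_48_1 (flp_i L89626) L61990 L89626
theorem L89634 : sm gj N10495 = N10495 := ded_53_1 (flp_i L89626) L61991 L89626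
theorem L89635 : sm gh N7234 = N10496 := rfl
theorem L89637 : sm ga N10496 = N7246 := ded_17_1 (flp_h L62094) (flp_a L61995) L89635
theorem L89639 : sm gb N10496 = N10496 := ded_25_1 (flp_h L89635) L61997 L89635
theorem L89640 : sm gf N10496 = N10496 := ded_47_1 (flp_h L89635) L62000 L89635
theorem L89641 : sm gj N10496 = N10496 := ded_52_1 (flp_h L89635) L62001 L89635
theorem L89642 : sm gd N10496 = N10496 := ded_38_1 (flp_h L89635) L61998 L42977 (flp_d L61998) L89635
theorem L89643 : sm gh N7236 = N10497 := rfl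
theorem L89645 : sm gb N10497 = N7247 := ded_25_1 (flp_h L62101) (flp_b L62015) L89643
theorem L89650 : sm gg N10497 = N7237 := ded_50_1 (flp_h L62022) L62013 L89643
theorem L89653 : sm gd N7237 = N10498 := rfl
theorem L89655 : sm gb N10498 = N7248 := ded_20_1 (flp_d L62111) (flp_b L62024) L89653
theorem L89657 : sm gf N10498 = N7240 := ded_35_2 (flp_d L62049) (flp_f L62028) L89653
theorem L89659 : sm gj N10498 = N7238 := ded_37_2 (flp_d L62032) (flp_j L62030) L89653
theorem L89661 : sm gi N7237 = N10499 := rfl
theorem L89663 : sm gb N10499 = N7249 := ded_26_1 (flp_i L62118) (flp_b L62024) L89661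
theorem L89667 : sm gf N10499 = N7241 := ded_48_1 (flp_i L62056) (flp_f L62028) L89661
theorem L89672 : sm gc N7238 = N10500 := rfl
theorem L89674 : sm gf N10500 = N7242 := ded_29_2 (flp_c L62067) (flp_f L62036) L89672
theorem L89676 : sm gg N10500 = N10500 := ded_30_2 (flp_c L89672) L62038 L89672
theorem L89677 : sm gd N10500 = N10500 := ded_27_2 (flp_c L89672) (flp_d L62032) L43011 L62032 L89672
theorem L89678 : sm ge N7238 = N10501 := rfl
theorem L89680 : sm gb N10501 = N7251 := ded_21_1 (flp_e L62137) (flp_b L62034) L89678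
theorem L89682 : sm gg N10501 = N10501 := ded_41_2 (flp_e L89678) L62038 L89678
theorem L89683 : sm gd N10501 = N10501 := ded_34_1 (flp_e L89678) (flp_d L62032) L43012 L62032 L89678
theorem L89684 : sm gi N7238 = N10502 := rfl
theorem L89686 : sm gb N10502 = N7252 := ded_26_1 (flp_i L62142) (flp_b L62034) L89684
theorem L89688 : sm gd N10502 = N7239 := ded_39_1 (flp_i L62039) L62032 L89684
theorem L89690 : sm gf N10502 = N7243 := ded_48_1 (flp_i L62072) (flp_f L62036) L89684
theorem L89692 : sm gg N10502 = N10502 := ded_51_1 (flp_i L89684) L62038 L89684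
theorem L89693 : sm gc N7240 = N10503 := rfl
theorem L89695 : sm gg N10503 = N10503 := ded_30_2 (flp_c L89693) L62053 L89693
theorem L89696 : sm gj N10503 = N7242 := ded_31_2 (flp_c L62067) (flp_j L62054) L89693
theorem L89698 : sm gd N10503 = N10503 := ded_27_2 (flp_c L89693) (flp_d L62049) L43020 L62049 L89693
theorem L89699 : sm gi N7240 = N10504 := rfl
theorem L89703 : sm gd N10504 = N7241 := ded_39_1 (flp_i L62056) L62049 L89699
theorem L89705 : sm gg N10504 = N10504 := ded_51_1 (flp_i L89699) L62053 L89699
theorem L89706 : sm gj N10504 = N7243 := ded_53_1 (flp_i L62072) (flp_j L62054) L89699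
theorem L89708 : sm gb N7242 = N10505 := rfl
theorem L89710 : sm gd N10505 = N10505 := ded_20_2 (flp_b L89708) L62071 L89708
theorem L89711 : sm gg N10505 = N7244 := ded_23_2 (flp_b L62080) (flp_g L62069) L89708
theorem L89713 : sm gc N10505 = N7255 := ded_19_2 (flp_b L62166) (flp_c L43117) (flp_b L43028) L62067 L89708
theorem L89715 : sm gi N7242 = N10506 := rfl
theorem L89717 : sm gc N10506 = N7243 := ded_33_1 (flp_i L62072) L62067 L89715
theorem L89719 : sm gd N10506 = N10506 := ded_39_1 (flp_i L89715) L62071 L89715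
theorem L89720 : sm gg N10506 = N7245 := ded_51_1 (flp_i L62087) (flp_g L62069) L89715
theorem L89722 : sm gh N7243 = N10507 := rfl
theorem L89724 : sm gb N10507 = N7257 := ded_25_1 (flp_h L62181) (flp_b L62074) L89722
theorem L89726 : sm gg N10507 = N7246 := ded_50_1 (flp_h L62094) (flp_g L62078) L89722
theorem L89728 : sm gd N10507 = N10507 := ded_38_1 (flp_h L89722) L62076 L43041 (flp_d L62076) L89722
theorem L89729 : sm ga N7244 = N10508 := rfl
theorem L89731 : sm gc N10508 = N7258 := ded_11_2 (flp_a L62187) (flp_c L62085) L89729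
theorem L89733 : sm gd N10508 = N10508 := ded_12_2 (flp_a L89729) L62082 L89729
theorem L89734 : sm gf N10508 = N10508 := ded_14_2 (flp_a L89729) L62083 L89729
theorem L89735 : sm gj N10508 = N10508 := ded_16_2 (flp_a L89729) L62084 L89729
theorem L89736 : sm gi N7244 = N10509 := rfl
theorem L89738 : sm gb N10509 = N7245 := ded_26_1 (flp_i L62087) L62080 L89736
theorem L89740 : sm gc N10509 = N7259 := ded_33_1 (flp_i L62194) (flp_c L62085) L89736
theorem L89742 : sm gd N10509 = N10509 := ded_39_1 (flp_i L89736) L62082 L89736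
theorem L89743 : sm gf N10509 = N10509 := ded_48_1 (flp_i L89736) L62083 L89736
theorem L89744 : sm gj N10509 = N10509 := ded_53_1 (flp_i L89736) L62084 L89736
theorem L89745 : sm gh N7245 = N10510 := rfl
theorem L89747 : sm gc N10510 = N7246 := ded_32_1 (flp_h L62094) (flp_c L62089) L89745
theorem L89749 : sm gf N10510 = N10510 := ded_47_1 (flp_h L89745) L62092 L89745
theorem L89750 : sm gj N10510 = N10510 := ded_52_1 (flp_h L89745) L62093 L89745
theorem L89751 : sm gd N7247 = N10511 := rfl
theorem L89755 : sm gg N10511 = N7248 := ded_36_2 (flp_d L62111) (flp_g L62108) L89751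
theorem L89769 : sm gc N7248 = N10513 := rfl
theorem L89772 : sm gf N10513 = N7253 := ded_29_2 (flp_c L62150) (flp_f L62114) L89769
theorem L89774 : sm gj N10513 = N7250 := ded_31_2 (flp_c L62129) (flp_j L62116) L89769
theorem L89778 : sm ge N7248 = N10514 := rfl
theorem L89781 : sm gj N10514 = N7251 := ded_42_2 (flp_e L62137) (flp_j L62116) L89778
theorem L89784 : sm gi N7248 = N10515 := rfl
theorem L89791 : sm gj N10515 = N7252 := ded_53_1 (flp_i L62142) (flp_j L62116) L89784
theorem L89793 : sm gb N7250 = N10516 := rfl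
theorem L89795 : sm gd N10516 = N7266 := ded_20_2 (flp_b L62255) (flp_d L62135) L89793
theorem L89797 : sm gf N10516 = N7255 := ded_22_2 (flp_b L62166) (flp_f L62132) L89793
theorem L89800 : sm ge N7250 = N10517 := rfl
theorem L89803 : sm gc N10517 = N7251 := ded_28_1 (flp_e L62137) L62129 L89800
theorem L89806 : sm gi N7250 = N10518 := rfl
theorem L89809 : sm gc N10518 = N7252 := ded_33_1 (flp_i L62142) L62129 L89806
theorem L89816 : sm gi N7251 = N10519 := rfl
theorem L89820 : sm ge N10519 = N7252 := ded_44_1 (flp_i L62142) L62137 L89816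
theorem L89823 : sm gh N7252 = N10520 := rfl
theorem L89826 : sm gf N10520 = N7257 := ded_47_1 (flp_h L62181) (flp_f L62147) L89823
theorem L89830 : sm gb N7253 = N10521 := rfl
theorem L89835 : sm gj N10521 = N7255 := ded_24_2 (flp_b L62166) (flp_j L62154) L89830
theorem L89837 : sm gi N7253 = N10522 := rfl
theorem L89840 : sm gc N10522 = N7254 := ded_33_1 (flp_i L62158) L62150 L89837
theorem L89845 : sm gj N10522 = N7256 := ded_53_1 (flp_i L62172) (flp_j L62154) L89837
theorem L89847 : sm gh N7254 = N10523 := rfl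
theorem L89854 : sm ga N7255 = N10524 := rfl
theorem L89856 : sm gd N10524 = N7274 := ded_12_2 (flp_a L62323) (flp_d L62168) L89854
theorem L89858 : sm gg N10524 = N7258 := ded_15_2 (flp_a L62187) (flp_g L62170) L89854
theorem L89860 : sm gb N10524 = N10524 := ded_10_2 (flp_a L89854) (flp_b L62166) L43119 L62166 L89854
theorem L89861 : sm gi N7255 = N10525 := rfl
theorem L89865 : sm gd N10525 = N7275 := ded_39_1 (flp_i L62331) (flp_d L62168) L89861
theorem L89867 : sm gg N10525 = N7259 := ded_51_1 (flp_i L62194) (flp_g L62170) L89861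
theorem L89869 : sm gh N7256 = N10526 := rfl
theorem L89874 : sm gg N10526 = N7260 := ded_50_1 (flp_h L62202) (flp_g L62179) L89869
theorem L89876 : sm gi N7258 = N10527 := rfl
theorem L89878 : sm ga N10527 = N7259 := ded_18_1 (flp_i L62194) L62187 L89876
theorem L89880 : sm gb N10527 = N10527 := ded_26_1 (flp_i L89876) L62193 L89876
theorem L89881 : sm gd N10527 = N7277 := ded_39_1 (flp_i L62348) (flp_d L62189) L89876
theorem L89883 : sm gf N10527 = N10527 := ded_48_1 (flp_i L89876) L62191 L89876
theorem L89884 : sm gj N10527 = N10527 := ded_53_1 (flp_i L89876) L62192 L89876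
theorem L89885 : sm gh N7259 = N10528 := rfl
theorem L89887 : sm gb N10528 = N7260 := ded_25_1 (flp_h L62202) (flp_b L62196) L89885
theorem L89889 : sm gf N10528 = N10528 := ded_47_1 (flp_h L89885) L62200 L89885
theorem L89890 : sm gj N10528 = N10528 := ded_52_1 (flp_h L89885) L62201 L89885
theorem L89891 : sm gd N7260 = N10529 := rfl
theorem L89894 : sm gf N10529 = N10529 := ded_35_2 (flp_d L89891) L62207 L89891
theorem L89897 : sm gh N10529 = N7279 := ded_38_2 (flp_d L62366) (flp_h L43262) (flp_d L43142) L62202 L89891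
theorem L89899 : sm gc N7261 = N10530 := rfl
theorem L89903 : sm gg N10530 = N7263 := ded_30_2 (flp_c L62228) (flp_g L62214) L89899
theorem L89907 : sm ge N7261 = N10531 := rfl
theorem L89916 : sm gi N7261 = N10532 := rfl
theorem L89926 : sm gb N7263 = N10533 := rfl
theorem L89928 : sm gf N10533 = N7271 := ded_22_2 (flp_b L62296) (flp_f L62231) L89926
theorem L89930 : sm gj N10533 = N7266 := ded_24_2 (flp_b L62255) (flp_j L62233) L89926
theorem L89934 : sm ge N7263 = N10534 := rfl
theorem L89939 : sm gj N10534 = N7267 := ded_42_2 (flp_e L62262) (flp_j L62233) L89934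
theorem L89972 : sm ga N7266 = N10538 := rfl
theorem L89975 : sm gf N10538 = N7274 := ded_14_2 (flp_a L62323) (flp_f L62257) L89972
theorem L89980 : sm ge N7266 = N10539 := rfl
theorem L89982 : sm gb N10539 = N7267 := ded_21_1 (flp_e L62262) L62255 L89980
theorem L89988 : sm gi N7266 = N10540 := rfl
theorem L89993 : sm gf N10540 = N7275 := ded_48_1 (flp_i L62331) (flp_f L62257) L89988
theorem L89996 : sm gd N7267 = N10541 := rfl
theorem L90002 : sm gi N7267 = N10542 := rfl
theorem L90007 : sm ge N10542 = N7268 := ded_44_1 (flp_i L62270) L62262 L90002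
theorem L90011 : sm gh N7268 = N10543 := rfl
theorem L90016 : sm gf N10543 = N7276 := ded_47_1 (flp_h L62339) (flp_f L62275) L90011
theorem L90038 : sm gi N7271 = N10546 := rfl
theorem L90045 : sm gj N10546 = N7275 := ded_53_1 (flp_i L62331) (flp_j L62300) L90038
theorem L90047 : sm gh N7272 = N10547 := rfl
theorem L90054 : sm gj N10547 = N7276 := ded_52_1 (flp_h L62339) (flp_j L62311) L90047
theorem L90057 : sm gi N7274 = N10548 := rfl
theorem L90059 : sm ga N10548 = N7275 := ded_18_1 (flp_i L62331) L62323 L90057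
theorem L90064 : sm gg N10548 = N7277 := ded_51_1 (flp_i L62348) (flp_g L62327) L90057
theorem L90066 : sm gh N7275 = N10549 := rfl
theorem L90072 : sm gg N10549 = N7278 := ded_50_1 (flp_h L62357) (flp_g L62337) L90066
theorem L90075 : sm gd N7276 = N10550 := rfl
theorem L90078 : sm gg N10550 = N7279 := ded_36_2 (flp_d L62366) (flp_g L62345) L90075
theorem L90082 : sm gh N7277 = N10551 := rfl
theorem L90084 : sm ga N10551 = N7278 := ded_17_1 (flp_h L62357) (flp_a L62350) L90082
theorem L90092 : sm gd N7278 = N10552 := rfl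
theorem L90094 : sm gb N10552 = N7279 := ded_20_1 (flp_d L62366) (flp_b L62359) L90092
theorem L90099 : sm ge N7279 = N10553 := rfl
theorem L90106 : sm gh N7280 = N10554 := rfl
theorem L90108 : sm ga N10554 = N8018 := ded_17_1 (flp_h L68880) (flp_a L62375) L90106
theorem L90110 : sm gb N10554 = N10554 := ded_25_1 (flp_h L90106) L62377 L90106
theorem L90111 : sm gc N10554 = N10554 := ded_32_1 (flp_h L90106) L62378 L90106
theorem L90112 : sm ge N10554 = N7281 := ded_43_1 (flp_h L62383) L62373 L90106
theorem L90114 : sm gf N10554 = N10554 := ded_47_1 (flp_h L90106) L62382 L90106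
theorem L90115 : sm gg N10554 = N10554 := ded_50_1 (flp_h L90106) L62379 L90106
theorem L90116 : sm gj N10554 = N10554 := ded_52_1 (flp_h L90106) L62380 L90106
theorem L90117 : sm gi N7280 = N10555 := rfl
theorem L90119 : sm ga N10555 = N8019 := ded_18_1 (flp_i L68888) (flp_a L62375) L90117
theorem L90121 : sm gb N10555 = N10555 := ded_26_1 (flp_i L90117) L62377 L90117
theorem L90122 : sm gc N10555 = N10555 := ded_33_1 (flp_i L90117) L62378 L90117
theorem L90123 : sm gd N10555 = N10555 := ded_39_1 (flp_i L90117) L62381 L90117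
theorem L90124 : sm ge N10555 = N7282 := ded_44_1 (flp_i L62394) L62373 L90117
theorem L90126 : sm gf N10555 = N10555 := ded_48_1 (flp_i L90117) L62382 L90117
theorem L90127 : sm gg N10555 = N10555 := ded_51_1 (flp_i L90117) L62379 L90117
theorem L90128 : sm gj N10555 = N10555 := ded_53_1 (flp_i L90117) L62380 L90117
theorem L90129 : sm gi N7281 = N10556 := rfl
theorem L90136 : sm gf N10556 = N7283 := ded_48_1 (flp_i L62406) (flp_f L62389) L90129
theorem L90140 : sm gh N7282 = N10557 := rfl
theorem L90146 : sm gf N10557 = N7284 := ded_47_1 (flp_h L62417) (flp_f L62402) L90140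
theorem L90150 : sm gh N7283 = N10558 := rfl
theorem L90160 : sm gi N10558 = N7284 := ded_54_2 (flp_h L62417) (flp_i L43292) L43281 L62406 L90150
theorem L90162 : sm gd N7284 = N10559 := rfl
theorem L90170 : sm gh N10559 = N7286 := ded_38_2 (flp_d L62440) (flp_h L43316) (flp_d L43298) L62417 L90162
theorem L90172 : sm gd N7285 = N10560 := rfl
theorem L90182 : sm gc N7286 = N10561 := rfl
theorem L90186 : sm gg N10561 = N7309 := ded_30_2 (flp_c L62667) (flp_g L62445) L90182
theorem L90214 : sm ge N7287 = N10564 := rfl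
theorem L90220 : sm gg N10564 = N7312 := ded_41_2 (flp_e L62698) (flp_g L62454) L90214
theorem L90234 : sm gc N7289 = N10566 := rfl
theorem L90236 : sm ga N10566 = N8030 := ded_11_1 (flp_c L68976) (flp_a L62473) L90234
theorem L90238 : sm gf N10566 = N7290 := ded_29_2 (flp_c L62481) (flp_f L62475) L90234
theorem L90244 : sm ge N7289 = N10567 := rfl
theorem L90246 : sm ga N10567 = N8031 := ded_13_1 (flp_e L68984) (flp_a L62473) L90244
theorem L90248 : sm gg N10567 = N10567 := ded_41_2 (flp_e L90244) L62477 L90244
theorem L90249 : sm gj N10567 = N10567 := ded_42_2 (flp_e L90244) L62478 L90244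
theorem L90250 : sm gh N10567 = N10567 := ded_43_2 (flp_e L90244) L62480 L90244
theorem L90251 : sm gi N10567 = N10567 := ded_44_2 (flp_e L90244) L62479 L90244
theorem L90252 : sm gd N10567 = N10567 := ded_34_1 (flp_e L90244) (flp_d L62471) L43344 L62471 L90244
theorem L90253 : sm gb N7290 = N10568 := rfl
theorem L90255 : sm gg N10568 = N7314 := ded_23_2 (flp_b L62719) (flp_g L62485) L90253
theorem L90260 : sm ge N7290 = N10569 := rfl
theorem L90264 : sm gc N10569 = N7291 := ded_28_1 (flp_e L62490) L62481 L90260
theorem L90271 : sm gf N7291 = N10570 := rfl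
theorem L90273 : sm ga N10570 = N8034 := ded_14_1 (flp_f L69009) (flp_a L62492) L90271
theorem L90275 : sm gd N10570 = N7294 := ded_35_1 (flp_f L62522) (flp_d L62499) L90271
theorem L90277 : sm gj N10570 = N10570 := ded_46_2 (flp_f L90271) L62496 L90271
theorem L90278 : sm gh N10570 = N10570 := ded_47_2 (flp_f L90271) L62497 L90271
theorem L90279 : sm gi N10570 = N10570 := ded_48_2 (flp_f L90271) L62498 L90271
theorem L90280 : sm ga N7292 = N10571 := rfl
theorem L90283 : sm gg N10571 = N7317 := ded_15_2 (flp_a L62747) (flp_g L62504) L90280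
theorem L90286 : sm gh N10571 = N7295 := ded_17_2 (flp_a L62531) (flp_h L62507) L90280
theorem L90291 : sm ge N7292 = N10572 := rfl
theorem L90293 : sm gb N10572 = N7293 := ded_21_1 (flp_e L62510) L62501 L90291
theorem L90295 : sm gg N10572 = N7318 := ded_41_2 (flp_e L62758) (flp_g L62504) L90291
theorem L90298 : sm gh N10572 = N7296 := ded_43_2 (flp_e L62542) (flp_h L62507) L90291
theorem L90301 : sm gd N7293 = N10573 := rfl
theorem L90303 : sm ga N10573 = N8037 := ded_12_1 (flp_d L69038) (flp_a L62512) L90301
theorem L90305 : sm gg N10573 = N7319 := ded_36_2 (flp_d L62767) (flp_g L62516) L90301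
theorem L90309 : sm gf N7293 = N10574 := rfl
theorem L90311 : sm ga N10574 = N8038 := ded_14_1 (flp_f L69044) (flp_a L62512) L90309
theorem L90313 : sm gc N10574 = N7294 := ded_29_1 (flp_f L62522) (flp_c L62514) L90309
theorem L90316 : sm gh N10574 = N7298 := ded_47_2 (flp_f L62562) (flp_h L62519) L90309
theorem L90319 : sm ge N10574 = N10574 := ded_40_1 (flp_f L90309) (flp_e L62510) L43363 L62510 L90309
theorem L90320 : sm gg N7294 = N10575 := rfl
theorem L90322 : sm ga N10575 = N8039 := ded_15_1 (flp_g L69053) (flp_a L62524) L90320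
theorem L90324 : sm ge N10575 = N10575 := ded_41_1 (flp_g L90320) L62530 L90320
theorem L90325 : sm gh N10575 = N7299 := ded_50_2 (flp_g L62572) (flp_h L62527) L90320
theorem L90327 : sm gi N10575 = N10575 := ded_51_2 (flp_g L90320) L62529 L90320
theorem L90328 : sm gf N10575 = N7321 := ded_45_1 (flp_g L62787) (flp_f L43544) (flp_g L43374) L62522 L90320
theorem L90330 : sm ge N7295 = N10576 := rfl
theorem L90332 : sm ga N10576 = N7296 := ded_13_1 (flp_e L62542) L62531 L90330
theorem L90336 : sm gg N10576 = N7322 := ded_41_2 (flp_e L62796) (flp_g L62535) L90330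
theorem L90339 : sm gi N10576 = N7300 := ded_44_2 (flp_e L62582) (flp_i L62538) L90330
theorem L90341 : sm gd N7296 = N10577 := rfl
theorem L90343 : sm gb N10577 = N7297 := ded_20_1 (flp_d L62551) (flp_b L62544) L90341
theorem L90345 : sm gg N10577 = N7323 := ded_36_2 (flp_d L62806) (flp_g L62546) L90341
theorem L90347 : sm gj N10577 = N10577 := ded_37_2 (flp_d L90341) L62548 L90341
theorem L90348 : sm gi N10577 = N7301 := ded_39_2 (flp_d L62592) (flp_i L62549) L90341
theorem L90350 : sm ge N10577 = N10577 := ded_34_2 (flp_d L90341) (flp_e L62542) L43382 L62542 L90341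
theorem L90351 : sm gf N7296 = N10578 := rfl
theorem L90353 : sm gb N10578 = N7298 := ded_22_1 (flp_f L62562) (flp_b L62544) L90351
theorem L90355 : sm gj N10578 = N10578 := ded_46_2 (flp_f L90351) L62548 L90351
theorem L90356 : sm gi N10578 = N7302 := ded_48_2 (flp_f L62600) (flp_i L62549) L90351
theorem L90358 : sm ge N10578 = N10578 := ded_40_1 (flp_f L90351) (flp_e L62542) L43383 L62542 L90351
theorem L90359 : sm gf N7297 = N10579 := rfl
theorem L90361 : sm ga N10579 = N8043 := ded_14_1 (flp_f L69091) (flp_a L62553) L90359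
theorem L90364 : sm gd N10579 = N7298 := ded_35_1 (flp_f L62562) L62551 L90359
theorem L90367 : sm gi N10579 = N7303 := ded_48_2 (flp_f L62607) (flp_i L62558) L90359
theorem L90369 : sm gh N7297 = N10580 := rfl
theorem L90371 : sm ga N10580 = N8044 := ded_17_1 (flp_h L69099) (flp_a L62553) L90369
theorem L90378 : sm gg N7298 = N10581 := rfl
theorem L90389 : sm gj N7299 = N10582 := rfl
theorem L90400 : sm gd N7300 = N10583 := rfl
theorem L90402 : sm ga N10583 = N7301 := ded_12_1 (flp_d L62592) (flp_a L62584) L90400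
theorem L90404 : sm gb N10583 = N8047 := ded_20_1 (flp_d L69125) (flp_b L62586) L90400
theorem L90406 : sm gg N10583 = N7329 := ded_36_2 (flp_d L62865) (flp_g L62588) L90400
theorem L90410 : sm gf N7300 = N10584 := rfl
theorem L90412 : sm ga N10584 = N7302 := ded_14_1 (flp_f L62600) (flp_a L62584) L90410
theorem L90419 : sm gc N7301 = N10585 := rfl
theorem L90421 : sm ge N10585 = N10585 := ded_28_2 (flp_c L90419) L62599 L90419
theorem L90422 : sm gg N10585 = N7331 := ded_30_2 (flp_c L62885) (flp_g L62596) L90419
theorem L90424 : sm gj N10585 = N10585 := ded_31_2 (flp_c L90419) L62598 L90419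
theorem L90425 : sm gb N10585 = N10585 := ded_19_1 (flp_c L90419) L62594 L43434 (flp_b L62594) L90419
theorem L90426 : sm gf N7301 = N10586 := rfl
theorem L90428 : sm gb N10586 = N7303 := ded_22_1 (flp_f L62607) (flp_b L62594) L90426
theorem L90430 : sm gd N10586 = N7302 := ded_35_1 (flp_f L62600) L62592 L90426
theorem L90433 : sm gh N7301 = N10587 := rfl
theorem L90438 : sm gg N10587 = N7333 := ded_50_1 (flp_h L62899) (flp_g L62596) L90433
theorem L90442 : sm gg N7302 = N10588 := rfl
theorem L90450 : sm ge N7303 = N10589 := rfl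
theorem L90467 : sm gh N7303 = N10591 := rfl
theorem L90472 : sm gf N10591 = N7304 := ded_47_1 (flp_h L62615) L62607 L90467
theorem L90476 : sm gi N7304 = N10592 := rfl
theorem L90478 : sm ga N10592 = N8056 := ded_18_1 (flp_i L69194) (flp_a L62617) L90476
theorem L90497 : sm gd N7307 = N10594 := rfl
theorem L90503 : sm gj N10594 = N7340 := ded_37_2 (flp_d L62961) (flp_j L62653) L90497
theorem L90505 : sm gi N10594 = N7308 := ded_39_2 (flp_d L62657) (flp_i L62655) L90497
theorem L90508 : sm gc N7308 = N10595 := rfl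
theorem L90513 : sm gj N10595 = N7341 := ded_31_2 (flp_c L62971) (flp_j L62663) L90508
theorem L90515 : sm gh N10595 = N7309 := ded_32_2 (flp_c L62667) (flp_h L62665) L90508
theorem L90528 : sm gb N7309 = N10597 := rfl
theorem L90533 : sm gj N10597 = N7343 := ded_24_2 (flp_b L62989) (flp_j L62672) L90528
theorem L90537 : sm ge N7309 = N10598 := rfl
theorem L90543 : sm gj N10598 = N7344 := ded_42_2 (flp_e L62997) (flp_j L62672) L90537
theorem L90557 : sm ga N7311 = N10600 := rfl
theorem L90564 : sm gj N10600 = N7346 := ded_16_2 (flp_a L63014) (flp_j L62693) L90557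
theorem L90570 : sm ge N7311 = N10601 := rfl
theorem L90575 : sm gj N10601 = N7347 := ded_42_2 (flp_e L63026) (flp_j L62693) L90570
theorem L90579 : sm gd N7312 = N10602 := rfl
theorem L90583 : sm gj N10602 = N7348 := ded_37_2 (flp_d L63034) (flp_j L62704) L90579
theorem L90588 : sm gf N7312 = N10603 := rfl
theorem L90594 : sm gj N10603 = N7349 := ded_46_2 (flp_f L63042) (flp_j L62704) L90588
theorem L90598 : sm ge N10603 = N7393 := ded_40_1 (flp_f L63418) (flp_e L43959) (flp_f L43488) L62698 L90588
theorem L90609 : sm ga N7314 = N10605 := rfl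
theorem L90612 : sm gj N10605 = N7351 := ded_16_2 (flp_a L63062) (flp_j L62722) L90609
theorem L90616 : sm gb N10605 = N8079 := ded_10_2 (flp_a L69397) (flp_b L48164) (flp_a L43507) L62719 L90609
theorem L90618 : sm ge N7314 = N10606 := rfl
theorem L90620 : sm gb N10606 = N7315 := ded_21_1 (flp_e L62726) L62719 L90618
theorem L90622 : sm gj N10606 = N7352 := ded_42_2 (flp_e L63070) (flp_j L62722) L90618
theorem L90626 : sm gd N7315 = N10607 := rfl
theorem L90628 : sm ga N10607 = N8081 := ded_12_1 (flp_d L69414) (flp_a L62728) L90626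
theorem L90630 : sm gj N10607 = N7353 := ded_37_2 (flp_d L63077) (flp_j L62732) L90626
theorem L90635 : sm gf N7315 = N10608 := rfl
theorem L90637 : sm ga N10608 = N8082 := ded_14_1 (flp_f L69421) (flp_a L62728) L90635
theorem L90639 : sm gc N10608 = N7316 := ded_29_1 (flp_f L62736) (flp_c L62730) L90635
theorem L90646 : sm gg N7316 = N10609 := rfl
theorem L90648 : sm ga N10609 = N8083 := ded_15_1 (flp_g L69430) (flp_a L62738) L90646
theorem L90650 : sm gd N10609 = N7321 := ded_36_1 (flp_g L62787) (flp_d L62740) L90646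
theorem L90652 : sm ge N10609 = N10609 := ded_41_1 (flp_g L90646) L62746 L90646
theorem L90653 : sm gh N10609 = N10609 := ded_50_2 (flp_g L90646) L62744 L90646
theorem L90654 : sm gi N10609 = N10609 := ded_51_2 (flp_g L90646) L62745 L90646
theorem L90655 : sm ge N7317 = N10610 := rfl
theorem L90657 : sm ga N10610 = N7318 := ded_13_1 (flp_e L62758) L62747 L90655
theorem L90661 : sm gj N10610 = N7356 := ded_42_2 (flp_e L63104) (flp_j L62751) L90655
theorem L90663 : sm gh N10610 = N7322 := ded_43_2 (flp_e L62796) (flp_h L62753) L90655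
theorem L90666 : sm gd N7318 = N10611 := rfl
theorem L90670 : sm gj N10611 = N7357 := ded_37_2 (flp_d L63114) (flp_j L62762) L90666
theorem L90673 : sm gf N7318 = N10612 := rfl
theorem L90677 : sm gj N10612 = N7358 := ded_46_2 (flp_f L63120) (flp_j L62762) L90673
theorem L90684 : sm gf N7319 = N10613 := rfl
theorem L90688 : sm gd N10613 = N7320 := ded_35_1 (flp_f L62774) L62767 L90684
theorem L90690 : sm gj N10613 = N7359 := ded_46_2 (flp_f L63129) (flp_j L62771) L90684
theorem L90693 : sm gh N7319 = N10614 := rfl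
theorem L90701 : sm gg N7320 = N10615 := rfl
theorem L90703 : sm ga N10615 = N8089 := ded_15_1 (flp_g L69480) (flp_a L62776) L90701
theorem L90709 : sm gh N10615 = N7327 := ded_50_2 (flp_g L62844) (flp_h L62782) L90701
theorem L90712 : sm gj N7321 = N10616 := rfl
theorem L90714 : sm ga N10616 = N8090 := ded_16_1 (flp_j L69489) (flp_a L62789) L90712
theorem L90716 : sm ge N10616 = N7401 := ded_42_1 (flp_j L63496) (flp_e L62791) L90712
theorem L90718 : sm gh N10616 = N7328 := ded_52_2 (flp_j L62854) (flp_h L62793) L90712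
theorem L90720 : sm gi N10616 = N10616 := ded_53_2 (flp_j L90712) L62795 L90712
theorem L90721 : sm gg N10616 = N7362 := ded_49_1 (flp_j L63155) (flp_g L43792) (flp_j L43548) L62787 L90712
theorem L90723 : sm gd N7322 = N10617 := rfl
theorem L90725 : sm ga N10617 = N7323 := ded_12_1 (flp_d L62806) (flp_a L62798) L90723
theorem L90727 : sm gb N10617 = N8091 := ded_20_1 (flp_d L69499) (flp_b L62800) L90723
theorem L90729 : sm gj N10617 = N7363 := ded_37_2 (flp_d L63165) (flp_j L62802) L90723
theorem L90731 : sm gi N10617 = N7329 := ded_39_2 (flp_d L62865) (flp_i L62804) L90723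
theorem L90734 : sm gf N7322 = N10618 := rfl
theorem L90736 : sm ga N10618 = N7324 := ded_14_1 (flp_f L62815) (flp_a L62798) L90734
theorem L90742 : sm gi N10618 = N7330 := ded_48_2 (flp_f L62874) (flp_i L62804) L90734
theorem L90744 : sm ge N10618 = N7403 := ded_40_1 (flp_f L63519) (flp_e L44029) (flp_f L43558) L62796 L90734
theorem L90746 : sm gc N7323 = N10619 := rfl
theorem L90748 : sm ge N10619 = N10619 := ded_28_2 (flp_c L90746) L62814 L90746
theorem L90749 : sm gj N10619 = N7365 := ded_31_2 (flp_c L63185) (flp_j L62810) L90746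
theorem L90751 : sm gi N10619 = N7331 := ded_33_2 (flp_c L62885) (flp_i L62812) L90746
theorem L90753 : sm gb N10619 = N10619 := ded_19_1 (flp_c L90746) L62808 L43582 (flp_b L62808) L90746
theorem L90754 : sm gf N7323 = N10620 := rfl
theorem L90756 : sm gb N10620 = N7325 := ded_22_1 (flp_f L62825) (flp_b L62808) L90754
theorem L90758 : sm gd N10620 = N7324 := ded_35_1 (flp_f L62815) L62806 L90754
theorem L90760 : sm gj N10620 = N7366 := ded_46_2 (flp_f L63192) (flp_j L62810) L90754
theorem L90762 : sm gi N10620 = N7332 := ded_48_2 (flp_f L62891) (flp_i L62812) L90754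
theorem L90764 : sm gh N7323 = N10621 := rfl
theorem L90766 : sm gb N10621 = N7326 := ded_25_1 (flp_h L62836) (flp_b L62808) L90764
theorem L90769 : sm gj N10621 = N7367 := ded_52_1 (flp_h L63200) (flp_j L62810) L90764
theorem L90771 : sm gg N7324 = N10622 := rfl
theorem L90773 : sm gb N10622 = N7327 := ded_23_1 (flp_g L62844) (flp_b L62817) L90771
theorem L90775 : sm ge N10622 = N7407 := ded_41_1 (flp_g L63557) (flp_e L62823) L90771
theorem L90777 : sm gi N10622 = N7334 := ded_51_2 (flp_g L62907) (flp_i L62821) L90771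
theorem L90779 : sm ge N7325 = N10623 := rfl
theorem L90781 : sm ga N10623 = N8097 := ded_13_1 (flp_e L69554) (flp_a L62827) L90779
theorem L90786 : sm gi N10623 = N7335 := ded_44_2 (flp_e L62914) (flp_i L62834) L90779
theorem L90788 : sm gd N10623 = N7408 := ded_34_1 (flp_e L63564) L44064 (flp_e L43594) (flp_d L62830) L90779
theorem L90791 : sm gg N7325 = N10624 := rfl
theorem L90796 : sm gd N10624 = N7327 := ded_36_1 (flp_g L62844) (flp_d L62830) L90791
theorem L90798 : sm gi N10624 = N7336 := ded_51_2 (flp_g L62924) (flp_i L62834) L90791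
theorem L90800 : sm gh N7325 = N10625 := rfl
theorem L90819 : sm gj N7327 = N10627 := rfl
theorem L90825 : sm ge N10627 = N7412 := ded_42_1 (flp_j L63608) (flp_e L62850) L90819
theorem L90827 : sm gi N10627 = N7339 := ded_53_2 (flp_j L62950) (flp_i L62852) L90819
theorem L90829 : sm gg N10627 = N7373 := ded_49_1 (flp_j L63251) (flp_g L43843) (flp_j L43590) L62844 L90819
theorem L90831 : sm gc N7329 = N10628 := rfl
theorem L90833 : sm ga N10628 = N7331 := ded_11_1 (flp_c L62885) (flp_a L62867) L90831
theorem L90835 : sm ge N10628 = N10628 := ded_28_2 (flp_c L90831) L62873 L90831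
theorem L90836 : sm gj N10628 = N7374 := ded_31_2 (flp_c L63262) (flp_j L62871) L90831
theorem L90838 : sm gf N7329 = N10629 := rfl
theorem L90840 : sm ga N10629 = N7332 := ded_14_1 (flp_f L62891) (flp_a L62867) L90838
theorem L90842 : sm gb N10629 = N8103 := ded_22_1 (flp_f L69604) (flp_b L62869) L90838
theorem L90844 : sm gd N10629 = N7330 := ded_35_1 (flp_f L62874) L62865 L90838
theorem L90846 : sm gj N10629 = N7375 := ded_46_2 (flp_f L63268) (flp_j L62871) L90838
theorem L90848 : sm gh N7329 = N10630 := rfl
theorem L90850 : sm ga N10630 = N7333 := ded_17_1 (flp_h L62899) (flp_a L62867) L90848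
theorem L90852 : sm gb N10630 = N8104 := ded_25_1 (flp_h L69612) (flp_b L62869) L90848
theorem L90854 : sm ge N10630 = N10630 := ded_43_1 (flp_h L90848) L62873 L90848
theorem L90855 : sm gj N10630 = N7376 := ded_52_1 (flp_h L63276) (flp_j L62871) L90848
theorem L90857 : sm gd N10630 = N10630 := ded_38_1 (flp_h L90848) (flp_d L62865) L43613 L62865 L90848
theorem L90858 : sm gg N7330 = N10631 := rfl
theorem L90864 : sm ge N10631 = N7416 := ded_41_1 (flp_g L63648) (flp_e L62883) L90858
theorem L90867 : sm gf N7331 = N10632 := rfl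
theorem L90869 : sm gb N10632 = N10632 := ded_22_1 (flp_f L90867) L62890 L90867
theorem L90870 : sm gc N10632 = N7332 := ded_29_1 (flp_f L62891) L62885 L90867
theorem L90872 : sm gj N10632 = N7378 := ded_46_2 (flp_f L63295) (flp_j L62888) L90867
theorem L90874 : sm gh N7331 = N10633 := rfl
theorem L90876 : sm gb N10633 = N10633 := ded_25_1 (flp_h L90874) L62890 L90874
theorem L90877 : sm gc N10633 = N7333 := ded_32_1 (flp_h L62899) L62885 L90874
theorem L90879 : sm ge N10633 = N10633 := ded_43_1 (flp_h L90874) L62887 L90874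
theorem L90880 : sm gj N10633 = N7379 := ded_52_1 (flp_h L63300) (flp_j L62888) L90874
theorem L90882 : sm ge N7332 = N10634 := rfl
theorem L90888 : sm gd N10634 = N7419 := ded_34_1 (flp_e L63674) L44131 (flp_e L43628) (flp_d L62895) L90882
theorem L90891 : sm gg N7332 = N10635 := rfl
theorem L90893 : sm gb N10635 = N7336 := ded_23_1 (flp_g L62924) (flp_b L62893) L90891
theorem L90897 : sm gh N7332 = N10636 := rfl
theorem L90901 : sm gf N10636 = N7333 := ded_47_1 (flp_h L62899) L62891 L90897
theorem L90903 : sm gj N10636 = N7382 := ded_52_1 (flp_h L63321) (flp_j L62897) L90897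
theorem L90906 : sm gi N7333 = N10637 := rfl
theorem L90908 : sm gb N10637 = N7338 := ded_26_1 (flp_i L62941) (flp_b L62901) L90906
theorem L90912 : sm gj N10637 = N7383 := ded_53_1 (flp_i L63328) (flp_j L62904) L90906
theorem L90914 : sm gj N7334 = N10638 := rfl
theorem L90916 : sm gb N10638 = N7339 := ded_24_1 (flp_j L62950) (flp_b L62909) L90914
theorem L90918 : sm ge N10638 = N7423 := ded_42_1 (flp_j L63706) (flp_e L62911) L90914
theorem L90921 : sm gg N10638 = N7384 := ded_49_1 (flp_j L63335) (flp_g L43899) (flp_j L43625) L62907 L90914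
theorem L90923 : sm gg N7335 = N10639 := rfl
theorem L90928 : sm gd N10639 = N7424 := ded_36_1 (flp_g L63714) (flp_d L62921) L90923
theorem L90932 : sm gh N7335 = N10640 := rfl
theorem L90940 : sm gj N10640 = N7386 := ded_52_1 (flp_h L63352) (flp_j L62919) L90932
theorem L90969 : sm gc N7340 = N10644 := rfl
theorem L90976 : sm gi N10644 = N7341 := ded_33_2 (flp_c L62971) (flp_i L62968) L90969
theorem L90989 : sm gb N7341 = N10646 := rfl
theorem L90997 : sm ge N7341 = N10647 := rfl
theorem L91004 : sm gh N10647 = N7344 := ded_43_2 (flp_e L62997) (flp_h L62977) L90997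
theorem L91025 : sm ge N7343 = N10650 := rfl
theorem L91060 : sm ge N7346 = N10654 := rfl
theorem L91070 : sm gd N7347 = N10655 := rfl
theorem L91076 : sm ge N10655 = N7357 := ded_34_2 (flp_d L63114) (flp_e L43767) (flp_d L43707) L63026 L91070
theorem L91087 : sm gf N7348 = N10657 := rfl
theorem L91091 : sm gd N10657 = N7349 := ded_35_1 (flp_f L63042) L63034 L91087
theorem L91102 : sm gg N7349 = N10659 := rfl
theorem L91123 : sm ge N7351 = N10661 := rfl
theorem L91125 : sm ga N10661 = N7352 := ded_13_1 (flp_e L63070) L63062 L91123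
theorem L91132 : sm gd N7352 = N10662 := rfl
theorem L91138 : sm gf N7352 = N10663 := rfl
theorem L91140 : sm gb N10663 = N7354 := ded_22_1 (flp_f L63085) (flp_b L63072) L91138
theorem L91145 : sm gf N7353 = N10664 := rfl
theorem L91149 : sm gc N10664 = N7359 := ded_29_1 (flp_f L63129) (flp_c L63083) L91145
theorem L91151 : sm gd N10664 = N7354 := ded_35_1 (flp_f L63085) L63077 L91145
theorem L91162 : sm gg N7354 = N10666 := rfl
theorem L91164 : sm ga N10666 = N8155 := ded_15_1 (flp_g L70006) (flp_a L63087) L91162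
theorem L91166 : sm gc N10666 = N7355 := ded_30_1 (flp_g L63094) (flp_c L63089) L91162
theorem L91172 : sm gj N7355 = N10667 := rfl
theorem L91174 : sm ga N10667 = N8156 := ded_16_1 (flp_j L70014) (flp_a L63096) L91172
theorem L91176 : sm gd N10667 = N7362 := ded_37_1 (flp_j L63155) (flp_d L63098) L91172
theorem L91178 : sm ge N10667 = N10667 := ded_42_1 (flp_j L91172) L63100 L91172
theorem L91179 : sm gf N10667 = N10667 := ded_46_1 (flp_j L91172) L63103 L91172
theorem L91180 : sm gh N10667 = N10667 := ded_52_2 (flp_j L91172) L63101 L91172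
theorem L91181 : sm gi N10667 = N10667 := ded_53_2 (flp_j L91172) L63102 L91172
theorem L91182 : sm gd N7356 = N10668 := rfl
theorem L91184 : sm ga N10668 = N7357 := ded_12_1 (flp_d L63114) (flp_a L63106) L91182
theorem L91186 : sm gb N10668 = N8157 := ded_20_1 (flp_d L70023) (flp_b L63108) L91182
theorem L91190 : sm gf N7356 = N10669 := rfl
theorem L91192 : sm ga N10669 = N7358 := ded_14_1 (flp_f L63120) (flp_a L63106) L91190
theorem L91196 : sm gh N10669 = N7364 := ded_47_2 (flp_f L63175) (flp_h L63111) L91190
theorem L91199 : sm ge N10669 = N7437 := ded_40_1 (flp_f L63839) (flp_e L44248) (flp_f L43759) L63104 L91190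
theorem L91201 : sm gc N7357 = N10670 := rfl
theorem L91205 : sm gf N7357 = N10671 := rfl
theorem L91219 : sm gg N7358 = N10673 := rfl
theorem L91225 : sm gh N10673 = N7368 := ded_50_2 (flp_g L63206) (flp_h L63124) L91219
theorem L91229 : sm ge N7359 = N10674 := rfl
theorem L91234 : sm gd N10674 = N7442 := ded_34_1 (flp_e L63878) L44278 (flp_e L43790) (flp_d L63133) L91229
theorem L91236 : sm gg N7359 = N10675 := rfl
theorem L91240 : sm gd N10675 = N7361 := ded_36_1 (flp_g L63143) (flp_d L63133) L91236
theorem L91260 : sm gj N7361 = N10678 := rfl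
theorem L91264 : sm gc N10678 = N7362 := ded_31_1 (flp_j L63155) (flp_c L63147) L91260
theorem L91272 : sm gc N7363 = N10679 := rfl
theorem L91274 : sm ga N10679 = N7365 := ded_11_1 (flp_c L63185) (flp_a L63167) L91272
theorem L91278 : sm gi N10679 = N7374 := ded_33_2 (flp_c L63262) (flp_i L63172) L91272
theorem L91280 : sm gf N7363 = N10680 := rfl
theorem L91282 : sm ga N10680 = N7366 := ded_14_1 (flp_f L63192) (flp_a L63167) L91280
theorem L91286 : sm gd N10680 = N7364 := ded_35_1 (flp_f L63175) L63165 L91280
theorem L91288 : sm gi N10680 = N7375 := ded_48_2 (flp_f L63268) (flp_i L63172) L91280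
theorem L91298 : sm gg N7364 = N10682 := rfl
theorem L91300 : sm ga N10682 = N7368 := ded_15_1 (flp_g L63206) (flp_a L63177) L91298
theorem L91304 : sm ge N10682 = N7450 := ded_41_1 (flp_g L63952) (flp_e L63183) L91298
theorem L91306 : sm gi N10682 = N7377 := ded_51_2 (flp_g L63285) (flp_i L63181) L91298
theorem L91309 : sm gf N7365 = N10683 := rfl
theorem L91311 : sm gb N10683 = N10683 := ded_22_1 (flp_f L91309) L63191 L91309
theorem L91312 : sm gc N10683 = N7366 := ded_29_1 (flp_f L63192) L63185 L91309
theorem L91314 : sm gi N10683 = N7378 := ded_48_2 (flp_f L63295) (flp_i L63189) L91309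
theorem L91316 : sm gh N7365 = N10684 := rfl
theorem L91319 : sm gc N10684 = N7367 := ded_32_1 (flp_h L63200) L63185 L91316
theorem L91323 : sm ge N7366 = N10685 := rfl
theorem L91325 : sm gb N10685 = N7369 := ded_21_1 (flp_e L63215) (flp_b L63194) L91323
theorem L91327 : sm gi N10685 = N7380 := ded_44_2 (flp_e L63307) (flp_i L63198) L91323
theorem L91329 : sm gd N10685 = N7453 := ded_34_1 (flp_e L63979) L44343 (flp_e L43825) (flp_d L63196) L91323
theorem L91331 : sm gf N10685 = N10685 := ded_40_2 (flp_e L91323) (flp_f L63192) L43818 L63192 L91323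
theorem L91332 : sm gg N7366 = N10686 := rfl
theorem L91334 : sm gb N10686 = N7370 := ded_23_1 (flp_g L63225) (flp_b L63194) L91332
theorem L91336 : sm gd N10686 = N7368 := ded_36_1 (flp_g L63206) (flp_d L63196) L91332
theorem L91338 : sm gi N10686 = N7381 := ded_51_2 (flp_g L63314) (flp_i L63198) L91332
theorem L91340 : sm gf N10686 = N10686 := ded_45_1 (flp_g L91332) (flp_f L63192) L43815 L63192 L91332
theorem L91341 : sm gh N7366 = N10687 := rfl
theorem L91343 : sm gb N10687 = N7371 := ded_25_1 (flp_h L63235) (flp_b L63194) L91341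
theorem L91345 : sm gf N10687 = N7367 := ded_47_1 (flp_h L63200) L63192 L91341
theorem L91355 : sm gj N7368 = N10689 := rfl
theorem L91357 : sm gb N10689 = N7373 := ded_24_1 (flp_j L63251) (flp_b L63208) L91355
theorem L91359 : sm ge N10689 = N7457 := ded_42_1 (flp_j L64011) (flp_e L63210) L91355
theorem L91361 : sm gf N10689 = N10689 := ded_46_1 (flp_j L91355) L63214 L91355
theorem L91362 : sm gi N10689 = N7384 := ded_53_2 (flp_j L63335) (flp_i L63212) L91355
theorem L91364 : sm gg N7369 = N10690 := rfl
theorem L91366 : sm ga N10690 = N8179 := ded_15_1 (flp_g L70192) (flp_a L63217) L91364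
theorem L91369 : sm gd N10690 = N7458 := ded_36_1 (flp_g L64019) (flp_d L63222) L91364
theorem L91375 : sm gh N7369 = N10691 := rfl
theorem L91377 : sm ga N10691 = N8180 := ded_17_1 (flp_h L70201) (flp_a L63217) L91375
theorem L91393 : sm gh N7370 = N10693 := rfl
theorem L91410 : sm gb N7374 = N10695 := rfl
theorem L91415 : sm gc N10695 = N8184 := ded_19_2 (flp_b L70228) (flp_c L48722) (flp_b L43868) L63262 L91410
theorem L91417 : sm gf N7374 = N10696 := rfl
theorem L91419 : sm ga N10696 = N7378 := ded_14_1 (flp_f L63295) (flp_a L63264) L91417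
theorem L91421 : sm gc N10696 = N7375 := ded_29_1 (flp_f L63268) L63262 L91417
theorem L91423 : sm gh N7374 = N10697 := rfl
theorem L91425 : sm ga N10697 = N7379 := ded_17_1 (flp_h L63300) (flp_a L63264) L91423
theorem L91427 : sm gc N10697 = N7376 := ded_32_1 (flp_h L63276) L63262 L91423
theorem L91431 : sm ge N7375 = N10698 := rfl
theorem L91433 : sm ga N10698 = N7380 := ded_13_1 (flp_e L63307) (flp_a L63270) L91431
theorem L91435 : sm gb N10698 = N8187 := ded_21_1 (flp_e L70249) (flp_b L63272) L91431
theorem L91437 : sm gd N10698 = N7466 := ded_34_1 (flp_e L64094) L44425 (flp_e L43879) (flp_d L63274) L91431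
theorem L91439 : sm gf N10698 = N10698 := ded_40_2 (flp_e L91431) (flp_f L63268) L43871 L63268 L91431
theorem L91440 : sm gg N7375 = N10699 := rfl
theorem L91442 : sm ga N10699 = N7381 := ded_15_1 (flp_g L63314) (flp_a L63270) L91440
theorem L91446 : sm gd N10699 = N7377 := ded_36_1 (flp_g L63285) (flp_d L63274) L91440
theorem L91449 : sm gh N7375 = N10700 := rfl
theorem L91451 : sm ga N10700 = N7382 := ded_17_1 (flp_h L63321) (flp_a L63270) L91449
theorem L91453 : sm gb N10700 = N8189 := ded_25_1 (flp_h L70263) (flp_b L63272) L91449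
theorem L91455 : sm gf N10700 = N7376 := ded_47_1 (flp_h L63276) L63268 L91449
theorem L91457 : sm gd N10700 = N10700 := ded_38_1 (flp_h L91449) L63274 L43878 (flp_d L63274) L91449
theorem L91458 : sm gi N7376 = N10701 := rfl
theorem L91462 : sm gb N10701 = N8190 := ded_26_1 (flp_i L70270) (flp_b L63280) L91458
theorem L91467 : sm gj N7377 = N10702 := rfl
theorem L91469 : sm ga N10702 = N7384 := ded_16_1 (flp_j L63335) (flp_a L63287) L91467
theorem L91473 : sm ge N10702 = N7470 := ded_42_1 (flp_j L64130) (flp_e L63291) L91467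
theorem L91477 : sm ge N7378 = N10703 := rfl
theorem L91479 : sm gb N10703 = N10703 := ded_21_1 (flp_e L91477) L63297 L91477
theorem L91480 : sm gc N10703 = N7380 := ded_28_1 (flp_e L63307) (flp_c L63298) L91477
theorem L91482 : sm gf N10703 = N10703 := ded_40_2 (flp_e L91477) (flp_f L63295) L43883 L63295 L91477
theorem L91483 : sm gg N7378 = N10704 := rfl
theorem L91485 : sm gb N10704 = N10704 := ded_23_1 (flp_g L91483) L63297 L91483
theorem L91486 : sm gc N10704 = N7381 := ded_30_1 (flp_g L63314) (flp_c L63298) L91483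
theorem L91488 : sm gf N10704 = N10704 := ded_45_1 (flp_g L91483) (flp_f L63295) L43884 L63295 L91483
theorem L91489 : sm gh N7378 = N10705 := rfl
theorem L91491 : sm gb N10705 = N10705 := ded_25_1 (flp_h L91489) L63297 L91489
theorem L91492 : sm gc N10705 = N7382 := ded_32_1 (flp_h L63321) (flp_c L63298) L91489
theorem L91494 : sm gf N10705 = N7379 := ded_47_1 (flp_h L63300) L63295 L91489
theorem L91496 : sm gd N7379 = N10706 := rfl
theorem L91501 : sm gi N7379 = N10707 := rfl
theorem L91508 : sm gg N7380 = N10708 := rfl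
theorem L91512 : sm gd N10708 = N7476 := ded_36_1 (flp_g L64178) (flp_d L63311) L91508
theorem L91514 : sm ge N10708 = N7381 := ded_41_1 (flp_g L63314) L63307 L91508
theorem L91516 : sm gh N7380 = N10709 := rfl
theorem L91518 : sm gb N10709 = N7386 := ded_25_1 (flp_h L63352) (flp_b L63309) L91516
theorem L91520 : sm ge N10709 = N7382 := ded_43_1 (flp_h L63321) L63307 L91516
theorem L91523 : sm gj N7381 = N10710 := rfl
theorem L91527 : sm gd N10710 = N7384 := ded_37_1 (flp_j L63335) (flp_d L63318) L91523
theorem L91530 : sm gh N7381 = N10711 := rfl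
theorem L91535 : sm gg N10711 = N7382 := ded_50_1 (flp_h L63321) L63314 L91530
theorem L91538 : sm gi N7382 = N10712 := rfl
theorem L91545 : sm gf N7385 = N10713 := rfl
theorem L91547 : sm ga N10713 = N8202 := ded_14_1 (flp_f L70356) (flp_a L63345) L91545
theorem L91554 : sm gj N7385 = N10714 := rfl
theorem L91559 : sm gd N10714 = N7482 := ded_37_1 (flp_j L64224) (flp_d L63348) L91554
theorem L91563 : sm gh N7385 = N10715 := rfl
theorem L91570 : sm gg N10715 = N7386 := ded_50_1 (flp_h L63352) L63343 L91563
theorem L91572 : sm gd N7386 = N10716 := rfl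
theorem L91578 : sm gh N10716 = N7484 := ded_38_2 (flp_d L64242) (flp_h L44504) (flp_d L43912) L63352 L91572
theorem L91606 : sm ge N7390 = N10720 := rfl
theorem L91608 : sm ga N10720 = N7391 := ded_13_1 (flp_e L63397) L63385 L91606
theorem L91613 : sm gg N10720 = N10720 := ded_41_2 (flp_e L91606) L63390 L91606
theorem L91614 : sm gj N10720 = N7429 := ded_42_2 (flp_e L63765) (flp_j L63391) L91606
theorem L91618 : sm gd N7391 = N10721 := rfl
theorem L91620 : sm gb N10721 = N7392 := ded_20_1 (flp_d L63407) (flp_b L63399) L91618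
theorem L91623 : sm gj N10721 = N7430 := ded_37_2 (flp_d L63776) (flp_j L63403) L91618
theorem L91628 : sm gf N7391 = N10722 := rfl
theorem L91633 : sm gj N10722 = N7431 := ded_46_2 (flp_f L63785) (flp_j L63403) L91628
theorem L91637 : sm gf N7392 = N10723 := rfl
theorem L91642 : sm gd N10723 = N7393 := ded_35_1 (flp_f L63418) L63407 L91637
theorem L91644 : sm gj N10723 = N7432 := ded_46_2 (flp_f L63792) (flp_j L63412) L91637
theorem L91647 : sm gh N7392 = N10724 := rfl
theorem L91655 : sm gj N10724 = N7433 := ded_52_1 (flp_h L63800) (flp_j L63412) L91647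
theorem L91678 : sm gd N7395 = N10727 := rfl
theorem L91685 : sm gj N10727 = N7436 := ded_37_2 (flp_d L63830) (flp_j L63444) L91678
theorem L91688 : sm gf N7395 = N10728 := rfl
theorem L91690 : sm ga N10728 = N7397 := ded_14_1 (flp_f L63457) (flp_a L63439) L91688
theorem L91696 : sm gh N10728 = N7403 := ded_47_2 (flp_f L63519) (flp_h L63446) L91688
theorem L91699 : sm gc N7396 = N10729 := rfl
theorem L91702 : sm gj N10729 = N7438 := ded_31_2 (flp_c L63848) (flp_j L63454) L91699
theorem L91706 : sm gf N7396 = N10730 := rfl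
theorem L91708 : sm gb N10730 = N7398 := ded_22_1 (flp_f L63466) (flp_b L63451) L91706
theorem L91712 : sm gj N10730 = N7439 := ded_46_2 (flp_f L63854) (flp_j L63454) L91706
theorem L91715 : sm gh N7396 = N10731 := rfl
theorem L91722 : sm gd N10731 = N7406 := ded_38_1 (flp_h L63549) (flp_d L44040) (flp_h L43997) L63449 L91715
theorem L91724 : sm gg N7397 = N10732 := rfl
theorem L91728 : sm gh N10732 = N7407 := ded_50_2 (flp_g L63557) (flp_h L63463) L91724
theorem L91732 : sm ge N7398 = N10733 := rfl
theorem L91740 : sm gg N7398 = N10734 := rfl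
theorem L91742 : sm ga N10734 = N8228 := ded_15_1 (flp_g L70570) (flp_a L63468) L91740
theorem L91745 : sm gd N10734 = N7400 := ded_36_1 (flp_g L63486) (flp_d L63471) L91740
theorem L91771 : sm gj N7400 = N10737 := rfl
theorem L91775 : sm gc N10737 = N7401 := ded_31_1 (flp_j L63496) (flp_c L63490) L91771
theorem L91781 : sm gg N10737 = N7446 := ded_49_1 (flp_j L63913) (flp_g L44290) (flp_j L44015) L63486 L91771
theorem L91783 : sm gc N7402 = N10738 := rfl
theorem L91785 : sm ga N10738 = N7404 := ded_11_1 (flp_c L63529) (flp_a L63509) L91783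
theorem L91789 : sm gj N10738 = N7447 := ded_31_2 (flp_c L63924) (flp_j L63514) L91783
theorem L91791 : sm gi N10738 = N7413 := ded_33_2 (flp_c L63619) (flp_i L63516) L91783
theorem L91793 : sm gf N7402 = N10739 := rfl
theorem L91795 : sm ga N10739 = N7405 := ded_14_1 (flp_f L63539) (flp_a L63509) L91793
theorem L91797 : sm gb N10739 = N8233 := ded_22_1 (flp_f L70616) (flp_b L63511) L91793
theorem L91799 : sm gd N10739 = N7403 := ded_35_1 (flp_f L63519) L63507 L91793
theorem L91801 : sm gj N10739 = N7448 := ded_46_2 (flp_f L63933) (flp_j L63514) L91793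
theorem L91803 : sm gi N10739 = N7414 := ded_48_2 (flp_f L63627) (flp_i L63516) L91793
theorem L91815 : sm gg N7403 = N10741 := rfl
theorem L91817 : sm ga N10741 = N7407 := ded_15_1 (flp_g L63557) (flp_a L63521) L91815
theorem L91821 : sm gi N10741 = N7416 := ded_51_2 (flp_g L63648) (flp_i L63527) L91815
theorem L91824 : sm gf N7404 = N10742 := rfl
theorem L91826 : sm gb N10742 = N7579 := ded_22_1 (flp_f L65083) (flp_b L63537) L91824
theorem L91828 : sm gc N10742 = N7405 := ded_29_1 (flp_f L63539) L63529 L91824
theorem L91830 : sm gj N10742 = N7451 := ded_46_2 (flp_f L63962) (flp_j L63533) L91824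
theorem L91832 : sm gi N10742 = N7417 := ded_48_2 (flp_f L63656) (flp_i L63535) L91824
theorem L91834 : sm gh N7404 = N10743 := rfl
theorem L91838 : sm gc N10743 = N7406 := ded_32_1 (flp_h L63549) L63529 L91834
theorem L91842 : sm gj N10743 = N7452 := ded_52_1 (flp_h L63970) (flp_j L63533) L91834
theorem L91844 : sm ge N7405 = N10744 := rfl
theorem L91846 : sm gb N10744 = N7408 := ded_21_1 (flp_e L63564) (flp_b L63541) L91844
theorem L91848 : sm gj N10744 = N7453 := ded_42_2 (flp_e L63979) (flp_j L63545) L91844
theorem L91850 : sm gi N10744 = N7419 := ded_44_2 (flp_e L63674) (flp_i L63547) L91844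
theorem L91852 : sm gf N10744 = N10744 := ded_40_2 (flp_e L91844) (flp_f L63539) L44049 L63539 L91844
theorem L91853 : sm gg N7405 = N10745 := rfl
theorem L91855 : sm gb N10745 = N7409 := ded_23_1 (flp_g L63575) (flp_b L63541) L91853
theorem L91857 : sm gd N10745 = N7407 := ded_36_1 (flp_g L63557) (flp_d L63543) L91853
theorem L91859 : sm gi N10745 = N7420 := ded_51_2 (flp_g L63681) (flp_i L63547) L91853
theorem L91861 : sm gf N10745 = N10745 := ded_45_1 (flp_g L91853) (flp_f L63539) L44044 L63539 L91853
theorem L91862 : sm gh N7405 = N10746 := rfl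
theorem L91870 : sm gi N7406 = N10747 := rfl
theorem L91872 : sm gb N10747 = N7411 := ded_26_1 (flp_i L63596) (flp_b L63551) L91870
theorem L91878 : sm gh N10747 = N7422 := ded_54_1 (flp_i L63697) (flp_h L44135) (flp_i L44047) L63549 L91870
theorem L91880 : sm gj N7407 = N10748 := rfl
theorem L91885 : sm gi N10748 = N7423 := ded_53_2 (flp_j L63706) (flp_i L63561) L91880
theorem L91889 : sm gg N7408 = N10749 := rfl
theorem L91895 : sm ge N10749 = N7409 := ded_41_1 (flp_g L63575) L63564 L91889
theorem L91897 : sm gi N10749 = N7424 := ded_51_2 (flp_g L63714) (flp_i L63572) L91889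
theorem L91899 : sm gh N7408 = N10750 := rfl
theorem L91901 : sm ga N10750 = N8244 := ded_17_1 (flp_h L70717) (flp_a L63566) L91899
theorem L91903 : sm gc N10750 = N7587 := ded_32_1 (flp_h L65158) (flp_c L63568) L91899
theorem L91923 : sm gh N7409 = N10752 := rfl
theorem L91932 : sm gi N7410 = N10753 := rfl
theorem L91938 : sm gf N10753 = N7411 := ded_48_1 (flp_i L63596) (flp_f L63592) L91932
theorem L91942 : sm gh N10753 = N7428 := ded_54_1 (flp_i L63754) (flp_h L44168) (flp_i L44068) L63586 L91932
theorem L91944 : sm gb N7413 = N10754 := rfl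
theorem L91946 : sm ge N10754 = N10754 := ded_21_2 (flp_b L91944) L63623 L91944
theorem L91947 : sm gg N10754 = N10754 := ded_23_2 (flp_b L91944) L63624 L91944
theorem L91948 : sm gj N10754 = N7463 := ded_24_2 (flp_b L64070) (flp_j L63625) L91944
theorem L91950 : sm ga N10754 = N7591 := ded_10_1 (flp_b L65197) L45166 (flp_b L44125) (flp_a L63621) L91944
theorem L91952 : sm gc N10754 = N8248 := ded_19_2 (flp_b L70754) (flp_c L49068) (flp_b L44104) L63619 L91944
theorem L91954 : sm gf N7413 = N10755 := rfl
theorem L91956 : sm ga N10755 = N7417 := ded_14_1 (flp_f L63656) (flp_a L63621) L91954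
theorem L91958 : sm gc N10755 = N7414 := ded_29_1 (flp_f L63627) L63619 L91954
theorem L91960 : sm gj N10755 = N7464 := ded_46_2 (flp_f L64079) (flp_j L63625) L91954
theorem L91962 : sm gh N7413 = N10756 := rfl
theorem L91964 : sm ga N10756 = N7418 := ded_17_1 (flp_h L63664) (flp_a L63621) L91962
theorem L91966 : sm gc N10756 = N7415 := ded_32_1 (flp_h L63637) L63619 L91962
theorem L91968 : sm ge N10756 = N10756 := ded_43_1 (flp_h L91962) L63623 L91962
theorem L91969 : sm gg N10756 = N10756 := ded_50_1 (flp_h L91962) L63624 L91962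
theorem L91970 : sm gj N10756 = N7465 := ded_52_1 (flp_h L64085) (flp_j L63625) L91962
theorem L91972 : sm ge N7414 = N10757 := rfl
theorem L91974 : sm ga N10757 = N7419 := ded_13_1 (flp_e L63674) (flp_a L63629) L91972
theorem L91976 : sm gb N10757 = N8251 := ded_21_1 (flp_e L70782) (flp_b L63631) L91972
theorem L91978 : sm gj N10757 = N7466 := ded_42_2 (flp_e L64094) (flp_j L63635) L91972
theorem L91981 : sm gg N7414 = N10758 := rfl
theorem L91983 : sm ga N10758 = N7420 := ded_15_1 (flp_g L63681) (flp_a L63629) L91981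
theorem L91987 : sm gd N10758 = N7416 := ded_36_1 (flp_g L63648) (flp_d L63633) L91981
theorem L91990 : sm gh N7414 = N10759 := rfl
theorem L91992 : sm ga N10759 = N7421 := ded_17_1 (flp_h L63688) (flp_a L63629) L91990
theorem L91994 : sm gb N10759 = N8253 := ded_25_1 (flp_h L70796) (flp_b L63631) L91990
theorem L91996 : sm gf N10759 = N7415 := ded_47_1 (flp_h L63637) L63627 L91990
theorem L91998 : sm gj N10759 = N7468 := ded_52_1 (flp_h L64111) (flp_j L63635) L91990
theorem L92000 : sm gd N10759 = N10759 := ded_38_1 (flp_h L91990) L63633 L44118 (flp_d L63633) L91990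
theorem L92001 : sm gi N7415 = N10760 := rfl
theorem L92003 : sm ga N10760 = N7422 := ded_18_1 (flp_i L63697) (flp_a L63639) L92001
theorem L92012 : sm gj N7416 = N10761 := rfl
theorem L92014 : sm ga N10761 = N7423 := ded_16_1 (flp_j L63706) (flp_a L63650) L92012
theorem L92020 : sm gg N10761 = N7470 := ded_49_1 (flp_j L64130) (flp_g L44437) (flp_j L44116) L63648 L92012
theorem L92022 : sm ge N7417 = N10762 := rfl
theorem L92024 : sm gb N10762 = N7599 := ded_21_1 (flp_e L65278) (flp_b L63658) L92022
theorem L92026 : sm gc N10762 = N7419 := ded_28_1 (flp_e L63674) (flp_c L63660) L92022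
theorem L92028 : sm gj N10762 = N7471 := ded_42_2 (flp_e L64139) (flp_j L63662) L92022
theorem L92030 : sm gf N10762 = N10762 := ded_40_2 (flp_e L92022) (flp_f L63656) L44121 L63656 L92022
theorem L92031 : sm gg N7417 = N10763 := rfl
theorem L92033 : sm gb N10763 = N7600 := ded_23_1 (flp_g L65285) (flp_b L63658) L92031
theorem L92035 : sm gc N10763 = N7420 := ded_30_1 (flp_g L63681) (flp_c L63660) L92031
theorem L92037 : sm gf N10763 = N10763 := ded_45_1 (flp_g L92031) (flp_f L63656) L44122 L63656 L92031
theorem L92038 : sm gh N7417 = N10764 := rfl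
theorem L92040 : sm gb N10764 = N7601 := ded_25_1 (flp_h L65290) (flp_b L63658) L92038
theorem L92042 : sm gc N10764 = N7421 := ded_32_1 (flp_h L63688) (flp_c L63660) L92038
theorem L92044 : sm gf N10764 = N7418 := ded_47_1 (flp_h L63664) L63656 L92038
theorem L92046 : sm gj N10764 = N7473 := ded_52_1 (flp_h L64154) (flp_j L63662) L92038
theorem L92048 : sm gd N7418 = N10765 := rfl
theorem L92050 : sm gb N10765 = N7602 := ded_20_1 (flp_d L65298) (flp_b L63666) L92048
theorem L92052 : sm gg N10765 = N10765 := ded_36_2 (flp_d L92048) L63671 L92048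
theorem L92053 : sm gj N10765 = N7474 := ded_37_2 (flp_d L64162) (flp_j L63672) L92048
theorem L92055 : sm gc N10765 = N10765 := ded_27_1 (flp_d L92048) L63668 L44143 (flp_c L63668) L92048
theorem L92056 : sm gi N7418 = N10766 := rfl
theorem L92066 : sm gg N7419 = N10767 := rfl
theorem L92068 : sm gb N10767 = N7424 := ded_23_1 (flp_g L63714) (flp_b L63676) L92066
theorem L92072 : sm gh N7419 = N10768 := rfl
theorem L92074 : sm gb N10768 = N7425 := ded_25_1 (flp_h L63722) (flp_b L63676) L92072
theorem L92079 : sm gj N10768 = N7477 := ded_52_1 (flp_h L64184) (flp_j L63678) L92072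
theorem L92081 : sm gj N7420 = N10769 := rfl
theorem L92085 : sm gd N10769 = N7423 := ded_37_1 (flp_j L63706) (flp_d L63685) L92081
theorem L92090 : sm gh N7420 = N10770 := rfl
theorem L92092 : sm gb N10770 = N7427 := ded_25_1 (flp_h L63744) (flp_b L63683) L92090
theorem L92095 : sm gg N10770 = N7421 := ded_50_1 (flp_h L63688) L63681 L92090
theorem L92098 : sm gi N7421 = N10771 := rfl
theorem L92100 : sm gb N10771 = N7428 := ded_26_1 (flp_i L63754) (flp_b L63690) L92098
theorem L92102 : sm gd N10771 = N10771 := ded_39_1 (flp_i L92098) L63696 L92098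
theorem L92103 : sm gf N10771 = N7422 := ded_48_1 (flp_i L63697) (flp_f L63692) L92098
theorem L92105 : sm gj N10771 = N7480 := ded_53_1 (flp_i L64208) (flp_j L63694) L92098
theorem L92107 : sm gf N7424 = N10772 := rfl
theorem L92109 : sm ga N10772 = N8266 := ded_14_1 (flp_f L70910) (flp_a L63716) L92107
theorem L92115 : sm gj N7424 = N10773 := rfl
theorem L92117 : sm ga N10773 = N8267 := ded_16_1 (flp_j L70916) (flp_a L63716) L92115
theorem L92123 : sm gg N10773 = N7482 := ded_49_1 (flp_j L64224) (flp_g L44496) (flp_j L44156) L63714 L92115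
theorem L92125 : sm gh N7424 = N10774 := rfl
theorem L92133 : sm gg N10774 = N7425 := ded_50_1 (flp_h L63722) L63714 L92125
theorem L92135 : sm gd N7425 = N10775 := rfl
theorem L92140 : sm gj N10775 = N7484 := ded_37_2 (flp_d L64242) (flp_j L63731) L92135
theorem L92143 : sm gi N7425 = N10776 := rfl
theorem L92152 : sm gj N10776 = N7485 := ded_53_1 (flp_i L64248) (flp_j L63731) L92143
theorem L92154 : sm gh N7426 = N10777 := rfl
theorem L92163 : sm gj N10777 = N7427 := ded_52_1 (flp_h L63744) L63733 L92154
theorem L92166 : sm gi N7427 = N10778 := rfl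
theorem L92170 : sm gc N10778 = N7615 := ded_33_1 (flp_i L65411) (flp_c L63748) L92166
theorem L92176 : sm gd N7429 = N10779 := rfl
theorem L92185 : sm ge N10779 = N7436 := ded_34_2 (flp_d L63830) (flp_e L44248) (flp_d L44203) L63765 L92176
theorem L92187 : sm gf N7429 = N10780 := rfl
theorem L92196 : sm gc N7430 = N10781 := rfl
theorem L92198 : sm ge N10781 = N7438 := ded_28_2 (flp_c L63848) (flp_e L63783) L92196
theorem L92200 : sm gg N10781 = N7490 := ded_30_2 (flp_c L64300) (flp_g L63780) L92196
theorem L92205 : sm gf N7430 = N10782 := rfl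
theorem L92212 : sm gh N7430 = N10783 := rfl
theorem L92216 : sm ge N10783 = N7440 := ded_43_1 (flp_h L63861) (flp_e L63783) L92212
theorem L92218 : sm gg N10783 = N7492 := ded_50_1 (flp_h L64316) (flp_g L63780) L92212
theorem L92221 : sm gg N7431 = N10784 := rfl
theorem L92228 : sm gf N10784 = N7493 := ded_45_1 (flp_g L64324) (flp_f L44561) (flp_g L44216) L63785 L92221
theorem L92230 : sm ge N7432 = N10785 := rfl
theorem L92232 : sm ga N10785 = N8286 := ded_13_1 (flp_e L71073) (flp_a L63794) L92230
theorem L92236 : sm gf N10785 = N7442 := ded_40_2 (flp_e L63878) (flp_f L44273) (flp_e L44228) L63792 L92230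
theorem L92256 : sm gi N7433 = N10788 := rfl
theorem L92264 : sm gg N10788 = N7497 := ded_51_1 (flp_i L64359) (flp_g L63807) L92256
theorem L92277 : sm gc N7436 = N10790 := rfl
theorem L92281 : sm gg N10790 = N7499 := ded_30_2 (flp_c L64379) (flp_g L63836) L92277
theorem L92284 : sm gf N7436 = N10791 := rfl
theorem L92293 : sm gh N7436 = N10792 := rfl
theorem L92301 : sm gd N10792 = N7449 := ded_38_1 (flp_h L63943) (flp_d L44311) (flp_h L44256) L63830 L92293
theorem L92314 : sm gf N7438 = N10794 := rfl
theorem L92317 : sm gc N10794 = N7439 := ded_29_1 (flp_f L63854) L63848 L92314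
theorem L92320 : sm gh N7438 = N10795 := rfl
theorem L92325 : sm gg N10795 = N7504 := ded_50_1 (flp_h L64421) (flp_g L63850) L92320
theorem L92327 : sm ge N7439 = N10796 := rfl
theorem L92332 : sm gg N7439 = N10797 := rfl
theorem L92336 : sm gd N10797 = N7441 := ded_36_1 (flp_g L63869) (flp_d L63858) L92332
theorem L92339 : sm gf N10797 = N7506 := ded_45_1 (flp_g L64434) (flp_f L44631) (flp_g L44263) L63854 L92332
theorem L92341 : sm gh N7439 = N10798 := rfl
theorem L92349 : sm gi N7440 = N10799 := rfl
theorem L92355 : sm gg N10799 = N7508 := ded_51_1 (flp_i L64450) (flp_g L63865) L92349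
theorem L92367 : sm gg N7442 = N10801 := rfl
theorem L92372 : sm ge N10801 = N7443 := ded_41_1 (flp_g L63884) L63878 L92367
theorem L92375 : sm gh N7442 = N10802 := rfl
theorem L92382 : sm gj N7443 = N10803 := rfl
theorem L92392 : sm gh N7443 = N10804 := rfl
theorem L92397 : sm gf N10804 = N7513 := ded_47_1 (flp_h L64493) (flp_f L63892) L92392
theorem L92413 : sm gb N7447 = N10806 := rfl
theorem L92416 : sm gg N10806 = N7515 := ded_23_2 (flp_b L64513) (flp_g L63929) L92413
theorem L92418 : sm gi N10806 = N7463 := ded_26_2 (flp_b L64070) (flp_i L63931) L92413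
theorem L92420 : sm ga N10806 = N7616 := ded_10_1 (flp_b L65420) L45309 (flp_b L44337) (flp_a L63926) L92413
theorem L92424 : sm gf N7447 = N10807 := rfl
theorem L92426 : sm ga N10807 = N7451 := ded_14_1 (flp_f L63962) (flp_a L63926) L92424
theorem L92428 : sm gc N10807 = N7448 := ded_29_1 (flp_f L63933) L63924 L92424
theorem L92430 : sm gi N10807 = N7464 := ded_48_2 (flp_f L64079) (flp_i L63931) L92424
theorem L92432 : sm gh N7447 = N10808 := rfl
theorem L92439 : sm gg N10808 = N7517 := ded_50_1 (flp_h L64532) (flp_g L63929) L92432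
theorem L92441 : sm ge N7448 = N10809 := rfl
theorem L92443 : sm ga N10809 = N7453 := ded_13_1 (flp_e L63979) (flp_a L63935) L92441
theorem L92447 : sm gi N10809 = N7466 := ded_44_2 (flp_e L64094) (flp_i L63941) L92441
theorem L92450 : sm gg N7448 = N10810 := rfl
theorem L92452 : sm ga N10810 = N7454 := ded_15_1 (flp_g L63986) (flp_a L63935) L92450
theorem L92454 : sm gb N10810 = N8311 := ded_23_1 (flp_g L71269) (flp_b L63937) L92450
theorem L92458 : sm gi N10810 = N7467 := ded_51_2 (flp_g L64101) (flp_i L63941) L92450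
theorem L92460 : sm gf N10810 = N7519 := ded_45_1 (flp_g L64551) (flp_f L44708) (flp_g L44317) L63933 L92450
theorem L92470 : sm gi N7449 = N10812 := rfl
theorem L92474 : sm gb N10812 = N8313 := ded_26_1 (flp_i L71285) (flp_b L63947) L92470
theorem L92481 : sm gj N7450 = N10813 := rfl
theorem L92483 : sm ga N10813 = N7457 := ded_16_1 (flp_j L64011) (flp_a L63954) L92481
theorem L92491 : sm ge N7451 = N10814 := rfl
theorem L92493 : sm gb N10814 = N7624 := ded_21_1 (flp_e L65501) (flp_b L63964) L92491
theorem L92495 : sm gc N10814 = N7453 := ded_28_1 (flp_e L63979) (flp_c L63966) L92491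
theorem L92497 : sm gi N10814 = N7471 := ded_44_2 (flp_e L64139) (flp_i L63968) L92491
theorem L92499 : sm gf N10814 = N10814 := ded_40_2 (flp_e L92491) (flp_f L63962) L44332 L63962 L92491
theorem L92500 : sm gg N7451 = N10815 := rfl
theorem L92502 : sm gb N10815 = N7625 := ded_23_1 (flp_g L65508) (flp_b L63964) L92500
theorem L92504 : sm gc N10815 = N7454 := ded_30_1 (flp_g L63986) (flp_c L63966) L92500
theorem L92506 : sm gi N10815 = N7472 := ded_51_2 (flp_g L64146) (flp_i L63968) L92500
theorem L92508 : sm gf N10815 = N7524 := ded_45_1 (flp_g L64600) (flp_f L44736) (flp_g L44333) L63962 L92500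
theorem L92510 : sm gh N7451 = N10816 := rfl
theorem L92516 : sm gf N10816 = N7452 := ded_47_1 (flp_h L63970) L63962 L92510
theorem L92518 : sm gd N7452 = N10817 := rfl
theorem L92520 : sm gb N10817 = N7627 := ded_20_1 (flp_d L65522) (flp_b L63972) L92518
theorem L92524 : sm gi N7452 = N10818 := rfl
theorem L92526 : sm gb N10818 = N7628 := ded_26_1 (flp_i L65527) (flp_b L63972) L92524
theorem L92528 : sm gc N10818 = N7456 := ded_33_1 (flp_i L64002) (flp_c L63974) L92524
theorem L92535 : sm gg N7453 = N10819 := rfl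
theorem L92537 : sm gb N10819 = N7458 := ded_23_1 (flp_g L64019) (flp_b L63981) L92535
theorem L92539 : sm ge N10819 = N7454 := ded_41_1 (flp_g L63986) L63979 L92535
theorem L92541 : sm gi N10819 = N7476 := ded_51_2 (flp_g L64178) (flp_i L63983) L92535
theorem L92543 : sm gh N7453 = N10820 := rfl
theorem L92545 : sm gb N10820 = N7459 := ded_25_1 (flp_h L64029) (flp_b L63981) L92543
theorem L92547 : sm ge N10820 = N7455 := ded_43_1 (flp_h L63996) L63979 L92543
theorem L92550 : sm gj N7454 = N10821 := rfl
theorem L92552 : sm gb N10821 = N7460 := ded_24_1 (flp_j L64038) (flp_b L63988) L92550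
theorem L92554 : sm gd N10821 = N7457 := ded_37_1 (flp_j L64011) (flp_d L63990) L92550
theorem L92556 : sm gf N10821 = N7530 := ded_46_1 (flp_j L64649) (flp_f L63994) L92550
theorem L92558 : sm gi N10821 = N7478 := ded_53_2 (flp_j L64191) (flp_i L63992) L92550
theorem L92560 : sm gh N7454 = N10822 := rfl
theorem L92564 : sm gf N10822 = N7531 := ded_47_1 (flp_h L64658) (flp_f L63994) L92560
theorem L92568 : sm gi N7455 = N10823 := rfl
theorem L92574 : sm gh N10823 = N7480 := ded_54_1 (flp_i L64208) (flp_h L44474) (flp_i L44345) L63996 L92568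
theorem L92576 : sm gf N7458 = N10824 := rfl
theorem L92587 : sm gj N7458 = N10825 := rfl
theorem L92589 : sm ga N10825 = N8326 := ded_16_1 (flp_j L71399) (flp_a L64021) L92587
theorem L92612 : sm gi N7459 = N10828 := rfl
theorem L92616 : sm gc N10828 = N7638 := ded_33_1 (flp_i L65614) (flp_c L64033) L92612
theorem L92623 : sm gh N7460 = N10829 := rfl
theorem L92627 : sm gc N10829 = N7639 := ded_32_1 (flp_h L65623) (flp_c L64042) L92623
theorem L92629 : sm gf N10829 = N7538 := ded_47_1 (flp_h L64724) (flp_f L64046) L92623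
theorem L92631 : sm gj N10829 = N7461 := ded_52_1 (flp_h L64050) L64038 L92623
theorem L92633 : sm gi N7461 = N10830 := rfl
theorem L92643 : sm gh N10830 = N7487 := ded_54_1 (flp_i L64268) (flp_h L44523) (flp_i L44379) L64050 L92633
theorem L92645 : sm gf N7463 = N10831 := rfl
theorem L92647 : sm ga N10831 = N7641 := ded_14_1 (flp_f L65643) (flp_a L64075) L92645
theorem L92649 : sm gb N10831 = N7464 := ded_22_1 (flp_f L64079) L64070 L92645
theorem L92651 : sm gc N10831 = N8332 := ded_29_1 (flp_f L71445) (flp_c L64077) L92645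
theorem L92653 : sm gh N7463 = N10832 := rfl
theorem L92657 : sm gb N10832 = N7465 := ded_25_1 (flp_h L64085) L64070 L92653
theorem L92664 : sm ge N7464 = N10833 := rfl
theorem L92666 : sm ga N10833 = N7471 := ded_13_1 (flp_e L64139) (flp_a L64081) L92664
theorem L92668 : sm gc N10833 = N7466 := ded_28_1 (flp_e L64094) (flp_c L64083) L92664
theorem L92670 : sm gf N10833 = N10833 := ded_40_2 (flp_e L92664) (flp_f L64079) L44416 L64079 L92664
theorem L92671 : sm gg N7464 = N10834 := rfl
theorem L92673 : sm ga N10834 = N7472 := ded_15_1 (flp_g L64146) (flp_a L64081) L92671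
theorem L92675 : sm gc N10834 = N7467 := ded_30_1 (flp_g L64101) (flp_c L64083) L92671
theorem L92677 : sm gf N10834 = N7543 := ded_45_1 (flp_g L64770) (flp_f L44852) (flp_g L44417) L64079 L92671
theorem L92679 : sm gh N7464 = N10835 := rfl
theorem L92681 : sm ga N10835 = N7473 := ded_17_1 (flp_h L64154) (flp_a L64081) L92679
theorem L92683 : sm gc N10835 = N7468 := ded_32_1 (flp_h L64111) (flp_c L64083) L92679
theorem L92685 : sm gf N10835 = N7465 := ded_47_1 (flp_h L64085) L64079 L92679
theorem L92687 : sm gd N7465 = N10836 := rfl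
theorem L92689 : sm ga N10836 = N7474 := ded_12_1 (flp_d L64162) (flp_a L64087) L92687
theorem L92691 : sm gg N10836 = N7545 := ded_36_2 (flp_d L64785) (flp_g L64092) L92687
theorem L92694 : sm gi N7465 = N10837 := rfl
theorem L92696 : sm ga N10837 = N7475 := ded_18_1 (flp_i L64169) (flp_a L64087) L92694
theorem L92698 : sm gc N10837 = N7469 := ded_33_1 (flp_i L64120) (flp_c L64089) L92694
theorem L92701 : sm gg N10837 = N7546 := ded_51_1 (flp_i L64791) (flp_g L64092) L92694
theorem L92703 : sm gg N7466 = N10838 := rfl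
theorem L92705 : sm ga N10838 = N7476 := ded_15_1 (flp_g L64178) (flp_a L64096) L92703
theorem L92707 : sm gb N10838 = N8339 := ded_23_1 (flp_g L71502) (flp_b L64098) L92703
theorem L92709 : sm ge N10838 = N7467 := ded_41_1 (flp_g L64101) L64094 L92703
theorem L92711 : sm gh N7466 = N10839 := rfl
theorem L92713 : sm ga N10839 = N7477 := ded_17_1 (flp_h L64184) (flp_a L64096) L92711
theorem L92715 : sm gb N10839 = N8340 := ded_25_1 (flp_h L71508) (flp_b L64098) L92711
theorem L92717 : sm ge N10839 = N7468 := ded_43_1 (flp_h L64111) L64094 L92711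
theorem L92719 : sm gf N10839 = N10839 := ded_47_1 (flp_h L92711) L64100 L92711
theorem L92720 : sm gj N7467 = N10840 := rfl
theorem L92722 : sm ga N10840 = N7478 := ded_16_1 (flp_j L64191) (flp_a L64103) L92720
theorem L92726 : sm gd N10840 = N7470 := ded_37_1 (flp_j L64130) (flp_d L64107) L92720
theorem L92728 : sm gf N10840 = N7549 := ded_46_1 (flp_j L64818) (flp_f L64109) L92720
theorem L92730 : sm gh N7467 = N10841 := rfl
theorem L92732 : sm ga N10841 = N7479 := ded_17_1 (flp_h L64199) (flp_a L64103) L92730
theorem L92734 : sm gb N10841 = N8342 := ded_25_1 (flp_h L71523) (flp_b L64105) L92730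
theorem L92736 : sm gf N10841 = N7550 := ded_47_1 (flp_h L64827) (flp_f L64109) L92730
theorem L92738 : sm gg N10841 = N7468 := ded_50_1 (flp_h L64111) L64101 L92730
theorem L92740 : sm gd N10841 = N10841 := ded_38_1 (flp_h L92730) L64107 L44443 (flp_d L64107) L92730
theorem L92741 : sm gi N7468 = N10842 := rfl
theorem L92743 : sm ga N10842 = N7480 := ded_18_1 (flp_i L64208) (flp_a L64113) L92741
theorem L92748 : sm gf N10842 = N7469 := ded_48_1 (flp_i L64120) (flp_f L64117) L92741
theorem L92750 : sm gd N7471 = N10843 := rfl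
theorem L92752 : sm gb N10843 = N7653 := ded_20_1 (flp_d L65748) (flp_b L64141) L92750
theorem L92754 : sm gf N10843 = N10843 := ded_35_2 (flp_d L92750) L64145 L92750
theorem L92755 : sm gg N7471 = N10844 := rfl
theorem L92757 : sm gb N10844 = N7654 := ded_23_1 (flp_g L65752) (flp_b L64141) L92755
theorem L92759 : sm gc N10844 = N7476 := ded_30_1 (flp_g L64178) (flp_c L64143) L92755
theorem L92761 : sm ge N10844 = N7472 := ded_41_1 (flp_g L64146) L64139 L92755
theorem L92763 : sm gh N7471 = N10845 := rfl
theorem L92765 : sm gb N10845 = N7655 := ded_25_1 (flp_h L65758) (flp_b L64141) L92763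
theorem L92767 : sm gc N10845 = N7477 := ded_32_1 (flp_h L64184) (flp_c L64143) L92763
theorem L92769 : sm ge N10845 = N7473 := ded_43_1 (flp_h L64154) L64139 L92763
theorem L92771 : sm gf N10845 = N10845 := ded_47_1 (flp_h L92763) L64145 L92763
theorem L92772 : sm gj N7472 = N10846 := rfl
theorem L92774 : sm gb N10846 = N7656 := ded_24_1 (flp_j L65765) (flp_b L64148) L92772
theorem L92776 : sm gc N10846 = N7478 := ded_31_1 (flp_j L64191) (flp_c L64150) L92772
theorem L92778 : sm gf N10846 = N7555 := ded_46_1 (flp_j L64871) (flp_f L64152) L92772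
theorem L92780 : sm gh N7472 = N10847 := rfl
theorem L92782 : sm gb N10847 = N7657 := ded_25_1 (flp_h L65771) (flp_b L64148) L92780
theorem L92784 : sm gc N10847 = N7479 := ded_32_1 (flp_h L64199) (flp_c L64150) L92780
theorem L92786 : sm gf N10847 = N7556 := ded_47_1 (flp_h L64878) (flp_f L64152) L92780
theorem L92788 : sm gg N10847 = N7473 := ded_50_1 (flp_h L64154) L64146 L92780
theorem L92790 : sm gd N7473 = N10848 := rfl
theorem L92792 : sm gb N10848 = N7658 := ded_20_1 (flp_d L65779) (flp_b L64156) L92790
theorem L92794 : sm gf N10848 = N7474 := ded_35_2 (flp_d L64162) (flp_f L64160) L92790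
theorem L92796 : sm gc N10848 = N10848 := ded_27_1 (flp_d L92790) L64158 L44480 (flp_c L64158) L92790
theorem L92797 : sm gi N7473 = N10849 := rfl
theorem L92799 : sm gb N10849 = N7659 := ded_26_1 (flp_i L65785) (flp_b L64156) L92797
theorem L92805 : sm ge N7474 = N10850 := rfl
theorem L92807 : sm gb N10850 = N7660 := ded_21_1 (flp_e L65791) (flp_b L64164) L92805
theorem L92809 : sm gc N10850 = N10850 := ded_28_1 (flp_e L92805) L64168 L92805
theorem L92810 : sm gg N10850 = N7559 := ded_41_2 (flp_e L64903) (flp_g L64166) L92805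
theorem L92812 : sm gd N10850 = N10850 := ded_34_1 (flp_e L92805) (flp_d L64162) L44458 L64162 L92805
theorem L92813 : sm gi N7474 = N10851 := rfl
theorem L92820 : sm gg N10851 = N7560 := ded_51_1 (flp_i L64910) (flp_g L64166) L92813
theorem L92822 : sm gf N7476 = N10852 := rfl
theorem L92824 : sm gb N10852 = N7481 := ded_22_1 (flp_f L64215) (flp_b L64180) L92822
theorem L92826 : sm ge N10852 = N7561 := ded_40_1 (flp_f L64918) L44954 (flp_f L44472) (flp_e L64182) L92822
theorem L92829 : sm gj N7476 = N10853 := rfl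
theorem L92831 : sm gb N10853 = N7482 := ded_24_1 (flp_j L64224) (flp_b L64180) L92829
theorem L92833 : sm ge N10853 = N7478 := ded_42_1 (flp_j L64191) (flp_e L64182) L92829
theorem L92835 : sm gh N7476 = N10854 := rfl
theorem L92837 : sm gb N10854 = N7483 := ded_25_1 (flp_h L64232) (flp_b L64180) L92835
theorem L92839 : sm ge N10854 = N7479 := ded_43_1 (flp_h L64199) (flp_e L64182) L92835
theorem L92841 : sm gg N10854 = N7477 := ded_50_1 (flp_h L64184) L64178 L92835
theorem L92843 : sm gd N7477 = N10855 := rfl
theorem L92845 : sm gb N10855 = N7484 := ded_20_1 (flp_d L64242) (flp_b L64186) L92843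
theorem L92849 : sm gi N7477 = N10856 := rfl
theorem L92851 : sm gb N10856 = N7485 := ded_26_1 (flp_i L64248) (flp_b L64186) L92849
theorem L92853 : sm ge N10856 = N7480 := ded_44_1 (flp_i L64208) (flp_e L64188) L92849
theorem L92855 : sm gf N10856 = N10856 := ded_48_1 (flp_i L92849) L64190 L92849
theorem L92856 : sm gh N7478 = N10857 := rfl
theorem L92858 : sm gb N10857 = N7486 := ded_25_1 (flp_h L64257) (flp_b L64193) L92856
theorem L92860 : sm gf N10857 = N7566 := ded_47_1 (flp_h L64956) (flp_f L64197) L92856
theorem L92865 : sm gi N7479 = N10858 := rfl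
theorem L92867 : sm gb N10858 = N7487 := ded_26_1 (flp_i L64268) (flp_b L64201) L92865
theorem L92869 : sm gd N10858 = N10858 := ded_39_1 (flp_i L92865) L64207 L92865
theorem L92870 : sm gf N10858 = N7567 := ded_48_1 (flp_i L64964) (flp_f L64203) L92865
theorem L92872 : sm gg N10858 = N7480 := ded_51_1 (flp_i L64208) (flp_g L64205) L92865
theorem L92884 : sm gh N7481 = N10860 := rfl
theorem L92886 : sm ga N10860 = N8361 := ded_17_1 (flp_h L71675) (flp_a L64217) L92884
theorem L92890 : sm ge N10860 = N7569 := ded_43_1 (flp_h L64980) (flp_e L64221) L92884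
theorem L92892 : sm gf N10860 = N7483 := ded_47_1 (flp_h L64232) L64215 L92884
theorem L92895 : sm gh N7482 = N10861 := rfl
theorem L92897 : sm ga N10861 = N8362 := ded_17_1 (flp_h L71684) (flp_a L64226) L92895
theorem L92903 : sm gj N10861 = N7483 := ded_52_1 (flp_h L64232) L64224 L92895
theorem L92905 : sm gd N7483 = N10862 := rfl
theorem L92909 : sm gg N10862 = N7484 := ded_36_2 (flp_d L64242) (flp_g L64240) L92905
theorem L92912 : sm gi N7483 = N10863 := rfl
theorem L92918 : sm ge N10863 = N7487 := ded_44_1 (flp_i L64268) (flp_e L64238) L92912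
theorem L92920 : sm gg N10863 = N7485 := ded_51_1 (flp_i L64248) (flp_g L64240) L92912
theorem L92922 : sm gc N7484 = N10864 := rfl
theorem L92928 : sm gd N10864 = N7674 := ded_27_2 (flp_c L65907) (flp_d L45615) (flp_c L44508) L64242 L92922
theorem L92930 : sm gi N7484 = N10865 := rfl
theorem L92932 : sm ga N10865 = N8366 := ded_18_1 (flp_i L71711) (flp_a L64244) L92930
theorem L92934 : sm gd N10865 = N7485 := ded_39_1 (flp_i L64248) L64242 L92930
theorem L92938 : sm gi N7486 = N10866 := rfl
theorem L92947 : sm gj N10866 = N7487 := ded_53_1 (flp_i L64268) (flp_j L64265) L92938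
theorem L92949 : sm gc N7488 = N10867 := rfl
theorem L92951 : sm ga N10867 = N7490 := ded_11_1 (flp_c L64300) (flp_a L64281) L92949
theorem L92953 : sm ge N10867 = N7499 := ded_28_2 (flp_c L64379) (flp_e L64287) L92949
theorem L92958 : sm gf N7488 = N10868 := rfl
theorem L92962 : sm gb N10868 = N8380 := ded_22_1 (flp_f L71825) (flp_b L64283) L92958
theorem L92988 : sm gf N7490 = N10871 := rfl
theorem L92996 : sm gh N7490 = N10872 := rfl
theorem L93001 : sm ge N10872 = N7504 := ded_43_1 (flp_h L64421) (flp_e L64302) L92996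
theorem L93013 : sm gg N7491 = N10874 := rfl
theorem L93017 : sm gd N10874 = N7493 := ded_36_1 (flp_g L64324) (flp_d L64312) L93013
theorem L93020 : sm gh N7491 = N10875 := rfl
theorem L93024 : sm gf N10875 = N7492 := ded_47_1 (flp_h L64316) L64308 L93020
theorem L93028 : sm gi N7492 = N10876 := rfl
theorem L93046 : sm gg N7494 = N10878 := rfl
theorem L93048 : sm ga N10878 = N8390 := ded_15_1 (flp_g L71904) (flp_a L64334) L93046
theorem L93052 : sm ge N10878 = N7495 := ded_41_1 (flp_g L64342) L64332 L93046
theorem L93055 : sm gh N7494 = N10879 := rfl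
theorem L93057 : sm ga N10879 = N8391 := ded_17_1 (flp_h L71911) (flp_a L64334) L93055
theorem L93062 : sm gf N10879 = N7511 := ded_47_1 (flp_h L64476) (flp_f L64340) L93055
theorem L93074 : sm gh N7495 = N10881 := rfl
theorem L93076 : sm ga N10881 = N8393 := ded_17_1 (flp_h L71926) (flp_a L64344) L93074
theorem L93082 : sm gi N7496 = N10882 := rfl
theorem L93084 : sm ga N10882 = N8394 := ded_18_1 (flp_i L71932) (flp_a L64352) L93082
theorem L93092 : sm gb N7499 = N10883 := rfl
theorem L93097 : sm gc N10883 = N8395 := ded_19_2 (flp_b L71940) (flp_c L49847) (flp_b L44611) L64379 L93092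
theorem L93099 : sm gf N7499 = N10884 := rfl
theorem L93101 : sm ga N10884 = N7503 := ded_14_1 (flp_f L64414) (flp_a L64381) L93099
theorem L93107 : sm gh N7499 = N10885 := rfl
theorem L93109 : sm ga N10885 = N7504 := ded_17_1 (flp_h L64421) (flp_a L64381) L93107
theorem L93111 : sm gc N10885 = N7501 := ded_32_1 (flp_h L64395) L64379 L93107
theorem L93114 : sm ge N7500 = N10886 := rfl
theorem L93118 : sm gb N10886 = N8398 := ded_21_1 (flp_e L71962) (flp_b L64389) L93114
theorem L93164 : sm ge N7503 = N10891 := rfl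
theorem L93171 : sm gg N7503 = N10892 := rfl
theorem L93174 : sm gc N10892 = N7506 := ded_30_1 (flp_g L64434) (flp_c L64417) L93171
theorem L93177 : sm gh N7503 = N10893 := rfl
theorem L93180 : sm gc N10893 = N7507 := ded_32_1 (flp_h L64441) (flp_c L64417) L93177
theorem L93182 : sm gf N10893 = N7504 := ded_47_1 (flp_h L64421) L64414 L93177
theorem L93185 : sm gd N7504 = N10894 := rfl
theorem L93189 : sm gc N10894 = N7526 := ded_27_1 (flp_d L64617) L44749 (flp_d L44644) (flp_c L64424) L93185
theorem L93191 : sm gi N7504 = N10895 := rfl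
theorem L93198 : sm gg N7505 = N10896 := rfl
theorem L93200 : sm gb N10896 = N7510 := ded_23_1 (flp_g L64467) (flp_b L64429) L93198
theorem L93203 : sm ge N10896 = N7506 := ded_41_1 (flp_g L64434) L64427 L93198
theorem L93206 : sm gh N7505 = N10897 := rfl
theorem L93208 : sm gb N10897 = N7511 := ded_25_1 (flp_h L64476) (flp_b L64429) L93206
theorem L93210 : sm ge N10897 = N7507 := ded_43_1 (flp_h L64441) L64427 L93206
theorem L93213 : sm gj N7506 = N10898 := rfl
theorem L93221 : sm gh N7506 = N10899 := rfl
theorem L93227 : sm gd N10899 = N7531 := ded_38_1 (flp_h L64658) L44766 (flp_h L44651) (flp_d L64438) L93221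
theorem L93229 : sm gi N7507 = N10900 := rfl
theorem L93235 : sm gf N10900 = N7508 := ded_48_1 (flp_i L64450) (flp_f L64445) L93229
theorem L93239 : sm gf N7510 = N10901 := rfl
theorem L93246 : sm gj N7510 = N10902 := rfl
theorem L93248 : sm ga N10902 = N8414 := ded_16_1 (flp_j L72085) (flp_a L64469) L93246
theorem L93252 : sm ge N10902 = N7512 := ded_42_1 (flp_j L64484) (flp_e L64473) L93246
theorem L93256 : sm gh N7510 = N10903 := rfl
theorem L93258 : sm ga N10903 = N8415 := ded_17_1 (flp_h L72093) (flp_a L64469) L93256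
theorem L93261 : sm ge N10903 = N7513 := ded_43_1 (flp_h L64493) (flp_e L64473) L93256
theorem L93263 : sm gg N10903 = N7511 := ded_50_1 (flp_h L64476) L64467 L93256
theorem L93265 : sm gd N7511 = N10904 := rfl
theorem L93267 : sm ga N10904 = N8416 := ded_12_1 (flp_d L72100) (flp_a L64478) L93265
theorem L93270 : sm ge N10904 = N7536 := ded_34_2 (flp_d L64705) L44810 (flp_d L44678) (flp_e L64481) L93265
theorem L93282 : sm gh N7512 = N10906 := rfl
theorem L93288 : sm gj N10906 = N7513 := ded_52_1 (flp_h L64493) L64484 L93282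
theorem L93290 : sm gd N10906 = N7538 := ded_38_1 (flp_h L64724) L44820 (flp_h L44696) (flp_d L64489) L93282
theorem L93292 : sm gi N7513 = N10907 := rfl
theorem L93302 : sm gf N7515 = N10908 := rfl
theorem L93304 : sm ga N10908 = N7677 := ded_14_1 (flp_f L65934) (flp_a L64519) L93302
theorem L93306 : sm gb N10908 = N7516 := ded_22_1 (flp_f L64523) L64513 L93302
theorem L93311 : sm gi N10908 = N7540 := ded_48_2 (flp_f L64743) (flp_i L64517) L93302
theorem L93323 : sm ge N7516 = N10910 := rfl
theorem L93325 : sm ga N10910 = N7523 := ded_13_1 (flp_e L64590) (flp_a L64525) L93323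
theorem L93327 : sm gc N10910 = N7518 := ded_28_1 (flp_e L64540) (flp_c L64527) L93323
theorem L93330 : sm gi N10910 = N7542 := ded_44_2 (flp_e L64762) (flp_i L64530) L93323
theorem L93333 : sm gg N7516 = N10911 := rfl
theorem L93335 : sm ga N10911 = N7524 := ded_15_1 (flp_g L64600) (flp_a L64525) L93333
theorem L93337 : sm gc N10911 = N7519 := ded_30_1 (flp_g L64551) (flp_c L64527) L93333
theorem L93339 : sm gi N10911 = N7543 := ded_51_2 (flp_g L64770) (flp_i L64530) L93333
theorem L93341 : sm gh N7516 = N10912 := rfl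
theorem L93343 : sm ga N10912 = N7525 := ded_17_1 (flp_h L64608) (flp_a L64525) L93341
theorem L93347 : sm gf N10912 = N7517 := ded_47_1 (flp_h L64532) L64523 L93341
theorem L93350 : sm gd N7517 = N10913 := rfl
theorem L93352 : sm ga N10913 = N7526 := ded_12_1 (flp_d L64617) (flp_a L64534) L93350
theorem L93355 : sm gi N7517 = N10914 := rfl
theorem L93357 : sm ga N10914 = N7527 := ded_18_1 (flp_i L64622) (flp_a L64534) L93355
theorem L93365 : sm gg N7518 = N10915 := rfl
theorem L93367 : sm ga N10915 = N7528 := ded_15_1 (flp_g L64632) (flp_a L64542) L93365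
theorem L93369 : sm gb N10915 = N8427 := ded_23_1 (flp_g L72191) (flp_b L64544) L93365
theorem L93372 : sm ge N10915 = N7519 := ded_41_1 (flp_g L64551) L64540 L93365
theorem L93374 : sm gi N10915 = N7547 := ded_51_2 (flp_g L64799) (flp_i L64547) L93365
theorem L93376 : sm gh N7518 = N10916 := rfl
theorem L93378 : sm ga N10916 = N7529 := ded_17_1 (flp_h L64641) (flp_a L64542) L93376
theorem L93380 : sm gb N10916 = N8428 := ded_25_1 (flp_h L72200) (flp_b L64544) L93376
theorem L93386 : sm gj N7519 = N10917 := rfl
theorem L93388 : sm ga N10917 = N7530 := ded_16_1 (flp_j L64649) (flp_a L64553) L93386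
theorem L93416 : sm gd N7523 = N10920 := rfl
theorem L93418 : sm gb N10920 = N7689 := ded_20_1 (flp_d L66048) (flp_b L64592) L93416
theorem L93420 : sm gf N10920 = N10920 := ded_35_2 (flp_d L93416) L64599 L93416
theorem L93421 : sm gj N10920 = N10920 := ded_37_2 (flp_d L93416) L64596 L93416
theorem L93422 : sm gi N10920 = N7552 := ded_39_2 (flp_d L64846) (flp_i L64597) L93416
theorem L93424 : sm gc N10920 = N10920 := ded_27_1 (flp_d L93416) L64594 L44760 (flp_c L64594) L93416
theorem L93425 : sm gg N7523 = N10921 := rfl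
theorem L93427 : sm gb N10921 = N7690 := ded_23_1 (flp_g L66056) (flp_b L64592) L93425
theorem L93429 : sm gc N10921 = N7528 := ded_30_1 (flp_g L64632) (flp_c L64594) L93425
theorem L93431 : sm ge N10921 = N7524 := ded_41_1 (flp_g L64600) L64590 L93425
theorem L93433 : sm gi N10921 = N7553 := ded_51_2 (flp_g L64853) (flp_i L64597) L93425
theorem L93435 : sm gh N7523 = N10922 := rfl
theorem L93437 : sm gb N10922 = N7691 := ded_25_1 (flp_h L66064) (flp_b L64592) L93435
theorem L93439 : sm gc N10922 = N7529 := ded_32_1 (flp_h L64641) (flp_c L64594) L93435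
theorem L93441 : sm ge N10922 = N7525 := ded_43_1 (flp_h L64608) L64590 L93435
theorem L93445 : sm gj N7524 = N10923 := rfl
theorem L93447 : sm gb N10923 = N7692 := ded_24_1 (flp_j L66072) (flp_b L64602) L93445
theorem L93449 : sm gc N10923 = N7530 := ded_31_1 (flp_j L64649) (flp_c L64604) L93445
theorem L93451 : sm gi N10923 = N7555 := ded_53_2 (flp_j L64871) (flp_i L64606) L93445
theorem L93453 : sm gg N10923 = N10923 := ded_49_1 (flp_j L93445) (flp_g L64600) L44742 L64600 L93445
theorem L93454 : sm gh N7524 = N10924 := rfl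
theorem L93456 : sm gb N10924 = N7693 := ded_25_1 (flp_h L66079) (flp_b L64602) L93454
theorem L93458 : sm gc N10924 = N7531 := ded_32_1 (flp_h L64658) (flp_c L64604) L93454
theorem L93460 : sm gg N10924 = N7525 := ded_50_1 (flp_h L64608) L64600 L93454
theorem L93462 : sm gd N7525 = N10925 := rfl
theorem L93464 : sm gb N10925 = N7694 := ded_20_1 (flp_d L66085) (flp_b L64610) L93462
theorem L93466 : sm gf N10925 = N7526 := ded_35_2 (flp_d L64617) (flp_f L64614) L93462
theorem L93480 : sm ge N7526 = N10927 := rfl
theorem L93493 : sm gf N7528 = N10929 := rfl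
theorem L93495 : sm gb N10929 = N7533 := ded_22_1 (flp_f L64673) (flp_b L64634) L93493
theorem L93497 : sm gd N10929 = N10929 := ded_35_1 (flp_f L93493) L64636 L93493
theorem L93498 : sm gi N10929 = N7561 := ded_48_2 (flp_f L64918) (flp_i L64639) L93493
theorem L93500 : sm gg N10929 = N10929 := ded_45_2 (flp_f L93493) (flp_g L64632) L44761 L64632 L93493
theorem L93501 : sm gj N7528 = N10930 := rfl
theorem L93503 : sm gb N10930 = N7534 := ded_24_1 (flp_j L64683) (flp_b L64634) L93501
theorem L93505 : sm gd N10930 = N10930 := ded_37_1 (flp_j L93501) L64636 L93501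
theorem L93506 : sm ge N10930 = N7530 := ded_42_1 (flp_j L64649) (flp_e L64637) L93501
theorem L93508 : sm gi N10930 = N7562 := ded_53_2 (flp_j L64924) (flp_i L64639) L93501
theorem L93510 : sm gg N10930 = N10930 := ded_49_1 (flp_j L93501) (flp_g L64632) L44757 L64632 L93501
theorem L93511 : sm gh N7528 = N10931 := rfl
theorem L93513 : sm gb N10931 = N7535 := ded_25_1 (flp_h L64695) (flp_b L64634) L93511
theorem L93515 : sm ge N10931 = N7531 := ded_43_1 (flp_h L64658) (flp_e L64637) L93511
theorem L93517 : sm gg N10931 = N7529 := ded_50_1 (flp_h L64641) L64632 L93511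
theorem L93519 : sm gd N7529 = N10932 := rfl
theorem L93521 : sm gb N10932 = N7536 := ded_20_1 (flp_d L64705) (flp_b L64643) L93519
theorem L93526 : sm gi N7529 = N10933 := rfl
theorem L93534 : sm gh N10933 = N7565 := ded_54_1 (flp_i L64948) (flp_h L44956) (flp_i L44758) L64641 L93526
theorem L93536 : sm gh N7530 = N10934 := rfl
theorem L93551 : sm gj N7533 = N10936 := rfl
theorem L93553 : sm ga N10936 = N8448 := ded_16_1 (flp_j L72371) (flp_a L64675) L93551
theorem L93555 : sm gc N10936 = N7705 := ded_31_1 (flp_j L66175) (flp_c L64677) L93551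
theorem L93558 : sm gf N10936 = N7534 := ded_46_1 (flp_j L64683) L64673 L93551
theorem L93560 : sm gi N10936 = N7568 := ded_53_2 (flp_j L64971) (flp_i L64680) L93551
theorem L93562 : sm gh N7533 = N10937 := rfl
theorem L93564 : sm ga N10937 = N8449 := ded_17_1 (flp_h L72380) (flp_a L64675) L93562
theorem L93566 : sm gc N10937 = N7706 := ded_32_1 (flp_h L66185) (flp_c L64677) L93562
theorem L93568 : sm gf N10937 = N7535 := ded_47_1 (flp_h L64695) L64673 L93562
theorem L93571 : sm gh N7534 = N10938 := rfl
theorem L93573 : sm ga N10938 = N8450 := ded_17_1 (flp_h L72387) (flp_a L64685) L93571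
theorem L93577 : sm ge N10938 = N7538 := ded_43_1 (flp_h L64724) (flp_e L64690) L93571
theorem L93580 : sm gj N10938 = N7535 := ded_52_1 (flp_h L64695) L64683 L93571
theorem L93582 : sm gd N7535 = N10939 := rfl
theorem L93584 : sm ga N10939 = N8451 := ded_12_1 (flp_d L72396) (flp_a L64697) L93582
theorem L93586 : sm gg N10939 = N7536 := ded_36_2 (flp_d L64705) (flp_g L64703) L93582
theorem L93589 : sm gi N7535 = N10940 := rfl
theorem L93593 : sm gc N10940 = N7709 := ded_33_1 (flp_i L66210) (flp_c L64699) L93589
theorem L93595 : sm ge N10940 = N7539 := ded_44_1 (flp_i L64733) (flp_e L64701) L93589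
theorem L93597 : sm gg N10940 = N7537 := ded_51_1 (flp_i L64712) (flp_g L64703) L93589
theorem L93599 : sm gh N10940 = N7572 := ded_54_1 (flp_i L65009) (flp_h L45004) (flp_i L44802) L64695 L93589
theorem L93601 : sm gc N7536 = N10941 := rfl
theorem L93608 : sm gd N10941 = N7710 := ded_27_2 (flp_c L66220) (flp_d L45835) (flp_c L44808) L64705 L93601
theorem L93618 : sm gi N7538 = N10943 := rfl
theorem L93627 : sm gh N10943 = N7574 := ded_54_1 (flp_i L65029) (flp_h L45033) (flp_i L44822) L64724 L93618
theorem L93629 : sm ge N7540 = N10944 := rfl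
theorem L93631 : sm ga N10944 = N7713 := ded_13_1 (flp_e L66249) (flp_a L64745) L93629
theorem L93633 : sm gb N10944 = N7542 := ded_21_1 (flp_e L64762) (flp_b L64747) L93629
theorem L93635 : sm gc N10944 = N8456 := ded_28_1 (flp_e L72433) (flp_c L64749) L93629
theorem L93637 : sm gj N10944 = N10944 := ded_42_2 (flp_e L93629) L64751 L93629
theorem L93638 : sm gf N10944 = N10944 := ded_40_2 (flp_e L93629) (flp_f L64743) L44846 L64743 L93629
theorem L93639 : sm gg N7540 = N10945 := rfl
theorem L93641 : sm ga N10945 = N7714 := ded_15_1 (flp_g L66257) (flp_a L64745) L93639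
theorem L93643 : sm gb N10945 = N7543 := ded_23_1 (flp_g L64770) (flp_b L64747) L93639
theorem L93645 : sm gc N10945 = N8457 := ded_30_1 (flp_g L72441) (flp_c L64749) L93639
theorem L93647 : sm gh N7540 = N10946 := rfl
theorem L93649 : sm ga N10946 = N7715 := ded_17_1 (flp_h L66263) (flp_a L64745) L93647
theorem L93651 : sm gb N10946 = N7544 := ded_25_1 (flp_h L64776) (flp_b L64747) L93647
theorem L93658 : sm gd N7541 = N10947 := rfl
theorem L93675 : sm gd N7542 = N10949 := rfl
theorem L93677 : sm ga N10949 = N7552 := ded_12_1 (flp_d L64846) (flp_a L64764) L93675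
theorem L93679 : sm gf N10949 = N10949 := ded_35_2 (flp_d L93675) L64769 L93675
theorem L93680 : sm gj N10949 = N10949 := ded_37_2 (flp_d L93675) L64768 L93675
theorem L93681 : sm gc N10949 = N10949 := ded_27_1 (flp_d L93675) L64766 L44874 (flp_c L64766) L93675
theorem L93682 : sm gg N7542 = N10950 := rfl
theorem L93684 : sm ga N10950 = N7553 := ded_15_1 (flp_g L64853) (flp_a L64764) L93682
theorem L93686 : sm gc N10950 = N7547 := ded_30_1 (flp_g L64799) (flp_c L64766) L93682
theorem L93688 : sm ge N10950 = N7543 := ded_41_1 (flp_g L64770) L64762 L93682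
theorem L93690 : sm gh N7542 = N10951 := rfl
theorem L93692 : sm ga N10951 = N7554 := ded_17_1 (flp_h L64861) (flp_a L64764) L93690
theorem L93694 : sm gc N10951 = N7548 := ded_32_1 (flp_h L64808) (flp_c L64766) L93690
theorem L93696 : sm ge N10951 = N7544 := ded_43_1 (flp_h L64776) L64762 L93690
theorem L93698 : sm gf N10951 = N10951 := ded_47_1 (flp_h L93690) L64769 L93690
theorem L93699 : sm gj N10951 = N10951 := ded_52_1 (flp_h L93690) L64768 L93690
theorem L93700 : sm gj N7543 = N10952 := rfl
theorem L93702 : sm ga N10952 = N7555 := ded_16_1 (flp_j L64871) (flp_a L64772) L93700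
theorem L93704 : sm gc N10952 = N7549 := ded_31_1 (flp_j L64818) (flp_c L64774) L93700
theorem L93706 : sm gg N10952 = N10952 := ded_49_1 (flp_j L93700) (flp_g L64770) L44858 L64770 L93700
theorem L93707 : sm gh N7543 = N10953 := rfl
theorem L93709 : sm ga N10953 = N7556 := ded_17_1 (flp_h L64878) (flp_a L64772) L93707
theorem L93711 : sm gc N10953 = N7550 := ded_32_1 (flp_h L64827) (flp_c L64774) L93707
theorem L93713 : sm gg N10953 = N7544 := ded_50_1 (flp_h L64776) L64770 L93707
theorem L93715 : sm gd N7544 = N10954 := rfl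
theorem L93717 : sm ga N10954 = N7557 := ded_12_1 (flp_d L64886) (flp_a L64778) L93715
theorem L93723 : sm gi N7544 = N10955 := rfl
theorem L93725 : sm ga N10955 = N7558 := ded_18_1 (flp_i L64894) (flp_a L64778) L93723
theorem L93727 : sm gc N10955 = N7551 := ded_33_1 (flp_i L64836) (flp_c L64780) L93723
theorem L93732 : sm ge N7545 = N10956 := rfl
theorem L93734 : sm ga N10956 = N7559 := ded_13_1 (flp_e L64903) (flp_a L64787) L93732
theorem L93747 : sm gf N7547 = N10958 := rfl
theorem L93749 : sm ga N10958 = N7561 := ded_14_1 (flp_f L64918) (flp_a L64801) L93747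
theorem L93751 : sm gb N10958 = N8470 := ded_22_1 (flp_f L72549) (flp_b L64803) L93747
theorem L93755 : sm gj N7547 = N10959 := rfl
theorem L93757 : sm ga N10959 = N7562 := ded_16_1 (flp_j L64924) (flp_a L64801) L93755
theorem L93762 : sm ge N10959 = N7549 := ded_42_1 (flp_j L64818) (flp_e L64806) L93755
theorem L93765 : sm gh N7547 = N10960 := rfl
theorem L93767 : sm ga N10960 = N7563 := ded_17_1 (flp_h L64932) (flp_a L64801) L93765
theorem L93769 : sm gb N10960 = N8472 := ded_25_1 (flp_h L72563) (flp_b L64803) L93765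
theorem L93771 : sm ge N10960 = N7550 := ded_43_1 (flp_h L64827) (flp_e L64806) L93765
theorem L93773 : sm gg N10960 = N7548 := ded_50_1 (flp_h L64808) L64799 L93765
theorem L93775 : sm gd N7548 = N10961 := rfl
theorem L93777 : sm ga N10961 = N7564 := ded_12_1 (flp_d L64940) (flp_a L64810) L93775
theorem L93781 : sm gf N10961 = N10961 := ded_35_2 (flp_d L93775) L64816 L93775
theorem L93782 : sm gj N10961 = N10961 := ded_37_2 (flp_d L93775) L64817 L93775
theorem L93783 : sm ge N10961 = N10961 := ded_34_2 (flp_d L93775) L64814 L44893 (flp_e L64814) L93775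
theorem L93784 : sm gh N10961 = N10961 := ded_38_2 (flp_d L93775) (flp_h L64808) L44874 L64808 L93775
theorem L93785 : sm gi N7548 = N10962 := rfl
theorem L93795 : sm gh N7549 = N10963 := rfl
theorem L93797 : sm ga N10963 = N7566 := ded_17_1 (flp_h L64956) (flp_a L64820) L93795
theorem L93799 : sm gb N10963 = N8475 := ded_25_1 (flp_h L72587) (flp_b L64822) L93795
theorem L93801 : sm gg N10963 = N10963 := ded_50_1 (flp_h L93795) L64826 L93795
theorem L93802 : sm gj N10963 = N7550 := ded_52_1 (flp_h L64827) L64818 L93795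
theorem L93804 : sm gd N10963 = N10963 := ded_38_1 (flp_h L93795) L64824 L44910 (flp_d L64824) L93795
theorem L93805 : sm gi N7550 = N10964 := rfl
theorem L93807 : sm ga N10964 = N7567 := ded_18_1 (flp_i L64964) (flp_a L64829) L93805
theorem L93814 : sm gg N7552 = N10965 := rfl
theorem L93816 : sm gb N10965 = N7733 := ded_23_1 (flp_g L66424) (flp_b L64848) L93814
theorem L93818 : sm gc N10965 = N10965 := ded_30_1 (flp_g L93814) L64852 L93814
theorem L93819 : sm gd N10965 = N7553 := ded_36_1 (flp_g L64853) L64846 L93814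
theorem L93821 : sm gh N7552 = N10966 := rfl
theorem L93823 : sm gb N10966 = N7734 := ded_25_1 (flp_h L66430) (flp_b L64848) L93821
theorem L93825 : sm gc N10966 = N10966 := ded_32_1 (flp_h L93821) L64852 L93821
theorem L93826 : sm gf N10966 = N10966 := ded_47_1 (flp_h L93821) L64850 L93821
theorem L93827 : sm gj N10966 = N10966 := ded_52_1 (flp_h L93821) L64851 L93821
theorem L93828 : sm gf N7553 = N10967 := rfl
theorem L93830 : sm gb N10967 = N7735 := ded_22_1 (flp_f L66436) (flp_b L64855) L93828
theorem L93832 : sm gc N10967 = N7561 := ded_29_1 (flp_f L64918) (flp_c L64857) L93828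
theorem L93834 : sm gg N10967 = N10967 := ded_45_2 (flp_f L93828) (flp_g L64853) L44919 L64853 L93828
theorem L93835 : sm gj N7553 = N10968 := rfl
theorem L93837 : sm gb N10968 = N7736 := ded_24_1 (flp_j L66441) (flp_b L64855) L93835
theorem L93839 : sm gc N10968 = N7562 := ded_31_1 (flp_j L64924) (flp_c L64857) L93835
theorem L93841 : sm ge N10968 = N7555 := ded_42_1 (flp_j L64871) (flp_e L64859) L93835
theorem L93843 : sm gg N10968 = N10968 := ded_49_1 (flp_j L93835) (flp_g L64853) L44918 L64853 L93835
theorem L93844 : sm gh N7553 = N10969 := rfl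
theorem L93846 : sm gb N10969 = N7737 := ded_25_1 (flp_h L66448) (flp_b L64855) L93844
theorem L93848 : sm gc N10969 = N7563 := ded_32_1 (flp_h L64932) (flp_c L64857) L93844
theorem L93850 : sm ge N10969 = N7556 := ded_43_1 (flp_h L64878) (flp_e L64859) L93844
theorem L93852 : sm gg N10969 = N7554 := ded_50_1 (flp_h L64861) L64853 L93844
theorem L93854 : sm gd N7554 = N10970 := rfl
theorem L93856 : sm gb N10970 = N7738 := ded_20_1 (flp_d L66456) (flp_b L64863) L93854
theorem L93858 : sm gf N10970 = N10970 := ded_35_2 (flp_d L93854) L64869 L93854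
theorem L93859 : sm gj N10970 = N10970 := ded_37_2 (flp_d L93854) L64870 L93854
theorem L93860 : sm gi N7554 = N10971 := rfl
theorem L93864 : sm gc N10971 = N7565 := ded_33_1 (flp_i L64948) (flp_c L64865) L93860
theorem L93870 : sm gh N7555 = N10972 := rfl
theorem L93872 : sm gb N10972 = N7740 := ded_25_1 (flp_h L66469) (flp_b L64873) L93870
theorem L93874 : sm gc N10972 = N7566 := ded_32_1 (flp_h L64956) (flp_c L64875) L93870
theorem L93876 : sm gg N10972 = N10972 := ded_50_1 (flp_h L93870) L64877 L93870
theorem L93877 : sm gj N10972 = N7556 := ded_52_1 (flp_h L64878) L64871 L93870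
theorem L93879 : sm gd N7556 = N10973 := rfl
theorem L93881 : sm gb N10973 = N7741 := ded_20_1 (flp_d L66476) (flp_b L64880) L93879
theorem L93883 : sm gg N10973 = N7557 := ded_36_2 (flp_d L64886) (flp_g L64884) L93879
theorem L93885 : sm gc N10973 = N10973 := ded_27_1 (flp_d L93879) L64882 L44977 (flp_c L64882) L93879
theorem L93886 : sm gi N7556 = N10974 := rfl
theorem L93894 : sm ge N7557 = N10975 := rfl
theorem L93896 : sm gb N10975 = N7743 := ded_21_1 (flp_e L66488) (flp_b L64888) L93894
theorem L93898 : sm gc N10975 = N10975 := ded_28_1 (flp_e L93894) L64893 L93894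
theorem L93899 : sm gj N10975 = N10975 := ded_42_2 (flp_e L93894) L64892 L93894
theorem L93910 : sm gf N7559 = N10977 := rfl
theorem L93912 : sm gb N10977 = N7745 := ded_22_1 (flp_f L66502) (flp_b L64905) L93910
theorem L93914 : sm gc N10977 = N10977 := ded_29_1 (flp_f L93910) L64907 L93910
theorem L93915 : sm gd N10977 = N10977 := ded_35_1 (flp_f L93910) L64909 L93910
theorem L93916 : sm gj N10977 = N10977 := ded_46_2 (flp_f L93910) L64908 L93910
theorem L93917 : sm gi N7559 = N10978 := rfl
theorem L93926 : sm gh N7560 = N10979 := rfl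
theorem L93932 : sm gj N7561 = N10980 := rfl
theorem L93934 : sm gb N10980 = N7568 := ded_24_1 (flp_j L64971) (flp_b L64920) L93932
theorem L93937 : sm gf N10980 = N7562 := ded_46_1 (flp_j L64924) L64918 L93932
theorem L93939 : sm gh N7561 = N10981 := rfl
theorem L93941 : sm gb N10981 = N7569 := ded_25_1 (flp_h L64980) (flp_b L64920) L93939
theorem L93943 : sm gf N10981 = N7563 := ded_47_1 (flp_h L64932) L64918 L93939
theorem L93946 : sm gh N7562 = N10982 := rfl
theorem L93948 : sm gb N10982 = N7570 := ded_25_1 (flp_h L64989) (flp_b L64926) L93946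
theorem L93950 : sm ge N10982 = N7566 := ded_43_1 (flp_h L64956) (flp_e L64929) L93946
theorem L93953 : sm gj N10982 = N7563 := ded_52_1 (flp_h L64932) L64924 L93946
theorem L93955 : sm gd N7563 = N10983 := rfl
theorem L93959 : sm gg N10983 = N7564 := ded_36_2 (flp_d L64940) (flp_g L64938) L93955
theorem L93963 : sm gi N7563 = N10984 := rfl
theorem L93965 : sm gb N10984 = N7572 := ded_26_1 (flp_i L65009) (flp_b L64934) L93963
theorem L93967 : sm ge N10984 = N7567 := ded_44_1 (flp_i L64964) (flp_e L64936) L93963
theorem L93969 : sm gg N10984 = N7565 := ded_51_1 (flp_i L64948) (flp_g L64938) L93963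
theorem L93971 : sm gc N7564 = N10985 := rfl
theorem L93973 : sm ge N10985 = N10985 := ded_28_2 (flp_c L93971) L64946 L93971
theorem L93974 : sm gf N10985 = N10985 := ded_29_2 (flp_c L93971) L64944 L93971
theorem L93975 : sm gj N10985 = N10985 := ded_31_2 (flp_c L93971) L64945 L93971
theorem L93976 : sm gh N10985 = N10985 := ded_32_2 (flp_c L93971) L64947 L93971
theorem L93977 : sm gb N10985 = N10985 := ded_19_1 (flp_c L93971) L64942 L45020 (flp_b L64942) L93971
theorem L93978 : sm gi N7564 = N10986 := rfl
theorem L93980 : sm gb N10986 = N7573 := ded_26_1 (flp_i L65019) (flp_b L64942) L93978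
theorem L93982 : sm gd N10986 = N7565 := ded_39_1 (flp_i L64948) L64940 L93978
theorem L93984 : sm ge N10986 = N10986 := ded_44_1 (flp_i L93978) L64946 L93978
theorem L93985 : sm gf N10986 = N10986 := ded_48_1 (flp_i L93978) L64944 L93978
theorem L93986 : sm gj N10986 = N10986 := ded_53_1 (flp_i L93978) L64945 L93978
theorem L93987 : sm gi N7566 = N10987 := rfl
theorem L93989 : sm gb N10987 = N7574 := ded_26_1 (flp_i L65029) (flp_b L64958) L93987
theorem L93991 : sm gd N10987 = N10987 := ded_39_1 (flp_i L93987) L64963 L93987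
theorem L93992 : sm gg N10987 = N10987 := ded_51_1 (flp_i L93987) L64960 L93987
theorem L93993 : sm gj N10987 = N7567 := ded_53_1 (flp_i L64964) (flp_j L64961) L93987
theorem L93995 : sm gg N7568 = N10988 := rfl
theorem L93997 : sm ga N10988 = N8500 := ded_15_1 (flp_g L72789) (flp_a L64973) L93995
theorem L93999 : sm gc N10988 = N7753 := ded_30_1 (flp_g L66565) (flp_c L64975) L93995
theorem L94004 : sm gh N7568 = N10989 := rfl
theorem L94006 : sm ga N10989 = N8501 := ded_17_1 (flp_h L72796) (flp_a L64973) L94004
theorem L94010 : sm gf N10989 = N7570 := ded_47_1 (flp_h L64989) (flp_f L64978) L94004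
theorem L94012 : sm gj N10989 = N7569 := ded_52_1 (flp_h L64980) L64971 L94004
theorem L94014 : sm gd N7569 = N10990 := rfl
theorem L94016 : sm ga N10990 = N8502 := ded_12_1 (flp_d L72804) (flp_a L64982) L94014
theorem L94018 : sm gf N10990 = N7571 := ded_35_2 (flp_d L65000) (flp_f L64986) L94014
theorem L94023 : sm gi N7569 = N10991 := rfl
theorem L94029 : sm gf N10991 = N7572 := ded_48_1 (flp_i L65009) (flp_f L64986) L94023
theorem L94032 : sm gd N7570 = N10992 := rfl
theorem L94034 : sm ga N10992 = N8504 := ded_12_1 (flp_d L72818) (flp_a L64991) L94032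
theorem L94037 : sm gj N10992 = N7571 := ded_37_2 (flp_d L65000) (flp_j L64998) L94032
theorem L94042 : sm gi N7570 = N10993 := rfl
theorem L94053 : sm gi N7571 = N10994 := rfl
theorem L94055 : sm ga N10994 = N8506 := ded_18_1 (flp_i L72835) (flp_a L65002) L94053
theorem L94058 : sm gd N10994 = N7572 := ded_39_1 (flp_i L65009) L65000 L94053
theorem L94061 : sm gg N10994 = N7573 := ded_51_1 (flp_i L65019) (flp_g L65004) L94053
theorem L94072 : sm gb N7575 = N10996 := rfl
theorem L94076 : sm gj N10996 = N7616 := ded_24_2 (flp_b L65420) (flp_j L65045) L94072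
theorem L94078 : sm gi N10996 = N7591 := ded_26_2 (flp_b L65197) (flp_i L65047) L94072
theorem L94080 : sm gc N10996 = N8508 := ded_19_2 (flp_b L72850) (flp_c L50453) (flp_b L45056) L65039 L94072
theorem L94082 : sm gf N7575 = N10997 := rfl
theorem L94084 : sm ga N10997 = N7579 := ded_14_1 (flp_f L65083) (flp_a L65041) L94082
theorem L94086 : sm gc N10997 = N7576 := ded_29_1 (flp_f L65049) L65039 L94082
theorem L94088 : sm gj N10997 = N7617 := ded_46_2 (flp_f L65429) (flp_j L65045) L94082
theorem L94090 : sm gi N10997 = N7592 := ded_48_2 (flp_f L65205) (flp_i L65047) L94082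
theorem L94092 : sm gh N7575 = N10998 := rfl
theorem L94094 : sm ga N10998 = N7580 := ded_17_1 (flp_h L65091) (flp_a L65041) L94092
theorem L94100 : sm gj N10998 = N7618 := ded_52_1 (flp_h L65437) (flp_j L65045) L94092
theorem L94102 : sm ge N7576 = N10999 := rfl
theorem L94104 : sm ga N10999 = N7581 := ded_13_1 (flp_e L65099) (flp_a L65051) L94102
theorem L94108 : sm gj N10999 = N7619 := ded_42_2 (flp_e L65446) (flp_j L65057) L94102
theorem L94110 : sm gi N10999 = N7594 := ded_44_2 (flp_e L65223) (flp_i L65059) L94102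
theorem L94112 : sm gd N10999 = N10999 := ded_34_1 (flp_e L94102) L65055 L45075 (flp_d L65055) L94102
theorem L94113 : sm gf N10999 = N10999 := ded_40_2 (flp_e L94102) (flp_f L65049) L45063 L65049 L94102
theorem L94114 : sm gg N7576 = N11000 := rfl
theorem L94116 : sm ga N11000 = N7582 := ded_15_1 (flp_g L65109) (flp_a L65051) L94114
theorem L94118 : sm gb N11000 = N8512 := ded_23_1 (flp_g L72890) (flp_b L65053) L94114
theorem L94120 : sm gd N11000 = N7578 := ded_36_1 (flp_g L65072) (flp_d L65055) L94114
theorem L94122 : sm gi N11000 = N7595 := ded_51_2 (flp_g L65233) (flp_i L65059) L94114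
theorem L94124 : sm gf N11000 = N11000 := ded_45_1 (flp_g L94114) (flp_f L65049) L45058 L65049 L94114
theorem L94125 : sm gh N7576 = N11001 := rfl
theorem L94149 : sm gj N7578 = N11003 := rfl
theorem L94151 : sm ga N11003 = N7585 := ded_16_1 (flp_j L65138) (flp_a L65074) L94149
theorem L94153 : sm gb N11003 = N8515 := ded_24_1 (flp_j L72919) (flp_b L65076) L94149
theorem L94155 : sm ge N11003 = N11003 := ded_42_1 (flp_j L94149) L65078 L94149
theorem L94156 : sm gf N11003 = N11003 := ded_46_1 (flp_j L94149) L65082 L94149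
theorem L94157 : sm gh N11003 = N11003 := ded_52_2 (flp_j L94149) L65079 L94149
theorem L94158 : sm gi N11003 = N7598 := ded_53_2 (flp_j L65266) (flp_i L65080) L94149
theorem L94160 : sm gg N11003 = N7623 := ded_49_1 (flp_j L65489) (flp_g L45336) (flp_j L45070) L65072 L94149
theorem L94162 : sm ge N7579 = N11004 := rfl
theorem L94164 : sm gc N11004 = N7581 := ded_28_1 (flp_e L65099) (flp_c L65085) L94162
theorem L94166 : sm gj N11004 = N7624 := ded_42_2 (flp_e L65501) (flp_j L65087) L94162
theorem L94168 : sm gi N11004 = N7599 := ded_44_2 (flp_e L65278) (flp_i L65089) L94162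
theorem L94170 : sm gf N11004 = N11004 := ded_40_2 (flp_e L94162) (flp_f L65083) L45078 L65083 L94162
theorem L94171 : sm gg N7579 = N11005 := rfl
theorem L94173 : sm gc N11005 = N7582 := ded_30_1 (flp_g L65109) (flp_c L65085) L94171
theorem L94175 : sm gi N11005 = N7600 := ded_51_2 (flp_g L65285) (flp_i L65089) L94171
theorem L94177 : sm gf N11005 = N11005 := ded_45_1 (flp_g L94171) (flp_f L65083) L45079 L65083 L94171
theorem L94178 : sm gh N7579 = N11006 := rfl
theorem L94180 : sm gc N11006 = N7583 := ded_32_1 (flp_h L65118) (flp_c L65085) L94178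
theorem L94182 : sm gf N11006 = N7580 := ded_47_1 (flp_h L65091) L65083 L94178
theorem L94184 : sm gj N11006 = N7626 := ded_52_1 (flp_h L65516) (flp_j L65087) L94178
theorem L94186 : sm gd N7580 = N11007 := rfl
theorem L94189 : sm gj N11007 = N7627 := ded_37_2 (flp_d L65522) (flp_j L65097) L94186
theorem L94192 : sm gi N7580 = N11008 := rfl
theorem L94202 : sm gg N7581 = N11009 := rfl
theorem L94204 : sm gb N11009 = N7586 := ded_23_1 (flp_g L65149) (flp_b L65101) L94202
theorem L94207 : sm ge N11009 = N7582 := ded_41_1 (flp_g L65109) L65099 L94202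
theorem L94211 : sm gh N7581 = N11010 := rfl
theorem L94213 : sm gb N11010 = N7587 := ded_25_1 (flp_h L65158) (flp_b L65101) L94211
theorem L94215 : sm ge N11010 = N7583 := ded_43_1 (flp_h L65118) L65099 L94211
theorem L94218 : sm gj N11010 = N7630 := ded_52_1 (flp_h L65545) (flp_j L65103) L94211
theorem L94220 : sm gj N7582 = N11011 := rfl
theorem L94224 : sm gd N11011 = N7585 := ded_37_1 (flp_j L65138) (flp_d L65113) L94220
theorem L94229 : sm gg N11011 = N7631 := ded_49_1 (flp_j L65552) (flp_g L45369) (flp_j L45090) L65109 L94220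
theorem L94231 : sm gh N7582 = N11012 := rfl
theorem L94233 : sm gb N11012 = N7589 := ded_25_1 (flp_h L65178) (flp_b L65111) L94231
theorem L94236 : sm gg N11012 = N7583 := ded_50_1 (flp_h L65118) L65109 L94231
theorem L94239 : sm gi N7583 = N11013 := rfl
theorem L94241 : sm gb N11013 = N7590 := ded_26_1 (flp_i L65186) (flp_b L65120) L94239
theorem L94250 : sm gf N7586 = N11014 := rfl
theorem L94252 : sm ga N11014 = N8526 := ded_14_1 (flp_f L73021) (flp_a L65151) L94250
theorem L94254 : sm gd N11014 = N11014 := ded_35_1 (flp_f L94250) L65153 L94250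
theorem L94255 : sm gi N11014 = N7609 := ded_48_2 (flp_f L65357) (flp_i L65156) L94250
theorem L94270 : sm gh N7586 = N11016 := rfl
theorem L94272 : sm ga N11016 = N8528 := ded_17_1 (flp_h L73037) (flp_a L65151) L94270
theorem L94274 : sm ge N11016 = N7589 := ded_43_1 (flp_h L65178) (flp_e L65154) L94270
theorem L94276 : sm gg N11016 = N7587 := ded_50_1 (flp_h L65158) L65149 L94270
theorem L94278 : sm gd N7587 = N11017 := rfl
theorem L94283 : sm gj N11017 = N7637 := ded_37_2 (flp_d L65607) (flp_j L65165) L94278
theorem L94286 : sm gh N11017 = N11017 := ded_38_2 (flp_d L94278) (flp_h L65158) L45120 L65158 L94278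
theorem L94287 : sm gi N7587 = N11018 := rfl
theorem L94289 : sm ga N11018 = N8530 := ded_18_1 (flp_i L73050) (flp_a L65160) L94287
theorem L94291 : sm ge N11018 = N7590 := ded_44_1 (flp_i L65186) (flp_e L65162) L94287
theorem L94294 : sm gj N11018 = N7638 := ded_53_1 (flp_i L65614) (flp_j L65165) L94287
theorem L94298 : sm gh N7588 = N11019 := rfl
theorem L94305 : sm gj N11019 = N7589 := ded_52_1 (flp_h L65178) L65167 L94298
theorem L94308 : sm gi N7589 = N11020 := rfl
theorem L94310 : sm ga N11020 = N8532 := ded_18_1 (flp_i L73067) (flp_a L65180) L94308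
theorem L94314 : sm gg N11020 = N7590 := ded_51_1 (flp_i L65186) (flp_g L65183) L94308
theorem L94318 : sm gf N7591 = N11021 := rfl
theorem L94320 : sm gb N11021 = N7592 := ded_22_1 (flp_f L65205) L65197 L94318
theorem L94322 : sm gc N11021 = N8533 := ded_29_1 (flp_f L73075) (flp_c L65203) L94318
theorem L94324 : sm gj N11021 = N7641 := ded_46_2 (flp_f L65643) (flp_j L65201) L94318
theorem L94326 : sm gh N7591 = N11022 := rfl
theorem L94334 : sm gj N11022 = N7642 := ded_52_1 (flp_h L65649) (flp_j L65201) L94326
theorem L94336 : sm ge N7592 = N11023 := rfl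
theorem L94338 : sm ga N11023 = N7599 := ded_13_1 (flp_e L65278) (flp_a L65207) L94336
theorem L94340 : sm gc N11023 = N7594 := ded_28_1 (flp_e L65223) (flp_c L65209) L94336
theorem L94342 : sm gj N11023 = N7643 := ded_42_2 (flp_e L65658) (flp_j L65211) L94336
theorem L94344 : sm gf N11023 = N11023 := ded_40_2 (flp_e L94336) (flp_f L65205) L45168 L65205 L94336
theorem L94345 : sm gg N7592 = N11024 := rfl
theorem L94347 : sm ga N11024 = N7600 := ded_15_1 (flp_g L65285) (flp_a L65207) L94345
theorem L94349 : sm gc N11024 = N7595 := ded_30_1 (flp_g L65233) (flp_c L65209) L94345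
theorem L94351 : sm gf N11024 = N11024 := ded_45_1 (flp_g L94345) (flp_f L65205) L45169 L65205 L94345
theorem L94352 : sm gh N7592 = N11025 := rfl
theorem L94354 : sm ga N11025 = N7601 := ded_17_1 (flp_h L65290) (flp_a L65207) L94352
theorem L94356 : sm gc N11025 = N7596 := ded_32_1 (flp_h L65242) (flp_c L65209) L94352
theorem L94362 : sm gd N7593 = N11026 := rfl
theorem L94364 : sm ga N11026 = N7602 := ded_12_1 (flp_d L65298) (flp_a L65215) L94362
theorem L94367 : sm gj N11026 = N7646 := ded_37_2 (flp_d L65681) (flp_j L65221) L94362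
theorem L94369 : sm gc N11026 = N7813 := ded_27_1 (flp_d L67096) L46513 (flp_d L45192) (flp_c L65217) L94362
theorem L94371 : sm gi N7593 = N11027 := rfl
theorem L94373 : sm ga N11027 = N7603 := ded_18_1 (flp_i L65305) (flp_a L65215) L94371
theorem L94381 : sm gg N7594 = N11028 := rfl
theorem L94383 : sm ga N11028 = N7604 := ded_15_1 (flp_g L65313) (flp_a L65225) L94381
theorem L94385 : sm gb N11028 = N8540 := ded_23_1 (flp_g L73137) (flp_b L65227) L94381
theorem L94388 : sm ge N11028 = N7595 := ded_41_1 (flp_g L65233) L65223 L94381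
theorem L94401 : sm gj N7595 = N11030 := rfl
theorem L94407 : sm gd N11030 = N7598 := ded_37_1 (flp_j L65266) (flp_d L65239) L94401
theorem L94410 : sm gg N11030 = N7650 := ded_49_1 (flp_j L65716) (flp_g L45480) (flp_j L45180) L65233 L94401
theorem L94412 : sm gh N7595 = N11031 := rfl
theorem L94416 : sm gb N11031 = N8543 := ded_25_1 (flp_h L73162) (flp_b L65237) L94412
theorem L94435 : sm gd N7599 = N11033 := rfl
theorem L94437 : sm gf N11033 = N11033 := ded_35_2 (flp_d L94435) L65284 L94435
theorem L94438 : sm gj N11033 = N7653 := ded_37_2 (flp_d L65748) (flp_j L65282) L94435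
theorem L94440 : sm gc N11033 = N11033 := ded_27_1 (flp_d L94435) L65280 L45224 (flp_c L65280) L94435
theorem L94441 : sm gg N7599 = N11034 := rfl
theorem L94443 : sm gc N11034 = N7604 := ded_30_1 (flp_g L65313) (flp_c L65280) L94441
theorem L94447 : sm gh N7599 = N11035 := rfl
theorem L94451 : sm ge N11035 = N7601 := ded_43_1 (flp_h L65290) L65278 L94447
theorem L94454 : sm gj N11035 = N7655 := ded_52_1 (flp_h L65758) (flp_j L65282) L94447
theorem L94456 : sm gj N7600 = N11036 := rfl
theorem L94458 : sm gc N11036 = N7606 := ded_31_1 (flp_j L65329) (flp_c L65287) L94456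
theorem L94461 : sm gg N11036 = N7656 := ded_49_1 (flp_j L65765) (flp_g L45527) (flp_j L45208) L65285 L94456
theorem L94463 : sm gh N7600 = N11037 := rfl
theorem L94465 : sm gc N11037 = N7607 := ded_32_1 (flp_h L65338) (flp_c L65287) L94463
theorem L94468 : sm gg N11037 = N7601 := ded_50_1 (flp_h L65290) L65285 L94463
theorem L94470 : sm gd N7601 = N11038 := rfl
theorem L94472 : sm gf N11038 = N7602 := ded_35_2 (flp_d L65298) (flp_f L65294) L94470
theorem L94474 : sm gj N11038 = N7658 := ded_37_2 (flp_d L65779) (flp_j L65296) L94470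
theorem L94476 : sm gc N11038 = N7825 := ded_27_1 (flp_d L67214) L46595 (flp_d L45241) (flp_c L65292) L94470
theorem L94478 : sm gi N7601 = N11039 := rfl
theorem L94484 : sm gj N11039 = N7659 := ded_53_1 (flp_i L65785) (flp_j L65296) L94478
theorem L94486 : sm ge N7602 = N11040 := rfl
theorem L94488 : sm gc N11040 = N7827 := ded_28_1 (flp_e L67231) (flp_c L65303) L94486
theorem L94490 : sm gg N11040 = N11040 := ded_41_2 (flp_e L94486) L65300 L94486
theorem L94491 : sm gj N11040 = N7660 := ded_42_2 (flp_e L65791) (flp_j L65301) L94486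
theorem L94493 : sm gd N11040 = N11040 := ded_34_1 (flp_e L94486) (flp_d L65298) L45214 L65298 L94486
theorem L94494 : sm gi N7602 = N11041 := rfl
theorem L94503 : sm gf N7604 = N11042 := rfl
theorem L94505 : sm gb N11042 = N7609 := ded_22_1 (flp_f L65357) (flp_b L65315) L94503
theorem L94510 : sm gj N7604 = N11043 := rfl
theorem L94512 : sm gb N11043 = N7610 := ded_24_1 (flp_j L65364) (flp_b L65315) L94510
theorem L94517 : sm gg N11043 = N7663 := ded_49_1 (flp_j L65814) (flp_g L45552) (flp_j L45222) L65313 L94510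
theorem L94519 : sm gh N7604 = N11044 := rfl
theorem L94523 : sm ge N11044 = N7607 := ded_43_1 (flp_h L65338) (flp_e L65318) L94519
theorem L94527 : sm gd N7605 = N11045 := rfl
theorem L94532 : sm gj N11045 = N7665 := ded_37_2 (flp_d L65829) (flp_j L65327) L94527
theorem L94534 : sm ge N11045 = N7832 := ded_34_2 (flp_d L67274) L46630 (flp_d L45241) (flp_e L65324) L94527
theorem L94546 : sm gh N7606 = N11047 := rfl
theorem L94555 : sm gd N11047 = N7834 := ded_38_1 (flp_h L67294) L46640 (flp_h L45259) (flp_d L65333) L94546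
theorem L94557 : sm gi N7607 = N11048 := rfl
theorem L94561 : sm gd N11048 = N7835 := ded_39_1 (flp_i L67303) (flp_d L65345) L94557
theorem L94566 : sm gj N7609 = N11049 := rfl
theorem L94574 : sm gh N7609 = N11050 := rfl
theorem L94576 : sm ga N11050 = N8562 := ded_17_1 (flp_h L73322) (flp_a L65359) L94574
theorem L94579 : sm gf N11050 = N7611 := ded_47_1 (flp_h L65373) L65357 L94574
theorem L94582 : sm gh N7610 = N11051 := rfl
theorem L94590 : sm gj N11051 = N7611 := ded_52_1 (flp_h L65373) L65364 L94582
theorem L94592 : sm gd N7611 = N11052 := rfl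
theorem L94598 : sm ge N11052 = N7839 := ded_34_2 (flp_d L67343) L46688 (flp_d L45295) (flp_e L65377) L94592
theorem L94601 : sm gi N7611 = N11053 := rfl
theorem L94607 : sm gg N11053 = N7613 := ded_51_1 (flp_i L65391) (flp_g L65379) L94601
theorem L94609 : sm gc N7612 = N11054 := rfl
theorem L94613 : sm ge N11054 = N7841 := ded_28_2 (flp_c L67360) (flp_e L65388) L94609
theorem L94616 : sm gj N11054 = N7674 := ded_31_2 (flp_c L65907) (flp_j L65386) L94609
theorem L94619 : sm gi N7612 = N11055 := rfl
theorem L94625 : sm ge N11055 = N7842 := ded_44_1 (flp_i L67370) (flp_e L65388) L94619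
theorem L94628 : sm gj N11055 = N7675 := ded_53_1 (flp_i L65915) (flp_j L65386) L94619
theorem L94641 : sm gf N7616 = N11057 := rfl
theorem L94643 : sm gb N11057 = N7617 := ded_22_1 (flp_f L65429) L65420 L94641
theorem L94645 : sm gc N11057 = N8569 := ded_29_1 (flp_f L73375) (flp_c L65427) L94641
theorem L94647 : sm gi N11057 = N7641 := ded_48_2 (flp_f L65643) (flp_i L65425) L94641
theorem L94649 : sm gh N7616 = N11058 := rfl
theorem L94656 : sm gg N11058 = N7678 := ded_50_1 (flp_h L65943) (flp_g L65423) L94649
theorem L94658 : sm ge N7617 = N11059 := rfl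
theorem L94660 : sm ga N11059 = N7624 := ded_13_1 (flp_e L65501) (flp_a L65431) L94658
theorem L94662 : sm gc N11059 = N7619 := ded_28_1 (flp_e L65446) (flp_c L65433) L94658
theorem L94664 : sm gi N11059 = N7643 := ded_44_2 (flp_e L65658) (flp_i L65435) L94658
theorem L94666 : sm gf N11059 = N11059 := ded_40_2 (flp_e L94658) (flp_f L65429) L45311 L65429 L94658
theorem L94667 : sm gg N7617 = N11060 := rfl
theorem L94669 : sm ga N11060 = N7625 := ded_15_1 (flp_g L65508) (flp_a L65431) L94667
theorem L94671 : sm gc N11060 = N7620 := ded_30_1 (flp_g L65456) (flp_c L65433) L94667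
theorem L94673 : sm gi N11060 = N7644 := ded_51_2 (flp_g L65665) (flp_i L65435) L94667
theorem L94675 : sm gf N11060 = N7680 := ded_45_1 (flp_g L65961) (flp_f L45658) (flp_g L45312) L65429 L94667
theorem L94677 : sm gh N7617 = N11061 := rfl
theorem L94679 : sm ga N11061 = N7626 := ded_17_1 (flp_h L65516) (flp_a L65431) L94677
theorem L94683 : sm gf N11061 = N7618 := ded_47_1 (flp_h L65437) L65429 L94677
theorem L94685 : sm gd N7618 = N11062 := rfl
theorem L94703 : sm gg N7619 = N11064 := rfl
theorem L94705 : sm ga N11064 = N7629 := ded_15_1 (flp_g L65536) (flp_a L65448) L94703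
theorem L94707 : sm gb N11064 = N8576 := ded_23_1 (flp_g L73436) (flp_b L65450) L94703
theorem L94709 : sm gd N11064 = N11064 := ded_36_1 (flp_g L94703) L65454 L94703
theorem L94710 : sm ge N11064 = N7620 := ded_41_1 (flp_g L65456) L65446 L94703
theorem L94712 : sm gi N11064 = N7648 := ded_51_2 (flp_g L65698) (flp_i L65452) L94703
theorem L94714 : sm gh N7619 = N11065 := rfl
theorem L94716 : sm ga N11065 = N7630 := ded_17_1 (flp_h L65545) (flp_a L65448) L94714
theorem L94718 : sm gb N11065 = N8577 := ded_25_1 (flp_h L73445) (flp_b L65450) L94714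
theorem L94720 : sm ge N11065 = N7621 := ded_43_1 (flp_h L65468) L65446 L94714
theorem L94723 : sm gj N7620 = N11066 := rfl
theorem L94725 : sm ga N11066 = N7631 := ded_16_1 (flp_j L65552) (flp_a L65458) L94723
theorem L94727 : sm gb N11066 = N8578 := ded_24_1 (flp_j L73452) (flp_b L65460) L94723
theorem L94729 : sm gd N11066 = N7623 := ded_37_1 (flp_j L65489) (flp_d L65462) L94723
theorem L94731 : sm gf N11066 = N7686 := ded_46_1 (flp_j L66016) (flp_f L65466) L94723
theorem L94733 : sm gi N11066 = N7650 := ded_53_2 (flp_j L65716) (flp_i L65464) L94723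
theorem L94735 : sm gh N7620 = N11067 := rfl
theorem L94737 : sm ga N11067 = N7632 := ded_17_1 (flp_h L65562) (flp_a L65458) L94735
theorem L94739 : sm gb N11067 = N8579 := ded_25_1 (flp_h L73462) (flp_b L65460) L94735
theorem L94757 : sm gd N7624 = N11069 := rfl
theorem L94759 : sm gf N11069 = N11069 := ded_35_2 (flp_d L94757) L65507 L94757
theorem L94760 : sm gi N11069 = N7653 := ded_39_2 (flp_d L65748) (flp_i L65505) L94757
theorem L94762 : sm gc N11069 = N11069 := ded_27_1 (flp_d L94757) L65503 L45367 (flp_c L65503) L94757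
theorem L94763 : sm gg N7624 = N11070 := rfl
theorem L94765 : sm gc N11070 = N7629 := ded_30_1 (flp_g L65536) (flp_c L65503) L94763
theorem L94767 : sm ge N11070 = N7625 := ded_41_1 (flp_g L65508) L65501 L94763
theorem L94769 : sm gi N11070 = N7654 := ded_51_2 (flp_g L65752) (flp_i L65505) L94763
theorem L94771 : sm gh N7624 = N11071 := rfl
theorem L94773 : sm gc N11071 = N7630 := ded_32_1 (flp_h L65545) (flp_c L65503) L94771
theorem L94775 : sm ge N11071 = N7626 := ded_43_1 (flp_h L65516) L65501 L94771
theorem L94777 : sm gf N11071 = N11071 := ded_47_1 (flp_h L94771) L65507 L94771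
theorem L94778 : sm gj N7625 = N11072 := rfl
theorem L94780 : sm gc N11072 = N7631 := ded_31_1 (flp_j L65552) (flp_c L65510) L94778
theorem L94782 : sm gf N11072 = N7692 := ded_46_1 (flp_j L66072) (flp_f L65514) L94778
theorem L94784 : sm gi N11072 = N7656 := ded_53_2 (flp_j L65765) (flp_i L65512) L94778
theorem L94786 : sm gh N7625 = N11073 := rfl
theorem L94788 : sm gc N11073 = N7632 := ded_32_1 (flp_h L65562) (flp_c L65510) L94786
theorem L94790 : sm gf N11073 = N7693 := ded_47_1 (flp_h L66079) (flp_f L65514) L94786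
theorem L94792 : sm gg N11073 = N7626 := ded_50_1 (flp_h L65516) L65508 L94786
theorem L94794 : sm gd N7626 = N11074 := rfl
theorem L94796 : sm gf N11074 = N7627 := ded_35_2 (flp_d L65522) (flp_f L65520) L94794
theorem L94807 : sm ge N7627 = N11076 := rfl
theorem L94813 : sm gi N7627 = N11077 := rfl
theorem L94816 : sm gd N11077 = N7628 := ded_39_1 (flp_i L65527) L65522 L94813
theorem L94820 : sm gf N7629 = N11078 := rfl
theorem L94822 : sm gb N11078 = N7634 := ded_22_1 (flp_f L65580) (flp_b L65538) L94820
theorem L94825 : sm gi N11078 = N7662 := ded_48_2 (flp_f L65806) (flp_i L65543) L94820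
theorem L94830 : sm gj N7629 = N11079 := rfl
theorem L94832 : sm gb N11079 = N7635 := ded_24_1 (flp_j L65590) (flp_b L65538) L94830
theorem L94835 : sm ge N11079 = N7631 := ded_42_1 (flp_j L65552) (flp_e L65541) L94830
theorem L94839 : sm gh N7629 = N11080 := rfl
theorem L94845 : sm gg N11080 = N7630 := ded_50_1 (flp_h L65545) L65536 L94839
theorem L94847 : sm gd N7630 = N11081 := rfl
theorem L94849 : sm gb N11081 = N7637 := ded_20_1 (flp_d L65607) (flp_b L65547) L94847
theorem L94863 : sm gh N7631 = N11083 := rfl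
theorem L94872 : sm gi N7632 = N11084 := rfl
theorem L94883 : sm gj N7634 = N11085 := rfl
theorem L94892 : sm gi N11085 = N7669 := ded_53_2 (flp_j L65864) (flp_i L65585) L94883
theorem L94894 : sm gh N7634 = N11086 := rfl
theorem L94896 : sm ga N11086 = N8598 := ded_17_1 (flp_h L73619) (flp_a L65582) L94894
theorem L94898 : sm ge N11086 = N7706 := ded_43_1 (flp_h L66185) (flp_e L65587) L94894
theorem L94900 : sm gf N11086 = N7636 := ded_47_1 (flp_h L65599) L65580 L94894
theorem L94903 : sm gh N7635 = N11087 := rfl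
theorem L94907 : sm ge N11087 = N7639 := ded_43_1 (flp_h L65623) (flp_e L65595) L94903
theorem L94909 : sm gj N11087 = N7636 := ded_52_1 (flp_h L65599) L65590 L94903
theorem L94911 : sm gd N7636 = N11088 := rfl
theorem L94913 : sm ga N11088 = N8600 := ded_12_1 (flp_d L73632) (flp_a L65601) L94911
theorem L94915 : sm gg N11088 = N7637 := ded_36_2 (flp_d L65607) (flp_g L65605) L94911
theorem L94918 : sm gh N11088 = N11088 := ded_38_2 (flp_d L94911) (flp_h L65599) L45410 L65599 L94911
theorem L94919 : sm gi N7636 = N11089 := rfl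
theorem L94927 : sm gh N11089 = N7673 := ded_54_1 (flp_i L65899) (flp_h L45607) (flp_i L45413) L65599 L94919
theorem L94929 : sm gc N7637 = N11090 := rfl
theorem L94931 : sm ga N11090 = N8602 := ded_11_1 (flp_c L73646) (flp_a L65609) L94929
theorem L94936 : sm gi N7637 = N11091 := rfl
theorem L94938 : sm ga N11091 = N8603 := ded_18_1 (flp_i L73651) (flp_a L65609) L94936
theorem L94940 : sm gd N11091 = N7638 := ded_39_1 (flp_i L65614) L65607 L94936
theorem L94944 : sm gi N7639 = N11092 := rfl
theorem L94949 : sm gf N11092 = N7712 := ded_48_1 (flp_i L66239) (flp_f L65627) L94944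
theorem L94955 : sm ge N7641 = N11093 := rfl
theorem L94957 : sm gb N11093 = N7643 := ded_21_1 (flp_e L65658) (flp_b L65645) L94955
theorem L94959 : sm gc N11093 = N8605 := ded_28_1 (flp_e L73666) (flp_c L65647) L94955
theorem L94962 : sm gg N7641 = N11094 := rfl
theorem L94966 : sm gc N11094 = N8606 := ded_30_1 (flp_g L73671) (flp_c L65647) L94962
theorem L94968 : sm gf N11094 = N7714 := ded_45_1 (flp_g L66257) (flp_f L45871) (flp_g L45453) L65643 L94962
theorem L94970 : sm gh N7641 = N11095 := rfl
theorem L94972 : sm gb N11095 = N7645 := ded_25_1 (flp_h L65673) (flp_b L65645) L94970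
theorem L94978 : sm gd N7642 = N11096 := rfl
theorem L94982 : sm gg N11096 = N7716 := ded_36_2 (flp_d L66272) (flp_g L65656) L94978
theorem L94993 : sm gd N7643 = N11098 := rfl
theorem L94995 : sm ga N11098 = N7653 := ded_12_1 (flp_d L65748) (flp_a L65660) L94993
theorem L94997 : sm gf N11098 = N11098 := ded_35_2 (flp_d L94993) L65664 L94993
theorem L94998 : sm gc N11098 = N11098 := ded_27_1 (flp_d L94993) L65662 L45478 (flp_c L65662) L94993
theorem L94999 : sm gg N7643 = N11099 := rfl
theorem L95001 : sm ga N11099 = N7654 := ded_15_1 (flp_g L65752) (flp_a L65660) L94999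
theorem L95003 : sm gc N11099 = N7648 := ded_30_1 (flp_g L65698) (flp_c L65662) L94999
theorem L95005 : sm ge N11099 = N7644 := ded_41_1 (flp_g L65665) L65658 L94999
theorem L95007 : sm gh N7643 = N11100 := rfl
theorem L95009 : sm ga N11100 = N7655 := ded_17_1 (flp_h L65758) (flp_a L65660) L95007
theorem L95011 : sm gc N11100 = N7649 := ded_32_1 (flp_h L65707) (flp_c L65662) L95007
theorem L95016 : sm gj N7644 = N11101 := rfl
theorem L95018 : sm ga N11101 = N7656 := ded_16_1 (flp_j L65765) (flp_a L65667) L95016
theorem L95020 : sm gc N11101 = N7650 := ded_31_1 (flp_j L65716) (flp_c L65669) L95016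
theorem L95022 : sm gf N11101 = N7721 := ded_46_1 (flp_j L66311) (flp_f L65671) L95016
theorem L95024 : sm gh N7644 = N11102 := rfl
theorem L95026 : sm ga N11102 = N7657 := ded_17_1 (flp_h L65771) (flp_a L65667) L95024
theorem L95028 : sm gc N11102 = N7651 := ded_32_1 (flp_h L65726) (flp_c L65669) L95024
theorem L95030 : sm gf N11102 = N7722 := ded_47_1 (flp_h L66318) (flp_f L65671) L95024
theorem L95032 : sm gg N11102 = N7645 := ded_50_1 (flp_h L65673) L65665 L95024
theorem L95034 : sm gd N7645 = N11103 := rfl
theorem L95036 : sm ga N11103 = N7658 := ded_12_1 (flp_d L65779) (flp_a L65675) L95034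
theorem L95050 : sm ge N7646 = N11105 := rfl
theorem L95052 : sm ga N11105 = N7660 := ded_13_1 (flp_e L65791) (flp_a L65683) L95050
theorem L95056 : sm gg N11105 = N7725 := ded_41_2 (flp_e L66344) (flp_g L65685) L95050
theorem L95069 : sm gf N7648 = N11107 := rfl
theorem L95076 : sm ge N11107 = N7727 := ded_40_1 (flp_f L66361) L45932 (flp_f L45488) (flp_e L65705) L95069
theorem L95079 : sm gj N7648 = N11108 := rfl
theorem L95086 : sm ge N11108 = N7650 := ded_42_1 (flp_j L65716) (flp_e L65705) L95079
theorem L95088 : sm gh N7648 = N11109 := rfl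
theorem L95092 : sm gb N11109 = N8621 := ded_25_1 (flp_h L73793) (flp_b L65702) L95088
theorem L95094 : sm ge N11109 = N7651 := ded_43_1 (flp_h L65726) (flp_e L65705) L95088
theorem L95096 : sm gg N11109 = N7649 := ded_50_1 (flp_h L65707) L65698 L95088
theorem L95098 : sm gd N7649 = N11110 := rfl
theorem L95105 : sm ge N11110 = N7860 := ded_34_2 (flp_d L67539) L46811 (flp_d L45498) (flp_e L65713) L95098
theorem L95117 : sm gh N7650 = N11112 := rfl
theorem L95121 : sm gb N11112 = N8624 := ded_25_1 (flp_h L73816) (flp_b L65720) L95117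
theorem L95127 : sm gd N11112 = N7862 := ded_38_1 (flp_h L67559) L46821 (flp_h L45520) (flp_d L65722) L95117
theorem L95141 : sm gg N7653 = N11114 := rfl
theorem L95143 : sm gc N11114 = N11114 := ded_30_1 (flp_g L95141) L65751 L95141
theorem L95144 : sm gd N11114 = N7654 := ded_36_1 (flp_g L65752) L65748 L95141
theorem L95146 : sm gh N7653 = N11115 := rfl
theorem L95148 : sm gc N11115 = N11115 := ded_32_1 (flp_h L95146) L65751 L95146
theorem L95149 : sm gf N11115 = N11115 := ded_47_1 (flp_h L95146) L65750 L95146
theorem L95150 : sm gf N7654 = N11116 := rfl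
theorem L95152 : sm gc N11116 = N7662 := ded_29_1 (flp_f L65806) (flp_c L65754) L95150
theorem L95154 : sm ge N11116 = N7735 := ded_40_1 (flp_f L66436) L45985 (flp_f L45531) (flp_e L65756) L95150
theorem L95157 : sm gj N7654 = N11117 := rfl
theorem L95161 : sm ge N11117 = N7656 := ded_42_1 (flp_j L65765) (flp_e L65756) L95157
theorem L95163 : sm gh N7654 = N11118 := rfl
theorem L95167 : sm ge N11118 = N7657 := ded_43_1 (flp_h L65771) (flp_e L65756) L95163
theorem L95169 : sm gg N11118 = N7655 := ded_50_1 (flp_h L65758) L65752 L95163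
theorem L95171 : sm gd N7655 = N11119 := rfl
theorem L95173 : sm gf N11119 = N11119 := ded_35_2 (flp_d L95171) L65764 L95171
theorem L95174 : sm gi N7655 = N11120 := rfl
theorem L95178 : sm ge N11120 = N7659 := ded_44_1 (flp_i L65785) (flp_e L65762) L95174
theorem L95181 : sm gh N7656 = N11121 := rfl
theorem L95183 : sm gc N11121 = N7667 := ded_32_1 (flp_h L65844) (flp_c L65767) L95181
theorem L95185 : sm gf N11121 = N7740 := ded_47_1 (flp_h L66469) (flp_f L65769) L95181
theorem L95187 : sm gj N11121 = N7657 := ded_52_1 (flp_h L65771) L65765 L95181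
theorem L95189 : sm gd N7657 = N11122 := rfl
theorem L95191 : sm gf N11122 = N7741 := ded_35_2 (flp_d L66476) (flp_f L65775) L95189
theorem L95193 : sm gg N11122 = N7658 := ded_36_2 (flp_d L65779) (flp_g L65777) L95189
theorem L95195 : sm gc N11122 = N7871 := ded_27_1 (flp_d L67637) L46881 (flp_d L45582) (flp_c L65773) L95189
theorem L95197 : sm gi N7657 = N11123 := rfl
theorem L95199 : sm gc N11123 = N7668 := ded_33_1 (flp_i L65854) (flp_c L65773) L95197
theorem L95201 : sm gf N11123 = N7742 := ded_48_1 (flp_i L66482) (flp_f L65775) L95197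
theorem L95203 : sm gg N11123 = N7659 := ded_51_1 (flp_i L65785) (flp_g L65777) L95197
theorem L95205 : sm ge N7658 = N11124 := rfl
theorem L95207 : sm gc N11124 = N7873 := ded_28_1 (flp_e L67654) (flp_c L65783) L95205
theorem L95217 : sm gf N7660 = N11126 := rfl
theorem L95219 : sm gc N11126 = N7875 := ded_29_1 (flp_f L67664) (flp_c L65793) L95217
theorem L95221 : sm gd N11126 = N11126 := ded_35_1 (flp_f L95217) L65797 L95217
theorem L95222 : sm gi N7660 = N11127 := rfl
theorem L95229 : sm gg N11127 = N7746 := ded_51_1 (flp_i L66508) (flp_g L65795) L95222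
theorem L95231 : sm gh N7661 = N11128 := rfl
theorem L95237 : sm gj N7662 = N11129 := rfl
theorem L95239 : sm gb N11129 = N7669 := ded_24_1 (flp_j L65864) (flp_b L65808) L95237
theorem L95246 : sm gh N7662 = N11130 := rfl
theorem L95252 : sm gf N11130 = N7664 := ded_47_1 (flp_h L65821) L65806 L95246
theorem L95255 : sm gh N7663 = N11131 := rfl
theorem L95263 : sm gd N7664 = N11132 := rfl
theorem L95265 : sm gb N11132 = N7672 := ded_20_1 (flp_d L65890) (flp_b L65823) L95263
theorem L95269 : sm ge N11132 = N7879 := ded_34_2 (flp_d L67693) L46927 (flp_d L45582) (flp_e L65825) L95263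
theorem L95280 : sm gc N7665 = N11134 := rfl
theorem L95282 : sm ge N11134 = N7881 := ded_28_2 (flp_c L67711) (flp_e L65834) L95280
theorem L95286 : sm gi N7665 = N11135 := rfl
theorem L95288 : sm gb N11135 = N7675 := ded_26_1 (flp_i L65915) (flp_b L65831) L95286
theorem L95313 : sm gh N7669 = N11138 := rfl
theorem L95315 : sm ga N11138 = N8650 := ded_17_1 (flp_h L74012) (flp_a L65866) L95313
theorem L95319 : sm gf N11138 = N7671 := ded_47_1 (flp_h L65882) (flp_f L65871) L95313
theorem L95321 : sm gj N11138 = N7670 := ded_52_1 (flp_h L65873) L65864 L95313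
theorem L95323 : sm gd N7670 = N11139 := rfl
theorem L95325 : sm ga N11139 = N8651 := ded_12_1 (flp_d L74020) (flp_a L65875) L95323
theorem L95327 : sm gf N11139 = N7672 := ded_35_2 (flp_d L65890) (flp_f L65879) L95323
theorem L95341 : sm gd N7671 = N11141 := rfl
theorem L95343 : sm ga N11141 = N8653 := ded_12_1 (flp_d L74034) (flp_a L65884) L95341
theorem L95345 : sm gj N11141 = N7672 := ded_37_2 (flp_d L65890) (flp_j L65888) L95341
theorem L95347 : sm ge N11141 = N7884 := ded_34_2 (flp_d L67733) L46970 (flp_d L45638) (flp_e L65886) L95341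
theorem L95350 : sm gi N7671 = N11142 := rfl
theorem L95354 : sm ge N11142 = N7676 := ded_44_1 (flp_i L65924) (flp_e L65886) L95350
theorem L95358 : sm gc N7672 = N11143 := rfl
theorem L95362 : sm ge N11143 = N7886 := ded_28_2 (flp_c L67752) (flp_e L65896) L95358
theorem L95364 : sm gg N11143 = N7674 := ded_30_2 (flp_c L65907) (flp_g L65894) L95358
theorem L95367 : sm gi N7672 = N11144 := rfl
theorem L95369 : sm ga N11144 = N8656 := ded_18_1 (flp_i L74054) (flp_a L65892) L95367
theorem L95371 : sm gd N11144 = N7673 := ded_39_1 (flp_i L65899) L65890 L95367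
theorem L95375 : sm gg N11144 = N7675 := ded_51_1 (flp_i L65915) (flp_g L65894) L95367
theorem L95377 : sm gb N7674 = N11145 := rfl
theorem L95379 : sm ge N11145 = N7888 := ded_21_2 (flp_b L67770) (flp_e L65911) L95377
theorem L95383 : sm gi N7674 = N11146 := rfl
theorem L95389 : sm ge N11146 = N7889 := ded_44_1 (flp_i L67776) (flp_e L65911) L95383
theorem L95392 : sm gh N7675 = N11147 := rfl
theorem L95396 : sm ge N11147 = N7890 := ded_43_1 (flp_h L67785) (flp_e L65921) L95392
theorem L95400 : sm ge N7677 = N11148 := rfl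
theorem L95402 : sm gb N11148 = N7679 := ded_21_1 (flp_e L65951) (flp_b L65936) L95400
theorem L95404 : sm gc N11148 = N8660 := ded_28_1 (flp_e L74081) (flp_c L65938) L95400
theorem L95407 : sm gi N11148 = N7713 := ded_44_2 (flp_e L66249) (flp_i L65941) L95400
theorem L95410 : sm gg N7677 = N11149 := rfl
theorem L95412 : sm gb N11149 = N7680 := ded_23_1 (flp_g L65961) (flp_b L65936) L95410
theorem L95418 : sm gh N7677 = N11150 := rfl
theorem L95420 : sm gb N11150 = N7681 := ded_25_1 (flp_h L65969) (flp_b L65936) L95418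
theorem L95427 : sm gd N7678 = N11151 := rfl
theorem L95429 : sm gb N11151 = N7682 := ded_20_1 (flp_d L65978) (flp_b L65945) L95427
theorem L95442 : sm gd N7679 = N11153 := rfl
theorem L95444 : sm ga N11153 = N7689 := ded_12_1 (flp_d L66048) (flp_a L65953) L95442
theorem L95446 : sm gf N11153 = N11153 := ded_35_2 (flp_d L95442) L65960 L95442
theorem L95447 : sm gj N11153 = N11153 := ded_37_2 (flp_d L95442) L65957 L95442
theorem L95448 : sm gi N11153 = N7718 := ded_39_2 (flp_d L66285) (flp_i L65958) L95442
theorem L95450 : sm gc N11153 = N7761 := ded_27_1 (flp_d L66640) L46153 (flp_d L45684) (flp_c L65955) L95442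
theorem L95452 : sm gg N7679 = N11154 := rfl
theorem L95454 : sm ga N11154 = N7690 := ded_15_1 (flp_g L66056) (flp_a L65953) L95452
theorem L95456 : sm gc N11154 = N7684 := ded_30_1 (flp_g L65994) (flp_c L65955) L95452
theorem L95458 : sm ge N11154 = N7680 := ded_41_1 (flp_g L65961) L65951 L95452
theorem L95460 : sm gi N11154 = N7719 := ded_51_2 (flp_g L66293) (flp_i L65958) L95452
theorem L95462 : sm gh N7679 = N11155 := rfl
theorem L95464 : sm ga N11155 = N7691 := ded_17_1 (flp_h L66064) (flp_a L65953) L95462
theorem L95466 : sm gc N11155 = N7685 := ded_32_1 (flp_h L66006) (flp_c L65955) L95462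
theorem L95468 : sm ge N11155 = N7681 := ded_43_1 (flp_h L65969) L65951 L95462
theorem L95472 : sm gj N7680 = N11156 := rfl
theorem L95474 : sm ga N11156 = N7692 := ded_16_1 (flp_j L66072) (flp_a L65963) L95472
theorem L95476 : sm gc N11156 = N7686 := ded_31_1 (flp_j L66016) (flp_c L65965) L95472
theorem L95478 : sm gi N11156 = N7721 := ded_53_2 (flp_j L66311) (flp_i L65967) L95472
theorem L95480 : sm gg N11156 = N11156 := ded_49_1 (flp_j L95472) (flp_g L65961) L45664 L65961 L95472
theorem L95481 : sm gh N7680 = N11157 := rfl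
theorem L95483 : sm ga N11157 = N7693 := ded_17_1 (flp_h L66079) (flp_a L65963) L95481
theorem L95489 : sm gd N7681 = N11158 := rfl
theorem L95508 : sm ge N7682 = N11160 := rfl
theorem L95510 : sm ga N11160 = N7696 := ded_13_1 (flp_e L66100) (flp_a L65980) L95508
theorem L95523 : sm gf N7684 = N11162 := rfl
theorem L95525 : sm ga N11162 = N7698 := ded_14_1 (flp_f L66111) (flp_a L65996) L95523
theorem L95527 : sm gb N11162 = N8674 := ded_22_1 (flp_f L74202) (flp_b L65998) L95523
theorem L95529 : sm gd N11162 = N7768 := ded_35_1 (flp_f L66707) (flp_d L66000) L95523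
theorem L95531 : sm gi N11162 = N7727 := ded_48_2 (flp_f L66361) (flp_i L66004) L95523
theorem L95533 : sm gg N11162 = N11162 := ded_45_2 (flp_f L95523) (flp_g L65994) L45686 L65994 L95523
theorem L95534 : sm gj N7684 = N11163 := rfl
theorem L95536 : sm ga N11163 = N7699 := ded_16_1 (flp_j L66120) (flp_a L65996) L95534
theorem L95538 : sm gb N11163 = N8675 := ded_24_1 (flp_j L74211) (flp_b L65998) L95534
theorem L95540 : sm gd N11163 = N7769 := ded_37_1 (flp_j L66717) (flp_d L66000) L95534
theorem L95542 : sm ge N11163 = N7686 := ded_42_1 (flp_j L66016) (flp_e L66002) L95534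
theorem L95544 : sm gi N11163 = N7728 := ded_53_2 (flp_j L66370) (flp_i L66004) L95534
theorem L95546 : sm gg N11163 = N11163 := ded_49_1 (flp_j L95534) (flp_g L65994) L45681 L65994 L95534
theorem L95547 : sm gh N7684 = N11164 := rfl
theorem L95549 : sm ga N11164 = N7700 := ded_17_1 (flp_h L66131) (flp_a L65996) L95547
theorem L95557 : sm gd N7685 = N11165 := rfl
theorem L95559 : sm ga N11165 = N7701 := ded_12_1 (flp_d L66139) (flp_a L66008) L95557
theorem L95561 : sm gb N11165 = N8677 := ded_20_1 (flp_d L74230) (flp_b L66010) L95557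
theorem L95566 : sm gh N11165 = N7771 := ded_38_2 (flp_d L66739) (flp_h L46196) (flp_d L45684) L66006 L95557
theorem L95568 : sm gi N7685 = N11166 := rfl
theorem L95580 : sm gh N7686 = N11167 := rfl
theorem L95587 : sm gj N11167 = N7687 := ded_52_1 (flp_h L66027) L66016 L95580
theorem L95601 : sm gg N7689 = N11169 := rfl
theorem L95603 : sm gc N11169 = N7773 := ded_30_1 (flp_g L66761) (flp_c L66054) L95601
theorem L95605 : sm gd N11169 = N7690 := ded_36_1 (flp_g L66056) L66048 L95601
theorem L95607 : sm gi N11169 = N7733 := ded_51_2 (flp_g L66424) (flp_i L66052) L95601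
theorem L95609 : sm gh N7689 = N11170 := rfl
theorem L95611 : sm gc N11170 = N7774 := ded_32_1 (flp_h L66768) (flp_c L66054) L95609
theorem L95613 : sm gf N11170 = N11170 := ded_47_1 (flp_h L95609) L66050 L95609
theorem L95614 : sm gj N11170 = N11170 := ded_52_1 (flp_h L95609) L66051 L95609
theorem L95615 : sm gf N7690 = N11171 := rfl
theorem L95617 : sm gc N11171 = N7698 := ded_29_1 (flp_f L66111) (flp_c L66058) L95615
theorem L95619 : sm gi N11171 = N7735 := ded_48_2 (flp_f L66436) (flp_i L66062) L95615
theorem L95621 : sm gg N11171 = N11171 := ded_45_2 (flp_f L95615) (flp_g L66056) L45737 L66056 L95615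
theorem L95622 : sm gj N7690 = N11172 := rfl
theorem L95624 : sm gc N11172 = N7699 := ded_31_1 (flp_j L66120) (flp_c L66058) L95622
theorem L95626 : sm ge N11172 = N7692 := ded_42_1 (flp_j L66072) (flp_e L66060) L95622
theorem L95628 : sm gi N11172 = N7736 := ded_53_2 (flp_j L66441) (flp_i L66062) L95622
theorem L95630 : sm gg N11172 = N11172 := ded_49_1 (flp_j L95622) (flp_g L66056) L45734 L66056 L95622
theorem L95631 : sm gh N7690 = N11173 := rfl
theorem L95633 : sm gc N11173 = N7700 := ded_32_1 (flp_h L66131) (flp_c L66058) L95631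
theorem L95635 : sm ge N11173 = N7693 := ded_43_1 (flp_h L66079) (flp_e L66060) L95631
theorem L95637 : sm gg N11173 = N7691 := ded_50_1 (flp_h L66064) L66056 L95631
theorem L95639 : sm gd N7691 = N11174 := rfl
theorem L95641 : sm gf N11174 = N11174 := ded_35_2 (flp_d L95639) L66070 L95639
theorem L95642 : sm gj N11174 = N11174 := ded_37_2 (flp_d L95639) L66071 L95639
theorem L95643 : sm gi N7691 = N11175 := rfl
theorem L95651 : sm gh N11175 = N7739 := ded_54_1 (flp_i L66461) (flp_h L45987) (flp_i L45735) L66064 L95643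
theorem L95653 : sm gh N7692 = N11176 := rfl
theorem L95655 : sm gc N11176 = N7703 := ded_32_1 (flp_h L66158) (flp_c L66074) L95653
theorem L95657 : sm gg N11176 = N11176 := ded_50_1 (flp_h L95653) L66078 L95653
theorem L95658 : sm gj N11176 = N7693 := ded_52_1 (flp_h L66079) L66072 L95653
theorem L95660 : sm gd N7693 = N11177 := rfl
theorem L95662 : sm gg N11177 = N7694 := ded_36_2 (flp_d L66085) (flp_g L66083) L95660
theorem L95665 : sm gi N7693 = N11178 := rfl
theorem L95673 : sm ge N7694 = N11179 := rfl
theorem L95685 : sm gf N7696 = N11181 := rfl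
theorem L95690 : sm gi N7696 = N11182 := rfl
theorem L95694 : sm ge N11182 = N7697 := ded_44_1 (flp_i L66105) L66100 L95690
theorem L95697 : sm gh N7697 = N11183 := rfl
theorem L95701 : sm gd N11183 = N7747 := ded_38_1 (flp_h L66516) L46030 (flp_h L45761) (flp_d L66108) L95697
theorem L95703 : sm gj N7698 = N11184 := rfl
theorem L95705 : sm gb N11184 = N7705 := ded_24_1 (flp_j L66175) (flp_b L66113) L95703
theorem L95707 : sm gd N11184 = N7783 := ded_37_1 (flp_j L66839) (flp_d L66115) L95703
theorem L95709 : sm gf N11184 = N7699 := ded_46_1 (flp_j L66120) L66111 L95703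
theorem L95711 : sm gi N11184 = N7748 := ded_53_2 (flp_j L66521) (flp_i L66117) L95703
theorem L95713 : sm gh N7698 = N11185 := rfl
theorem L95715 : sm gb N11185 = N7706 := ded_25_1 (flp_h L66185) (flp_b L66113) L95713
theorem L95717 : sm gf N11185 = N7700 := ded_47_1 (flp_h L66131) L66111 L95713
theorem L95720 : sm gh N7699 = N11186 := rfl
theorem L95722 : sm gb N11186 = N7707 := ded_25_1 (flp_h L66192) (flp_b L66122) L95720
theorem L95727 : sm gj N11186 = N7700 := ded_52_1 (flp_h L66131) L66120 L95720
theorem L95729 : sm gd N7700 = N11187 := rfl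
theorem L95731 : sm gb N11187 = N7708 := ded_20_1 (flp_d L66201) (flp_b L66133) L95729
theorem L95733 : sm gg N11187 = N7701 := ded_36_2 (flp_d L66139) (flp_g L66137) L95729
theorem L95735 : sm ge N11187 = N11187 := ded_34_2 (flp_d L95729) L66135 L45796 (flp_e L66135) L95729
theorem L95736 : sm gh N11187 = N7786 := ded_38_2 (flp_d L66867) (flp_h L46307) (flp_d L45767) L66131 L95729
theorem L95748 : sm gc N7701 = N11189 := rfl
theorem L95750 : sm ge N11189 = N11189 := ded_28_2 (flp_c L95748) L66145 L95748
theorem L95751 : sm gf N11189 = N11189 := ded_29_2 (flp_c L95748) L66143 L95748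
theorem L95752 : sm gj N11189 = N11189 := ded_31_2 (flp_c L95748) L66144 L95748
theorem L95753 : sm gh N11189 = N7787 := ded_32_2 (flp_c L66875) (flp_h L66146) L95748
theorem L95755 : sm gi N7701 = N11190 := rfl
theorem L95757 : sm gb N11190 = N7711 := ded_26_1 (flp_i L66229) (flp_b L66141) L95755
theorem L95759 : sm gd N11190 = N7702 := ded_39_1 (flp_i L66148) L66139 L95755
theorem L95775 : sm gg N7705 = N11192 := rfl
theorem L95777 : sm ga N11192 = N8704 := ded_15_1 (flp_g L74446) (flp_a L66177) L95775
theorem L95779 : sm gd N11192 = N7788 := ded_36_1 (flp_g L66881) (flp_d L66179) L95775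
theorem L95785 : sm gh N7705 = N11193 := rfl
theorem L95789 : sm gf N11193 = N7707 := ded_47_1 (flp_h L66192) (flp_f L66181) L95785
theorem L95791 : sm gj N11193 = N7706 := ded_52_1 (flp_h L66185) L66175 L95785
theorem L95793 : sm gd N7706 = N11194 := rfl
theorem L95797 : sm gf N11194 = N7708 := ded_35_2 (flp_d L66201) (flp_f L66189) L95793
theorem L95800 : sm gh N11194 = N7790 := ded_38_2 (flp_d L66902) (flp_h L46344) (flp_d L45811) L66185 L95793
theorem L95802 : sm gi N7706 = N11195 := rfl
theorem L95806 : sm gf N11195 = N7709 := ded_48_1 (flp_i L66210) (flp_f L66189) L95802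
theorem L95811 : sm gd N7707 = N11196 := rfl
theorem L95813 : sm ga N11196 = N8708 := ded_12_1 (flp_d L74474) (flp_a L66194) L95811
theorem L95816 : sm gj N11196 = N7708 := ded_37_2 (flp_d L66201) (flp_j L66199) L95811
theorem L95819 : sm gh N11196 = N7791 := ded_38_2 (flp_d L66910) (flp_h L46354) (flp_d L45820) L66192 L95811
theorem L95821 : sm gi N7707 = N11197 := rfl
theorem L95825 : sm ge N11197 = N7712 := ded_44_1 (flp_i L66239) (flp_e L66196) L95821
theorem L95828 : sm gj N11197 = N7709 := ded_53_1 (flp_i L66210) (flp_j L66199) L95821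
theorem L95832 : sm gc N7708 = N11198 := rfl
theorem L95834 : sm ga N11198 = N8710 := ded_11_1 (flp_c L74491) (flp_a L66203) L95832
theorem L95837 : sm gg N11198 = N7710 := ded_30_2 (flp_c L66220) (flp_g L66205) L95832
theorem L95839 : sm gh N11198 = N7792 := ded_32_2 (flp_c L66919) (flp_h L66208) L95832
theorem L95841 : sm gi N7708 = N11199 := rfl
theorem L95843 : sm ga N11199 = N8711 := ded_18_1 (flp_i L74498) (flp_a L66203) L95841
theorem L95845 : sm gd N11199 = N7709 := ded_39_1 (flp_i L66210) L66201 L95841
theorem L95848 : sm gg N11199 = N7711 := ded_51_1 (flp_i L66229) (flp_g L66205) L95841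
theorem L95851 : sm gb N7710 = N11200 := rfl
theorem L95856 : sm gh N11200 = N7793 := ded_25_2 (flp_b L66928) (flp_h L66227) L95851
theorem L95858 : sm gi N7710 = N11201 := rfl
theorem L95860 : sm ga N11201 = N8713 := ded_18_1 (flp_i L74513) (flp_a L66222) L95858
theorem L95862 : sm gc N11201 = N7711 := ded_33_1 (flp_i L66229) L66220 L95858
theorem L95868 : sm gd N7713 = N11202 := rfl
theorem L95870 : sm gb N11202 = N7718 := ded_20_1 (flp_d L66285) (flp_b L66251) L95868
theorem L95874 : sm gg N7713 = N11203 := rfl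
theorem L95876 : sm gb N11203 = N7719 := ded_23_1 (flp_g L66293) (flp_b L66251) L95874
theorem L95878 : sm gc N11203 = N8715 := ded_30_1 (flp_g L74528) (flp_c L66253) L95874
theorem L95880 : sm ge N11203 = N7714 := ded_41_1 (flp_g L66257) L66249 L95874
theorem L95882 : sm gh N7713 = N11204 := rfl
theorem L95892 : sm gj N7714 = N11205 := rfl
theorem L95899 : sm gh N7714 = N11206 := rfl
theorem L95903 : sm gc N11206 = N8718 := ded_32_1 (flp_h L74548) (flp_c L66261) L95899
theorem L95905 : sm gg N11206 = N7715 := ded_50_1 (flp_h L66263) L66257 L95899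
theorem L95907 : sm gd N7715 = N11207 := rfl
theorem L95914 : sm gi N7715 = N11208 := rfl
theorem L95923 : sm gc N7716 = N11209 := rfl
theorem L95930 : sm ge N7716 = N11210 := rfl
theorem L95932 : sm gb N11210 = N7725 := ded_21_1 (flp_e L66344) (flp_b L66274) L95930
theorem L95943 : sm gg N7718 = N11212 := rfl
theorem L95945 : sm ga N11212 = N7733 := ded_15_1 (flp_g L66424) (flp_a L66287) L95943
theorem L95947 : sm gc N11212 = N7797 := ded_30_1 (flp_g L66962) (flp_c L66291) L95943
theorem L95949 : sm gd N11212 = N7719 := ded_36_1 (flp_g L66293) L66285 L95943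
theorem L95951 : sm gh N7718 = N11213 := rfl
theorem L95953 : sm ga N11213 = N7734 := ded_17_1 (flp_h L66430) (flp_a L66287) L95951
theorem L95955 : sm gc N11213 = N7798 := ded_32_1 (flp_h L66968) (flp_c L66291) L95951
theorem L95957 : sm gf N11213 = N11213 := ded_47_1 (flp_h L95951) L66289 L95951
theorem L95958 : sm gj N11213 = N11213 := ded_52_1 (flp_h L95951) L66290 L95951
theorem L95959 : sm gf N7719 = N11214 := rfl
theorem L95961 : sm ga N11214 = N7735 := ded_14_1 (flp_f L66436) (flp_a L66295) L95959
theorem L95963 : sm gc N11214 = N7727 := ded_29_1 (flp_f L66361) (flp_c L66297) L95959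
theorem L95965 : sm gg N11214 = N11214 := ded_45_2 (flp_f L95959) (flp_g L66293) L45893 L66293 L95959
theorem L95966 : sm gj N7719 = N11215 := rfl
theorem L95968 : sm ga N11215 = N7736 := ded_16_1 (flp_j L66441) (flp_a L66295) L95966
theorem L95970 : sm gc N11215 = N7728 := ded_31_1 (flp_j L66370) (flp_c L66297) L95966
theorem L95972 : sm ge N11215 = N7721 := ded_42_1 (flp_j L66311) (flp_e L66299) L95966
theorem L95974 : sm gg N11215 = N11215 := ded_49_1 (flp_j L95966) (flp_g L66293) L45892 L66293 L95966
theorem L95975 : sm gh N7719 = N11216 := rfl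
theorem L95977 : sm ga N11216 = N7737 := ded_17_1 (flp_h L66448) (flp_a L66295) L95975
theorem L95985 : sm gd N7720 = N11217 := rfl
theorem L95987 : sm ga N11217 = N7738 := ded_12_1 (flp_d L66456) (flp_a L66303) L95985
theorem L95992 : sm gi N7720 = N11218 := rfl
theorem L96002 : sm gh N7721 = N11219 := rfl
theorem L96004 : sm ga N11219 = N7740 := ded_17_1 (flp_h L66469) (flp_a L66313) L96002
theorem L96006 : sm gc N11219 = N7731 := ded_32_1 (flp_h L66403) (flp_c L66315) L96002
theorem L96009 : sm gj N11219 = N7722 := ded_52_1 (flp_h L66318) L66311 L96002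
theorem L96011 : sm gd N7722 = N11220 := rfl
theorem L96013 : sm ga N11220 = N7741 := ded_12_1 (flp_d L66476) (flp_a L66320) L96011
theorem L96017 : sm gc N11220 = N7899 := ded_27_1 (flp_d L67865) L47070 (flp_d L45962) (flp_c L66322) L96011
theorem L96027 : sm ge N7723 = N11222 := rfl
theorem L96029 : sm ga N11222 = N7743 := ded_13_1 (flp_e L66488) (flp_a L66328) L96027
theorem L96031 : sm gc N11222 = N7901 := ded_28_1 (flp_e L67881) (flp_c L66333) L96027
theorem L96045 : sm gf N7725 = N11224 := rfl
theorem L96047 : sm ga N11224 = N7745 := ded_14_1 (flp_f L66502) (flp_a L66346) L96045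
theorem L96049 : sm gc N11224 = N7903 := ded_29_1 (flp_f L67896) (flp_c L66348) L96045
theorem L96053 : sm gi N7725 = N11225 := rfl
theorem L96070 : sm gj N7727 = N11227 := rfl
theorem L96076 : sm gd N11227 = N7801 := ded_37_1 (flp_j L66994) (flp_d L66367) L96070
theorem L96078 : sm gf N11227 = N7728 := ded_46_1 (flp_j L66370) L66361 L96070
theorem L96102 : sm gi N7729 = N11230 := rfl
theorem L96113 : sm gi N7731 = N11231 := rfl
theorem L96119 : sm gd N11231 = N7906 := ded_39_1 (flp_i L67918) (flp_d L66412) L96113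
theorem L96124 : sm gf N7733 = N11232 := rfl
theorem L96126 : sm gc N11232 = N7802 := ded_29_1 (flp_f L67004) (flp_c L66426) L96124
theorem L96128 : sm gd N11232 = N7735 := ded_35_1 (flp_f L66436) (flp_d L66428) L96124
theorem L96130 : sm gg N11232 = N11232 := ded_45_2 (flp_f L96124) (flp_g L66424) L45977 L66424 L96124
theorem L96131 : sm gj N7733 = N11233 := rfl
theorem L96133 : sm gc N11233 = N7803 := ded_31_1 (flp_j L67010) (flp_c L66426) L96131
theorem L96135 : sm gd N11233 = N7736 := ded_37_1 (flp_j L66441) (flp_d L66428) L96131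
theorem L96137 : sm gg N11233 = N11233 := ded_49_1 (flp_j L96131) (flp_g L66424) L45978 L66424 L96131
theorem L96138 : sm gh N7733 = N11234 := rfl
theorem L96140 : sm gc N11234 = N7804 := ded_32_1 (flp_h L67016) (flp_c L66426) L96138
theorem L96142 : sm gg N11234 = N7734 := ded_50_1 (flp_h L66430) L66424 L96138
theorem L96144 : sm gd N7734 = N11235 := rfl
theorem L96146 : sm gf N11235 = N11235 := ded_35_2 (flp_d L96144) L66434 L96144
theorem L96147 : sm gj N11235 = N11235 := ded_37_2 (flp_d L96144) L66435 L96144
theorem L96148 : sm gc N11235 = N11235 := ded_27_1 (flp_d L96144) L66432 L46454 (flp_c L66432) L96144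
theorem L96149 : sm gh N11235 = N7738 := ded_38_2 (flp_d L66456) (flp_h L45987) L45975 L66430 L96144
theorem L96151 : sm gi N7734 = N11236 := rfl
theorem L96153 : sm gc N11236 = N7805 := ded_33_1 (flp_i L67022) (flp_c L66432) L96151
theorem L96155 : sm gf N11236 = N11236 := ded_48_1 (flp_i L96151) L66434 L96151
theorem L96156 : sm gj N11236 = N11236 := ded_53_1 (flp_i L96151) L66435 L96151
theorem L96157 : sm gj N7735 = N11237 := rfl
theorem L96159 : sm gc N11237 = N7748 := ded_31_1 (flp_j L66521) (flp_c L66438) L96157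
theorem L96161 : sm gf N11237 = N7736 := ded_46_1 (flp_j L66441) L66436 L96157
theorem L96163 : sm gh N7735 = N11238 := rfl
theorem L96165 : sm gc N11238 = N7749 := ded_32_1 (flp_h L66529) (flp_c L66438) L96163
theorem L96167 : sm gf N11238 = N7737 := ded_47_1 (flp_h L66448) L66436 L96163
theorem L96170 : sm gh N7736 = N11239 := rfl
theorem L96172 : sm gc N11239 = N7750 := ded_32_1 (flp_h L66537) (flp_c L66443) L96170
theorem L96174 : sm ge N11239 = N7740 := ded_43_1 (flp_h L66469) (flp_e L66445) L96170
theorem L96177 : sm gj N11239 = N7737 := ded_52_1 (flp_h L66448) L66441 L96170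
theorem L96179 : sm gd N7737 = N11240 := rfl
theorem L96181 : sm gg N11240 = N7738 := ded_36_2 (flp_d L66456) (flp_g L66454) L96179
theorem L96183 : sm gc N11240 = N11240 := ded_27_1 (flp_d L96179) L66450 L46057 (flp_c L66450) L96179
theorem L96184 : sm gi N7737 = N11241 := rfl
theorem L96192 : sm ge N7738 = N11242 := rfl
theorem L96194 : sm gc N11242 = N11242 := ded_28_1 (flp_e L96192) L66460 L96192
theorem L96195 : sm gj N11242 = N11242 := ded_42_2 (flp_e L96192) L66459 L96192
theorem L96196 : sm gd N11242 = N7743 := ded_34_1 (flp_e L66488) (flp_d L46006) (flp_e L45991) L66456 L96192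
theorem L96198 : sm gi N7738 = N11243 := rfl
theorem L96201 : sm gd N11243 = N7739 := ded_39_1 (flp_i L66461) L66456 L96198
theorem L96205 : sm gd N7740 = N11244 := rfl
theorem L96207 : sm gg N11244 = N11244 := ded_36_2 (flp_d L96205) L66473 L96205
theorem L96208 : sm gj N11244 = N7741 := ded_37_2 (flp_d L66476) (flp_j L66474) L96205
theorem L96210 : sm gc N11244 = N7907 := ded_27_1 (flp_d L67929) L47130 (flp_d L46074) (flp_c L66471) L96205
theorem L96212 : sm gi N7740 = N11245 := rfl
theorem L96214 : sm gc N11245 = N7752 := ded_33_1 (flp_i L66556) (flp_c L66471) L96212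
theorem L96219 : sm ge N7741 = N11246 := rfl
theorem L96221 : sm gc N11246 = N7909 := ded_28_1 (flp_e L67945) (flp_c L66480) L96219
theorem L96223 : sm gg N11246 = N7743 := ded_41_2 (flp_e L66488) (flp_g L66478) L96219
theorem L96225 : sm gi N7741 = N11247 := rfl
theorem L96233 : sm gf N7743 = N11248 := rfl
theorem L96235 : sm gc N11248 = N7911 := ded_29_1 (flp_f L67958) (flp_c L66490) L96233
theorem L96237 : sm gj N11248 = N11248 := ded_46_2 (flp_f L96233) L66492 L96233
theorem L96238 : sm ge N11248 = N7745 := ded_40_1 (flp_f L66502) (flp_e L46020) (flp_f L46008) L66488 L96233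
theorem L96240 : sm gi N7743 = N11249 := rfl
theorem L96242 : sm gc N11249 = N7912 := ded_33_1 (flp_i L67965) (flp_c L66490) L96240
theorem L96247 : sm gh N7744 = N11250 := rfl
theorem L96254 : sm gg N7745 = N11251 := rfl
theorem L96256 : sm gc N11251 = N7914 := ded_30_1 (flp_g L67979) (flp_c L66504) L96254
theorem L96258 : sm gd N11251 = N11251 := ded_36_1 (flp_g L96254) L66506 L96254
theorem L96259 : sm gi N7745 = N11252 := rfl
theorem L96261 : sm gc N11252 = N7915 := ded_33_1 (flp_i L67984) (flp_c L66504) L96259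
theorem L96264 : sm gf N11252 = N7746 := ded_48_1 (flp_i L66508) L66502 L96259
theorem L96267 : sm gh N7746 = N11253 := rfl
theorem L96271 : sm ge N11253 = N7747 := ded_43_1 (flp_h L66516) (flp_e L66513) L96267
theorem L96274 : sm gg N7748 = N11254 := rfl
theorem L96282 : sm gh N7748 = N11255 := rfl
theorem L96299 : sm gi N7750 = N11257 := rfl
theorem L96301 : sm gb N11257 = N7756 := ded_26_1 (flp_i L66590) (flp_b L66539) L96299
theorem L96327 : sm gd N7757 = N11260 := rfl
theorem L96330 : sm gb N11260 = N7761 := ded_20_1 (flp_d L66640) (flp_b L66603) L96327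
theorem L96334 : sm gi N11260 = N7794 := ded_39_2 (flp_d L66935) (flp_i L66608) L96327
theorem L96336 : sm gg N7757 = N11261 := rfl
theorem L96339 : sm gb N11261 = N7762 := ded_23_1 (flp_g L66648) (flp_b L66603) L96336
theorem L96341 : sm gc N11261 = N8773 := ded_30_1 (flp_g L74984) (flp_c L66605) L96336
theorem L96345 : sm gi N11261 = N7795 := ded_51_2 (flp_g L66942) (flp_i L66608) L96336
theorem L96347 : sm gh N7757 = N11262 := rfl
theorem L96350 : sm gb N11262 = N7763 := ded_25_1 (flp_h L66658) (flp_b L66603) L96347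
theorem L96359 : sm gj N7758 = N11263 := rfl
theorem L96362 : sm gb N11263 = N7764 := ded_24_1 (flp_j L66669) (flp_b L66614) L96359
theorem L96364 : sm gc N11263 = N8775 := ded_31_1 (flp_j L75003) (flp_c L66616) L96359
theorem L96370 : sm gh N7758 = N11264 := rfl
theorem L96373 : sm gb N11264 = N7765 := ded_25_1 (flp_h L66679) (flp_b L66614) L96370
theorem L96378 : sm gg N11264 = N7759 := ded_50_1 (flp_h L66621) L66611 L96370
theorem L96408 : sm gg N7761 = N11268 := rfl
theorem L96410 : sm ga N11268 = N7773 := ded_15_1 (flp_g L66761) (flp_a L66642) L96408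
theorem L96412 : sm gd N11268 = N7762 := ded_36_1 (flp_g L66648) L66640 L96408
theorem L96414 : sm gi N11268 = N7797 := ded_51_2 (flp_g L66962) (flp_i L66646) L96408
theorem L96416 : sm gh N7761 = N11269 := rfl
theorem L96418 : sm ga N11269 = N7774 := ded_17_1 (flp_h L66768) (flp_a L66642) L96416
theorem L96420 : sm gf N11269 = N11269 := ded_47_1 (flp_h L96416) L66644 L96416
theorem L96421 : sm gj N11269 = N11269 := ded_52_1 (flp_h L96416) L66645 L96416
theorem L96422 : sm gf N7762 = N11270 := rfl
theorem L96424 : sm ga N11270 = N7775 := ded_14_1 (flp_f L66773) (flp_a L66650) L96422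
theorem L96426 : sm gc N11270 = N7768 := ded_29_1 (flp_f L66707) (flp_c L66652) L96422
theorem L96428 : sm gi N11270 = N7799 := ded_48_2 (flp_f L66975) (flp_i L66656) L96422
theorem L96430 : sm ge N11270 = N11270 := ded_40_1 (flp_f L96422) L66654 L46167 (flp_e L66654) L96422
theorem L96431 : sm gg N11270 = N11270 := ded_45_2 (flp_f L96422) (flp_g L66648) L46158 L66648 L96422
theorem L96432 : sm gj N7762 = N11271 := rfl
theorem L96434 : sm ga N11271 = N7776 := ded_16_1 (flp_j L66782) (flp_a L66650) L96432
theorem L96436 : sm gc N11271 = N7769 := ded_31_1 (flp_j L66717) (flp_c L66652) L96432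
theorem L96438 : sm ge N11271 = N7764 := ded_42_1 (flp_j L66669) (flp_e L66654) L96432
theorem L96440 : sm gi N11271 = N7800 := ded_53_2 (flp_j L66984) (flp_i L66656) L96432
theorem L96442 : sm gg N11271 = N11271 := ded_49_1 (flp_j L96432) (flp_g L66648) L46155 L66648 L96432
theorem L96443 : sm gh N7762 = N11272 := rfl
theorem L96445 : sm ga N11272 = N7777 := ded_17_1 (flp_h L66792) (flp_a L66650) L96443
theorem L96447 : sm gc N11272 = N7770 := ded_32_1 (flp_h L66728) (flp_c L66652) L96443
theorem L96449 : sm ge N11272 = N7765 := ded_43_1 (flp_h L66679) (flp_e L66654) L96443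
theorem L96454 : sm gd N7763 = N11273 := rfl
theorem L96456 : sm ga N11273 = N7778 := ded_12_1 (flp_d L66802) (flp_a L66660) L96454
theorem L96461 : sm gh N7764 = N11274 := rfl
theorem L96463 : sm ga N11274 = N7779 := ded_17_1 (flp_h L66808) (flp_a L66671) L96461
theorem L96465 : sm gc N11274 = N7772 := ded_32_1 (flp_h L66749) (flp_c L66673) L96461
theorem L96472 : sm gd N7765 = N11275 := rfl
theorem L96488 : sm gf N7767 = N11277 := rfl
theorem L96496 : sm gj N7768 = N11278 := rfl
theorem L96503 : sm gf N11278 = N7769 := ded_46_1 (flp_j L66717) L66707 L96496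
theorem L96505 : sm gi N11278 = N7801 := ded_53_2 (flp_j L66994) (flp_i L66713) L96496
theorem L96507 : sm gh N7768 = N11279 := rfl
theorem L96509 : sm ga N11279 = N7784 := ded_17_1 (flp_h L66848) (flp_a L66709) L96507
theorem L96511 : sm gb N11279 = N8791 := ded_25_1 (flp_h L75152) (flp_b L66711) L96507
theorem L96513 : sm ge N11279 = N11279 := ded_43_1 (flp_h L96507) L66715 L96507
theorem L96514 : sm gf N11279 = N7770 := ded_47_1 (flp_h L66728) L66707 L96507
theorem L96516 : sm gg N11279 = N11279 := ded_50_1 (flp_h L96507) L66716 L96507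
theorem L96517 : sm gi N11279 = N11279 := ded_54_2 (flp_h L96507) L66713 L46431 (flp_i L66713) L96507
theorem L96518 : sm gh N7769 = N11280 := rfl
theorem L96520 : sm ga N11280 = N7785 := ded_17_1 (flp_h L66857) (flp_a L66719) L96518
theorem L96522 : sm gb N11280 = N8792 := ded_25_1 (flp_h L75161) (flp_b L66721) L96518
theorem L96524 : sm ge N11280 = N7772 := ded_43_1 (flp_h L66749) (flp_e L66723) L96518
theorem L96526 : sm gg N11280 = N11280 := ded_50_1 (flp_h L96518) L66727 L96518
theorem L96527 : sm gj N11280 = N7770 := ded_52_1 (flp_h L66728) L66717 L96518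
theorem L96529 : sm gi N11280 = N11280 := ded_54_2 (flp_h L96518) L66725 L46442 (flp_i L66725) L96518
theorem L96530 : sm gd N7770 = N11281 := rfl
theorem L96532 : sm ga N11281 = N7786 := ded_12_1 (flp_d L66867) (flp_a L66730) L96530
theorem L96536 : sm gg N11281 = N7771 := ded_36_2 (flp_d L66739) (flp_g L66736) L96530
theorem L96538 : sm gi N11281 = N11281 := ded_39_2 (flp_d L96530) L66738 L96530
theorem L96539 : sm ge N11281 = N11281 := ded_34_2 (flp_d L96530) L66734 L46228 (flp_e L66734) L96530
theorem L96540 : sm gc N7771 = N11282 := rfl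
theorem L96542 : sm ga N11282 = N7787 := ded_11_1 (flp_c L66875) (flp_a L66741) L96540
theorem L96544 : sm ge N11282 = N11282 := ded_28_2 (flp_c L96540) L66748 L96540
theorem L96545 : sm gf N11282 = N11282 := ded_29_2 (flp_c L96540) L66745 L96540
theorem L96546 : sm gj N11282 = N11282 := ded_31_2 (flp_c L96540) L66746 L96540
theorem L96547 : sm gi N11282 = N11282 := ded_33_2 (flp_c L96540) L66747 L96540
theorem L96548 : sm gf N7773 = N11283 := rfl
theorem L96550 : sm gb N11283 = N11283 := ded_22_1 (flp_f L96548) L66763 L96548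
theorem L96551 : sm gd N11283 = N7775 := ded_35_1 (flp_f L66773) (flp_d L66764) L96548
theorem L96553 : sm gi N11283 = N7802 := ded_48_2 (flp_f L67004) (flp_i L66766) L96548
theorem L96555 : sm gg N11283 = N11283 := ded_45_2 (flp_f L96548) (flp_g L66761) L46233 L66761 L96548
theorem L96556 : sm gj N7773 = N11284 := rfl
theorem L96558 : sm gb N11284 = N11284 := ded_24_1 (flp_j L96556) L66763 L96556
theorem L96559 : sm gd N11284 = N7776 := ded_37_1 (flp_j L66782) (flp_d L66764) L96556
theorem L96561 : sm gi N11284 = N7803 := ded_53_2 (flp_j L67010) (flp_i L66766) L96556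
theorem L96563 : sm gg N11284 = N11284 := ded_49_1 (flp_j L96556) (flp_g L66761) L46234 L66761 L96556
theorem L96564 : sm gh N7773 = N11285 := rfl
theorem L96566 : sm gb N11285 = N11285 := ded_25_1 (flp_h L96564) L66763 L96564
theorem L96567 : sm gg N11285 = N7774 := ded_50_1 (flp_h L66768) L66761 L96564
theorem L96569 : sm gd N7774 = N11286 := rfl
theorem L96571 : sm gb N11286 = N11286 := ded_20_1 (flp_d L96569) L66770 L96569
theorem L96572 : sm gf N11286 = N11286 := ded_35_2 (flp_d L96569) L66771 L96569
theorem L96573 : sm gj N11286 = N11286 := ded_37_2 (flp_d L96569) L66772 L96569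
theorem L96574 : sm gh N11286 = N7778 := ded_38_2 (flp_d L66802) (flp_h L46246) L46230 L66768 L96569
theorem L96576 : sm gi N7774 = N11287 := rfl
theorem L96578 : sm gb N11287 = N11287 := ded_26_1 (flp_i L96576) L66770 L96576
theorem L96579 : sm gf N11287 = N11287 := ded_48_1 (flp_i L96576) L66771 L96576
theorem L96580 : sm gj N11287 = N11287 := ded_53_1 (flp_i L96576) L66772 L96576
theorem L96581 : sm gh N11287 = N7805 := ded_54_1 (flp_i L67022) (flp_h L46449) (flp_i L46235) L66768 L96576
theorem L96583 : sm gj N7775 = N11288 := rfl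
theorem L96585 : sm gb N11288 = N11288 := ded_24_1 (flp_j L96583) L66775 L96583
theorem L96586 : sm gc N11288 = N7783 := ded_31_1 (flp_j L66839) (flp_c L66776) L96583
theorem L96588 : sm ge N11288 = N11288 := ded_42_1 (flp_j L96583) L66780 L96583
theorem L96589 : sm gf N11288 = N7776 := ded_46_1 (flp_j L66782) L66773 L96583
theorem L96591 : sm gi N11288 = N7806 := ded_53_2 (flp_j L67028) (flp_i L66778) L96583
theorem L96593 : sm gh N7775 = N11289 := rfl
theorem L96595 : sm gb N11289 = N11289 := ded_25_1 (flp_h L96593) L66775 L96593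
theorem L96596 : sm gc N11289 = N7784 := ded_32_1 (flp_h L66848) (flp_c L66776) L96593
theorem L96598 : sm ge N11289 = N11289 := ded_43_1 (flp_h L96593) L66780 L96593
theorem L96599 : sm gf N11289 = N7777 := ded_47_1 (flp_h L66792) L66773 L96593
theorem L96601 : sm gg N11289 = N11289 := ded_50_1 (flp_h L96593) L66781 L96593
theorem L96602 : sm gi N11289 = N11289 := ded_54_2 (flp_h L96593) L66778 L46460 (flp_i L66778) L96593
theorem L96603 : sm gh N7776 = N11290 := rfl
theorem L96605 : sm gb N11290 = N11290 := ded_25_1 (flp_h L96603) L66784 L96603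
theorem L96606 : sm gc N11290 = N7785 := ded_32_1 (flp_h L66857) (flp_c L66785) L96603
theorem L96608 : sm ge N11290 = N7779 := ded_43_1 (flp_h L66808) (flp_e L66787) L96603
theorem L96610 : sm gg N11290 = N11290 := ded_50_1 (flp_h L96603) L66791 L96603
theorem L96611 : sm gj N11290 = N7777 := ded_52_1 (flp_h L66792) L66782 L96603
theorem L96613 : sm gi N11290 = N11290 := ded_54_2 (flp_h L96603) L66789 L46470 (flp_i L66789) L96603
theorem L96614 : sm gd N7777 = N11291 := rfl
theorem L96616 : sm gb N11291 = N11291 := ded_20_1 (flp_d L96614) L66794 L96614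
theorem L96617 : sm gg N11291 = N7778 := ded_36_2 (flp_d L66802) (flp_g L66799) L96614
theorem L96619 : sm gi N11291 = N11291 := ded_39_2 (flp_d L96614) L66801 L96614
theorem L96620 : sm gc N7778 = N11292 := rfl
theorem L96622 : sm gf N11292 = N11292 := ded_29_2 (flp_c L96620) L66805 L96620
theorem L96623 : sm gj N11292 = N11292 := ded_31_2 (flp_c L96620) L66806 L96620
theorem L96624 : sm gi N11292 = N11292 := ded_33_2 (flp_c L96620) L66807 L96620
theorem L96625 : sm gd N11292 = N7787 := ded_27_2 (flp_c L66875) (flp_d L46316) (flp_c L46249) L66802 L96620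
theorem L96627 : sm ge N7778 = N11293 := rfl
theorem L96632 : sm gd N11293 = N7781 := ded_34_1 (flp_e L66826) (flp_d L46274) (flp_e L46251) L66802 L96627
theorem L96634 : sm gd N7779 = N11294 := rfl
theorem L96639 : sm gj N11294 = N7780 := ded_37_2 (flp_d L66818) (flp_j L66815) L96634
theorem L96643 : sm ge N7780 = N11295 := rfl
theorem L96647 : sm gg N11295 = N7781 := ded_41_2 (flp_e L66826) (flp_g L66822) L96643
theorem L96650 : sm gf N7781 = N11296 := rfl
theorem L96656 : sm ge N11296 = N7782 := ded_40_1 (flp_f L66832) (flp_e L46282) (flp_f L46277) L66826 L96650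
theorem L96658 : sm gg N7782 = N11297 := rfl
theorem L96665 : sm gg N7783 = N11298 := rfl
theorem L96674 : sm gh N7783 = N11299 := rfl
theorem L96676 : sm gb N11299 = N7789 := ded_25_1 (flp_h L66891) (flp_b L66841) L96674
theorem L96679 : sm gf N11299 = N7785 := ded_47_1 (flp_h L66857) (flp_f L66844) L96674
theorem L96681 : sm gj N11299 = N7784 := ded_52_1 (flp_h L66848) L66839 L96674
theorem L96684 : sm gd N7784 = N11300 := rfl
theorem L96686 : sm gb N11300 = N7790 := ded_20_1 (flp_d L66902) (flp_b L66850) L96684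
theorem L96688 : sm gf N11300 = N7786 := ded_35_2 (flp_d L66867) (flp_f L66853) L96684
theorem L96692 : sm gd N7785 = N11301 := rfl
theorem L96694 : sm gb N11301 = N7791 := ded_20_1 (flp_d L66910) (flp_b L66859) L96692
theorem L96697 : sm gj N11301 = N7786 := ded_37_2 (flp_d L66867) (flp_j L66864) L96692
theorem L96701 : sm gc N7786 = N11302 := rfl
theorem L96703 : sm ge N11302 = N11302 := ded_28_2 (flp_c L96701) L66874 L96701
theorem L96704 : sm gg N11302 = N7787 := ded_30_2 (flp_c L66875) (flp_g L66871) L96701
theorem L96706 : sm gi N11302 = N11302 := ded_33_2 (flp_c L96701) L66873 L96701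
theorem L96707 : sm gb N7787 = N11303 := rfl
theorem L96709 : sm ge N11303 = N11303 := ded_21_2 (flp_b L96707) L66877 L96707
theorem L96710 : sm gf N11303 = N11303 := ded_22_2 (flp_b L96707) L66878 L96707
theorem L96711 : sm gj N11303 = N11303 := ded_24_2 (flp_b L96707) L66879 L96707
theorem L96712 : sm gi N11303 = N11303 := ded_26_2 (flp_b L96707) L66880 L96707
theorem L96713 : sm gc N11303 = N7793 := ded_19_2 (flp_b L66928) (flp_c L46373) (flp_b L46318) L66875 L96707
theorem L96715 : sm gh N7788 = N11304 := rfl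
theorem L96722 : sm gg N11304 = N7789 := ded_50_1 (flp_h L66891) L66881 L96715
theorem L96726 : sm gd N7789 = N11305 := rfl
theorem L96728 : sm ga N11305 = N8817 := ded_12_1 (flp_d L75370) (flp_a L66893) L96726
theorem L96730 : sm gf N11305 = N7791 := ded_35_2 (flp_d L66910) (flp_f L66897) L96726
theorem L96732 : sm gj N11305 = N7790 := ded_37_2 (flp_d L66902) (flp_j L66899) L96726
theorem L96735 : sm gc N7790 = N11306 := rfl
theorem L96737 : sm ga N11306 = N8818 := ded_11_1 (flp_c L75377) (flp_a L66904) L96735
theorem L96739 : sm gf N11306 = N7792 := ded_29_2 (flp_c L66919) (flp_f L66906) L96735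
theorem L96741 : sm gg N11306 = N11306 := ded_30_2 (flp_c L96735) L66908 L96735
theorem L96742 : sm gi N11306 = N11306 := ded_33_2 (flp_c L96735) L66909 L96735
theorem L96743 : sm gd N11306 = N11306 := ded_27_2 (flp_c L96735) (flp_d L66902) L46348 L66902 L96735
theorem L96744 : sm ge N7790 = N11307 := rfl
theorem L96752 : sm gc N7791 = N11308 := rfl
theorem L96754 : sm ga N11308 = N8820 := ded_11_1 (flp_c L75390) (flp_a L66912) L96752
theorem L96756 : sm ge N11308 = N11308 := ded_28_2 (flp_c L96752) L66918 L96752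
theorem L96757 : sm gg N11308 = N11308 := ded_30_2 (flp_c L96752) L66914 L96752
theorem L96758 : sm gj N11308 = N7792 := ded_31_2 (flp_c L66919) (flp_j L66915) L96752
theorem L96760 : sm gi N11308 = N11308 := ded_33_2 (flp_c L96752) L66917 L96752
theorem L96761 : sm gd N11308 = N11308 := ded_27_2 (flp_c L96752) (flp_d L66910) L46358 L66910 L96752
theorem L96762 : sm gb N7792 = N11309 := rfl
theorem L96764 : sm gd N11309 = N11309 := ded_20_2 (flp_b L96762) L66927 L96762
theorem L96765 : sm ge N11309 = N11309 := ded_21_2 (flp_b L96762) L66923 L96762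
theorem L96766 : sm gg N11309 = N7793 := ded_23_2 (flp_b L66928) (flp_g L66924) L96762
theorem L96768 : sm gi N11309 = N11309 := ded_26_2 (flp_b L96762) L66926 L96762
theorem L96769 : sm ga N7793 = N11310 := rfl
theorem L96778 : sm gc N7794 = N11311 := rfl
theorem L96780 : sm ga N11311 = N11311 := ded_11_1 (flp_c L96778) L66937 L96778
theorem L96781 : sm gf N11311 = N11311 := ded_29_2 (flp_c L96778) L66940 L96778
theorem L96782 : sm gj N11311 = N11311 := ded_31_2 (flp_c L96778) L66941 L96778
theorem L96783 : sm gd N11311 = N8823 := ded_27_2 (flp_c L75412) (flp_d L52218) (flp_c L46387) L66935 L96778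
theorem L96785 : sm gg N7794 = N11312 := rfl
theorem L96787 : sm ga N11312 = N11312 := ded_15_1 (flp_g L96785) L66937 L96785
theorem L96788 : sm gb N11312 = N7797 := ded_23_1 (flp_g L66962) (flp_b L66938) L96785
theorem L96790 : sm gd N11312 = N7795 := ded_36_1 (flp_g L66942) L66935 L96785
theorem L96792 : sm gh N7794 = N11313 := rfl
theorem L96794 : sm ga N11313 = N11313 := ded_17_1 (flp_h L96792) L66937 L96792
theorem L96795 : sm gb N11313 = N7798 := ded_25_1 (flp_h L66968) (flp_b L66938) L96792
theorem L96797 : sm gf N11313 = N11313 := ded_47_1 (flp_h L96792) L66940 L96792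
theorem L96798 : sm gj N11313 = N11313 := ded_52_1 (flp_h L96792) L66941 L96792
theorem L96799 : sm gd N11313 = N11313 := ded_38_1 (flp_h L96792) (flp_d L66935) L46390 L66935 L96792
theorem L96800 : sm gf N7795 = N11314 := rfl
theorem L96802 : sm ga N11314 = N11314 := ded_14_1 (flp_f L96800) L66944 L96800
theorem L96803 : sm gb N11314 = N7799 := ded_22_1 (flp_f L66975) (flp_b L66945) L96800
theorem L96805 : sm gc N11314 = N8826 := ded_29_1 (flp_f L75435) (flp_c L66947) L96800
theorem L96807 : sm gh N11314 = N11314 := ded_47_2 (flp_f L96800) L66951 L96800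
theorem L96808 : sm ge N11314 = N11314 := ded_40_1 (flp_f L96800) L66949 L46400 (flp_e L66949) L96800
theorem L96809 : sm gg N11314 = N11314 := ded_45_2 (flp_f L96800) (flp_g L66942) L46391 L66942 L96800
theorem L96810 : sm gj N7795 = N11315 := rfl
theorem L96812 : sm ga N11315 = N11315 := ded_16_1 (flp_j L96810) L66944 L96810
theorem L96813 : sm gb N11315 = N7800 := ded_24_1 (flp_j L66984) (flp_b L66945) L96810
theorem L96815 : sm gc N11315 = N8827 := ded_31_1 (flp_j L75443) (flp_c L66947) L96810
theorem L96817 : sm ge N11315 = N7796 := ded_42_1 (flp_j L66952) (flp_e L66949) L96810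
theorem L96819 : sm gh N11315 = N11315 := ded_52_2 (flp_j L96810) L66951 L96810
theorem L96820 : sm gg N11315 = N11315 := ded_49_1 (flp_j L96810) (flp_g L66942) L46389 L66942 L96810
theorem L96821 : sm gf N7797 = N11316 := rfl
theorem L96823 : sm ga N11316 = N7802 := ded_14_1 (flp_f L67004) (flp_a L66964) L96821
theorem L96825 : sm gd N11316 = N7799 := ded_35_1 (flp_f L66975) (flp_d L66966) L96821
theorem L96827 : sm gg N11316 = N11316 := ded_45_2 (flp_f L96821) (flp_g L66962) L46405 L66962 L96821
theorem L96828 : sm gj N7797 = N11317 := rfl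
theorem L96830 : sm ga N11317 = N7803 := ded_16_1 (flp_j L67010) (flp_a L66964) L96828
theorem L96832 : sm gd N11317 = N7800 := ded_37_1 (flp_j L66984) (flp_d L66966) L96828
theorem L96834 : sm gg N11317 = N11317 := ded_49_1 (flp_j L96828) (flp_g L66962) L46406 L66962 L96828
theorem L96835 : sm gh N7797 = N11318 := rfl
theorem L96837 : sm ga N11318 = N7804 := ded_17_1 (flp_h L67016) (flp_a L66964) L96835
theorem L96839 : sm gg N11318 = N7798 := ded_50_1 (flp_h L66968) L66962 L96835
theorem L96841 : sm gd N11318 = N11318 := ded_38_1 (flp_h L96835) L66966 L46415 (flp_d L66966) L96835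
theorem L96842 : sm gi N7798 = N11319 := rfl
theorem L96844 : sm ga N11319 = N7805 := ded_18_1 (flp_i L67022) (flp_a L66970) L96842
theorem L96846 : sm gd N11319 = N11319 := ded_39_1 (flp_i L96842) L66974 L96842
theorem L96847 : sm gf N11319 = N11319 := ded_48_1 (flp_i L96842) L66972 L96842
theorem L96848 : sm gj N11319 = N11319 := ded_53_1 (flp_i L96842) L66973 L96842
theorem L96849 : sm gj N7799 = N11320 := rfl
theorem L96851 : sm ga N11320 = N7806 := ded_16_1 (flp_j L67028) (flp_a L66977) L96849
theorem L96853 : sm gc N11320 = N7801 := ded_31_1 (flp_j L66994) (flp_c L66979) L96849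
theorem L96855 : sm ge N11320 = N11320 := ded_42_1 (flp_j L96849) L66982 L96849
theorem L96856 : sm gf N11320 = N7800 := ded_46_1 (flp_j L66984) L66975 L96849
theorem L96858 : sm gh N11320 = N11320 := ded_52_2 (flp_j L96849) L66981 L96849
theorem L96869 : sm ge N7802 = N11322 := rfl
theorem L96871 : sm gb N11322 = N11322 := ded_21_1 (flp_e L96869) L67006 L96869
theorem L96872 : sm gg N11322 = N11322 := ded_41_2 (flp_e L96869) L67009 L96869
theorem L96873 : sm gd N11322 = N11322 := ded_34_1 (flp_e L96869) L67007 L46461 (flp_d L67007) L96869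
theorem L96874 : sm gj N7802 = N11323 := rfl
theorem L96876 : sm gb N11323 = N11323 := ded_24_1 (flp_j L96874) L67006 L96874
theorem L96877 : sm gd N11323 = N7806 := ded_37_1 (flp_j L67028) (flp_d L67007) L96874
theorem L96879 : sm gf N11323 = N7803 := ded_46_1 (flp_j L67010) L67004 L96874
theorem L96881 : sm gh N7802 = N11324 := rfl
theorem L96883 : sm gb N11324 = N11324 := ded_25_1 (flp_h L96881) L67006 L96881
theorem L96884 : sm gf N11324 = N7804 := ded_47_1 (flp_h L67016) L67004 L96881
theorem L96886 : sm gg N11324 = N11324 := ded_50_1 (flp_h L96881) L67009 L96881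
theorem L96887 : sm gd N11324 = N11324 := ded_38_1 (flp_h L96881) L67007 L46460 (flp_d L67007) L96881
theorem L96888 : sm gh N7803 = N11325 := rfl
theorem L96890 : sm gb N11325 = N11325 := ded_25_1 (flp_h L96888) L67012 L96888
theorem L96891 : sm gg N11325 = N11325 := ded_50_1 (flp_h L96888) L67015 L96888
theorem L96892 : sm gj N11325 = N7804 := ded_52_1 (flp_h L67016) L67010 L96888
theorem L96894 : sm gd N11325 = N11325 := ded_38_1 (flp_h L96888) L67013 L46470 (flp_d L67013) L96888
theorem L96895 : sm gi N7804 = N11326 := rfl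
theorem L96897 : sm gb N11326 = N11326 := ded_26_1 (flp_i L96895) L67018 L96895
theorem L96898 : sm gd N11326 = N11326 := ded_39_1 (flp_i L96895) L67021 L96895
theorem L96899 : sm gg N11326 = N7805 := ded_51_1 (flp_i L67022) (flp_g L67019) L96895
theorem L96910 : sm ge N7808 = N11328 := rfl
theorem L96913 : sm gb N11328 = N7810 := ded_21_1 (flp_e L67067) (flp_b L67048) L96910
theorem L96917 : sm gj N11328 = N7844 := ded_42_2 (flp_e L67391) (flp_j L67052) L96910
theorem L96920 : sm gf N11328 = N7917 := ded_40_2 (flp_e L67998) (flp_f L47191) (flp_e L46491) L67045 L96910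
theorem L96922 : sm gg N7808 = N11329 := rfl
theorem L96925 : sm gb N11329 = N7811 := ded_23_1 (flp_g L67078) (flp_b L67048) L96922
theorem L96931 : sm gh N7808 = N11330 := rfl
theorem L96938 : sm gf N11330 = N7809 := ded_47_1 (flp_h L67055) L67045 L96931
theorem L96940 : sm gj N11330 = N7846 := ded_52_1 (flp_h L67411) (flp_j L67052) L96931
theorem L96942 : sm gd N7809 = N11331 := rfl
theorem L96963 : sm gd N7810 = N11333 := rfl
theorem L96965 : sm ga N11333 = N7820 := ded_12_1 (flp_d L67169) (flp_a L67069) L96963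
theorem L96967 : sm gf N11333 = N7922 := ded_35_2 (flp_d L68050) (flp_f L67076) L96963
theorem L96969 : sm gj N11333 = N7849 := ded_37_2 (flp_d L67439) (flp_j L67073) L96963
theorem L96971 : sm gi N11333 = N11333 := ded_39_2 (flp_d L96963) L67075 L96963
theorem L96972 : sm gc N11333 = N11333 := ded_27_1 (flp_d L96963) L67071 L46529 (flp_c L67071) L96963
theorem L96973 : sm gg N7810 = N11334 := rfl
theorem L96975 : sm ga N11334 = N7821 := ded_15_1 (flp_g L67178) (flp_a L67069) L96973
theorem L96977 : sm gc N11334 = N7815 := ded_30_1 (flp_g L67115) (flp_c L67071) L96973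
theorem L96979 : sm ge N11334 = N7811 := ded_41_1 (flp_g L67078) L67067 L96973
theorem L96981 : sm gi N11334 = N11334 := ded_51_2 (flp_g L96973) L67075 L96973
theorem L96982 : sm gh N7810 = N11335 := rfl
theorem L96984 : sm ga N11335 = N7822 := ded_17_1 (flp_h L67186) (flp_a L67069) L96982
theorem L96988 : sm ge N11335 = N7812 := ded_43_1 (flp_h L67086) L67067 L96982
theorem L96990 : sm gf N11335 = N7924 := ded_47_1 (flp_h L68069) (flp_f L67076) L96982
theorem L96994 : sm gj N7811 = N11336 := rfl
theorem L96996 : sm ga N11336 = N7823 := ded_16_1 (flp_j L67197) (flp_a L67080) L96994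
theorem L96998 : sm gc N11336 = N7817 := ded_31_1 (flp_j L67137) (flp_c L67082) L96994
theorem L97000 : sm gf N11336 = N11336 := ded_46_1 (flp_j L96994) L67085 L96994
theorem L97001 : sm gi N11336 = N11336 := ded_53_2 (flp_j L96994) L67084 L96994
theorem L97002 : sm gg N11336 = N7852 := ded_49_1 (flp_j L67467) (flp_g L46760) (flp_j L46506) L67078 L96994
theorem L97004 : sm gh N7811 = N11337 := rfl
theorem L97006 : sm ga N11337 = N7824 := ded_17_1 (flp_h L67206) (flp_a L67080) L97004
theorem L97011 : sm gg N11337 = N7812 := ded_50_1 (flp_h L67086) L67078 L97004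
theorem L97013 : sm gd N7812 = N11338 := rfl
theorem L97015 : sm ga N11338 = N7825 := ded_12_1 (flp_d L67214) (flp_a L67088) L97013
theorem L97017 : sm gf N11338 = N7813 := ded_35_2 (flp_d L67096) (flp_f L67092) L97013
theorem L97019 : sm gj N11338 = N7854 := ded_37_2 (flp_d L67486) (flp_j L67094) L97013
theorem L97032 : sm ge N7813 = N11340 := rfl
theorem L97034 : sm ga N11340 = N7827 := ded_13_1 (flp_e L67231) (flp_a L67098) L97032
theorem L97037 : sm gj N11340 = N7856 := ded_42_2 (flp_e L67501) (flp_j L67101) L97032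
theorem L97041 : sm gi N7813 = N11341 := rfl
theorem L97043 : sm ga N11341 = N7828 := ded_18_1 (flp_i L67239) (flp_a L67098) L97041
theorem L97048 : sm gj N11341 = N7857 := ded_53_1 (flp_i L67509) (flp_j L67101) L97041
theorem L97050 : sm gf N7815 = N11342 := rfl
theorem L97052 : sm ga N11342 = N7829 := ded_14_1 (flp_f L67247) (flp_a L67117) L97050
theorem L97054 : sm gb N11342 = N8854 := ded_22_1 (flp_f L75683) (flp_b L67119) L97050
theorem L97059 : sm gg N11342 = N7930 := ded_45_2 (flp_f L68129) (flp_g L47260) (flp_f L46530) L67115 L97050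
theorem L97061 : sm gj N7815 = N11343 := rfl
theorem L97065 : sm gb N11343 = N8855 := ded_24_1 (flp_j L75692) (flp_b L67119) L97061
theorem L97068 : sm ge N11343 = N7817 := ded_42_1 (flp_j L67137) (flp_e L67122) L97061
theorem L97071 : sm gg N11343 = N7858 := ded_49_1 (flp_j L67517) (flp_g L46794) (flp_j L46526) L67115 L97061
theorem L97073 : sm gh N7815 = N11344 := rfl
theorem L97075 : sm ga N11344 = N7831 := ded_17_1 (flp_h L67266) (flp_a L67117) L97073
theorem L97083 : sm gd N7816 = N11345 := rfl
theorem L97085 : sm ga N11345 = N7832 := ded_12_1 (flp_d L67274) (flp_a L67127) L97083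
theorem L97091 : sm gj N11345 = N7860 := ded_37_2 (flp_d L67539) (flp_j L67135) L97083
theorem L97107 : sm gh N7817 = N11347 := rfl
theorem L97128 : sm gg N7820 = N11349 := rfl
theorem L97130 : sm gb N11349 = N11349 := ded_23_1 (flp_g L97128) L67171 L97128
theorem L97131 : sm gc N11349 = N11349 := ded_30_1 (flp_g L97128) L67177 L97128
theorem L97132 : sm gd N11349 = N7821 := ded_36_1 (flp_g L67178) L67169 L97128
theorem L97134 : sm gi N11349 = N11349 := ded_51_2 (flp_g L97128) L67176 L97128
theorem L97135 : sm gh N7820 = N11350 := rfl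
theorem L97137 : sm gb N11350 = N11350 := ded_25_1 (flp_h L97135) L67171 L97135
theorem L97138 : sm gc N11350 = N11350 := ded_32_1 (flp_h L97135) L67177 L97135
theorem L97139 : sm gf N11350 = N7936 := ded_47_1 (flp_h L68192) (flp_f L67172) L97135
theorem L97141 : sm gj N11350 = N7865 := ded_52_1 (flp_h L67588) (flp_j L67174) L97135
theorem L97143 : sm gf N7821 = N11351 := rfl
theorem L97150 : sm gg N11351 = N7937 := ded_45_2 (flp_f L68199) (flp_g L47312) (flp_f L46583) L67178 L97143
theorem L97152 : sm gj N7821 = N11352 := rfl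
theorem L97155 : sm gc N11352 = N7830 := ded_31_1 (flp_j L67256) (flp_c L67181) L97152
theorem L97157 : sm ge N11352 = N7823 := ded_42_1 (flp_j L67197) (flp_e L67183) L97152
theorem L97160 : sm gg N11352 = N7866 := ded_49_1 (flp_j L67594) (flp_g L46852) (flp_j L46580) L67178 L97152
theorem L97162 : sm gh N7821 = N11353 := rfl
theorem L97165 : sm gc N11353 = N7831 := ded_32_1 (flp_h L67266) (flp_c L67181) L97162
theorem L97167 : sm ge N11353 = N7824 := ded_43_1 (flp_h L67206) (flp_e L67183) L97162
theorem L97169 : sm gg N11353 = N7822 := ded_50_1 (flp_h L67186) L67178 L97162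
theorem L97171 : sm gd N7822 = N11354 := rfl
theorem L97173 : sm gb N11354 = N11354 := ded_20_1 (flp_d L97171) L67188 L97171
theorem L97174 : sm gf N11354 = N7939 := ded_35_2 (flp_d L68217) (flp_f L67193) L97171
theorem L97176 : sm gj N11354 = N7868 := ded_37_2 (flp_d L67613) (flp_j L67195) L97171
theorem L97178 : sm gi N7822 = N11355 := rfl
theorem L97185 : sm gf N11355 = N7940 := ded_48_1 (flp_i L68222) (flp_f L67193) L97178
theorem L97190 : sm gh N7823 = N11356 := rfl
theorem L97193 : sm gc N11356 = N7834 := ded_32_1 (flp_h L67294) (flp_c L67200) L97190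
theorem L97196 : sm gg N11356 = N7870 := ded_50_1 (flp_h L67628) (flp_g L67204) L97190
theorem L97198 : sm gj N11356 = N7824 := ded_52_1 (flp_h L67206) L67197 L97190
theorem L97200 : sm gd N7824 = N11357 := rfl
theorem L97202 : sm gb N11357 = N11357 := ded_20_1 (flp_d L97200) L67208 L97200
theorem L97203 : sm gf N11357 = N11357 := ded_35_2 (flp_d L97200) L67211 L97200
theorem L97204 : sm gg N11357 = N7825 := ded_36_2 (flp_d L67214) (flp_g L67212) L97200
theorem L97206 : sm gi N7824 = N11358 := rfl
theorem L97209 : sm gc N11358 = N7835 := ded_33_1 (flp_i L67303) (flp_c L67209) L97206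
theorem L97215 : sm ge N7825 = N11359 := rfl
theorem L97217 : sm gb N11359 = N11359 := ded_21_1 (flp_e L97215) L67216 L97215
theorem L97218 : sm gj N11359 = N7873 := ded_42_2 (flp_e L67654) (flp_j L67219) L97215
theorem L97229 : sm gf N7827 = N11361 := rfl
theorem L97231 : sm gb N11361 = N11361 := ded_22_1 (flp_f L97229) L67233 L97229
theorem L97232 : sm gd N11361 = N7945 := ded_35_1 (flp_f L68268) (flp_d L67237) L97229
theorem L97234 : sm gj N11361 = N7875 := ded_46_2 (flp_f L67664) (flp_j L67235) L97229
theorem L97236 : sm gi N7827 = N11362 := rfl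
theorem L97239 : sm gd N11362 = N7946 := ded_39_1 (flp_i L68275) (flp_d L67237) L97236
theorem L97244 : sm gj N11362 = N7876 := ded_53_1 (flp_i L67669) (flp_j L67235) L97236
theorem L97263 : sm gh N7829 = N11365 := rfl
theorem L97265 : sm gb N11365 = N7837 := ded_25_1 (flp_h L67322) (flp_b L67249) L97263
theorem L97268 : sm gf N11365 = N7831 := ded_47_1 (flp_h L67266) L67247 L97263
theorem L97270 : sm gg N11365 = N7948 := ded_50_1 (flp_h L68293) (flp_g L67254) L97263
theorem L97272 : sm gh N7830 = N11366 := rfl
theorem L97276 : sm ge N11366 = N7834 := ded_43_1 (flp_h L67294) (flp_e L67261) L97272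
theorem L97278 : sm gg N11366 = N7878 := ded_50_1 (flp_h L67684) (flp_g L67264) L97272
theorem L97280 : sm gj N11366 = N7831 := ded_52_1 (flp_h L67266) L67256 L97272
theorem L97282 : sm gd N7831 = N11367 := rfl
theorem L97284 : sm gb N11367 = N7839 := ded_20_1 (flp_d L67343) (flp_b L67268) L97282
theorem L97286 : sm gg N11367 = N7832 := ded_36_2 (flp_d L67274) (flp_g L67272) L97282
theorem L97298 : sm gc N7832 = N11369 := rfl
theorem L97300 : sm gf N11369 = N7951 := ded_29_2 (flp_c L68320) (flp_f L67278) L97298
theorem L97302 : sm gj N11369 = N7881 := ded_31_2 (flp_c L67711) (flp_j L67280) L97298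
theorem L97325 : sm gh N7836 = N11372 := rfl
theorem L97327 : sm ga N11372 = N8884 := ded_17_1 (flp_h L75950) (flp_a L67313) L97325
theorem L97331 : sm gf N11372 = N7838 := ded_47_1 (flp_h L67332) (flp_f L67318) L97325
theorem L97334 : sm gj N11372 = N7837 := ded_52_1 (flp_h L67322) L67311 L97325
theorem L97336 : sm gd N7837 = N11373 := rfl
theorem L97340 : sm gf N11373 = N7839 := ded_35_2 (flp_d L67343) (flp_f L67328) L97336
theorem L97342 : sm gg N11373 = N7953 := ded_36_2 (flp_d L68335) (flp_g L67330) L97336
theorem L97356 : sm gd N7838 = N11375 := rfl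
theorem L97362 : sm gj N11375 = N7839 := ded_37_2 (flp_d L67343) (flp_j L67341) L97356
theorem L97377 : sm gc N7839 = N11377 := rfl
theorem L97381 : sm gg N11377 = N7841 := ded_30_2 (flp_c L67360) (flp_g L67347) L97377
theorem L97385 : sm gi N7839 = N11378 := rfl
theorem L97389 : sm gd N11378 = N7840 := ded_39_1 (flp_i L67350) L67343 L97385
theorem L97391 : sm gg N11378 = N7842 := ded_51_1 (flp_i L67370) (flp_g L67347) L97385
theorem L97393 : sm gb N7841 = N11379 := rfl
theorem L97396 : sm gf N11379 = N7957 := ded_22_2 (flp_b L68373) (flp_f L67364) L97393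
theorem L97398 : sm gj N11379 = N7888 := ded_24_2 (flp_b L67770) (flp_j L67366) L97393
theorem L97401 : sm gi N7841 = N11380 := rfl
theorem L97410 : sm gj N11380 = N7889 := ded_53_1 (flp_i L67776) (flp_j L67366) L97401
theorem L97412 : sm gh N7842 = N11381 := rfl
theorem L97416 : sm gf N11381 = N7959 := ded_47_1 (flp_h L68390) (flp_f L67376) L97412
theorem L97418 : sm gj N11381 = N7890 := ded_52_1 (flp_h L67785) (flp_j L67378) L97412
theorem L97422 : sm gd N7844 = N11382 := rfl
theorem L97425 : sm gb N11382 = N7849 := ded_20_1 (flp_d L67439) (flp_b L67394) L97422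
theorem L97427 : sm gf N11382 = N7960 := ded_35_2 (flp_d L68399) (flp_f L67399) L97422
theorem L97430 : sm gg N7844 = N11383 := rfl
theorem L97433 : sm gb N11383 = N7850 := ded_23_1 (flp_g L67447) (flp_b L67394) L97430
theorem L97435 : sm gc N11383 = N8895 := ded_30_1 (flp_g L76038) (flp_c L67396) L97430
theorem L97437 : sm ge N11383 = N7845 := ded_41_1 (flp_g L67401) L67391 L97430
theorem L97441 : sm gh N7844 = N11384 := rfl
theorem L97452 : sm gj N7845 = N11385 := rfl
theorem L97455 : sm gb N11385 = N7852 := ded_24_1 (flp_j L67467) (flp_b L67404) L97452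
theorem L97459 : sm gf N11385 = N7891 := ded_46_1 (flp_j L67793) (flp_f L67409) L97452
theorem L97462 : sm gh N7845 = N11386 := rfl
theorem L97465 : sm gb N11386 = N7853 := ded_25_1 (flp_h L67476) (flp_b L67404) L97462
theorem L97471 : sm gg N11386 = N7846 := ded_50_1 (flp_h L67411) L67401 L97462
theorem L97473 : sm gd N7846 = N11387 := rfl
theorem L97490 : sm gc N7847 = N11389 := rfl
theorem L97493 : sm gg N11389 = N7895 := ded_30_2 (flp_c L67833) (flp_g L67425) L97490
theorem L97497 : sm ge N7847 = N11390 := rfl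
theorem L97502 : sm gg N11390 = N7896 := ded_41_2 (flp_e L67839) (flp_g L67425) L97497
theorem L97515 : sm gg N7849 = N11392 := rfl
theorem L97517 : sm ga N11392 = N7864 := ded_15_1 (flp_g L67580) (flp_a L67441) L97515
theorem L97519 : sm gc N11392 = N11392 := ded_30_1 (flp_g L97515) L67446 L97515
theorem L97520 : sm gd N11392 = N7850 := ded_36_1 (flp_g L67447) L67439 L97515
theorem L97522 : sm gi N11392 = N11392 := ded_51_2 (flp_g L97515) L67445 L97515
theorem L97523 : sm gf N11392 = N11392 := ded_45_1 (flp_g L97515) L67443 L47507 (flp_f L67443) L97515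
theorem L97524 : sm gh N7849 = N11393 := rfl
theorem L97526 : sm ga N11393 = N7865 := ded_17_1 (flp_h L67588) (flp_a L67441) L97524
theorem L97528 : sm gc N11393 = N11393 := ded_32_1 (flp_h L97524) L67446 L97524
theorem L97529 : sm gf N11393 = N7967 := ded_47_1 (flp_h L68463) (flp_f L67443) L97524
theorem L97531 : sm gj N7850 = N11394 := rfl
theorem L97533 : sm ga N11394 = N7866 := ded_16_1 (flp_j L67594) (flp_a L67449) L97531
theorem L97535 : sm gc N11394 = N7858 := ded_31_1 (flp_j L67517) (flp_c L67451) L97531
theorem L97537 : sm ge N11394 = N7852 := ded_42_1 (flp_j L67467) (flp_e L67453) L97531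
theorem L97539 : sm gf N11394 = N11394 := ded_46_1 (flp_j L97531) L67456 L97531
theorem L97540 : sm gi N11394 = N11394 := ded_53_2 (flp_j L97531) L67455 L97531
theorem L97541 : sm gh N7850 = N11395 := rfl
theorem L97543 : sm ga N11395 = N7867 := ded_17_1 (flp_h L67603) (flp_a L67449) L97541
theorem L97545 : sm gc N11395 = N7859 := ded_32_1 (flp_h L67528) (flp_c L67451) L97541
theorem L97547 : sm ge N11395 = N7853 := ded_43_1 (flp_h L67476) (flp_e L67453) L97541
theorem L97550 : sm gg N11395 = N7851 := ded_50_1 (flp_h L67457) L67447 L97541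
theorem L97552 : sm gd N7851 = N11396 := rfl
theorem L97554 : sm ga N11396 = N7868 := ded_12_1 (flp_d L67613) (flp_a L67459) L97552
theorem L97556 : sm gf N11396 = N7968 := ded_35_2 (flp_d L68470) (flp_f L67465) L97552
theorem L97569 : sm gh N7852 = N11398 := rfl
theorem L97571 : sm ga N11398 = N7870 := ded_17_1 (flp_h L67628) (flp_a L67469) L97569
theorem L97573 : sm gc N11398 = N7862 := ded_32_1 (flp_h L67559) (flp_c L67471) L97569
theorem L97575 : sm gf N11398 = N7898 := ded_47_1 (flp_h L67855) (flp_f L67473) L97569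
theorem L97579 : sm gd N7853 = N11399 := rfl
theorem L97581 : sm ga N11399 = N7871 := ded_12_1 (flp_d L67637) (flp_a L67478) L97579
theorem L97585 : sm gg N11399 = N7854 := ded_36_2 (flp_d L67486) (flp_g L67484) L97579
theorem L97598 : sm ge N7854 = N11401 := rfl
theorem L97600 : sm ga N11401 = N7873 := ded_13_1 (flp_e L67654) (flp_a L67488) L97598
theorem L97610 : sm gf N7856 = N11403 := rfl
theorem L97612 : sm ga N11403 = N7875 := ded_14_1 (flp_f L67664) (flp_a L67503) L97610
theorem L97614 : sm gd N11403 = N7972 := ded_35_1 (flp_f L68502) (flp_d L67507) L97610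
theorem L97616 : sm gi N7856 = N11404 := rfl
theorem L97620 : sm gd N11404 = N7973 := ded_39_1 (flp_i L68508) (flp_d L67507) L97616
theorem L97626 : sm gh N7857 = N11405 := rfl
theorem L97633 : sm gh N7858 = N11406 := rfl
theorem L97635 : sm ga N11406 = N7878 := ded_17_1 (flp_h L67684) (flp_a L67519) L97633
theorem L97642 : sm gj N11406 = N7859 := ded_52_1 (flp_h L67528) L67517 L97633
theorem L97644 : sm gd N7859 = N11407 := rfl
theorem L97651 : sm gg N11407 = N7860 := ded_36_2 (flp_d L67539) (flp_g L67537) L97644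
theorem L97666 : sm gc N7860 = N11409 := rfl
theorem L97668 : sm ga N11409 = N7881 := ded_11_1 (flp_c L67711) (flp_a L67541) L97666
theorem L97673 : sm gi N7860 = N11410 := rfl
theorem L97694 : sm gj N7864 = N11412 := rfl
theorem L97696 : sm gb N11412 = N11412 := ded_24_1 (flp_j L97694) L67582 L97694
theorem L97697 : sm gc N11412 = N11412 := ded_31_1 (flp_j L97694) L67583 L97694
theorem L97698 : sm gd N11412 = N7866 := ded_37_1 (flp_j L67594) (flp_d L67584) L97694
theorem L97700 : sm gf N11412 = N11412 := ded_46_1 (flp_j L97694) L67587 L97694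
theorem L97701 : sm gi N11412 = N11412 := ded_53_2 (flp_j L97694) L67586 L97694
theorem L97702 : sm gh N7864 = N11413 := rfl
theorem L97704 : sm gb N11413 = N11413 := ded_25_1 (flp_h L97702) L67582 L97702
theorem L97705 : sm gc N11413 = N11413 := ded_32_1 (flp_h L97702) L67583 L97702
theorem L97706 : sm gf N11413 = N11413 := ded_47_1 (flp_h L97702) L67587 L97702
theorem L97707 : sm gg N11413 = N7865 := ded_50_1 (flp_h L67588) L67580 L97702
theorem L97709 : sm gd N7865 = N11414 := rfl
theorem L97711 : sm gb N11414 = N11414 := ded_20_1 (flp_d L97709) L67590 L97709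
theorem L97712 : sm gf N11414 = N7977 := ded_35_2 (flp_d L68543) (flp_f L67592) L97709
theorem L97714 : sm gh N11414 = N7868 := ded_38_2 (flp_d L67613) (flp_h L46861) L46845 L67588 L97709
theorem L97716 : sm gi N7865 = N11415 := rfl
theorem L97718 : sm gb N11415 = N11415 := ded_26_1 (flp_i L97716) L67590 L97716
theorem L97719 : sm gc N11415 = N11415 := ded_33_1 (flp_i L97716) L67591 L97716
theorem L97720 : sm gf N11415 = N7978 := ded_48_1 (flp_i L68549) (flp_f L67592) L97716
theorem L97722 : sm gh N11415 = N11415 := ded_54_1 (flp_i L97716) (flp_h L67588) L46850 L67588 L97716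
theorem L97723 : sm gh N7866 = N11416 := rfl
theorem L97726 : sm gc N11416 = N7878 := ded_32_1 (flp_h L67684) (flp_c L67597) L97723
theorem L97728 : sm ge N11416 = N7870 := ded_43_1 (flp_h L67628) (flp_e L67599) L97723
theorem L97731 : sm gj N11416 = N7867 := ded_52_1 (flp_h L67603) L67594 L97723
theorem L97733 : sm gd N7867 = N11417 := rfl
theorem L97735 : sm gb N11417 = N11417 := ded_20_1 (flp_d L97733) L67605 L97733
theorem L97736 : sm gf N11417 = N11417 := ded_35_2 (flp_d L97733) L67610 L97733
theorem L97737 : sm gg N11417 = N7868 := ded_36_2 (flp_d L67613) (flp_g L67611) L97733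
theorem L97739 : sm gi N7867 = N11418 := rfl
theorem L97742 : sm gc N11418 = N7880 := ded_33_1 (flp_i L67701) (flp_c L67606) L97739
theorem L97750 : sm gc N7868 = N11419 := rfl
theorem L97752 : sm gf N11419 = N7979 := ded_29_2 (flp_c L68556) (flp_f L67616) L97750
theorem L97754 : sm gd N11419 = N7881 := ded_27_2 (flp_c L67711) (flp_d L46932) (flp_c L46864) L67613 L97750
theorem L97756 : sm ge N7868 = N11420 := rfl
theorem L97758 : sm gb N11420 = N11420 := ded_21_1 (flp_e L97756) L67615 L97756
theorem L97759 : sm gd N11420 = N7873 := ded_34_1 (flp_e L67654) (flp_d L46887) (flp_e L46866) L67613 L97756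
theorem L97761 : sm gi N7868 = N11421 := rfl
theorem L97768 : sm gd N7870 = N11422 := rfl
theorem L97770 : sm gb N11422 = N11422 := ded_20_1 (flp_d L97768) L67630 L97768
theorem L97771 : sm gf N11422 = N7907 := ded_35_2 (flp_d L67929) (flp_f L67633) L97768
theorem L97773 : sm gj N11422 = N7871 := ded_37_2 (flp_d L67637) (flp_j L67635) L97768
theorem L97775 : sm gi N7870 = N11423 := rfl
theorem L97780 : sm gf N11423 = N7908 := ded_48_1 (flp_i L67935) (flp_f L67633) L97775
theorem L97782 : sm gj N11423 = N7872 := ded_53_1 (flp_i L67644) (flp_j L67635) L97775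
theorem L97785 : sm ge N7871 = N11424 := rfl
theorem L97787 : sm gb N11424 = N11424 := ded_21_1 (flp_e L97785) L67639 L97785
theorem L97788 : sm gg N11424 = N7873 := ded_41_2 (flp_e L67654) (flp_g L67642) L97785
theorem L97790 : sm gi N7871 = N11425 := rfl
theorem L97793 : sm gd N11425 = N7872 := ded_39_1 (flp_i L67644) L67637 L97790
theorem L97795 : sm gf N11425 = N7910 := ded_48_1 (flp_i L67951) (flp_f L67640) L97790
theorem L97797 : sm gg N11425 = N7874 := ded_51_1 (flp_i L67657) (flp_g L67642) L97790
theorem L97799 : sm gf N7873 = N11426 := rfl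
theorem L97801 : sm gb N11426 = N11426 := ded_22_1 (flp_f L97799) L67656 L97799
theorem L97802 : sm ge N11426 = N7875 := ded_40_1 (flp_f L67664) (flp_e L46900) (flp_f L46890) L67654 L97799
theorem L97804 : sm gi N7873 = N11427 := rfl
theorem L97809 : sm gh N7874 = N11428 := rfl
theorem L97815 : sm gg N7875 = N11429 := rfl
theorem L97817 : sm gb N11429 = N11429 := ded_23_1 (flp_g L97815) L67666 L97815
theorem L97818 : sm gd N11429 = N7985 := ded_36_1 (flp_g L68596) (flp_d L67667) L97815
theorem L97820 : sm gf N11429 = N7914 := ded_45_1 (flp_g L67979) (flp_f L47163) (flp_g L46903) L67664 L97815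
theorem L97822 : sm gi N7875 = N11430 := rfl
theorem L97825 : sm gd N11430 = N7986 := ded_39_1 (flp_i L68603) (flp_d L67667) L97822
theorem L97827 : sm gf N11430 = N7876 := ded_48_1 (flp_i L67669) L67664 L97822
theorem L97829 : sm gh N7876 = N11431 := rfl
theorem L97834 : sm gg N11431 = N7916 := ded_50_1 (flp_h L67992) (flp_g L67676) L97829
theorem L97836 : sm gd N7878 = N11432 := rfl
theorem L97841 : sm gj N11432 = N7879 := ded_37_2 (flp_d L67693) (flp_j L67691) L97836
theorem L97844 : sm gi N7878 = N11433 := rfl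
theorem L97851 : sm gj N11433 = N7880 := ded_53_1 (flp_i L67701) (flp_j L67691) L97844
theorem L97854 : sm gc N7879 = N11434 := rfl
theorem L97857 : sm gg N11434 = N7881 := ded_30_2 (flp_c L67711) (flp_g L67698) L97854
theorem L97869 : sm gb N7881 = N11436 := rfl
theorem L97876 : sm gi N7881 = N11437 := rfl
theorem L97880 : sm gf N11437 = N7989 := ded_48_1 (flp_i L68625) (flp_f L67713) L97876
theorem L97890 : sm gc N7884 = N11439 := rfl
theorem L97892 : sm ga N11439 = N8951 := ded_11_1 (flp_c L76495) (flp_a L67735) L97890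
theorem L97895 : sm gj N11439 = N7886 := ded_31_2 (flp_c L67752) (flp_j L67738) L97890
theorem L97899 : sm gi N7884 = N11440 := rfl
theorem L97903 : sm gd N11440 = N7885 := ded_39_1 (flp_i L67741) L67733 L97899
theorem L97906 : sm gj N11440 = N7887 := ded_53_1 (flp_i L67761) (flp_j L67738) L97899
theorem L97908 : sm gb N7886 = N11441 := rfl
theorem L97912 : sm gg N11441 = N7888 := ded_23_2 (flp_b L67770) (flp_g L67757) L97908
theorem L97915 : sm gi N7886 = N11442 := rfl
theorem L97923 : sm gg N11442 = N7889 := ded_51_1 (flp_i L67776) (flp_g L67757) L97915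
theorem L97925 : sm gh N7887 = N11443 := rfl
theorem L97930 : sm gg N11443 = N7890 := ded_50_1 (flp_h L67785) (flp_g L67768) L97925
theorem L97942 : sm gi N7888 = N11445 := rfl
theorem L97944 : sm gb N11445 = N7889 := ded_26_1 (flp_i L67776) L67770 L97942
theorem L97947 : sm gf N11445 = N7992 := ded_48_1 (flp_i L68647) (flp_f L67773) L97942
theorem L97949 : sm gh N7889 = N11446 := rfl
theorem L97951 : sm ga N11446 = N8958 := ded_17_1 (flp_h L76544) (flp_a L67778) L97949
theorem L97953 : sm gc N11446 = N7890 := ded_32_1 (flp_h L67785) (flp_c L67780) L97949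
theorem L97955 : sm gf N11446 = N7993 := ded_47_1 (flp_h L68654) (flp_f L67783) L97949
theorem L97958 : sm gh N7891 = N11447 := rfl
theorem L97967 : sm gj N11447 = N7892 := ded_52_1 (flp_h L67803) L67793 L97958
theorem L97969 : sm gd N7892 = N11448 := rfl
theorem L97974 : sm gg N11448 = N7893 := ded_36_2 (flp_d L67813) (flp_g L67811) L97969
theorem L97987 : sm gc N7893 = N11450 := rfl
theorem L97990 : sm gf N11450 = N7895 := ded_29_2 (flp_c L67833) (flp_f L67818) L97987
theorem L97995 : sm ge N7893 = N11451 := rfl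
theorem L97998 : sm gb N11451 = N7901 := ded_21_1 (flp_e L67881) (flp_b L67816) L97995
theorem L98018 : sm gi N7895 = N11454 := rfl
theorem L98026 : sm gf N7896 = N11455 := rfl
theorem L98034 : sm gi N7896 = N11456 := rfl
theorem L98051 : sm gd N7898 = N11458 := rfl
theorem L98053 : sm ga N11458 = N7907 := ded_12_1 (flp_d L67929) (flp_a L67857) L98051
theorem L98056 : sm gj N11458 = N7899 := ded_37_2 (flp_d L67865) (flp_j L67863) L98051
theorem L98069 : sm ge N7899 = N11460 := rfl
theorem L98071 : sm ga N11460 = N7909 := ded_13_1 (flp_e L67945) (flp_a L67867) L98069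
theorem L98084 : sm gf N7901 = N11462 := rfl
theorem L98086 : sm ga N11462 = N7911 := ded_14_1 (flp_f L67958) (flp_a L67883) L98084
theorem L98090 : sm ge N11462 = N7903 := ded_40_1 (flp_f L67896) (flp_e L47093) (flp_f L47079) L67881 L98084
theorem L98100 : sm gh N7902 = N11464 := rfl
theorem L98108 : sm gg N7903 = N11465 := rfl
theorem L98110 : sm ga N11465 = N7914 := ded_15_1 (flp_g L67979) (flp_a L67898) L98108
theorem L98112 : sm gd N11465 = N7999 := ded_36_1 (flp_g L68706) (flp_d L67900) L98108
theorem L98114 : sm gi N7903 = N11466 := rfl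
theorem L98116 : sm ga N11466 = N7915 := ded_18_1 (flp_i L67984) (flp_a L67898) L98114
theorem L98118 : sm gd N11466 = N8000 := ded_39_1 (flp_i L68713) (flp_d L67900) L98114
theorem L98130 : sm ge N7907 = N11468 := rfl
theorem L98132 : sm gb N11468 = N11468 := ded_21_1 (flp_e L98130) L67931 L98130
theorem L98133 : sm gg N11468 = N11468 := ded_41_2 (flp_e L98130) L67932 L98130
theorem L98134 : sm gj N11468 = N7909 := ded_42_2 (flp_e L67945) (flp_j L67933) L98130
theorem L98136 : sm gd N11468 = N11468 := ded_34_1 (flp_e L98130) (flp_d L67929) L47132 L67929 L98130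
theorem L98137 : sm gi N7907 = N11469 := rfl
theorem L98140 : sm gd N11469 = N7908 := ded_39_1 (flp_i L67935) L67929 L98137
theorem L98145 : sm gf N7909 = N11470 := rfl
theorem L98147 : sm gb N11470 = N11470 := ded_22_1 (flp_f L98145) L67947 L98145
theorem L98148 : sm gd N11470 = N11470 := ded_35_1 (flp_f L98145) L67950 L98145
theorem L98149 : sm gi N7909 = N11471 := rfl
theorem L98157 : sm gh N7910 = N11472 := rfl
theorem L98163 : sm gg N7911 = N11473 := rfl
theorem L98165 : sm gb N11473 = N11473 := ded_23_1 (flp_g L98163) L67960 L98163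
theorem L98166 : sm gd N11473 = N11473 := ded_36_1 (flp_g L98163) L67961 L98163
theorem L98167 : sm ge N11473 = N7914 := ded_41_1 (flp_g L67979) (flp_e L67963) L98163
theorem L98169 : sm gi N7911 = N11474 := rfl
theorem L98173 : sm ge N11474 = N7915 := ded_44_1 (flp_i L67984) (flp_e L67963) L98169
theorem L98175 : sm gf N11474 = N7912 := ded_48_1 (flp_i L67965) L67958 L98169
theorem L98178 : sm gh N7912 = N11475 := rfl
theorem L98184 : sm gj N7914 = N11476 := rfl
theorem L98186 : sm gb N11476 = N11476 := ded_24_1 (flp_j L98184) L67981 L98184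
theorem L98187 : sm gd N11476 = N8002 := ded_37_1 (flp_j L68731) (flp_d L67982) L98184
theorem L98189 : sm gg N11476 = N11476 := ded_49_1 (flp_j L98184) (flp_g L67979) L47168 L67979 L98184
theorem L98190 : sm gi N7914 = N11477 := rfl
theorem L98193 : sm gd N11477 = N8003 := ded_39_1 (flp_i L68738) (flp_d L67982) L98190
theorem L98195 : sm gg N11477 = N7915 := ded_51_1 (flp_i L67984) L67979 L98190
theorem L98197 : sm gh N7915 = N11478 := rfl
theorem L98203 : sm gd N7916 = N11479 := rfl
theorem L98210 : sm gd N7917 = N11480 := rfl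
theorem L98213 : sm gb N11480 = N7922 := ded_20_1 (flp_d L68050) (flp_b L68001) L98210
theorem L98215 : sm gj N11480 = N7960 := ded_37_2 (flp_d L68399) (flp_j L68005) L98210
theorem L98219 : sm gg N7917 = N11481 := rfl
theorem L98226 : sm ge N11481 = N7918 := ded_41_1 (flp_g L68008) L67998 L98219
theorem L98230 : sm gh N7917 = N11482 := rfl
theorem L98233 : sm gb N11482 = N7924 := ded_25_1 (flp_h L68069) (flp_b L68001) L98230
theorem L98237 : sm ge N11482 = N7919 := ded_43_1 (flp_h L68019) L67998 L98230
theorem L98239 : sm gj N11482 = N7961 := ded_52_1 (flp_h L68407) (flp_j L68005) L98230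
theorem L98241 : sm gh N7918 = N11483 := rfl
theorem L98252 : sm gd N7919 = N11484 := rfl
theorem L98255 : sm gb N11484 = N7926 := ded_20_1 (flp_d L68089) (flp_b L68022) L98252
theorem L98257 : sm gf N11484 = N7920 := ded_35_2 (flp_d L68030) (flp_f L68026) L98252
theorem L98259 : sm gj N11484 = N7962 := ded_37_2 (flp_d L68417) (flp_j L68028) L98252
theorem L98274 : sm gc N7920 = N11486 := rfl
theorem L98278 : sm gj N11486 = N7964 := ded_31_2 (flp_c L68437) (flp_j L68036) L98274
theorem L98284 : sm ge N7920 = N11487 := rfl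
theorem L98290 : sm gj N11487 = N7965 := ded_42_2 (flp_e L68446) (flp_j L68036) L98284
theorem L98303 : sm gg N7922 = N11489 := rfl
theorem L98305 : sm ga N11489 = N7935 := ded_15_1 (flp_g L68183) (flp_a L68052) L98303
theorem L98307 : sm gc N11489 = N11489 := ded_30_1 (flp_g L98303) L68057 L98303
theorem L98308 : sm gd N11489 = N7923 := ded_36_1 (flp_g L68059) L68050 L98303
theorem L98310 : sm ge N11489 = N11489 := ded_41_1 (flp_g L98303) L68058 L98303
theorem L98311 : sm gi N11489 = N11489 := ded_51_2 (flp_g L98303) L68056 L98303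
theorem L98312 : sm gj N11489 = N11489 := ded_49_2 (flp_g L98303) L68054 L47507 (flp_j L68054) L98303
theorem L98313 : sm gh N7922 = N11490 := rfl
theorem L98315 : sm ga N11490 = N7936 := ded_17_1 (flp_h L68192) (flp_a L68052) L98313
theorem L98317 : sm gc N11490 = N11490 := ded_32_1 (flp_h L98313) L68057 L98313
theorem L98318 : sm ge N11490 = N11490 := ded_43_1 (flp_h L98313) L68058 L98313
theorem L98319 : sm gj N11490 = N7967 := ded_52_1 (flp_h L68463) (flp_j L68054) L98313
theorem L98321 : sm gf N7923 = N11491 := rfl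
theorem L98323 : sm ga N11491 = N7937 := ded_14_1 (flp_f L68199) (flp_a L68061) L98321
theorem L98325 : sm gc N11491 = N7930 := ded_29_1 (flp_f L68129) (flp_c L68063) L98321
theorem L98327 : sm gj N11491 = N11491 := ded_46_2 (flp_f L98321) L68068 L98321
theorem L98328 : sm gi N11491 = N11491 := ded_48_2 (flp_f L98321) L68067 L98321
theorem L98329 : sm ge N11491 = N11491 := ded_40_1 (flp_f L98321) L68065 L47229 (flp_e L68065) L98321
theorem L98330 : sm gh N7923 = N11492 := rfl
theorem L98332 : sm ga N11492 = N7938 := ded_17_1 (flp_h L68207) (flp_a L68061) L98330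
theorem L98338 : sm gg N11492 = N7924 := ded_50_1 (flp_h L68069) L68059 L98330
theorem L98341 : sm gd N7924 = N11493 := rfl
theorem L98343 : sm ga N11493 = N7939 := ded_12_1 (flp_d L68217) (flp_a L68071) L98341
theorem L98345 : sm gj N11493 = N7968 := ded_37_2 (flp_d L68470) (flp_j L68077) L98341
theorem L98358 : sm gd N7925 = N11495 := rfl
theorem L98360 : sm ga N11495 = N7941 := ded_12_1 (flp_d L68232) (flp_a L68081) L98358
theorem L98379 : sm ge N7926 = N11497 := rfl
theorem L98381 : sm ga N11497 = N7943 := ded_13_1 (flp_e L68251) (flp_a L68091) L98379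
theorem L98384 : sm gj N11497 = N7970 := ded_42_2 (flp_e L68485) (flp_j L68095) L98379
theorem L98387 : sm gi N7926 = N11498 := rfl
theorem L98389 : sm ga N11498 = N7944 := ded_18_1 (flp_i L68258) (flp_a L68091) L98387
theorem L98394 : sm gf N11498 = N7929 := ded_48_1 (flp_i L68119) (flp_f L68093) L98387
theorem L98398 : sm gf N7928 = N11499 := rfl
theorem L98400 : sm ga N11499 = N7945 := ded_14_1 (flp_f L68268) (flp_a L68112) L98398
theorem L98406 : sm gi N7928 = N11500 := rfl
theorem L98408 : sm ga N11500 = N7946 := ded_18_1 (flp_i L68275) (flp_a L68112) L98406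
theorem L98414 : sm gj N11500 = N7973 := ded_53_1 (flp_i L68508) (flp_j L68116) L98406
theorem L98416 : sm gh N7929 = N11501 := rfl
theorem L98422 : sm gj N11501 = N7974 := ded_52_1 (flp_h L68517) (flp_j L68127) L98416
theorem L98426 : sm gh N7930 = N11502 := rfl
theorem L98428 : sm ga N11502 = N7948 := ded_17_1 (flp_h L68293) (flp_a L68131) L98426
theorem L98433 : sm gf N11502 = N7931 := ded_47_1 (flp_h L68139) L68129 L98426
theorem L98459 : sm gc N7932 = N11505 := rfl
theorem L98478 : sm gf N7935 = N11507 := rfl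
theorem L98480 : sm gb N11507 = N11507 := ded_22_1 (flp_f L98478) L68185 L98478
theorem L98481 : sm gc N11507 = N11507 := ded_29_1 (flp_f L98478) L68186 L98478
theorem L98482 : sm gd N11507 = N7937 := ded_35_1 (flp_f L68199) (flp_d L68187) L98478
theorem L98484 : sm gj N11507 = N11507 := ded_46_2 (flp_f L98478) L68191 L98478
theorem L98485 : sm gi N11507 = N11507 := ded_48_2 (flp_f L98478) L68190 L98478
theorem L98486 : sm gh N7935 = N11508 := rfl
theorem L98488 : sm gb N11508 = N11508 := ded_25_1 (flp_h L98486) L68185 L98486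
theorem L98489 : sm gc N11508 = N11508 := ded_32_1 (flp_h L98486) L68186 L98486
theorem L98490 : sm ge N11508 = N11508 := ded_43_1 (flp_h L98486) L68189 L98486
theorem L98491 : sm gg N11508 = N7936 := ded_50_1 (flp_h L68192) L68183 L98486
theorem L98493 : sm gj N11508 = N11508 := ded_52_1 (flp_h L98486) L68191 L98486
theorem L98494 : sm gd N7936 = N11509 := rfl
theorem L98496 : sm gb N11509 = N11509 := ded_20_1 (flp_d L98494) L68194 L98494
theorem L98497 : sm gj N11509 = N7977 := ded_37_2 (flp_d L68543) (flp_j L68197) L98494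
theorem L98499 : sm gh N11509 = N7939 := ded_38_2 (flp_d L68217) (flp_h L47321) L47304 L68192 L98494
theorem L98501 : sm gi N7936 = N11510 := rfl
theorem L98503 : sm gb N11510 = N11510 := ded_26_1 (flp_i L98501) L68194 L98501
theorem L98504 : sm gc N11510 = N11510 := ded_33_1 (flp_i L98501) L68195 L98501
theorem L98505 : sm ge N11510 = N11510 := ded_44_1 (flp_i L98501) L68196 L98501
theorem L98506 : sm gj N11510 = N7978 := ded_53_1 (flp_i L68549) (flp_j L68197) L98501
theorem L98508 : sm gh N11510 = N11510 := ded_54_1 (flp_i L98501) (flp_h L68192) L47309 L68192 L98501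
theorem L98509 : sm gh N7937 = N11511 := rfl
theorem L98512 : sm gc N11511 = N7948 := ded_32_1 (flp_h L68293) (flp_c L68202) L98509
theorem L98515 : sm gf N11511 = N7938 := ded_47_1 (flp_h L68207) L68199 L98509
theorem L98518 : sm gd N7938 = N11512 := rfl
theorem L98520 : sm gb N11512 = N11512 := ded_20_1 (flp_d L98518) L68209 L98518
theorem L98521 : sm gg N11512 = N7939 := ded_36_2 (flp_d L68217) (flp_g L68214) L98518
theorem L98523 : sm gj N11512 = N11512 := ded_37_2 (flp_d L98518) L68216 L98518
theorem L98524 : sm gi N7938 = N11513 := rfl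
theorem L98531 : sm gg N11513 = N7940 := ded_51_1 (flp_i L68222) (flp_g L68214) L98524
theorem L98535 : sm gc N7939 = N11514 := rfl
theorem L98537 : sm gj N11514 = N7979 := ded_31_2 (flp_c L68556) (flp_j L68220) L98535
theorem L98539 : sm gd N11514 = N7951 := ded_27_2 (flp_c L68320) (flp_d L47392) (flp_c L47324) L68217 L98535
theorem L98541 : sm ge N7939 = N11515 := rfl
theorem L98543 : sm gb N11515 = N11515 := ded_21_1 (flp_e L98541) L68219 L98541
theorem L98544 : sm gj N11515 = N7980 := ded_42_2 (flp_e L68561) (flp_j L68220) L98541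
theorem L98546 : sm gd N11515 = N7943 := ded_34_1 (flp_e L68251) (flp_d L47339) (flp_e L47326) L68217 L98541
theorem L98548 : sm gi N7939 = N11516 := rfl
theorem L98551 : sm gd N11516 = N7940 := ded_39_1 (flp_i L68222) L68217 L98548
theorem L98555 : sm ge N7941 = N11517 := rfl
theorem L98557 : sm gb N11517 = N11517 := ded_21_1 (flp_e L98555) L68234 L98555
theorem L98558 : sm gc N11517 = N11517 := ded_28_1 (flp_e L98555) L68239 L98555
theorem L98559 : sm gg N11517 = N7943 := ded_41_2 (flp_e L68251) (flp_g L68236) L98555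
theorem L98561 : sm gj N11517 = N11517 := ded_42_2 (flp_e L98555) L68238 L98555
theorem L98562 : sm gh N11517 = N11517 := ded_43_2 (flp_e L98555) L68240 L98555
theorem L98563 : sm gi N7941 = N11518 := rfl
theorem L98573 : sm gf N7943 = N11519 := rfl
theorem L98575 : sm gb N11519 = N11519 := ded_22_1 (flp_f L98573) L68253 L98573
theorem L98576 : sm gc N11519 = N11519 := ded_29_1 (flp_f L98573) L68254 L98573
theorem L98577 : sm gj N11519 = N7982 := ded_46_2 (flp_f L68573) (flp_j L68255) L98573
theorem L98579 : sm gh N11519 = N11519 := ded_47_2 (flp_f L98573) L68257 L98573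
theorem L98580 : sm ge N11519 = N7945 := ded_40_1 (flp_f L68268) (flp_e L47358) (flp_f L47342) L68251 L98573
theorem L98582 : sm gi N7943 = N11520 := rfl
theorem L98590 : sm gh N7944 = N11521 := rfl
theorem L98600 : sm gg N7945 = N11522 := rfl
theorem L98602 : sm gb N11522 = N11522 := ded_23_1 (flp_g L98600) L68270 L98600
theorem L98603 : sm gc N11522 = N11522 := ded_30_1 (flp_g L98600) L68271 L98600
theorem L98604 : sm gh N11522 = N11522 := ded_50_2 (flp_g L98600) L68274 L98600
theorem L98605 : sm gf N11522 = N11522 := ded_45_1 (flp_g L98600) (flp_f L68268) L47362 L68268 L98600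
theorem L98606 : sm gi N7945 = N11523 := rfl
theorem L98610 : sm gf N11523 = N7946 := ded_48_1 (flp_i L68275) L68268 L98606
theorem L98612 : sm gj N11523 = N7986 := ded_53_1 (flp_i L68603) (flp_j L68272) L98606
theorem L98614 : sm gh N7946 = N11524 := rfl
theorem L98624 : sm gd N7948 = N11525 := rfl
theorem L98626 : sm gb N11525 = N7953 := ded_20_1 (flp_d L68335) (flp_b L68295) L98624
theorem L98628 : sm gf N11525 = N7949 := ded_35_2 (flp_d L68301) (flp_f L68298) L98624
theorem L98641 : sm gc N7949 = N11527 := rfl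
theorem L98644 : sm gg N11527 = N7951 := ded_30_2 (flp_c L68320) (flp_g L68305) L98641
theorem L98658 : sm gb N7951 = N11529 := rfl
theorem L98666 : sm gi N7951 = N11530 := rfl
theorem L98671 : sm gj N11530 = N7989 := ded_53_1 (flp_i L68625) (flp_j L68323) L98666
theorem L98682 : sm gc N7953 = N11532 := rfl
theorem L98684 : sm ga N11532 = N9044 := ded_11_1 (flp_c L77286) (flp_a L68337) L98682
theorem L98686 : sm gf N11532 = N7955 := ded_29_2 (flp_c L68353) (flp_f L68339) L98682
theorem L98691 : sm ge N7953 = N11533 := rfl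
theorem L98693 : sm ga N11533 = N9045 := ded_13_1 (flp_e L77293) (flp_a L68337) L98691
theorem L98699 : sm gi N7953 = N11534 := rfl
theorem L98705 : sm gf N11534 = N7956 := ded_48_1 (flp_i L68363) (flp_f L68339) L98699
theorem L98708 : sm gb N7955 = N11535 := rfl
theorem L98712 : sm gg N11535 = N7957 := ded_23_2 (flp_b L68373) (flp_g L68358) L98708
theorem L98716 : sm gi N7955 = N11536 := rfl
theorem L98724 : sm gg N11536 = N7958 := ded_51_1 (flp_i L68380) (flp_g L68358) L98716
theorem L98727 : sm gh N7956 = N11537 := rfl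
theorem L98732 : sm gg N11537 = N7959 := ded_50_1 (flp_h L68390) (flp_g L68370) L98727
theorem L98737 : sm ga N7957 = N11538 := rfl
theorem L98746 : sm gi N7957 = N11539 := rfl
theorem L98752 : sm gj N11539 = N7992 := ded_53_1 (flp_i L68647) (flp_j L68377) L98746
theorem L98754 : sm gh N7958 = N11540 := rfl
theorem L98756 : sm ga N11540 = N9052 := ded_17_1 (flp_h L77346) (flp_a L68382) L98754
theorem L98758 : sm gc N11540 = N7959 := ded_32_1 (flp_h L68390) (flp_c L68384) L98754
theorem L98761 : sm gj N11540 = N7993 := ded_52_1 (flp_h L68654) (flp_j L68388) L98754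
theorem L98764 : sm gc N7960 = N11541 := rfl
theorem L98773 : sm gh N7960 = N11542 := rfl
theorem L98776 : sm gb N11542 = N7967 := ded_25_1 (flp_h L68463) (flp_b L68402) L98773
theorem L98780 : sm gd N7961 = N11543 := rfl
theorem L98783 : sm gb N11543 = N7968 := ded_20_1 (flp_d L68470) (flp_b L68410) L98780
theorem L98797 : sm gc N7962 = N11545 := rfl
theorem L98807 : sm ge N7962 = N11546 := rfl
theorem L98814 : sm gi N7962 = N11547 := rfl
theorem L98824 : sm ge N7964 = N11548 := rfl
theorem L98828 : sm gc N11548 = N7965 := ded_28_1 (flp_e L68446) L68437 L98824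
theorem L98830 : sm gg N11548 = N7994 := ded_41_2 (flp_e L68663) (flp_g L68440) L98824
theorem L98833 : sm gi N7964 = N11549 := rfl
theorem L98843 : sm gf N7965 = N11550 := rfl
theorem L98867 : sm gd N7967 = N11553 := rfl
theorem L98869 : sm ga N11553 = N7977 := ded_12_1 (flp_d L68543) (flp_a L68465) L98867
theorem L98874 : sm gi N7967 = N11554 := rfl
theorem L98876 : sm ga N11554 = N7978 := ded_18_1 (flp_i L68549) (flp_a L68465) L98874
theorem L98878 : sm gc N11554 = N11554 := ded_33_1 (flp_i L98874) L68467 L98874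
theorem L98879 : sm ge N11554 = N11554 := ded_44_1 (flp_i L98874) L68468 L98874
theorem L98880 : sm gg N11554 = N11554 := ded_51_1 (flp_i L98874) L68469 L98874
theorem L98881 : sm gh N11554 = N11554 := ded_54_1 (flp_i L98874) (flp_h L68463) L47508 L68463 L98874
theorem L98882 : sm gc N7968 = N11555 := rfl
theorem L98884 : sm ga N11555 = N7979 := ded_11_1 (flp_c L68556) (flp_a L68472) L98882
theorem L98889 : sm ge N7968 = N11556 := rfl
theorem L98891 : sm ga N11556 = N7980 := ded_13_1 (flp_e L68561) (flp_a L68472) L98889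
theorem L98894 : sm gd N11556 = N7970 := ded_34_1 (flp_e L68485) (flp_d L47520) (flp_e L47517) L68470 L98889
theorem L98903 : sm gf N7970 = N11558 := rfl
theorem L98905 : sm ga N11558 = N7982 := ded_14_1 (flp_f L68573) (flp_a L68487) L98903
theorem L98929 : sm gg N7972 = N11561 := rfl
theorem L98931 : sm ga N11561 = N7985 := ded_15_1 (flp_g L68596) (flp_a L68504) L98929
theorem L98944 : sm gh N7973 = N11563 := rfl
theorem L98949 : sm ge N11563 = N7974 := ded_43_1 (flp_h L68517) (flp_e L68513) L98944
theorem L98979 : sm gc N7977 = N11567 := rfl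
theorem L98981 : sm gg N11567 = N11567 := ded_30_2 (flp_c L98979) L68546 L98979
theorem L98982 : sm gh N11567 = N7979 := ded_32_2 (flp_c L68556) (flp_h L68547) L98979
theorem L98984 : sm gd N11567 = N11567 := ded_27_2 (flp_c L98979) (flp_d L68543) L47578 L68543 L98979
theorem L98985 : sm ge N7977 = N11568 := rfl
theorem L98987 : sm gb N11568 = N11568 := ded_21_1 (flp_e L98985) L68545 L98985
theorem L98988 : sm gg N11568 = N11568 := ded_41_2 (flp_e L98985) L68546 L98985
theorem L98989 : sm gh N11568 = N7980 := ded_43_2 (flp_e L68561) (flp_h L68547) L98985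
theorem L98991 : sm gd N11568 = N11568 := ded_34_1 (flp_e L98985) (flp_d L68543) L47579 L68543 L98985
theorem L98992 : sm gi N7977 = N11569 := rfl
theorem L98994 : sm gb N11569 = N11569 := ded_26_1 (flp_i L98992) L68545 L98992
theorem L98995 : sm gd N11569 = N7978 := ded_39_1 (flp_i L68549) L68543 L98992
theorem L98997 : sm gg N11569 = N11569 := ded_51_1 (flp_i L98992) L68546 L98992
theorem L98998 : sm gb N7979 = N11570 := rfl
theorem L99000 : sm gd N11570 = N7988 := ded_20_2 (flp_b L68618) (flp_d L68559) L98998
theorem L99004 : sm ge N7979 = N11571 := rfl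
theorem L99006 : sm gc N11571 = N7980 := ded_28_1 (flp_e L68561) L68556 L99004
theorem L99010 : sm gi N7979 = N11572 := rfl
theorem L99014 : sm gd N11572 = N7989 := ded_39_1 (flp_i L68625) (flp_d L68559) L99010
theorem L99017 : sm gf N7980 = N11573 := rfl
theorem L99019 : sm gb N11573 = N11573 := ded_22_1 (flp_f L99017) L68563 L99017
theorem L99020 : sm gd N11573 = N7982 := ded_35_1 (flp_f L68573) (flp_d L68565) L99017
theorem L99035 : sm gg N7982 = N11576 := rfl
theorem L99037 : sm gb N11576 = N11576 := ded_23_1 (flp_g L99035) L68575 L99035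
theorem L99038 : sm gc N11576 = N11576 := ded_30_1 (flp_g L99035) L68576 L99035
theorem L99039 : sm ge N11576 = N7985 := ded_41_1 (flp_g L68596) (flp_e L68578) L99035
theorem L99041 : sm gh N11576 = N11576 := ded_50_2 (flp_g L99035) L68577 L99035
theorem L99042 : sm gf N11576 = N11576 := ded_45_1 (flp_g L99035) (flp_f L68573) L47598 L68573 L99035
theorem L99043 : sm gi N7982 = N11577 := rfl
theorem L99059 : sm gj N7985 = N11579 := rfl
theorem L99061 : sm gb N11579 = N11579 := ded_24_1 (flp_j L99059) L68598 L99059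
theorem L99062 : sm gc N11579 = N11579 := ded_31_1 (flp_j L99059) L68599 L99059
theorem L99063 : sm gf N11579 = N8002 := ded_46_1 (flp_j L68731) (flp_f L68601) L99059
theorem L99065 : sm gh N11579 = N11579 := ded_52_2 (flp_j L99059) L68600 L99059
theorem L99074 : sm gh N7986 = N11581 := rfl
theorem L99078 : sm gf N11581 = N7987 := ded_47_1 (flp_h L68609) (flp_f L68607) L99074
theorem L99081 : sm gd N7987 = N11582 := rfl
theorem L99084 : sm gg N11582 = N8005 := ded_36_2 (flp_d L68754) (flp_g L68615) L99081
theorem L99088 : sm ga N7988 = N11583 := rfl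
theorem L99095 : sm gi N7988 = N11584 := rfl
theorem L99099 : sm gc N11584 = N7992 := ded_33_1 (flp_i L68647) (flp_c L68623) L99095
theorem L99103 : sm gh N7989 = N11585 := rfl
theorem L99110 : sm gi N7991 = N11586 := rfl
theorem L99112 : sm ga N11586 = N7992 := ded_18_1 (flp_i L68647) L68639 L99110
theorem L99119 : sm gh N7992 = N11587 := rfl
theorem L99121 : sm gb N11587 = N7993 := ded_25_1 (flp_h L68654) (flp_b L68649) L99119
theorem L99126 : sm gd N7993 = N11588 := rfl
theorem L99128 : sm ga N11588 = N9100 := ded_12_1 (flp_d L77720) (flp_a L68656) L99126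
theorem L99134 : sm gd N7994 = N11589 := rfl
theorem L99168 : sm gg N7996 = N11593 := rfl
theorem L99171 : sm gb N11593 = N7999 := ded_23_1 (flp_g L68706) (flp_b L68684) L99168
theorem L99175 : sm gi N7996 = N11594 := rfl
theorem L99181 : sm gf N11594 = N7997 := ded_48_1 (flp_i L68689) L68681 L99175
theorem L99184 : sm gh N7997 = N11595 := rfl
theorem L99193 : sm gj N7999 = N11596 := rfl
theorem L99195 : sm ga N11596 = N8002 := ded_16_1 (flp_j L68731) (flp_a L68708) L99193
theorem L99201 : sm gi N7999 = N11597 := rfl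
theorem L99209 : sm gh N8000 = N11598 := rfl
theorem L99226 : sm gi N8002 = N11600 := rfl
theorem L99232 : sm gj N11600 = N8003 := ded_53_1 (flp_i L68738) L68731 L99226
theorem L99234 : sm gh N8003 = N11601 := rfl
theorem L99239 : sm gg N11601 = N8004 := ded_50_1 (flp_h L68745) (flp_g L68743) L99234
theorem L99242 : sm gd N8004 = N11602 := rfl
theorem L99245 : sm gf N11602 = N8005 := ded_35_2 (flp_d L68754) (flp_f L68750) L99242
theorem L99249 : sm gc N8005 = N11603 := rfl
theorem L99255 : sm ge N8006 = N11604 := rfl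
theorem L99257 : sm ga N11604 = N11604 := ded_13_1 (flp_e L99255) L68762 L99255
theorem L99258 : sm gb N11604 = N11604 := ded_21_1 (flp_e L99255) L68763 L99255
theorem L99259 : sm gc N11604 = N8009 := ded_28_1 (flp_e L68790) (flp_c L68764) L99255
theorem L99261 : sm gg N11604 = N11604 := ded_41_2 (flp_e L99255) L68768 L99255
theorem L99262 : sm gj N11604 = N11604 := ded_42_2 (flp_e L99255) L68767 L99255
theorem L99263 : sm gf N11604 = N11604 := ded_40_2 (flp_e L99255) (flp_f L68760) L47741 L68760 L99255
theorem L99264 : sm gh N8006 = N11605 := rfl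
theorem L99266 : sm ga N11605 = N11605 := ded_17_1 (flp_h L99264) L68762 L99264
theorem L99267 : sm gb N11605 = N11605 := ded_25_1 (flp_h L99264) L68763 L99264
theorem L99268 : sm gc N11605 = N8010 := ded_32_1 (flp_h L68799) (flp_c L68764) L99264
theorem L99270 : sm gf N11605 = N8007 := ded_47_1 (flp_h L68769) L68760 L99264
theorem L99272 : sm gg N11605 = N11605 := ded_50_1 (flp_h L99264) L68768 L99264
theorem L99273 : sm gj N11605 = N11605 := ded_52_1 (flp_h L99264) L68767 L99264
theorem L99274 : sm gi N8006 = N11606 := rfl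
theorem L99278 : sm gc N11606 = N8011 := ded_33_1 (flp_i L68809) (flp_c L68764) L99274
theorem L99281 : sm gf N11606 = N8008 := ded_48_1 (flp_i L68779) L68760 L99274
theorem L99285 : sm gd N8007 = N11607 := rfl
theorem L99287 : sm ga N11607 = N11607 := ded_12_1 (flp_d L99285) L68771 L99285
theorem L99288 : sm gb N11607 = N11607 := ded_20_1 (flp_d L99285) L68772 L99285
theorem L99289 : sm gg N11607 = N8058 := ded_36_2 (flp_d L69211) (flp_g L68776) L99285
theorem L99291 : sm gj N11607 = N11607 := ded_37_2 (flp_d L99285) L68778 L99285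
theorem L99292 : sm gc N11607 = N11607 := ded_27_1 (flp_d L99285) L68773 L47765 (flp_c L68773) L99285
theorem L99293 : sm gh N11607 = N11607 := ded_38_2 (flp_d L99285) (flp_h L68769) L47746 L68769 L99285
theorem L99294 : sm gi N8007 = N11608 := rfl
theorem L99298 : sm gc N11608 = N8012 := ded_33_1 (flp_i L68820) (flp_c L68773) L99294
theorem L99301 : sm gg N11608 = N8059 := ded_51_1 (flp_i L69220) (flp_g L68776) L99294
theorem L99304 : sm gh N8008 = N11609 := rfl
theorem L99314 : sm gh N8009 = N11610 := rfl
theorem L99316 : sm ga N11610 = N11610 := ded_17_1 (flp_h L99314) L68792 L99314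
theorem L99317 : sm gb N11610 = N8018 := ded_25_1 (flp_h L68880) (flp_b L68793) L99314
theorem L99319 : sm ge N11610 = N8010 := ded_43_1 (flp_h L68799) L68790 L99314
theorem L99321 : sm gf N11610 = N11610 := ded_47_1 (flp_h L99314) L68798 L99314
theorem L99322 : sm gg N11610 = N11610 := ded_50_1 (flp_h L99314) L68795 L99314
theorem L99323 : sm gj N11610 = N11610 := ded_52_1 (flp_h L99314) L68796 L99314
theorem L99324 : sm gi N8009 = N11611 := rfl
theorem L99327 : sm gb N11611 = N8019 := ded_26_1 (flp_i L68888) (flp_b L68793) L99324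
theorem L99329 : sm gd N11611 = N11611 := ded_39_1 (flp_i L99324) L68797 L99324
theorem L99330 : sm ge N11611 = N8011 := ded_44_1 (flp_i L68809) L68790 L99324
theorem L99335 : sm gi N8010 = N11612 := rfl
theorem L99338 : sm gb N11612 = N8020 := ded_26_1 (flp_i L68897) (flp_b L68802) L99335
theorem L99341 : sm gf N11612 = N8012 := ded_48_1 (flp_i L68820) (flp_f L68804) L99335
theorem L99345 : sm gh N8011 = N11613 := rfl
theorem L99354 : sm gh N8012 = N11614 := rfl
theorem L99360 : sm gg N11614 = N8061 := ded_50_1 (flp_h L69240) (flp_g L68827) L99354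
theorem L99363 : sm gi N11614 = N8013 := ded_54_2 (flp_h L68830) (flp_i L47766) L47756 L68820 L99354
theorem L99365 : sm gd N8013 = N11615 := rfl
theorem L99373 : sm gh N11615 = N8015 := ded_38_2 (flp_d L68851) (flp_h L47788) (flp_d L47771) L68830 L99365
theorem L99385 : sm gc N8015 = N11617 := rfl
theorem L99388 : sm gg N11617 = N8063 := ded_30_2 (flp_c L69261) (flp_g L68856) L99385
theorem L99392 : sm gd N11617 = N11617 := ded_27_2 (flp_c L99385) (flp_d L68851) L47793 L68851 L99385
theorem L99404 : sm gb N8016 = N11619 := rfl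
theorem L99406 : sm gd N11619 = N11619 := ded_20_2 (flp_b L99404) L68869 L99404
theorem L99407 : sm gf N11619 = N11619 := ded_22_2 (flp_b L99404) L68863 L99404
theorem L99408 : sm gg N11619 = N8065 := ded_23_2 (flp_b L69279) (flp_g L68864) L99404
theorem L99415 : sm ge N8016 = N11620 := rfl
theorem L99418 : sm gc N11620 = N8017 := ded_28_1 (flp_e L68870) L68860 L99415
theorem L99420 : sm gg N11620 = N8066 := ded_41_2 (flp_e L69290) (flp_g L68864) L99415
theorem L99425 : sm gf N8017 = N11621 := rfl
theorem L99434 : sm gd N8018 = N11622 := rfl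
theorem L99436 : sm gf N11622 = N11622 := ded_35_2 (flp_d L99434) L68885 L99434
theorem L99437 : sm gg N11622 = N11622 := ded_36_2 (flp_d L99434) L68886 L99434
theorem L99438 : sm gj N11622 = N11622 := ded_37_2 (flp_d L99434) L68887 L99434
theorem L99439 : sm ge N11622 = N11622 := ded_34_2 (flp_d L99434) L68883 L47825 (flp_e L68883) L99434
theorem L99440 : sm gh N11622 = N11622 := ded_38_2 (flp_d L99434) (flp_h L68880) L47816 L68880 L99434
theorem L99441 : sm gi N8018 = N11623 := rfl
theorem L99449 : sm gh N8019 = N11624 := rfl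
theorem L99457 : sm gh N8020 = N11625 := rfl
theorem L99460 : sm gf N11625 = N8022 := ded_47_1 (flp_h L68912) (flp_f L68901) L99457
theorem L99464 : sm gi N11625 = N8021 := ded_54_2 (flp_h L68905) (flp_i L47826) L47818 L68897 L99457
theorem L99466 : sm gd N8021 = N11626 := rfl
theorem L99472 : sm gh N11626 = N8024 := ded_38_2 (flp_d L68928) (flp_h L47850) (flp_d L47829) L68905 L99466
theorem L99474 : sm gd N8022 = N11627 := rfl
theorem L99476 : sm gg N11627 = N8068 := ded_36_2 (flp_d L69310) (flp_g L68916) L99474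
theorem L99479 : sm gi N11627 = N8023 := ded_39_2 (flp_d L68921) (flp_i L68919) L99474
theorem L99482 : sm gc N8023 = N11628 := rfl
theorem L99484 : sm gg N11628 = N8069 := ded_30_2 (flp_c L69318) (flp_g L68923) L99482
theorem L99487 : sm gh N11628 = N8025 := ded_32_2 (flp_c L68935) (flp_h L68926) L99482
theorem L99490 : sm ge N8023 = N11629 := rfl
theorem L99495 : sm gh N11629 = N8026 := ded_43_2 (flp_e L68943) (flp_h L68926) L99490
theorem L99498 : sm gc N8024 = N11630 := rfl
theorem L99507 : sm ge N8024 = N11631 := rfl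
theorem L99513 : sm gb N8025 = N11632 := rfl
theorem L99517 : sm gg N11632 = N8071 := ded_23_2 (flp_b L69333) (flp_g L68937) L99513
theorem L99521 : sm ge N8025 = N11633 := rfl
theorem L99529 : sm gf N8026 = N11634 := rfl
theorem L99531 : sm gd N11634 = N8029 := ded_35_1 (flp_f L68970) (flp_d L68949) L99529
theorem L99535 : sm ga N8027 = N11635 := rfl
theorem L99537 : sm gd N11635 = N8035 := ded_12_2 (flp_a L69017) (flp_d L68953) L99535
theorem L99539 : sm gf N11635 = N11635 := ded_14_2 (flp_a L99535) L68955 L99535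
theorem L99540 : sm gg N11635 = N8074 := ded_15_2 (flp_a L69356) (flp_g L68956) L99535
theorem L99545 : sm ge N8027 = N11636 := rfl
theorem L99549 : sm gg N11636 = N8075 := ded_41_2 (flp_e L69366) (flp_g L68956) L99545
theorem L99570 : sm gg N8029 = N11639 := rfl
theorem L99575 : sm gf N11639 = N8078 := ded_45_1 (flp_g L69391) (flp_f L48156) (flp_g L47878) L68970 L99570
theorem L99577 : sm gb N8030 = N11640 := rfl
theorem L99579 : sm gf N11640 = N8032 := ded_22_2 (flp_b L68992) (flp_f L68978) L99577
theorem L99585 : sm gc N11640 = N11640 := ded_19_2 (flp_b L99577) (flp_c L68976) L47885 L68976 L99577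
theorem L99586 : sm ge N8030 = N11641 := rfl
theorem L99588 : sm gc N11641 = N8031 := ded_28_1 (flp_e L68984) L68976 L99586
theorem L99594 : sm gf N8031 = N11642 := rfl
theorem L99596 : sm gb N11642 = N11642 := ded_22_1 (flp_f L99594) L68986 L99594
theorem L99597 : sm gd N11642 = N11642 := ded_35_1 (flp_f L99594) L68991 L99594
theorem L99598 : sm gj N11642 = N11642 := ded_46_2 (flp_f L99594) L68988 L99594
theorem L99599 : sm gh N11642 = N11642 := ded_47_2 (flp_f L99594) L68989 L99594
theorem L99600 : sm gi N11642 = N11642 := ded_48_2 (flp_f L99594) L68990 L99594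
theorem L99601 : sm ge N11642 = N8034 := ded_40_1 (flp_f L69009) (flp_e L47899) (flp_f L47886) L68984 L99594
theorem L99603 : sm ga N8032 = N11643 := rfl
theorem L99605 : sm gc N11643 = N11643 := ded_11_2 (flp_a L99603) L68999 L99603
theorem L99621 : sm gd N8033 = N11645 := rfl
theorem L99623 : sm gg N11645 = N8081 := ded_36_2 (flp_d L69414) (flp_g L69004) L99621
theorem L99627 : sm gc N11645 = N8037 := ded_27_1 (flp_d L69038) L47921 (flp_d L47907) (flp_c L69002) L99621
theorem L99629 : sm gf N8033 = N11646 := rfl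
theorem L99631 : sm gc N11646 = N8034 := ded_29_1 (flp_f L69009) (flp_c L69002) L99629
theorem L99636 : sm gg N8034 = N11647 := rfl
theorem L99638 : sm gb N11647 = N11647 := ded_23_1 (flp_g L99636) L69011 L99636
theorem L99639 : sm gd N11647 = N8039 := ded_36_1 (flp_g L69053) (flp_d L69012) L99636
theorem L99641 : sm gh N11647 = N11647 := ded_50_2 (flp_g L99636) L69015 L99636
theorem L99642 : sm gi N11647 = N11647 := ded_51_2 (flp_g L99636) L69016 L99636
theorem L99643 : sm gf N11647 = N8083 := ded_45_1 (flp_g L69430) (flp_f L48180) (flp_g L47902) L69009 L99636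
theorem L99656 : sm gd N8036 = N11649 := rfl
theorem L99658 : sm gb N11649 = N8037 := ded_20_1 (flp_d L69038) (flp_b L69029) L99656
theorem L99664 : sm gf N8036 = N11650 := rfl
theorem L99666 : sm gb N11650 = N8038 := ded_22_1 (flp_f L69044) (flp_b L69029) L99664
theorem L99670 : sm gh N11650 = N8042 := ded_47_2 (flp_f L69082) (flp_h L69035) L99664
theorem L99673 : sm ge N11650 = N11650 := ded_40_1 (flp_f L99664) (flp_e L69027) L47911 L69027 L99664
theorem L99674 : sm gf N8037 = N11651 := rfl
theorem L99687 : sm gg N8038 = N11653 := rfl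
theorem L99689 : sm gc N11653 = N8039 := ded_30_1 (flp_g L69053) (flp_c L69046) L99687
theorem L99697 : sm gj N8039 = N11654 := rfl
theorem L99701 : sm gf N11654 = N8090 := ded_46_1 (flp_j L69489) (flp_f L69060) L99697
theorem L99703 : sm gh N11654 = N8046 := ded_52_2 (flp_j L69115) (flp_h L69057) L99697
theorem L99707 : sm gd N8040 = N11655 := rfl
theorem L99709 : sm ga N11655 = N8041 := ded_12_1 (flp_d L69072) (flp_a L69064) L99707
theorem L99711 : sm gg N11655 = N8091 := ded_36_2 (flp_d L69499) (flp_g L69067) L99707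
theorem L99714 : sm gi N11655 = N8047 := ded_39_2 (flp_d L69125) (flp_i L69070) L99707
theorem L99726 : sm gc N8041 = N11657 := rfl
theorem L99729 : sm gg N11657 = N8093 := ded_30_2 (flp_c L69519) (flp_g L69076) L99726
theorem L99732 : sm gi N11657 = N8049 := ded_33_2 (flp_c L69141) (flp_i L69079) L99726
theorem L99734 : sm gb N11657 = N11657 := ded_19_1 (flp_c L99726) L69074 L47964 (flp_b L69074) L99726
theorem L99736 : sm gf N8041 = N11658 := rfl
theorem L99738 : sm gb N11658 = N8043 := ded_22_1 (flp_f L69091) (flp_b L69074) L99736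
theorem L99743 : sm gi N11658 = N8050 := ded_48_2 (flp_f L69149) (flp_i L69079) L99736
theorem L99753 : sm gg N8042 = N11660 := rfl
theorem L99759 : sm gi N11660 = N8052 := ded_51_2 (flp_g L69165) (flp_i L69088) L99753
theorem L99763 : sm ge N8043 = N11661 := rfl
theorem L99767 : sm gi N11661 = N8053 := ded_44_2 (flp_e L69174) (flp_i L69097) L99763
theorem L99771 : sm gg N8043 = N11662 := rfl
theorem L99776 : sm gi N11662 = N8054 := ded_51_2 (flp_g L69180) (flp_i L69097) L99771
theorem L99778 : sm gf N11662 = N8098 := ded_45_1 (flp_g L69564) (flp_f L48263) (flp_g L47959) L69091 L99771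
theorem L99786 : sm gi N8044 = N11664 := rfl
theorem L99793 : sm gh N11664 = N8056 := ded_54_1 (flp_i L69194) (flp_h L48014) (flp_i L47962) L69099 L99786
theorem L99805 : sm gc N8047 = N11666 := rfl
theorem L99807 : sm ga N11666 = N8049 := ded_11_1 (flp_c L69141) (flp_a L69127) L99805
theorem L99810 : sm gg N11666 = N8102 := ded_30_2 (flp_c L69596) (flp_g L69129) L99805
theorem L99814 : sm gf N8047 = N11667 := rfl
theorem L99821 : sm gh N8047 = N11668 := rfl
theorem L99839 : sm gf N8049 = N11670 := rfl
theorem L99841 : sm gb N11670 = N11670 := ded_22_1 (flp_f L99839) L69147 L99839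
theorem L99842 : sm gc N11670 = N8050 := ded_29_1 (flp_f L69149) L69141 L99839
theorem L99844 : sm gd N11670 = N11670 := ded_35_1 (flp_f L99839) L69148 L99839
theorem L99846 : sm gh N8049 = N11671 := rfl
theorem L99852 : sm gg N11671 = N8107 := ded_50_1 (flp_h L69636) (flp_g L69144) L99846
theorem L99855 : sm ge N8050 = N11672 := rfl
theorem L99862 : sm gg N8050 = N11673 := rfl
theorem L99864 : sm gb N11673 = N8054 := ded_23_1 (flp_g L69180) (flp_b L69151) L99862
theorem L99868 : sm gf N11673 = N8109 := ded_45_1 (flp_g L69653) (flp_f L48320) (flp_g L47996) L69149 L99862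
theorem L99870 : sm gh N8050 = N11674 := rfl
theorem L99877 : sm gd N11674 = N11674 := ded_38_1 (flp_h L99870) L69153 L48006 (flp_d L69153) L99870
theorem L99887 : sm gj N8052 = N11676 := rfl
theorem L99893 : sm gf N11676 = N8112 := ded_46_1 (flp_j L69676) (flp_f L69172) L99887
theorem L99897 : sm gg N8053 = N11677 := rfl
theorem L99899 : sm gc N11677 = N11677 := ded_30_1 (flp_g L99897) L69176 L99897
theorem L99901 : sm ge N11677 = N8054 := ded_41_1 (flp_g L69180) L69174 L99897
theorem L99903 : sm gh N8053 = N11678 := rfl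
theorem L99910 : sm gj N8054 = N11679 := rfl
theorem L99915 : sm gf N11679 = N8115 := ded_46_1 (flp_j L69701) (flp_f L69185) L99910
theorem L99918 : sm gh N8054 = N11680 := rfl
theorem L99923 : sm gg N11680 = N8055 := ded_50_1 (flp_h L69187) L69180 L99918
theorem L99933 : sm ge N8058 = N11682 := rfl
theorem L99935 : sm ga N11682 = N11682 := ded_13_1 (flp_e L99933) L69213 L99933
theorem L99936 : sm gb N11682 = N11682 := ded_21_1 (flp_e L99933) L69214 L99933
theorem L99937 : sm gc N11682 = N11682 := ded_28_1 (flp_e L99933) L69218 L99933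
theorem L99938 : sm gj N11682 = N8118 := ded_42_2 (flp_e L69722) (flp_j L69216) L99933
theorem L99940 : sm gh N11682 = N11682 := ded_43_2 (flp_e L99933) L69219 L99933
theorem L99941 : sm gd N11682 = N11682 := ded_34_1 (flp_e L99933) (flp_d L69211) L48045 L69211 L99933
theorem L99942 : sm gi N8058 = N11683 := rfl
theorem L99947 : sm gd N11683 = N8059 := ded_39_1 (flp_i L69220) L69211 L99942
theorem L99950 : sm gj N11683 = N8119 := ded_53_1 (flp_i L69730) (flp_j L69216) L99942
theorem L99952 : sm gh N8059 = N11684 := rfl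
theorem L99972 : sm gd N8061 = N11686 := rfl
theorem L99978 : sm gj N11686 = N8122 := ded_37_2 (flp_d L69757) (flp_j L69247) L99972
theorem L99980 : sm gi N11686 = N8062 := ded_39_2 (flp_d L69251) (flp_i L69249) L99972
theorem L99983 : sm gc N8062 = N11687 := rfl
theorem L99987 : sm gj N11687 = N8123 := ded_31_2 (flp_c L69767) (flp_j L69257) L99983
theorem L99989 : sm gh N11687 = N8063 := ded_32_2 (flp_c L69261) (flp_h L69259) L99983
theorem L100001 : sm gb N8063 = N11689 := rfl
theorem L100003 : sm gd N11689 = N11689 := ded_20_2 (flp_b L100001) L69268 L100001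
theorem L100005 : sm gj N11689 = N8125 := ded_24_2 (flp_b L69783) (flp_j L69265) L100001
theorem L100010 : sm ge N8063 = N11690 := rfl
theorem L100013 : sm gc N11690 = N8064 := ded_28_1 (flp_e L69269) L69261 L100010
theorem L100015 : sm gj N11690 = N8126 := ded_42_2 (flp_e L69791) (flp_j L69265) L100010
theorem L100041 : sm ge N8065 = N11693 := rfl
theorem L100043 : sm gb N11693 = N8066 := ded_21_1 (flp_e L69290) L69279 L100041
theorem L100047 : sm gj N11693 = N8129 := ded_42_2 (flp_e L69818) (flp_j L69284) L100041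
theorem L100051 : sm gd N8066 = N11694 := rfl
theorem L100054 : sm gj N11694 = N8130 := ded_37_2 (flp_d L69827) (flp_j L69295) L100051
theorem L100058 : sm gf N8066 = N11695 := rfl
theorem L100063 : sm gj N11695 = N8131 := ded_46_2 (flp_f L69833) (flp_j L69295) L100058
theorem L100067 : sm ge N11695 = N8212 := ded_40_1 (flp_f L70434) (flp_e L48843) (flp_f L48091) L69290 L100058
theorem L100078 : sm gc N8068 = N11697 := rfl
theorem L100081 : sm gj N11697 = N8133 := ded_31_2 (flp_c L69852) (flp_j L69313) L100078
theorem L100084 : sm gi N11697 = N8069 := ded_33_2 (flp_c L69318) (flp_i L69315) L100078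
theorem L100087 : sm ge N8068 = N11698 := rfl
theorem L100089 : sm gj N11698 = N8134 := ded_42_2 (flp_e L69860) (flp_j L69313) L100087
theorem L100092 : sm gi N11698 = N8070 := ded_44_2 (flp_e L69326) (flp_i L69315) L100087
theorem L100095 : sm gb N8069 = N11699 := rfl
theorem L100099 : sm gj N11699 = N8135 := ded_24_2 (flp_b L69867) (flp_j L69321) L100095
theorem L100101 : sm gh N11699 = N8071 := ded_25_2 (flp_b L69333) (flp_h L69323) L100095
theorem L100103 : sm ge N8069 = N11700 := rfl
theorem L100111 : sm gf N8070 = N11701 := rfl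
theorem L100116 : sm gh N11701 = N8073 := ded_47_2 (flp_f L69348) (flp_h L69330) L100111
theorem L100119 : sm ga N8071 = N11702 := rfl
theorem L100124 : sm gj N11702 = N8138 := ded_16_2 (flp_a L69887) (flp_j L69338) L100119
theorem L100127 : sm ge N8071 = N11703 := rfl
theorem L100131 : sm gj N11703 = N8139 := ded_42_2 (flp_e L69894) (flp_j L69338) L100127
theorem L100134 : sm gd N8072 = N11704 := rfl
theorem L100136 : sm gj N11704 = N8140 := ded_37_2 (flp_d L69900) (flp_j L69345) L100134
theorem L100157 : sm ge N8074 = N11707 := rfl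
theorem L100161 : sm gj N11707 = N8143 := ded_42_2 (flp_e L69921) (flp_j L69362) L100157
theorem L100165 : sm gd N8075 = N11708 := rfl
theorem L100169 : sm gj N11708 = N8144 := ded_37_2 (flp_d L69928) (flp_j L69370) L100165
theorem L100198 : sm gg N8077 = N11712 := rfl
theorem L100200 : sm gc N11712 = N8078 := ded_30_1 (flp_g L69391) (flp_c L69383) L100198
theorem L100206 : sm gj N8078 = N11713 := rfl
theorem L100214 : sm ge N8079 = N11714 := rfl
theorem L100219 : sm gj N11714 = N8150 := ded_42_2 (flp_e L69971) (flp_j L69401) L100214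
theorem L100223 : sm gd N8080 = N11715 := rfl
theorem L100225 : sm gb N11715 = N8081 := ded_20_1 (flp_d L69414) (flp_b L69407) L100223
theorem L100227 : sm gj N11715 = N8151 := ded_37_2 (flp_d L69979) (flp_j L69410) L100223
theorem L100240 : sm gf N8081 = N11717 := rfl
theorem L100249 : sm gh N8081 = N11718 := rfl
theorem L100256 : sm gg N8082 = N11719 := rfl
theorem L100258 : sm gc N11719 = N8083 := ded_30_1 (flp_g L69430) (flp_c L69423) L100256
theorem L100263 : sm gj N8083 = N11720 := rfl
theorem L100265 : sm gb N11720 = N11720 := ded_24_1 (flp_j L100263) L69432 L100263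
theorem L100266 : sm gd N11720 = N8090 := ded_37_1 (flp_j L69489) (flp_d L69433) L100263
theorem L100268 : sm ge N11720 = N11720 := ded_42_1 (flp_j L100263) L69435 L100263
theorem L100269 : sm gh N11720 = N11720 := ded_52_2 (flp_j L100263) L69436 L100263
theorem L100270 : sm gi N11720 = N11720 := ded_53_2 (flp_j L100263) L69437 L100263
theorem L100271 : sm gg N11720 = N8156 := ded_49_1 (flp_j L70014) (flp_g L48573) (flp_j L48185) L69430 L100263
theorem L100273 : sm gd N8084 = N11721 := rfl
theorem L100275 : sm ga N11721 = N8085 := ded_12_1 (flp_d L69448) (flp_a L69440) L100273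
theorem L100277 : sm gj N11721 = N8157 := ded_37_2 (flp_d L70023) (flp_j L69443) L100273
theorem L100280 : sm gf N8084 = N11722 := rfl
theorem L100285 : sm gj N11722 = N8158 := ded_46_2 (flp_f L70029) (flp_j L69443) L100280
theorem L100292 : sm gc N8085 = N11723 := rfl
theorem L100294 : sm gj N11723 = N8159 := ded_31_2 (flp_c L70039) (flp_j L69452) L100292
theorem L100298 : sm gf N8085 = N11724 := rfl
theorem L100300 : sm gb N11724 = N8087 := ded_22_1 (flp_f L69467) (flp_b L69450) L100298
theorem L100304 : sm gj N11724 = N8160 := ded_46_2 (flp_f L70044) (flp_j L69452) L100298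
theorem L100315 : sm gg N8086 = N11726 := rfl
theorem L100317 : sm gb N11726 = N8089 := ded_23_1 (flp_g L69480) (flp_b L69457) L100315
theorem L100322 : sm gh N11726 = N8096 := ded_50_2 (flp_g L69545) (flp_h L69462) L100315
theorem L100332 : sm gg N8087 = N11728 := rfl
theorem L100337 : sm gh N8087 = N11729 := rfl
theorem L100341 : sm gj N11729 = N8165 := ded_52_1 (flp_h L70080) (flp_j L69471) L100337
theorem L100343 : sm gd N11729 = N8099 := ded_38_1 (flp_h L69571) L48266 (flp_h L48221) (flp_d L69469) L100337
theorem L100352 : sm gj N8089 = N11731 := rfl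
theorem L100354 : sm gc N11731 = N8090 := ded_31_1 (flp_j L69489) (flp_c L69482) L100352
theorem L100358 : sm gh N11731 = N8101 := ded_52_2 (flp_j L69586) (flp_h L69486) L100352
theorem L100363 : sm gc N8091 = N11732 := rfl
theorem L100368 : sm gj N11732 = N8168 := ded_31_2 (flp_c L70102) (flp_j L69503) L100363
theorem L100370 : sm gi N11732 = N8102 := ded_33_2 (flp_c L69596) (flp_i L69505) L100363
theorem L100372 : sm gd N11732 = N11732 := ded_27_2 (flp_c L100363) (flp_d L69499) L48238 L69499 L100363
theorem L100373 : sm gf N8091 = N11733 := rfl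
theorem L100377 : sm gd N11733 = N8092 := ded_35_1 (flp_f L69508) L69499 L100373
theorem L100379 : sm gj N11733 = N8169 := ded_46_2 (flp_f L70111) (flp_j L69503) L100373
theorem L100381 : sm gi N11733 = N8103 := ded_48_2 (flp_f L69604) (flp_i L69505) L100373
theorem L100383 : sm gh N8091 = N11734 := rfl
theorem L100399 : sm gf N8093 = N11736 := rfl
theorem L100402 : sm gc N11736 = N8094 := ded_29_1 (flp_f L69528) L69519 L100399
theorem L100405 : sm gj N11736 = N8172 := ded_46_2 (flp_f L70135) (flp_j L69522) L100399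
theorem L100407 : sm gi N11736 = N8106 := ded_48_2 (flp_f L69628) (flp_i L69524) L100399
theorem L100409 : sm gh N8093 = N11737 := rfl
theorem L100415 : sm gj N11737 = N8173 := ded_52_1 (flp_h L70143) (flp_j L69522) L100409
theorem L100417 : sm ge N8094 = N11738 := rfl
theorem L100421 : sm gj N11738 = N8174 := ded_42_2 (flp_e L70150) (flp_j L69534) L100417
theorem L100423 : sm gi N11738 = N8108 := ded_44_2 (flp_e L69644) (flp_i L69536) L100417
theorem L100425 : sm gd N11738 = N8238 := ded_34_1 (flp_e L70663) L49001 (flp_e L48261) (flp_d L69532) L100417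
theorem L100436 : sm gh N8094 = N11740 := rfl
theorem L100442 : sm gj N11740 = N8176 := ded_52_1 (flp_h L70168) (flp_j L69534) L100436
theorem L100453 : sm gj N8096 = N11742 := rfl
theorem L100460 : sm gi N11742 = N8112 := ded_53_2 (flp_j L69676) (flp_i L69552) L100453
theorem L100464 : sm gg N8097 = N11743 := rfl
theorem L100466 : sm gc N11743 = N11743 := ded_30_1 (flp_g L100464) L69556 L100464
theorem L100467 : sm gd N11743 = N8243 := ded_36_1 (flp_g L70709) (flp_d L69561) L100464
theorem L100469 : sm ge N11743 = N8098 := ded_41_1 (flp_g L69564) L69554 L100464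
theorem L100473 : sm gh N8097 = N11744 := rfl
theorem L100481 : sm gj N8098 = N11745 := rfl
theorem L100486 : sm gi N11745 = N8115 := ded_53_2 (flp_j L69701) (flp_i L69569) L100481
theorem L100488 : sm gg N11745 = N8181 := ded_49_1 (flp_j L70207) (flp_g L48693) (flp_j L48268) L69564 L100481
theorem L100504 : sm gb N8102 = N11748 := rfl
theorem L100508 : sm gj N11748 = N8184 := ded_24_2 (flp_b L70228) (flp_j L69601) L100504
theorem L100510 : sm ga N11748 = N11748 := ded_10_1 (flp_b L100504) L69598 L48318 (flp_a L69598) L100504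
theorem L100511 : sm gf N8102 = N11749 := rfl
theorem L100513 : sm ga N11749 = N8106 := ded_14_1 (flp_f L69628) (flp_a L69598) L100511
theorem L100515 : sm gc N11749 = N8103 := ded_29_1 (flp_f L69604) L69596 L100511
theorem L100518 : sm gj N11749 = N8185 := ded_46_2 (flp_f L70234) (flp_j L69601) L100511
theorem L100520 : sm gh N8102 = N11750 := rfl
theorem L100529 : sm ge N8103 = N11751 := rfl
theorem L100531 : sm ga N11751 = N8108 := ded_13_1 (flp_e L69644) (flp_a L69606) L100529
theorem L100533 : sm gj N11751 = N8187 := ded_42_2 (flp_e L70249) (flp_j L69610) L100529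
theorem L100538 : sm gg N8103 = N11752 := rfl
theorem L100544 : sm gh N8103 = N11753 := rfl
theorem L100553 : sm gi N8104 = N11754 := rfl
theorem L100555 : sm ga N11754 = N8111 := ded_18_1 (flp_i L69668) (flp_a L69614) L100553
theorem L100559 : sm gj N11754 = N8190 := ded_53_1 (flp_i L70270) (flp_j L69617) L100553
theorem L100571 : sm ge N8106 = N11756 := rfl
theorem L100574 : sm gc N11756 = N8108 := ded_28_1 (flp_e L69644) (flp_c L69631) L100571
theorem L100576 : sm gj N11756 = N8192 := ded_42_2 (flp_e L70286) (flp_j L69634) L100571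
theorem L100579 : sm gg N8106 = N11757 := rfl
theorem L100585 : sm gh N8106 = N11758 := rfl
theorem L100588 : sm gc N11758 = N8110 := ded_32_1 (flp_h L69659) (flp_c L69631) L100585
theorem L100590 : sm gf N11758 = N8107 := ded_47_1 (flp_h L69636) L69628 L100585
theorem L100592 : sm gj N11758 = N8194 := ded_52_1 (flp_h L70299) (flp_j L69634) L100585
theorem L100594 : sm gd N8107 = N11759 := rfl
theorem L100597 : sm gj N11759 = N8195 := ded_37_2 (flp_d L70306) (flp_j L69642) L100594
theorem L100600 : sm gh N11759 = N11759 := ded_38_2 (flp_d L100594) (flp_h L69636) L48319 L69636 L100594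
theorem L100609 : sm gg N8108 = N11761 := rfl
theorem L100613 : sm gd N11761 = N8261 := ded_36_1 (flp_g L70869) (flp_d L69650) L100609
theorem L100615 : sm ge N11761 = N8109 := ded_41_1 (flp_g L69653) L69644 L100609
theorem L100617 : sm gh N8108 = N11762 := rfl
theorem L100624 : sm gj N11762 = N8198 := ded_52_1 (flp_h L70327) (flp_j L69648) L100617
theorem L100626 : sm gj N8109 = N11763 := rfl
theorem L100628 : sm gb N11763 = N8115 := ded_24_1 (flp_j L69701) (flp_b L69655) L100626
theorem L100630 : sm gd N11763 = N8112 := ded_37_1 (flp_j L69676) (flp_d L69657) L100626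
theorem L100634 : sm gh N8109 = N11764 := rfl
theorem L100636 : sm gb N11764 = N8116 := ded_25_1 (flp_h L69708) (flp_b L69655) L100634
theorem L100641 : sm gi N8110 = N11765 := rfl
theorem L100650 : sm gf N8113 = N11766 := rfl
theorem L100653 : sm gd N11766 = N8266 := ded_35_1 (flp_f L70910) (flp_d L69689) L100650
theorem L100665 : sm gh N8113 = N11768 := rfl
theorem L100670 : sm gg N11768 = N8114 := ded_50_1 (flp_h L69693) L69686 L100665
theorem L100672 : sm gd N8114 = N11769 := rfl
theorem L100675 : sm gj N11769 = N8205 := ded_37_2 (flp_d L70377) (flp_j L69699) L100672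
theorem L100678 : sm gh N11769 = N8269 := ded_38_2 (flp_d L70932) (flp_h L49167) (flp_d L48349) L69693 L100672
theorem L100688 : sm gh N8115 = N11771 := rfl
theorem L100691 : sm gg N11771 = N8207 := ded_50_1 (flp_h L70389) (flp_g L69706) L100688
theorem L100693 : sm gj N11771 = N8116 := ded_52_1 (flp_h L69708) L69701 L100688
theorem L100702 : sm gf N8118 = N11773 := rfl
theorem L100704 : sm ga N11773 = N11773 := ded_14_1 (flp_f L100702) L69724 L100702
theorem L100705 : sm gb N11773 = N11773 := ded_22_1 (flp_f L100702) L69725 L100702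
theorem L100706 : sm gc N11773 = N11773 := ded_29_1 (flp_f L100702) L69726 L100702
theorem L100707 : sm gd N11773 = N11773 := ded_35_1 (flp_f L100702) L69729 L100702
theorem L100708 : sm gh N11773 = N11773 := ded_47_2 (flp_f L100702) L69728 L100702
theorem L100709 : sm ge N11773 = N11773 := ded_40_1 (flp_f L100702) (flp_e L69722) L48385 L69722 L100702
theorem L100710 : sm gi N8118 = N11774 := rfl
theorem L100716 : sm ge N11774 = N8119 := ded_44_1 (flp_i L69730) L69722 L100710
theorem L100719 : sm gh N8119 = N11775 := rfl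
theorem L100726 : sm gi N11775 = N11775 := ded_54_2 (flp_h L100719) (flp_i L69730) L48388 L69730 L100719
theorem L100727 : sm gd N8120 = N11776 := rfl
theorem L100733 : sm gi N11776 = N8121 := ded_39_2 (flp_d L69750) (flp_i L69748) L100727
theorem L100735 : sm gc N8121 = N11777 := rfl
theorem L100740 : sm gh N11777 = N11777 := ded_32_2 (flp_c L100735) L69756 L100735
theorem L100741 : sm gd N11777 = N8123 := ded_27_2 (flp_c L69767) (flp_d L48417) (flp_c L48402) L69750 L100735
theorem L100750 : sm gc N8122 = N11779 := rfl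
theorem L100756 : sm gi N11779 = N8123 := ded_33_2 (flp_c L69767) (flp_i L69764) L100750
theorem L100768 : sm gb N8123 = N11781 := rfl
theorem L100772 : sm gh N11781 = N8125 := ded_25_2 (flp_b L69783) (flp_h L69772) L100768
theorem L100774 : sm gc N11781 = N8135 := ded_19_2 (flp_b L69867) (flp_c L48476) (flp_b L48420) L69767 L100768
theorem L100776 : sm ge N8123 = N11782 := rfl
theorem L100782 : sm gh N11782 = N8126 := ded_43_2 (flp_e L69791) (flp_h L69772) L100776
theorem L100793 : sm ga N8125 = N11784 := rfl
theorem L100802 : sm ge N8125 = N11785 := rfl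
theorem L100810 : sm gd N8126 = N11786 := rfl
theorem L100815 : sm gc N11786 = N8130 := ded_27_1 (flp_d L69827) L48455 (flp_d L48440) (flp_c L69794) L100810
theorem L100818 : sm gf N8126 = N11787 := rfl
theorem L100845 : sm gd N8129 = N11790 := rfl
theorem L100852 : sm gf N8129 = N11791 := rfl
theorem L100860 : sm ge N11791 = N8275 := ded_40_1 (flp_f L70984) (flp_e L49212) (flp_f L48445) L69818 L100852
theorem L100862 : sm gf N8130 = N11792 := rfl
theorem L100865 : sm gd N11792 = N8131 := ded_35_1 (flp_f L69833) L69827 L100862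
theorem L100874 : sm gg N8131 = N11794 := rfl
theorem L100894 : sm gb N8133 = N11796 := rfl
theorem L100900 : sm gi N11796 = N8135 := ded_26_2 (flp_b L69867) (flp_i L69857) L100894
theorem L100902 : sm ge N8133 = N11797 := rfl
theorem L100910 : sm gf N8134 = N11798 := rfl
theorem L100914 : sm gi N11798 = N8137 := ded_48_2 (flp_f L69881) (flp_i L69864) L100910
theorem L100917 : sm ga N8135 = N11799 := rfl
theorem L100924 : sm ge N8135 = N11800 := rfl
theorem L100929 : sm gh N11800 = N8139 := ded_43_2 (flp_e L69894) (flp_h L69872) L100924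
theorem L100943 : sm gg N8137 = N11803 := rfl
theorem L100947 : sm gh N11803 = N8142 := ded_50_2 (flp_g L69914) (flp_h L69884) L100943
theorem L100950 : sm ge N8138 = N11804 := rfl
theorem L100970 : sm gf N8140 = N11807 := rfl
theorem L100977 : sm gh N8140 = N11808 := rfl
theorem L100991 : sm gj N8142 = N11810 := rfl
theorem L100998 : sm gd N8143 = N11811 := rfl
theorem L101006 : sm gf N8143 = N11812 := rfl
theorem L101012 : sm ge N11812 = N8281 := ded_40_1 (flp_f L71035) (flp_e L49247) (flp_f L48512) L69921 L101006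
theorem L101014 : sm gc N8144 = N11813 := rfl
theorem L101020 : sm gf N8144 = N11814 := rfl
theorem L101022 : sm gb N11814 = N8146 := ded_22_1 (flp_f L69944) (flp_b L69930) L101020
theorem L101024 : sm gd N11814 = N8145 := ded_35_1 (flp_f L69936) L69928 L101020
theorem L101044 : sm ge N8146 = N11817 := rfl
theorem L101049 : sm gf N11817 = N8163 := ded_40_2 (flp_e L70069) (flp_f L48607) (flp_e L48528) L69944 L101044
theorem L101078 : sm gd N8150 = N11822 := rfl
theorem L101080 : sm ga N11822 = N8151 := ded_12_1 (flp_d L69979) (flp_a L69973) L101078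
theorem L101084 : sm gf N8150 = N11823 := rfl
theorem L101092 : sm gc N8151 = N11824 := rfl
theorem L101096 : sm gb N11824 = N8159 := ded_19_1 (flp_c L70039) L48593 (flp_c L48564) (flp_b L69981) L101092
theorem L101099 : sm gf N8151 = N11825 := rfl
theorem L101101 : sm gb N11825 = N8153 := ded_22_1 (flp_f L69993) (flp_b L69981) L101099
theorem L101121 : sm ge N8153 = N11828 := rfl
theorem L101123 : sm gc N11828 = N8163 := ded_28_1 (flp_e L70069) (flp_c L69995) L101121
theorem L101127 : sm gg N8153 = N11829 := rfl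
theorem L101131 : sm gd N11829 = N8155 := ded_36_1 (flp_g L70006) (flp_d L69997) L101127
theorem L101149 : sm gj N8155 = N11832 := rfl
theorem L101151 : sm gc N11832 = N8156 := ded_31_1 (flp_j L70014) (flp_c L70008) L101149
theorem L101157 : sm gc N8157 = N11833 := rfl
theorem L101159 : sm ga N11833 = N8159 := ded_11_1 (flp_c L70039) (flp_a L70025) L101157
theorem L101164 : sm gf N8157 = N11834 := rfl
theorem L101166 : sm ga N11834 = N8160 := ded_14_1 (flp_f L70044) (flp_a L70025) L101164
theorem L101168 : sm gd N11834 = N8158 := ded_35_1 (flp_f L70029) L70023 L101164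
theorem L101178 : sm gg N8158 = N11836 := rfl
theorem L101183 : sm ge N11836 = N8294 := ded_41_1 (flp_g L71133) (flp_e L70037) L101178
theorem L101189 : sm gf N8159 = N11837 := rfl
theorem L101195 : sm gh N8159 = N11838 := rfl
theorem L101200 : sm ge N8160 = N11839 := rfl
theorem L101205 : sm gd N11839 = N8297 := ded_34_1 (flp_e L71157) L49325 (flp_e L48605) (flp_d L70048) L101200
theorem L101242 : sm gg N8163 = N11844 := rfl
theorem L101244 : sm gd N11844 = N8302 := ded_36_1 (flp_g L71198) (flp_d L70072) L101242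
theorem L101249 : sm gh N8163 = N11845 := rfl
theorem L101259 : sm gh N8164 = N11847 := rfl
theorem L101262 : sm gg N11847 = N8165 := ded_50_1 (flp_h L70080) L70074 L101259
theorem L101264 : sm gd N11847 = N8182 := ded_38_1 (flp_h L70215) L48696 (flp_h L48623) (flp_d L70076) L101259
theorem L101266 : sm gi N8165 = N11848 := rfl
theorem L101273 : sm gb N8168 = N11849 := rfl
theorem L101278 : sm gi N11849 = N8184 := ded_26_2 (flp_b L70228) (flp_i L70108) L101273
theorem L101280 : sm ga N11849 = N11849 := ded_10_1 (flp_b L101273) L70104 L48659 (flp_a L70104) L101273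
theorem L101281 : sm gf N8168 = N11850 := rfl
theorem L101283 : sm ga N11850 = N8172 := ded_14_1 (flp_f L70135) (flp_a L70104) L101281
theorem L101285 : sm gc N11850 = N8169 := ded_29_1 (flp_f L70111) L70102 L101281
theorem L101288 : sm gi N11850 = N8185 := ded_48_2 (flp_f L70234) (flp_i L70108) L101281
theorem L101290 : sm gh N8168 = N11851 := rfl
theorem L101298 : sm ge N8169 = N11852 := rfl
theorem L101302 : sm gi N11852 = N8187 := ded_44_2 (flp_e L70249) (flp_i L70117) L101298
theorem L101307 : sm gg N8169 = N11853 := rfl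
theorem L101313 : sm gi N11853 = N8188 := ded_51_2 (flp_g L70256) (flp_i L70117) L101307
theorem L101316 : sm gh N8169 = N11854 := rfl
theorem L101340 : sm ge N8172 = N11857 := rfl
theorem L101343 : sm gc N11857 = N8174 := ded_28_1 (flp_e L70150) (flp_c L70138) L101340
theorem L101345 : sm gi N11857 = N8192 := ded_44_2 (flp_e L70286) (flp_i L70141) L101340
theorem L101348 : sm gg N8172 = N11858 := rfl
theorem L101354 : sm gi N11858 = N8193 := ded_51_2 (flp_g L70292) (flp_i L70141) L101348
theorem L101357 : sm gh N8172 = N11859 := rfl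
theorem L101362 : sm gf N11859 = N8173 := ded_47_1 (flp_h L70143) L70135 L101357
theorem L101369 : sm gi N8173 = N11861 := rfl
theorem L101378 : sm gg N8174 = N11862 := rfl
theorem L101380 : sm gb N11862 = N8179 := ded_23_1 (flp_g L70192) (flp_b L70152) L101378
theorem L101382 : sm gd N11862 = N8320 := ded_36_1 (flp_g L71349) (flp_d L70156) L101378
theorem L101386 : sm gi N11862 = N8197 := ded_51_2 (flp_g L70319) (flp_i L70154) L101378
theorem L101388 : sm gh N8174 = N11863 := rfl
theorem L101404 : sm gh N8175 = N11865 := rfl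
theorem L101406 : sm gb N11865 = N8182 := ded_25_1 (flp_h L70215) (flp_b L70161) L101404
theorem L101409 : sm gg N11865 = N8176 := ded_50_1 (flp_h L70168) L70159 L101404
theorem L101419 : sm gf N8179 = N11867 := rfl
theorem L101424 : sm gi N11867 = N8202 := ded_48_2 (flp_f L70356) (flp_i L70199) L101419
theorem L101428 : sm gj N8179 = N11868 := rfl
theorem L101433 : sm ge N11868 = N8181 := ded_42_1 (flp_j L70207) (flp_e L70197) L101428
theorem L101435 : sm gi N11868 = N8203 := ded_53_2 (flp_j L70363) (flp_i L70199) L101428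
theorem L101437 : sm gh N8179 = N11869 := rfl
theorem L101440 : sm ge N11869 = N8182 := ded_43_1 (flp_h L70215) (flp_e L70197) L101437
theorem L101442 : sm gg N11869 = N8180 := ded_50_1 (flp_h L70201) L70192 L101437
theorem L101444 : sm gd N8180 = N11870 := rfl
theorem L101447 : sm gh N11870 = N8328 := ded_38_2 (flp_d L71415) (flp_h L49483) (flp_d L48690) L70201 L101444
theorem L101449 : sm gi N8180 = N11871 := rfl
theorem L101455 : sm gh N11871 = N8206 := ded_54_1 (flp_i L70383) (flp_h L48808) (flp_i L48688) L70201 L101449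
theorem L101463 : sm gi N8182 = N11873 := rfl
theorem L101471 : sm gf N8184 = N11874 := rfl
theorem L101474 : sm gb N11874 = N8185 := ded_22_1 (flp_f L70234) L70228 L101471
theorem L101477 : sm gh N8184 = N11875 := rfl
theorem L101484 : sm ge N8185 = N11876 := rfl
theorem L101488 : sm gc N11876 = N8187 := ded_28_1 (flp_e L70249) (flp_c L70238) L101484
theorem L101491 : sm gg N8185 = N11877 := rfl
theorem L101493 : sm ga N11877 = N8193 := ded_15_1 (flp_g L70292) (flp_a L70236) L101491
theorem L101499 : sm gh N8185 = N11878 := rfl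
theorem L101501 : sm ga N11878 = N8194 := ded_17_1 (flp_h L70299) (flp_a L70236) L101499
theorem L101507 : sm gd N8186 = N11879 := rfl
theorem L101509 : sm ga N11879 = N8195 := ded_12_1 (flp_d L70306) (flp_a L70243) L101507
theorem L101514 : sm gi N8186 = N11880 := rfl
theorem L101522 : sm gg N8187 = N11881 := rfl
theorem L101524 : sm ga N11881 = N8197 := ded_15_1 (flp_g L70319) (flp_a L70251) L101522
theorem L101528 : sm ge N11881 = N8188 := ded_41_1 (flp_g L70256) L70249 L101522
theorem L101530 : sm gh N8187 = N11882 := rfl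
theorem L101537 : sm gj N8188 = N11883 := rfl
theorem L101552 : sm gi N8189 = N11885 := rfl
theorem L101554 : sm ga N11885 = N8201 := ded_18_1 (flp_i L70349) (flp_a L70265) L101552
theorem L101557 : sm gf N11885 = N8190 := ded_48_1 (flp_i L70270) (flp_f L70267) L101552
theorem L101559 : sm gd N8192 = N11886 := rfl
theorem L101563 : sm gc N11886 = N8344 := ded_27_1 (flp_d L71539) L49580 (flp_d L48768) (flp_c L70289) L101559
theorem L101566 : sm gg N8192 = N11887 := rfl
theorem L101568 : sm gb N11887 = N11887 := ded_23_1 (flp_g L101566) L70288 L101566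
theorem L101569 : sm gc N11887 = N8197 := ded_30_1 (flp_g L70319) (flp_c L70289) L101566
theorem L101571 : sm ge N11887 = N8193 := ded_41_1 (flp_g L70292) L70286 L101566
theorem L101573 : sm gh N8192 = N11888 := rfl
theorem L101581 : sm gj N8193 = N11889 := rfl
theorem L101588 : sm gh N8193 = N11890 := rfl
theorem L101591 : sm gc N11890 = N8200 := ded_32_1 (flp_h L70341) (flp_c L70295) L101588
theorem L101594 : sm gg N11890 = N8194 := ded_50_1 (flp_h L70299) L70292 L101588
theorem L101596 : sm gd N8194 = N11891 := rfl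
theorem L101599 : sm gf N11891 = N8195 := ded_35_2 (flp_d L70306) (flp_f L70304) L101596
theorem L101603 : sm gi N8194 = N11892 := rfl
theorem L101608 : sm gf N11892 = N8196 := ded_48_1 (flp_i L70312) (flp_f L70304) L101603
theorem L101610 : sm ge N8195 = N11893 := rfl
theorem L101615 : sm gh N11893 = N11893 := ded_43_2 (flp_e L101610) L70311 L101610
theorem L101617 : sm gi N8195 = N11894 := rfl
theorem L101624 : sm gf N8197 = N11895 := rfl
theorem L101626 : sm gb N11895 = N8202 := ded_22_1 (flp_f L70356) (flp_b L70321) L101624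
theorem L101628 : sm gd N11895 = N8353 := ded_35_1 (flp_f L71615) (flp_d L70323) L101624
theorem L101632 : sm gj N8197 = N11896 := rfl
theorem L101636 : sm gd N11896 = N8354 := ded_37_1 (flp_j L71622) (flp_d L70323) L101632
theorem L101638 : sm ge N11896 = N8199 := ded_42_1 (flp_j L70334) (flp_e L70325) L101632
theorem L101640 : sm gh N8197 = N11897 := rfl
theorem L101648 : sm gd N8198 = N11898 := rfl
theorem L101650 : sm gb N11898 = N8205 := ded_20_1 (flp_d L70377) (flp_b L70329) L101648
theorem L101654 : sm gh N11898 = N8356 := ded_38_2 (flp_d L71636) (flp_h L49623) (flp_d L48768) L70327 L101648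
theorem L101679 : sm gj N8202 = N11902 := rfl
theorem L101682 : sm gd N11902 = N8360 := ded_37_1 (flp_j L71667) (flp_d L70359) L101679
theorem L101687 : sm gh N8202 = N11903 := rfl
theorem L101694 : sm gh N8203 = N11904 := rfl
theorem L101699 : sm gj N11904 = N8204 := ded_52_1 (flp_h L70370) L70363 L101694
theorem L101701 : sm gd N8204 = N11905 := rfl
theorem L101703 : sm gg N11905 = N8205 := ded_36_2 (flp_d L70377) (flp_g L70375) L101701
theorem L101706 : sm gh N11905 = N8363 := ded_38_2 (flp_d L71692) (flp_h L49667) (flp_d L48804) L70370 L101701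
theorem L101708 : sm gi N8204 = N11906 := rfl
theorem L101713 : sm gg N11906 = N8206 := ded_51_1 (flp_i L70383) (flp_g L70375) L101708
theorem L101715 : sm gc N8205 = N11907 := rfl
theorem L101719 : sm gh N11907 = N8365 := ded_32_2 (flp_c L71705) (flp_h L70381) L101715
theorem L101735 : sm ge N8209 = N11910 := rfl
theorem L101737 : sm ga N11910 = N8210 := ded_13_1 (flp_e L70414) L70403 L101735
theorem L101743 : sm gj N11910 = N8273 := ded_42_2 (flp_e L70965) (flp_j L70409) L101735
theorem L101747 : sm gd N8210 = N11911 := rfl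
theorem L101749 : sm gb N11911 = N8211 := ded_20_1 (flp_d L70425) (flp_b L70416) L101747
theorem L101752 : sm gj N11911 = N8274 := ded_37_2 (flp_d L70976) (flp_j L70421) L101747
theorem L101766 : sm gf N8211 = N11913 := rfl
theorem L101770 : sm gd N11913 = N8212 := ded_35_1 (flp_f L70434) L70425 L101766
theorem L101772 : sm gj N11913 = N8276 := ded_46_2 (flp_f L70992) (flp_j L70429) L101766
theorem L101775 : sm gh N8211 = N11914 := rfl
theorem L101781 : sm gj N11914 = N8277 := ded_52_1 (flp_h L70999) (flp_j L70429) L101775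
theorem L101784 : sm gg N8212 = N11915 := rfl
theorem L101803 : sm gd N8214 = N11917 := rfl
theorem L101807 : sm gg N11917 = N11917 := ded_36_2 (flp_d L101803) L70456 L101803
theorem L101808 : sm gj N11917 = N8280 := ded_37_2 (flp_d L71026) (flp_j L70457) L101803
theorem L101811 : sm ge N11917 = N8221 := ded_34_2 (flp_d L70511) (flp_e L48904) (flp_d L48865) L70452 L101803
theorem L101813 : sm gf N8214 = N11918 := rfl
theorem L101817 : sm gj N11918 = N8281 := ded_46_2 (flp_f L71035) (flp_j L70457) L101813
theorem L101821 : sm gc N8215 = N11919 := rfl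
theorem L101823 : sm ge N11919 = N8223 := ded_28_2 (flp_c L70529) (flp_e L70469) L101821
theorem L101825 : sm gg N11919 = N11919 := ded_30_2 (flp_c L101821) L70465 L101821
theorem L101826 : sm gj N11919 = N8282 := ded_31_2 (flp_c L71041) (flp_j L70466) L101821
theorem L101830 : sm gf N8215 = N11920 := rfl
theorem L101836 : sm gj N11920 = N8283 := ded_46_2 (flp_f L71049) (flp_j L70466) L101830
theorem L101856 : sm ge N8217 = N11923 := rfl
theorem L101864 : sm gg N8217 = N11924 := rfl
theorem L101870 : sm gf N11924 = N11924 := ded_45_1 (flp_g L101864) (flp_f L70479) L48883 L70479 L101864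
theorem L101871 : sm gh N8217 = N11925 := rfl
theorem L101879 : sm gi N8218 = N11926 := rfl
theorem L101883 : sm ge N11926 = N8230 := ded_44_1 (flp_i L70586) (flp_e L70490) L101879
theorem L101885 : sm gg N11926 = N11926 := ded_51_1 (flp_i L101879) L70492 L101879
theorem L101898 : sm gc N8221 = N11928 := rfl
theorem L101900 : sm ga N11928 = N8223 := ded_11_1 (flp_c L70529) (flp_a L70513) L101898
theorem L101903 : sm gj N11928 = N8291 := ded_31_2 (flp_c L71110) (flp_j L70516) L101898
theorem L101906 : sm gd N11928 = N11928 := ded_27_2 (flp_c L101898) (flp_d L70511) L48908 L70511 L101898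
theorem L101925 : sm gg N8222 = N11931 := rfl
theorem L101930 : sm gh N11931 = N8235 := ded_50_2 (flp_g L70634) (flp_h L70526) L101925
theorem L101934 : sm gf N8223 = N11932 := rfl
theorem L101940 : sm gj N11932 = N8295 := ded_46_2 (flp_f L71143) (flp_j L70532) L101934
theorem L101943 : sm gh N8223 = N11933 := rfl
theorem L101949 : sm gj N11933 = N8296 := ded_52_1 (flp_h L71150) (flp_j L70532) L101943
theorem L101951 : sm ge N8224 = N11934 := rfl
theorem L101955 : sm gj N11934 = N8297 := ded_42_2 (flp_e L71157) (flp_j L70543) L101951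
theorem L101966 : sm gh N8224 = N11936 := rfl
theorem L101974 : sm gd N11936 = N8240 := ded_38_1 (flp_h L70681) L49001 (flp_h L48930) (flp_d L70541) L101966
theorem L101976 : sm gi N8225 = N11937 := rfl
theorem L101983 : sm gj N11937 = N8300 := ded_53_1 (flp_i L71179) (flp_j L70551) L101976
theorem L101997 : sm gg N8227 = N11939 := rfl
theorem L102003 : sm gh N8227 = N11940 := rfl
theorem L102006 : sm ge N11940 = N8229 := ded_43_1 (flp_h L70577) L70564 L102003
theorem L102008 : sm gj N11940 = N8303 := ded_52_1 (flp_h L71204) (flp_j L70567) L102003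
theorem L102010 : sm gj N8228 = N11941 := rfl
theorem L102017 : sm gg N11941 = N8304 := ded_49_1 (flp_j L71209) (flp_g L49350) (flp_j L48938) L70570 L102010
theorem L102019 : sm gh N8228 = N11942 := rfl
theorem L102023 : sm gg N11942 = N8229 := ded_50_1 (flp_h L70577) L70570 L102019
theorem L102027 : sm gi N8229 = N11943 := rfl
theorem L102034 : sm gj N11943 = N8306 := ded_53_1 (flp_i L71226) (flp_j L70582) L102027
theorem L102037 : sm gb N8232 = N11944 := rfl
theorem L102044 : sm gi N11944 = N8248 := ded_26_2 (flp_b L70754) (flp_i L70613) L102037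
theorem L102046 : sm ga N11944 = N8508 := ded_10_1 (flp_b L72850) L50455 (flp_b L48994) (flp_a L70607) L102037
theorem L102048 : sm gf N8232 = N11945 := rfl
theorem L102055 : sm gj N11945 = N8308 := ded_46_2 (flp_f L71244) (flp_j L70611) L102048
theorem L102057 : sm gi N11945 = N8249 := ded_48_2 (flp_f L70763) (flp_i L70613) L102048
theorem L102059 : sm gh N8232 = N11946 := rfl
theorem L102061 : sm ga N11946 = N8237 := ded_17_1 (flp_h L70653) (flp_a L70607) L102059
theorem L102067 : sm gj N11946 = N8309 := ded_52_1 (flp_h L71253) (flp_j L70611) L102059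
theorem L102069 : sm ge N8233 = N11947 := rfl
theorem L102071 : sm ga N11947 = N8238 := ded_13_1 (flp_e L70663) (flp_a L70618) L102069
theorem L102073 : sm gj N11947 = N8310 := ded_42_2 (flp_e L71262) (flp_j L70622) L102069
theorem L102075 : sm gi N11947 = N8251 := ded_44_2 (flp_e L70782) (flp_i L70624) L102069
theorem L102078 : sm gg N8233 = N11948 := rfl
theorem L102080 : sm ga N11948 = N8239 := ded_15_1 (flp_g L70672) (flp_a L70618) L102078
theorem L102105 : sm gj N8235 = N11951 := rfl
theorem L102111 : sm gi N11951 = N8255 := ded_53_2 (flp_j L70814) (flp_i L70639) L102105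
theorem L102115 : sm ge N8236 = N11952 := rfl
theorem L102117 : sm gb N11952 = N8516 := ded_21_1 (flp_e L72931) (flp_b L70644) L102115
theorem L102119 : sm gc N11952 = N8238 := ded_28_1 (flp_e L70663) (flp_c L70646) L102115
theorem L102121 : sm gj N11952 = N8315 := ded_42_2 (flp_e L71303) (flp_j L70649) L102115
theorem L102123 : sm gi N11952 = N8256 := ded_44_2 (flp_e L70823) (flp_i L70651) L102115
theorem L102126 : sm gg N8236 = N11953 := rfl
theorem L102128 : sm gb N11953 = N8517 := ded_23_1 (flp_g L72940) (flp_b L70644) L102126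
theorem L102133 : sm gi N11953 = N8257 := ded_51_2 (flp_g L70832) (flp_i L70651) L102126
theorem L102136 : sm gh N8236 = N11954 := rfl
theorem L102138 : sm gb N11954 = N8518 := ded_25_1 (flp_h L72948) (flp_b L70644) L102136
theorem L102140 : sm gc N11954 = N8240 := ded_32_1 (flp_h L70681) (flp_c L70646) L102136
theorem L102146 : sm gd N8237 = N11955 := rfl
theorem L102148 : sm gb N11955 = N8519 := ded_20_1 (flp_d L72956) (flp_b L70655) L102146
theorem L102151 : sm gj N11955 = N8318 := ded_37_2 (flp_d L71331) (flp_j L70661) L102146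
theorem L102166 : sm gg N8238 = N11957 := rfl
theorem L102170 : sm ge N11957 = N8239 := ded_41_1 (flp_g L70672) L70663 L102166
theorem L102172 : sm gi N11957 = N8261 := ded_51_2 (flp_g L70869) (flp_i L70669) L102166
theorem L102174 : sm gh N8238 = N11958 := rfl
theorem L102178 : sm ge N11958 = N8240 := ded_43_1 (flp_h L70681) L70663 L102174
theorem L102183 : sm gj N8239 = N11959 := rfl
theorem L102185 : sm gb N11959 = N8245 := ded_24_1 (flp_j L70726) (flp_b L70674) L102183
theorem L102190 : sm gi N11959 = N8263 := ded_53_2 (flp_j L70884) (flp_i L70678) L102183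
theorem L102201 : sm gi N8240 = N11961 := rfl
theorem L102203 : sm gb N11961 = N8247 := ded_26_1 (flp_i L70744) (flp_b L70683) L102201
theorem L102207 : sm gj N11961 = N8324 := ded_53_1 (flp_i L71382) (flp_j L70687) L102201
theorem L102209 : sm gh N11961 = N8265 := ded_54_1 (flp_i L70901) (flp_h L49134) (flp_i L49005) L70681 L102201
theorem L102211 : sm gf N8243 = N11962 := rfl
theorem L102213 : sm gc N11962 = N8526 := ded_29_1 (flp_f L73021) (flp_c L70711) L102211
theorem L102215 : sm gi N11962 = N8266 := ded_48_2 (flp_f L70910) (flp_i L70715) L102211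
theorem L102219 : sm gj N8243 = N11963 := rfl
theorem L102225 : sm gi N11963 = N8267 := ded_53_2 (flp_j L70916) (flp_i L70715) L102219
theorem L102227 : sm gg N11963 = N8326 := ded_49_1 (flp_j L71399) (flp_g L49475) (flp_j L49027) L70709 L102219
theorem L102229 : sm gh N8243 = N11964 := rfl
theorem L102231 : sm gc N11964 = N8528 := ded_32_1 (flp_h L73037) (flp_c L70711) L102229
theorem L102235 : sm gg N11964 = N8244 := ded_50_1 (flp_h L70717) L70709 L102229
theorem L102237 : sm gd N8244 = N11965 := rfl
theorem L102240 : sm gj N11965 = N8328 := ded_37_2 (flp_d L71415) (flp_j L70724) L102237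
theorem L102242 : sm gi N8244 = N11966 := rfl
theorem L102244 : sm gc N11966 = N8530 := ded_33_1 (flp_i L73050) (flp_c L70719) L102242
theorem L102246 : sm ge N11966 = N8247 := ded_44_1 (flp_i L70744) (flp_e L70721) L102242
theorem L102251 : sm gh N11966 = N8270 := ded_54_1 (flp_i L70938) (flp_h L49167) (flp_i L49029) L70717 L102242
theorem L102253 : sm gh N8245 = N11967 := rfl
theorem L102271 : sm gf N8248 = N11969 := rfl
theorem L102273 : sm ga N11969 = N8533 := ded_14_1 (flp_f L73075) (flp_a L70761) L102271
theorem L102278 : sm gj N11969 = N8332 := ded_46_2 (flp_f L71445) (flp_j L70759) L102271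
theorem L102290 : sm ge N8249 = N11971 := rfl
theorem L102292 : sm ga N11971 = N8256 := ded_13_1 (flp_e L70823) (flp_a L70765) L102290
theorem L102296 : sm gj N11971 = N8334 := ded_42_2 (flp_e L71461) (flp_j L70770) L102290
theorem L102299 : sm gg N8249 = N11972 := rfl
theorem L102307 : sm gh N8249 = N11973 := rfl
theorem L102315 : sm gj N11973 = N8336 := ded_52_1 (flp_h L71477) (flp_j L70770) L102307
theorem L102317 : sm gd N8250 = N11974 := rfl
theorem L102322 : sm gj N11974 = N8337 := ded_37_2 (flp_d L71485) (flp_j L70780) L102317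
theorem L102326 : sm gi N8250 = N11975 := rfl
theorem L102336 : sm gg N8251 = N11976 := rfl
theorem L102338 : sm ga N11976 = N8261 := ded_15_1 (flp_g L70869) (flp_a L70784) L102336
theorem L102342 : sm gh N8251 = N11977 := rfl
theorem L102344 : sm ga N11977 = N8262 := ded_17_1 (flp_h L70875) (flp_a L70784) L102342
theorem L102346 : sm ge N11977 = N8253 := ded_43_1 (flp_h L70796) L70782 L102342
theorem L102349 : sm gj N11977 = N8340 := ded_52_1 (flp_h L71508) (flp_j L70786) L102342
theorem L102360 : sm gh N8252 = N11979 := rfl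
theorem L102362 : sm ga N11979 = N8264 := ded_17_1 (flp_h L70893) (flp_a L70791) L102360
theorem L102368 : sm gi N8253 = N11980 := rfl
theorem L102377 : sm gd N8256 = N11981 := rfl
theorem L102382 : sm gj N11981 = N8344 := ded_37_2 (flp_d L71539) (flp_j L70829) L102377
theorem L102385 : sm gg N8256 = N11982 := rfl
theorem L102387 : sm gb N11982 = N8546 := ded_23_1 (flp_g L73188) (flp_b L70825) L102385
theorem L102389 : sm gc N11982 = N8261 := ded_30_1 (flp_g L70869) (flp_c L70827) L102385
theorem L102393 : sm gh N8256 = N11983 := rfl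
theorem L102402 : sm gj N11983 = N8346 := ded_52_1 (flp_h L71553) (flp_j L70829) L102393
theorem L102404 : sm gj N8257 = N11984 := rfl
theorem L102406 : sm gb N11984 = N8548 := ded_24_1 (flp_j L73203) (flp_b L70834) L102404
theorem L102408 : sm gc N11984 = N8263 := ded_31_1 (flp_j L70884) (flp_c L70836) L102404
theorem L102433 : sm gi N8258 = N11987 := rfl
theorem L102435 : sm gb N11987 = N8551 := ded_26_1 (flp_i L73227) (flp_b L70842) L102433
theorem L102437 : sm gc N11987 = N8265 := ded_33_1 (flp_i L70901) (flp_c L70844) L102433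
theorem L102463 : sm gf N8261 = N11990 := rfl
theorem L102465 : sm gb N11990 = N8266 := ded_22_1 (flp_f L70910) (flp_b L70871) L102463
theorem L102469 : sm gj N8261 = N11991 := rfl
theorem L102471 : sm gb N11991 = N8267 := ded_24_1 (flp_j L70916) (flp_b L70871) L102469
theorem L102477 : sm gh N8261 = N11992 := rfl
theorem L102481 : sm ge N11992 = N8264 := ded_43_1 (flp_h L70893) (flp_e L70873) L102477
theorem L102483 : sm gg N11992 = N8262 := ded_50_1 (flp_h L70875) L70869 L102477
theorem L102485 : sm gd N8262 = N11993 := rfl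
theorem L102490 : sm gj N11993 = N8356 := ded_37_2 (flp_d L71636) (flp_j L70882) L102485
theorem L102502 : sm gh N8263 = N11995 := rfl
theorem L102504 : sm gb N11995 = N8271 := ded_25_1 (flp_h L70947) (flp_b L70886) L102502
theorem L102509 : sm gj N11995 = N8264 := ded_52_1 (flp_h L70893) L70884 L102502
theorem L102512 : sm gi N8264 = N11996 := rfl
theorem L102518 : sm gg N11996 = N8265 := ded_51_1 (flp_i L70901) (flp_g L70898) L102512
theorem L102520 : sm gj N8266 = N11997 := rfl
theorem L102525 : sm gf N11997 = N8267 := ded_46_1 (flp_j L70916) L70910 L102520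
theorem L102527 : sm gh N8266 = N11998 := rfl
theorem L102529 : sm gc N11998 = N8562 := ded_32_1 (flp_h L73322) (flp_c L70912) L102527
theorem L102532 : sm gf N11998 = N8268 := ded_47_1 (flp_h L70924) L70910 L102527
theorem L102535 : sm gh N8267 = N11999 := rfl
theorem L102541 : sm gg N11999 = N8362 := ded_50_1 (flp_h L71684) (flp_g L70922) L102535
theorem L102543 : sm gj N11999 = N8268 := ded_52_1 (flp_h L70924) L70916 L102535
theorem L102545 : sm gd N8268 = N12000 := rfl
theorem L102547 : sm gg N12000 = N8269 := ded_36_2 (flp_d L70932) (flp_g L70930) L102545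
theorem L102550 : sm gi N8268 = N12001 := rfl
theorem L102556 : sm gg N12001 = N8270 := ded_51_1 (flp_i L70938) (flp_g L70930) L102550
theorem L102558 : sm gc N8269 = N12002 := rfl
theorem L102562 : sm gj N12002 = N8365 := ded_31_2 (flp_c L71705) (flp_j L70935) L102558
theorem L102584 : sm gd N8273 = N12005 := rfl
theorem L102589 : sm gg N12005 = N8368 := ded_36_2 (flp_d L71726) (flp_g L70972) L102584
theorem L102593 : sm gf N8273 = N12006 := rfl
theorem L102595 : sm ga N12006 = N8275 := ded_14_1 (flp_f L70984) (flp_a L70967) L102593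
theorem L102602 : sm gc N8274 = N12007 := rfl
theorem L102605 : sm gg N12007 = N8370 := ded_30_2 (flp_c L71745) (flp_g L70980) L102602
theorem L102611 : sm gf N8274 = N12008 := rfl
theorem L102615 : sm gd N12008 = N8275 := ded_35_1 (flp_f L70984) L70976 L102611
theorem L102618 : sm gh N8274 = N12009 := rfl
theorem L102626 : sm gg N8275 = N12010 := rfl
theorem L102634 : sm gf N12010 = N8373 := ded_45_1 (flp_g L71768) (flp_f L49721) (flp_g L49218) L70984 L102626
theorem L102636 : sm ge N8276 = N12011 := rfl
theorem L102642 : sm gg N8276 = N12012 := rfl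
theorem L102649 : sm gf N12012 = N8375 := ded_45_1 (flp_g L71785) (flp_f L49731) (flp_g L49225) L70992 L102642
theorem L102651 : sm gh N8276 = N12013 := rfl
theorem L102658 : sm gi N8277 = N12014 := rfl
theorem L102664 : sm gg N12014 = N8377 := ded_51_1 (flp_i L71800) (flp_g L71004) L102658
theorem L102676 : sm gc N8280 = N12016 := rfl
theorem L102682 : sm gg N12016 = N8379 := ded_30_2 (flp_c L71817) (flp_g L71030) L102676
theorem L102685 : sm gf N8280 = N12017 := rfl
theorem L102692 : sm gh N8280 = N12018 := rfl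
theorem L102698 : sm gg N12018 = N8381 := ded_50_1 (flp_h L71833) (flp_g L71030) L102692
theorem L102701 : sm gg N8281 = N12019 := rfl
theorem L102709 : sm gf N8282 = N12020 := rfl
theorem L102715 : sm gh N8282 = N12021 := rfl
theorem L102722 : sm gg N12021 = N8384 := ded_50_1 (flp_h L71855) (flp_g L71045) L102715
theorem L102724 : sm ge N8283 = N12022 := rfl
theorem L102726 : sm gb N12022 = N8286 := ded_21_1 (flp_e L71073) (flp_b L71051) L102724
theorem L102729 : sm gf N12022 = N8297 := ded_40_2 (flp_e L71157) (flp_f L49321) (flp_e L49262) L71049 L102724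
theorem L102771 : sm gh N8286 = N12028 := rfl
theorem L102778 : sm gj N8287 = N12029 := rfl
theorem L102786 : sm gh N8287 = N12030 := rfl
theorem L102789 : sm gf N12030 = N8393 := ded_47_1 (flp_h L71926) (flp_f L71085) L102786
theorem L102801 : sm gb N8291 = N12032 := rfl
theorem L102804 : sm gg N12032 = N8395 := ded_23_2 (flp_b L71940) (flp_g L71114) L102801
theorem L102808 : sm gf N8291 = N12033 := rfl
theorem L102812 : sm gc N12033 = N8292 := ded_29_1 (flp_f L71118) L71110 L102808
theorem L102816 : sm gh N8291 = N12034 := rfl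
theorem L102824 : sm ge N8292 = N12035 := rfl
theorem L102829 : sm gg N8292 = N12036 := rfl
theorem L102833 : sm gd N12036 = N8294 := ded_36_1 (flp_g L71133) (flp_d L71122) L102829
theorem L102836 : sm gf N12036 = N8399 := ded_45_1 (flp_g L71969) (flp_f L49854) (flp_g L49303) L71118 L102829
theorem L102838 : sm gh N8292 = N12037 := rfl
theorem L102844 : sm gd N12037 = N8312 := ded_38_1 (flp_h L71279) L49396 (flp_h L49311) (flp_d L71122) L102838
theorem L102855 : sm gj N8294 = N12039 := rfl
theorem L102862 : sm gh N12039 = N8314 := ded_52_2 (flp_j L71294) (flp_h L71138) L102855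
theorem L102865 : sm ge N8295 = N12040 := rfl
theorem L102868 : sm gc N12040 = N8297 := ded_28_1 (flp_e L71157) (flp_c L71146) L102865
theorem L102871 : sm gg N8295 = N12041 := rfl
theorem L102874 : sm gc N12041 = N8298 := ded_30_1 (flp_g L71162) (flp_c L71146) L102871
theorem L102878 : sm gf N12041 = N8404 := ded_45_1 (flp_g L72010) (flp_f L49878) (flp_g L49316) L71143 L102871
theorem L102880 : sm gh N8295 = N12042 := rfl
theorem L102887 : sm gd N8296 = N12043 := rfl
theorem L102890 : sm gg N12043 = N8406 := ded_36_2 (flp_d L72025) (flp_g L71155) L102887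
theorem L102892 : sm gc N12043 = N8318 := ded_27_1 (flp_d L71331) L49429 (flp_d L49334) (flp_c L71153) L102887
theorem L102903 : sm gg N8297 = N12045 := rfl
theorem L102910 : sm gh N8297 = N12046 := rfl
theorem L102925 : sm gh N8298 = N12048 := rfl
theorem L102929 : sm gf N12048 = N8411 := ded_47_1 (flp_h L72062) (flp_f L71169) L102925
theorem L102933 : sm gd N12048 = N8323 := ded_38_1 (flp_h L71374) L49445 (flp_h L49341) (flp_d L71166) L102925
theorem L102950 : sm gj N8302 = N12051 := rfl
theorem L102956 : sm gh N8302 = N12052 := rfl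
theorem L102963 : sm gd N8303 = N12053 := rfl
theorem L102967 : sm gi N8303 = N12054 := rfl
theorem L102973 : sm gh N8304 = N12055 := rfl
theorem L102980 : sm gd N12055 = N8330 := ded_38_1 (flp_h L71427) L49494 (flp_h L49379) (flp_d L71212) L102973
theorem L102992 : sm gf N8307 = N12057 := rfl
theorem L102996 : sm gb N12057 = N8308 := ded_22_1 (flp_f L71244) L71234 L102992
theorem L102999 : sm gi N12057 = N8332 := ded_48_2 (flp_f L71445) (flp_i L71240) L102992
theorem L103001 : sm gh N8307 = N12058 := rfl
theorem L103005 : sm gb N12058 = N8309 := ded_25_1 (flp_h L71253) L71234 L103001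
theorem L103008 : sm gg N12058 = N8421 := ded_50_1 (flp_h L72139) (flp_g L71238) L103001
theorem L103010 : sm ge N8308 = N12059 := rfl
theorem L103016 : sm gi N12059 = N8334 := ded_44_2 (flp_e L71461) (flp_i L71251) L103010
theorem L103019 : sm gg N8308 = N12060 := rfl
theorem L103026 : sm gi N12060 = N8335 := ded_51_2 (flp_g L71468) (flp_i L71251) L103019
theorem L103028 : sm gf N12060 = N8423 := ded_45_1 (flp_g L72157) (flp_f L49978) (flp_g L49387) L71244 L103019
theorem L103030 : sm gh N8308 = N12061 := rfl
theorem L103036 : sm gf N12061 = N8309 := ded_47_1 (flp_h L71253) L71244 L103030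
theorem L103038 : sm gd N8309 = N12062 := rfl
theorem L103042 : sm gg N12062 = N8425 := ded_36_2 (flp_d L72175) (flp_g L71260) L103038
theorem L103056 : sm gg N8310 = N12064 := rfl
theorem L103060 : sm ge N12064 = N8311 := ded_41_1 (flp_g L71269) L71262 L103056
theorem L103062 : sm gi N12064 = N8339 := ded_51_2 (flp_g L71502) (flp_i L71266) L103056
theorem L103064 : sm gh N8310 = N12065 := rfl
theorem L103068 : sm ge N12065 = N8312 := ded_43_1 (flp_h L71279) L71262 L103064
theorem L103071 : sm gj N8311 = N12066 := rfl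
theorem L103075 : sm gd N12066 = N8314 := ded_37_1 (flp_j L71294) (flp_d L71273) L103071
theorem L103081 : sm gh N8311 = N12067 := rfl
theorem L103087 : sm gg N12067 = N8312 := ded_50_1 (flp_h L71279) L71269 L103081
theorem L103089 : sm gi N8312 = N12068 := rfl
theorem L103093 : sm gf N12068 = N8313 := ded_48_1 (flp_i L71285) (flp_f L71283) L103089
theorem L103097 : sm gd N8315 = N12069 := rfl
theorem L103102 : sm gi N12069 = N8344 := ded_39_2 (flp_d L71539) (flp_i L71309) L103097
theorem L103105 : sm gg N8315 = N12070 := rfl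
theorem L103109 : sm gc N12070 = N8320 := ded_30_1 (flp_g L71349) (flp_c L71307) L103105
theorem L103113 : sm gi N12070 = N8345 := ded_51_2 (flp_g L71545) (flp_i L71309) L103105
theorem L103115 : sm gh N8315 = N12071 := rfl
theorem L103117 : sm gb N12071 = N8583 := ded_25_1 (flp_h L73495) (flp_b L71305) L103115
theorem L103135 : sm gh N8316 = N12073 := rfl
theorem L103137 : sm gb N12073 = N8585 := ded_25_1 (flp_h L73511) (flp_b L71314) L103135
theorem L103139 : sm gc N12073 = N8323 := ded_32_1 (flp_h L71374) (flp_c L71316) L103135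
theorem L103162 : sm ge N8318 = N12076 := rfl
theorem L103166 : sm gg N12076 = N8439 := ded_41_2 (flp_e L72299) (flp_g L71335) L103162
theorem L103178 : sm gf N8320 = N12078 := rfl
theorem L103180 : sm gb N12078 = N8325 := ded_22_1 (flp_f L71390) (flp_b L71351) L103178
theorem L103182 : sm gi N12078 = N8353 := ded_48_2 (flp_f L71615) (flp_i L71355) L103178
theorem L103184 : sm ge N12078 = N8441 := ded_40_1 (flp_f L72313) L50086 (flp_f L49449) (flp_e L71353) L103178
theorem L103187 : sm gj N8320 = N12079 := rfl
theorem L103195 : sm gh N8320 = N12080 := rfl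
theorem L103225 : sm gi N8323 = N12084 := rfl
theorem L103233 : sm gh N12084 = N8359 := ded_54_1 (flp_i L71658) (flp_h L49638) (flp_i L49447) L71374 L103225
theorem L103235 : sm gj N8325 = N12085 := rfl
theorem L103237 : sm gc N12085 = N8597 := ded_31_1 (flp_j L73610) (flp_c L71392) L103235
theorem L103243 : sm gi N12085 = N8360 := ded_53_2 (flp_j L71667) (flp_i L71394) L103235
theorem L103245 : sm gh N8325 = N12086 := rfl
theorem L103247 : sm gc N12086 = N8598 := ded_32_1 (flp_h L73619) (flp_c L71392) L103245
theorem L103254 : sm gh N8326 = N12087 := rfl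
theorem L103256 : sm gc N12087 = N8599 := ded_32_1 (flp_h L73626) (flp_c L71401) L103254
theorem L103258 : sm ge N12087 = N8330 := ded_43_1 (flp_h L71427) (flp_e L71403) L103254
theorem L103260 : sm gj N12087 = N8327 := ded_52_1 (flp_h L71407) L71399 L103254
theorem L103262 : sm gd N8327 = N12088 := rfl
theorem L103276 : sm gc N8328 = N12090 := rfl
theorem L103281 : sm gi N8328 = N12091 := rfl
theorem L103286 : sm gi N8330 = N12092 := rfl
theorem L103292 : sm gj N12092 = N8331 := ded_53_1 (flp_i L71435) (flp_j L71433) L103286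
theorem L103296 : sm ge N8332 = N12093 := rfl
theorem L103298 : sm ga N12093 = N8605 := ded_13_1 (flp_e L73666) (flp_a L71447) L103296
theorem L103300 : sm gb N12093 = N8334 := ded_21_1 (flp_e L71461) (flp_b L71449) L103296
theorem L103303 : sm gg N8332 = N12094 := rfl
theorem L103305 : sm ga N12094 = N8606 := ded_15_1 (flp_g L73671) (flp_a L71447) L103303
theorem L103338 : sm gd N8334 = N12098 := rfl
theorem L103344 : sm gg N8334 = N12099 := rfl
theorem L103350 : sm ge N12099 = N8335 := ded_41_1 (flp_g L71468) L71461 L103344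
theorem L103352 : sm gh N8334 = N12100 := rfl
theorem L103356 : sm gc N12100 = N8340 := ded_32_1 (flp_h L71508) (flp_c L71465) L103352
theorem L103358 : sm ge N12100 = N8336 := ded_43_1 (flp_h L71477) L71461 L103352
theorem L103370 : sm gh N8335 = N12102 := rfl
theorem L103378 : sm gg N12102 = N8336 := ded_50_1 (flp_h L71477) L71468 L103370
theorem L103380 : sm gd N8336 = N12103 := rfl
theorem L103396 : sm ge N8337 = N12105 := rfl
theorem L103401 : sm gg N12105 = N8468 := ded_41_2 (flp_e L72533) (flp_g L71489) L103396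
theorem L103414 : sm gf N8339 = N12107 := rfl
theorem L103421 : sm gj N8339 = N12108 := rfl
theorem L103427 : sm gh N8339 = N12109 := rfl
theorem L103435 : sm gd N8340 = N12110 := rfl
theorem L103437 : sm ga N12110 = N8356 := ded_12_1 (flp_d L71636) (flp_a L71510) L103435
theorem L103466 : sm gg N8344 = N12114 := rfl
theorem L103468 : sm gb N12114 = N8626 := ded_23_1 (flp_g L73836) (flp_b L71541) L103466
theorem L103470 : sm gd N12114 = N8345 := ded_36_1 (flp_g L71545) L71539 L103466
theorem L103473 : sm gh N8344 = N12115 := rfl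
theorem L103475 : sm gb N12115 = N8627 := ded_25_1 (flp_h L73842) (flp_b L71541) L103473
theorem L103479 : sm gf N8345 = N12116 := rfl
theorem L103481 : sm gb N12116 = N8628 := ded_22_1 (flp_f L73847) (flp_b L71547) L103479
theorem L103483 : sm gc N12116 = N8353 := ded_29_1 (flp_f L71615) (flp_c L71549) L103479
theorem L103485 : sm ge N12116 = N8479 := ded_40_1 (flp_f L72618) L50284 (flp_f L49590) (flp_e L71551) L103479
theorem L103488 : sm gj N8345 = N12117 := rfl
theorem L103496 : sm gh N8345 = N12118 := rfl
theorem L103500 : sm gc N12118 = N8355 := ded_32_1 (flp_h L71628) (flp_c L71549) L103496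
theorem L103504 : sm gg N12118 = N8346 := ded_50_1 (flp_h L71553) L71545 L103496
theorem L103506 : sm gd N8346 = N12119 := rfl
theorem L103511 : sm gi N8346 = N12120 := rfl
theorem L103515 : sm gc N12120 = N8357 := ded_33_1 (flp_i L71642) (flp_c L71557) L103511
theorem L103520 : sm gh N8347 = N12121 := rfl
theorem L103526 : sm gf N12121 = N8484 := ded_47_1 (flp_h L72660) (flp_f L71569) L103520
theorem L103540 : sm gi N8348 = N12123 := rfl
theorem L103542 : sm gb N12123 = N8635 := ded_26_1 (flp_i L73895) (flp_b L71573) L103540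
theorem L103544 : sm gc N12123 = N8359 := ded_33_1 (flp_i L71658) (flp_c L71575) L103540
theorem L103590 : sm gj N8353 = N12129 := rfl
theorem L103592 : sm gb N12129 = N8360 := ded_24_1 (flp_j L71667) (flp_b L71617) L103590
theorem L103598 : sm gh N8353 = N12130 := rfl
theorem L103600 : sm gb N12130 = N8361 := ded_25_1 (flp_h L71675) (flp_b L71617) L103598
theorem L103602 : sm ge N12130 = N8493 := ded_43_1 (flp_h L72733) (flp_e L71619) L103598
theorem L103604 : sm gf N12130 = N8355 := ded_47_1 (flp_h L71628) L71615 L103598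
theorem L103607 : sm gh N8354 = N12131 := rfl
theorem L103609 : sm gb N12131 = N8362 := ded_25_1 (flp_h L71684) (flp_b L71624) L103607
theorem L103613 : sm gj N12131 = N8355 := ded_52_1 (flp_h L71628) L71622 L103607
theorem L103615 : sm gd N8355 = N12132 := rfl
theorem L103619 : sm gg N12132 = N8356 := ded_36_2 (flp_d L71636) (flp_g L71634) L103615
theorem L103630 : sm gc N8356 = N12134 := rfl
theorem L103634 : sm gi N8356 = N12135 := rfl
theorem L103651 : sm gg N8360 = N12137 := rfl
theorem L103653 : sm gc N12137 = N8649 := ded_30_1 (flp_g L74006) (flp_c L71669) L103651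
theorem L103658 : sm gh N8360 = N12138 := rfl
theorem L103662 : sm ge N12138 = N8501 := ded_43_1 (flp_h L72796) (flp_e L71671) L103658
theorem L103664 : sm gf N12138 = N8362 := ded_47_1 (flp_h L71684) (flp_f L71673) L103658
theorem L103668 : sm gd N8361 = N12139 := rfl
theorem L103673 : sm gi N8361 = N12140 := rfl
theorem L103682 : sm gd N8362 = N12141 := rfl
theorem L103684 : sm gj N12141 = N8363 := ded_37_2 (flp_d L71692) (flp_j L71690) L103682
theorem L103687 : sm gi N8362 = N12142 := rfl
theorem L103693 : sm gj N12142 = N8364 := ded_53_1 (flp_i L71697) (flp_j L71690) L103687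
theorem L103695 : sm gc N8363 = N12143 := rfl
theorem L103698 : sm gg N12143 = N8365 := ded_30_2 (flp_c L71705) (flp_g L71694) L103695
theorem L103709 : sm gb N8365 = N12145 := rfl
theorem L103711 : sm gd N12145 = N8657 := ded_20_2 (flp_b L74062) (flp_d L71709) L103709
theorem L103715 : sm gi N8365 = N12146 := rfl
theorem L103727 : sm gc N8368 = N12148 := rfl
theorem L103729 : sm ga N12148 = N8370 := ded_11_1 (flp_c L71745) (flp_a L71728) L103727
theorem L103734 : sm gd N12148 = N8379 := ded_27_2 (flp_c L71817) (flp_d L49764) (flp_c L49709) L71726 L103727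
theorem L103736 : sm gf N8368 = N12149 := rfl
theorem L103738 : sm ga N12149 = N8371 := ded_14_1 (flp_f L71753) (flp_a L71728) L103736
theorem L103745 : sm gh N8368 = N12150 := rfl
theorem L103763 : sm gf N8370 = N12152 := rfl
theorem L103766 : sm gc N12152 = N8371 := ded_29_1 (flp_f L71753) L71745 L103763
theorem L103768 : sm gd N12152 = N8383 := ded_35_1 (flp_f L71848) (flp_d L71751) L103763
theorem L103770 : sm gj N12152 = N12152 := ded_46_2 (flp_f L103763) L71748 L103763
theorem L103772 : sm gh N8370 = N12153 := rfl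
theorem L103779 : sm ge N8371 = N12154 := rfl
theorem L103787 : sm gg N8371 = N12155 := rfl
theorem L103794 : sm gh N8371 = N12156 := rfl
theorem L103810 : sm gj N8373 = N12158 := rfl
theorem L103812 : sm gb N12158 = N8378 := ded_24_1 (flp_j L71808) (flp_b L71770) L103810
theorem L103820 : sm gg N8374 = N12159 := rfl
theorem L103825 : sm ge N12159 = N8375 := ded_41_1 (flp_g L71785) L71777 L103820
theorem L103828 : sm gh N8374 = N12160 := rfl
theorem L103832 : sm ge N12160 = N8376 := ded_43_1 (flp_h L71792) L71777 L103828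
theorem L103836 : sm gj N8375 = N12161 := rfl
theorem L103843 : sm gg N12161 = N12161 := ded_49_1 (flp_j L103836) (flp_g L71785) L49737 L71785 L103836
theorem L103844 : sm gh N8375 = N12162 := rfl
theorem L103848 : sm gg N12162 = N8376 := ded_50_1 (flp_h L71792) L71785 L103844
theorem L103851 : sm gi N8376 = N12163 := rfl
theorem L103856 : sm gf N12163 = N8377 := ded_48_1 (flp_i L71800) (flp_f L71796) L103851
theorem L103860 : sm gb N8379 = N12164 := rfl
theorem L103862 : sm ge N12164 = N8395 := ded_21_2 (flp_b L71940) (flp_e L71821) L103860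
theorem L103867 : sm gf N8379 = N12165 := rfl
theorem L103871 : sm gc N12165 = N8380 := ded_29_1 (flp_f L71825) L71817 L103867
theorem L103884 : sm ge N8380 = N12167 := rfl
theorem L103893 : sm gg N8380 = N12168 := rfl
theorem L103895 : sm ga N12168 = N8386 := ded_15_1 (flp_g L71872) (flp_a L71827) L103893
theorem L103900 : sm gh N8380 = N12169 := rfl
theorem L103902 : sm ga N12169 = N8387 := ded_17_1 (flp_h L71879) (flp_a L71827) L103900
theorem L103908 : sm gi N8381 = N12170 := rfl
theorem L103925 : sm ge N8383 = N12172 := rfl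
theorem L103928 : sm gc N12172 = N8385 := ded_28_1 (flp_e L71863) (flp_c L71851) L103925
theorem L103932 : sm gf N12172 = N8403 := ded_40_2 (flp_e L72003) (flp_f L49878) (flp_e L49782) L71848 L103925
theorem L103934 : sm gg N8383 = N12173 := rfl
theorem L103937 : sm gc N12173 = N8386 := ded_30_1 (flp_g L71872) (flp_c L71851) L103934
theorem L103940 : sm gh N8383 = N12174 := rfl
theorem L103943 : sm gc N12174 = N8387 := ded_32_1 (flp_h L71879) (flp_c L71851) L103940
theorem L103948 : sm gd N8384 = N12175 := rfl
theorem L103953 : sm gi N8384 = N12176 := rfl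
theorem L103962 : sm gg N8385 = N12177 := rfl
theorem L103964 : sm gb N12177 = N8390 := ded_23_1 (flp_g L71904) (flp_b L71865) L103962
theorem L103970 : sm gh N8385 = N12178 := rfl
theorem L103972 : sm gb N12178 = N8391 := ded_25_1 (flp_h L71911) (flp_b L71865) L103970
theorem L103979 : sm gj N8386 = N12179 := rfl
theorem L103994 : sm gi N8387 = N12181 := rfl
theorem L104003 : sm gf N8390 = N12182 := rfl
theorem L104008 : sm gg N12182 = N8413 := ded_45_2 (flp_f L72080) (flp_g L49933) (flp_f L49816) L71904 L104003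
theorem L104010 : sm gj N8390 = N12183 := rfl
theorem L104014 : sm ge N12183 = N8392 := ded_42_1 (flp_j L71919) (flp_e L71908) L104010
theorem L104018 : sm gh N8390 = N12184 := rfl
theorem L104025 : sm gd N8391 = N12185 := rfl
theorem L104027 : sm gf N12185 = N8416 := ded_35_2 (flp_d L72100) (flp_f L71916) L104025
theorem L104032 : sm gi N8391 = N12186 := rfl
theorem L104037 : sm gf N12186 = N8417 := ded_48_1 (flp_i L72106) (flp_f L71916) L104032
theorem L104048 : sm gi N8393 = N12188 := rfl
theorem L104055 : sm gf N8395 = N12189 := rfl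
theorem L104058 : sm gb N12189 = N8396 := ded_22_1 (flp_f L71946) L71940 L104055
theorem L104063 : sm gh N8395 = N12190 := rfl
theorem L104069 : sm ge N8396 = N12191 := rfl
theorem L104071 : sm ga N12191 = N8403 := ded_13_1 (flp_e L72003) (flp_a L71948) L104069
theorem L104073 : sm gc N12191 = N8398 := ded_28_1 (flp_e L71962) (flp_c L71950) L104069
theorem L104077 : sm gg N8396 = N12192 := rfl
theorem L104085 : sm gh N8396 = N12193 := rfl
theorem L104089 : sm gc N12193 = N8400 := ded_32_1 (flp_h L71976) (flp_c L71950) L104085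
theorem L104110 : sm gg N8398 = N12196 := rfl
theorem L104115 : sm ge N12196 = N8399 := ded_41_1 (flp_g L71969) L71962 L104110
theorem L104118 : sm gh N8398 = N12197 := rfl
theorem L104122 : sm ge N12197 = N8400 := ded_43_1 (flp_h L71976) L71962 L104118
theorem L104125 : sm gj N8399 = N12198 := rfl
theorem L104141 : sm gi N8400 = N12200 := rfl
theorem L104151 : sm gd N8403 = N12201 := rfl
theorem L104158 : sm gg N8403 = N12202 := rfl
theorem L104166 : sm gh N8403 = N12203 := rfl
theorem L104171 : sm ge N12203 = N8405 := ded_43_1 (flp_h L72017) L72003 L104166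
theorem L104174 : sm gj N8404 = N12204 := rfl
theorem L104182 : sm gh N8404 = N12205 := rfl
theorem L104187 : sm gg N12205 = N8405 := ded_50_1 (flp_h L72017) L72010 L104182
theorem L104189 : sm gd N8405 = N12206 := rfl
theorem L104192 : sm gf N12206 = N8406 := ded_35_2 (flp_d L72025) (flp_f L72022) L104189
theorem L104195 : sm gc N12206 = N8437 := ded_27_1 (flp_d L72280) L50060 (flp_d L49913) (flp_c L72020) L104189
theorem L104214 : sm gi N8406 = N12209 := rfl
theorem L104261 : sm gh N8410 = N12215 := rfl
theorem L104266 : sm gj N12215 = N8411 := ded_52_1 (flp_h L72062) L72054 L104261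
theorem L104268 : sm gd N12215 = N8446 := ded_38_1 (flp_h L72356) L50102 (flp_h L49929) (flp_d L72058) L104261
theorem L104270 : sm gi N8411 = N12216 := rfl
theorem L104279 : sm gj N8413 = N12217 := rfl
theorem L104283 : sm gf N12217 = N8414 := ded_46_1 (flp_j L72085) L72080 L104279
theorem L104286 : sm gh N8413 = N12218 := rfl
theorem L104291 : sm gh N8414 = N12219 := rfl
theorem L104294 : sm ge N12219 = N8418 := ded_43_1 (flp_h L72113) (flp_e L72089) L104291
theorem L104297 : sm gj N12219 = N8415 := ded_52_1 (flp_h L72093) L72085 L104291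
theorem L104299 : sm gd N8415 = N12220 := rfl
theorem L104301 : sm gg N12220 = N8416 := ded_36_2 (flp_d L72100) (flp_g L72098) L104299
theorem L104303 : sm ge N12220 = N8451 := ded_34_2 (flp_d L72396) L50144 (flp_d L49958) (flp_e L72096) L104299
theorem L104314 : sm gc N8416 = N12222 := rfl
theorem L104321 : sm gi N8416 = N12223 := rfl
theorem L104337 : sm ge N8420 = N12225 := rfl
theorem L104339 : sm ga N12225 = N8660 := ded_13_1 (flp_e L74081) (flp_a L72131) L104337
theorem L104341 : sm gb N12225 = N8422 := ded_21_1 (flp_e L72147) (flp_b L72133) L104337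
theorem L104347 : sm gg N8420 = N12226 := rfl
theorem L104354 : sm gi N12226 = N8457 := ded_51_2 (flp_g L72441) (flp_i L72137) L104347
theorem L104356 : sm gh N8420 = N12227 := rfl
theorem L104358 : sm ga N12227 = N8662 := ded_17_1 (flp_h L74096) (flp_a L72131) L104356
theorem L104362 : sm gf N12227 = N8421 := ded_47_1 (flp_h L72139) L72129 L104356
theorem L104365 : sm gd N8421 = N12228 := rfl
theorem L104383 : sm gd N8422 = N12230 := rfl
theorem L104385 : sm ga N12230 = N8432 := ded_12_1 (flp_d L72232) (flp_a L72149) L104383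
theorem L104389 : sm gi N12230 = N8461 := ded_39_2 (flp_d L72473) (flp_i L72154) L104383
theorem L104393 : sm gg N8422 = N12231 := rfl
theorem L104395 : sm ga N12231 = N8433 := ded_15_1 (flp_g L72242) (flp_a L72149) L104393
theorem L104399 : sm ge N12231 = N8423 := ded_41_1 (flp_g L72157) L72147 L104393
theorem L104401 : sm gi N12231 = N8462 := ded_51_2 (flp_g L72481) (flp_i L72154) L104393
theorem L104403 : sm gh N8422 = N12232 := rfl
theorem L104413 : sm gj N8423 = N12233 := rfl
theorem L104420 : sm gi N12233 = N8464 := ded_53_2 (flp_j L72499) (flp_i L72164) L104413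
theorem L104423 : sm gh N8423 = N12234 := rfl
theorem L104427 : sm gc N12234 = N8430 := ded_32_1 (flp_h L72217) (flp_c L72161) L104423
theorem L104450 : sm ge N8425 = N12237 := rfl
theorem L104452 : sm ga N12237 = N8439 := ded_13_1 (flp_e L72299) (flp_a L72177) L104450
theorem L104472 : sm gj N8427 = N12240 := rfl
theorem L104474 : sm ga N12240 = N8442 := ded_16_1 (flp_j L72321) (flp_a L72193) L104472
theorem L104482 : sm gh N8427 = N12241 := rfl
theorem L104486 : sm ge N12241 = N8430 := ded_43_1 (flp_h L72217) (flp_e L72196) L104482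
theorem L104488 : sm gg N12241 = N8428 := ded_50_1 (flp_h L72200) L72191 L104482
theorem L104490 : sm gd N8428 = N12242 := rfl
theorem L104514 : sm gi N8430 = N12245 := rfl
theorem L104522 : sm gg N8432 = N12246 := rfl
theorem L104524 : sm gb N12246 = N8681 := ded_23_1 (flp_g L74266) (flp_b L72234) L104522
theorem L104527 : sm gd N12246 = N8433 := ded_36_1 (flp_g L72242) L72232 L104522
theorem L104530 : sm gi N12246 = N8477 := ded_51_2 (flp_g L72602) (flp_i L72238) L104522
theorem L104532 : sm gh N8432 = N12247 := rfl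
theorem L104540 : sm gf N8433 = N12248 := rfl
theorem L104544 : sm gc N12248 = N8441 := ded_29_1 (flp_f L72313) (flp_c L72246) L104540
theorem L104546 : sm gi N12248 = N8479 := ded_48_2 (flp_f L72618) (flp_i L72250) L104540
theorem L104560 : sm gh N8433 = N12250 := rfl
theorem L104568 : sm gg N12250 = N8434 := ded_50_1 (flp_h L72252) L72242 L104560
theorem L104570 : sm gd N8434 = N12251 := rfl
theorem L104588 : sm gh N8435 = N12253 := rfl
theorem L104595 : sm gj N12253 = N8436 := ded_52_1 (flp_h L72272) L72262 L104588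
theorem L104597 : sm gd N8436 = N12254 := rfl
theorem L104601 : sm gg N12254 = N8437 := ded_36_2 (flp_d L72280) (flp_g L72278) L104597
theorem L104614 : sm ge N8437 = N12256 := rfl
theorem L104620 : sm gi N8437 = N12257 := rfl
theorem L104622 : sm gb N12257 = N8692 := ded_26_1 (flp_i L74346) (flp_b L72282) L104620
theorem L104629 : sm gf N8439 = N12258 := rfl
theorem L104631 : sm gb N12258 = N8693 := ded_22_1 (flp_f L74354) (flp_b L72301) L104629
theorem L104636 : sm gi N8439 = N12259 := rfl
theorem L104638 : sm gb N12259 = N8694 := ded_26_1 (flp_i L74360) (flp_b L72301) L104636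
theorem L104652 : sm gj N8441 = N12261 := rfl
theorem L104657 : sm gf N12261 = N8442 := ded_46_1 (flp_j L72321) L72313 L104652
theorem L104659 : sm gi N12261 = N8492 := ded_53_2 (flp_j L72726) (flp_i L72318) L104652
theorem L104661 : sm gh N8441 = N12262 := rfl
theorem L104663 : sm gb N12262 = N8449 := ded_25_1 (flp_h L72380) (flp_b L72315) L104661
theorem L104665 : sm gf N12262 = N8443 := ded_47_1 (flp_h L72331) L72313 L104661
theorem L104668 : sm gh N8442 = N12263 := rfl
theorem L104670 : sm gb N12263 = N8450 := ded_25_1 (flp_h L72387) (flp_b L72323) L104668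
theorem L104672 : sm ge N12263 = N8446 := ded_43_1 (flp_h L72356) (flp_e L72326) L104668
theorem L104675 : sm gj N12263 = N8443 := ded_52_1 (flp_h L72331) L72321 L104668
theorem L104677 : sm gd N8443 = N12264 := rfl
theorem L104681 : sm gg N12264 = N8444 := ded_36_2 (flp_d L72339) (flp_g L72337) L104677
theorem L104684 : sm gi N8443 = N12265 := rfl
theorem L104690 : sm gg N12265 = N8445 := ded_51_1 (flp_i L72346) (flp_g L72337) L104684
theorem L104699 : sm gi N8444 = N12267 := rfl
theorem L104707 : sm gi N8446 = N12268 := rfl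
theorem L104714 : sm gh N12268 = N8499 := ded_54_1 (flp_i L72781) (flp_h L50384) (flp_i L50104) L72356 L104707
theorem L104725 : sm gh N8448 = N12270 := rfl
theorem L104727 : sm gc N12270 = N8705 := ded_32_1 (flp_h L74454) (flp_c L72373) L104725
theorem L104729 : sm gf N12270 = N8450 := ded_47_1 (flp_h L72387) (flp_f L72376) L104725
theorem L104731 : sm gj N12270 = N8449 := ded_52_1 (flp_h L72380) L72371 L104725
theorem L104733 : sm gd N8449 = N12271 := rfl
theorem L104739 : sm gi N8449 = N12272 := rfl
theorem L104748 : sm gd N8450 = N12273 := rfl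
theorem L104751 : sm gj N12273 = N8451 := ded_37_2 (flp_d L72396) (flp_j L72394) L104748
theorem L104765 : sm gc N8451 = N12275 := rfl
theorem L104767 : sm gg N12275 = N8453 := ded_30_2 (flp_c L72411) (flp_g L72398) L104765
theorem L104772 : sm gi N8451 = N12276 := rfl
theorem L104778 : sm gb N8453 = N12277 := rfl
theorem L104785 : sm gi N8453 = N12278 := rfl
theorem L104800 : sm gd N8456 = N12280 := rfl
theorem L104802 : sm ga N12280 = N8714 := ded_12_1 (flp_d L74521) (flp_a L72435) L104800
theorem L104804 : sm gb N12280 = N8461 := ded_20_1 (flp_d L72473) (flp_b L72437) L104800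
theorem L104809 : sm gg N8456 = N12281 := rfl
theorem L104811 : sm ga N12281 = N8715 := ded_15_1 (flp_g L74528) (flp_a L72435) L104809
theorem L104813 : sm gb N12281 = N8462 := ded_23_1 (flp_g L72481) (flp_b L72437) L104809
theorem L104817 : sm gh N8456 = N12282 := rfl
theorem L104819 : sm ga N12282 = N8716 := ded_17_1 (flp_h L74534) (flp_a L72435) L104817
theorem L104821 : sm gb N12282 = N8463 := ded_25_1 (flp_h L72489) (flp_b L72437) L104817
theorem L104827 : sm gj N8457 = N12283 := rfl
theorem L104831 : sm gb N12283 = N8464 := ded_24_1 (flp_j L72499) (flp_b L72445) L104827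
theorem L104887 : sm gg N8461 = N12290 := rfl
theorem L104889 : sm ga N12290 = N8477 := ded_15_1 (flp_g L72602) (flp_a L72475) L104887
theorem L104892 : sm gd N12290 = N8462 := ded_36_1 (flp_g L72481) L72473 L104887
theorem L104895 : sm gh N8461 = N12291 := rfl
theorem L104903 : sm gf N8462 = N12292 := rfl
theorem L104905 : sm ga N12292 = N8479 := ded_14_1 (flp_f L72618) (flp_a L72483) L104903
theorem L104910 : sm gj N8462 = N12293 := rfl
theorem L104912 : sm ga N12293 = N8480 := ded_16_1 (flp_j L72625) (flp_a L72483) L104910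
theorem L104919 : sm gh N8462 = N12294 := rfl
theorem L104921 : sm ga N12294 = N8481 := ded_17_1 (flp_h L72634) (flp_a L72483) L104919
theorem L104923 : sm gc N12294 = N8472 := ded_32_1 (flp_h L72563) (flp_c L72485) L104919
theorem L104927 : sm gg N12294 = N8463 := ded_50_1 (flp_h L72489) L72481 L104919
theorem L104929 : sm gd N8463 = N12295 := rfl
theorem L104935 : sm gi N8463 = N12296 := rfl
theorem L104987 : sm gf N8468 = N12302 := rfl
theorem L104989 : sm ga N12302 = N8489 := ded_14_1 (flp_f L72702) (flp_a L72535) L104987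
theorem L104995 : sm gi N8468 = N12303 := rfl
theorem L105011 : sm gj N8470 = N12305 := rfl
theorem L105013 : sm ga N12305 = N8492 := ded_16_1 (flp_j L72726) (flp_a L72551) L105011
theorem L105018 : sm gh N8470 = N12306 := rfl
theorem L105020 : sm ga N12306 = N8493 := ded_17_1 (flp_h L72733) (flp_a L72551) L105018
theorem L105025 : sm gh N8471 = N12307 := rfl
theorem L105027 : sm ga N12307 = N8494 := ded_17_1 (flp_h L72740) (flp_a L72557) L105025
theorem L105032 : sm gj N12307 = N8472 := ded_52_1 (flp_h L72563) L72555 L105025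
theorem L105034 : sm gd N8472 = N12308 := rfl
theorem L105038 : sm gg N12308 = N8473 := ded_36_2 (flp_d L72571) (flp_g L72569) L105034
theorem L105050 : sm gc N8473 = N12310 := rfl
theorem L105075 : sm gf N8477 = N12313 := rfl
theorem L105080 : sm gd N12313 = N8479 := ded_35_1 (flp_f L72618) (flp_d L72607) L105075
theorem L105083 : sm gj N8477 = N12314 := rfl
theorem L105088 : sm gd N12314 = N8480 := ded_37_1 (flp_j L72625) (flp_d L72607) L105083
theorem L105092 : sm gh N8477 = N12315 := rfl
theorem L105094 : sm gb N12315 = N8746 := ded_25_1 (flp_h L74781) (flp_b L72604) L105092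
theorem L105100 : sm gd N8478 = N12316 := rfl
theorem L105102 : sm gb N12316 = N8747 := ded_20_1 (flp_d L74788) (flp_b L72612) L105100
theorem L105106 : sm gh N12316 = N8482 := ded_38_2 (flp_d L72644) (flp_h L50286) L50270 L72610 L105100
theorem L105116 : sm gj N8479 = N12318 := rfl
theorem L105122 : sm gf N12318 = N8480 := ded_46_1 (flp_j L72625) L72618 L105116
theorem L105124 : sm gh N8479 = N12319 := rfl
theorem L105126 : sm gb N12319 = N8750 := ded_25_1 (flp_h L74808) (flp_b L72620) L105124
theorem L105133 : sm gh N8480 = N12320 := rfl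
theorem L105135 : sm gb N12320 = N8751 := ded_25_1 (flp_h L74815) (flp_b L72627) L105133
theorem L105137 : sm gc N12320 = N8494 := ded_32_1 (flp_h L72740) (flp_c L72629) L105133
theorem L105142 : sm gj N12320 = N8481 := ded_52_1 (flp_h L72634) L72625 L105133
theorem L105144 : sm gd N8481 = N12321 := rfl
theorem L105148 : sm gg N12321 = N8482 := ded_36_2 (flp_d L72644) (flp_g L72642) L105144
theorem L105150 : sm gi N8481 = N12322 := rfl
theorem L105154 : sm gc N12322 = N8496 := ded_33_1 (flp_i L72757) (flp_c L72638) L105150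
theorem L105156 : sm ge N12322 = N8486 := ded_44_1 (flp_i L72677) (flp_e L72640) L105150
theorem L105160 : sm gc N8482 = N12323 := rfl
theorem L105167 : sm ge N8482 = N12324 := rfl
theorem L105172 : sm gd N12324 = N8487 := ded_34_1 (flp_e L72685) (flp_d L50312) (flp_e L50292) L72644 L105167
theorem L105174 : sm gi N8482 = N12325 := rfl
theorem L105182 : sm gd N8484 = N12326 := rfl
theorem L105187 : sm gj N12326 = N8485 := ded_37_2 (flp_d L72669) (flp_j L72667) L105182
theorem L105191 : sm gi N8484 = N12327 := rfl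
theorem L105193 : sm gb N12327 = N8757 := ded_26_1 (flp_i L74858) (flp_b L72662) L105191
theorem L105195 : sm gc N12327 = N8499 := ded_33_1 (flp_i L72781) (flp_c L72664) L105191
theorem L105208 : sm gi N8485 = N12329 := rfl
theorem L105213 : sm gd N12329 = N8486 := ded_39_1 (flp_i L72677) L72669 L105208
theorem L105217 : sm gf N8487 = N12330 := rfl
theorem L105224 : sm ge N12330 = N8489 := ded_40_1 (flp_f L72702) (flp_e L50330) (flp_f L50316) L72685 L105217
theorem L105243 : sm gg N8489 = N12333 := rfl
theorem L105250 : sm gi N8489 = N12334 := rfl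
theorem L105275 : sm gh N8492 = N12337 := rfl
theorem L105277 : sm gb N12337 = N8501 := ded_25_1 (flp_h L72796) (flp_b L72728) L105275
theorem L105281 : sm gj N12337 = N8493 := ded_52_1 (flp_h L72733) L72726 L105275
theorem L105283 : sm gd N8493 = N12338 := rfl
theorem L105285 : sm gb N12338 = N8502 := ded_20_1 (flp_d L72804) (flp_b L72735) L105283
theorem L105287 : sm gf N12338 = N8495 := ded_35_2 (flp_d L72749) (flp_f L72737) L105283
theorem L105298 : sm gd N8494 = N12340 := rfl
theorem L105300 : sm gb N12340 = N8504 := ded_20_1 (flp_d L72818) (flp_b L72742) L105298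
theorem L105348 : sm gh N8500 = N12346 := rfl
theorem L105353 : sm gg N12346 = N8501 := ded_50_1 (flp_h L72796) L72789 L105348
theorem L105356 : sm gd N8501 = N12347 := rfl
theorem L105360 : sm gj N12347 = N8502 := ded_37_2 (flp_d L72804) (flp_j L72802) L105356
theorem L105372 : sm ge N8502 = N12349 := rfl
theorem L105378 : sm gi N8502 = N12350 := rfl
theorem L105381 : sm gd N12350 = N8503 := ded_39_1 (flp_i L72811) L72804 L105378
theorem L105402 : sm gf N8508 = N12353 := rfl
theorem L105404 : sm gb N12353 = N8509 := ded_22_1 (flp_f L72859) L72850 L105402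
theorem L105407 : sm gj N12353 = N8569 := ded_46_2 (flp_f L73375) (flp_j L72855) L105402
theorem L105409 : sm gi N12353 = N8533 := ded_48_2 (flp_f L73075) (flp_i L72857) L105402
theorem L105411 : sm gh N8508 = N12354 := rfl
theorem L105417 : sm gj N12354 = N8570 := ded_52_1 (flp_h L73382) (flp_j L72855) L105411
theorem L105419 : sm ge N8509 = N12355 := rfl
theorem L105421 : sm ga N12355 = N8516 := ded_13_1 (flp_e L72931) (flp_a L72861) L105419
theorem L105425 : sm gj N12355 = N8571 := ded_42_2 (flp_e L73389) (flp_j L72866) L105419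
theorem L105427 : sm gi N12355 = N8535 := ded_44_2 (flp_e L73090) (flp_i L72868) L105419
theorem L105430 : sm gg N8509 = N12356 := rfl
theorem L105432 : sm ga N12356 = N8517 := ded_15_1 (flp_g L72940) (flp_a L72861) L105430
theorem L105434 : sm gc N12356 = N8512 := ded_30_1 (flp_g L72890) (flp_c L72863) L105430
theorem L105440 : sm gh N8509 = N12357 := rfl
theorem L105446 : sm gf N12357 = N8510 := ded_47_1 (flp_h L72870) L72859 L105440
theorem L105448 : sm gj N12357 = N8573 := ded_52_1 (flp_h L73409) (flp_j L72866) L105440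
theorem L105450 : sm gd N8510 = N12358 := rfl
theorem L105455 : sm gj N12358 = N8574 := ded_37_2 (flp_d L73417) (flp_j L72878) L105450
theorem L105471 : sm gg N8511 = N12360 := rfl
theorem L105478 : sm gi N12360 = N8540 := ded_51_2 (flp_g L73137) (flp_i L72886) L105471
theorem L105480 : sm gh N8511 = N12361 := rfl
theorem L105487 : sm gj N12361 = N8577 := ded_52_1 (flp_h L73445) (flp_j L72884) L105480
theorem L105489 : sm gj N8512 = N12362 := rfl
theorem L105496 : sm gi N12362 = N8542 := ded_53_2 (flp_j L73153) (flp_i L72896) L105489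
theorem L105500 : sm gh N8512 = N12363 := rfl
theorem L105519 : sm gd N8516 = N12365 := rfl
theorem L105522 : sm gj N12365 = N8581 := ded_37_2 (flp_d L73480) (flp_j L72935) L105519
theorem L105528 : sm gg N8516 = N12366 := rfl
theorem L105530 : sm gc N12366 = N8521 := ded_30_1 (flp_g L72973) (flp_c L72933) L105528
theorem L105534 : sm gi N12366 = N8546 := ded_51_2 (flp_g L73188) (flp_i L72937) L105528
theorem L105536 : sm gh N8516 = N12367 := rfl
theorem L105543 : sm gj N12367 = N8583 := ded_52_1 (flp_h L73495) (flp_j L72935) L105536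
theorem L105545 : sm gj N8517 = N12368 := rfl
theorem L105547 : sm gc N12368 = N8523 := ded_31_1 (flp_j L72991) (flp_c L72942) L105545
theorem L105551 : sm gi N12368 = N8548 := ded_53_2 (flp_j L73203) (flp_i L72945) L105545
theorem L105555 : sm gh N8517 = N12369 := rfl
theorem L105560 : sm gg N12369 = N8518 := ded_50_1 (flp_h L72948) L72940 L105555
theorem L105562 : sm gd N8518 = N12370 := rfl
theorem L105566 : sm gj N12370 = N8586 := ded_37_2 (flp_d L73519) (flp_j L72954) L105562
theorem L105570 : sm gi N8518 = N12371 := rfl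
theorem L105578 : sm gh N12371 = N8551 := ded_54_1 (flp_i L73227) (flp_h L50684) (flp_i L50500) L72948 L105570
theorem L105580 : sm ge N8519 = N12372 := rfl
theorem L105584 : sm gj N12372 = N8588 := ded_42_2 (flp_e L73533) (flp_j L72959) L105580
theorem L105588 : sm gi N8519 = N12373 := rfl
theorem L105594 : sm gj N12373 = N8589 := ded_53_1 (flp_i L73540) (flp_j L72959) L105588
theorem L105596 : sm gf N8521 = N12374 := rfl
theorem L105598 : sm gb N12374 = N8526 := ded_22_1 (flp_f L73021) (flp_b L72975) L105596
theorem L105600 : sm gd N12374 = N12374 := ded_35_1 (flp_f L105596) L72977 L105596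
theorem L105601 : sm gi N12374 = N8554 := ded_48_2 (flp_f L73253) (flp_i L72980) L105596
theorem L105605 : sm gj N8521 = N12375 := rfl
theorem L105614 : sm gg N12375 = N8591 := ded_49_1 (flp_j L73557) (flp_g L50910) (flp_j L50514) L72973 L105605
theorem L105616 : sm gh N8521 = N12376 := rfl
theorem L105618 : sm gb N12376 = N8528 := ded_25_1 (flp_h L73037) (flp_b L72975) L105616
theorem L105622 : sm gg N12376 = N8522 := ded_50_1 (flp_h L72982) L72973 L105616
theorem L105633 : sm gi N8522 = N12378 := rfl
theorem L105642 : sm gh N12378 = N8558 := ded_54_1 (flp_i L73287) (flp_h L50715) (flp_i L50516) L72982 L105633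
theorem L105664 : sm gj N8526 = N12381 := rfl
theorem L105668 : sm gf N12381 = N8527 := ded_46_1 (flp_j L73028) L73021 L105664
theorem L105670 : sm gi N12381 = N8561 := ded_53_2 (flp_j L73316) (flp_i L73024) L105664
theorem L105672 : sm gh N8526 = N12382 := rfl
theorem L105675 : sm gf N12382 = N8528 := ded_47_1 (flp_h L73037) L73021 L105672
theorem L105678 : sm gh N8527 = N12383 := rfl
theorem L105682 : sm gg N12383 = N8599 := ded_50_1 (flp_h L73626) (flp_g L73035) L105678
theorem L105684 : sm gj N12383 = N8528 := ded_52_1 (flp_h L73037) L73028 L105678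
theorem L105686 : sm gd N8528 = N12384 := rfl
theorem L105688 : sm gg N12384 = N8529 := ded_36_2 (flp_d L73043) (flp_g L73041) L105686
theorem L105692 : sm gi N8528 = N12385 := rfl
theorem L105700 : sm gc N8529 = N12386 := rfl
theorem L105704 : sm gj N12386 = N8602 := ded_31_2 (flp_c L73646) (flp_j L73046) L105700
theorem L105707 : sm gi N8529 = N12387 := rfl
theorem L105713 : sm gj N12387 = N8603 := ded_53_1 (flp_i L73651) (flp_j L73046) L105707
theorem L105725 : sm ge N8533 = N12389 := rfl
theorem L105727 : sm gb N12389 = N8535 := ded_21_1 (flp_e L73090) (flp_b L73077) L105725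
theorem L105729 : sm gj N12389 = N8605 := ded_42_2 (flp_e L73666) (flp_j L73080) L105725
theorem L105732 : sm gg N8533 = N12390 := rfl
theorem L105738 : sm gh N8533 = N12391 := rfl
theorem L105744 : sm gj N12391 = N8607 := ded_52_1 (flp_h L73678) (flp_j L73080) L105738
theorem L105746 : sm gd N8534 = N12392 := rfl
theorem L105751 : sm gj N12392 = N8608 := ded_37_2 (flp_d L73684) (flp_j L73088) L105746
theorem L105762 : sm gd N8535 = N12394 := rfl
theorem L105771 : sm gg N8535 = N12395 := rfl
theorem L105779 : sm gh N8535 = N12396 := rfl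
theorem L105788 : sm gj N12396 = N8612 := ded_52_1 (flp_h L73713) (flp_j L73096) L105779
theorem L105790 : sm gj N8536 = N12397 := rfl
theorem L105792 : sm ga N12397 = N8548 := ded_16_1 (flp_j L73203) (flp_a L73101) L105790
theorem L105798 : sm gg N12397 = N8613 := ded_49_1 (flp_j L73722) (flp_g L51022) (flp_j L50613) L73099 L105790
theorem L105830 : sm ge N8538 = N12401 := rfl
theorem L105832 : sm ga N12401 = N8552 := ded_13_1 (flp_e L73235) (flp_a L73119) L105830
theorem L105837 : sm gj N12401 = N8617 := ded_42_2 (flp_e L73758) (flp_j L73122) L105830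
theorem L105859 : sm gj N8540 = N12404 := rfl
theorem L105868 : sm gh N8540 = N12405 := rfl
theorem L105872 : sm ge N12405 = N8543 := ded_43_1 (flp_h L73162) (flp_e L73142) L105868
theorem L105895 : sm gh N8542 = N12408 := rfl
theorem L105900 : sm gg N12408 = N8624 := ded_50_1 (flp_h L73816) (flp_g L73160) L105895
theorem L105915 : sm gg N8545 = N12410 := rfl
theorem L105918 : sm gd N12410 = N8546 := ded_36_1 (flp_g L73188) L73181 L105915
theorem L105921 : sm gh N8545 = N12411 := rfl
theorem L105926 : sm gj N12411 = N8627 := ded_52_1 (flp_h L73842) (flp_j L73184) L105921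
theorem L105928 : sm gf N8546 = N12412 := rfl
theorem L105930 : sm gc N12412 = N8554 := ded_29_1 (flp_f L73253) (flp_c L73190) L105928
theorem L105934 : sm gj N8546 = N12413 := rfl
theorem L105940 : sm gg N12413 = N8629 := ded_49_1 (flp_j L73854) (flp_g L51102) (flp_j L50675) L73188 L105934
theorem L105942 : sm gh N8546 = N12414 := rfl
theorem L105950 : sm gd N8547 = N12415 := rfl
theorem L105953 : sm gj N12415 = N8631 := ded_37_2 (flp_d L73868) (flp_j L73201) L105950
theorem L105964 : sm gh N8548 = N12417 := rfl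
theorem L105971 : sm gj N12417 = N8549 := ded_52_1 (flp_h L73211) L73203 L105964
theorem L105973 : sm gd N8549 = N12418 := rfl
theorem L105978 : sm gc N12418 = N8869 := ded_27_1 (flp_d L75821) L52484 (flp_d L50740) (flp_c L73213) L105973
theorem L105981 : sm gi N8549 = N12419 := rfl
theorem L105988 : sm ge N8550 = N12420 := rfl
theorem L105992 : sm gj N12420 = N8636 := ded_42_2 (flp_e L73903) (flp_j L73222) L105988
theorem L106013 : sm gi N8552 = N12423 := rfl
theorem L106021 : sm gj N12423 = N8639 := ded_53_1 (flp_i L73922) (flp_j L73240) L106013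
theorem L106031 : sm gj N8554 = N12425 := rfl
theorem L106033 : sm gb N12425 = N8561 := ded_24_1 (flp_j L73316) (flp_b L73255) L106031
theorem L106039 : sm gh N8554 = N12426 := rfl
theorem L106044 : sm gf N12426 = N8556 := ded_47_1 (flp_h L73269) L73253 L106039
theorem L106057 : sm gd N8556 = N12428 := rfl
theorem L106061 : sm gg N12428 = N8557 := ded_36_2 (flp_d L73277) (flp_g L73275) L106057
theorem L106063 : sm ge N12428 = N8879 := ded_34_2 (flp_d L75907) L52547 (flp_d L50740) (flp_e L73273) L106057
theorem L106074 : sm gc N8557 = N12430 := rfl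
theorem L106079 : sm gj N12430 = N8646 := ded_31_2 (flp_c L73981) (flp_j L73282) L106074
theorem L106082 : sm gi N8557 = N12431 := rfl
theorem L106088 : sm ge N12431 = N8882 := ded_44_1 (flp_i L75930) (flp_e L73284) L106082
theorem L106091 : sm gj N12431 = N8647 := ded_53_1 (flp_i L73987) (flp_j L73282) L106082
theorem L106104 : sm gg N8561 = N12433 := rfl
theorem L106108 : sm gf N12433 = N8649 := ded_45_1 (flp_g L74006) L51222 (flp_g L50762) (flp_f L73320) L106104
theorem L106111 : sm gh N8561 = N12434 := rfl
theorem L106114 : sm gf N12434 = N8563 := ded_47_1 (flp_h L73328) (flp_f L73320) L106111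
theorem L106116 : sm gj N12434 = N8562 := ded_52_1 (flp_h L73322) L73316 L106111
theorem L106118 : sm gd N8562 = N12435 := rfl
theorem L106120 : sm gf N12435 = N8564 := ded_35_2 (flp_d L73336) (flp_f L73325) L106118
theorem L106130 : sm gd N8563 = N12437 := rfl
theorem L106132 : sm gg N12437 = N8653 := ded_36_2 (flp_d L74034) (flp_g L73332) L106130
theorem L106134 : sm gj N12437 = N8564 := ded_37_2 (flp_d L73336) (flp_j L73334) L106130
theorem L106136 : sm ge N12437 = N8887 := ded_34_2 (flp_d L75975) L52608 (flp_d L50792) (flp_e L73330) L106130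
theorem L106139 : sm gi N8563 = N12438 := rfl
theorem L106147 : sm gc N8564 = N12439 := rfl
theorem L106151 : sm gg N12439 = N8566 := ded_30_2 (flp_c L73349) (flp_g L73338) L106147
theorem L106154 : sm gi N8564 = N12440 := rfl
theorem L106162 : sm gb N8566 = N12441 := rfl
theorem L106164 : sm ge N12441 = N8891 := ded_21_2 (flp_b L76004) (flp_e L73351) L106162
theorem L106167 : sm gj N12441 = N8657 := ded_24_2 (flp_b L74062) (flp_j L73354) L106162
theorem L106187 : sm ge N8569 = N12444 := rfl
theorem L106191 : sm gi N12444 = N8605 := ded_44_2 (flp_e L73666) (flp_i L73380) L106187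
theorem L106194 : sm gg N8569 = N12445 := rfl
theorem L106199 : sm gi N12445 = N8606 := ded_51_2 (flp_g L73671) (flp_i L73380) L106194
theorem L106201 : sm gf N12445 = N8661 := ded_45_1 (flp_g L74089) (flp_f L51271) (flp_g L50805) L73375 L106194
theorem L106203 : sm gh N8569 = N12446 := rfl
theorem L106205 : sm gb N12446 = N8573 := ded_25_1 (flp_h L73409) (flp_b L73377) L106203
theorem L106207 : sm gf N12446 = N8570 := ded_47_1 (flp_h L73382) L73375 L106203
theorem L106209 : sm gd N8570 = N12447 := rfl
theorem L106213 : sm gg N12447 = N8663 := ded_36_2 (flp_d L74103) (flp_g L73387) L106209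
theorem L106225 : sm gd N8571 = N12449 := rfl
theorem L106230 : sm gi N12449 = N8610 := ded_39_2 (flp_d L73698) (flp_i L73395) L106225
theorem L106234 : sm gg N8571 = N12450 := rfl
theorem L106236 : sm ga N12450 = N8582 := ded_15_1 (flp_g L73487) (flp_a L73391) L106234
theorem L106240 : sm ge N12450 = N8572 := ded_41_1 (flp_g L73398) L73389 L106234
theorem L106242 : sm gi N12450 = N8611 := ded_51_2 (flp_g L73705) (flp_i L73395) L106234
theorem L106244 : sm gh N8571 = N12451 := rfl
theorem L106246 : sm ga N12451 = N8583 := ded_17_1 (flp_h L73495) (flp_a L73391) L106244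
theorem L106248 : sm gc N12451 = N8577 := ded_32_1 (flp_h L73445) (flp_c L73393) L106244
theorem L106250 : sm ge N12451 = N8573 := ded_43_1 (flp_h L73409) L73389 L106244
theorem L106253 : sm gj N8572 = N12452 := rfl
theorem L106262 : sm gi N12452 = N8613 := ded_53_2 (flp_j L73722) (flp_i L73405) L106253
theorem L106264 : sm gh N8572 = N12453 := rfl
theorem L106270 : sm gf N12453 = N8669 := ded_47_1 (flp_h L74158) (flp_f L73407) L106264
theorem L106272 : sm gg N12453 = N8573 := ded_50_1 (flp_h L73409) L73398 L106264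
theorem L106274 : sm gd N8573 = N12454 := rfl
theorem L106282 : sm gi N8573 = N12455 := rfl
theorem L106286 : sm gc N12455 = N8580 := ded_33_1 (flp_i L73471) (flp_c L73413) L106282
theorem L106292 : sm ge N8574 = N12456 := rfl
theorem L106297 : sm gg N12456 = N8672 := ded_41_2 (flp_e L74186) (flp_g L73421) L106292
theorem L106320 : sm gj N8576 = N12459 := rfl
theorem L106322 : sm ga N12459 = N8591 := ded_16_1 (flp_j L73557) (flp_a L73438) L106320
theorem L106329 : sm gh N8576 = N12460 := rfl
theorem L106335 : sm gg N12460 = N8577 := ded_50_1 (flp_h L73445) L73436 L106329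
theorem L106337 : sm gd N8577 = N12461 := rfl
theorem L106353 : sm gh N8578 = N12463 := rfl
theorem L106359 : sm gj N12463 = N8579 := ded_52_1 (flp_h L73462) L73452 L106353
theorem L106362 : sm gi N8579 = N12464 := rfl
theorem L106369 : sm gg N12464 = N8580 := ded_51_1 (flp_i L73471) (flp_g L73468) L106362
theorem L106373 : sm gg N8581 = N12465 := rfl
theorem L106376 : sm gd N12465 = N8582 := ded_36_1 (flp_g L73487) L73480 L106373
theorem L106379 : sm gi N12465 = N8626 := ded_51_2 (flp_g L73836) (flp_i L73483) L106373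
theorem L106381 : sm gh N8581 = N12466 := rfl
theorem L106383 : sm gc N12466 = N12466 := ded_32_1 (flp_h L106381) L73485 L106381
theorem L106386 : sm gf N8582 = N12467 := rfl
theorem L106388 : sm gc N12467 = N8590 := ded_29_1 (flp_f L73547) (flp_c L73489) L106386
theorem L106390 : sm gi N12467 = N8628 := ded_48_2 (flp_f L73847) (flp_i L73493) L106386
theorem L106395 : sm gj N8582 = N12468 := rfl
theorem L106403 : sm gh N8582 = N12469 := rfl
theorem L106409 : sm gg N12469 = N8583 := ded_50_1 (flp_h L73495) L73487 L106403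
theorem L106411 : sm gd N8583 = N12470 := rfl
theorem L106414 : sm gi N8583 = N12471 := rfl
theorem L106439 : sm gi N8585 = N12474 := rfl
theorem L106443 : sm gf N12474 = N8690 := ded_48_1 (flp_i L74333) (flp_f L73515) L106439
theorem L106447 : sm gh N12474 = N8635 := ded_54_1 (flp_i L73895) (flp_h L51122) (flp_i L50885) L73511 L106439
theorem L106449 : sm ge N8586 = N12475 := rfl
theorem L106460 : sm gf N8588 = N12477 := rfl
theorem L106473 : sm gh N8589 = N12479 := rfl
theorem L106476 : sm gg N12479 = N8695 := ded_50_1 (flp_h L74367) (flp_g L73545) L106473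
theorem L106481 : sm gj N8590 = N12480 := rfl
theorem L106488 : sm gf N12480 = N8591 := ded_46_1 (flp_j L73557) L73547 L106481
theorem L106490 : sm gi N12480 = N8641 := ded_53_2 (flp_j L73938) (flp_i L73552) L106481
theorem L106492 : sm gh N8590 = N12481 := rfl
theorem L106498 : sm gf N12481 = N8592 := ded_47_1 (flp_h L73566) L73547 L106492
theorem L106501 : sm gh N8591 = N12482 := rfl
theorem L106509 : sm gd N8592 = N12483 := rfl
theorem L106513 : sm gg N12483 = N8593 := ded_36_2 (flp_d L73574) (flp_g L73572) L106509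
theorem L106517 : sm gi N8592 = N12484 := rfl
theorem L106519 : sm gb N12484 = N8601 := ded_26_1 (flp_i L73638) (flp_b L73568) L106517
theorem L106525 : sm gh N12484 = N8645 := ded_54_1 (flp_i L73973) (flp_h L51174) (flp_i L50917) L73566 L106517
theorem L106532 : sm gi N8593 = N12486 := rfl
theorem L106551 : sm gg N8597 = N12488 := rfl
theorem L106559 : sm gh N8597 = N12489 := rfl
theorem L106563 : sm gf N12489 = N8599 := ded_47_1 (flp_h L73626) (flp_f L73615) L106559
theorem L106565 : sm gj N12489 = N8598 := ded_52_1 (flp_h L73619) L73610 L106559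
theorem L106567 : sm gd N8598 = N12490 := rfl
theorem L106569 : sm gf N12490 = N8600 := ded_35_2 (flp_d L73632) (flp_f L73623) L106567
theorem L106573 : sm gi N8598 = N12491 := rfl
theorem L106580 : sm gh N12491 = N8652 := ded_54_1 (flp_i L74027) (flp_h L51224) (flp_i L50957) L73619 L106573
theorem L106582 : sm gd N8599 = N12492 := rfl
theorem L106584 : sm gj N12492 = N8600 := ded_37_2 (flp_d L73632) (flp_j L73630) L106582
theorem L106588 : sm gi N8599 = N12493 := rfl
theorem L106596 : sm gc N8600 = N12494 := rfl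
theorem L106599 : sm gg N12494 = N8602 := ded_30_2 (flp_c L73646) (flp_g L73634) L106596
theorem L106602 : sm gi N8600 = N12495 := rfl
theorem L106607 : sm gg N12495 = N8603 := ded_51_1 (flp_i L73651) (flp_g L73634) L106602
theorem L106609 : sm gb N8602 = N12496 := rfl
theorem L106614 : sm gi N8602 = N12497 := rfl
theorem L106620 : sm gh N8603 = N12498 := rfl
theorem L106627 : sm gd N8605 = N12499 := rfl
theorem L106633 : sm gg N8605 = N12500 := rfl
theorem L106635 : sm gb N12500 = N8611 := ded_23_1 (flp_g L73705) (flp_b L73668) L106633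
theorem L106637 : sm ge N12500 = N8606 := ded_41_1 (flp_g L73671) L73666 L106633
theorem L106646 : sm gj N8606 = N12502 := rfl
theorem L106651 : sm gf N12502 = N8717 := ded_46_1 (flp_j L74542) (flp_f L73676) L106646
theorem L106653 : sm gh N8606 = N12503 := rfl
theorem L106655 : sm gb N12503 = N8614 := ded_25_1 (flp_h L73731) (flp_b L73673) L106653
theorem L106659 : sm gg N12503 = N8607 := ded_50_1 (flp_h L73678) L73671 L106653
theorem L106661 : sm gd N8607 = N12504 := rfl
theorem L106665 : sm gf N12504 = N8608 := ded_35_2 (flp_d L73684) (flp_f L73682) L106661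
theorem L106674 : sm gc N8608 = N12506 := rfl
theorem L106676 : sm gg N12506 = N8721 := ded_30_2 (flp_c L74569) (flp_g L73688) L106674
theorem L106689 : sm gi N8608 = N12508 := rfl
theorem L106693 : sm gd N12508 = N8609 := ded_39_1 (flp_i L73691) L73684 L106689
theorem L106697 : sm gg N8610 = N12509 := rfl
theorem L106702 : sm gd N12509 = N8611 := ded_36_1 (flp_g L73705) L73698 L106697
theorem L106705 : sm gh N8610 = N12510 := rfl
theorem L106712 : sm gf N8611 = N12511 := rfl
theorem L106718 : sm ge N12511 = N8726 := ded_40_1 (flp_f L74607) L51608 (flp_f L51029) (flp_e L73711) L106712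
theorem L106721 : sm gj N8611 = N12512 := rfl
theorem L106729 : sm gh N8611 = N12513 := rfl
theorem L106735 : sm ge N12513 = N8614 := ded_43_1 (flp_h L73731) (flp_e L73711) L106729
theorem L106737 : sm gg N12513 = N8612 := ded_50_1 (flp_h L73713) L73705 L106729
theorem L106739 : sm gd N8612 = N12514 := rfl
theorem L106744 : sm gi N8612 = N12515 := rfl
theorem L106753 : sm gh N8613 = N12516 := rfl
theorem L106763 : sm gd N8614 = N12517 := rfl
theorem L106771 : sm gc N12517 = N8911 := ded_27_1 (flp_d L76181) L52737 (flp_d L51087) (flp_c L73735) L106763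
theorem L106784 : sm ge N8615 = N12519 := rfl
theorem L106788 : sm gc N12519 = N8913 := ded_28_1 (flp_e L76201) (flp_c L73747) L106784
theorem L106801 : sm gf N8617 = N12521 := rfl
theorem L106809 : sm gi N8617 = N12522 := rfl
theorem L106813 : sm gc N12522 = N8916 := ded_33_1 (flp_i L76221) (flp_c L73762) L106809
theorem L106818 : sm gg N12522 = N8737 := ded_51_1 (flp_i L74704) (flp_g L73764) L106809
theorem L106872 : sm gc N8622 = N12529 := rfl
theorem L106874 : sm ga N12529 = N8646 := ded_11_1 (flp_c L73981) (flp_a L73803) L106872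
theorem L106876 : sm ge N12529 = N8921 := ded_28_2 (flp_c L76266) (flp_e L73806) L106872
theorem L106889 : sm gi N8624 = N12531 := rfl
theorem L106899 : sm gf N8626 = N12532 := rfl
theorem L106902 : sm gd N12532 = N8628 := ded_35_1 (flp_f L73847) (flp_d L73839) L106899
theorem L106905 : sm gj N8626 = N12533 := rfl
theorem L106908 : sm gd N12533 = N8629 := ded_37_1 (flp_j L73854) (flp_d L73839) L106905
theorem L106911 : sm gh N8626 = N12534 := rfl
theorem L106915 : sm gg N12534 = N8627 := ded_50_1 (flp_h L73842) L73836 L106911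
theorem L106917 : sm gd N8627 = N12535 := rfl
theorem L106920 : sm gh N12535 = N8631 := ded_38_2 (flp_d L73868) (flp_h L51108) L51097 L73842 L106917
theorem L106927 : sm gj N8628 = N12537 := rfl
theorem L106929 : sm gc N12537 = N8641 := ded_31_1 (flp_j L73938) (flp_c L73849) L106927
theorem L106935 : sm gh N8628 = N12538 := rfl
theorem L106939 : sm ge N12538 = N8750 := ded_43_1 (flp_h L74808) (flp_e L73851) L106935
theorem L106944 : sm gh N8629 = N12539 := rfl
theorem L106946 : sm gc N12539 = N8643 := ded_32_1 (flp_h L73956) (flp_c L73856) L106944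
theorem L106950 : sm gj N12539 = N8630 := ded_52_1 (flp_h L73860) L73854 L106944
theorem L106952 : sm gd N8630 = N12540 := rfl
theorem L106954 : sm gg N12540 = N8631 := ded_36_2 (flp_d L73868) (flp_g L73866) L106952
theorem L106964 : sm gc N8631 = N12542 := rfl
theorem L106967 : sm gd N12542 = N8646 := ded_27_2 (flp_c L73981) (flp_d L51182) (flp_c L51110) L73868 L106964
theorem L106969 : sm ge N8631 = N12543 := rfl
theorem L106971 : sm gd N12543 = N8636 := ded_34_1 (flp_e L73903) (flp_d L51130) (flp_e L51112) L73868 L106969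
theorem L107002 : sm gi N8634 = N12548 := rfl
theorem L107006 : sm gd N12548 = N8635 := ded_39_1 (flp_i L73895) L73886 L107002
theorem L107008 : sm gf N12548 = N8759 := ded_48_1 (flp_i L74872) (flp_f L73888) L107002
theorem L107012 : sm gf N8636 = N12549 := rfl
theorem L107019 : sm gi N8636 = N12550 := rfl
theorem L107047 : sm gh N8639 = N12554 := rfl
theorem L107053 : sm gg N12554 = N8765 := ded_50_1 (flp_h L74917) (flp_g L73929) L107047
theorem L107056 : sm gg N8641 = N12555 := rfl
theorem L107064 : sm gh N8641 = N12556 := rfl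
theorem L107070 : sm gf N12556 = N8643 := ded_47_1 (flp_h L73956) (flp_f L73945) L107064
theorem L107072 : sm gj N12556 = N8642 := ded_52_1 (flp_h L73947) L73938 L107064
theorem L107074 : sm gd N8642 = N12557 := rfl
theorem L107076 : sm gb N12557 = N8651 := ded_20_1 (flp_d L74020) (flp_b L73949) L107074
theorem L107078 : sm gf N12557 = N8644 := ded_35_2 (flp_d L73964) (flp_f L73953) L107074
theorem L107092 : sm gd N8643 = N12559 := rfl
theorem L107096 : sm gj N12559 = N8644 := ded_37_2 (flp_d L73964) (flp_j L73962) L107092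
theorem L107098 : sm ge N12559 = N8944 := ded_34_2 (flp_d L76441) L52941 (flp_d L51205) (flp_e L73960) L107092
theorem L107101 : sm gi N8643 = N12560 := rfl
theorem L107107 : sm gj N12560 = N8645 := ded_53_1 (flp_i L73973) (flp_j L73962) L107101
theorem L107109 : sm gc N8644 = N12561 := rfl
theorem L107113 : sm gg N12561 = N8646 := ded_30_2 (flp_c L73981) (flp_g L73968) L107109
theorem L107116 : sm gi N8644 = N12562 := rfl
theorem L107122 : sm ge N12562 = N8947 := ded_44_1 (flp_i L76465) (flp_e L73970) L107116
theorem L107124 : sm gg N12562 = N8647 := ded_51_1 (flp_i L73987) (flp_g L73968) L107116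
theorem L107126 : sm gb N8646 = N12563 := rfl
theorem L107134 : sm gi N8646 = N12564 := rfl
theorem L107141 : sm gh N8647 = N12565 := rfl
theorem L107149 : sm gh N8649 = N12566 := rfl
theorem L107153 : sm gg N12566 = N8650 := ded_50_1 (flp_h L74012) L74006 L107149
theorem L107156 : sm gd N8650 = N12567 := rfl
theorem L107158 : sm gf N12567 = N8653 := ded_35_2 (flp_d L74034) (flp_f L74016) L107156
theorem L107160 : sm gj N12567 = N8651 := ded_37_2 (flp_d L74020) (flp_j L74018) L107156
theorem L107172 : sm gc N8651 = N12569 := rfl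
theorem L107179 : sm gi N8651 = N12570 := rfl
theorem L107181 : sm gd N12570 = N8652 := ded_39_1 (flp_i L74027) L74020 L107179
theorem L107187 : sm gc N8653 = N12571 := rfl
theorem L107191 : sm gj N12571 = N8655 := ded_31_2 (flp_c L74047) (flp_j L74036) L107187
theorem L107194 : sm gi N8653 = N12572 := rfl
theorem L107202 : sm gb N8655 = N12573 := rfl
theorem L107206 : sm gg N12573 = N8657 := ded_23_2 (flp_b L74062) (flp_g L74051) L107202
theorem L107224 : sm ga N8657 = N12576 := rfl
theorem L107226 : sm ge N12576 = N8956 := ded_13_2 (flp_a L76531) (flp_e L74064) L107224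
theorem L107230 : sm gi N8657 = N12577 := rfl
theorem L107245 : sm gd N8660 = N12579 := rfl
theorem L107247 : sm gb N12579 = N8665 := ded_20_1 (flp_d L74117) (flp_b L74083) L107245
theorem L107251 : sm gi N12579 = N8714 := ded_39_2 (flp_d L74521) (flp_i L74086) L107245
theorem L107254 : sm gg N8660 = N12580 := rfl
theorem L107258 : sm ge N12580 = N8661 := ded_41_1 (flp_g L74089) L74081 L107254
theorem L107260 : sm gi N12580 = N8715 := ded_51_2 (flp_g L74528) (flp_i L74086) L107254
theorem L107262 : sm gh N8660 = N12581 := rfl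
theorem L107284 : sm gd N8662 = N12584 := rfl
theorem L107288 : sm gf N12584 = N8663 := ded_35_2 (flp_d L74103) (flp_f L74100) L107284
theorem L107301 : sm gc N8663 = N12586 := rfl
theorem L107320 : sm gg N8665 = N12589 := rfl
theorem L107326 : sm gd N12589 = N8666 := ded_36_1 (flp_g L74128) L74117 L107320
theorem L107329 : sm gi N12589 = N8724 := ded_51_2 (flp_g L74589) (flp_i L74123) L107320
theorem L107331 : sm gh N8665 = N12590 := rfl
theorem L107333 : sm ga N12590 = N8682 := ded_17_1 (flp_h L74275) (flp_a L74119) L107331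
theorem L107335 : sm gc N12590 = N8781 := ded_32_1 (flp_h L75059) (flp_c L74125) L107331
theorem L107360 : sm gh N8666 = N12593 := rfl
theorem L107364 : sm gc N12593 = N8676 := ded_32_1 (flp_h L74222) (flp_c L74132) L107360
theorem L107370 : sm gd N8667 = N12594 := rfl
theorem L107397 : sm gd N8669 = N12597 := rfl
theorem L107399 : sm ga N12597 = N8689 := ded_12_1 (flp_d L74327) (flp_a L74160) L107397
theorem L107401 : sm gg N12597 = N8670 := ded_36_2 (flp_d L74166) (flp_g L74164) L107397
theorem L107440 : sm gi N8672 = N12602 := rfl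
theorem L107446 : sm ge N12602 = N8673 := ded_44_1 (flp_i L74194) L74186 L107440
theorem L107449 : sm gh N8673 = N12603 := rfl
theorem L107455 : sm gd N12603 = N8738 := ded_38_1 (flp_h L74714) L51670 (flp_h L51328) (flp_d L74199) L107449
theorem L107458 : sm gj N8674 = N12604 := rfl
theorem L107460 : sm ga N12604 = N8696 := ded_16_1 (flp_j L74374) (flp_a L74204) L107458
theorem L107462 : sm gd N12604 = N8790 := ded_37_1 (flp_j L75143) (flp_d L74206) L107458
theorem L107464 : sm gf N12604 = N8675 := ded_46_1 (flp_j L74211) L74202 L107458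
theorem L107466 : sm gi N12604 = N8739 := ded_53_2 (flp_j L74722) (flp_i L74208) L107458
theorem L107468 : sm gh N8674 = N12605 := rfl
theorem L107470 : sm ga N12605 = N8697 := ded_17_1 (flp_h L74384) (flp_a L74204) L107468
theorem L107472 : sm gf N12605 = N8676 := ded_47_1 (flp_h L74222) L74202 L107468
theorem L107475 : sm gh N8675 = N12606 := rfl
theorem L107477 : sm ga N12606 = N8698 := ded_17_1 (flp_h L74391) (flp_a L74213) L107475
theorem L107484 : sm gd N8676 = N12607 := rfl
theorem L107488 : sm gg N12607 = N8677 := ded_36_2 (flp_d L74230) (flp_g L74228) L107484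
theorem L107491 : sm gh N12607 = N8793 := ded_38_2 (flp_d L75171) (flp_h L52022) (flp_d L51334) L74222 L107484
theorem L107493 : sm gi N8676 = N12608 := rfl
theorem L107503 : sm gc N8677 = N12609 := rfl
theorem L107505 : sm ga N12609 = N8701 := ded_11_1 (flp_c L74419) (flp_a L74232) L107503
theorem L107532 : sm gf N8681 = N12612 := rfl
theorem L107534 : sm gc N12612 = N8795 := ded_29_1 (flp_f L75187) (flp_c L74268) L107532
theorem L107536 : sm gd N12612 = N8683 := ded_35_1 (flp_f L74282) (flp_d L74270) L107532
theorem L107538 : sm gi N12612 = N8744 := ded_48_2 (flp_f L74766) (flp_i L74273) L107532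
theorem L107541 : sm gj N8681 = N12613 := rfl
theorem L107548 : sm gi N12613 = N8745 := ded_53_2 (flp_j L74773) (flp_i L74273) L107541
theorem L107551 : sm gh N8681 = N12614 := rfl
theorem L107553 : sm gc N12614 = N8797 := ded_32_1 (flp_h L75204) (flp_c L74268) L107551
theorem L107556 : sm gg N12614 = N8682 := ded_50_1 (flp_h L74275) L74266 L107551
theorem L107558 : sm gd N8682 = N12615 := rfl
theorem L107562 : sm gh N12615 = N8686 := ded_38_2 (flp_d L74306) (flp_h L51391) L51374 L74275 L107558
theorem L107564 : sm gi N8682 = N12616 := rfl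
theorem L107571 : sm gh N12616 = N8748 := ded_54_1 (flp_i L74795) (flp_h L51731) (flp_i L51378) L74275 L107564
theorem L107573 : sm gj N8683 = N12617 := rfl
theorem L107577 : sm gf N12617 = N8684 := ded_46_1 (flp_j L74289) L74282 L107573
theorem L107579 : sm gi N12617 = N8749 := ded_53_2 (flp_j L74802) (flp_i L74286) L107573
theorem L107581 : sm gh N8683 = N12618 := rfl
theorem L107583 : sm gc N12618 = N8697 := ded_32_1 (flp_h L74384) (flp_c L74284) L107581
theorem L107585 : sm gf N12618 = N8685 := ded_47_1 (flp_h L74298) L74282 L107581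
theorem L107588 : sm gh N8684 = N12619 := rfl
theorem L107597 : sm gd N8685 = N12620 := rfl
theorem L107611 : sm gc N8686 = N12622 := rfl
theorem L107615 : sm gd N12622 = N8701 := ded_27_2 (flp_c L74419) (flp_d L51469) (flp_c L51393) L74306 L107611
theorem L107684 : sm gi N8693 = N12633 := rfl
theorem L107688 : sm gf N12633 = N8694 := ded_48_1 (flp_i L74360) L74354 L107684
theorem L107691 : sm gh N8694 = N12634 := rfl
theorem L107694 : sm ge N12634 = N8695 := ded_43_1 (flp_h L74367) (flp_e L74364) L107691
theorem L107708 : sm gh N8696 = N12636 := rfl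
theorem L107710 : sm gb N12636 = N8705 := ded_25_1 (flp_h L74454) (flp_b L74376) L107708
theorem L107714 : sm gj N12636 = N8697 := ded_52_1 (flp_h L74384) L74374 L107708
theorem L107716 : sm gd N8697 = N12637 := rfl
theorem L107718 : sm gb N12637 = N8706 := ded_20_1 (flp_d L74460) (flp_b L74386) L107716
theorem L107720 : sm gf N12637 = N8699 := ded_35_2 (flp_d L74400) (flp_f L74388) L107716
theorem L107723 : sm gh N12637 = N8812 := ded_38_2 (flp_d L75330) (flp_h L52141) (flp_d L51445) L74384 L107716
theorem L107725 : sm gi N8697 = N12638 := rfl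
theorem L107734 : sm gd N8698 = N12639 := rfl
theorem L107736 : sm gb N12639 = N8708 := ded_20_1 (flp_d L74474) (flp_b L74393) L107734
theorem L107739 : sm gj N12639 = N8699 := ded_37_2 (flp_d L74400) (flp_j L74398) L107734
theorem L107742 : sm gh N12639 = N8813 := ded_38_2 (flp_d L75338) (flp_h L52150) (flp_d L51454) L74391 L107734
theorem L107755 : sm gc N8699 = N12641 := rfl
theorem L107762 : sm gi N8699 = N12642 := rfl
theorem L107772 : sm gb N8701 = N12643 := rfl
theorem L107779 : sm gc N12643 = N8712 := ded_19_2 (flp_b L74506) (flp_c L51540) (flp_b L51471) L74419 L107772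
theorem L107781 : sm gi N8701 = N12644 := rfl
theorem L107789 : sm gh N8704 = N12645 := rfl
theorem L107792 : sm gg N12645 = N8705 := ded_50_1 (flp_h L74454) L74446 L107789
theorem L107795 : sm gd N8705 = N12646 := rfl
theorem L107797 : sm gf N12646 = N8708 := ded_35_2 (flp_d L74474) (flp_f L74456) L107795
theorem L107799 : sm gj N12646 = N8706 := ded_37_2 (flp_d L74460) (flp_j L74458) L107795
theorem L107811 : sm gc N8706 = N12648 := rfl
theorem L107813 : sm gf N12648 = N8710 := ded_29_2 (flp_c L74491) (flp_f L74462) L107811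
theorem L107816 : sm gh N12648 = N8818 := ded_32_2 (flp_c L75377) (flp_h L74465) L107811
theorem L107818 : sm ge N8706 = N12649 := rfl
theorem L107821 : sm gh N12649 = N8819 := ded_43_2 (flp_e L75384) (flp_h L74465) L107818
theorem L107824 : sm gi N8706 = N12650 := rfl
theorem L107832 : sm gc N8708 = N12651 := rfl
theorem L107838 : sm gh N12651 = N8820 := ded_32_2 (flp_c L75390) (flp_h L74480) L107832
theorem L107840 : sm gi N8708 = N12652 := rfl
theorem L107846 : sm gj N12652 = N8711 := ded_53_1 (flp_i L74498) (flp_j L74477) L107840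
theorem L107849 : sm gb N8710 = N12653 := rfl
theorem L107852 : sm gg N12653 = N8712 := ded_23_2 (flp_b L74506) (flp_g L74494) L107849
theorem L107854 : sm gh N12653 = N8821 := ded_25_2 (flp_b L75398) (flp_h L74496) L107849
theorem L107856 : sm gi N8710 = N12654 := rfl
theorem L107858 : sm gc N12654 = N8711 := ded_33_1 (flp_i L74498) L74491 L107856
theorem L107861 : sm gg N12654 = N8713 := ded_51_1 (flp_i L74513) (flp_g L74494) L107856
theorem L107864 : sm ga N8712 = N12655 := rfl
theorem L107879 : sm gc N8714 = N12657 := rfl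
theorem L107884 : sm gb N12657 = N8823 := ded_19_1 (flp_c L75412) L52221 (flp_c L51599) (flp_b L74523) L107879
theorem L107886 : sm gg N8714 = N12658 := rfl
theorem L107890 : sm gd N12658 = N8715 := ded_36_1 (flp_g L74528) L74521 L107886
theorem L107893 : sm gh N8714 = N12659 := rfl
theorem L107900 : sm gf N8715 = N12660 := rfl
theorem L107902 : sm gb N12660 = N8726 := ded_22_1 (flp_f L74607) (flp_b L74530) L107900
theorem L107905 : sm gj N8715 = N12661 := rfl
theorem L107912 : sm gh N8715 = N12662 := rfl
theorem L107918 : sm gg N12662 = N8716 := ded_50_1 (flp_h L74534) L74528 L107912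
theorem L107920 : sm gd N8716 = N12663 := rfl
theorem L107922 : sm gb N12663 = N8729 := ded_20_1 (flp_d L74633) (flp_b L74536) L107920
theorem L107934 : sm gh N8717 = N12665 := rfl
theorem L107939 : sm gj N12665 = N8718 := ded_52_1 (flp_h L74548) L74542 L107934
theorem L107941 : sm gd N8718 = N12666 := rfl
theorem L107945 : sm gg N12666 = N8719 := ded_36_2 (flp_d L74554) (flp_g L74552) L107941
theorem L107954 : sm gc N8719 = N12668 := rfl
theorem L107956 : sm gf N12668 = N8721 := ded_29_2 (flp_c L74569) (flp_f L74558) L107954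
theorem L107962 : sm ge N8719 = N12669 := rfl
theorem L107977 : sm ge N8721 = N12671 := rfl
theorem L107985 : sm gi N8721 = N12672 := rfl
theorem L107992 : sm gf N8722 = N12673 := rfl
theorem L107994 : sm gb N12673 = N8736 := ded_22_1 (flp_f L74695) (flp_b L74577) L107992
theorem L108013 : sm gf N8724 = N12676 := rfl
theorem L108015 : sm ga N12676 = N8744 := ded_14_1 (flp_f L74766) (flp_a L74591) L108013
theorem L108017 : sm gc N12676 = N8828 := ded_29_1 (flp_f L75452) (flp_c L74593) L108013
theorem L108022 : sm gj N8724 = N12677 := rfl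
theorem L108028 : sm gd N12677 = N8727 := ded_37_1 (flp_j L74614) (flp_d L74595) L108022
theorem L108032 : sm gh N8724 = N12678 := rfl
theorem L108039 : sm gg N12678 = N8725 := ded_50_1 (flp_h L74598) L74589 L108032
theorem L108041 : sm gd N8725 = N12679 := rfl
theorem L108048 : sm gh N12679 = N8729 := ded_38_2 (flp_d L74633) (flp_h L51610) L51593 L74598 L108041
theorem L108059 : sm gj N8726 = N12681 := rfl
theorem L108061 : sm ga N12681 = N8749 := ded_16_1 (flp_j L74802) (flp_a L74609) L108059
theorem L108063 : sm gc N12681 = N8739 := ded_31_1 (flp_j L74722) (flp_c L74611) L108059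
theorem L108065 : sm gf N12681 = N8727 := ded_46_1 (flp_j L74614) L74607 L108059
theorem L108067 : sm gh N8726 = N12682 := rfl
theorem L108069 : sm ga N12682 = N8750 := ded_17_1 (flp_h L74808) (flp_a L74609) L108067
theorem L108073 : sm gf N12682 = N8728 := ded_47_1 (flp_h L74623) L74607 L108067
theorem L108076 : sm gh N8727 = N12683 := rfl
theorem L108085 : sm gj N12683 = N8728 := ded_52_1 (flp_h L74623) L74614 L108076
theorem L108087 : sm gd N8728 = N12684 := rfl
theorem L108091 : sm gg N12684 = N8729 := ded_36_2 (flp_d L74633) (flp_g L74631) L108087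
theorem L108104 : sm ge N8729 = N12686 := rfl
theorem L108140 : sm ge N8732 = N12690 := rfl
theorem L108144 : sm gc N12690 = N8972 := ded_28_1 (flp_e L76661) (flp_c L74665) L108140
theorem L108188 : sm gg N8736 = N12695 := rfl
theorem L108190 : sm ga N12695 = N8763 := ded_15_1 (flp_g L74903) (flp_a L74697) L108188
theorem L108206 : sm gh N8737 = N12697 := rfl
theorem L108212 : sm ge N12697 = N8738 := ded_43_1 (flp_h L74714) (flp_e L74711) L108206
theorem L108216 : sm gg N8739 = N12698 := rfl
theorem L108233 : sm gi N8740 = N12700 := rfl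
theorem L108241 : sm gi N8741 = N12701 := rfl
theorem L108251 : sm ge N8744 = N12702 := rfl
theorem L108253 : sm gc N12702 = N8834 := ded_28_1 (flp_e L75501) (flp_c L74768) L108251
theorem L108257 : sm gj N8744 = N12703 := rfl
theorem L108261 : sm gd N12703 = N8749 := ded_37_1 (flp_j L74802) (flp_d L74770) L108257
theorem L108263 : sm gf N12703 = N8745 := ded_46_1 (flp_j L74773) L74766 L108257
theorem L108265 : sm gh N8744 = N12704 := rfl
theorem L108269 : sm gf N12704 = N8746 := ded_47_1 (flp_h L74781) L74766 L108265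
theorem L108272 : sm gh N8745 = N12705 := rfl
theorem L108278 : sm gj N12705 = N8746 := ded_52_1 (flp_h L74781) L74773 L108272
theorem L108280 : sm gd N8746 = N12706 := rfl
theorem L108285 : sm gh N12706 = N8752 := ded_38_2 (flp_d L74824) (flp_h L51750) (flp_d L51728) L74781 L108280
theorem L108287 : sm gi N8746 = N12707 := rfl
theorem L108294 : sm ge N8747 = N12708 := rfl
theorem L108298 : sm gh N12708 = N8754 := ded_43_2 (flp_e L74837) (flp_h L74793) L108294
theorem L108308 : sm gg N8749 = N12710 := rfl
theorem L108314 : sm gh N8749 = N12711 := rfl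
theorem L108318 : sm gf N12711 = N8751 := ded_47_1 (flp_h L74815) (flp_f L74806) L108314
theorem L108320 : sm gj N12711 = N8750 := ded_52_1 (flp_h L74808) L74802 L108314
theorem L108322 : sm gd N8750 = N12712 := rfl
theorem L108328 : sm gi N8750 = N12713 := rfl
theorem L108335 : sm gd N8751 = N12714 := rfl
theorem L108341 : sm gi N8751 = N12715 := rfl
theorem L108345 : sm ge N12715 = N8757 := ded_44_1 (flp_i L74858) (flp_e L74819) L108341
theorem L108364 : sm gf N8754 = N12718 := rfl
theorem L108367 : sm gd N12718 = N8760 := ded_35_1 (flp_f L74880) (flp_d L74841) L108364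
theorem L108371 : sm gi N8754 = N12719 := rfl
theorem L108384 : sm ge N8756 = N12721 := rfl
theorem L108386 : sm gc N12721 = N8980 := ded_28_1 (flp_e L76727) (flp_c L74855) L108384
theorem L108389 : sm gj N12721 = N8758 := ded_42_2 (flp_e L74865) (flp_j L74853) L108384
theorem L108392 : sm gi N8756 = N12722 := rfl
theorem L108396 : sm gd N12722 = N8757 := ded_39_1 (flp_i L74858) L74850 L108392
theorem L108401 : sm gf N8758 = N12723 := rfl
theorem L108414 : sm gh N8759 = N12725 := rfl
theorem L108418 : sm gg N12725 = N8762 := ded_50_1 (flp_h L74895) (flp_g L74878) L108414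
theorem L108421 : sm gg N8760 = N12726 := rfl
theorem L108428 : sm gi N8760 = N12727 := rfl
theorem L108432 : sm ge N12727 = N8764 := ded_44_1 (flp_i L74909) (flp_e L74886) L108428
theorem L108434 : sm gf N12727 = N8761 := ded_48_1 (flp_i L74888) L74880 L108428
theorem L108452 : sm gi N8763 = N12730 := rfl
theorem L108457 : sm gg N12730 = N8764 := ded_51_1 (flp_i L74909) L74903 L108452
theorem L108459 : sm gh N8764 = N12731 := rfl
theorem L108463 : sm gf N12731 = N8765 := ded_47_1 (flp_h L74917) (flp_f L74914) L108459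
theorem L108467 : sm gd N8765 = N12732 := rfl
theorem L108497 : sm gc N8772 = N12736 := rfl
theorem L108499 : sm ga N12736 = N12736 := ded_11_1 (flp_c L108497) L74976 L108497
theorem L108500 : sm ge N12736 = N12736 := ded_28_2 (flp_c L108497) L74983 L108497
theorem L108501 : sm gf N12736 = N12736 := ded_29_2 (flp_c L108497) L74979 L108497
theorem L108502 : sm gj N12736 = N12736 := ded_31_2 (flp_c L108497) L74980 L108497
theorem L108503 : sm gi N12736 = N8823 := ded_33_2 (flp_c L75412) (flp_i L74981) L108497
theorem L108505 : sm gg N8772 = N12737 := rfl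
theorem L108507 : sm ga N12737 = N12737 := ded_15_1 (flp_g L108505) L74976 L108505
theorem L108508 : sm gb N12737 = N8780 := ded_23_1 (flp_g L75050) (flp_b L74977) L108505
theorem L108510 : sm gd N12737 = N8773 := ded_36_1 (flp_g L74984) L74974 L108505
theorem L108512 : sm ge N12737 = N12737 := ded_41_1 (flp_g L108505) L74983 L108505
theorem L108513 : sm gi N12737 = N8824 := ded_51_2 (flp_g L75418) (flp_i L74981) L108505
theorem L108515 : sm gh N8772 = N12738 := rfl
theorem L108523 : sm gf N8773 = N12739 := rfl
theorem L108525 : sm ga N12739 = N12739 := ded_14_1 (flp_f L108523) L74986 L108523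
theorem L108526 : sm gb N12739 = N8782 := ded_22_1 (flp_f L75066) (flp_b L74987) L108523
theorem L108528 : sm gi N12739 = N8826 := ded_48_2 (flp_f L75435) (flp_i L74991) L108523
theorem L108530 : sm ge N12739 = N12739 := ded_40_1 (flp_f L108523) L74989 L51915 (flp_e L74989) L108523
theorem L108531 : sm gg N12739 = N12739 := ded_45_2 (flp_f L108523) (flp_g L74984) L51906 L74984 L108523
theorem L108532 : sm gj N8773 = N12740 := rfl
theorem L108534 : sm ga N12740 = N12740 := ded_16_1 (flp_j L108532) L74986 L108532
theorem L108535 : sm gb N12740 = N8783 := ded_24_1 (flp_j L75076) (flp_b L74987) L108532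
theorem L108537 : sm ge N12740 = N8775 := ded_42_1 (flp_j L75003) (flp_e L74989) L108532
theorem L108539 : sm gi N12740 = N8827 := ded_53_2 (flp_j L75443) (flp_i L74991) L108532
theorem L108541 : sm gg N12740 = N12740 := ded_49_1 (flp_j L108532) (flp_g L74984) L51903 L74984 L108532
theorem L108542 : sm gh N8773 = N12741 := rfl
theorem L108545 : sm gb N12741 = N8784 := ded_25_1 (flp_h L75087) (flp_b L74987) L108542
theorem L108549 : sm gg N12741 = N8774 := ded_50_1 (flp_h L74993) L74984 L108542
theorem L108560 : sm gh N8775 = N12743 := rfl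
theorem L108563 : sm gb N12743 = N8786 := ded_25_1 (flp_h L75105) (flp_b L75006) L108560
theorem L108567 : sm gj N12743 = N8776 := ded_52_1 (flp_h L75013) L75003 L108560
theorem L108570 : sm gd N8776 = N12744 := rfl
theorem L108576 : sm gg N12744 = N8777 := ded_36_2 (flp_d L75022) (flp_g L75019) L108570
theorem L108589 : sm ge N8777 = N12746 := rfl
theorem L108607 : sm gf N8779 = N12748 := rfl
theorem L108610 : sm gb N12748 = N8789 := ded_22_1 (flp_f L75134) (flp_b L75043) L108607
theorem L108616 : sm gf N8780 = N12749 := rfl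
theorem L108618 : sm ga N12749 = N8795 := ded_14_1 (flp_f L75187) (flp_a L75052) L108616
theorem L108620 : sm gd N12749 = N8782 := ded_35_1 (flp_f L75066) (flp_d L75054) L108616
theorem L108622 : sm gi N12749 = N8828 := ded_48_2 (flp_f L75452) (flp_i L75057) L108616
theorem L108625 : sm gj N8780 = N12750 := rfl
theorem L108629 : sm gd N12750 = N8783 := ded_37_1 (flp_j L75076) (flp_d L75054) L108625
theorem L108635 : sm gh N8780 = N12751 := rfl
theorem L108640 : sm gg N12751 = N8781 := ded_50_1 (flp_h L75059) L75050 L108635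
theorem L108642 : sm gd N8781 = N12752 := rfl
theorem L108648 : sm gh N12752 = N8785 := ded_38_2 (flp_d L75098) (flp_h L51953) L51934 L75059 L108642
theorem L108659 : sm gj N8782 = N12754 := rfl
theorem L108666 : sm gf N12754 = N8783 := ded_46_1 (flp_j L75076) L75066 L108659
theorem L108670 : sm gh N8782 = N12755 := rfl
theorem L108672 : sm ga N12755 = N8801 := ded_17_1 (flp_h L75235) (flp_a L75068) L108670
theorem L108674 : sm gc N12755 = N8791 := ded_32_1 (flp_h L75152) (flp_c L75070) L108670
theorem L108677 : sm gf N12755 = N8784 := ded_47_1 (flp_h L75087) L75066 L108670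
theorem L108681 : sm gh N8783 = N12756 := rfl
theorem L108683 : sm ga N12756 = N8802 := ded_17_1 (flp_h L75245) (flp_a L75078) L108681
theorem L108685 : sm gc N12756 = N8792 := ded_32_1 (flp_h L75161) (flp_c L75080) L108681
theorem L108690 : sm gj N12756 = N8784 := ded_52_1 (flp_h L75087) L75076 L108681
theorem L108693 : sm gd N8784 = N12757 := rfl
theorem L108695 : sm ga N12757 = N8803 := ded_12_1 (flp_d L75256) (flp_a L75089) L108693
theorem L108697 : sm gg N12757 = N8785 := ded_36_2 (flp_d L75098) (flp_g L75095) L108693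
theorem L108700 : sm gc N8785 = N12758 := rfl
theorem L108747 : sm gg N8789 = N12763 := rfl
theorem L108749 : sm ga N12763 = N8809 := ded_15_1 (flp_g L75303) (flp_a L75136) L108747
theorem L108756 : sm gg N8790 = N12764 := rfl
theorem L108761 : sm gi N12764 = N8833 := ded_51_2 (flp_g L75493) (flp_i L75150) L108756
theorem L108765 : sm gh N8790 = N12765 := rfl
theorem L108767 : sm ga N12765 = N8811 := ded_17_1 (flp_h L75320) (flp_a L75145) L108765
theorem L108770 : sm gf N12765 = N8792 := ded_47_1 (flp_h L75161) (flp_f L75148) L108765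
theorem L108772 : sm gj N12765 = N8791 := ded_52_1 (flp_h L75152) L75143 L108765
theorem L108775 : sm gd N8791 = N12766 := rfl
theorem L108777 : sm ga N12766 = N8812 := ded_12_1 (flp_d L75330) (flp_a L75154) L108775
theorem L108779 : sm gf N12766 = N8793 := ded_35_2 (flp_d L75171) (flp_f L75157) L108775
theorem L108783 : sm gd N8792 = N12767 := rfl
theorem L108785 : sm ga N12767 = N8813 := ded_12_1 (flp_d L75338) (flp_a L75163) L108783
theorem L108788 : sm gj N12767 = N8793 := ded_37_2 (flp_d L75171) (flp_j L75168) L108783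
theorem L108792 : sm gc N8793 = N12768 := rfl
theorem L108806 : sm ge N8795 = N12770 := rfl
theorem L108810 : sm gi N12770 = N8834 := ded_44_2 (flp_e L75501) (flp_i L75192) L108806
theorem L108814 : sm gj N8795 = N12771 := rfl
theorem L108817 : sm gd N12771 = N8800 := ded_37_1 (flp_j L75225) (flp_d L75190) L108814
theorem L108819 : sm gf N12771 = N8796 := ded_46_1 (flp_j L75195) L75187 L108814
theorem L108821 : sm gi N12771 = N8835 := ded_53_2 (flp_j L75507) (flp_i L75192) L108814
theorem L108823 : sm gh N8795 = N12772 := rfl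
theorem L108826 : sm gf N12772 = N8797 := ded_47_1 (flp_h L75204) L75187 L108823
theorem L108829 : sm gh N8796 = N12773 := rfl
theorem L108836 : sm gd N8797 = N12774 := rfl
theorem L108839 : sm gg N12774 = N8798 := ded_36_2 (flp_d L75210) (flp_g L75208) L108836
theorem L108864 : sm gi N8798 = N12778 := rfl
theorem L108872 : sm gg N8800 = N12779 := rfl
theorem L108877 : sm ge N12779 = N12779 := ded_41_1 (flp_g L108872) L75230 L108872
theorem L108882 : sm gh N8800 = N12780 := rfl
theorem L108890 : sm gj N12780 = N8801 := ded_52_1 (flp_h L75235) L75225 L108882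
theorem L108893 : sm gd N8801 = N12781 := rfl
theorem L108896 : sm gf N12781 = N8803 := ded_35_2 (flp_d L75256) (flp_f L75241) L108893
theorem L108900 : sm gd N8802 = N12782 := rfl
theorem L108904 : sm gj N12782 = N8803 := ded_37_2 (flp_d L75256) (flp_j L75253) L108900
theorem L108945 : sm ge N8806 = N12788 := rfl
theorem L108950 : sm gj N12788 = N8807 := ded_42_2 (flp_e L75286) (flp_j L75281) L108945
theorem L108978 : sm gh N8810 = N12792 := rfl
theorem L108980 : sm gb N12792 = N8816 := ded_25_1 (flp_h L75361) (flp_b L75313) L108978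
theorem L108984 : sm gg N12792 = N8811 := ded_50_1 (flp_h L75320) L75311 L108978
theorem L108988 : sm gd N8811 = N12793 := rfl
theorem L108990 : sm gb N12793 = N8817 := ded_20_1 (flp_d L75370) (flp_b L75322) L108988
theorem L108994 : sm gj N12793 = N8812 := ded_37_2 (flp_d L75330) (flp_j L75327) L108988
theorem L108997 : sm gc N8812 = N12794 := rfl
theorem L109003 : sm ge N8812 = N12795 := rfl
theorem L109011 : sm gc N8813 = N12796 := rfl
theorem L109015 : sm gj N12796 = N8814 := ded_31_2 (flp_c L75347) (flp_j L75343) L109011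
theorem L109034 : sm gd N8816 = N12799 := rfl
theorem L109037 : sm gg N12799 = N8817 := ded_36_2 (flp_d L75370) (flp_g L75366) L109034
theorem L109041 : sm gc N8817 = N12800 := rfl
theorem L109043 : sm gf N12800 = N8820 := ded_29_2 (flp_c L75390) (flp_f L75372) L109041
theorem L109045 : sm gj N12800 = N8818 := ded_31_2 (flp_c L75377) (flp_j L75374) L109041
theorem L109049 : sm ge N8817 = N12801 := rfl
theorem L109051 : sm gj N12801 = N8819 := ded_42_2 (flp_e L75384) (flp_j L75374) L109049
theorem L109056 : sm gb N8818 = N12802 := rfl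
theorem L109063 : sm ge N8818 = N12803 := rfl
theorem L109070 : sm gb N8820 = N12804 := rfl
theorem L109075 : sm gj N12804 = N8821 := ded_24_2 (flp_b L75398) (flp_j L75394) L109070
theorem L109078 : sm ga N8821 = N12805 := rfl
theorem L109082 : sm gg N12805 = N8822 := ded_15_2 (flp_a L75405) (flp_g L75402) L109078
theorem L109085 : sm gg N8823 = N12806 := rfl
theorem L109087 : sm ga N12806 = N12806 := ded_15_1 (flp_g L109085) L75414 L109085
theorem L109088 : sm gc N12806 = N8824 := ded_30_1 (flp_g L75418) L75412 L109085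
theorem L109090 : sm ge N12806 = N12806 := ded_41_1 (flp_g L109085) L75415 L109085
theorem L109099 : sm gf N8824 = N12808 := rfl
theorem L109102 : sm gb N12808 = N8828 := ded_22_1 (flp_f L75452) (flp_b L75421) L109099
theorem L109104 : sm gd N12808 = N8826 := ded_35_1 (flp_f L75435) (flp_d L75423) L109099
theorem L109107 : sm gj N8824 = N12809 := rfl
theorem L109134 : sm gj N8826 = N12812 := rfl
theorem L109140 : sm gf N12812 = N8827 := ded_46_1 (flp_j L75443) L75435 L109134
theorem L109143 : sm ge N8828 = N12813 := rfl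
theorem L109150 : sm gj N8828 = N12814 := rfl
theorem L109158 : sm gh N8828 = N12815 := rfl
theorem L109166 : sm gh N8829 = N12816 := rfl
theorem L109168 : sm ga N12816 = N8837 := ded_17_1 (flp_h L75521) (flp_a L75461) L109166
theorem L109193 : sm gj N8834 = N12819 := rfl
theorem L109197 : sm ge N12819 = N8835 := ded_42_1 (flp_j L75507) L75501 L109193
theorem L109207 : sm gg N8835 = N12821 := rfl
theorem L109229 : sm gi N8837 = N12824 := rfl
theorem L109235 : sm gj N12824 = N8838 := ded_53_1 (flp_i L75529) (flp_j L75526) L109229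
theorem L109237 : sm gd N8840 = N12825 := rfl
theorem L109242 : sm gf N12825 = N8992 := ded_35_2 (flp_d L76815) (flp_f L75553) L109237
theorem L109244 : sm gj N12825 = N8894 := ded_37_2 (flp_d L76029) (flp_j L75550) L109237
theorem L109248 : sm gg N8840 = N12826 := rfl
theorem L109256 : sm gh N8840 = N12827 := rfl
theorem L109263 : sm gf N12827 = N8994 := ded_47_1 (flp_h L76834) (flp_f L75553) L109256
theorem L109265 : sm gj N12827 = N8896 := ded_52_1 (flp_h L76047) (flp_j L75550) L109256
theorem L109285 : sm gd N8842 = N12830 := rfl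
theorem L109288 : sm gb N12830 = N8850 := ded_20_1 (flp_d L75644) (flp_b L75566) L109285
theorem L109290 : sm gf N12830 = N8843 := ded_35_2 (flp_d L75572) (flp_f L75568) L109285
theorem L109292 : sm gj N12830 = N8899 := ded_37_2 (flp_d L76074) (flp_j L75570) L109285
theorem L109312 : sm ge N8843 = N12833 := rfl
theorem L109318 : sm gj N12833 = N8902 := ded_42_2 (flp_e L76096) (flp_j L75578) L109312
theorem L109323 : sm gi N8843 = N12834 := rfl
theorem L109328 : sm gd N12834 = N8844 := ded_39_1 (flp_i L75581) L75572 L109323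
theorem L109333 : sm gg N8845 = N12835 := rfl
theorem L109338 : sm gd N12835 = N8846 := ded_36_1 (flp_g L75603) L75592 L109333
theorem L109342 : sm gh N8845 = N12836 := rfl
theorem L109344 : sm ga N12836 = N8862 := ded_17_1 (flp_h L75755) (flp_a L75594) L109342
theorem L109348 : sm gf N12836 = N9002 := ded_47_1 (flp_h L76913) (flp_f L75596) L109342
theorem L109350 : sm gj N12836 = N8905 := ded_52_1 (flp_h L76125) (flp_j L75598) L109342
theorem L109352 : sm gf N8846 = N12837 := rfl
theorem L109354 : sm ga N12837 = N8863 := ded_14_1 (flp_f L75764) (flp_a L75605) L109352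
theorem L109360 : sm gg N12837 = N9003 := ded_45_2 (flp_f L76922) (flp_g L53299) (flp_f L52357) L75603 L109352
theorem L109362 : sm gj N8846 = N12838 := rfl
theorem L109366 : sm gc N12838 = N8855 := ded_31_1 (flp_j L75692) (flp_c L75607) L109362
theorem L109371 : sm gg N12838 = N8906 := ded_49_1 (flp_j L76133) (flp_g L52703) (flp_j L52354) L75603 L109362
theorem L109373 : sm gh N8846 = N12839 := rfl
theorem L109379 : sm ge N12839 = N8849 := ded_43_1 (flp_h L75635) (flp_e L75609) L109373
theorem L109383 : sm gd N8847 = N12840 := rfl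
theorem L109389 : sm gj N12840 = N8908 := ded_37_2 (flp_d L76154) (flp_j L75622) L109383
theorem L109404 : sm gh N8848 = N12842 := rfl
theorem L109408 : sm gc N12842 = N8859 := ded_32_1 (flp_h L75730) (flp_c L75628) L109404
theorem L109413 : sm gj N12842 = N8849 := ded_52_1 (flp_h L75635) L75624 L109404
theorem L109415 : sm gd N8849 = N12843 := rfl
theorem L109417 : sm ga N12843 = N8869 := ded_12_1 (flp_d L75821) (flp_a L75637) L109415
theorem L109420 : sm gg N12843 = N8850 := ded_36_2 (flp_d L75644) (flp_g L75642) L109415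
theorem L109433 : sm ge N8850 = N12845 := rfl
theorem L109437 : sm gj N12845 = N8913 := ded_42_2 (flp_e L76201) (flp_j L75650) L109433
theorem L109440 : sm gi N8850 = N12846 := rfl
theorem L109450 : sm gf N8852 = N12847 := rfl
theorem L109456 : sm gj N12847 = N8915 := ded_46_2 (flp_f L76214) (flp_j L75669) L109450
theorem L109459 : sm gi N8852 = N12848 := rfl
theorem L109463 : sm gd N12848 = N9012 := ded_39_1 (flp_i L77010) (flp_d L75672) L109459
theorem L109479 : sm gj N8854 = N12850 := rfl
theorem L109485 : sm gf N12850 = N8855 := ded_46_1 (flp_j L75692) L75683 L109479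
theorem L109498 : sm gh N8855 = N12852 := rfl
theorem L109506 : sm gj N12852 = N8856 := ded_52_1 (flp_h L75702) L75692 L109498
theorem L109508 : sm gd N8856 = N12853 := rfl
theorem L109512 : sm gg N12853 = N8857 := ded_36_2 (flp_d L75710) (flp_g L75708) L109508
theorem L109515 : sm gi N8856 = N12854 := rfl
theorem L109521 : sm gg N12854 = N8858 := ded_51_1 (flp_i L75719) (flp_g L75708) L109515
theorem L109524 : sm gc N8857 = N12855 := rfl
theorem L109528 : sm gf N12855 = N9017 := ded_29_2 (flp_c L77058) (flp_f L75714) L109524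
theorem L109530 : sm gj N12855 = N8921 := ded_31_2 (flp_c L76266) (flp_j L75716) L109524
theorem L109572 : sm gh N8861 = N12860 := rfl
theorem L109577 : sm gg N12860 = N8862 := ded_50_1 (flp_h L75755) L75747 L109572
theorem L109579 : sm gd N8862 = N12861 := rfl
theorem L109582 : sm gf N12861 = N9021 := ded_35_2 (flp_d L77092) (flp_f L75760) L109579
theorem L109584 : sm gj N12861 = N8926 := ded_37_2 (flp_d L76307) (flp_j L75762) L109579
theorem L109586 : sm gh N12861 = N8866 := ded_38_2 (flp_d L75792) (flp_h L52460) L52442 L75755 L109579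
theorem L109598 : sm gj N8863 = N12863 := rfl
theorem L109604 : sm gf N12863 = N8864 := ded_46_1 (flp_j L75773) L75764 L109598
theorem L109608 : sm gh N8863 = N12864 := rfl
theorem L109618 : sm gh N8864 = N12865 := rfl
theorem L109621 : sm gc N12865 = N8878 := ded_32_1 (flp_h L75897) (flp_c L75776) L109618
theorem L109625 : sm gg N12865 = N8928 := ded_50_1 (flp_h L76322) (flp_g L75781) L109618
theorem L109627 : sm gj N12865 = N8865 := ded_52_1 (flp_h L75783) L75773 L109618
theorem L109629 : sm gd N8865 = N12866 := rfl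
theorem L109644 : sm gc N8866 = N12868 := rfl
theorem L109646 : sm gf N12868 = N9026 := ded_29_2 (flp_c L77134) (flp_f L75795) L109644
theorem L109648 : sm gj N12868 = N8931 := ded_31_2 (flp_c L76349) (flp_j L75797) L109644
theorem L109668 : sm gd N8868 = N12871 := rfl
theorem L109672 : sm gg N12871 = N8934 := ded_36_2 (flp_d L76367) (flp_g L75817) L109668
theorem L109674 : sm gj N12871 = N8869 := ded_37_2 (flp_d L75821) (flp_j L75819) L109668
theorem L109688 : sm ge N8869 = N12873 := rfl
theorem L109691 : sm gg N12873 = N8871 := ded_41_2 (flp_e L75837) (flp_g L75825) L109688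
theorem L109710 : sm gi N8871 = N12876 := rfl
theorem L109726 : sm gg N8873 = N12878 := rfl
theorem L109729 : sm gd N12878 = N9034 := ded_36_1 (flp_g L77202) (flp_d L75855) L109726
theorem L109733 : sm gi N8873 = N12879 := rfl
theorem L109736 : sm gd N12879 = N9035 := ded_39_1 (flp_i L77209) (flp_d L75855) L109733
theorem L109740 : sm gj N12879 = N8942 := ded_53_1 (flp_i L76426) (flp_j L75857) L109733
theorem L109742 : sm gh N8874 = N12880 := rfl
theorem L109748 : sm gj N12880 = N8943 := ded_52_1 (flp_h L76433) (flp_j L75868) L109742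
theorem L109751 : sm gh N8876 = N12881 := rfl
theorem L109756 : sm gf N12881 = N8878 := ded_47_1 (flp_h L75897) (flp_f L75884) L109751
theorem L109759 : sm gj N12881 = N8877 := ded_52_1 (flp_h L75888) L75878 L109751
theorem L109761 : sm gd N8877 = N12882 := rfl
theorem L109765 : sm gf N12882 = N8879 := ded_35_2 (flp_d L75907) (flp_f L75893) L109761
theorem L109767 : sm gg N12882 = N9037 := ded_36_2 (flp_d L77228) (flp_g L75895) L109761
theorem L109780 : sm gd N8878 = N12884 := rfl
theorem L109784 : sm gg N12884 = N8944 := ded_36_2 (flp_d L76441) (flp_g L75903) L109780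
theorem L109786 : sm gj N12884 = N8879 := ded_37_2 (flp_d L75907) (flp_j L75905) L109780
theorem L109800 : sm gc N8879 = N12886 := rfl
theorem L109805 : sm gi N8879 = N12887 := rfl
theorem L109811 : sm gg N12887 = N8882 := ded_51_1 (flp_i L75930) (flp_g L75911) L109805
theorem L109813 : sm gb N8881 = N12888 := rfl
theorem L109815 : sm gf N12888 = N9041 := ded_22_2 (flp_b L77262) (flp_f L75925) L109813
theorem L109820 : sm gc N12888 = N8891 := ded_19_2 (flp_b L76004) (flp_c L52627) (flp_b L52553) L75923 L109813
theorem L109830 : sm gh N8882 = N12890 := rfl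
theorem L109840 : sm gd N8884 = N12891 := rfl
theorem L109842 : sm gf N12891 = N8887 := ded_35_2 (flp_d L75975) (flp_f L75954) L109840
theorem L109845 : sm gj N12891 = N8885 := ded_37_2 (flp_d L75959) (flp_j L75957) L109840
theorem L109848 : sm gi N8884 = N12892 := rfl
theorem L109852 : sm gf N12892 = N8888 := ded_48_1 (flp_i L75982) (flp_f L75954) L109848
theorem L109858 : sm gc N8885 = N12893 := rfl
theorem L109862 : sm gg N12893 = N9044 := ded_30_2 (flp_c L77286) (flp_g L75963) L109858
theorem L109880 : sm gc N8887 = N12896 := rfl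
theorem L109882 : sm gg N12896 = N8951 := ded_30_2 (flp_c L76495) (flp_g L75977) L109880
theorem L109884 : sm gj N12896 = N8889 := ded_31_2 (flp_c L75992) (flp_j L75979) L109880
theorem L109888 : sm gi N8887 = N12897 := rfl
theorem L109890 : sm gd N12897 = N8888 := ded_39_1 (flp_i L75982) L75975 L109888
theorem L109902 : sm gi N8889 = N12899 := rfl
theorem L109915 : sm ga N8891 = N12901 := rfl
theorem L109920 : sm gj N12901 = N8956 := ded_16_2 (flp_a L76531) (flp_j L76009) L109915
theorem L109923 : sm gi N8891 = N12902 := rfl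
theorem L109941 : sm gc N8894 = N12904 := rfl
theorem L109945 : sm gf N12904 = N9053 := ded_29_2 (flp_c L77354) (flp_f L76034) L109941
theorem L109959 : sm gh N8894 = N12906 := rfl
theorem L109976 : sm gh N8895 = N12908 := rfl
theorem L109984 : sm gg N12908 = N8896 := ded_50_1 (flp_h L76047) L76038 L109976
theorem L109986 : sm gd N8896 = N12909 := rfl
theorem L110003 : sm gh N8897 = N12911 := rfl
theorem L110010 : sm gj N12911 = N8898 := ded_52_1 (flp_h L76065) L76056 L110003
theorem L110012 : sm gd N8898 = N12912 := rfl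
theorem L110015 : sm gb N12912 = N8911 := ded_20_1 (flp_d L76181) (flp_b L76068) L110012
theorem L110019 : sm gg N12912 = N8899 := ded_36_2 (flp_d L76074) (flp_g L76072) L110012
theorem L110032 : sm gc N8899 = N12914 := rfl
theorem L110038 : sm ge N8899 = N12915 := rfl
theorem L110044 : sm gi N8899 = N12916 := rfl
theorem L110068 : sm gf N8902 = N12919 := rfl
theorem L110076 : sm gi N8902 = N12920 := rfl
theorem L110081 : sm gd N12920 = N9063 := ded_39_1 (flp_i L77437) (flp_d L76104) L110076
theorem L110096 : sm gj N8904 = N12922 := rfl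
theorem L110106 : sm gh N8904 = N12923 := rfl
theorem L110115 : sm gd N8905 = N12924 := rfl
theorem L110121 : sm gh N12924 = N8908 := ded_38_2 (flp_d L76154) (flp_h L52713) L52694 L76125 L110115
theorem L110132 : sm gh N8906 = N12926 := rfl
theorem L110136 : sm gc N12926 = N8918 := ded_32_1 (flp_h L76239) (flp_c L76137) L110132
theorem L110138 : sm ge N12926 = N8910 := ded_43_1 (flp_h L76171) (flp_e L76139) L110132
theorem L110141 : sm gj N12926 = N8907 := ded_52_1 (flp_h L76143) L76133 L110132
theorem L110143 : sm gd N8907 = N12927 := rfl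
theorem L110162 : sm gc N8908 = N12929 := rfl
theorem L110164 : sm ga N12929 = N8931 := ded_11_1 (flp_c L76349) (flp_a L76156) L110162
theorem L110166 : sm gf N12929 = N9067 := ded_29_2 (flp_c L77472) (flp_f L76158) L110162
theorem L110170 : sm ge N8908 = N12930 := rfl
theorem L110193 : sm gi N8910 = N12933 := rfl
theorem L110201 : sm gj N12933 = N8912 := ded_53_1 (flp_i L76190) (flp_j L76179) L110193
theorem L110204 : sm ge N8911 = N12934 := rfl
theorem L110206 : sm ga N12934 = N8936 := ded_13_1 (flp_e L76385) (flp_a L76183) L110204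
theorem L110221 : sm gf N8913 = N12936 := rfl
theorem L110251 : sm gi N8915 = N12940 := rfl
theorem L110253 : sm ga N12940 = N8942 := ded_18_1 (flp_i L76426) (flp_a L76216) L110251
theorem L110259 : sm gh N8916 = N12941 := rfl
theorem L110286 : sm gc N8919 = N12944 := rfl
theorem L110291 : sm gg N12944 = N8921 := ded_30_2 (flp_c L76266) (flp_g L76253) L110286
theorem L110303 : sm gb N8921 = N12946 := rfl

end Cfsg.Agent.Helper28.FicA
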