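import Cfsg.Agent.Helper28.FicB15

/-! # The Fi₂₃ presentation, cosets of the subgroup generated by a, …, i: the coset enumeration, part 16 (helper28; generated) -/

set_option autoImplicit false

noncomputable section

namespace Cfsg.Agent.Helper28.FicA

open Cfsg.Agent.Helper28.CosetTable

theorem L110308 : sm gi N8921 = N12947 := rfl
theorem L110324 : sm gh N8924 = N12949 := rfl
theorem L110330 : sm gj N12949 = N8925 := ded_52_1 (flp_h L76299) L76290 L110324
theorem L110332 : sm gd N8925 = N12950 := rfl
theorem L110336 : sm gg N12950 = N8926 := ded_36_2 (flp_d L76307) (flp_g L76305) L110332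
theorem L110338 : sm gh N12950 = N8929 := ded_38_2 (flp_d L76332) (flp_h L52852) (flp_d L52831) L76299 L110332
theorem L110349 : sm gc N8926 = N12952 := rfl
theorem L110353 : sm gh N12952 = N8931 := ded_32_2 (flp_c L76349) (flp_h L76312) L110349
theorem L110356 : sm ge N8926 = N12953 := rfl
theorem L110359 : sm gh N12953 = N8932 := ded_43_2 (flp_e L76355) (flp_h L76312) L110356
theorem L110362 : sm gi N8926 = N12954 := rfl
theorem L110365 : sm gd N12954 = N8927 := ded_39_1 (flp_i L76314) L76307 L110362
theorem L110369 : sm gd N8928 = N12955 := rfl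
theorem L110373 : sm gj N12955 = N8929 := ded_37_2 (flp_d L76332) (flp_j L76330) L110369
theorem L110386 : sm gc N8929 = N12957 := rfl
theorem L110389 : sm gg N12957 = N8931 := ded_30_2 (flp_c L76349) (flp_g L76336) L110386
theorem L110393 : sm ge N8929 = N12958 := rfl
theorem L110408 : sm gb N8931 = N12960 := rfl
theorem L110412 : sm gf N12960 = N9082 := ded_22_2 (flp_b L77589) (flp_f L76351) L110408
theorem L110415 : sm ge N8931 = N12961 := rfl
theorem L110427 : sm gf N8932 = N12963 := rfl
theorem L110430 : sm gd N12963 = N8938 := ded_35_1 (flp_f L76400) (flp_d L76358) L110427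
theorem L110441 : sm gh N8933 = N12965 := rfl
theorem L110447 : sm ge N8934 = N12966 := rfl
theorem L110450 : sm gj N12966 = N8936 := ded_42_2 (flp_e L76385) (flp_j L76372) L110447
theorem L110453 : sm gi N8934 = N12967 := rfl
theorem L110458 : sm gf N12967 = N8981 := ded_48_1 (flp_i L76735) (flp_f L76370) L110453
theorem L110460 : sm gj N12967 = N8937 := ded_53_1 (flp_i L76391) (flp_j L76372) L110453
theorem L110462 : sm gf N8936 = N12968 := rfl
theorem L110468 : sm gi N8936 = N12969 := rfl
theorem L110473 : sm gg N12969 = N8939 := ded_51_1 (flp_i L76406) (flp_g L76388) L110468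
theorem L110490 : sm gi N8938 = N12972 := rfl
theorem L110495 : sm gf N12972 = N8939 := ded_48_1 (flp_i L76406) L76400 L110490
theorem L110497 : sm gh N8939 = N12973 := rfl
theorem L110503 : sm gj N8941 = N12974 := rfl
theorem L110506 : sm gd N12974 = N9091 := ded_37_1 (flp_j L77652) (flp_d L76421) L110503
theorem L110508 : sm gf N12974 = N8988 := ded_46_1 (flp_j L76786) (flp_f L76424) L110503
theorem L110511 : sm gi N8941 = N12975 := rfl
theorem L110514 : sm gd N12975 = N9092 := ded_39_1 (flp_i L77660) (flp_d L76421) L110511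
theorem L110518 : sm gg N12975 = N8942 := ded_51_1 (flp_i L76426) L76418 L110511
theorem L110520 : sm gh N8942 = N12976 := rfl
theorem L110526 : sm gd N8943 = N12977 := rfl
theorem L110529 : sm gg N12977 = N8991 := ded_36_2 (flp_d L76807) (flp_g L76438) L110526
theorem L110535 : sm gc N8944 = N12978 := rfl
theorem L110550 : sm gb N8946 = N12980 := rfl
theorem L110553 : sm gg N12980 = N8948 := ded_23_2 (flp_b L76474) (flp_g L76462) L110550
theorem L110556 : sm gc N12980 = N8953 := ded_19_2 (flp_b L76509) (flp_c L53001) (flp_b L52948) L76459 L110550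
theorem L110565 : sm gh N8947 = N12982 := rfl
theorem L110581 : sm gi N8948 = N12984 := rfl
theorem L110587 : sm gf N12984 = N9096 := ded_48_1 (flp_i L77691) (flp_f L76476) L110581
theorem L110596 : sm gb N8951 = N12986 := rfl
theorem L110600 : sm gj N12986 = N8953 := ded_24_2 (flp_b L76509) (flp_j L76498) L110596
theorem L110603 : sm gi N8951 = N12987 := rfl
theorem L110625 : sm gi N8953 = N12990 := rfl
theorem L110631 : sm gg N12990 = N8957 := ded_51_1 (flp_i L76537) (flp_g L76513) L110625
theorem L110641 : sm gi N8956 = N12992 := rfl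
theorem L110648 : sm gh N8957 = N12993 := rfl
theorem L110652 : sm gf N12993 = N9099 := ded_47_1 (flp_h L77713) (flp_f L76542) L110648
theorem L110662 : sm gd N8959 = N12995 := rfl
theorem L110668 : sm gj N12995 = N8960 := ded_37_2 (flp_d L76560) (flp_j L76558) L110662
theorem L110681 : sm gc N8960 = N12997 := rfl
theorem L110684 : sm gg N12997 = N8962 := ded_30_2 (flp_c L76577) (flp_g L76565) L110681
theorem L110687 : sm ge N8960 = N12998 := rfl
theorem L110690 : sm gb N12998 = N8972 := ded_21_1 (flp_e L76661) (flp_b L76563) L110687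
theorem L110705 : sm ge N8962 = N13000 := rfl
theorem L110777 : sm gg N8967 = N13009 := rfl
theorem L110785 : sm gi N8967 = N13010 := rfl
theorem L110788 : sm gb N13010 = N8978 := ded_26_1 (flp_i L76710) (flp_b L76618) L110785
theorem L110790 : sm gd N13010 = N9106 := ded_39_1 (flp_i L77768) (flp_d L76620) L110785
theorem L110792 : sm gf N13010 = N8968 := ded_48_1 (flp_i L76624) L76615 L110785
theorem L110795 : sm gh N8968 = N13011 := rfl
theorem L110813 : sm gi N8970 = N13013 := rfl
theorem L110815 : sm ga N13013 = N8981 := ded_18_1 (flp_i L76735) (flp_a L76644) L110813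
theorem L110822 : sm gf N8972 = N13014 := rfl
theorem L110828 : sm gi N8972 = N13015 := rfl
theorem L110835 : sm gg N13015 = N8975 := ded_51_1 (flp_i L76686) (flp_g L76665) L110828
theorem L110845 : sm gg N8974 = N13017 := rfl
theorem L110853 : sm gi N8974 = N13018 := rfl
theorem L110858 : sm ge N13018 = N8978 := ded_44_1 (flp_i L76710) (flp_e L76684) L110853
theorem L110860 : sm gf N13018 = N8975 := ded_48_1 (flp_i L76686) L76677 L110853
theorem L110863 : sm gh N8975 = N13019 := rfl
theorem L110887 : sm gh N8978 = N13022 := rfl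
theorem L110904 : sm gf N8980 = N13024 := rfl
theorem L110920 : sm gh N8981 = N13026 := rfl
theorem L110981 : sm gi N8988 = N13034 := rfl
theorem L110987 : sm gj N13034 = N8989 := ded_53_1 (flp_i L76793) L76786 L110981
theorem L110989 : sm gh N8989 = N13035 := rfl
theorem L111011 : sm gc N8992 = N13038 := rfl
theorem L111016 : sm gj N13038 = N9053 := ded_31_2 (flp_c L77354) (flp_j L76820) L111011
theorem L111020 : sm gg N8992 = N13039 := rfl
theorem L111031 : sm gh N8992 = N13040 := rfl
theorem L111036 : sm ge N13040 = N9118 := ded_43_1 (flp_h L77873) (flp_e L76823) L111031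
theorem L111040 : sm gf N8993 = N13041 := rfl
theorem L111043 : sm gb N13041 = N9003 := ded_22_1 (flp_f L76922) (flp_b L76828) L111040
theorem L111048 : sm gh N8993 = N13042 := rfl
theorem L111055 : sm gg N13042 = N8994 := ded_50_1 (flp_h L76834) L76825 L111048
theorem L111058 : sm gd N8994 = N13043 := rfl
theorem L111063 : sm gj N13043 = N9055 := ded_37_2 (flp_d L77370) (flp_j L76841) L111058
theorem L111075 : sm gd N8995 = N13045 := rfl
theorem L111081 : sm gg N13045 = N8996 := ded_36_2 (flp_d L76852) (flp_g L76849) L111075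
theorem L111084 : sm gh N13045 = N9123 := ded_38_2 (flp_d L77922) (flp_h L54023) (flp_d L53256) L76843 L111075
theorem L111096 : sm gc N8996 = N13047 := rfl
theorem L111101 : sm gj N13047 = N9057 := ded_31_2 (flp_c L77385) (flp_j L76859) L111096
theorem L111103 : sm gh N13047 = N9125 := ded_32_2 (flp_c L77942) (flp_h L76861) L111096
theorem L111106 : sm ge N8996 = N13048 := rfl
theorem L111111 : sm gj N13048 = N9058 := ded_42_2 (flp_e L77394) (flp_j L76859) L111106
theorem L111113 : sm gh N13048 = N9126 := ded_43_2 (flp_e L77951) (flp_h L76861) L111106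
theorem L111115 : sm gi N8996 = N13049 := rfl
theorem L111124 : sm gj N13049 = N9059 := ded_53_1 (flp_i L77402) (flp_j L76859) L111115
theorem L111126 : sm ge N8998 = N13050 := rfl
theorem L111133 : sm gj N13050 = N9060 := ded_42_2 (flp_e L77412) (flp_j L76877) L111126
theorem L111135 : sm gh N13050 = N9128 := ded_43_2 (flp_e L77969) (flp_h L76879) L111126
theorem L111137 : sm gi N8998 = N13051 := rfl
theorem L111155 : sm gi N8999 = N13053 := rfl
theorem L111158 : sm gb N13053 = N9012 := ded_26_1 (flp_i L77010) (flp_b L76885) L111155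
theorem L111176 : sm gf N9001 = N13055 := rfl
theorem L111181 : sm gd N13055 = N9003 := ded_35_1 (flp_f L76922) (flp_d L76907) L111176
theorem L111185 : sm gh N9001 = N13056 := rfl
theorem L111190 : sm ge N13056 = N9134 := ded_43_1 (flp_h L78026) (flp_e L76909) L111185
theorem L111192 : sm gg N13056 = N9002 := ded_50_1 (flp_h L76913) L76902 L111185
theorem L111195 : sm gd N9002 = N13057 := rfl
theorem L111199 : sm gj N13057 = N9065 := ded_37_2 (flp_d L77456) (flp_j L76920) L111195
theorem L111201 : sm gh N13057 = N9005 := ded_38_2 (flp_d L76942) (flp_h L53309) L53289 L76913 L111195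
theorem L111203 : sm gi N9002 = N13058 := rfl
theorem L111210 : sm gj N13058 = N9066 := ded_53_1 (flp_i L77463) (flp_j L76920) L111203
theorem L111213 : sm gh N9003 = N13059 := rfl
theorem L111220 : sm gf N13059 = N9004 := ded_47_1 (flp_h L76931) L76922 L111213
theorem L111223 : sm gd N9004 = N13060 := rfl
theorem L111227 : sm gg N13060 = N9005 := ded_36_2 (flp_d L76942) (flp_g L76939) L111223
theorem L111242 : sm gc N9005 = N13062 := rfl
theorem L111246 : sm gj N13062 = N9067 := ded_31_2 (flp_c L77472) (flp_j L76946) L111242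
theorem L111248 : sm gd N13062 = N9017 := ded_27_2 (flp_c L77058) (flp_d L53388) (flp_c L53313) L76942 L111242
theorem L111250 : sm ge N9005 = N13063 := rfl
theorem L111254 : sm gj N13063 = N9068 := ded_42_2 (flp_e L77479) (flp_j L76946) L111250
theorem L111266 : sm ge N9007 = N13065 := rfl
theorem L111271 : sm gg N13065 = N9009 := ded_41_2 (flp_e L76981) (flp_g L76964) L111266
theorem L111274 : sm gh N13065 = N9143 := ded_43_2 (flp_e L78108) (flp_h L76968) L111266
theorem L111276 : sm gi N9007 = N13066 := rfl
theorem L111284 : sm gg N13066 = N9010 := ded_51_1 (flp_i L76990) (flp_g L76964) L111276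
theorem L111287 : sm gf N9009 = N13067 := rfl
theorem L111292 : sm gj N13067 = N9070 := ded_46_2 (flp_f L77493) (flp_j L76986) L111287
theorem L111294 : sm gh N13067 = N9145 := ded_47_2 (flp_f L78127) (flp_h L76988) L111287
theorem L111298 : sm gi N9009 = N13068 := rfl
theorem L111305 : sm gj N13068 = N9071 := ded_53_1 (flp_i L77502) (flp_j L76986) L111298
theorem L111319 : sm gg N9011 = N13070 := rfl
theorem L111324 : sm gh N13070 = N9148 := ded_50_2 (flp_g L78155) (flp_h L77008) L111319
theorem L111327 : sm gi N9011 = N13071 := rfl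
theorem L111329 : sm ga N13071 = N9035 := ded_18_1 (flp_i L77209) (flp_a L77003) L111327
theorem L111334 : sm gj N13071 = N9074 := ded_53_1 (flp_i L77530) (flp_j L77006) L111327
theorem L111348 : sm gd N9014 = N13073 := rfl
theorem L111350 : sm ga N13073 = N9037 := ded_12_1 (flp_d L77228) (flp_a L77033) L111348
theorem L111352 : sm gf N13073 = N9015 := ded_35_2 (flp_d L77039) (flp_f L77036) L111348
theorem L111365 : sm gc N9015 = N13075 := rfl
theorem L111370 : sm gg N13075 = N9017 := ded_30_2 (flp_c L77058) (flp_g L77043) L111365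
theorem L111384 : sm gb N9017 = N13077 := rfl
theorem L111387 : sm gj N13077 = N9076 := ded_24_2 (flp_b L77548) (flp_j L77063) L111384
theorem L111390 : sm gi N9017 = N13078 := rfl
theorem L111408 : sm ge N9019 = N13080 := rfl
theorem L111415 : sm gf N13080 = N9158 := ded_40_2 (flp_e L78252) (flp_f L54254) (flp_e L53421) L77075 L111408
theorem L111417 : sm gh N9019 = N13081 := rfl
theorem L111421 : sm gf N13081 = N9020 := ded_47_1 (flp_h L77083) L77075 L111417
theorem L111424 : sm gd N9020 = N13082 := rfl
theorem L111427 : sm gg N13082 = N9021 := ded_36_2 (flp_d L77092) (flp_g L77089) L111424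
theorem L111430 : sm gh N13082 = N9024 := ded_38_2 (flp_d L77117) (flp_h L53441) (flp_d L53419) L77083 L111424
theorem L111442 : sm gc N9021 = N13084 := rfl
theorem L111444 : sm gj N13084 = N9079 := ded_31_2 (flp_c L77569) (flp_j L77095) L111442
theorem L111446 : sm gh N13084 = N9026 := ded_32_2 (flp_c L77134) (flp_h L77097) L111442
theorem L111449 : sm ge N9021 = N13085 := rfl
theorem L111454 : sm gh N13085 = N9027 := ded_43_2 (flp_e L77140) (flp_h L77097) L111449
theorem L111456 : sm gd N13085 = N9163 := ded_34_1 (flp_e L78292) (flp_d L54270) (flp_e L53429) L77092 L111449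
theorem L111465 : sm gd N9023 = N13087 := rfl
theorem L111468 : sm gf N13087 = N9024 := ded_35_2 (flp_d L77117) (flp_f L77114) L111465
theorem L111481 : sm gc N9024 = N13089 := rfl
theorem L111483 : sm gg N13089 = N9026 := ded_30_2 (flp_c L77134) (flp_g L77120) L111481
theorem L111488 : sm ge N9024 = N13090 := rfl
theorem L111494 : sm gd N13090 = N9029 := ded_34_1 (flp_e L77154) (flp_d L53466) (flp_e L53446) L77117 L111488
theorem L111504 : sm gb N9026 = N13092 := rfl
theorem L111508 : sm gj N13092 = N9082 := ded_24_2 (flp_b L77589) (flp_j L77136) L111504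
theorem L111511 : sm ge N9026 = N13093 := rfl
theorem L111515 : sm gj N13093 = N9083 := ded_42_2 (flp_e L77595) (flp_j L77136) L111511
theorem L111526 : sm gf N9027 = N13095 := rfl
theorem L111531 : sm gj N13095 = N9085 := ded_46_2 (flp_f L77608) (flp_j L77143) L111526
theorem L111533 : sm gi N9027 = N13096 := rfl
theorem L111536 : sm gd N13096 = N9032 := ded_39_1 (flp_i L77183) (flp_d L77145) L111533
theorem L111548 : sm gf N9029 = N13098 := rfl
theorem L111553 : sm gh N13098 = N9176 := ded_47_2 (flp_f L78396) (flp_h L77161) L111548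
theorem L111576 : sm gg N9031 = N13101 := rfl
theorem L111582 : sm gh N13101 = N9179 := ded_50_2 (flp_g L78420) (flp_h L77179) L111576
theorem L111594 : sm gh N9032 = N13103 := rfl
theorem L111600 : sm gj N13103 = N9090 := ded_52_1 (flp_h L77643) (flp_j L77189) L111594
theorem L111602 : sm gi N13103 = N9181 := ded_54_2 (flp_h L78436) (flp_i L54360) (flp_h L53492) L77183 L111594
theorem L111613 : sm gi N9034 = N13105 := rfl
theorem L111620 : sm gh N9035 = N13106 := rfl
theorem L111626 : sm gj N13106 = N9093 := ded_52_1 (flp_h L77668) (flp_j L77215) L111620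
theorem L111628 : sm gi N13106 = N9184 := ded_54_2 (flp_h L78460) (flp_i L54383) (flp_h L53510) L77209 L111620
theorem L111630 : sm gd N9036 = N13107 := rfl
theorem L111636 : sm gi N13107 = N9185 := ded_39_2 (flp_d L78468) (flp_i L77226) L111630
theorem L111639 : sm gc N9037 = N13108 := rfl
theorem L111641 : sm gf N13108 = N9039 := ded_29_2 (flp_c L77245) (flp_f L77232) L111639
theorem L111653 : sm gi N9037 = N13110 := rfl
theorem L111662 : sm gb N9039 = N13111 := rfl
theorem L111665 : sm gg N13111 = N9041 := ded_23_2 (flp_b L77262) (flp_g L77248) L111662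
theorem L111689 : sm ga N9041 = N13114 := rfl
theorem L111697 : sm gi N9041 = N13115 := rfl
theorem L111704 : sm gj N13115 = N9096 := ded_53_1 (flp_i L77691) (flp_j L77265) L111697
theorem L111714 : sm gb N9044 = N13117 := rfl
theorem L111717 : sm gf N13117 = N9047 := ded_22_2 (flp_b L77306) (flp_f L77288) L111714
theorem L111721 : sm ge N9044 = N13118 := rfl
theorem L111723 : sm gc N13118 = N9045 := ded_28_1 (flp_e L77293) L77286 L111721
theorem L111728 : sm gi N9044 = N13119 := rfl
theorem L111733 : sm gf N13119 = N9048 := ded_48_1 (flp_i L77314) (flp_f L77288) L111728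
theorem L111736 : sm gi N9045 = N13120 := rfl
theorem L111750 : sm ga N9047 = N13122 := rfl
theorem L111758 : sm gi N9047 = N13123 := rfl
theorem L111764 : sm gg N13123 = N9051 := ded_51_1 (flp_i L77338) (flp_g L77310) L111758
theorem L111784 : sm gh N9051 = N13126 := rfl
theorem L111789 : sm gj N13126 = N9099 := ded_52_1 (flp_h L77713) (flp_j L77344) L111784
theorem L111808 : sm gd N9054 = N13129 := rfl
theorem L111814 : sm gh N13129 = N9055 := ded_38_2 (flp_d L77370) (flp_h L53634) L53625 L77362 L111808
theorem L111825 : sm gc N9055 = N13131 := rfl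
theorem L111829 : sm ge N9055 = N13132 := rfl
theorem L111845 : sm ge N9057 = N13134 := rfl
theorem L111852 : sm gh N13134 = N9212 := ded_43_2 (flp_e L78706) (flp_h L77391) L111845
theorem L111863 : sm gf N9058 = N13136 := rfl
theorem L111868 : sm gh N13136 = N9214 := ded_47_2 (flp_f L78723) (flp_h L77400) L111863
theorem L111872 : sm gi N9058 = N13137 := rfl
theorem L111880 : sm gh N9059 = N13138 := rfl
theorem L111889 : sm gi N13138 = N9216 := ded_54_2 (flp_h L78738) (flp_i L54592) (flp_h L53650) L77402 L111880
theorem L111891 : sm gd N9060 = N13139 := rfl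
theorem L111897 : sm gf N9060 = N13140 := rfl
theorem L111903 : sm gh N13140 = N9218 := ded_47_2 (flp_f L78755) (flp_h L77420) L111897
theorem L111925 : sm gg N9062 = N13143 := rfl
theorem L111930 : sm gh N13143 = N9221 := ded_50_2 (flp_g L78779) (flp_h L77435) L111925
theorem L111932 : sm gf N13143 = N9105 := ded_45_1 (flp_g L77760) (flp_f L53907) (flp_g L53674) L77430 L111925
theorem L111941 : sm gh N9063 = N13145 := rfl
theorem L111950 : sm gi N13145 = N9223 := ded_54_2 (flp_h L78795) (flp_i L54625) (flp_h L53676) L77437 L111941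
theorem L111952 : sm gc N9065 = N13146 := rfl
theorem L111957 : sm gh N13146 = N9067 := ded_32_2 (flp_c L77472) (flp_h L77461) L111952
theorem L111960 : sm ge N9065 = N13147 := rfl
theorem L111962 : sm ga N13147 = N9080 := ded_13_1 (flp_e L77575) (flp_a L77458) L111960
theorem L111965 : sm gh N13147 = N9068 := ded_43_2 (flp_e L77479) (flp_h L77461) L111960
theorem L111969 : sm gi N9065 = N13148 := rfl
theorem L111976 : sm gb N9067 = N13149 := rfl
theorem L111981 : sm ge N9067 = N13150 := rfl
theorem L111989 : sm gi N9067 = N13151 := rfl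
theorem L111998 : sm gf N9068 = N13152 := rfl
theorem L112004 : sm gi N9068 = N13153 := rfl
theorem L112008 : sm gd N13153 = N9071 := ded_39_1 (flp_i L77502) (flp_d L77484) L112004
theorem L112013 : sm gh N9069 = N13154 := rfl
theorem L112019 : sm gg N9070 = N13155 := rfl
theorem L112026 : sm gh N13155 = N9233 := ded_50_2 (flp_g L78875) (flp_h L77498) L112019
theorem L112038 : sm gh N9071 = N13157 := rfl
theorem L112057 : sm gi N9073 = N13159 := rfl
theorem L112064 : sm gg N13159 = N9074 := ded_51_1 (flp_i L77530) L77521 L112057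
theorem L112066 : sm gh N9074 = N13160 := rfl
theorem L112075 : sm gd N9075 = N13161 := rfl
theorem L112081 : sm gi N13161 = N9239 := ded_39_2 (flp_d L78925) (flp_i L77546) L112075
theorem L112091 : sm gi N9076 = N13163 := rfl
theorem L112106 : sm gb N9079 = N13165 := rfl
theorem L112110 : sm gh N13165 = N9082 := ded_25_2 (flp_b L77589) (flp_h L77572) L112106
theorem L112113 : sm ge N9079 = N13166 := rfl
theorem L112118 : sm gh N13166 = N9083 := ded_43_2 (flp_e L77595) (flp_h L77572) L112113
theorem L112126 : sm gf N9080 = N13168 := rfl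
theorem L112131 : sm gh N13168 = N9085 := ded_47_2 (flp_f L77608) (flp_h L77579) L112126
theorem L112133 : sm gi N9080 = N13169 := rfl
theorem L112136 : sm gd N13169 = N9247 := ded_39_1 (flp_i L78988) (flp_d L77581) L112133
theorem L112148 : sm ga N9082 = N13171 := rfl
theorem L112154 : sm ge N9082 = N13172 := rfl
theorem L112161 : sm gi N9082 = N13173 := rfl
theorem L112174 : sm gi N9083 = N13175 := rfl
theorem L112187 : sm gg N9085 = N13177 := rfl
theorem L112193 : sm gi N9085 = N13178 := rfl
theorem L112196 : sm gd N13178 = N9089 := ded_39_1 (flp_i L77635) (flp_d L77611) L112193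
theorem L112215 : sm gi N9088 = N13181 := rfl
theorem L112222 : sm gg N13181 = N9089 := ded_51_1 (flp_i L77635) L77626 L112215
theorem L112224 : sm gh N9089 = N13182 := rfl
theorem L112234 : sm gd N9090 = N13183 := rfl
theorem L112238 : sm gi N13183 = N9261 := ded_39_2 (flp_d L79090) (flp_i L77650) L112234
theorem L112241 : sm gi N9091 = N13184 := rfl
theorem L112249 : sm gh N9092 = N13185 := rfl
theorem L112257 : sm gi N13185 = N9263 := ded_54_2 (flp_h L79104) (flp_i L54847) (flp_h L53829) L77660 L112249
theorem L112259 : sm gd N9093 = N13186 := rfl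
theorem L112264 : sm gi N13186 = N9264 := ded_39_2 (flp_d L79112) (flp_i L77674) L112259
theorem L112282 : sm gh N9096 = N13189 := rfl
theorem L112303 : sm gd N9099 = N13192 := rfl
theorem L112305 : sm gb N13192 = N9100 := ded_20_1 (flp_d L77720) (flp_b L77715) L112303
theorem L112338 : sm gg N9102 = N13197 := rfl
theorem L112345 : sm gh N13197 = N9275 := ded_50_2 (flp_g L79199) (flp_h L77738) L112338
theorem L112357 : sm gh N9103 = N13199 := rfl
theorem L112366 : sm gi N13199 = N9277 := ded_54_2 (flp_h L79216) (flp_i L54934) (flp_h L53897) L77741 L112357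
theorem L112377 : sm gj N9105 = N13201 := rfl
theorem L112383 : sm gh N13201 = N9279 := ded_52_2 (flp_j L79233) (flp_h L77766) L112377
theorem L112386 : sm gi N9105 = N13202 := rfl
theorem L112394 : sm gh N9106 = N13203 := rfl
theorem L112403 : sm gi N13203 = N9281 := ded_54_2 (flp_h L79250) (flp_i L54958) (flp_h L53913) L77768 L112394
theorem L112414 : sm gi N9108 = N13205 := rfl
theorem L112421 : sm gj N13205 = N9109 := ded_53_1 (flp_i L77796) L77787 L112414
theorem L112423 : sm gh N9109 = N13206 := rfl
theorem L112431 : sm gi N13206 = N9284 := ded_54_2 (flp_h L79277) (flp_i L54984) (flp_h L53940) L77796 L112423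
theorem L112461 : sm gd N9113 = N13210 := rfl
theorem L112466 : sm gi N13210 = N9288 := ded_39_2 (flp_d L79309) (flp_i L77838) L112461
theorem L112492 : sm gg N9116 = N13214 := rfl
theorem L112496 : sm gc N13214 = N9117 := ded_30_1 (flp_g L77864) L77855 L112492
theorem L112501 : sm gh N9116 = N13215 := rfl
theorem L112508 : sm gj N13215 = N9206 := ded_52_1 (flp_h L78658) (flp_j L77859) L112501
theorem L112510 : sm gf N9117 = N13216 := rfl
theorem L112513 : sm gb N13216 = N9133 := ded_22_1 (flp_f L78016) (flp_b L77867) L112510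
theorem L112515 : sm gd N13216 = N9119 := ded_35_1 (flp_f L77881) (flp_d L77869) L112510
theorem L112520 : sm gh N9117 = N13217 := rfl
theorem L112525 : sm gg N13217 = N9118 := ded_50_1 (flp_h L77873) L77864 L112520
theorem L112528 : sm gd N9118 = N13218 := rfl
theorem L112531 : sm gb N13218 = N9135 := ded_20_1 (flp_d L78034) (flp_b L77876) L112528
theorem L112534 : sm gj N13218 = N9207 := ded_37_2 (flp_d L78666) (flp_j L77879) L112528
theorem L112536 : sm gh N13218 = N9121 := ded_38_2 (flp_d L77902) (flp_h L54012) L53993 L77873 L112528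
theorem L112547 : sm gh N9119 = N13220 := rfl
theorem L112554 : sm gf N13220 = N9120 := ded_47_1 (flp_h L77891) L77881 L112547
theorem L112558 : sm gd N9120 = N13221 := rfl
theorem L112561 : sm gb N13221 = N9138 := ded_20_1 (flp_d L78063) (flp_b L77894) L112558
theorem L112578 : sm gc N9121 = N13223 := rfl
theorem L112582 : sm gj N13223 = N9209 := ded_31_2 (flp_c L78683) (flp_j L77908) L112578
theorem L112585 : sm ge N9121 = N13224 := rfl
theorem L112590 : sm gj N13224 = N9210 := ded_42_2 (flp_e L78689) (flp_j L77908) L112585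
theorem L112594 : sm gi N9121 = N13225 := rfl
theorem L112604 : sm gc N9123 = N13226 := rfl
theorem L112608 : sm gg N13226 = N9125 := ded_30_2 (flp_c L77942) (flp_g L77928) L112604
theorem L112613 : sm ge N9123 = N13227 := rfl
theorem L112616 : sm gb N13227 = N9143 := ded_21_1 (flp_e L78108) (flp_b L77925) L112613
theorem L112618 : sm gg N13227 = N9126 := ded_41_2 (flp_e L77951) (flp_g L77928) L112613
theorem L112621 : sm gi N9123 = N13228 := rfl
theorem L112632 : sm ge N9125 = N13229 := rfl
theorem L112636 : sm gc N13229 = N9126 := ded_28_1 (flp_e L77951) L77942 L112632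
theorem L112638 : sm gj N13229 = N9212 := ded_42_2 (flp_e L78706) (flp_j L77947) L112632
theorem L112640 : sm gi N9125 = N13230 := rfl
theorem L112647 : sm gf N13230 = N9129 := ded_48_1 (flp_i L77978) (flp_f L77945) L112640
theorem L112651 : sm gf N9126 = N13231 := rfl
theorem L112658 : sm ge N13231 = N9130 := ded_40_1 (flp_f L77988) (flp_e L54061) (flp_f L54038) L77951 L112651
theorem L112660 : sm gi N9126 = N13232 := rfl
theorem L112679 : sm gd N9128 = N13234 := rfl
theorem L112688 : sm gf N9128 = N13235 := rfl
theorem L112694 : sm gj N13235 = N9218 := ded_46_2 (flp_f L78755) (flp_j L77976) L112688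
theorem L112707 : sm gh N9129 = N13237 := rfl
theorem L112716 : sm gg N9130 = N13238 := rfl
theorem L112723 : sm gi N9130 = N13239 := rfl
theorem L112731 : sm gj N13239 = N9222 := ded_53_1 (flp_i L78787) (flp_j L77994) L112723
theorem L112733 : sm gh N9131 = N13240 := rfl
theorem L112741 : sm gj N13240 = N9223 := ded_52_1 (flp_h L78795) (flp_j L78005) L112733
theorem L112743 : sm ge N9133 = N13241 := rfl
theorem L112752 : sm gh N9133 = N13242 := rfl
theorem L112754 : sm ga N13242 = N9159 := ded_17_1 (flp_h L78260) (flp_a L78018) L112752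
theorem L112757 : sm gf N13242 = N9134 := ded_47_1 (flp_h L78026) L78016 L112752
theorem L112761 : sm gd N9134 = N13243 := rfl
theorem L112765 : sm gg N13243 = N9135 := ded_36_2 (flp_d L78034) (flp_g L78031) L112761
theorem L112768 : sm gh N13243 = N9138 := ded_38_2 (flp_d L78063) (flp_h L54107) (flp_d L54085) L78026 L112761
theorem L112770 : sm gi N9134 = N13244 := rfl
theorem L112779 : sm gc N9135 = N13245 := rfl
theorem L112784 : sm gj N13245 = N9224 := ded_31_2 (flp_c L78804) (flp_j L78039) L112779
theorem L112786 : sm gh N13245 = N9140 := ded_32_2 (flp_c L78082) (flp_h L78041) L112779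
theorem L112789 : sm ge N9135 = N13246 := rfl
theorem L112791 : sm ga N13246 = N9163 := ded_13_1 (flp_e L78292) (flp_a L78036) L112789
theorem L112793 : sm gj N13246 = N9225 := ded_42_2 (flp_e L78813) (flp_j L78039) L112789
theorem L112795 : sm gh N13246 = N9141 := ded_43_2 (flp_e L78091) (flp_h L78041) L112789
theorem L112806 : sm gd N9137 = N13248 := rfl
theorem L112810 : sm gf N13248 = N9138 := ded_35_2 (flp_d L78063) (flp_f L78059) L112806
theorem L112826 : sm gc N9138 = N13250 := rfl
theorem L112830 : sm gg N13250 = N9140 := ded_30_2 (flp_c L78082) (flp_g L78067) L112826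
theorem L112835 : sm ge N9138 = N13251 := rfl
theorem L112839 : sm gg N13251 = N9141 := ded_41_2 (flp_e L78091) (flp_g L78067) L112835
theorem L112853 : sm gb N9140 = N13253 := rfl
theorem L112858 : sm gj N13253 = N9227 := ded_24_2 (flp_b L78828) (flp_j L78087) L112853
theorem L112869 : sm gi N9140 = N13255 := rfl
theorem L112875 : sm gd N13255 = N9156 := ded_39_1 (flp_i L78231) (flp_d L78089) L112869
theorem L112878 : sm gj N13255 = N9229 := ded_53_1 (flp_i L78842) (flp_j L78087) L112869
theorem L112880 : sm gf N9141 = N13256 := rfl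
theorem L112907 : sm gf N9143 = N13259 := rfl
theorem L112914 : sm gi N9143 = N13260 := rfl
theorem L112921 : sm gg N13260 = N9146 := ded_51_1 (flp_i L78136) (flp_g L78113) L112914
theorem L112934 : sm gg N9145 = N13262 := rfl
theorem L112939 : sm ge N13262 = N9148 := ded_41_1 (flp_g L78155) (flp_e L78134) L112934
theorem L112952 : sm gh N9146 = N13264 := rfl
theorem L112961 : sm gj N9148 = N13265 := rfl
theorem L112979 : sm gh N9149 = N13267 := rfl
theorem L112984 : sm gf N13267 = N9150 := ded_47_1 (flp_h L78172) (flp_f L78168) L112979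
theorem L112988 : sm gd N9150 = N13268 := rfl
theorem L112993 : sm gj N13268 = N9239 := ded_37_2 (flp_d L78925) (flp_j L78180) L112988
theorem L112997 : sm gc N9151 = N13269 := rfl
theorem L112999 : sm ga N13269 = N9186 := ded_11_1 (flp_c L78476) (flp_a L78184) L112997
theorem L113001 : sm gf N13269 = N9153 := ded_29_2 (flp_c L78203) (flp_f L78187) L112997
theorem L113035 : sm gi N9153 = N13273 := rfl
theorem L113037 : sm ga N13273 = N9190 := ded_18_1 (flp_i L78511) (flp_a L78205) L113035
theorem L113042 : sm gg N13273 = N9156 := ded_51_1 (flp_i L78231) (flp_g L78208) L113035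
theorem L113056 : sm ga N9155 = N13275 := rfl
theorem L113061 : sm gj N13275 = N9240 := ded_16_2 (flp_a L78933) (flp_j L78227) L113056
theorem L113064 : sm gb N13275 = N9192 := ded_10_2 (flp_a L78529) (flp_b L54437) (flp_a L54236) L78223 L113056
theorem L113075 : sm gh N9156 = N13277 := rfl
theorem L113083 : sm gj N13277 = N9242 := ded_52_1 (flp_h L78950) (flp_j L78239) L113075
theorem L113086 : sm gh N9158 = N13278 := rfl
theorem L113090 : sm ge N13278 = N9159 := ded_43_1 (flp_h L78260) L78252 L113086
theorem L113094 : sm gd N9159 = N13279 := rfl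
theorem L113101 : sm gh N13279 = N9165 := ded_38_2 (flp_d L78307) (flp_h L54286) (flp_d L54258) L78260 L113094
theorem L113112 : sm gc N9160 = N13281 := rfl
theorem L113114 : sm gg N13281 = N9162 := ded_30_2 (flp_c L78284) (flp_g L78271) L113112
theorem L113117 : sm gh N13281 = N9167 := ded_32_2 (flp_c L78325) (flp_h L78274) L113112
theorem L113120 : sm ge N9160 = N13282 := rfl
theorem L113123 : sm gg N13282 = N9163 := ded_41_2 (flp_e L78292) (flp_g L78271) L113120
theorem L113128 : sm gi N9160 = N13283 := rfl
theorem L113136 : sm gb N9162 = N13284 := rfl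
theorem L113140 : sm gj N13284 = N9243 := ded_24_2 (flp_b L78960) (flp_j L78287) L113136
theorem L113142 : sm gh N13284 = N9170 := ded_25_2 (flp_b L78348) (flp_h L78289) L113136
theorem L113145 : sm ge N9162 = N13285 := rfl
theorem L113147 : sm gc N13285 = N9163 := ded_28_1 (flp_e L78292) L78284 L113145
theorem L113149 : sm gj N13285 = N9244 := ded_42_2 (flp_e L78968) (flp_j L78287) L113145
theorem L113151 : sm gh N13285 = N9171 := ded_43_2 (flp_e L78356) (flp_h L78289) L113145
theorem L113153 : sm gi N9162 = N13286 := rfl
theorem L113159 : sm gj N13286 = N9245 := ded_53_1 (flp_i L78975) (flp_j L78287) L113153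
theorem L113161 : sm gf N9163 = N13287 := rfl
theorem L113164 : sm gj N13287 = N9246 := ded_46_2 (flp_f L78982) (flp_j L78295) L113161
theorem L113166 : sm gh N13287 = N9173 := ded_47_2 (flp_f L78372) (flp_h L78297) L113161
theorem L113169 : sm gi N9163 = N13288 := rfl
theorem L113174 : sm gj N13288 = N9247 := ded_53_1 (flp_i L78988) (flp_j L78295) L113169
theorem L113185 : sm gc N9165 = N13290 := rfl
theorem L113187 : sm gf N13290 = N9167 := ded_29_2 (flp_c L78325) (flp_f L78310) L113185
theorem L113193 : sm ge N9165 = N13291 := rfl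
theorem L113208 : sm gb N9167 = N13293 := rfl
theorem L113212 : sm gg N13293 = N9170 := ded_23_2 (flp_b L78348) (flp_g L78327) L113208
theorem L113216 : sm ge N9167 = N13294 := rfl
theorem L113220 : sm gg N13294 = N9171 := ded_41_2 (flp_e L78356) (flp_g L78327) L113216
theorem L113249 : sm gh N9169 = N13298 := rfl
theorem L113256 : sm ga N9170 = N13299 := rfl
theorem L113264 : sm ge N9170 = N13300 := rfl
theorem L113269 : sm gj N13300 = N9250 := ded_42_2 (flp_e L79009) (flp_j L78353) L113264
theorem L113272 : sm gi N9170 = N13301 := rfl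
theorem L113282 : sm gf N9171 = N13302 := rfl
theorem L113290 : sm gi N9171 = N13303 := rfl
theorem L113297 : sm gj N13303 = N9253 := ded_53_1 (flp_i L79031) (flp_j L78360) L113290
theorem L113299 : sm gh N9172 = N13304 := rfl
theorem L113306 : sm gg N9173 = N13305 := rfl
theorem L113312 : sm gi N9173 = N13306 := rfl
theorem L113315 : sm gd N13306 = N9180 := ded_39_1 (flp_i L78426) (flp_d L78375) L113312
theorem L113320 : sm gj N13306 = N9256 := ded_53_1 (flp_i L79052) (flp_j L78377) L113312
theorem L113322 : sm gh N9174 = N13307 := rfl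
theorem L113327 : sm gj N13307 = N9257 := ded_52_1 (flp_h L79060) (flp_j L78387) L113322
theorem L113329 : sm gg N9176 = N13308 := rfl
theorem L113353 : sm gj N9179 = N13311 := rfl
theorem L113359 : sm gg N13311 = N9258 := ded_49_1 (flp_j L79066) (flp_g L54818) (flp_j L54356) L78420 L113353
theorem L113361 : sm gi N9179 = N13312 := rfl
theorem L113369 : sm gh N9180 = N13313 := rfl
theorem L113373 : sm ge N13313 = N9184 := ded_43_1 (flp_h L78460) (flp_e L78430) L113369
theorem L113375 : sm gf N13313 = N9181 := ded_47_1 (flp_h L78436) (flp_f L78432) L113369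
theorem L113377 : sm gj N13313 = N9260 := ded_52_1 (flp_h L79082) (flp_j L78434) L113369
theorem L113379 : sm gd N9181 = N13314 := rfl
theorem L113385 : sm gi N9182 = N13315 := rfl
theorem L113391 : sm gg N13315 = N9262 := ded_51_1 (flp_i L79095) (flp_g L78450) L113385
theorem L113393 : sm gj N13315 = N9183 := ded_53_1 (flp_i L78452) L78444 L113385
theorem L113395 : sm gh N9183 = N13316 := rfl
theorem L113402 : sm gd N9184 = N13317 := rfl
theorem L113418 : sm gb N9186 = N13319 := rfl
theorem L113420 : sm gf N13319 = N9189 := ded_22_2 (flp_b L78502) (flp_f L78478) L113418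
theorem L113425 : sm gc N13319 = N9195 := ded_19_2 (flp_b L78557) (flp_c L54464) (flp_b L54403) L78476 L113418
theorem L113427 : sm ge N9186 = N13320 := rfl
theorem L113429 : sm gc N13320 = N9187 := ded_28_1 (flp_e L78483) L78476 L113427
theorem L113443 : sm gi N9187 = N13322 := rfl
theorem L113445 : sm gb N13322 = N9198 := ded_26_1 (flp_i L78584) (flp_b L78485) L113443
theorem L113472 : sm gi N9189 = N13325 := rfl
theorem L113474 : sm gb N13325 = N9190 := ded_26_1 (flp_i L78511) L78502 L113472
theorem L113482 : sm gh N9190 = N13326 := rfl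
theorem L113491 : sm gi N9192 = N13327 := rfl
theorem L113512 : sm gd N9194 = N13329 := rfl
theorem L113515 : sm gj N13329 = N9268 := ded_37_2 (flp_d L79144) (flp_j L78554) L113512
theorem L113519 : sm ga N9195 = N13330 := rfl
theorem L113522 : sm gf N13330 = N9200 := ded_14_2 (flp_a L78602) (flp_f L78560) L113519
theorem L113528 : sm ge N9195 = N13331 := rfl
theorem L113530 : sm gb N13331 = N9196 := ded_21_1 (flp_e L78565) L78557 L113528
theorem L113545 : sm gd N9196 = N13333 := rfl
theorem L113547 : sm ga N13333 = N13333 := ded_12_1 (flp_d L113545) L78567 L113545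
theorem L113548 : sm gf N13333 = N13333 := ded_35_2 (flp_d L113545) L78573 L113545
theorem L113549 : sm gg N13333 = N13333 := ded_36_2 (flp_d L113545) L78570 L113545
theorem L113550 : sm gj N13333 = N13333 := ded_37_2 (flp_d L113545) L78571 L113545
theorem L113551 : sm gc N13333 = N13333 := ded_27_1 (flp_d L113545) L78568 L54479 (flp_c L78568) L113545
theorem L113552 : sm ge N13333 = N13333 := ded_34_2 (flp_d L113545) (flp_e L78565) L54472 L78565 L113545
theorem L113553 : sm gi N9196 = N13334 := rfl
theorem L113556 : sm gc N13334 = N9198 := ded_33_1 (flp_i L78584) (flp_c L78568) L113553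
theorem L113558 : sm ge N13334 = N9197 := ded_44_1 (flp_i L78574) L78565 L113553
theorem L113563 : sm gh N9197 = N13335 := rfl
theorem L113568 : sm gf N13335 = N9202 := ded_47_1 (flp_h L78620) (flp_f L78580) L113563
theorem L113573 : sm gh N9198 = N13336 := rfl
theorem L113582 : sm gi N9200 = N13337 := rfl
theorem L113589 : sm gg N13337 = N9203 := ded_51_1 (flp_i L78630) (flp_g L78606) L113582
theorem L113610 : sm gh N9203 = N13340 := rfl
theorem L113617 : sm gj N13340 = N9269 := ded_52_1 (flp_h L79150) (flp_j L78638) L113610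
theorem L113638 : sm gd N9206 = N13343 := rfl
theorem L113654 : sm gc N9207 = N13345 := rfl
theorem L113659 : sm gh N13345 = N9209 := ded_32_2 (flp_c L78683) (flp_h L78673) L113654
theorem L113661 : sm ge N9207 = N13346 := rfl
theorem L113685 : sm ge N9209 = N13349 := rfl
theorem L113688 : sm gc N13349 = N9210 := ded_28_1 (flp_e L78689) L78683 L113685
theorem L113691 : sm gi N9209 = N13350 := rfl
theorem L113699 : sm gf N9210 = N13351 := rfl
theorem L113704 : sm gd N13351 = N9214 := ded_35_1 (flp_f L78723) (flp_d L78695) L113699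
theorem L113725 : sm gd N9212 = N13354 := rfl
theorem L113731 : sm gf N9212 = N13355 := rfl
theorem L113765 : sm gi N9214 = N13359 := rfl
theorem L113782 : sm gf N9217 = N13361 := rfl
theorem L113797 : sm gi N9217 = N13363 := rfl
theorem L113802 : sm gd N13363 = N9219 := ded_39_1 (flp_i L78761) L78747 L113797
theorem L113807 : sm gg N9218 = N13364 := rfl
theorem L113813 : sm gf N13364 = N9275 := ded_45_1 (flp_g L79199) (flp_f L54926) (flp_g L54608) L78755 L113807
theorem L113815 : sm gi N9218 = N13365 := rfl
theorem L113849 : sm gi N9221 = N13369 := rfl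
theorem L113857 : sm gg N13369 = N9222 := ded_51_1 (flp_i L78787) L78779 L113849
theorem L113859 : sm gh N9222 = N13370 := rfl
theorem L113875 : sm gb N9224 = N13372 := rfl
theorem L113880 : sm gh N13372 = N9227 := ded_25_2 (flp_b L78828) (flp_h L78810) L113875
theorem L113882 : sm ge N9224 = N13373 := rfl
theorem L113889 : sm gh N13373 = N9228 := ded_43_2 (flp_e L78834) (flp_h L78810) L113882
theorem L113900 : sm gf N9225 = N13375 := rfl
theorem L113907 : sm gi N9225 = N13376 := rfl
theorem L113931 : sm ge N9227 = N13379 := rfl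
theorem L113937 : sm gi N9227 = N13380 := rfl
theorem L113939 : sm gb N13380 = N9229 := ded_26_1 (flp_i L78842) L78828 L113937
theorem L113941 : sm gd N13380 = N9241 := ded_39_1 (flp_i L78942) (flp_d L78830) L113937
theorem L113945 : sm gf N9228 = N13381 := rfl
theorem L113949 : sm gc N13381 = N9230 := ded_29_1 (flp_f L78852) (flp_c L78838) L113945
theorem L113963 : sm gh N9229 = N13383 := rfl
theorem L113971 : sm gg N9230 = N13384 := rfl
theorem L113975 : sm gd N13384 = N9233 := ded_36_1 (flp_g L78875) (flp_d L78856) L113971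
theorem L113988 : sm gh N9231 = N13386 := rfl
theorem L113995 : sm gj N9233 = N13387 := rfl
theorem L114038 : sm gh N9237 = N13392 := rfl
theorem L114043 : sm gf N13392 = N9284 := ded_47_1 (flp_h L79277) (flp_f L78914) L114038
theorem L114054 : sm gc N9239 = N13394 := rfl
theorem L114063 : sm gi N9240 = N13395 := rfl
theorem L114065 : sm ga N13395 = N9241 := ded_18_1 (flp_i L78942) L78933 L114063
theorem L114073 : sm gh N9241 = N13396 := rfl
theorem L114090 : sm ga N9243 = N13398 := rfl
theorem L114096 : sm gh N13398 = N9249 := ded_17_2 (flp_a L79002) (flp_h L78965) L114090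
theorem L114098 : sm ge N9243 = N13399 := rfl
theorem L114100 : sm gb N13399 = N9244 := ded_21_1 (flp_e L78968) L78960 L114098
theorem L114104 : sm gh N13399 = N9250 := ded_43_2 (flp_e L79009) (flp_h L78965) L114098
theorem L114106 : sm gi N9243 = N13400 := rfl
theorem L114114 : sm gd N9244 = N13401 := rfl
theorem L114119 : sm gf N9244 = N13402 := rfl
theorem L114121 : sm gc N13402 = N9246 := ded_29_1 (flp_f L78982) (flp_c L78970) L114119
theorem L114126 : sm gi N9244 = N13403 := rfl
theorem L114133 : sm gh N9245 = N13404 := rfl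
theorem L114139 : sm gi N13404 = N9254 := ded_54_2 (flp_h L79039) (flp_i L54790) (flp_h L54761) L78975 L114133
theorem L114141 : sm gg N9246 = N13405 := rfl
theorem L114145 : sm gh N13405 = N9255 := ded_50_2 (flp_g L79045) (flp_h L78985) L114141
theorem L114148 : sm gi N9246 = N13406 := rfl
theorem L114152 : sm gf N13406 = N9247 := ded_48_1 (flp_i L78988) L78982 L114148
theorem L114154 : sm gh N9247 = N13407 := rfl
theorem L114160 : sm gi N13407 = N9257 := ded_54_2 (flp_h L79060) (flp_i L54804) (flp_h L54768) L78988 L114154
theorem L114169 : sm gi N9249 = N13409 := rfl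
theorem L114178 : sm gf N9250 = N13410 := rfl
theorem L114194 : sm gh N9251 = N13412 := rfl
theorem L114216 : sm gh N9253 = N13415 := rfl
theorem L114218 : sm gc N13415 = N9257 := ded_32_1 (flp_h L79060) (flp_c L79033) L114216
theorem L114220 : sm ge N13415 = N9254 := ded_43_1 (flp_h L79039) (flp_e L79036) L114216
theorem L114223 : sm gd N9254 = N13416 := rfl
theorem L114237 : sm gi N9255 = N13418 := rfl
theorem L114246 : sm gh N9256 = N13419 := rfl
theorem L114252 : sm gd N9257 = N13420 := rfl
theorem L114257 : sm gh N13420 = N9261 := ded_38_2 (flp_d L79090) (flp_h L54833) (flp_d L54807) L79060 L114252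
theorem L114259 : sm gi N9258 = N13421 := rfl
theorem L114266 : sm gj N13421 = N9259 := ded_53_1 (flp_i L79073) L79066 L114259
theorem L114268 : sm gh N9259 = N13422 := rfl
theorem L114277 : sm gd N9260 = N13423 := rfl
theorem L114282 : sm gc N9261 = N13424 := rfl
theorem L114287 : sm gh N9262 = N13425 := rfl
theorem L114295 : sm gd N9263 = N13426 := rfl
theorem L114300 : sm gg N13426 = N9264 := ded_36_2 (flp_d L79112) (flp_g L79110) L114295
theorem L114303 : sm gc N9264 = N13427 := rfl
theorem L114332 : sm gd N9267 = N13431 := rfl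
theorem L114334 : sm gb N13431 = N9268 := ded_20_1 (flp_d L79144) (flp_b L79136) L114332
theorem L114339 : sm ge N9268 = N13432 := rfl
theorem L114385 : sm gg N9272 = N13438 := rfl
theorem L114390 : sm gd N13438 = N9275 := ded_36_1 (flp_g L79199) (flp_d L79180) L114385
theorem L114392 : sm gh N9272 = N13439 := rfl
theorem L114400 : sm gi N9272 = N13440 := rfl
theorem L114424 : sm gj N9275 = N13443 := rfl
theorem L114441 : sm gh N9276 = N13445 := rfl
theorem L114445 : sm gc N13445 = N9281 := ded_32_1 (flp_h L79250) (flp_c L79210) L114441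
theorem L114448 : sm gf N13445 = N9277 := ded_47_1 (flp_h L79216) (flp_f L79213) L114441
theorem L114463 : sm gi N9279 = N13448 := rfl
theorem L114466 : sm gb N13448 = N9283 := ded_26_1 (flp_i L79267) (flp_b L79236) L114463
theorem L114471 : sm gj N13448 = N9280 := ded_53_1 (flp_i L79241) L79233 L114463
theorem L114473 : sm gh N9280 = N13449 := rfl
theorem L114479 : sm gg N13449 = N9281 := ded_50_1 (flp_h L79250) (flp_g L79248) L114473
theorem L114481 : sm gd N9281 = N13450 := rfl
theorem L114577 : sm gc N9292 = N13463 := rfl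
theorem L114579 : sm ga N13463 = N13463 := ded_11_1 (flp_c L114577) L79338 L114577
theorem L114580 : sm gf N13463 = N9293 := ded_29_2 (flp_c L79346) (flp_f L79340) L114577
theorem L114582 : sm gg N13463 = N13463 := ded_30_2 (flp_c L114577) L79342 L114577
theorem L114583 : sm gj N13463 = N13463 := ded_31_2 (flp_c L114577) L79343 L114577
theorem L114584 : sm gh N13463 = N13463 := ded_32_2 (flp_c L114577) L79345 L114577
theorem L114585 : sm gi N13463 = N13463 := ded_33_2 (flp_c L114577) L79344 L114577
theorem L114586 : sm gd N13463 = N13463 := ded_27_2 (flp_c L114577) (flp_d L79336) L55042 L79336 L114577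
theorem L114587 : sm ge N9292 = N13464 := rfl
theorem L114589 : sm ga N13464 = N13464 := ded_13_1 (flp_e L114587) L79338 L114587
theorem L114590 : sm gb N13464 = N13464 := ded_21_1 (flp_e L114587) L79339 L114587
theorem L114591 : sm gg N13464 = N13464 := ded_41_2 (flp_e L114587) L79342 L114587
theorem L114592 : sm gj N13464 = N13464 := ded_42_2 (flp_e L114587) L79343 L114587
theorem L114593 : sm gh N13464 = N13464 := ded_43_2 (flp_e L114587) L79345 L114587
theorem L114594 : sm gi N13464 = N13464 := ded_44_2 (flp_e L114587) L79344 L114587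
theorem L114595 : sm gd N13464 = N13464 := ded_34_1 (flp_e L114587) (flp_d L79336) L55043 L79336 L114587
theorem L114596 : sm gb N9293 = N13465 := rfl
theorem L114598 : sm gd N13465 = N13465 := ded_20_2 (flp_b L114596) L79354 L114596
theorem L114599 : sm gg N13465 = N9295 := ded_23_2 (flp_b L79366) (flp_g L79349) L114596
theorem L114601 : sm gj N13465 = N13465 := ded_24_2 (flp_b L114596) L79351 L114596
theorem L114602 : sm gh N13465 = N13465 := ded_25_2 (flp_b L114596) L79352 L114596
theorem L114603 : sm gi N13465 = N13465 := ded_26_2 (flp_b L114596) L79353 L114596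
theorem L114604 : sm gc N13465 = N13465 := ded_19_2 (flp_b L114596) (flp_c L79346) L55052 L79346 L114596
theorem L114605 : sm ge N9293 = N13466 := rfl
theorem L114607 : sm ga N13466 = N13466 := ded_13_1 (flp_e L114605) L79348 L114605
theorem L114608 : sm gc N13466 = N9294 := ded_28_1 (flp_e L79355) L79346 L114605
theorem L114610 : sm gg N13466 = N9296 := ded_41_2 (flp_e L79375) (flp_g L79349) L114605
theorem L114612 : sm gj N13466 = N13466 := ded_42_2 (flp_e L114605) L79351 L114605
theorem L114613 : sm gh N13466 = N13466 := ded_43_2 (flp_e L114605) L79352 L114605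
theorem L114614 : sm gi N13466 = N13466 := ded_44_2 (flp_e L114605) L79353 L114605
theorem L114615 : sm gf N9294 = N13467 := rfl
theorem L114617 : sm ga N13467 = N13467 := ded_14_1 (flp_f L114615) L79357 L114615
theorem L114618 : sm gb N13467 = N13467 := ded_22_1 (flp_f L114615) L79358 L114615
theorem L114619 : sm gd N13467 = N9305 := ded_35_1 (flp_f L79460) (flp_d L79364) L114615
theorem L114621 : sm gj N13467 = N13467 := ded_46_2 (flp_f L114615) L79361 L114615
theorem L114622 : sm gh N13467 = N13467 := ded_47_2 (flp_f L114615) L79362 L114615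
theorem L114623 : sm gi N13467 = N13467 := ded_48_2 (flp_f L114615) L79363 L114615
theorem L114624 : sm ga N9295 = N13468 := rfl
theorem L114626 : sm gc N13468 = N13468 := ded_11_2 (flp_a L114624) L79374 L114624
theorem L114627 : sm gd N13468 = N13468 := ded_12_2 (flp_a L114624) L79368 L114624
theorem L114628 : sm gf N13468 = N13468 := ded_14_2 (flp_a L114624) L79369 L114624
theorem L114629 : sm gj N13468 = N9298 := ded_16_2 (flp_a L79395) (flp_j L79370) L114624
theorem L114631 : sm gh N13468 = N13468 := ded_17_2 (flp_a L114624) L79372 L114624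
theorem L114632 : sm gi N13468 = N13468 := ded_18_2 (flp_a L114624) L79373 L114624
theorem L114633 : sm gb N13468 = N13468 := ded_10_2 (flp_a L114624) (flp_b L79366) L55060 L79366 L114624
theorem L114634 : sm ge N9295 = N13469 := rfl
theorem L114636 : sm gb N13469 = N9296 := ded_21_1 (flp_e L79375) L79366 L114634
theorem L114638 : sm gc N13469 = N13469 := ded_28_1 (flp_e L114634) L79374 L114634
theorem L114639 : sm gj N13469 = N9299 := ded_42_2 (flp_e L79404) (flp_j L79370) L114634
theorem L114641 : sm gh N13469 = N13469 := ded_43_2 (flp_e L114634) L79372 L114634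
theorem L114642 : sm gi N13469 = N13469 := ded_44_2 (flp_e L114634) L79373 L114634
theorem L114643 : sm gd N9296 = N13470 := rfl
theorem L114645 : sm ga N13470 = N13470 := ded_12_1 (flp_d L114643) L79377 L114643
theorem L114646 : sm gj N13470 = N9300 := ded_37_2 (flp_d L79412) (flp_j L79380) L114643
theorem L114648 : sm gi N13470 = N13470 := ded_39_2 (flp_d L114643) L79383 L114643
theorem L114649 : sm gc N13470 = N9308 := ded_27_1 (flp_d L79491) L55137 (flp_d L55075) (flp_c L79378) L114643
theorem L114651 : sm ge N13470 = N13470 := ded_34_2 (flp_d L114643) (flp_e L79375) L55066 L79375 L114643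
theorem L114652 : sm gf N9296 = N13471 := rfl
theorem L114654 : sm ga N13471 = N13471 := ded_14_1 (flp_f L114652) L79377 L114652
theorem L114655 : sm gc N13471 = N9297 := ded_29_1 (flp_f L79384) (flp_c L79378) L114652
theorem L114657 : sm gj N13471 = N9301 := ded_46_2 (flp_f L79420) (flp_j L79380) L114652
theorem L114659 : sm gh N13471 = N13471 := ded_47_2 (flp_f L114652) L79382 L114652
theorem L114660 : sm gi N13471 = N13471 := ded_48_2 (flp_f L114652) L79383 L114652
theorem L114661 : sm ge N13471 = N13471 := ded_40_1 (flp_f L114652) (flp_e L79375) L55061 L79375 L114652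
theorem L114662 : sm gg N9297 = N13472 := rfl
theorem L114664 : sm ga N13472 = N13472 := ded_15_1 (flp_g L114662) L79386 L114662
theorem L114665 : sm gb N13472 = N13472 := ded_23_1 (flp_g L114662) L79387 L114662
theorem L114666 : sm gd N13472 = N9310 := ded_36_1 (flp_g L79510) (flp_d L79388) L114662
theorem L114668 : sm ge N13472 = N13472 := ded_41_1 (flp_g L114662) L79394 L114662
theorem L114669 : sm gh N13472 = N13472 := ded_50_2 (flp_g L114662) L79392 L114662
theorem L114670 : sm gi N13472 = N13472 := ded_51_2 (flp_g L114662) L79393 L114662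
theorem L114671 : sm ge N9298 = N13473 := rfl
theorem L114673 : sm ga N13473 = N9299 := ded_13_1 (flp_e L79404) L79395 L114671
theorem L114680 : sm gd N9299 = N13474 := rfl
theorem L114682 : sm gb N13474 = N9300 := ded_20_1 (flp_d L79412) (flp_b L79406) L114680
theorem L114687 : sm gf N9299 = N13475 := rfl
theorem L114689 : sm gb N13475 = N9301 := ded_22_1 (flp_f L79420) (flp_b L79406) L114687
theorem L114691 : sm gc N13475 = N13475 := ded_29_1 (flp_f L114687) L79408 L114687
theorem L114692 : sm gh N13475 = N13475 := ded_47_2 (flp_f L114687) L79410 L114687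
theorem L114693 : sm gi N13475 = N13475 := ded_48_2 (flp_f L114687) L79411 L114687
theorem L114694 : sm ge N13475 = N13475 := ded_40_1 (flp_f L114687) (flp_e L79404) L55080 L79404 L114687
theorem L114695 : sm gf N9300 = N13476 := rfl
theorem L114697 : sm ga N13476 = N13476 := ded_14_1 (flp_f L114695) L79414 L114695
theorem L114698 : sm gc N13476 = N9314 := ded_29_1 (flp_f L79546) (flp_c L79417) L114695
theorem L114700 : sm gd N13476 = N9301 := ded_35_1 (flp_f L79420) L79412 L114695
theorem L114702 : sm gi N13476 = N13476 := ded_48_2 (flp_f L114695) L79416 L114695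
theorem L114703 : sm gh N9300 = N13477 := rfl
theorem L114711 : sm gg N9301 = N13478 := rfl
theorem L114713 : sm ga N13478 = N13478 := ded_15_1 (flp_g L114711) L79422 L114711
theorem L114714 : sm gc N13478 = N9302 := ded_30_1 (flp_g L79428) (flp_c L79423) L114711
theorem L114716 : sm ge N13478 = N13478 := ded_41_1 (flp_g L114711) L79427 L114711
theorem L114717 : sm gh N13478 = N13478 := ded_50_2 (flp_g L114711) L79425 L114711
theorem L114718 : sm gi N13478 = N13478 := ded_51_2 (flp_g L114711) L79426 L114711
theorem L114719 : sm gf N13478 = N13478 := ded_45_1 (flp_g L114711) (flp_f L79420) L55090 L79420 L114711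
theorem L114720 : sm gj N9302 = N13479 := rfl
theorem L114722 : sm ga N13479 = N13479 := ded_16_1 (flp_j L114720) L79430 L114720
theorem L114723 : sm gb N13479 = N13479 := ded_24_1 (flp_j L114720) L79431 L114720
theorem L114724 : sm gd N13479 = N9317 := ded_37_1 (flp_j L79570) (flp_d L79432) L114720
theorem L114726 : sm ge N13479 = N13479 := ded_42_1 (flp_j L114720) L79434 L114720
theorem L114727 : sm gf N13479 = N13479 := ded_46_1 (flp_j L114720) L79437 L114720
theorem L114728 : sm gh N13479 = N13479 := ded_52_2 (flp_j L114720) L79435 L114720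
theorem L114729 : sm gi N13479 = N13479 := ded_53_2 (flp_j L114720) L79436 L114720
theorem L114730 : sm ga N9303 = N13480 := rfl
theorem L114732 : sm gc N13480 = N13480 := ded_11_2 (flp_a L114730) L79448 L114730
theorem L114733 : sm gd N13480 = N13480 := ded_12_2 (flp_a L114730) L79440 L114730
theorem L114734 : sm gf N13480 = N13480 := ded_14_2 (flp_a L114730) L79441 L114730
theorem L114735 : sm gg N13480 = N9306 := ded_15_2 (flp_a L79469) (flp_g L79442) L114730
theorem L114737 : sm gj N13480 = N13480 := ded_16_2 (flp_a L114730) L79444 L114730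
theorem L114738 : sm gh N13480 = N9355 := ded_17_2 (flp_a L79914) (flp_h L79445) L114730
theorem L114740 : sm gi N13480 = N13480 := ded_18_2 (flp_a L114730) L79447 L114730
theorem L114741 : sm gb N13480 = N13480 := ded_10_2 (flp_a L114730) (flp_b L79438) L55104 L79438 L114730
theorem L114742 : sm ge N9303 = N13481 := rfl
theorem L114744 : sm gb N13481 = N9304 := ded_21_1 (flp_e L79449) L79438 L114742
theorem L114746 : sm gc N13481 = N13481 := ded_28_1 (flp_e L114742) L79448 L114742
theorem L114747 : sm gg N13481 = N9307 := ded_41_2 (flp_e L79481) (flp_g L79442) L114742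
theorem L114749 : sm gj N13481 = N13481 := ded_42_2 (flp_e L114742) L79444 L114742
theorem L114750 : sm gh N13481 = N9356 := ded_43_2 (flp_e L79924) (flp_h L79445) L114742
theorem L114752 : sm gi N13481 = N13481 := ded_44_2 (flp_e L114742) L79447 L114742
theorem L114753 : sm gd N9304 = N13482 := rfl
theorem L114755 : sm ga N13482 = N13482 := ded_12_1 (flp_d L114753) L79451 L114753
theorem L114756 : sm gg N13482 = N9308 := ded_36_2 (flp_d L79491) (flp_g L79454) L114753
theorem L114758 : sm gj N13482 = N13482 := ded_37_2 (flp_d L114753) L79456 L114753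
theorem L114759 : sm gi N13482 = N13482 := ded_39_2 (flp_d L114753) L79459 L114753
theorem L114760 : sm ge N13482 = N13482 := ded_34_2 (flp_d L114753) (flp_e L79449) L55112 L79449 L114753
theorem L114761 : sm gf N9304 = N13483 := rfl
theorem L114763 : sm ga N13483 = N13483 := ded_14_1 (flp_f L114761) L79451 L114761
theorem L114764 : sm gc N13483 = N9305 := ded_29_1 (flp_f L79460) (flp_c L79452) L114761
theorem L114766 : sm gj N13483 = N13483 := ded_46_2 (flp_f L114761) L79456 L114761
theorem L114767 : sm gh N13483 = N9358 := ded_47_2 (flp_f L79941) (flp_h L79457) L114761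
theorem L114769 : sm gi N13483 = N13483 := ded_48_2 (flp_f L114761) L79459 L114761
theorem L114770 : sm ge N13483 = N13483 := ded_40_1 (flp_f L114761) (flp_e L79449) L55105 L79449 L114761
theorem L114771 : sm gg N9305 = N13484 := rfl
theorem L114773 : sm ga N13484 = N13484 := ded_15_1 (flp_g L114771) L79462 L114771
theorem L114774 : sm gb N13484 = N13484 := ded_23_1 (flp_g L114771) L79463 L114771
theorem L114775 : sm ge N13484 = N13484 := ded_41_1 (flp_g L114771) L79468 L114771
theorem L114776 : sm gh N13484 = N9359 := ded_50_2 (flp_g L79948) (flp_h L79465) L114771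
theorem L114778 : sm gi N13484 = N13484 := ded_51_2 (flp_g L114771) L79467 L114771
theorem L114779 : sm gf N13484 = N9310 := ded_45_1 (flp_g L79510) (flp_f L55144) (flp_g L55117) L79460 L114771
theorem L114781 : sm ge N9306 = N13485 := rfl
theorem L114783 : sm ga N13485 = N9307 := ded_13_1 (flp_e L79481) L79469 L114781
theorem L114785 : sm gb N13485 = N13485 := ded_21_1 (flp_e L114781) L79480 L114781
theorem L114786 : sm gc N13485 = N13485 := ded_28_1 (flp_e L114781) L79471 L114781
theorem L114787 : sm gj N13485 = N9311 := ded_42_2 (flp_e L79519) (flp_j L79475) L114781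
theorem L114789 : sm gh N13485 = N9365 := ded_43_2 (flp_e L80011) (flp_h L79477) L114781
theorem L114791 : sm gi N13485 = N13485 := ded_44_2 (flp_e L114781) L79479 L114781
theorem L114792 : sm gd N9307 = N13486 := rfl
theorem L114794 : sm gb N13486 = N9308 := ded_20_1 (flp_d L79491) (flp_b L79483) L114792
theorem L114796 : sm gj N13486 = N9312 := ded_37_2 (flp_d L79529) (flp_j L79486) L114792
theorem L114798 : sm gi N13486 = N13486 := ded_39_2 (flp_d L114792) L79490 L114792
theorem L114799 : sm ge N13486 = N13486 := ded_34_2 (flp_d L114792) (flp_e L79481) L55125 L79481 L114792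
theorem L114800 : sm gf N9307 = N13487 := rfl
theorem L114802 : sm gb N13487 = N9309 := ded_22_1 (flp_f L79498) (flp_b L79483) L114800
theorem L114804 : sm gc N13487 = N13487 := ded_29_1 (flp_f L114800) L79485 L114800
theorem L114805 : sm gj N13487 = N9313 := ded_46_2 (flp_f L79536) (flp_j L79486) L114800
theorem L114807 : sm gh N13487 = N9367 := ded_47_2 (flp_f L80027) (flp_h L79488) L114800
theorem L114809 : sm gi N13487 = N13487 := ded_48_2 (flp_f L114800) L79490 L114800
theorem L114810 : sm ge N13487 = N9320 := ded_40_1 (flp_f L79601) (flp_e L55212) (flp_f L55126) L79481 L114800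
theorem L114812 : sm gf N9308 = N13488 := rfl
theorem L114814 : sm ga N13488 = N13488 := ded_14_1 (flp_f L114812) L79493 L114812
theorem L114815 : sm gd N13488 = N9309 := ded_35_1 (flp_f L79498) L79491 L114812
theorem L114817 : sm gj N13488 = N9314 := ded_46_2 (flp_f L79546) (flp_j L79494) L114812
theorem L114819 : sm gi N13488 = N13488 := ded_48_2 (flp_f L114812) L79496 L114812
theorem L114820 : sm gh N9308 = N13489 := rfl
theorem L114822 : sm ga N13489 = N13489 := ded_17_1 (flp_h L114820) L79493 L114820
theorem L114823 : sm ge N13489 = N13489 := ded_43_1 (flp_h L114820) L79497 L114820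
theorem L114824 : sm gj N13489 = N9315 := ded_52_1 (flp_h L79552) (flp_j L79494) L114820
theorem L114826 : sm gd N13489 = N9369 := ded_38_1 (flp_h L80044) (flp_d L55506) (flp_h L55141) L79491 L114820
theorem L114828 : sm gg N9309 = N13490 := rfl
theorem L114830 : sm ga N13490 = N13490 := ded_15_1 (flp_g L114828) L79500 L114828
theorem L114831 : sm gc N13490 = N9310 := ded_30_1 (flp_g L79510) (flp_c L79501) L114828
theorem L114833 : sm ge N13490 = N9323 := ded_41_1 (flp_g L79630) (flp_e L79508) L114828
theorem L114835 : sm gh N13490 = N9370 := ded_50_2 (flp_g L80052) (flp_h L79505) L114828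
theorem L114837 : sm gi N13490 = N13490 := ded_51_2 (flp_g L114828) L79507 L114828
theorem L114838 : sm gj N9310 = N13491 := rfl
theorem L114840 : sm ga N13491 = N13491 := ded_16_1 (flp_j L114838) L79512 L114838
theorem L114841 : sm gb N13491 = N13491 := ded_24_1 (flp_j L114838) L79513 L114838
theorem L114842 : sm ge N13491 = N9324 := ded_42_1 (flp_j L79639) (flp_e L79514) L114838
theorem L114844 : sm gh N13491 = N9371 := ded_52_2 (flp_j L80059) (flp_h L79516) L114838
theorem L114846 : sm gi N13491 = N13491 := ded_53_2 (flp_j L114838) L79518 L114838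
theorem L114847 : sm gg N13491 = N9317 := ded_49_1 (flp_j L79570) (flp_g L55191) (flp_j L55148) L79510 L114838
theorem L114849 : sm gd N9311 = N13492 := rfl
theorem L114851 : sm ga N13492 = N9312 := ded_12_1 (flp_d L79529) (flp_a L79521) L114849
theorem L114857 : sm gf N9311 = N13493 := rfl
theorem L114859 : sm ga N13493 = N9313 := ded_14_1 (flp_f L79536) (flp_a L79521) L114857
theorem L114861 : sm gb N13493 = N13493 := ded_22_1 (flp_f L114857) L79523 L114857
theorem L114862 : sm gc N13493 = N13493 := ded_29_1 (flp_f L114857) L79524 L114857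
theorem L114863 : sm gh N13493 = N9380 := ded_47_2 (flp_f L80143) (flp_h L79526) L114857
theorem L114865 : sm gi N13493 = N13493 := ded_48_2 (flp_f L114857) L79528 L114857
theorem L114866 : sm ge N13493 = N9326 := ded_40_1 (flp_f L79659) (flp_e L55251) (flp_f L55159) L79519 L114857
theorem L114868 : sm gc N9312 = N13494 := rfl
theorem L114874 : sm gf N9312 = N13495 := rfl
theorem L114876 : sm gb N13495 = N9314 := ded_22_1 (flp_f L79546) (flp_b L79531) L114874
theorem L114878 : sm gd N13495 = N9313 := ded_35_1 (flp_f L79536) L79529 L114874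
theorem L114880 : sm gi N13495 = N13495 := ded_48_2 (flp_f L114874) L79534 L114874
theorem L114881 : sm gh N9312 = N13496 := rfl
theorem L114889 : sm gg N9313 = N13497 := rfl
theorem L114891 : sm gb N13497 = N9316 := ded_23_1 (flp_g L79559) (flp_b L79538) L114889
theorem L114893 : sm gc N13497 = N13497 := ded_30_1 (flp_g L114889) L79540 L114889
theorem L114894 : sm ge N13497 = N9330 := ded_41_1 (flp_g L79692) (flp_e L79544) L114889
theorem L114896 : sm gh N13497 = N9384 := ded_50_2 (flp_g L80171) (flp_h L79541) L114889
theorem L114898 : sm gi N13497 = N13497 := ded_51_2 (flp_g L114889) L79543 L114889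
theorem L114899 : sm gf N13497 = N13497 := ded_45_1 (flp_g L114889) (flp_f L79536) L55171 L79536 L114889
theorem L114900 : sm ge N9314 = N13498 := rfl
theorem L114902 : sm ga N13498 = N13498 := ded_13_1 (flp_e L114900) L79548 L114900
theorem L114903 : sm gi N13498 = N13498 := ded_44_2 (flp_e L114900) L79551 L114900
theorem L114904 : sm gd N13498 = N9331 := ded_34_1 (flp_e L79702) L55282 (flp_e L55189) (flp_d L79549) L114900
theorem L114906 : sm gf N13498 = N13498 := ded_40_2 (flp_e L114900) (flp_f L79546) L55180 L79546 L114900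
theorem L114907 : sm gg N9314 = N13499 := rfl
theorem L114909 : sm ga N13499 = N13499 := ded_15_1 (flp_g L114907) L79548 L114907
theorem L114910 : sm gd N13499 = N9316 := ded_36_1 (flp_g L79559) (flp_d L79549) L114907
theorem L114912 : sm gi N13499 = N13499 := ded_51_2 (flp_g L114907) L79551 L114907
theorem L114913 : sm gf N13499 = N13499 := ded_45_1 (flp_g L114907) (flp_f L79546) L55178 L79546 L114907
theorem L114914 : sm gh N9314 = N13500 := rfl
theorem L114916 : sm ga N13500 = N13500 := ded_17_1 (flp_h L114914) L79548 L114914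
theorem L114917 : sm gf N13500 = N9315 := ded_47_1 (flp_h L79552) L79546 L114914
theorem L114919 : sm gd N13500 = N9387 := ded_38_1 (flp_h L80194) L55606 (flp_h L55186) (flp_d L79549) L114914
theorem L114921 : sm gi N9315 = N13501 := rfl
theorem L114924 : sm gd N13501 = N9388 := ded_39_1 (flp_i L80200) (flp_d L79557) L114921
theorem L114929 : sm gj N9316 = N13502 := rfl
theorem L114931 : sm ga N13502 = N13502 := ded_16_1 (flp_j L114929) L79561 L114929
theorem L114932 : sm gc N13502 = N9317 := ded_31_1 (flp_j L79570) (flp_c L79562) L114929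
theorem L114934 : sm ge N13502 = N9335 := ded_42_1 (flp_j L79735) (flp_e L79564) L114929
theorem L114936 : sm gf N13502 = N13502 := ded_46_1 (flp_j L114929) L79569 L114929
theorem L114937 : sm gh N13502 = N9389 := ded_52_2 (flp_j L80207) (flp_h L79566) L114929
theorem L114939 : sm gi N13502 = N13502 := ded_53_2 (flp_j L114929) L79568 L114929
theorem L114940 : sm gd N9318 = N13503 := rfl
theorem L114942 : sm ga N13503 = N9319 := ded_12_1 (flp_d L79592) (flp_a L79582) L114940
theorem L114944 : sm gb N13503 = N13503 := ded_20_1 (flp_d L114940) L79584 L114940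
theorem L114945 : sm gg N13503 = N13503 := ded_36_2 (flp_d L114940) L79586 L114940
theorem L114946 : sm gj N13503 = N9325 := ded_37_2 (flp_d L79650) (flp_j L79587) L114940
theorem L114948 : sm gi N13503 = N13503 := ded_39_2 (flp_d L114940) L79591 L114940
theorem L114949 : sm ge N13503 = N13503 := ded_34_2 (flp_d L114940) (flp_e L79580) L55204 L79580 L114940
theorem L114950 : sm gf N9318 = N13504 := rfl
theorem L114952 : sm ga N13504 = N9320 := ded_14_1 (flp_f L79601) (flp_a L79582) L114950
theorem L114954 : sm gb N13504 = N13504 := ded_22_1 (flp_f L114950) L79584 L114950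
theorem L114955 : sm gc N13504 = N13504 := ded_29_1 (flp_f L114950) L79585 L114950
theorem L114956 : sm gj N13504 = N9326 := ded_46_2 (flp_f L79659) (flp_j L79587) L114950
theorem L114958 : sm gh N13504 = N9398 := ded_47_2 (flp_f L80301) (flp_h L79589) L114950
theorem L114960 : sm gi N13504 = N13504 := ded_48_2 (flp_f L114950) L79591 L114950
theorem L114961 : sm gc N9319 = N13505 := rfl
theorem L114963 : sm ge N13505 = N13505 := ded_28_2 (flp_c L114961) L79600 L114961
theorem L114964 : sm gg N13505 = N13505 := ded_30_2 (flp_c L114961) L79596 L114961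
theorem L114965 : sm gj N13505 = N9327 := ded_31_2 (flp_c L79668) (flp_j L79597) L114961
theorem L114967 : sm gi N13505 = N13505 := ded_33_2 (flp_c L114961) L79599 L114961
theorem L114968 : sm gb N13505 = N13505 := ded_19_1 (flp_c L114961) L79594 L55230 (flp_b L79594) L114961
theorem L114969 : sm gd N13505 = N13505 := ded_27_2 (flp_c L114961) (flp_d L79592) L55216 L79592 L114961
theorem L114970 : sm gf N9319 = N13506 := rfl
theorem L114972 : sm gb N13506 = N9321 := ded_22_1 (flp_f L79611) (flp_b L79594) L114970
theorem L114974 : sm gd N13506 = N9320 := ded_35_1 (flp_f L79601) L79592 L114970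
theorem L114976 : sm gj N13506 = N9328 := ded_46_2 (flp_f L79676) (flp_j L79597) L114970
theorem L114978 : sm gi N13506 = N13506 := ded_48_2 (flp_f L114970) L79599 L114970
theorem L114979 : sm gh N9319 = N13507 := rfl
theorem L114981 : sm gb N13507 = N9322 := ded_25_1 (flp_h L79620) (flp_b L79594) L114979
theorem L114983 : sm ge N13507 = N13507 := ded_43_1 (flp_h L114979) L79600 L114979
theorem L114984 : sm gg N13507 = N13507 := ded_50_1 (flp_h L114979) L79596 L114979
theorem L114985 : sm gj N13507 = N9329 := ded_52_1 (flp_h L79683) (flp_j L79597) L114979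
theorem L114987 : sm gd N13507 = N9401 := ded_38_1 (flp_h L80327) (flp_d L55695) (flp_h L55220) L79592 L114979
theorem L114989 : sm gg N9320 = N13508 := rfl
theorem L114991 : sm gb N13508 = N9323 := ded_23_1 (flp_g L79630) (flp_b L79603) L114989
theorem L114993 : sm gc N13508 = N13508 := ded_30_1 (flp_g L114989) L79605 L114989
theorem L114994 : sm gh N13508 = N9402 := ded_50_2 (flp_g L80336) (flp_h L79608) L114989
theorem L114996 : sm gi N13508 = N13508 := ded_51_2 (flp_g L114989) L79610 L114989
theorem L114997 : sm gf N13508 = N13508 := ded_45_1 (flp_g L114989) (flp_f L79601) L55217 L79601 L114989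
theorem L114998 : sm ge N9321 = N13509 := rfl
theorem L115000 : sm ga N13509 = N13509 := ded_13_1 (flp_e L114998) L79613 L114998
theorem L115001 : sm gc N13509 = N13509 := ded_28_1 (flp_e L114998) L79614 L114998
theorem L115002 : sm gj N13509 = N9331 := ded_42_2 (flp_e L79702) (flp_j L79617) L114998
theorem L115004 : sm gi N13509 = N13509 := ded_44_2 (flp_e L114998) L79619 L114998
theorem L115005 : sm gf N13509 = N13509 := ded_40_2 (flp_e L114998) (flp_f L79611) L55231 L79611 L114998
theorem L115006 : sm gg N9321 = N13510 := rfl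
theorem L115008 : sm ga N13510 = N13510 := ded_15_1 (flp_g L115006) L79613 L115006
theorem L115009 : sm gc N13510 = N13510 := ded_30_1 (flp_g L115006) L79614 L115006
theorem L115010 : sm gd N13510 = N9323 := ded_36_1 (flp_g L79630) (flp_d L79615) L115006
theorem L115012 : sm gi N13510 = N13510 := ded_51_2 (flp_g L115006) L79619 L115006
theorem L115013 : sm gf N13510 = N13510 := ded_45_1 (flp_g L115006) (flp_f L79611) L55226 L79611 L115006
theorem L115014 : sm gh N9321 = N13511 := rfl
theorem L115016 : sm ga N13511 = N13511 := ded_17_1 (flp_h L115014) L79613 L115014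
theorem L115017 : sm gc N13511 = N13511 := ded_32_1 (flp_h L115014) L79614 L115014
theorem L115018 : sm gf N13511 = N9322 := ded_47_1 (flp_h L79620) L79611 L115014
theorem L115020 : sm gj N13511 = N9333 := ded_52_1 (flp_h L79717) (flp_j L79617) L115014
theorem L115022 : sm gd N13511 = N9405 := ded_38_1 (flp_h L80359) L55716 (flp_h L55239) (flp_d L79615) L115014
theorem L115024 : sm gi N9322 = N13512 := rfl
theorem L115026 : sm ga N13512 = N13512 := ded_18_1 (flp_i L115024) L79622 L115024
theorem L115027 : sm gc N13512 = N13512 := ded_33_1 (flp_i L115024) L79623 L115024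
theorem L115028 : sm gd N13512 = N9406 := ded_39_1 (flp_i L80368) (flp_d L79628) L115024
theorem L115030 : sm ge N13512 = N13512 := ded_44_1 (flp_i L115024) L79624 L115024
theorem L115031 : sm gg N13512 = N13512 := ded_51_1 (flp_i L115024) L79625 L115024
theorem L115032 : sm gj N13512 = N9334 := ded_53_1 (flp_i L79725) (flp_j L79626) L115024
theorem L115034 : sm gh N13512 = N13512 := ded_54_1 (flp_i L115024) (flp_h L79620) L55229 L79620 L115024
theorem L115035 : sm gj N9323 = N13513 := rfl
theorem L115037 : sm ga N13513 = N13513 := ded_16_1 (flp_j L115035) L79632 L115035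
theorem L115038 : sm gc N13513 = N9324 := ded_31_1 (flp_j L79639) (flp_c L79633) L115035
theorem L115040 : sm gf N13513 = N13513 := ded_46_1 (flp_j L115035) L79638 L115035
theorem L115041 : sm gh N13513 = N9407 := ded_52_2 (flp_j L80378) (flp_h L79635) L115035
theorem L115043 : sm gi N13513 = N13513 := ded_53_2 (flp_j L115035) L79637 L115035
theorem L115044 : sm gg N13513 = N9335 := ded_49_1 (flp_j L79735) (flp_g L55294) (flp_j L55237) L79630 L115035
theorem L115046 : sm gc N9325 = N13514 := rfl
theorem L115048 : sm ga N13514 = N9327 := ded_11_1 (flp_c L79668) (flp_a L79652) L115046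
theorem L115050 : sm ge N13514 = N13514 := ded_28_2 (flp_c L115046) L79658 L115046
theorem L115051 : sm gg N13514 = N9336 := ded_30_2 (flp_c L79745) (flp_g L79655) L115046
theorem L115053 : sm gi N13514 = N13514 := ded_33_2 (flp_c L115046) L79657 L115046
theorem L115054 : sm gd N13514 = N13514 := ded_27_2 (flp_c L115046) (flp_d L79650) L55256 L79650 L115046
theorem L115055 : sm gf N9325 = N13515 := rfl
theorem L115057 : sm ga N13515 = N9328 := ded_14_1 (flp_f L79676) (flp_a L79652) L115055
theorem L115059 : sm gb N13515 = N13515 := ded_22_1 (flp_f L115055) L79654 L115055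
theorem L115060 : sm gd N13515 = N9326 := ded_35_1 (flp_f L79659) L79650 L115055
theorem L115062 : sm gi N13515 = N13515 := ded_48_2 (flp_f L115055) L79657 L115055
theorem L115063 : sm gh N9325 = N13516 := rfl
theorem L115065 : sm ga N13516 = N9329 := ded_17_1 (flp_h L79683) (flp_a L79652) L115063
theorem L115067 : sm gb N13516 = N13516 := ded_25_1 (flp_h L115063) L79654 L115063
theorem L115068 : sm ge N13516 = N13516 := ded_43_1 (flp_h L115063) L79658 L115063
theorem L115069 : sm gg N13516 = N9338 := ded_50_1 (flp_h L79762) (flp_g L79655) L115063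
theorem L115071 : sm gd N13516 = N9421 := ded_38_1 (flp_h L80510) (flp_d L55814) (flp_h L55259) L79650 L115063
theorem L115073 : sm gg N9326 = N13517 := rfl
theorem L115075 : sm ga N13517 = N9330 := ded_15_1 (flp_g L79692) (flp_a L79661) L115073
theorem L115077 : sm gb N13517 = N13517 := ded_23_1 (flp_g L115073) L79663 L115073
theorem L115078 : sm gc N13517 = N13517 := ded_30_1 (flp_g L115073) L79664 L115073
theorem L115079 : sm gh N13517 = N9422 := ded_50_2 (flp_g L80519) (flp_h L79665) L115073
theorem L115081 : sm gi N13517 = N13517 := ded_51_2 (flp_g L115073) L79667 L115073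
theorem L115082 : sm gf N13517 = N9339 := ded_45_1 (flp_g L79771) (flp_f L55322) (flp_g L55257) L79659 L115073
theorem L115084 : sm gf N9327 = N13518 := rfl
theorem L115086 : sm gb N13518 = N13518 := ded_22_1 (flp_f L115084) L79674 L115084
theorem L115087 : sm gc N13518 = N9328 := ded_29_1 (flp_f L79676) L79668 L115084
theorem L115089 : sm gd N13518 = N13518 := ded_35_1 (flp_f L115084) L79675 L115084
theorem L115090 : sm gi N13518 = N13518 := ded_48_2 (flp_f L115084) L79673 L115084
theorem L115091 : sm gh N9327 = N13519 := rfl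
theorem L115093 : sm gb N13519 = N13519 := ded_25_1 (flp_h L115091) L79674 L115091
theorem L115094 : sm gc N13519 = N9329 := ded_32_1 (flp_h L79683) L79668 L115091
theorem L115096 : sm ge N13519 = N13519 := ded_43_1 (flp_h L115091) L79670 L115091
theorem L115097 : sm gg N13519 = N9341 := ded_50_1 (flp_h L79789) (flp_g L79671) L115091
theorem L115099 : sm ge N9328 = N13520 := rfl
theorem L115101 : sm gb N13520 = N9331 := ded_21_1 (flp_e L79702) (flp_b L79678) L115099
theorem L115103 : sm gi N13520 = N13520 := ded_44_2 (flp_e L115099) L79682 L115099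
theorem L115104 : sm gf N13520 = N13520 := ded_40_2 (flp_e L115099) (flp_f L79676) L55269 L79676 L115099
theorem L115105 : sm gg N9328 = N13521 := rfl
theorem L115107 : sm gb N13521 = N9332 := ded_23_1 (flp_g L79708) (flp_b L79678) L115105
theorem L115109 : sm gd N13521 = N9330 := ded_36_1 (flp_g L79692) (flp_d L79680) L115105
theorem L115111 : sm gi N13521 = N13521 := ded_51_2 (flp_g L115105) L79682 L115105
theorem L115112 : sm gf N13521 = N9343 := ded_45_1 (flp_g L79804) (flp_f L55340) (flp_g L55266) L79676 L115105
theorem L115114 : sm gh N9328 = N13522 := rfl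
theorem L115116 : sm gb N13522 = N9333 := ded_25_1 (flp_h L79717) (flp_b L79678) L115114
theorem L115118 : sm gf N13522 = N9329 := ded_47_1 (flp_h L79683) L79676 L115114
theorem L115120 : sm gd N13522 = N9427 := ded_38_1 (flp_h L80558) L55842 (flp_h L55275) (flp_d L79680) L115114
theorem L115122 : sm gi N9329 = N13523 := rfl
theorem L115124 : sm gb N13523 = N9334 := ded_26_1 (flp_i L79725) (flp_b L79685) L115122
theorem L115126 : sm gd N13523 = N9428 := ded_39_1 (flp_i L80564) (flp_d L79690) L115122
theorem L115128 : sm ge N13523 = N13523 := ded_44_1 (flp_i L115122) L79687 L115122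
theorem L115129 : sm gg N13523 = N9345 := ded_51_1 (flp_i L79820) (flp_g L79688) L115122
theorem L115131 : sm gh N13523 = N13523 := ded_54_1 (flp_i L115122) (flp_h L79683) L55268 L79683 L115122
theorem L115132 : sm gj N9330 = N13524 := rfl
theorem L115134 : sm gb N13524 = N9335 := ded_24_1 (flp_j L79735) (flp_b L79694) L115132
theorem L115136 : sm gc N13524 = N13524 := ded_31_1 (flp_j L115132) L79696 L115132
theorem L115137 : sm gf N13524 = N9346 := ded_46_1 (flp_j L79829) (flp_f L79700) L115132
theorem L115139 : sm gh N13524 = N9429 := ded_52_2 (flp_j L80572) (flp_h L79697) L115132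
theorem L115141 : sm gi N13524 = N13524 := ded_53_2 (flp_j L115132) L79699 L115132
theorem L115142 : sm gg N9331 = N13525 := rfl
theorem L115144 : sm ga N13525 = N13525 := ded_15_1 (flp_g L115142) L79704 L115142
theorem L115145 : sm gc N13525 = N13525 := ded_30_1 (flp_g L115142) L79705 L115142
theorem L115146 : sm ge N13525 = N9332 := ded_41_1 (flp_g L79708) L79702 L115142
theorem L115148 : sm gi N13525 = N13525 := ded_51_2 (flp_g L115142) L79706 L115142
theorem L115149 : sm gh N9331 = N13526 := rfl
theorem L115151 : sm ga N13526 = N13526 := ded_17_1 (flp_h L115149) L79704 L115149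
theorem L115152 : sm gc N13526 = N13526 := ded_32_1 (flp_h L115149) L79705 L115149
theorem L115153 : sm ge N13526 = N9333 := ded_43_1 (flp_h L79717) L79702 L115149
theorem L115155 : sm gf N13526 = N13526 := ded_47_1 (flp_h L115149) L79707 L115149
theorem L115156 : sm gj N9332 = N13527 := rfl
theorem L115158 : sm ga N13527 = N13527 := ded_16_1 (flp_j L115156) L79710 L115156
theorem L115159 : sm gc N13527 = N13527 := ded_31_1 (flp_j L115156) L79711 L115156
theorem L115160 : sm gd N13527 = N9335 := ded_37_1 (flp_j L79735) (flp_d L79712) L115156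
theorem L115162 : sm gf N13527 = N9349 := ded_46_1 (flp_j L79855) (flp_f L79715) L115156
theorem L115164 : sm gi N13527 = N13527 := ded_53_2 (flp_j L115156) L79714 L115156
theorem L115165 : sm gh N9332 = N13528 := rfl
theorem L115167 : sm ga N13528 = N13528 := ded_17_1 (flp_h L115165) L79710 L115165
theorem L115168 : sm gc N13528 = N13528 := ded_32_1 (flp_h L115165) L79711 L115165
theorem L115169 : sm gf N13528 = N9350 := ded_47_1 (flp_h L79863) (flp_f L79715) L115165
theorem L115171 : sm gg N13528 = N9333 := ded_50_1 (flp_h L79717) L79708 L115165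
theorem L115173 : sm gd N13528 = N9433 := ded_38_1 (flp_h L80604) L55871 (flp_h L55299) (flp_d L79712) L115165
theorem L115175 : sm gi N9333 = N13529 := rfl
theorem L115177 : sm ga N13529 = N13529 := ded_18_1 (flp_i L115175) L79719 L115175
theorem L115178 : sm gc N13529 = N13529 := ded_33_1 (flp_i L115175) L79720 L115175
theorem L115179 : sm gd N13529 = N9434 := ded_39_1 (flp_i L80613) (flp_d L79723) L115175
theorem L115181 : sm gf N13529 = N9334 := ded_48_1 (flp_i L79725) (flp_f L79721) L115175
theorem L115183 : sm gh N13529 = N13529 := ded_54_1 (flp_i L115175) (flp_h L79717) L55284 L79717 L115175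
theorem L115184 : sm gb N9336 = N13530 := rfl
theorem L115186 : sm gd N13530 = N13530 := ded_20_2 (flp_b L115184) L79752 L115184
theorem L115187 : sm ge N13530 = N13530 := ded_21_2 (flp_b L115184) L79749 L115184
theorem L115188 : sm gj N13530 = N13530 := ded_24_2 (flp_b L115184) L79750 L115184
theorem L115189 : sm gi N13530 = N13530 := ded_26_2 (flp_b L115184) L79751 L115184
theorem L115190 : sm ga N13530 = N13530 := ded_10_1 (flp_b L115184) L79747 L55338 (flp_a L79747) L115184
theorem L115191 : sm gc N13530 = N13530 := ded_19_2 (flp_b L115184) (flp_c L79745) L55318 L79745 L115184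
theorem L115192 : sm gf N9336 = N13531 := rfl
theorem L115194 : sm ga N13531 = N9340 := ded_14_1 (flp_f L79781) (flp_a L79747) L115192
theorem L115196 : sm gc N13531 = N9337 := ded_29_1 (flp_f L79753) L79745 L115192
theorem L115198 : sm gd N13531 = N13531 := ded_35_1 (flp_f L115192) L79752 L115192
theorem L115199 : sm gj N13531 = N13531 := ded_46_2 (flp_f L115192) L79750 L115192
theorem L115200 : sm gi N13531 = N13531 := ded_48_2 (flp_f L115192) L79751 L115192
theorem L115201 : sm gh N9336 = N13532 := rfl
theorem L115203 : sm ga N13532 = N9341 := ded_17_1 (flp_h L79789) (flp_a L79747) L115201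
theorem L115205 : sm gc N13532 = N9338 := ded_32_1 (flp_h L79762) L79745 L115201
theorem L115207 : sm ge N13532 = N13532 := ded_43_1 (flp_h L115201) L79749 L115201
theorem L115208 : sm gj N13532 = N13532 := ded_52_1 (flp_h L115201) L79750 L115201
theorem L115209 : sm ge N9337 = N13533 := rfl
theorem L115211 : sm ga N13533 = N9342 := ded_13_1 (flp_e L79796) (flp_a L79755) L115209
theorem L115213 : sm gb N13533 = N13533 := ded_21_1 (flp_e L115209) L79757 L115209
theorem L115214 : sm gj N13533 = N13533 := ded_42_2 (flp_e L115209) L79760 L115209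
theorem L115215 : sm gi N13533 = N13533 := ded_44_2 (flp_e L115209) L79761 L115209
theorem L115216 : sm gd N13533 = N13533 := ded_34_1 (flp_e L115209) L79758 L55332 (flp_d L79758) L115209
theorem L115217 : sm gf N13533 = N13533 := ded_40_2 (flp_e L115209) (flp_f L79753) L55321 L79753 L115209
theorem L115218 : sm gg N9337 = N13534 := rfl
theorem L115220 : sm ga N13534 = N9343 := ded_15_1 (flp_g L79804) (flp_a L79755) L115218
theorem L115222 : sm gb N13534 = N13534 := ded_23_1 (flp_g L115218) L79757 L115218
theorem L115223 : sm gd N13534 = N9339 := ded_36_1 (flp_g L79771) (flp_d L79758) L115218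
theorem L115225 : sm gi N13534 = N13534 := ded_51_2 (flp_g L115218) L79761 L115218
theorem L115226 : sm gh N9337 = N13535 := rfl
theorem L115228 : sm ga N13535 = N9344 := ded_17_1 (flp_h L79811) (flp_a L79755) L115226
theorem L115230 : sm gb N13535 = N13535 := ded_25_1 (flp_h L115226) L79757 L115226
theorem L115231 : sm gf N13535 = N9338 := ded_47_1 (flp_h L79762) L79753 L115226
theorem L115233 : sm gj N13535 = N13535 := ded_52_1 (flp_h L115226) L79760 L115226
theorem L115234 : sm gd N13535 = N9456 := ded_38_1 (flp_h L80815) L56018 (flp_h L55329) (flp_d L79758) L115226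
theorem L115236 : sm gi N9338 = N13536 := rfl
theorem L115238 : sm ga N13536 = N9345 := ded_18_1 (flp_i L79820) (flp_a L79764) L115236
theorem L115240 : sm gb N13536 = N13536 := ded_26_1 (flp_i L115236) L79766 L115236
theorem L115241 : sm gd N13536 = N9457 := ded_39_1 (flp_i L80823) (flp_d L79769) L115236
theorem L115243 : sm ge N13536 = N13536 := ded_44_1 (flp_i L115236) L79767 L115236
theorem L115244 : sm gj N13536 = N13536 := ded_53_1 (flp_i L115236) L79768 L115236
theorem L115245 : sm gh N13536 = N13536 := ded_54_1 (flp_i L115236) (flp_h L79762) L55320 L79762 L115236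
theorem L115246 : sm gj N9339 = N13537 := rfl
theorem L115248 : sm ga N13537 = N9346 := ded_16_1 (flp_j L79829) (flp_a L79773) L115246
theorem L115250 : sm gb N13537 = N13537 := ded_24_1 (flp_j L115246) L79775 L115246
theorem L115251 : sm gc N13537 = N13537 := ded_31_1 (flp_j L115246) L79776 L115246
theorem L115252 : sm ge N13537 = N13537 := ded_42_1 (flp_j L115246) L79777 L115246
theorem L115253 : sm gh N13537 = N9458 := ded_52_2 (flp_j L80831) (flp_h L79778) L115246
theorem L115255 : sm gi N13537 = N13537 := ded_53_2 (flp_j L115246) L79780 L115246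
theorem L115256 : sm gg N13537 = N13537 := ded_49_1 (flp_j L115246) (flp_g L79771) L55328 L79771 L115246
theorem L115257 : sm ge N9340 = N13538 := rfl
theorem L115259 : sm gb N13538 = N13538 := ded_21_1 (flp_e L115257) L79783 L115257
theorem L115260 : sm gc N13538 = N9342 := ded_28_1 (flp_e L79796) (flp_c L79784) L115257
theorem L115262 : sm gj N13538 = N13538 := ded_42_2 (flp_e L115257) L79787 L115257
theorem L115263 : sm gi N13538 = N13538 := ded_44_2 (flp_e L115257) L79788 L115257
theorem L115264 : sm gf N13538 = N13538 := ded_40_2 (flp_e L115257) (flp_f L79781) L55335 L79781 L115257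
theorem L115265 : sm gg N9340 = N13539 := rfl
theorem L115267 : sm gb N13539 = N13539 := ded_23_1 (flp_g L115265) L79783 L115265
theorem L115268 : sm gc N13539 = N9343 := ded_30_1 (flp_g L79804) (flp_c L79784) L115265
theorem L115270 : sm gd N13539 = N13539 := ded_36_1 (flp_g L115265) L79786 L115265
theorem L115271 : sm gi N13539 = N13539 := ded_51_2 (flp_g L115265) L79788 L115265
theorem L115272 : sm gh N9340 = N13540 := rfl
theorem L115274 : sm gb N13540 = N13540 := ded_25_1 (flp_h L115272) L79783 L115272
theorem L115275 : sm gc N13540 = N9344 := ded_32_1 (flp_h L79811) (flp_c L79784) L115272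
theorem L115277 : sm gf N13540 = N9341 := ded_47_1 (flp_h L79789) L79781 L115272
theorem L115279 : sm gj N13540 = N13540 := ded_52_1 (flp_h L115272) L79787 L115272
theorem L115280 : sm gd N9341 = N13541 := rfl
theorem L115282 : sm gb N13541 = N13541 := ded_20_1 (flp_d L115280) L79791 L115280
theorem L115283 : sm gj N13541 = N13541 := ded_37_2 (flp_d L115280) L79795 L115280
theorem L115284 : sm gc N13541 = N9462 := ded_27_1 (flp_d L80864) L56048 (flp_d L55354) (flp_c L79792) L115280
theorem L115286 : sm gh N13541 = N13541 := ded_38_2 (flp_d L115280) (flp_h L79789) L55339 L79789 L115280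
theorem L115287 : sm gi N9341 = N13542 := rfl
theorem L115289 : sm gb N13542 = N13542 := ded_26_1 (flp_i L115287) L79791 L115287
theorem L115290 : sm gc N13542 = N9345 := ded_33_1 (flp_i L79820) (flp_c L79792) L115287
theorem L115292 : sm ge N13542 = N13542 := ded_44_1 (flp_i L115287) L79794 L115287
theorem L115293 : sm gj N13542 = N13542 := ded_53_1 (flp_i L115287) L79795 L115287
theorem L115294 : sm gh N13542 = N13542 := ded_54_1 (flp_i L115287) (flp_h L79789) L55337 L79789 L115287
theorem L115295 : sm gg N9342 = N13543 := rfl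
theorem L115297 : sm gb N13543 = N9347 := ded_23_1 (flp_g L79839) (flp_b L79798) L115295
theorem L115299 : sm gd N13543 = N13543 := ded_36_1 (flp_g L115295) L79802 L115295
theorem L115300 : sm ge N13543 = N9343 := ded_41_1 (flp_g L79804) L79796 L115295
theorem L115302 : sm gi N13543 = N13543 := ded_51_2 (flp_g L115295) L79801 L115295
theorem L115303 : sm gh N9342 = N13544 := rfl
theorem L115305 : sm gb N13544 = N9348 := ded_25_1 (flp_h L79847) (flp_b L79798) L115303
theorem L115307 : sm ge N13544 = N9344 := ded_43_1 (flp_h L79811) L79796 L115303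
theorem L115309 : sm gf N13544 = N13544 := ded_47_1 (flp_h L115303) L79803 L115303
theorem L115310 : sm gj N13544 = N13544 := ded_52_1 (flp_h L115303) L79800 L115303
theorem L115311 : sm gj N9343 = N13545 := rfl
theorem L115313 : sm gb N13545 = N9349 := ded_24_1 (flp_j L79855) (flp_b L79806) L115311
theorem L115315 : sm gd N13545 = N9346 := ded_37_1 (flp_j L79829) (flp_d L79808) L115311
theorem L115317 : sm gi N13545 = N13545 := ded_53_2 (flp_j L115311) L79810 L115311
theorem L115318 : sm gg N13545 = N13545 := ded_49_1 (flp_j L115311) (flp_g L79804) L55346 L79804 L115311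
theorem L115319 : sm gh N9343 = N13546 := rfl
theorem L115321 : sm gb N13546 = N9350 := ded_25_1 (flp_h L79863) (flp_b L79806) L115319
theorem L115323 : sm gg N13546 = N9344 := ded_50_1 (flp_h L79811) L79804 L115319
theorem L115325 : sm gd N13546 = N9467 := ded_38_1 (flp_h L80902) L56065 (flp_h L55362) (flp_d L79808) L115319
theorem L115327 : sm gi N9344 = N13547 := rfl
theorem L115329 : sm gb N13547 = N9351 := ded_26_1 (flp_i L79871) (flp_b L79813) L115327
theorem L115331 : sm gd N13547 = N9468 := ded_39_1 (flp_i L80908) (flp_d L79818) L115327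
theorem L115333 : sm gf N13547 = N9345 := ded_48_1 (flp_i L79820) (flp_f L79815) L115327
theorem L115335 : sm gj N13547 = N13547 := ded_53_1 (flp_i L115327) L79817 L115327
theorem L115336 : sm gh N13547 = N13547 := ded_54_1 (flp_i L115327) (flp_h L79811) L55347 L79811 L115327
theorem L115337 : sm gf N9347 = N13548 := rfl
theorem L115339 : sm ga N13548 = N13548 := ded_14_1 (flp_f L115337) L79841 L115337
theorem L115340 : sm gc N13548 = N13548 := ded_29_1 (flp_f L115337) L79842 L115337
theorem L115341 : sm gd N13548 = N13548 := ded_35_1 (flp_f L115337) L79843 L115337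
theorem L115342 : sm gi N13548 = N13548 := ded_48_2 (flp_f L115337) L79846 L115337
theorem L115343 : sm gg N13548 = N13548 := ded_45_2 (flp_f L115337) (flp_g L79839) L55372 L79839 L115337
theorem L115344 : sm gj N9347 = N13549 := rfl
theorem L115346 : sm ga N13549 = N13549 := ded_16_1 (flp_j L115344) L79841 L115344
theorem L115347 : sm gc N13549 = N13549 := ded_31_1 (flp_j L115344) L79842 L115344
theorem L115348 : sm gd N13549 = N13549 := ded_37_1 (flp_j L115344) L79843 L115344
theorem L115349 : sm ge N13549 = N9349 := ded_42_1 (flp_j L79855) (flp_e L79844) L115344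
theorem L115351 : sm gi N13549 = N13549 := ded_53_2 (flp_j L115344) L79846 L115344
theorem L115352 : sm gg N13549 = N13549 := ded_49_1 (flp_j L115344) (flp_g L79839) L55369 L79839 L115344
theorem L115353 : sm gh N9347 = N13550 := rfl
theorem L115355 : sm ga N13550 = N13550 := ded_17_1 (flp_h L115353) L79841 L115353
theorem L115356 : sm gc N13550 = N13550 := ded_32_1 (flp_h L115353) L79842 L115353
theorem L115357 : sm ge N13550 = N9350 := ded_43_1 (flp_h L79863) (flp_e L79844) L115353
theorem L115359 : sm gg N13550 = N9348 := ded_50_1 (flp_h L79847) L79839 L115353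
theorem L115361 : sm gd N9348 = N13551 := rfl
theorem L115363 : sm ga N13551 = N13551 := ded_12_1 (flp_d L115361) L79849 L115361
theorem L115364 : sm gf N13551 = N13551 := ded_35_2 (flp_d L115361) L79853 L115361
theorem L115365 : sm gj N13551 = N13551 := ded_37_2 (flp_d L115361) L79854 L115361
theorem L115366 : sm ge N13551 = N9472 := ded_34_2 (flp_d L80941) L56101 (flp_d L55387) (flp_e L79851) L115361
theorem L115368 : sm gh N13551 = N13551 := ded_38_2 (flp_d L115361) (flp_h L79847) L55371 L79847 L115361
theorem L115369 : sm gi N9348 = N13552 := rfl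
theorem L115371 : sm ga N13552 = N13552 := ded_18_1 (flp_i L115369) L79849 L115369
theorem L115372 : sm gc N13552 = N13552 := ded_33_1 (flp_i L115369) L79850 L115369
theorem L115373 : sm ge N13552 = N9351 := ded_44_1 (flp_i L79871) (flp_e L79851) L115369
theorem L115375 : sm gf N13552 = N13552 := ded_48_1 (flp_i L115369) L79853 L115369
theorem L115376 : sm gj N13552 = N13552 := ded_53_1 (flp_i L115369) L79854 L115369
theorem L115377 : sm gh N13552 = N13552 := ded_54_1 (flp_i L115369) (flp_h L79847) L55370 L79847 L115369
theorem L115378 : sm gh N9349 = N13553 := rfl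
theorem L115380 : sm ga N13553 = N13553 := ded_17_1 (flp_h L115378) L79857 L115378
theorem L115381 : sm gc N13553 = N13553 := ded_32_1 (flp_h L115378) L79858 L115378
theorem L115382 : sm gg N13553 = N13553 := ded_50_1 (flp_h L115378) L79862 L115378
theorem L115383 : sm gj N13553 = N9350 := ded_52_1 (flp_h L79863) L79855 L115378
theorem L115385 : sm gd N13553 = N9474 := ded_38_1 (flp_h L80958) L56111 (flp_h L55404) (flp_d L79859) L115378
theorem L115387 : sm gi N9350 = N13554 := rfl
theorem L115389 : sm ga N13554 = N13554 := ded_18_1 (flp_i L115387) L79865 L115387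
theorem L115390 : sm gc N13554 = N13554 := ded_33_1 (flp_i L115387) L79866 L115387
theorem L115391 : sm gd N13554 = N9475 := ded_39_1 (flp_i L80966) (flp_d L79869) L115387
theorem L115393 : sm gg N13554 = N9351 := ded_51_1 (flp_i L79871) (flp_g L79867) L115387
theorem L115395 : sm gh N13554 = N13554 := ded_54_1 (flp_i L115387) (flp_h L79863) L55379 L79863 L115387
theorem L115396 : sm ga N9352 = N13555 := rfl
theorem L115402 : sm gg N13555 = N9360 := ded_15_2 (flp_a L79956) (flp_g L79886) L115396
theorem L115406 : sm gi N13555 = N9355 := ded_18_2 (flp_a L79914) (flp_i L79890) L115396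
theorem L115409 : sm ge N9352 = N13556 := rfl
theorem L115411 : sm gb N13556 = N9353 := ded_21_1 (flp_e L79893) L79881 L115409
theorem L115413 : sm gc N13556 = N13556 := ded_28_1 (flp_e L115409) L79892 L115409
theorem L115414 : sm gg N13556 = N9361 := ded_41_2 (flp_e L79969) (flp_g L79886) L115409
theorem L115416 : sm gj N13556 = N13556 := ded_42_2 (flp_e L115409) L79888 L115409
theorem L115417 : sm gh N13556 = N13556 := ded_43_2 (flp_e L115409) L79889 L115409
theorem L115418 : sm gi N13556 = N9356 := ded_44_2 (flp_e L79924) (flp_i L79890) L115409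
theorem L115420 : sm gd N9353 = N13557 := rfl
theorem L115422 : sm ga N13557 = N13557 := ded_12_1 (flp_d L115420) L79895 L115420
theorem L115423 : sm gg N13557 = N9362 := ded_36_2 (flp_d L79979) (flp_g L79898) L115420
theorem L115425 : sm gj N13557 = N13557 := ded_37_2 (flp_d L115420) L79900 L115420
theorem L115426 : sm gi N13557 = N9357 := ded_39_2 (flp_d L79932) (flp_i L79902) L115420
theorem L115428 : sm gc N13557 = N13557 := ded_27_1 (flp_d L115420) L79896 L55430 (flp_c L79896) L115420
theorem L115429 : sm ge N13557 = N9776 := ded_34_2 (flp_d L83557) (flp_e L57863) (flp_d L55418) L79893 L115420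
theorem L115431 : sm gf N9353 = N13558 := rfl
theorem L115433 : sm ga N13558 = N13558 := ded_14_1 (flp_f L115431) L79895 L115431
theorem L115434 : sm gc N13558 = N9354 := ded_29_1 (flp_f L79904) (flp_c L79896) L115431
theorem L115436 : sm gj N13558 = N13558 := ded_46_2 (flp_f L115431) L79900 L115431
theorem L115437 : sm gh N13558 = N13558 := ded_47_2 (flp_f L115431) L79901 L115431
theorem L115438 : sm gi N13558 = N9358 := ded_48_2 (flp_f L79941) (flp_i L79902) L115431
theorem L115440 : sm ge N13558 = N13558 := ded_40_1 (flp_f L115431) (flp_e L79893) L55411 L79893 L115431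
theorem L115441 : sm gg N9354 = N13559 := rfl
theorem L115443 : sm ga N13559 = N13559 := ded_15_1 (flp_g L115441) L79906 L115441
theorem L115444 : sm gb N13559 = N13559 := ded_23_1 (flp_g L115441) L79907 L115441
theorem L115445 : sm gd N13559 = N13559 := ded_36_1 (flp_g L115441) L79908 L115441
theorem L115446 : sm ge N13559 = N13559 := ded_41_1 (flp_g L115441) L79913 L115441
theorem L115447 : sm gh N13559 = N13559 := ded_50_2 (flp_g L115441) L79910 L115441
theorem L115448 : sm gi N13559 = N9359 := ded_51_2 (flp_g L79948) (flp_i L79911) L115441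
theorem L115450 : sm gf N13559 = N9364 := ded_45_1 (flp_g L80001) (flp_f L55477) (flp_g L55424) L79904 L115441
theorem L115452 : sm ge N9355 = N13560 := rfl
theorem L115454 : sm ga N13560 = N9356 := ded_13_1 (flp_e L79924) L79914 L115452
theorem L115456 : sm gb N13560 = N13560 := ded_21_1 (flp_e L115452) L79923 L115452
theorem L115457 : sm gc N13560 = N13560 := ded_28_1 (flp_e L115452) L79916 L115452
theorem L115458 : sm gg N13560 = N9365 := ded_41_2 (flp_e L80011) (flp_g L79920) L115452
theorem L115460 : sm gj N13560 = N13560 := ded_42_2 (flp_e L115452) L79922 L115452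
theorem L115461 : sm gd N9356 = N13561 := rfl
theorem L115463 : sm gb N13561 = N9357 := ded_20_1 (flp_d L79932) (flp_b L79926) L115461
theorem L115465 : sm gg N13561 = N9366 := ded_36_2 (flp_d L80019) (flp_g L79929) L115461
theorem L115467 : sm gj N13561 = N13561 := ded_37_2 (flp_d L115461) L79931 L115461
theorem L115468 : sm ge N13561 = N9780 := ded_34_2 (flp_d L83597) (flp_e L57893) (flp_d L55433) L79924 L115461
theorem L115470 : sm gf N9356 = N13562 := rfl
theorem L115472 : sm gb N13562 = N9358 := ded_22_1 (flp_f L79941) (flp_b L79926) L115470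
theorem L115474 : sm gc N13562 = N13562 := ded_29_1 (flp_f L115470) L79928 L115470
theorem L115475 : sm gj N13562 = N13562 := ded_46_2 (flp_f L115470) L79931 L115470
theorem L115476 : sm ge N13562 = N13562 := ded_40_1 (flp_f L115470) (flp_e L79924) L55435 L79924 L115470
theorem L115477 : sm gf N9357 = N13563 := rfl
theorem L115479 : sm ga N13563 = N13563 := ded_14_1 (flp_f L115477) L79934 L115477
theorem L115480 : sm gc N13563 = N13563 := ded_29_1 (flp_f L115477) L79938 L115477
theorem L115481 : sm gd N13563 = N9358 := ded_35_1 (flp_f L79941) L79932 L115477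
theorem L115483 : sm gj N13563 = N13563 := ded_46_2 (flp_f L115477) L79937 L115477
theorem L115484 : sm gh N9357 = N13564 := rfl
theorem L115486 : sm ga N13564 = N13564 := ded_17_1 (flp_h L115484) L79934 L115484
theorem L115487 : sm gc N13564 = N13564 := ded_32_1 (flp_h L115484) L79938 L115484
theorem L115488 : sm ge N13564 = N9783 := ded_43_1 (flp_h L83620) (flp_e L79939) L115484
theorem L115490 : sm gg N13564 = N9369 := ded_50_1 (flp_h L80044) (flp_g L79935) L115484
theorem L115492 : sm gj N13564 = N13564 := ded_52_1 (flp_h L115484) L79937 L115484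
theorem L115493 : sm gg N9358 = N13565 := rfl
theorem L115495 : sm ga N13565 = N13565 := ded_15_1 (flp_g L115493) L79943 L115493
theorem L115496 : sm gc N13565 = N9359 := ded_30_1 (flp_g L79948) (flp_c L79944) L115493
theorem L115498 : sm ge N13565 = N13565 := ded_41_1 (flp_g L115493) L79947 L115493
theorem L115499 : sm gf N13565 = N9370 := ded_45_1 (flp_g L80052) (flp_f L55514) (flp_g L55445) L79941 L115493
theorem L115501 : sm gj N9359 = N13566 := rfl
theorem L115503 : sm ga N13566 = N13566 := ded_16_1 (flp_j L115501) L79950 L115501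
theorem L115504 : sm gb N13566 = N13566 := ded_24_1 (flp_j L115501) L79951 L115501
theorem L115505 : sm gd N13566 = N13566 := ded_37_1 (flp_j L115501) L79952 L115501
theorem L115506 : sm ge N13566 = N13566 := ded_42_1 (flp_j L115501) L79953 L115501
theorem L115507 : sm gf N13566 = N9371 := ded_46_1 (flp_j L80059) (flp_f L79954) L115501
theorem L115509 : sm gg N13566 = N13566 := ded_49_1 (flp_j L115501) (flp_g L79948) L55453 L79948 L115501
theorem L115510 : sm ge N9360 = N13567 := rfl
theorem L115512 : sm ga N13567 = N9361 := ded_13_1 (flp_e L79969) L79956 L115510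
theorem L115516 : sm gj N13567 = N9372 := ded_42_2 (flp_e L80068) (flp_j L79963) L115510
theorem L115519 : sm gi N13567 = N9365 := ded_44_2 (flp_e L80011) (flp_i L79966) L115510
theorem L115521 : sm gd N9361 = N13568 := rfl
theorem L115523 : sm gb N13568 = N9362 := ded_20_1 (flp_d L79979) (flp_b L79971) L115521
theorem L115525 : sm gj N13568 = N9373 := ded_37_2 (flp_d L80078) (flp_j L79974) L115521
theorem L115527 : sm gi N13568 = N9366 := ded_39_2 (flp_d L80019) (flp_i L79977) L115521
theorem L115529 : sm ge N13568 = N9795 := ded_34_2 (flp_d L83743) (flp_e L57993) (flp_d L55457) L79969 L115521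
theorem L115531 : sm gf N9361 = N13569 := rfl
theorem L115533 : sm gb N13569 = N9363 := ded_22_1 (flp_f L79989) (flp_b L79971) L115531
theorem L115535 : sm gc N13569 = N13569 := ded_29_1 (flp_f L115531) L79973 L115531
theorem L115536 : sm gj N13569 = N9374 := ded_46_2 (flp_f L80087) (flp_j L79974) L115531
theorem L115538 : sm gh N13569 = N13569 := ded_47_2 (flp_f L115531) L79976 L115531
theorem L115539 : sm gi N13569 = N9367 := ded_48_2 (flp_f L80027) (flp_i L79977) L115531
theorem L115541 : sm ge N13569 = N9392 := ded_40_1 (flp_f L80238) (flp_e L55643) (flp_f L55459) L79969 L115531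
theorem L115543 : sm gf N9362 = N13570 := rfl
theorem L115545 : sm ga N13570 = N13570 := ded_14_1 (flp_f L115543) L79981 L115543
theorem L115546 : sm gc N13570 = N13570 := ded_29_1 (flp_f L115543) L79986 L115543
theorem L115547 : sm gd N13570 = N9363 := ded_35_1 (flp_f L79989) L79979 L115543
theorem L115549 : sm gj N13570 = N9375 := ded_46_2 (flp_f L80097) (flp_j L79982) L115543
theorem L115551 : sm gi N13570 = N9368 := ded_48_2 (flp_f L80036) (flp_i L79984) L115543
theorem L115553 : sm gh N9362 = N13571 := rfl
theorem L115555 : sm ga N13571 = N13571 := ded_17_1 (flp_h L115553) L79981 L115553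
theorem L115556 : sm gc N13571 = N13571 := ded_32_1 (flp_h L115553) L79986 L115553
theorem L115557 : sm ge N13571 = N9798 := ded_43_1 (flp_h L83773) (flp_e L79987) L115553
theorem L115559 : sm gj N13571 = N9376 := ded_52_1 (flp_h L80105) (flp_j L79982) L115553
theorem L115561 : sm gd N13571 = N13571 := ded_38_1 (flp_h L115553) (flp_d L79979) L55474 L79979 L115553
theorem L115562 : sm gg N9363 = N13572 := rfl
theorem L115564 : sm ga N13572 = N13572 := ded_15_1 (flp_g L115562) L79991 L115562
theorem L115565 : sm gc N13572 = N9364 := ded_30_1 (flp_g L80001) (flp_c L79992) L115562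
theorem L115567 : sm ge N13572 = N9395 := ded_41_1 (flp_g L80270) (flp_e L79999) L115562
theorem L115569 : sm gh N13572 = N13572 := ded_50_2 (flp_g L115562) L79996 L115562
theorem L115570 : sm gi N13572 = N9370 := ded_51_2 (flp_g L80052) (flp_i L79997) L115562
theorem L115572 : sm gj N9364 = N13573 := rfl
theorem L115574 : sm ga N13573 = N13573 := ded_16_1 (flp_j L115572) L80003 L115572
theorem L115575 : sm gb N13573 = N13573 := ded_24_1 (flp_j L115572) L80004 L115572
theorem L115576 : sm gd N13573 = N13573 := ded_37_1 (flp_j L115572) L80005 L115572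
theorem L115577 : sm ge N13573 = N9396 := ded_42_1 (flp_j L80279) (flp_e L80006) L115572
theorem L115579 : sm gh N13573 = N13573 := ded_52_2 (flp_j L115572) L80008 L115572
theorem L115580 : sm gi N13573 = N9371 := ded_53_2 (flp_j L80059) (flp_i L80009) L115572
theorem L115582 : sm gg N13573 = N9378 := ded_49_1 (flp_j L80124) (flp_g L55570) (flp_j L55482) L80001 L115572
theorem L115584 : sm gd N9365 = N13574 := rfl
theorem L115586 : sm ga N13574 = N9366 := ded_12_1 (flp_d L80019) (flp_a L80013) L115584
theorem L115588 : sm gb N13574 = N13574 := ded_20_1 (flp_d L115584) L80015 L115584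
theorem L115589 : sm gj N13574 = N9379 := ded_37_2 (flp_d L80135) (flp_j L80017) L115584
theorem L115591 : sm ge N13574 = N9801 := ded_34_2 (flp_d L83800) (flp_e L58032) (flp_d L55492) L80011 L115584
theorem L115593 : sm gf N9365 = N13575 := rfl
theorem L115595 : sm ga N13575 = N9367 := ded_14_1 (flp_f L80027) (flp_a L80013) L115593
theorem L115597 : sm gb N13575 = N13575 := ded_22_1 (flp_f L115593) L80015 L115593
theorem L115598 : sm gc N13575 = N13575 := ded_29_1 (flp_f L115593) L80016 L115593
theorem L115599 : sm gj N13575 = N9380 := ded_46_2 (flp_f L80143) (flp_j L80017) L115593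
theorem L115601 : sm ge N13575 = N9398 := ded_40_1 (flp_f L80301) (flp_e L55686) (flp_f L55494) L80011 L115593
theorem L115603 : sm gc N9366 = N13576 := rfl
theorem L115605 : sm ge N13576 = N9803 := ded_28_2 (flp_c L83819) (flp_e L80025) L115603
theorem L115607 : sm gj N13576 = N9381 := ded_31_2 (flp_c L80151) (flp_j L80023) L115603
theorem L115609 : sm gb N13576 = N13576 := ded_19_1 (flp_c L115603) L80021 L55511 (flp_b L80021) L115603
theorem L115610 : sm gd N13576 = N13576 := ded_27_2 (flp_c L115603) (flp_d L80019) L55503 L80019 L115603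
theorem L115611 : sm gf N9366 = N13577 := rfl
theorem L115613 : sm gb N13577 = N9368 := ded_22_1 (flp_f L80036) (flp_b L80021) L115611
theorem L115615 : sm gd N13577 = N9367 := ded_35_1 (flp_f L80027) L80019 L115611
theorem L115617 : sm gj N13577 = N9382 := ded_46_2 (flp_f L80158) (flp_j L80023) L115611
theorem L115619 : sm gh N9366 = N13578 := rfl
theorem L115621 : sm gb N13578 = N9369 := ded_25_1 (flp_h L80044) (flp_b L80021) L115619
theorem L115623 : sm ge N13578 = N9805 := ded_43_1 (flp_h L83834) (flp_e L80025) L115619
theorem L115625 : sm gj N13578 = N9383 := ded_52_1 (flp_h L80164) (flp_j L80023) L115619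
theorem L115627 : sm gg N9367 = N13579 := rfl
theorem L115629 : sm gb N13579 = N9370 := ded_23_1 (flp_g L80052) (flp_b L80029) L115627
theorem L115631 : sm gc N13579 = N13579 := ded_30_1 (flp_g L115627) L80031 L115627
theorem L115632 : sm ge N13579 = N9402 := ded_41_1 (flp_g L80336) (flp_e L80034) L115627
theorem L115634 : sm ge N9368 = N13580 := rfl
theorem L115636 : sm ga N13580 = N13580 := ded_13_1 (flp_e L115634) L80038 L115634
theorem L115637 : sm gc N13580 = N13580 := ded_28_1 (flp_e L115634) L80039 L115634
theorem L115638 : sm gj N13580 = N9385 := ded_42_2 (flp_e L80179) (flp_j L80042) L115634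
theorem L115640 : sm gd N13580 = N9403 := ded_34_1 (flp_e L80342) L55716 (flp_e L55521) (flp_d L80040) L115634
theorem L115642 : sm gf N13580 = N9807 := ded_40_2 (flp_e L83850) (flp_f L58059) (flp_e L55512) L80036 L115634
theorem L115644 : sm gg N9368 = N13581 := rfl
theorem L115646 : sm ga N13581 = N13581 := ded_15_1 (flp_g L115644) L80038 L115644
theorem L115647 : sm gc N13581 = N13581 := ded_30_1 (flp_g L115644) L80039 L115644
theorem L115648 : sm gd N13581 = N9370 := ded_36_1 (flp_g L80052) (flp_d L80040) L115644
theorem L115650 : sm gh N9368 = N13582 := rfl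
theorem L115652 : sm ga N13582 = N13582 := ded_17_1 (flp_h L115650) L80038 L115650
theorem L115653 : sm gc N13582 = N13582 := ded_32_1 (flp_h L115650) L80039 L115650
theorem L115654 : sm gf N13582 = N9369 := ded_47_1 (flp_h L80044) L80036 L115650
theorem L115656 : sm gj N13582 = N9387 := ded_52_1 (flp_h L80194) (flp_j L80042) L115650
theorem L115658 : sm gi N9369 = N13583 := rfl
theorem L115660 : sm ga N13583 = N13583 := ded_18_1 (flp_i L115658) L80046 L115658
theorem L115661 : sm gc N13583 = N13583 := ded_33_1 (flp_i L115658) L80047 L115658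
theorem L115662 : sm ge N13583 = N9810 := ded_44_1 (flp_i L83873) (flp_e L80048) L115658
theorem L115664 : sm gj N13583 = N9388 := ded_53_1 (flp_i L80200) (flp_j L80050) L115658
theorem L115666 : sm gj N9370 = N13584 := rfl
theorem L115668 : sm ga N13584 = N13584 := ded_16_1 (flp_j L115666) L80054 L115666
theorem L115669 : sm gc N13584 = N9371 := ded_31_1 (flp_j L80059) (flp_c L80055) L115666
theorem L115671 : sm ge N13584 = N9407 := ded_42_1 (flp_j L80378) (flp_e L80057) L115666
theorem L115673 : sm gg N13584 = N9389 := ded_49_1 (flp_j L80207) (flp_g L55615) (flp_j L55519) L80052 L115666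
theorem L115675 : sm gd N9372 = N13585 := rfl
theorem L115677 : sm ga N13585 = N9373 := ded_12_1 (flp_d L80078) (flp_a L80070) L115675
theorem L115681 : sm gi N13585 = N9379 := ded_39_2 (flp_d L80135) (flp_i L80076) L115675
theorem L115683 : sm ge N13585 = N9824 := ded_34_2 (flp_d L84000) (flp_e L58169) (flp_d L55533) L80068 L115675
theorem L115685 : sm gf N9372 = N13586 := rfl
theorem L115687 : sm ga N13586 = N9374 := ded_14_1 (flp_f L80087) (flp_a L80070) L115685
theorem L115692 : sm gi N13586 = N9380 := ded_48_2 (flp_f L80143) (flp_i L80076) L115685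
theorem L115694 : sm ge N13586 = N9409 := ded_40_1 (flp_f L80397) (flp_e L55745) (flp_f L55535) L80068 L115685
theorem L115696 : sm gc N9373 = N13587 := rfl
theorem L115698 : sm ge N13587 = N9826 := ded_28_2 (flp_c L84019) (flp_e L80085) L115696
theorem L115700 : sm gg N13587 = N13587 := ded_30_2 (flp_c L115696) L80082 L115696
theorem L115701 : sm gi N13587 = N9381 := ded_33_2 (flp_c L80151) (flp_i L80083) L115696
theorem L115703 : sm gb N13587 = N13587 := ded_19_1 (flp_c L115696) L80080 L55557 (flp_b L80080) L115696
theorem L115704 : sm gd N13587 = N13587 := ded_27_2 (flp_c L115696) (flp_d L80078) L55546 L80078 L115696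
theorem L115705 : sm gf N9373 = N13588 := rfl
theorem L115707 : sm gb N13588 = N9375 := ded_22_1 (flp_f L80097) (flp_b L80080) L115705
theorem L115709 : sm gd N13588 = N9374 := ded_35_1 (flp_f L80087) L80078 L115705
theorem L115711 : sm gi N13588 = N9382 := ded_48_2 (flp_f L80158) (flp_i L80083) L115705
theorem L115713 : sm gh N9373 = N13589 := rfl
theorem L115715 : sm gb N13589 = N9376 := ded_25_1 (flp_h L80105) (flp_b L80080) L115713
theorem L115717 : sm ge N13589 = N9828 := ded_43_1 (flp_h L84035) (flp_e L80085) L115713
theorem L115719 : sm gg N13589 = N13589 := ded_50_1 (flp_h L115713) L80082 L115713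
theorem L115720 : sm gd N13589 = N13589 := ded_38_1 (flp_h L115713) (flp_d L80078) L55548 L80078 L115713
theorem L115721 : sm gg N9374 = N13590 := rfl
theorem L115723 : sm gb N13590 = N9377 := ded_23_1 (flp_g L80113) (flp_b L80089) L115721
theorem L115725 : sm gc N13590 = N13590 := ded_30_1 (flp_g L115721) L80091 L115721
theorem L115726 : sm ge N13590 = N9413 := ded_41_1 (flp_g L80434) (flp_e L80095) L115721
theorem L115728 : sm gh N13590 = N13590 := ded_50_2 (flp_g L115721) L80092 L115721
theorem L115729 : sm gi N13590 = N9384 := ded_51_2 (flp_g L80171) (flp_i L80093) L115721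
theorem L115731 : sm gf N13590 = N13590 := ded_45_1 (flp_g L115721) (flp_f L80087) L55547 L80087 L115721
theorem L115732 : sm ge N9375 = N13591 := rfl
theorem L115734 : sm ga N13591 = N13591 := ded_13_1 (flp_e L115732) L80099 L115732
theorem L115735 : sm gc N13591 = N13591 := ded_28_1 (flp_e L115732) L80100 L115732
theorem L115736 : sm gi N13591 = N9385 := ded_44_2 (flp_e L80179) (flp_i L80103) L115732
theorem L115738 : sm gd N13591 = N9414 := ded_34_1 (flp_e L80444) L55779 (flp_e L55568) (flp_d L80101) L115732
theorem L115740 : sm gf N13591 = N9830 := ded_40_2 (flp_e L84051) (flp_f L58196) (flp_e L55558) L80097 L115732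
theorem L115742 : sm gg N9375 = N13592 := rfl
theorem L115744 : sm ga N13592 = N13592 := ded_15_1 (flp_g L115742) L80099 L115742
theorem L115745 : sm gc N13592 = N13592 := ded_30_1 (flp_g L115742) L80100 L115742
theorem L115746 : sm gd N13592 = N9377 := ded_36_1 (flp_g L80113) (flp_d L80101) L115742
theorem L115748 : sm gi N13592 = N9386 := ded_51_2 (flp_g L80187) (flp_i L80103) L115742
theorem L115750 : sm gf N13592 = N13592 := ded_45_1 (flp_g L115742) (flp_f L80097) L55554 L80097 L115742
theorem L115751 : sm gh N9375 = N13593 := rfl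
theorem L115753 : sm ga N13593 = N13593 := ded_17_1 (flp_h L115751) L80099 L115751
theorem L115754 : sm gc N13593 = N13593 := ded_32_1 (flp_h L115751) L80100 L115751
theorem L115755 : sm gf N13593 = N9376 := ded_47_1 (flp_h L80105) L80097 L115751
theorem L115757 : sm gd N13593 = N13593 := ded_38_1 (flp_h L115751) L80101 L55565 (flp_d L80101) L115751
theorem L115758 : sm gi N9376 = N13594 := rfl
theorem L115760 : sm ga N13594 = N13594 := ded_18_1 (flp_i L115758) L80107 L115758
theorem L115761 : sm gc N13594 = N13594 := ded_33_1 (flp_i L115758) L80108 L115758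
theorem L115762 : sm gd N13594 = N13594 := ded_39_1 (flp_i L115758) L80112 L115758
theorem L115763 : sm ge N13594 = N9833 := ded_44_1 (flp_i L84074) (flp_e L80109) L115758
theorem L115765 : sm gg N13594 = N13594 := ded_51_1 (flp_i L115758) L80111 L115758
theorem L115766 : sm gh N13594 = N9388 := ded_54_1 (flp_i L80200) (flp_h L55608) (flp_i L55555) L80105 L115758
theorem L115768 : sm gj N9377 = N13595 := rfl
theorem L115770 : sm ga N13595 = N13595 := ded_16_1 (flp_j L115768) L80115 L115768
theorem L115771 : sm gc N13595 = N9378 := ded_31_1 (flp_j L80124) (flp_c L80116) L115768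
theorem L115773 : sm ge N13595 = N9418 := ded_42_1 (flp_j L80484) (flp_e L80118) L115768
theorem L115775 : sm gf N13595 = N13595 := ded_46_1 (flp_j L115768) L80123 L115768
theorem L115776 : sm gh N13595 = N13595 := ded_52_2 (flp_j L115768) L80120 L115768
theorem L115777 : sm gi N13595 = N9389 := ded_53_2 (flp_j L80207) (flp_i L80121) L115768
theorem L115779 : sm gc N9379 = N13596 := rfl
theorem L115781 : sm ga N13596 = N9381 := ded_11_1 (flp_c L80151) (flp_a L80137) L115779
theorem L115787 : sm gf N9379 = N13597 := rfl
theorem L115789 : sm ga N13597 = N9382 := ded_14_1 (flp_f L80158) (flp_a L80137) L115787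
theorem L115791 : sm gb N13597 = N13597 := ded_22_1 (flp_f L115787) L80139 L115787
theorem L115792 : sm gd N13597 = N9380 := ded_35_1 (flp_f L80143) L80135 L115787
theorem L115794 : sm gh N9379 = N13598 := rfl
theorem L115799 : sm ge N13598 = N9837 := ded_43_1 (flp_h L84105) (flp_e L80141) L115794
theorem L115802 : sm gg N9380 = N13599 := rfl
theorem L115804 : sm ga N13599 = N9384 := ded_15_1 (flp_g L80171) (flp_a L80145) L115802
theorem L115806 : sm gb N13599 = N13599 := ded_23_1 (flp_g L115802) L80147 L115802
theorem L115807 : sm gc N13599 = N13599 := ded_30_1 (flp_g L115802) L80148 L115802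
theorem L115808 : sm ge N13599 = N9422 := ded_41_1 (flp_g L80519) (flp_e L80149) L115802
theorem L115810 : sm gf N13599 = N13599 := ded_45_1 (flp_g L115802) (flp_f L80143) L55587 L80143 L115802
theorem L115811 : sm gf N9381 = N13600 := rfl
theorem L115813 : sm gb N13600 = N13600 := ded_22_1 (flp_f L115811) L80156 L115811
theorem L115814 : sm gc N13600 = N9382 := ded_29_1 (flp_f L80158) L80151 L115811
theorem L115816 : sm gd N13600 = N13600 := ded_35_1 (flp_f L115811) L80157 L115811
theorem L115817 : sm gh N9381 = N13601 := rfl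
theorem L115822 : sm ge N13601 = N9840 := ded_43_1 (flp_h L84130) (flp_e L80153) L115817
theorem L115825 : sm ge N9382 = N13602 := rfl
theorem L115827 : sm gb N13602 = N9385 := ded_21_1 (flp_e L80179) (flp_b L80160) L115825
theorem L115829 : sm gd N13602 = N9425 := ded_34_1 (flp_e L80544) L55842 (flp_e L55600) (flp_d L80162) L115825
theorem L115831 : sm gf N13602 = N9841 := ded_40_2 (flp_e L84136) (flp_f L58252) (flp_e L55593) L80158 L115825
theorem L115833 : sm gg N9382 = N13603 := rfl
theorem L115835 : sm gb N13603 = N9386 := ded_23_1 (flp_g L80187) (flp_b L80160) L115833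
theorem L115837 : sm gd N13603 = N9384 := ded_36_1 (flp_g L80171) (flp_d L80162) L115833
theorem L115839 : sm gf N13603 = N13603 := ded_45_1 (flp_g L115833) (flp_f L80158) L55592 L80158 L115833
theorem L115840 : sm gh N9382 = N13604 := rfl
theorem L115842 : sm gb N13604 = N9387 := ded_25_1 (flp_h L80194) (flp_b L80160) L115840
theorem L115844 : sm gf N13604 = N9383 := ded_47_1 (flp_h L80164) L80158 L115840
theorem L115846 : sm gi N9383 = N13605 := rfl
theorem L115848 : sm gb N13605 = N9388 := ded_26_1 (flp_i L80200) (flp_b L80166) L115846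
theorem L115850 : sm ge N13605 = N9844 := ded_44_1 (flp_i L84156) (flp_e L80168) L115846
theorem L115853 : sm gj N9384 = N13606 := rfl
theorem L115855 : sm gb N13606 = N9389 := ded_24_1 (flp_j L80207) (flp_b L80173) L115853
theorem L115857 : sm gc N13606 = N13606 := ded_31_1 (flp_j L115853) L80175 L115853
theorem L115858 : sm ge N13606 = N9429 := ded_42_1 (flp_j L80572) (flp_e L80176) L115853
theorem L115860 : sm gf N13606 = N13606 := ded_46_1 (flp_j L115853) L80178 L115853
theorem L115861 : sm gg N9385 = N13607 := rfl
theorem L115863 : sm ga N13607 = N13607 := ded_15_1 (flp_g L115861) L80181 L115861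
theorem L115864 : sm gc N13607 = N13607 := ded_30_1 (flp_g L115861) L80182 L115861
theorem L115865 : sm gd N13607 = N9430 := ded_36_1 (flp_g L80579) (flp_d L80183) L115861
theorem L115867 : sm ge N13607 = N9386 := ded_41_1 (flp_g L80187) L80179 L115861
theorem L115869 : sm gh N9385 = N13608 := rfl
theorem L115871 : sm ga N13608 = N13608 := ded_17_1 (flp_h L115869) L80181 L115869
theorem L115872 : sm gc N13608 = N13608 := ded_32_1 (flp_h L115869) L80182 L115869
theorem L115873 : sm ge N13608 = N9387 := ded_43_1 (flp_h L80194) L80179 L115869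
theorem L115875 : sm gf N13608 = N9847 := ded_47_1 (flp_h L84180) (flp_f L80185) L115869
theorem L115877 : sm gj N9386 = N13609 := rfl
theorem L115879 : sm ga N13609 = N13609 := ded_16_1 (flp_j L115877) L80189 L115877
theorem L115880 : sm gc N13609 = N13609 := ded_31_1 (flp_j L115877) L80190 L115877
theorem L115881 : sm gd N13609 = N9389 := ded_37_1 (flp_j L80207) (flp_d L80191) L115877
theorem L115883 : sm gf N13609 = N13609 := ded_46_1 (flp_j L115877) L80193 L115877
theorem L115884 : sm gh N9386 = N13610 := rfl
theorem L115886 : sm ga N13610 = N13610 := ded_17_1 (flp_h L115884) L80189 L115884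
theorem L115887 : sm gc N13610 = N13610 := ded_32_1 (flp_h L115884) L80190 L115884
theorem L115888 : sm gf N13610 = N13610 := ded_47_1 (flp_h L115884) L80193 L115884
theorem L115889 : sm gg N13610 = N9387 := ded_50_1 (flp_h L80194) L80187 L115884
theorem L115891 : sm gi N9387 = N13611 := rfl
theorem L115893 : sm ga N13611 = N13611 := ded_18_1 (flp_i L115891) L80196 L115891
theorem L115894 : sm gc N13611 = N13611 := ded_33_1 (flp_i L115891) L80197 L115891
theorem L115895 : sm gf N13611 = N9388 := ded_48_1 (flp_i L80200) (flp_f L80198) L115891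
theorem L115897 : sm gd N9390 = N13612 := rfl
theorem L115899 : sm ga N13612 = N9391 := ded_12_1 (flp_d L80227) (flp_a L80217) L115897
theorem L115903 : sm gj N13612 = N9408 := ded_37_2 (flp_d L80386) (flp_j L80222) L115897
theorem L115905 : sm gi N13612 = N9397 := ded_39_2 (flp_d L80291) (flp_i L80225) L115897
theorem L115907 : sm ge N13612 = N9858 := ded_34_2 (flp_d L84281) (flp_e L58362) (flp_d L55634) L80215 L115897
theorem L115909 : sm gf N9390 = N13613 := rfl
theorem L115911 : sm ga N13613 = N9392 := ded_14_1 (flp_f L80238) (flp_a L80217) L115909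
theorem L115915 : sm gj N13613 = N9409 := ded_46_2 (flp_f L80397) (flp_j L80222) L115909
theorem L115918 : sm gi N13613 = N9398 := ded_48_2 (flp_f L80301) (flp_i L80225) L115909
theorem L115920 : sm gc N9391 = N13614 := rfl
theorem L115922 : sm ge N13614 = N9860 := ded_28_2 (flp_c L84302) (flp_e L80236) L115920
theorem L115924 : sm gg N13614 = N13614 := ded_30_2 (flp_c L115920) L80231 L115920
theorem L115925 : sm gj N13614 = N9410 := ded_31_2 (flp_c L80406) (flp_j L80232) L115920
theorem L115927 : sm gi N13614 = N9399 := ded_33_2 (flp_c L80309) (flp_i L80234) L115920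
theorem L115929 : sm gb N13614 = N9485 := ded_19_1 (flp_c L81069) L56195 (flp_c L55662) (flp_b L80229) L115920
theorem L115931 : sm gd N13614 = N13614 := ded_27_2 (flp_c L115920) (flp_d L80227) L55647 L80227 L115920
theorem L115932 : sm gf N9391 = N13615 := rfl
theorem L115934 : sm gb N13615 = N9393 := ded_22_1 (flp_f L80248) (flp_b L80229) L115932
theorem L115936 : sm gd N13615 = N9392 := ded_35_1 (flp_f L80238) L80227 L115932
theorem L115938 : sm gj N13615 = N9411 := ded_46_2 (flp_f L80417) (flp_j L80232) L115932
theorem L115940 : sm gi N13615 = N9400 := ded_48_2 (flp_f L80319) (flp_i L80234) L115932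
theorem L115942 : sm gh N9391 = N13616 := rfl
theorem L115944 : sm gb N13616 = N9394 := ded_25_1 (flp_h L80259) (flp_b L80229) L115942
theorem L115946 : sm ge N13616 = N9862 := ded_43_1 (flp_h L84323) (flp_e L80236) L115942
theorem L115948 : sm gg N13616 = N13616 := ded_50_1 (flp_h L115942) L80231 L115942
theorem L115949 : sm gj N13616 = N9412 := ded_52_1 (flp_h L80425) (flp_j L80232) L115942
theorem L115951 : sm gd N13616 = N13616 := ded_38_1 (flp_h L115942) (flp_d L80227) L55651 L80227 L115942
theorem L115952 : sm gg N9392 = N13617 := rfl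
theorem L115954 : sm gb N13617 = N9395 := ded_23_1 (flp_g L80270) (flp_b L80240) L115952
theorem L115956 : sm gc N13617 = N13617 := ded_30_1 (flp_g L115952) L80242 L115952
theorem L115957 : sm gh N13617 = N13617 := ded_50_2 (flp_g L115952) L80245 L115952
theorem L115958 : sm gi N13617 = N9402 := ded_51_2 (flp_g L80336) (flp_i L80246) L115952
theorem L115960 : sm gf N13617 = N13617 := ded_45_1 (flp_g L115952) (flp_f L80238) L55648 L80238 L115952
theorem L115961 : sm ge N9393 = N13618 := rfl
theorem L115963 : sm ga N13618 = N13618 := ded_13_1 (flp_e L115961) L80250 L115961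
theorem L115964 : sm gc N13618 = N9489 := ded_28_1 (flp_e L81107) (flp_c L80251) L115961
theorem L115966 : sm gj N13618 = N9414 := ded_42_2 (flp_e L80444) (flp_j L80255) L115961
theorem L115968 : sm gi N13618 = N9403 := ded_44_2 (flp_e L80342) (flp_i L80257) L115961
theorem L115970 : sm gf N13618 = N9864 := ded_40_2 (flp_e L84339) (flp_f L58393) (flp_e L55664) L80248 L115961
theorem L115972 : sm gg N9393 = N13619 := rfl
theorem L115974 : sm ga N13619 = N13619 := ded_15_1 (flp_g L115972) L80250 L115972
theorem L115975 : sm gc N13619 = N9490 := ded_30_1 (flp_g L81117) (flp_c L80251) L115972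
theorem L115977 : sm gd N13619 = N9395 := ded_36_1 (flp_g L80270) (flp_d L80253) L115972
theorem L115979 : sm gi N13619 = N9404 := ded_51_2 (flp_g L80351) (flp_i L80257) L115972
theorem L115981 : sm gf N13619 = N13619 := ded_45_1 (flp_g L115972) (flp_f L80248) L55657 L80248 L115972
theorem L115982 : sm gh N9393 = N13620 := rfl
theorem L115984 : sm ga N13620 = N13620 := ded_17_1 (flp_h L115982) L80250 L115982
theorem L115985 : sm gc N13620 = N9491 := ded_32_1 (flp_h L81125) (flp_c L80251) L115982
theorem L115987 : sm gf N13620 = N9394 := ded_47_1 (flp_h L80259) L80248 L115982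
theorem L115989 : sm gj N13620 = N9416 := ded_52_1 (flp_h L80464) (flp_j L80255) L115982
theorem L115991 : sm gd N13620 = N13620 := ded_38_1 (flp_h L115982) L80253 L55673 (flp_d L80253) L115982
theorem L115992 : sm gi N9394 = N13621 := rfl
theorem L115994 : sm ga N13621 = N13621 := ded_18_1 (flp_i L115992) L80261 L115992
theorem L115995 : sm gc N13621 = N9492 := ded_33_1 (flp_i L81132) (flp_c L80262) L115992
theorem L115997 : sm gd N13621 = N13621 := ded_39_1 (flp_i L115992) L80269 L115992
theorem L115998 : sm ge N13621 = N9867 := ded_44_1 (flp_i L84367) (flp_e L80264) L115992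
theorem L116000 : sm gg N13621 = N13621 := ded_51_1 (flp_i L115992) L80266 L115992
theorem L116001 : sm gj N13621 = N9417 := ded_53_1 (flp_i L80472) (flp_j L80267) L115992
theorem L116003 : sm gh N13621 = N9406 := ded_54_1 (flp_i L80368) (flp_h L55720) (flp_i L55660) L80259 L115992
theorem L116005 : sm gj N9395 = N13622 := rfl
theorem L116007 : sm ga N13622 = N13622 := ded_16_1 (flp_j L116005) L80272 L116005
theorem L116008 : sm gc N13622 = N9396 := ded_31_1 (flp_j L80279) (flp_c L80273) L116005
theorem L116010 : sm gf N13622 = N13622 := ded_46_1 (flp_j L116005) L80278 L116005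
theorem L116011 : sm gh N13622 = N13622 := ded_52_2 (flp_j L116005) L80275 L116005
theorem L116012 : sm gi N13622 = N9407 := ded_53_2 (flp_j L80378) (flp_i L80276) L116005
theorem L116014 : sm gg N13622 = N9418 := ded_49_1 (flp_j L80484) (flp_g L55793) (flp_j L55671) L80270 L116005
theorem L116016 : sm gc N9397 = N13623 := rfl
theorem L116018 : sm ga N13623 = N9399 := ded_11_1 (flp_c L80309) (flp_a L80293) L116016
theorem L116020 : sm ge N13623 = N9869 := ded_28_2 (flp_c L84387) (flp_e L80299) L116016
theorem L116022 : sm gg N13623 = N13623 := ded_30_2 (flp_c L116016) L80296 L116016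
theorem L116023 : sm gj N13623 = N9419 := ded_31_2 (flp_c L80494) (flp_j L80297) L116016
theorem L116025 : sm gd N13623 = N13623 := ded_27_2 (flp_c L116016) (flp_d L80291) L55691 L80291 L116016
theorem L116026 : sm gf N9397 = N13624 := rfl
theorem L116028 : sm ga N13624 = N9400 := ded_14_1 (flp_f L80319) (flp_a L80293) L116026
theorem L116030 : sm gb N13624 = N13624 := ded_22_1 (flp_f L116026) L80295 L116026
theorem L116031 : sm gd N13624 = N9398 := ded_35_1 (flp_f L80301) L80291 L116026
theorem L116033 : sm gj N13624 = N9420 := ded_46_2 (flp_f L80503) (flp_j L80297) L116026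
theorem L116035 : sm gh N9397 = N13625 := rfl
theorem L116037 : sm ga N13625 = N9401 := ded_17_1 (flp_h L80327) (flp_a L80293) L116035
theorem L116039 : sm gb N13625 = N13625 := ded_25_1 (flp_h L116035) L80295 L116035
theorem L116040 : sm ge N13625 = N9871 := ded_43_1 (flp_h L84405) (flp_e L80299) L116035
theorem L116042 : sm gg N13625 = N13625 := ded_50_1 (flp_h L116035) L80296 L116035
theorem L116043 : sm gj N13625 = N9421 := ded_52_1 (flp_h L80510) (flp_j L80297) L116035
theorem L116045 : sm gg N9398 = N13626 := rfl
theorem L116047 : sm ga N13626 = N9402 := ded_15_1 (flp_g L80336) (flp_a L80303) L116045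
theorem L116049 : sm gb N13626 = N13626 := ded_23_1 (flp_g L116045) L80305 L116045
theorem L116050 : sm gc N13626 = N13626 := ded_30_1 (flp_g L116045) L80306 L116045
theorem L116051 : sm gf N13626 = N13626 := ded_45_1 (flp_g L116045) (flp_f L80301) L55692 L80301 L116045
theorem L116052 : sm gf N9399 = N13627 := rfl
theorem L116054 : sm gb N13627 = N9498 := ded_22_1 (flp_f L81192) (flp_b L80316) L116052
theorem L116056 : sm gc N13627 = N9400 := ded_29_1 (flp_f L80319) L80309 L116052
theorem L116058 : sm gd N13627 = N13627 := ded_35_1 (flp_f L116052) L80318 L116052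
theorem L116059 : sm gj N13627 = N9423 := ded_46_2 (flp_f L80527) (flp_j L80314) L116052
theorem L116061 : sm gh N9399 = N13628 := rfl
theorem L116063 : sm gb N13628 = N9499 := ded_25_1 (flp_h L81199) (flp_b L80316) L116061
theorem L116065 : sm gc N13628 = N9401 := ded_32_1 (flp_h L80327) L80309 L116061
theorem L116067 : sm ge N13628 = N9874 := ded_43_1 (flp_h L84433) (flp_e L80311) L116061
theorem L116069 : sm gg N13628 = N13628 := ded_50_1 (flp_h L116061) L80313 L116061
theorem L116070 : sm gj N13628 = N9424 := ded_52_1 (flp_h L80534) (flp_j L80314) L116061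
theorem L116072 : sm ge N9400 = N13629 := rfl
theorem L116074 : sm gb N13629 = N9403 := ded_21_1 (flp_e L80342) (flp_b L80321) L116072
theorem L116076 : sm gj N13629 = N9425 := ded_42_2 (flp_e L80544) (flp_j L80325) L116072
theorem L116078 : sm gf N13629 = N9875 := ded_40_2 (flp_e L84442) (flp_f L58459) (flp_e L55702) L80319 L116072
theorem L116080 : sm gg N9400 = N13630 := rfl
theorem L116082 : sm gb N13630 = N9404 := ded_23_1 (flp_g L80351) (flp_b L80321) L116080
theorem L116084 : sm gd N13630 = N9402 := ded_36_1 (flp_g L80336) (flp_d L80323) L116080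
theorem L116086 : sm gf N13630 = N13630 := ded_45_1 (flp_g L116080) (flp_f L80319) L55699 L80319 L116080
theorem L116087 : sm gh N9400 = N13631 := rfl
theorem L116089 : sm gb N13631 = N9405 := ded_25_1 (flp_h L80359) (flp_b L80321) L116087
theorem L116091 : sm gf N13631 = N9401 := ded_47_1 (flp_h L80327) L80319 L116087
theorem L116093 : sm gj N13631 = N9427 := ded_52_1 (flp_h L80558) (flp_j L80325) L116087
theorem L116095 : sm gi N9401 = N13632 := rfl
theorem L116097 : sm gb N13632 = N9406 := ded_26_1 (flp_i L80368) (flp_b L80329) L116095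
theorem L116099 : sm ge N13632 = N9878 := ded_44_1 (flp_i L84464) (flp_e L80331) L116095
theorem L116101 : sm gg N13632 = N13632 := ded_51_1 (flp_i L116095) L80333 L116095
theorem L116102 : sm gj N13632 = N9428 := ded_53_1 (flp_i L80564) (flp_j L80334) L116095
theorem L116104 : sm gj N9402 = N13633 := rfl
theorem L116106 : sm gb N13633 = N9407 := ded_24_1 (flp_j L80378) (flp_b L80338) L116104
theorem L116108 : sm gc N13633 = N13633 := ded_31_1 (flp_j L116104) L80340 L116104
theorem L116109 : sm gf N13633 = N13633 := ded_46_1 (flp_j L116104) L80341 L116104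
theorem L116110 : sm gg N13633 = N9429 := ded_49_1 (flp_j L80572) (flp_g L55852) (flp_j L55709) L80336 L116104
theorem L116112 : sm gg N9403 = N13634 := rfl
theorem L116114 : sm ga N13634 = N13634 := ded_15_1 (flp_g L116112) L80344 L116112
theorem L116115 : sm gc N13634 = N9505 := ded_30_1 (flp_g L81253) (flp_c L80345) L116112
theorem L116117 : sm ge N13634 = N9404 := ded_41_1 (flp_g L80351) L80342 L116112
theorem L116119 : sm gh N9403 = N13635 := rfl
theorem L116121 : sm ga N13635 = N13635 := ded_17_1 (flp_h L116119) L80344 L116119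
theorem L116122 : sm gc N13635 = N9506 := ded_32_1 (flp_h L81259) (flp_c L80345) L116119
theorem L116124 : sm ge N13635 = N9405 := ded_43_1 (flp_h L80359) L80342 L116119
theorem L116126 : sm gf N13635 = N9881 := ded_47_1 (flp_h L84489) (flp_f L80349) L116119
theorem L116128 : sm gj N13635 = N9431 := ded_52_1 (flp_h L80586) (flp_j L80347) L116119
theorem L116130 : sm gj N9404 = N13636 := rfl
theorem L116132 : sm ga N13636 = N13636 := ded_16_1 (flp_j L116130) L80353 L116130
theorem L116133 : sm gc N13636 = N9507 := ded_31_1 (flp_j L81268) (flp_c L80354) L116130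
theorem L116135 : sm gd N13636 = N9407 := ded_37_1 (flp_j L80378) (flp_d L80356) L116130
theorem L116137 : sm gf N13636 = N13636 := ded_46_1 (flp_j L116130) L80358 L116130
theorem L116138 : sm gg N13636 = N9432 := ded_49_1 (flp_j L80595) (flp_g L55866) (flp_j L55718) L80351 L116130
theorem L116140 : sm gh N9404 = N13637 := rfl
theorem L116142 : sm ga N13637 = N13637 := ded_17_1 (flp_h L116140) L80353 L116140
theorem L116143 : sm gc N13637 = N9508 := ded_32_1 (flp_h L81276) (flp_c L80354) L116140
theorem L116145 : sm gf N13637 = N13637 := ded_47_1 (flp_h L116140) L80358 L116140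
theorem L116146 : sm gg N13637 = N9405 := ded_50_1 (flp_h L80359) L80351 L116140
theorem L116148 : sm gi N9405 = N13638 := rfl
theorem L116150 : sm ga N13638 = N13638 := ded_18_1 (flp_i L116148) L80361 L116148
theorem L116151 : sm gc N13638 = N9509 := ded_33_1 (flp_i L81283) (flp_c L80362) L116148
theorem L116153 : sm gf N13638 = N9406 := ded_48_1 (flp_i L80368) (flp_f L80364) L116148
theorem L116155 : sm gj N13638 = N9434 := ded_53_1 (flp_i L80613) (flp_j L80366) L116148
theorem L116157 : sm gc N9408 = N13639 := rfl
theorem L116159 : sm ga N13639 = N9410 := ded_11_1 (flp_c L80406) (flp_a L80388) L116157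
theorem L116161 : sm ge N13639 = N9896 := ded_28_2 (flp_c L84625) (flp_e L80395) L116157
theorem L116163 : sm gg N13639 = N9435 := ded_30_2 (flp_c L80620) (flp_g L80391) L116157
theorem L116165 : sm gi N13639 = N9419 := ded_33_2 (flp_c L80494) (flp_i L80393) L116157
theorem L116168 : sm gf N9408 = N13640 := rfl
theorem L116170 : sm ga N13640 = N9411 := ded_14_1 (flp_f L80417) (flp_a L80388) L116168
theorem L116175 : sm gi N13640 = N9420 := ded_48_2 (flp_f L80503) (flp_i L80393) L116168
theorem L116177 : sm gh N9408 = N13641 := rfl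
theorem L116187 : sm gg N9409 = N13642 := rfl
theorem L116189 : sm ga N13642 = N9413 := ded_15_1 (flp_g L80434) (flp_a L80399) L116187
theorem L116194 : sm gi N13642 = N9422 := ded_51_2 (flp_g L80519) (flp_i L80404) L116187
theorem L116196 : sm gf N13642 = N9438 := ded_45_1 (flp_g L80649) (flp_f L55908) (flp_g L55751) L80397 L116187
theorem L116198 : sm gf N9410 = N13643 := rfl
theorem L116200 : sm gb N13643 = N9525 := ded_22_1 (flp_f L81430) (flp_b L80414) L116198
theorem L116202 : sm gc N13643 = N9411 := ded_29_1 (flp_f L80417) L80406 L116198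
theorem L116204 : sm gd N13643 = N13643 := ded_35_1 (flp_f L116198) L80416 L116198
theorem L116205 : sm gi N13643 = N9423 := ded_48_2 (flp_f L80527) (flp_i L80412) L116198
theorem L116207 : sm gh N9410 = N13644 := rfl
theorem L116209 : sm gb N13644 = N9526 := ded_25_1 (flp_h L81437) (flp_b L80414) L116207
theorem L116211 : sm gc N13644 = N9412 := ded_32_1 (flp_h L80425) L80406 L116207
theorem L116213 : sm ge N13644 = N9901 := ded_43_1 (flp_h L84672) (flp_e L80408) L116207
theorem L116215 : sm gg N13644 = N9440 := ded_50_1 (flp_h L80669) (flp_g L80410) L116207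
theorem L116217 : sm ge N9411 = N13645 := rfl
theorem L116219 : sm gb N13645 = N9414 := ded_21_1 (flp_e L80444) (flp_b L80419) L116217
theorem L116221 : sm gi N13645 = N9425 := ded_44_2 (flp_e L80544) (flp_i L80423) L116217
theorem L116223 : sm gf N13645 = N9902 := ded_40_2 (flp_e L84680) (flp_f L58620) (flp_e L55764) L80417 L116217
theorem L116225 : sm gg N9411 = N13646 := rfl
theorem L116227 : sm gb N13646 = N9415 := ded_23_1 (flp_g L80453) (flp_b L80419) L116225
theorem L116229 : sm gd N13646 = N9413 := ded_36_1 (flp_g L80434) (flp_d L80421) L116225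
theorem L116231 : sm gi N13646 = N9426 := ded_51_2 (flp_g L80550) (flp_i L80423) L116225
theorem L116233 : sm gf N13646 = N9442 := ded_45_1 (flp_g L80688) (flp_f L55929) (flp_g L55760) L80417 L116225
theorem L116235 : sm gh N9411 = N13647 := rfl
theorem L116237 : sm gb N13647 = N9416 := ded_25_1 (flp_h L80464) (flp_b L80419) L116235
theorem L116239 : sm gf N13647 = N9412 := ded_47_1 (flp_h L80425) L80417 L116235
theorem L116241 : sm gd N13647 = N13647 := ded_38_1 (flp_h L116235) L80421 L55771 (flp_d L80421) L116235
theorem L116242 : sm gi N9412 = N13648 := rfl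
theorem L116244 : sm gb N13648 = N9417 := ded_26_1 (flp_i L80472) (flp_b L80427) L116242
theorem L116246 : sm gd N13648 = N13648 := ded_39_1 (flp_i L116242) L80433 L116242
theorem L116247 : sm ge N13648 = N9905 := ded_44_1 (flp_i L84702) (flp_e L80429) L116242
theorem L116249 : sm gg N13648 = N9444 := ded_51_1 (flp_i L80704) (flp_g L80431) L116242
theorem L116251 : sm gh N13648 = N9428 := ded_54_1 (flp_i L80564) (flp_h L55844) (flp_i L55762) L80425 L116242
theorem L116253 : sm gj N9413 = N13649 := rfl
theorem L116255 : sm gb N13649 = N9418 := ded_24_1 (flp_j L80484) (flp_b L80436) L116253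
theorem L116257 : sm gc N13649 = N13649 := ded_31_1 (flp_j L116253) L80438 L116253
theorem L116258 : sm gf N13649 = N9445 := ded_46_1 (flp_j L80714) (flp_f L80442) L116253
theorem L116260 : sm gh N13649 = N13649 := ded_52_2 (flp_j L116253) L80439 L116253
theorem L116261 : sm gi N13649 = N9429 := ded_53_2 (flp_j L80572) (flp_i L80440) L116253
theorem L116263 : sm gg N9414 = N13650 := rfl
theorem L116265 : sm ga N13650 = N13650 := ded_15_1 (flp_g L116263) L80446 L116263
theorem L116266 : sm gc N13650 = N9532 := ded_30_1 (flp_g L81490) (flp_c L80447) L116263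
theorem L116268 : sm ge N13650 = N9415 := ded_41_1 (flp_g L80453) L80444 L116263
theorem L116270 : sm gi N13650 = N9430 := ded_51_2 (flp_g L80579) (flp_i L80449) L116263
theorem L116272 : sm gh N9414 = N13651 := rfl
theorem L116274 : sm ga N13651 = N13651 := ded_17_1 (flp_h L116272) L80446 L116272
theorem L116275 : sm gc N13651 = N9533 := ded_32_1 (flp_h L81498) (flp_c L80447) L116272
theorem L116277 : sm ge N13651 = N9416 := ded_43_1 (flp_h L80464) L80444 L116272
theorem L116279 : sm gf N13651 = N9908 := ded_47_1 (flp_h L84729) (flp_f L80451) L116272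
theorem L116281 : sm gj N9415 = N13652 := rfl
theorem L116283 : sm ga N13652 = N13652 := ded_16_1 (flp_j L116281) L80455 L116281
theorem L116284 : sm gc N13652 = N9534 := ded_31_1 (flp_j L81505) (flp_c L80456) L116281
theorem L116286 : sm gd N13652 = N9418 := ded_37_1 (flp_j L80484) (flp_d L80458) L116281
theorem L116288 : sm gf N13652 = N9448 := ded_46_1 (flp_j L80744) (flp_f L80462) L116281
theorem L116290 : sm gi N13652 = N9432 := ded_53_2 (flp_j L80595) (flp_i L80460) L116281
theorem L116292 : sm gh N9415 = N13653 := rfl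
theorem L116294 : sm ga N13653 = N13653 := ded_17_1 (flp_h L116292) L80455 L116292
theorem L116295 : sm gc N13653 = N9535 := ded_32_1 (flp_h L81514) (flp_c L80456) L116292
theorem L116297 : sm gf N13653 = N9449 := ded_47_1 (flp_h L80754) (flp_f L80462) L116292
theorem L116299 : sm gg N13653 = N9416 := ded_50_1 (flp_h L80464) L80453 L116292
theorem L116301 : sm gd N13653 = N13653 := ded_38_1 (flp_h L116292) L80458 L55798 (flp_d L80458) L116292
theorem L116302 : sm gi N9416 = N13654 := rfl
theorem L116304 : sm ga N13654 = N13654 := ded_18_1 (flp_i L116302) L80466 L116302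
theorem L116305 : sm gc N13654 = N9536 := ded_33_1 (flp_i L81521) (flp_c L80467) L116302
theorem L116307 : sm gd N13654 = N13654 := ded_39_1 (flp_i L116302) L80471 L116302
theorem L116308 : sm gf N13654 = N9417 := ded_48_1 (flp_i L80472) (flp_f L80469) L116302
theorem L116310 : sm gh N13654 = N9434 := ded_54_1 (flp_i L80613) (flp_h L55875) (flp_i L55781) L80464 L116302
theorem L116312 : sm gb N9419 = N13655 := rfl
theorem L116314 : sm gd N13655 = N13655 := ded_20_2 (flp_b L116312) L80502 L116312
theorem L116315 : sm ge N13655 = N9912 := ded_21_2 (flp_b L84765) (flp_e L80498) L116312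
theorem L116317 : sm gg N13655 = N9451 := ded_23_2 (flp_b L80773) (flp_g L80500) L116312
theorem L116319 : sm ga N13655 = N9537 := ded_10_1 (flp_b L81528) L56509 (flp_b L55835) (flp_a L80496) L116312
theorem L116321 : sm gc N13655 = N13655 := ded_19_2 (flp_b L116312) (flp_c L80494) L55818 L80494 L116312
theorem L116322 : sm gf N9419 = N13656 := rfl
theorem L116324 : sm ga N13656 = N9423 := ded_14_1 (flp_f L80527) (flp_a L80496) L116322
theorem L116326 : sm gc N13656 = N9420 := ded_29_1 (flp_f L80503) L80494 L116322
theorem L116328 : sm gd N13656 = N13656 := ded_35_1 (flp_f L116322) L80502 L116322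
theorem L116329 : sm gh N9419 = N13657 := rfl
theorem L116331 : sm ga N13657 = N9424 := ded_17_1 (flp_h L80534) (flp_a L80496) L116329
theorem L116333 : sm gc N13657 = N9421 := ded_32_1 (flp_h L80510) L80494 L116329
theorem L116335 : sm ge N13657 = N9914 := ded_43_1 (flp_h L84782) (flp_e L80498) L116329
theorem L116337 : sm gg N13657 = N9453 := ded_50_1 (flp_h L80790) (flp_g L80500) L116329
theorem L116339 : sm ge N9420 = N13658 := rfl
theorem L116341 : sm ga N13658 = N9425 := ded_13_1 (flp_e L80544) (flp_a L80505) L116339
theorem L116343 : sm gb N13658 = N13658 := ded_21_1 (flp_e L116339) L80507 L116339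
theorem L116344 : sm gf N13658 = N9915 := ded_40_2 (flp_e L84790) (flp_f L58695) (flp_e L55821) L80503 L116339
theorem L116346 : sm gg N9420 = N13659 := rfl
theorem L116348 : sm ga N13659 = N9426 := ded_15_1 (flp_g L80550) (flp_a L80505) L116346
theorem L116350 : sm gb N13659 = N13659 := ded_23_1 (flp_g L116346) L80507 L116346
theorem L116351 : sm gd N13659 = N9422 := ded_36_1 (flp_g L80519) (flp_d L80508) L116346
theorem L116353 : sm gf N13659 = N9455 := ded_45_1 (flp_g L80808) (flp_f L56013) (flp_g L55819) L80503 L116346
theorem L116355 : sm gh N9420 = N13660 := rfl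
theorem L116357 : sm ga N13660 = N9427 := ded_17_1 (flp_h L80558) (flp_a L80505) L116355
theorem L116359 : sm gb N13660 = N13660 := ded_25_1 (flp_h L116355) L80507 L116355
theorem L116360 : sm gf N13660 = N9421 := ded_47_1 (flp_h L80510) L80503 L116355
theorem L116362 : sm gi N9421 = N13661 := rfl
theorem L116364 : sm ga N13661 = N9428 := ded_18_1 (flp_i L80564) (flp_a L80512) L116362
theorem L116366 : sm gb N13661 = N13661 := ded_26_1 (flp_i L116362) L80514 L116362
theorem L116367 : sm ge N13661 = N9918 := ded_44_1 (flp_i L84812) (flp_e L80515) L116362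
theorem L116369 : sm gg N13661 = N9457 := ded_51_1 (flp_i L80823) (flp_g L80517) L116362
theorem L116371 : sm gj N9422 = N13662 := rfl
theorem L116373 : sm ga N13662 = N9429 := ded_16_1 (flp_j L80572) (flp_a L80521) L116371
theorem L116375 : sm gb N13662 = N13662 := ded_24_1 (flp_j L116371) L80523 L116371
theorem L116376 : sm gc N13662 = N13662 := ded_31_1 (flp_j L116371) L80524 L116371
theorem L116377 : sm gf N13662 = N9458 := ded_46_1 (flp_j L80831) (flp_f L80525) L116371
theorem L116379 : sm ge N9423 = N13663 := rfl
theorem L116381 : sm gb N13663 = N9545 := ded_21_1 (flp_e L81598) (flp_b L80529) L116379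
theorem L116383 : sm gc N13663 = N9425 := ded_28_1 (flp_e L80544) (flp_c L80531) L116379
theorem L116385 : sm gf N13663 = N9920 := ded_40_2 (flp_e L84830) (flp_f L58720) (flp_e L55831) L80527 L116379
theorem L116387 : sm gg N9423 = N13664 := rfl
theorem L116389 : sm gb N13664 = N9546 := ded_23_1 (flp_g L81604) (flp_b L80529) L116387
theorem L116391 : sm gc N13664 = N9426 := ded_30_1 (flp_g L80550) (flp_c L80531) L116387
theorem L116393 : sm gd N13664 = N13664 := ded_36_1 (flp_g L116387) L80533 L116387
theorem L116394 : sm gf N13664 = N9460 := ded_45_1 (flp_g L80848) (flp_f L56036) (flp_g L55833) L80527 L116387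
theorem L116396 : sm gh N9423 = N13665 := rfl
theorem L116398 : sm gb N13665 = N9547 := ded_25_1 (flp_h L81611) (flp_b L80529) L116396
theorem L116400 : sm gc N13665 = N9427 := ded_32_1 (flp_h L80558) (flp_c L80531) L116396
theorem L116402 : sm gf N13665 = N9424 := ded_47_1 (flp_h L80534) L80527 L116396
theorem L116404 : sm gd N9424 = N13666 := rfl
theorem L116406 : sm gb N13666 = N9548 := ded_20_1 (flp_d L81617) (flp_b L80536) L116404
theorem L116408 : sm gg N13666 = N9462 := ded_36_2 (flp_d L80864) (flp_g L80542) L116404
theorem L116410 : sm gh N13666 = N13666 := ded_38_2 (flp_d L116404) (flp_h L80534) L55837 L80534 L116404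
theorem L116411 : sm gi N9424 = N13667 := rfl
theorem L116413 : sm gb N13667 = N9549 := ded_26_1 (flp_i L81623) (flp_b L80536) L116411
theorem L116415 : sm gc N13667 = N9428 := ded_33_1 (flp_i L80564) (flp_c L80538) L116411
theorem L116417 : sm ge N13667 = N9924 := ded_44_1 (flp_i L84863) (flp_e L80540) L116411
theorem L116419 : sm gg N13667 = N9463 := ded_51_1 (flp_i L80870) (flp_g L80542) L116411
theorem L116421 : sm gg N9425 = N13668 := rfl
theorem L116423 : sm gb N13668 = N9430 := ded_23_1 (flp_g L80579) (flp_b L80546) L116421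
theorem L116425 : sm ge N13668 = N9426 := ded_41_1 (flp_g L80550) L80544 L116421
theorem L116427 : sm gh N9425 = N13669 := rfl
theorem L116429 : sm gb N13669 = N9431 := ded_25_1 (flp_h L80586) (flp_b L80546) L116427
theorem L116431 : sm ge N13669 = N9427 := ded_43_1 (flp_h L80558) L80544 L116427
theorem L116433 : sm gf N13669 = N9926 := ded_47_1 (flp_h L84877) (flp_f L80548) L116427
theorem L116435 : sm gj N9426 = N13670 := rfl
theorem L116437 : sm gb N13670 = N9432 := ded_24_1 (flp_j L80595) (flp_b L80552) L116435
theorem L116439 : sm gd N13670 = N9429 := ded_37_1 (flp_j L80572) (flp_d L80554) L116435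
theorem L116441 : sm gf N13670 = N9466 := ded_46_1 (flp_j L80895) (flp_f L80556) L116435
theorem L116443 : sm gh N9426 = N13671 := rfl
theorem L116445 : sm gb N13671 = N9433 := ded_25_1 (flp_h L80604) (flp_b L80552) L116443
theorem L116447 : sm gf N13671 = N9467 := ded_47_1 (flp_h L80902) (flp_f L80556) L116443
theorem L116449 : sm gg N13671 = N9427 := ded_50_1 (flp_h L80558) L80550 L116443
theorem L116451 : sm gi N9427 = N13672 := rfl
theorem L116453 : sm gb N13672 = N9434 := ded_26_1 (flp_i L80613) (flp_b L80560) L116451
theorem L116455 : sm gf N13672 = N9428 := ded_48_1 (flp_i L80564) (flp_f L80562) L116451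
theorem L116457 : sm gf N9430 = N13673 := rfl
theorem L116459 : sm ga N13673 = N13673 := ded_14_1 (flp_f L116457) L80581 L116457
theorem L116460 : sm gc N13673 = N9555 := ded_29_1 (flp_f L81670) (flp_c L80582) L116457
theorem L116462 : sm ge N13673 = N9469 := ded_40_1 (flp_f L80915) L56094 (flp_f L55873) (flp_e L80584) L116457
theorem L116464 : sm gg N13673 = N9930 := ded_45_2 (flp_f L84907) (flp_g L58771) (flp_f L55864) L80579 L116457
theorem L116466 : sm gj N9430 = N13674 := rfl
theorem L116468 : sm ga N13674 = N13674 := ded_16_1 (flp_j L116466) L80581 L116466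
theorem L116469 : sm gc N13674 = N9556 := ded_31_1 (flp_j L81678) (flp_c L80582) L116466
theorem L116471 : sm ge N13674 = N9432 := ded_42_1 (flp_j L80595) (flp_e L80584) L116466
theorem L116473 : sm gh N9430 = N13675 := rfl
theorem L116475 : sm ga N13675 = N13675 := ded_17_1 (flp_h L116473) L80581 L116473
theorem L116476 : sm gc N13675 = N9557 := ded_32_1 (flp_h L81684) (flp_c L80582) L116473
theorem L116478 : sm ge N13675 = N9433 := ded_43_1 (flp_h L80604) (flp_e L80584) L116473
theorem L116480 : sm gg N13675 = N9431 := ded_50_1 (flp_h L80586) L80579 L116473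
theorem L116482 : sm gd N9431 = N13676 := rfl
theorem L116484 : sm ga N13676 = N13676 := ded_12_1 (flp_d L116482) L80588 L116482
theorem L116485 : sm gf N13676 = N9933 := ded_35_2 (flp_d L84930) (flp_f L80593) L116482
theorem L116487 : sm gi N9431 = N13677 := rfl
theorem L116489 : sm ga N13677 = N13677 := ded_18_1 (flp_i L116487) L80588 L116487
theorem L116490 : sm gc N13677 = N9559 := ded_33_1 (flp_i L81698) (flp_c L80589) L116487
theorem L116492 : sm ge N13677 = N9434 := ded_44_1 (flp_i L80613) (flp_e L80591) L116487
theorem L116494 : sm gf N13677 = N9934 := ded_48_1 (flp_i L84934) (flp_f L80593) L116487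
theorem L116496 : sm gh N9432 = N13678 := rfl
theorem L116498 : sm ga N13678 = N13678 := ded_17_1 (flp_h L116496) L80597 L116496
theorem L116499 : sm gc N13678 = N9560 := ded_32_1 (flp_h L81705) (flp_c L80598) L116496
theorem L116501 : sm gf N13678 = N9474 := ded_47_1 (flp_h L80958) (flp_f L80602) L116496
theorem L116503 : sm gj N13678 = N9433 := ded_52_1 (flp_h L80604) L80595 L116496
theorem L116505 : sm gi N9433 = N13679 := rfl
theorem L116507 : sm ga N13679 = N13679 := ded_18_1 (flp_i L116505) L80606 L116505
theorem L116508 : sm gc N13679 = N9561 := ded_33_1 (flp_i L81713) (flp_c L80607) L116505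
theorem L116510 : sm gf N13679 = N9475 := ded_48_1 (flp_i L80966) (flp_f L80609) L116505
theorem L116512 : sm gg N13679 = N9434 := ded_51_1 (flp_i L80613) (flp_g L80611) L116505
theorem L116514 : sm gb N9435 = N13680 := rfl
theorem L116517 : sm ge N13680 = N9953 := ded_21_2 (flp_b L85101) (flp_e L80624) L116514
theorem L116520 : sm gi N13680 = N9451 := ded_26_2 (flp_b L80773) (flp_i L80627) L116514
theorem L116522 : sm ga N13680 = N9578 := ded_10_1 (flp_b L81861) L56730 (flp_b L55926) (flp_a L80622) L116514
theorem L116525 : sm gf N9435 = N13681 := rfl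
theorem L116527 : sm ga N13681 = N9439 := ded_14_1 (flp_f L80659) (flp_a L80622) L116525
theorem L116529 : sm gc N13681 = N9436 := ded_29_1 (flp_f L80630) L80620 L116525
theorem L116533 : sm gi N13681 = N9452 := ded_48_2 (flp_f L80782) (flp_i L80627) L116525
theorem L116535 : sm gh N9435 = N13682 := rfl
theorem L116537 : sm ga N13682 = N9440 := ded_17_1 (flp_h L80669) (flp_a L80622) L116535
theorem L116544 : sm ge N9436 = N13683 := rfl
theorem L116546 : sm ga N13683 = N9441 := ded_13_1 (flp_e L80678) (flp_a L80632) L116544
theorem L116550 : sm gi N13683 = N9454 := ded_44_2 (flp_e L80799) (flp_i L80638) L116544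
theorem L116553 : sm gf N13683 = N9956 := ded_40_2 (flp_e L85129) (flp_f L58918) (flp_e L55906) L80630 L116544
theorem L116555 : sm gg N9436 = N13684 := rfl
theorem L116557 : sm ga N13684 = N9442 := ded_15_1 (flp_g L80688) (flp_a L80632) L116555
theorem L116560 : sm gd N13684 = N9438 := ded_36_1 (flp_g L80649) (flp_d L80635) L116555
theorem L116562 : sm gi N13684 = N9455 := ded_51_2 (flp_g L80808) (flp_i L80638) L116555
theorem L116564 : sm gh N9436 = N13685 := rfl
theorem L116566 : sm ga N13685 = N9443 := ded_17_1 (flp_h L80696) (flp_a L80632) L116564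
theorem L116569 : sm gf N13685 = N9437 := ded_47_1 (flp_h L80640) L80630 L116564
theorem L116573 : sm gi N9437 = N13686 := rfl
theorem L116582 : sm gh N13686 = N9457 := ded_54_1 (flp_i L80823) (flp_h L56021) (flp_i L55904) L80640 L116573
theorem L116584 : sm gj N9438 = N13687 := rfl
theorem L116592 : sm gi N13687 = N9458 := ded_53_2 (flp_j L80831) (flp_i L80657) L116584
theorem L116595 : sm ge N9439 = N13688 := rfl
theorem L116597 : sm gb N13688 = N9586 := ded_21_1 (flp_e L81939) (flp_b L80661) L116595
theorem L116599 : sm gc N13688 = N9441 := ded_28_1 (flp_e L80678) (flp_c L80663) L116595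
theorem L116601 : sm gj N13688 = N13688 := ded_42_2 (flp_e L116595) L80666 L116595
theorem L116602 : sm gi N13688 = N9459 := ded_44_2 (flp_e L80839) (flp_i L80667) L116595
theorem L116604 : sm gf N13688 = N9961 := ded_40_2 (flp_e L85174) (flp_f L58944) (flp_e L55921) L80659 L116595
theorem L116606 : sm gg N9439 = N13689 := rfl
theorem L116608 : sm gb N13689 = N9587 := ded_23_1 (flp_g L81948) (flp_b L80661) L116606
theorem L116610 : sm gc N13689 = N9442 := ded_30_1 (flp_g L80688) (flp_c L80663) L116606
theorem L116612 : sm gd N13689 = N13689 := ded_36_1 (flp_g L116606) L80665 L116606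
theorem L116613 : sm gi N13689 = N9460 := ded_51_2 (flp_g L80848) (flp_i L80667) L116606
theorem L116615 : sm gh N9439 = N13690 := rfl
theorem L116617 : sm gb N13690 = N9588 := ded_25_1 (flp_h L81955) (flp_b L80661) L116615
theorem L116619 : sm gc N13690 = N9443 := ded_32_1 (flp_h L80696) (flp_c L80663) L116615
theorem L116621 : sm gf N13690 = N9440 := ded_47_1 (flp_h L80669) L80659 L116615
theorem L116623 : sm gj N13690 = N13690 := ded_52_1 (flp_h L116615) L80666 L116615
theorem L116624 : sm gd N9440 = N13691 := rfl
theorem L116626 : sm gb N13691 = N9589 := ded_20_1 (flp_d L81962) (flp_b L80671) L116624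
theorem L116628 : sm gj N13691 = N13691 := ded_37_2 (flp_d L116624) L80677 L116624
theorem L116629 : sm gc N13691 = N13691 := ded_27_1 (flp_d L116624) L80673 L55945 (flp_c L80673) L116624
theorem L116630 : sm gh N13691 = N13691 := ded_38_2 (flp_d L116624) (flp_h L80669) L55928 L80669 L116624
theorem L116631 : sm gi N9440 = N13692 := rfl
theorem L116633 : sm gb N13692 = N9590 := ded_26_1 (flp_i L81966) (flp_b L80671) L116631
theorem L116635 : sm gc N13692 = N9444 := ded_33_1 (flp_i L80704) (flp_c L80673) L116631
theorem L116637 : sm ge N13692 = N9965 := ded_44_1 (flp_i L85209) (flp_e L80675) L116631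
theorem L116639 : sm gj N13692 = N13692 := ded_53_1 (flp_i L116631) L80677 L116631
theorem L116640 : sm gh N13692 = N9463 := ded_54_1 (flp_i L80870) (flp_h L56044) (flp_i L55924) L80669 L116631
theorem L116642 : sm gg N9441 = N13693 := rfl
theorem L116644 : sm gb N13693 = N9446 := ded_23_1 (flp_g L80724) (flp_b L80680) L116642
theorem L116646 : sm gd N13693 = N13693 := ded_36_1 (flp_g L116642) L80685 L116642
theorem L116647 : sm ge N13693 = N9442 := ded_41_1 (flp_g L80688) L80678 L116642
theorem L116649 : sm gi N13693 = N9464 := ded_51_2 (flp_g L80879) (flp_i L80683) L116642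
theorem L116651 : sm gh N9441 = N13694 := rfl
theorem L116653 : sm gb N13694 = N9447 := ded_25_1 (flp_h L80734) (flp_b L80680) L116651
theorem L116655 : sm ge N13694 = N9443 := ded_43_1 (flp_h L80696) L80678 L116651
theorem L116657 : sm gf N13694 = N9967 := ded_47_1 (flp_h L85227) (flp_f L80686) L116651
theorem L116659 : sm gj N13694 = N13694 := ded_52_1 (flp_h L116651) L80682 L116651
theorem L116660 : sm gj N9442 = N13695 := rfl
theorem L116662 : sm gb N13695 = N9448 := ded_24_1 (flp_j L80744) (flp_b L80690) L116660
theorem L116664 : sm gd N13695 = N9445 := ded_37_1 (flp_j L80714) (flp_d L80692) L116660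
theorem L116666 : sm gi N13695 = N9466 := ded_53_2 (flp_j L80895) (flp_i L80694) L116660
theorem L116668 : sm gg N13695 = N13695 := ded_49_1 (flp_j L116660) (flp_g L80688) L55935 L80688 L116660
theorem L116669 : sm gh N9442 = N13696 := rfl
theorem L116671 : sm gb N13696 = N9449 := ded_25_1 (flp_h L80754) (flp_b L80690) L116669
theorem L116673 : sm gg N13696 = N9443 := ded_50_1 (flp_h L80696) L80688 L116669
theorem L116675 : sm gd N13696 = N13696 := ded_38_1 (flp_h L116669) L80692 L55952 (flp_d L80692) L116669
theorem L116676 : sm gi N9443 = N13697 := rfl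
theorem L116678 : sm gb N13697 = N9450 := ded_26_1 (flp_i L80762) (flp_b L80698) L116676
theorem L116680 : sm gd N13697 = N13697 := ded_39_1 (flp_i L116676) L80703 L116676
theorem L116681 : sm gf N13697 = N9444 := ded_48_1 (flp_i L80704) (flp_f L80700) L116676
theorem L116683 : sm gj N13697 = N13697 := ded_53_1 (flp_i L116676) L80702 L116676
theorem L116684 : sm gh N13697 = N9468 := ded_54_1 (flp_i L80908) (flp_h L56067) (flp_i L55936) L80696 L116676
theorem L116686 : sm gf N9446 = N13698 := rfl
theorem L116688 : sm ga N13698 = N13698 := ded_14_1 (flp_f L116686) L80726 L116686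
theorem L116689 : sm gc N13698 = N9596 := ded_29_1 (flp_f L82018) (flp_c L80727) L116686
theorem L116691 : sm gd N13698 = N13698 := ded_35_1 (flp_f L116686) L80729 L116686
theorem L116692 : sm gi N13698 = N9469 := ded_48_2 (flp_f L80915) (flp_i L80732) L116686
theorem L116694 : sm gg N13698 = N9971 := ded_45_2 (flp_f L85258) (flp_g L59002) (flp_f L55964) L80724 L116686
theorem L116696 : sm gj N9446 = N13699 := rfl
theorem L116698 : sm ga N13699 = N13699 := ded_16_1 (flp_j L116696) L80726 L116696
theorem L116699 : sm gc N13699 = N9597 := ded_31_1 (flp_j L82027) (flp_c L80727) L116696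
theorem L116701 : sm gd N13699 = N13699 := ded_37_1 (flp_j L116696) L80729 L116696
theorem L116702 : sm ge N13699 = N9448 := ded_42_1 (flp_j L80744) (flp_e L80730) L116696
theorem L116704 : sm gi N13699 = N9470 := ded_53_2 (flp_j L80923) (flp_i L80732) L116696
theorem L116706 : sm gg N13699 = N13699 := ded_49_1 (flp_j L116696) (flp_g L80724) L55960 L80724 L116696
theorem L116707 : sm gh N9446 = N13700 := rfl
theorem L116709 : sm ga N13700 = N13700 := ded_17_1 (flp_h L116707) L80726 L116707
theorem L116710 : sm gc N13700 = N9598 := ded_32_1 (flp_h L82037) (flp_c L80727) L116707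
theorem L116712 : sm ge N13700 = N9449 := ded_43_1 (flp_h L80754) (flp_e L80730) L116707
theorem L116714 : sm gg N13700 = N9447 := ded_50_1 (flp_h L80734) L80724 L116707
theorem L116716 : sm gd N9447 = N13701 := rfl
theorem L116718 : sm ga N13701 = N13701 := ded_12_1 (flp_d L116716) L80736 L116716
theorem L116719 : sm gf N13701 = N9974 := ded_35_2 (flp_d L85286) (flp_f L80741) L116716
theorem L116721 : sm gj N13701 = N13701 := ded_37_2 (flp_d L116716) L80743 L116716
theorem L116722 : sm ge N13701 = N13701 := ded_34_2 (flp_d L116716) L80739 L55983 (flp_e L80739) L116716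
theorem L116723 : sm gh N13701 = N13701 := ded_38_2 (flp_d L116716) (flp_h L80734) L55963 L80734 L116716
theorem L116724 : sm gi N9447 = N13702 := rfl
theorem L116726 : sm ga N13702 = N13702 := ded_18_1 (flp_i L116724) L80736 L116724
theorem L116727 : sm gc N13702 = N9600 := ded_33_1 (flp_i L82052) (flp_c L80737) L116724
theorem L116729 : sm ge N13702 = N9450 := ded_44_1 (flp_i L80762) (flp_e L80739) L116724
theorem L116731 : sm gf N13702 = N9975 := ded_48_1 (flp_i L85291) (flp_f L80741) L116724
theorem L116733 : sm gj N13702 = N13702 := ded_53_1 (flp_i L116724) L80743 L116724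
theorem L116734 : sm gh N13702 = N9473 := ded_54_1 (flp_i L80948) (flp_h L56096) (flp_i L55961) L80734 L116724
theorem L116736 : sm gh N9448 = N13703 := rfl
theorem L116738 : sm ga N13703 = N13703 := ded_17_1 (flp_h L116736) L80746 L116736
theorem L116739 : sm gc N13703 = N9601 := ded_32_1 (flp_h L82062) (flp_c L80747) L116736
theorem L116741 : sm gg N13703 = N13703 := ded_50_1 (flp_h L116736) L80753 L116736
theorem L116742 : sm gj N13703 = N9449 := ded_52_1 (flp_h L80754) L80744 L116736
theorem L116744 : sm gd N13703 = N13703 := ded_38_1 (flp_h L116736) L80749 L56001 (flp_d L80749) L116736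
theorem L116745 : sm gi N9449 = N13704 := rfl
theorem L116747 : sm ga N13704 = N13704 := ded_18_1 (flp_i L116745) L80756 L116745
theorem L116748 : sm gc N13704 = N9602 := ded_33_1 (flp_i L82068) (flp_c L80757) L116745
theorem L116750 : sm gd N13704 = N13704 := ded_39_1 (flp_i L116745) L80761 L116745
theorem L116751 : sm gg N13704 = N9450 := ded_51_1 (flp_i L80762) (flp_g L80759) L116745
theorem L116753 : sm gh N13704 = N9475 := ded_54_1 (flp_i L80966) (flp_h L56114) (flp_i L55973) L80754 L116745
theorem L116755 : sm gf N9451 = N13705 := rfl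
theorem L116757 : sm ga N13705 = N9603 := ded_14_1 (flp_f L82075) (flp_a L80779) L116755
theorem L116759 : sm gb N13705 = N9452 := ded_22_1 (flp_f L80782) L80773 L116755
theorem L116761 : sm gc N13705 = N13705 := ded_29_1 (flp_f L116755) L80781 L116755
theorem L116762 : sm gd N13705 = N13705 := ded_35_1 (flp_f L116755) L80775 L116755
theorem L116763 : sm gj N13705 = N13705 := ded_46_2 (flp_f L116755) L80778 L116755
theorem L116764 : sm gh N9451 = N13706 := rfl
theorem L116766 : sm ga N13706 = N9604 := ded_17_1 (flp_h L82082) (flp_a L80779) L116764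
theorem L116768 : sm gb N13706 = N9453 := ded_25_1 (flp_h L80790) L80773 L116764
theorem L116770 : sm gc N13706 = N13706 := ded_32_1 (flp_h L116764) L80781 L116764
theorem L116771 : sm ge N13706 = N9979 := ded_43_1 (flp_h L85328) (flp_e L80776) L116764
theorem L116773 : sm gj N13706 = N13706 := ded_52_1 (flp_h L116764) L80778 L116764
theorem L116774 : sm ge N9452 = N13707 := rfl
theorem L116776 : sm ga N13707 = N9459 := ded_13_1 (flp_e L80839) (flp_a L80784) L116774
theorem L116778 : sm gc N13707 = N9454 := ded_28_1 (flp_e L80799) (flp_c L80786) L116774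
theorem L116780 : sm gj N13707 = N13707 := ded_42_2 (flp_e L116774) L80789 L116774
theorem L116781 : sm gf N13707 = N9980 := ded_40_2 (flp_e L85336) (flp_f L59055) (flp_e L56009) L80782 L116774
theorem L116783 : sm gg N9452 = N13708 := rfl
theorem L116785 : sm ga N13708 = N9460 := ded_15_1 (flp_g L80848) (flp_a L80784) L116783
theorem L116787 : sm gc N13708 = N9455 := ded_30_1 (flp_g L80808) (flp_c L80786) L116783
theorem L116789 : sm gd N13708 = N13708 := ded_36_1 (flp_g L116783) L80788 L116783
theorem L116790 : sm gh N9452 = N13709 := rfl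
theorem L116792 : sm ga N13709 = N9461 := ded_17_1 (flp_h L80855) (flp_a L80784) L116790
theorem L116794 : sm gc N13709 = N9456 := ded_32_1 (flp_h L80815) (flp_c L80786) L116790
theorem L116796 : sm gf N13709 = N9453 := ded_47_1 (flp_h L80790) L80782 L116790
theorem L116798 : sm gj N13709 = N13709 := ded_52_1 (flp_h L116790) L80789 L116790
theorem L116799 : sm gd N9453 = N13710 := rfl
theorem L116801 : sm ga N13710 = N9462 := ded_12_1 (flp_d L80864) (flp_a L80792) L116799
theorem L116803 : sm gj N13710 = N13710 := ded_37_2 (flp_d L116799) L80798 L116799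
theorem L116804 : sm gh N13710 = N13710 := ded_38_2 (flp_d L116799) (flp_h L80790) L56012 L80790 L116799
theorem L116805 : sm gi N9453 = N13711 := rfl
theorem L116807 : sm ga N13711 = N9463 := ded_18_1 (flp_i L80870) (flp_a L80792) L116805
theorem L116809 : sm gc N13711 = N9457 := ded_33_1 (flp_i L80823) (flp_c L80794) L116805
theorem L116811 : sm ge N13711 = N9984 := ded_44_1 (flp_i L85368) (flp_e L80796) L116805
theorem L116813 : sm gj N13711 = N13711 := ded_53_1 (flp_i L116805) L80798 L116805
theorem L116814 : sm gg N9454 = N13712 := rfl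
theorem L116816 : sm ga N13712 = N9464 := ded_15_1 (flp_g L80879) (flp_a L80801) L116814
theorem L116818 : sm gb N13712 = N13712 := ded_23_1 (flp_g L116814) L80803 L116814
theorem L116819 : sm gd N13712 = N13712 := ded_36_1 (flp_g L116814) L80805 L116814
theorem L116820 : sm ge N13712 = N9455 := ded_41_1 (flp_g L80808) L80799 L116814
theorem L116822 : sm gh N9454 = N13713 := rfl
theorem L116824 : sm ga N13713 = N9465 := ded_17_1 (flp_h L80886) (flp_a L80801) L116822
theorem L116826 : sm gb N13713 = N13713 := ded_25_1 (flp_h L116822) L80803 L116822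
theorem L116827 : sm ge N13713 = N9456 := ded_43_1 (flp_h L80815) L80799 L116822
theorem L116829 : sm gf N13713 = N9986 := ded_47_1 (flp_h L85383) (flp_f L80806) L116822
theorem L116831 : sm gj N13713 = N13713 := ded_52_1 (flp_h L116822) L80804 L116822
theorem L116832 : sm gj N9455 = N13714 := rfl
theorem L116834 : sm ga N13714 = N9466 := ded_16_1 (flp_j L80895) (flp_a L80810) L116832
theorem L116836 : sm gb N13714 = N13714 := ded_24_1 (flp_j L116832) L80812 L116832
theorem L116837 : sm gd N13714 = N9458 := ded_37_1 (flp_j L80831) (flp_d L80813) L116832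
theorem L116839 : sm gg N13714 = N13714 := ded_49_1 (flp_j L116832) (flp_g L80808) L56020 L80808 L116832
theorem L116840 : sm gh N9455 = N13715 := rfl
theorem L116842 : sm ga N13715 = N9467 := ded_17_1 (flp_h L80902) (flp_a L80810) L116840
theorem L116844 : sm gb N13715 = N13715 := ded_25_1 (flp_h L116840) L80812 L116840
theorem L116845 : sm gg N13715 = N9456 := ded_50_1 (flp_h L80815) L80808 L116840
theorem L116847 : sm gi N9456 = N13716 := rfl
theorem L116849 : sm ga N13716 = N9468 := ded_18_1 (flp_i L80908) (flp_a L80817) L116847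
theorem L116851 : sm gb N13716 = N13716 := ded_26_1 (flp_i L116847) L80819 L116847
theorem L116852 : sm gf N13716 = N9457 := ded_48_1 (flp_i L80823) (flp_f L80820) L116847
theorem L116854 : sm gj N13716 = N13716 := ded_53_1 (flp_i L116847) L80822 L116847
theorem L116855 : sm gd N9459 = N13717 := rfl
theorem L116857 : sm gb N13717 = N9615 := ded_20_1 (flp_d L82175) (flp_b L80841) L116855
theorem L116859 : sm gf N13717 = N9990 := ded_35_2 (flp_d L85416) (flp_f L80846) L116855
theorem L116861 : sm gj N13717 = N13717 := ded_37_2 (flp_d L116855) L80845 L116855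
theorem L116862 : sm gc N13717 = N13717 := ded_27_1 (flp_d L116855) L80843 L56058 (flp_c L80843) L116855
theorem L116863 : sm ge N13717 = N13717 := ded_34_2 (flp_d L116855) (flp_e L80839) L56042 L80839 L116855
theorem L116864 : sm gg N9459 = N13718 := rfl
theorem L116866 : sm gb N13718 = N9616 := ded_23_1 (flp_g L82183) (flp_b L80841) L116864
theorem L116868 : sm gc N13718 = N9464 := ded_30_1 (flp_g L80879) (flp_c L80843) L116864
theorem L116870 : sm ge N13718 = N9460 := ded_41_1 (flp_g L80848) L80839 L116864
theorem L116872 : sm gh N9459 = N13719 := rfl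
theorem L116874 : sm gb N13719 = N9617 := ded_25_1 (flp_h L82189) (flp_b L80841) L116872
theorem L116876 : sm gc N13719 = N9465 := ded_32_1 (flp_h L80886) (flp_c L80843) L116872
theorem L116878 : sm ge N13719 = N9461 := ded_43_1 (flp_h L80855) L80839 L116872
theorem L116880 : sm gf N13719 = N9992 := ded_47_1 (flp_h L85432) (flp_f L80846) L116872
theorem L116882 : sm gj N13719 = N13719 := ded_52_1 (flp_h L116872) L80845 L116872
theorem L116883 : sm gj N9460 = N13720 := rfl
theorem L116885 : sm gb N13720 = N9618 := ded_24_1 (flp_j L82198) (flp_b L80850) L116883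
theorem L116887 : sm gc N13720 = N9466 := ded_31_1 (flp_j L80895) (flp_c L80852) L116883
theorem L116889 : sm gd N13720 = N13720 := ded_37_1 (flp_j L116883) L80854 L116883
theorem L116890 : sm gg N13720 = N13720 := ded_49_1 (flp_j L116883) (flp_g L80848) L56043 L80848 L116883
theorem L116891 : sm gh N9460 = N13721 := rfl
theorem L116893 : sm gb N13721 = N9619 := ded_25_1 (flp_h L82204) (flp_b L80850) L116891
theorem L116895 : sm gc N13721 = N9467 := ded_32_1 (flp_h L80902) (flp_c L80852) L116891
theorem L116897 : sm gg N13721 = N9461 := ded_50_1 (flp_h L80855) L80848 L116891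
theorem L116899 : sm gd N9461 = N13722 := rfl
theorem L116901 : sm gb N13722 = N9620 := ded_20_1 (flp_d L82210) (flp_b L80857) L116899
theorem L116903 : sm gf N13722 = N9462 := ded_35_2 (flp_d L80864) (flp_f L80861) L116899
theorem L116905 : sm gj N13722 = N13722 := ded_37_2 (flp_d L116899) L80863 L116899
theorem L116906 : sm gh N13722 = N13722 := ded_38_2 (flp_d L116899) (flp_h L80855) L56042 L80855 L116899
theorem L116907 : sm gi N9461 = N13723 := rfl
theorem L116909 : sm gb N13723 = N9621 := ded_26_1 (flp_i L82217) (flp_b L80857) L116907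
theorem L116911 : sm gc N13723 = N9468 := ded_33_1 (flp_i L80908) (flp_c L80859) L116907
theorem L116913 : sm gf N13723 = N9463 := ded_48_1 (flp_i L80870) (flp_f L80861) L116907
theorem L116915 : sm gj N13723 = N13723 := ded_53_1 (flp_i L116907) L80863 L116907
theorem L116916 : sm ge N9462 = N13724 := rfl
theorem L116918 : sm gb N13724 = N9622 := ded_21_1 (flp_e L82224) (flp_b L80866) L116916
theorem L116920 : sm gj N13724 = N13724 := ded_42_2 (flp_e L116916) L80868 L116916
theorem L116921 : sm gh N13724 = N13724 := ded_43_2 (flp_e L116916) L80869 L116916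
theorem L116922 : sm gd N13724 = N9997 := ded_34_1 (flp_e L85477) (flp_d L59135) (flp_e L56050) L80864 L116916
theorem L116924 : sm gi N9462 = N13725 := rfl
theorem L116926 : sm gb N13725 = N9623 := ded_26_1 (flp_i L82231) (flp_b L80866) L116924
theorem L116928 : sm gd N13725 = N9463 := ded_39_1 (flp_i L80870) L80864 L116924
theorem L116930 : sm gj N13725 = N13725 := ded_53_1 (flp_i L116924) L80868 L116924
theorem L116931 : sm gf N9464 = N13726 := rfl
theorem L116933 : sm gb N13726 = N9469 := ded_22_1 (flp_f L80915) (flp_b L80881) L116931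
theorem L116935 : sm gd N13726 = N13726 := ded_35_1 (flp_f L116931) L80883 L116931
theorem L116936 : sm gg N13726 = N9999 := ded_45_2 (flp_f L85493) (flp_g L59150) (flp_f L56059) L80879 L116931
theorem L116938 : sm gj N9464 = N13727 := rfl
theorem L116940 : sm gb N13727 = N9470 := ded_24_1 (flp_j L80923) (flp_b L80881) L116938
theorem L116942 : sm gd N13727 = N13727 := ded_37_1 (flp_j L116938) L80883 L116938
theorem L116943 : sm ge N13727 = N9466 := ded_42_1 (flp_j L80895) (flp_e L80884) L116938
theorem L116945 : sm gg N13727 = N13727 := ded_49_1 (flp_j L116938) (flp_g L80879) L56057 L80879 L116938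
theorem L116946 : sm gh N9464 = N13728 := rfl
theorem L116948 : sm gb N13728 = N9471 := ded_25_1 (flp_h L80932) (flp_b L80881) L116946
theorem L116950 : sm ge N13728 = N9467 := ded_43_1 (flp_h L80902) (flp_e L80884) L116946
theorem L116952 : sm gg N13728 = N9465 := ded_50_1 (flp_h L80886) L80879 L116946
theorem L116954 : sm gd N9465 = N13729 := rfl
theorem L116956 : sm gb N13729 = N9472 := ded_20_1 (flp_d L80941) (flp_b L80888) L116954
theorem L116958 : sm gf N13729 = N10002 := ded_35_2 (flp_d L85514) (flp_f L80892) L116954
theorem L116960 : sm gj N13729 = N13729 := ded_37_2 (flp_d L116954) L80894 L116954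
theorem L116961 : sm gh N13729 = N13729 := ded_38_2 (flp_d L116954) (flp_h L80886) L56058 L80886 L116954
theorem L116962 : sm gi N9465 = N13730 := rfl
theorem L116964 : sm gb N13730 = N9473 := ded_26_1 (flp_i L80948) (flp_b L80888) L116962
theorem L116966 : sm ge N13730 = N9468 := ded_44_1 (flp_i L80908) (flp_e L80890) L116962
theorem L116968 : sm gf N13730 = N10003 := ded_48_1 (flp_i L85521) (flp_f L80892) L116962
theorem L116970 : sm gj N13730 = N13730 := ded_53_1 (flp_i L116962) L80894 L116962
theorem L116971 : sm gh N9466 = N13731 := rfl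
theorem L116973 : sm gb N13731 = N9474 := ded_25_1 (flp_h L80958) (flp_b L80897) L116971
theorem L116975 : sm gg N13731 = N13731 := ded_50_1 (flp_h L116971) L80901 L116971
theorem L116976 : sm gj N13731 = N9467 := ded_52_1 (flp_h L80902) L80895 L116971
theorem L116978 : sm gi N9467 = N13732 := rfl
theorem L116980 : sm gb N13732 = N9475 := ded_26_1 (flp_i L80966) (flp_b L80904) L116978
theorem L116982 : sm gg N13732 = N9468 := ded_51_1 (flp_i L80908) (flp_g L80906) L116978
theorem L116984 : sm gj N9469 = N13733 := rfl
theorem L116986 : sm ga N13733 = N13733 := ded_16_1 (flp_j L116984) L80917 L116984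
theorem L116987 : sm gc N13733 = N9631 := ded_31_1 (flp_j L82296) (flp_c L80918) L116984
theorem L116989 : sm gd N13733 = N13733 := ded_37_1 (flp_j L116984) L80920 L116984
theorem L116990 : sm gf N13733 = N9470 := ded_46_1 (flp_j L80923) L80915 L116984
theorem L116992 : sm gh N9469 = N13734 := rfl
theorem L116994 : sm ga N13734 = N13734 := ded_17_1 (flp_h L116992) L80917 L116992
theorem L116995 : sm gc N13734 = N9632 := ded_32_1 (flp_h L82303) (flp_c L80918) L116992
theorem L116997 : sm gf N13734 = N9471 := ded_47_1 (flp_h L80932) L80915 L116992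
theorem L116999 : sm gg N13734 = N10007 := ded_50_1 (flp_h L85551) (flp_g L80921) L116992
theorem L117001 : sm gh N9470 = N13735 := rfl
theorem L117003 : sm ga N13735 = N13735 := ded_17_1 (flp_h L117001) L80925 L117001
theorem L117004 : sm gc N13735 = N9633 := ded_32_1 (flp_h L82310) (flp_c L80926) L117001
theorem L117006 : sm ge N13735 = N9474 := ded_43_1 (flp_h L80958) (flp_e L80929) L117001
theorem L117008 : sm gg N13735 = N13735 := ded_50_1 (flp_h L117001) L80931 L117001
theorem L117009 : sm gj N13735 = N9471 := ded_52_1 (flp_h L80932) L80923 L117001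
theorem L117011 : sm gd N9471 = N13736 := rfl
theorem L117013 : sm ga N13736 = N13736 := ded_12_1 (flp_d L117011) L80934 L117011
theorem L117014 : sm gg N13736 = N9472 := ded_36_2 (flp_d L80941) (flp_g L80939) L117011
theorem L117016 : sm gh N13736 = N13736 := ded_38_2 (flp_d L117011) (flp_h L80932) L56093 L80932 L117011
theorem L117017 : sm gi N9471 = N13737 := rfl
theorem L117019 : sm ga N13737 = N13737 := ded_18_1 (flp_i L117017) L80934 L117017
theorem L117020 : sm gc N13737 = N9635 := ded_33_1 (flp_i L82326) (flp_c L80935) L117017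
theorem L117022 : sm ge N13737 = N9475 := ded_44_1 (flp_i L80966) (flp_e L80937) L117017
theorem L117024 : sm gg N13737 = N9473 := ded_51_1 (flp_i L80948) (flp_g L80939) L117017
theorem L117026 : sm gc N9472 = N13738 := rfl
theorem L117028 : sm ga N13738 = N13738 := ded_11_1 (flp_c L117026) L80943 L117026
theorem L117029 : sm gf N13738 = N10011 := ded_29_2 (flp_c L85584) (flp_f L80944) L117026
theorem L117031 : sm gj N13738 = N13738 := ded_31_2 (flp_c L117026) L80946 L117026
theorem L117032 : sm gh N13738 = N13738 := ded_32_2 (flp_c L117026) L80947 L117026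
theorem L117033 : sm gd N13738 = N9636 := ded_27_2 (flp_c L82333) (flp_d L57025) (flp_c L56099) L80941 L117026
theorem L117035 : sm gi N9472 = N13739 := rfl
theorem L117037 : sm ga N13739 = N13739 := ded_18_1 (flp_i L117035) L80943 L117035
theorem L117038 : sm gd N13739 = N9473 := ded_39_1 (flp_i L80948) L80941 L117035
theorem L117040 : sm gf N13739 = N10012 := ded_48_1 (flp_i L85592) (flp_f L80944) L117035
theorem L117042 : sm gj N13739 = N13739 := ded_53_1 (flp_i L117035) L80946 L117035
theorem L117043 : sm gi N9474 = N13740 := rfl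
theorem L117045 : sm ga N13740 = N13740 := ded_18_1 (flp_i L117043) L80960 L117043
theorem L117046 : sm gc N13740 = N9638 := ded_33_1 (flp_i L82351) (flp_c L80961) L117043
theorem L117048 : sm gg N13740 = N13740 := ded_51_1 (flp_i L117043) L80963 L117043
theorem L117049 : sm gj N13740 = N9475 := ded_53_1 (flp_i L80966) (flp_j L80964) L117043
theorem L117051 : sm gd N9476 = N13741 := rfl
theorem L117053 : sm ga N13741 = N9477 := ded_12_1 (flp_d L80985) (flp_a L80975) L117051
theorem L117055 : sm gb N13741 = N13741 := ded_20_1 (flp_d L117051) L80977 L117051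
theorem L117056 : sm gg N13741 = N13741 := ded_36_2 (flp_d L117051) L80979 L117051
theorem L117057 : sm gj N13741 = N9510 := ded_37_2 (flp_d L81291) (flp_j L80980) L117051
theorem L117059 : sm gi N13741 = N13741 := ded_39_2 (flp_d L117051) L80984 L117051
theorem L117060 : sm ge N13741 = N13741 := ded_34_2 (flp_d L117051) (flp_e L80973) L56132 L80973 L117051
theorem L117061 : sm gf N9476 = N13742 := rfl
theorem L117063 : sm ga N13742 = N9478 := ded_14_1 (flp_f L80994) (flp_a L80975) L117061
theorem L117065 : sm gb N13742 = N13742 := ded_22_1 (flp_f L117061) L80977 L117061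
theorem L117066 : sm gc N13742 = N13742 := ded_29_1 (flp_f L117061) L80978 L117061
theorem L117067 : sm gj N13742 = N9511 := ded_46_2 (flp_f L81300) (flp_j L80980) L117061
theorem L117069 : sm gh N13742 = N9484 := ded_47_2 (flp_f L81058) (flp_h L80982) L117061
theorem L117071 : sm gi N13742 = N13742 := ded_48_2 (flp_f L117061) L80984 L117061
theorem L117072 : sm ge N13742 = N13742 := ded_40_1 (flp_f L117061) (flp_e L80973) L56133 L80973 L117061
theorem L117073 : sm gc N9477 = N13743 := rfl
theorem L117075 : sm ge N13743 = N13743 := ded_28_2 (flp_c L117073) L80993 L117073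
theorem L117076 : sm gg N13743 = N13743 := ded_30_2 (flp_c L117073) L80989 L117073
theorem L117077 : sm gj N13743 = N9512 := ded_31_2 (flp_c L81310) (flp_j L80990) L117073
theorem L117079 : sm gi N13743 = N13743 := ded_33_2 (flp_c L117073) L80992 L117073
theorem L117080 : sm gb N13743 = N13743 := ded_19_1 (flp_c L117073) L80987 L56159 (flp_b L80987) L117073
theorem L117081 : sm gd N13743 = N13743 := ded_27_2 (flp_c L117073) (flp_d L80985) L56145 L80985 L117073
theorem L117082 : sm gf N9477 = N13744 := rfl
theorem L117084 : sm gb N13744 = N9479 := ded_22_1 (flp_f L81005) (flp_b L80987) L117082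
theorem L117086 : sm gd N13744 = N9478 := ded_35_1 (flp_f L80994) L80985 L117082
theorem L117088 : sm gj N13744 = N9513 := ded_46_2 (flp_f L81318) (flp_j L80990) L117082
theorem L117090 : sm gi N13744 = N13744 := ded_48_2 (flp_f L117082) L80992 L117082
theorem L117091 : sm gh N9477 = N13745 := rfl
theorem L117093 : sm gb N13745 = N9480 := ded_25_1 (flp_h L81014) (flp_b L80987) L117091
theorem L117095 : sm ge N13745 = N13745 := ded_43_1 (flp_h L117091) L80993 L117091
theorem L117096 : sm gg N13745 = N13745 := ded_50_1 (flp_h L117091) L80989 L117091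
theorem L117097 : sm gj N13745 = N9514 := ded_52_1 (flp_h L81325) (flp_j L80990) L117091
theorem L117099 : sm gd N13745 = N9487 := ded_38_1 (flp_h L81089) (flp_d L56193) (flp_h L56149) L80985 L117091
theorem L117101 : sm gg N9478 = N13746 := rfl
theorem L117103 : sm gb N13746 = N9481 := ded_23_1 (flp_g L81024) (flp_b L80996) L117101
theorem L117105 : sm gc N13746 = N13746 := ded_30_1 (flp_g L117101) L80998 L117101
theorem L117106 : sm ge N13746 = N13746 := ded_41_1 (flp_g L117101) L81004 L117101
theorem L117107 : sm gh N13746 = N9488 := ded_50_2 (flp_g L81098) (flp_h L81001) L117101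
theorem L117109 : sm gi N13746 = N13746 := ded_51_2 (flp_g L117101) L81003 L117101
theorem L117110 : sm gf N13746 = N13746 := ded_45_1 (flp_g L117101) (flp_f L80994) L56146 L80994 L117101
theorem L117111 : sm ge N9479 = N13747 := rfl
theorem L117113 : sm ga N13747 = N13747 := ded_13_1 (flp_e L117111) L81007 L117111
theorem L117114 : sm gc N13747 = N13747 := ded_28_1 (flp_e L117111) L81008 L117111
theorem L117115 : sm gj N13747 = N9516 := ded_42_2 (flp_e L81345) (flp_j L81011) L117111
theorem L117117 : sm gi N13747 = N13747 := ded_44_2 (flp_e L117111) L81013 L117111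
theorem L117118 : sm gd N13747 = N13747 := ded_34_1 (flp_e L117111) L81009 L56171 (flp_d L81009) L117111
theorem L117119 : sm gf N13747 = N13747 := ded_40_2 (flp_e L117111) (flp_f L81005) L56160 L81005 L117111
theorem L117120 : sm gg N9479 = N13748 := rfl
theorem L117122 : sm ga N13748 = N13748 := ded_15_1 (flp_g L117120) L81007 L117120
theorem L117123 : sm gc N13748 = N13748 := ded_30_1 (flp_g L117120) L81008 L117120
theorem L117124 : sm gd N13748 = N9481 := ded_36_1 (flp_g L81024) (flp_d L81009) L117120
theorem L117126 : sm gi N13748 = N13748 := ded_51_2 (flp_g L117120) L81013 L117120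
theorem L117127 : sm gf N13748 = N13748 := ded_45_1 (flp_g L117120) (flp_f L81005) L56155 L81005 L117120
theorem L117128 : sm gh N9479 = N13749 := rfl
theorem L117130 : sm ga N13749 = N13749 := ded_17_1 (flp_h L117128) L81007 L117128
theorem L117131 : sm gc N13749 = N13749 := ded_32_1 (flp_h L117128) L81008 L117128
theorem L117132 : sm gf N13749 = N9480 := ded_47_1 (flp_h L81014) L81005 L117128
theorem L117134 : sm gj N13749 = N9518 := ded_52_1 (flp_h L81361) (flp_j L81011) L117128
theorem L117136 : sm gd N13749 = N9491 := ded_38_1 (flp_h L81125) L56217 (flp_h L56168) (flp_d L81009) L117128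
theorem L117138 : sm gi N9480 = N13750 := rfl
theorem L117140 : sm ga N13750 = N13750 := ded_18_1 (flp_i L117138) L81016 L117138
theorem L117141 : sm gc N13750 = N13750 := ded_33_1 (flp_i L117138) L81017 L117138
theorem L117142 : sm gd N13750 = N9492 := ded_39_1 (flp_i L81132) (flp_d L81022) L117138
theorem L117144 : sm ge N13750 = N13750 := ded_44_1 (flp_i L117138) L81018 L117138
theorem L117145 : sm gg N13750 = N13750 := ded_51_1 (flp_i L117138) L81019 L117138
theorem L117146 : sm gj N13750 = N9519 := ded_53_1 (flp_i L81369) (flp_j L81020) L117138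
theorem L117148 : sm gh N13750 = N13750 := ded_54_1 (flp_i L117138) (flp_h L81014) L56158 L81014 L117138
theorem L117149 : sm gj N9481 = N13751 := rfl
theorem L117151 : sm ga N13751 = N13751 := ded_16_1 (flp_j L117149) L81026 L117149
theorem L117152 : sm gc N13751 = N9482 := ded_31_1 (flp_j L81034) (flp_c L81027) L117149
theorem L117154 : sm ge N13751 = N13751 := ded_42_1 (flp_j L117149) L81029 L117149
theorem L117155 : sm gf N13751 = N13751 := ded_46_1 (flp_j L117149) L81033 L117149
theorem L117156 : sm gh N13751 = N9493 := ded_52_2 (flp_j L81142) (flp_h L81030) L117149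
theorem L117158 : sm gi N13751 = N13751 := ded_53_2 (flp_j L117149) L81032 L117149
theorem L117159 : sm gg N13751 = N9520 := ded_49_1 (flp_j L81379) (flp_g L56389) (flp_j L56166) L81024 L117149
theorem L117161 : sm gc N9483 = N13752 := rfl
theorem L117163 : sm ga N13752 = N9485 := ded_11_1 (flp_c L81069) (flp_a L81048) L117161
theorem L117165 : sm ge N13752 = N10014 := ded_28_2 (flp_c L85608) (flp_e L81056) L117161
theorem L117167 : sm gg N13752 = N13752 := ded_30_2 (flp_c L117161) L81051 L117161
theorem L117168 : sm gj N13752 = N9521 := ded_31_2 (flp_c L81390) (flp_j L81052) L117161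
theorem L117170 : sm gi N13752 = N9494 := ded_33_2 (flp_c L81153) (flp_i L81054) L117161
theorem L117172 : sm gd N13752 = N13752 := ded_27_2 (flp_c L117161) (flp_d L81046) L56187 L81046 L117161
theorem L117173 : sm gf N9483 = N13753 := rfl
theorem L117175 : sm ga N13753 = N9486 := ded_14_1 (flp_f L81079) (flp_a L81048) L117173
theorem L117177 : sm gb N13753 = N13753 := ded_22_1 (flp_f L117173) L81050 L117173
theorem L117178 : sm gd N13753 = N9484 := ded_35_1 (flp_f L81058) L81046 L117173
theorem L117180 : sm gj N13753 = N9522 := ded_46_2 (flp_f L81401) (flp_j L81052) L117173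
theorem L117182 : sm gi N13753 = N9495 := ded_48_2 (flp_f L81163) (flp_i L81054) L117173
theorem L117184 : sm gh N9483 = N13754 := rfl
theorem L117186 : sm ga N13754 = N9487 := ded_17_1 (flp_h L81089) (flp_a L81048) L117184
theorem L117188 : sm gb N13754 = N13754 := ded_25_1 (flp_h L117184) L81050 L117184
theorem L117189 : sm ge N13754 = N10016 := ded_43_1 (flp_h L85630) (flp_e L81056) L117184
theorem L117191 : sm gg N13754 = N13754 := ded_50_1 (flp_h L117184) L81051 L117184
theorem L117192 : sm gj N13754 = N9523 := ded_52_1 (flp_h L81410) (flp_j L81052) L117184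
theorem L117194 : sm gg N9484 = N13755 := rfl
theorem L117196 : sm ga N13755 = N9488 := ded_15_1 (flp_g L81098) (flp_a L81060) L117194
theorem L117198 : sm gb N13755 = N13755 := ded_23_1 (flp_g L117194) L81062 L117194
theorem L117199 : sm gc N13755 = N13755 := ded_30_1 (flp_g L117194) L81063 L117194
theorem L117200 : sm ge N13755 = N13755 := ded_41_1 (flp_g L117194) L81068 L117194
theorem L117201 : sm gi N13755 = N9497 := ded_51_2 (flp_g L81183) (flp_i L81066) L117194
theorem L117203 : sm gf N13755 = N13755 := ded_45_1 (flp_g L117194) (flp_f L81058) L56188 L81058 L117194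
theorem L117204 : sm gf N9485 = N13756 := rfl
theorem L117206 : sm gc N13756 = N9486 := ded_29_1 (flp_f L81079) L81069 L117204
theorem L117208 : sm gd N13756 = N13756 := ded_35_1 (flp_f L117204) L81078 L117204
theorem L117209 : sm gj N13756 = N9525 := ded_46_2 (flp_f L81430) (flp_j L81074) L117204
theorem L117211 : sm gi N13756 = N9498 := ded_48_2 (flp_f L81192) (flp_i L81076) L117204
theorem L117213 : sm gh N9485 = N13757 := rfl
theorem L117215 : sm gc N13757 = N9487 := ded_32_1 (flp_h L81089) L81069 L117213
theorem L117217 : sm ge N13757 = N10019 := ded_43_1 (flp_h L85661) (flp_e L81071) L117213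
theorem L117219 : sm gg N13757 = N13757 := ded_50_1 (flp_h L117213) L81073 L117213
theorem L117220 : sm gj N13757 = N9526 := ded_52_1 (flp_h L81437) (flp_j L81074) L117213
theorem L117222 : sm ge N9486 = N13758 := rfl
theorem L117224 : sm gb N13758 = N9489 := ded_21_1 (flp_e L81107) (flp_b L81081) L117222
theorem L117226 : sm gj N13758 = N9527 := ded_42_2 (flp_e L81445) (flp_j L81085) L117222
theorem L117228 : sm gi N13758 = N9500 := ded_44_2 (flp_e L81208) (flp_i L81087) L117222
theorem L117230 : sm gd N13758 = N13758 := ded_34_1 (flp_e L117222) L81083 L56213 (flp_d L81083) L117222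
theorem L117231 : sm gf N13758 = N10020 := ded_40_2 (flp_e L85668) (flp_f L59273) (flp_e L56202) L81079 L117222
theorem L117233 : sm gg N9486 = N13759 := rfl
theorem L117235 : sm gb N13759 = N9490 := ded_23_1 (flp_g L81117) (flp_b L81081) L117233
theorem L117237 : sm gd N13759 = N9488 := ded_36_1 (flp_g L81098) (flp_d L81083) L117233
theorem L117239 : sm gi N13759 = N9501 := ded_51_2 (flp_g L81217) (flp_i L81087) L117233
theorem L117241 : sm gf N13759 = N13759 := ded_45_1 (flp_g L117233) (flp_f L81079) L56197 L81079 L117233
theorem L117242 : sm gh N9486 = N13760 := rfl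
theorem L117244 : sm gb N13760 = N9491 := ded_25_1 (flp_h L81125) (flp_b L81081) L117242
theorem L117246 : sm gf N13760 = N9487 := ded_47_1 (flp_h L81089) L81079 L117242
theorem L117248 : sm gj N13760 = N9529 := ded_52_1 (flp_h L81464) (flp_j L81085) L117242
theorem L117250 : sm gi N9487 = N13761 := rfl
theorem L117252 : sm gb N13761 = N9492 := ded_26_1 (flp_i L81132) (flp_b L81091) L117250
theorem L117254 : sm ge N13761 = N10023 := ded_44_1 (flp_i L85695) (flp_e L81093) L117250
theorem L117256 : sm gg N13761 = N13761 := ded_51_1 (flp_i L117250) L81095 L117250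
theorem L117257 : sm gj N13761 = N9530 := ded_53_1 (flp_i L81470) (flp_j L81096) L117250
theorem L117259 : sm gh N13761 = N9503 := ded_54_1 (flp_i L81233) (flp_h L56286) (flp_i L56200) L81089 L117250
theorem L117261 : sm gj N9488 = N13762 := rfl
theorem L117263 : sm gb N13762 = N9493 := ded_24_1 (flp_j L81142) (flp_b L81100) L117261
theorem L117265 : sm gc N13762 = N13762 := ded_31_1 (flp_j L117261) L81102 L117261
theorem L117266 : sm ge N13762 = N13762 := ded_42_1 (flp_j L117261) L81103 L117261
theorem L117267 : sm gf N13762 = N13762 := ded_46_1 (flp_j L117261) L81106 L117261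
theorem L117268 : sm gi N13762 = N9504 := ded_53_2 (flp_j L81243) (flp_i L81104) L117261
theorem L117270 : sm gg N13762 = N9531 := ded_49_1 (flp_j L81480) (flp_g L56456) (flp_j L56209) L81098 L117261
theorem L117272 : sm gg N9489 = N13763 := rfl
theorem L117274 : sm ga N13763 = N13763 := ded_15_1 (flp_g L117272) L81109 L117272
theorem L117275 : sm gd N13763 = N13763 := ded_36_1 (flp_g L117272) L81114 L117272
theorem L117276 : sm ge N13763 = N9490 := ded_41_1 (flp_g L81117) L81107 L117272
theorem L117278 : sm gi N13763 = N9505 := ded_51_2 (flp_g L81253) (flp_i L81112) L117272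
theorem L117280 : sm gh N9489 = N13764 := rfl
theorem L117282 : sm ga N13764 = N13764 := ded_17_1 (flp_h L117280) L81109 L117280
theorem L117283 : sm ge N13764 = N9491 := ded_43_1 (flp_h L81125) L81107 L117280
theorem L117285 : sm gf N13764 = N10026 := ded_47_1 (flp_h L85726) (flp_f L81115) L117280
theorem L117287 : sm gj N13764 = N9533 := ded_52_1 (flp_h L81498) (flp_j L81110) L117280
theorem L117289 : sm gj N9490 = N13765 := rfl
theorem L117291 : sm ga N13765 = N13765 := ded_16_1 (flp_j L117289) L81119 L117289
theorem L117292 : sm gd N13765 = N9493 := ded_37_1 (flp_j L81142) (flp_d L81120) L117289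
theorem L117294 : sm gf N13765 = N13765 := ded_46_1 (flp_j L117289) L81124 L117289
theorem L117295 : sm gi N13765 = N9507 := ded_53_2 (flp_j L81268) (flp_i L81122) L117289
theorem L117297 : sm gg N13765 = N9534 := ded_49_1 (flp_j L81505) (flp_g L56474) (flp_j L56219) L81117 L117289
theorem L117299 : sm gh N9490 = N13766 := rfl
theorem L117301 : sm ga N13766 = N13766 := ded_17_1 (flp_h L117299) L81119 L117299
theorem L117302 : sm gf N13766 = N13766 := ded_47_1 (flp_h L117299) L81124 L117299
theorem L117303 : sm gg N13766 = N9491 := ded_50_1 (flp_h L81125) L81117 L117299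
theorem L117305 : sm gi N9491 = N13767 := rfl
theorem L117307 : sm ga N13767 = N13767 := ded_18_1 (flp_i L117305) L81127 L117305
theorem L117308 : sm gf N13767 = N9492 := ded_48_1 (flp_i L81132) (flp_f L81128) L117305
theorem L117310 : sm gj N13767 = N9536 := ded_53_1 (flp_i L81521) (flp_j L81130) L117305
theorem L117312 : sm gh N13767 = N9509 := ded_54_1 (flp_i L81283) (flp_h L56318) (flp_i L56221) L81125 L117305
theorem L117314 : sm gb N9494 = N13768 := rfl
theorem L117316 : sm gd N13768 = N13768 := ded_20_2 (flp_b L117314) L81162 L117314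
theorem L117317 : sm ge N13768 = N10030 := ded_21_2 (flp_b L85760) (flp_e L81157) L117314
theorem L117319 : sm gg N13768 = N13768 := ded_23_2 (flp_b L117314) L81159 L117314
theorem L117320 : sm gj N13768 = N9537 := ded_24_2 (flp_b L81528) (flp_j L81160) L117314
theorem L117322 : sm gc N13768 = N13768 := ded_19_2 (flp_b L117314) (flp_c L81153) L56254 L81153 L117314
theorem L117323 : sm gf N9494 = N13769 := rfl
theorem L117325 : sm ga N13769 = N9498 := ded_14_1 (flp_f L81192) (flp_a L81155) L117323
theorem L117327 : sm gc N13769 = N9495 := ded_29_1 (flp_f L81163) L81153 L117323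
theorem L117329 : sm gd N13769 = N13769 := ded_35_1 (flp_f L117323) L81162 L117323
theorem L117330 : sm gj N13769 = N9538 := ded_46_2 (flp_f L81536) (flp_j L81160) L117323
theorem L117332 : sm gh N9494 = N13770 := rfl
theorem L117334 : sm ga N13770 = N9499 := ded_17_1 (flp_h L81199) (flp_a L81155) L117332
theorem L117336 : sm gc N13770 = N9496 := ded_32_1 (flp_h L81172) L81153 L117332
theorem L117338 : sm ge N13770 = N10032 := ded_43_1 (flp_h L85778) (flp_e L81157) L117332
theorem L117340 : sm gg N13770 = N13770 := ded_50_1 (flp_h L117332) L81159 L117332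
theorem L117341 : sm gj N13770 = N9539 := ded_52_1 (flp_h L81543) (flp_j L81160) L117332
theorem L117343 : sm ge N9495 = N13771 := rfl
theorem L117345 : sm ga N13771 = N9500 := ded_13_1 (flp_e L81208) (flp_a L81165) L117343
theorem L117347 : sm gb N13771 = N13771 := ded_21_1 (flp_e L117343) L81167 L117343
theorem L117348 : sm gj N13771 = N9540 := ded_42_2 (flp_e L81553) (flp_j L81170) L117343
theorem L117350 : sm gd N13771 = N13771 := ded_34_1 (flp_e L117343) L81168 L56269 (flp_d L81168) L117343
theorem L117351 : sm gf N13771 = N10033 := ded_40_2 (flp_e L85787) (flp_f L59356) (flp_e L56258) L81163 L117343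
theorem L117353 : sm gg N9495 = N13772 := rfl
theorem L117355 : sm ga N13772 = N9501 := ded_15_1 (flp_g L81217) (flp_a L81165) L117353
theorem L117357 : sm gb N13772 = N13772 := ded_23_1 (flp_g L117353) L81167 L117353
theorem L117358 : sm gd N13772 = N9497 := ded_36_1 (flp_g L81183) (flp_d L81168) L117353
theorem L117360 : sm gf N13772 = N13772 := ded_45_1 (flp_g L117353) (flp_f L81163) L56255 L81163 L117353
theorem L117361 : sm gh N9495 = N13773 := rfl
theorem L117363 : sm ga N13773 = N9502 := ded_17_1 (flp_h L81224) (flp_a L81165) L117361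
theorem L117365 : sm gb N13773 = N13773 := ded_25_1 (flp_h L117361) L81167 L117361
theorem L117366 : sm gf N13773 = N9496 := ded_47_1 (flp_h L81172) L81163 L117361
theorem L117368 : sm gj N13773 = N9542 := ded_52_1 (flp_h L81570) (flp_j L81170) L117361
theorem L117370 : sm gd N13773 = N13773 := ded_38_1 (flp_h L117361) L81168 L56268 (flp_d L81168) L117361
theorem L117371 : sm gi N9496 = N13774 := rfl
theorem L117373 : sm ga N13774 = N9503 := ded_18_1 (flp_i L81233) (flp_a L81174) L117371
theorem L117375 : sm gb N13774 = N13774 := ded_26_1 (flp_i L117371) L81176 L117371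
theorem L117376 : sm gd N13774 = N13774 := ded_39_1 (flp_i L117371) L81182 L117371
theorem L117377 : sm ge N13774 = N10036 := ded_44_1 (flp_i L85814) (flp_e L81177) L117371
theorem L117379 : sm gg N13774 = N13774 := ded_51_1 (flp_i L117371) L81179 L117371
theorem L117380 : sm gj N13774 = N9543 := ded_53_1 (flp_i L81578) (flp_j L81180) L117371
theorem L117382 : sm gj N9497 = N13775 := rfl
theorem L117384 : sm ga N13775 = N9504 := ded_16_1 (flp_j L81243) (flp_a L81185) L117382
theorem L117386 : sm gb N13775 = N13775 := ded_24_1 (flp_j L117382) L81187 L117382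
theorem L117387 : sm gc N13775 = N13775 := ded_31_1 (flp_j L117382) L81188 L117382
theorem L117388 : sm ge N13775 = N13775 := ded_42_1 (flp_j L117382) L81189 L117382
theorem L117389 : sm gf N13775 = N13775 := ded_46_1 (flp_j L117382) L81191 L117382
theorem L117390 : sm gh N13775 = N13775 := ded_52_2 (flp_j L117382) L81190 L117382
theorem L117391 : sm gg N13775 = N9544 := ded_49_1 (flp_j L81588) (flp_g L56533) (flp_j L56266) L81183 L117382
theorem L117393 : sm ge N9498 = N13776 := rfl
theorem L117395 : sm gc N13776 = N9500 := ded_28_1 (flp_e L81208) (flp_c L81194) L117393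
theorem L117397 : sm gj N13776 = N9545 := ded_42_2 (flp_e L81598) (flp_j L81197) L117393
theorem L117399 : sm gf N13776 = N10038 := ded_40_2 (flp_e L85837) (flp_f L59386) (flp_e L56272) L81192 L117393
theorem L117401 : sm gg N9498 = N13777 := rfl
theorem L117403 : sm gc N13777 = N9501 := ded_30_1 (flp_g L81217) (flp_c L81194) L117401
theorem L117405 : sm gd N13777 = N13777 := ded_36_1 (flp_g L117401) L81196 L117401
theorem L117406 : sm gf N13777 = N13777 := ded_45_1 (flp_g L117401) (flp_f L81192) L56274 L81192 L117401
theorem L117407 : sm gh N9498 = N13778 := rfl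
theorem L117409 : sm gc N13778 = N9502 := ded_32_1 (flp_h L81224) (flp_c L81194) L117407
theorem L117411 : sm gf N13778 = N9499 := ded_47_1 (flp_h L81199) L81192 L117407
theorem L117413 : sm gj N13778 = N9547 := ded_52_1 (flp_h L81611) (flp_j L81197) L117407
theorem L117415 : sm gd N9499 = N13779 := rfl
theorem L117417 : sm gg N13779 = N13779 := ded_36_2 (flp_d L117415) L81205 L117415
theorem L117418 : sm gj N13779 = N9548 := ded_37_2 (flp_d L81617) (flp_j L81206) L117415
theorem L117420 : sm gc N13779 = N13779 := ded_27_1 (flp_d L117415) L81201 L56295 (flp_c L81201) L117415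
theorem L117421 : sm gh N13779 = N13779 := ded_38_2 (flp_d L117415) (flp_h L81199) L56277 L81199 L117415
theorem L117422 : sm gi N9499 = N13780 := rfl
theorem L117424 : sm gc N13780 = N9503 := ded_33_1 (flp_i L81233) (flp_c L81201) L117422
theorem L117426 : sm ge N13780 = N10042 := ded_44_1 (flp_i L85867) (flp_e L81203) L117422
theorem L117428 : sm gg N13780 = N13780 := ded_51_1 (flp_i L117422) L81205 L117422
theorem L117429 : sm gj N13780 = N9549 := ded_53_1 (flp_i L81623) (flp_j L81206) L117422
theorem L117431 : sm gg N9500 = N13781 := rfl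
theorem L117433 : sm gb N13781 = N9505 := ded_23_1 (flp_g L81253) (flp_b L81210) L117431
theorem L117435 : sm gd N13781 = N13781 := ded_36_1 (flp_g L117431) L81214 L117431
theorem L117436 : sm ge N13781 = N9501 := ded_41_1 (flp_g L81217) L81208 L117431
theorem L117438 : sm gh N9500 = N13782 := rfl
theorem L117440 : sm gb N13782 = N9506 := ded_25_1 (flp_h L81259) (flp_b L81210) L117438
theorem L117442 : sm ge N13782 = N9502 := ded_43_1 (flp_h L81224) L81208 L117438
theorem L117444 : sm gf N13782 = N10044 := ded_47_1 (flp_h L85881) (flp_f L81215) L117438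
theorem L117446 : sm gj N13782 = N9551 := ded_52_1 (flp_h L81638) (flp_j L81212) L117438
theorem L117448 : sm gj N9501 = N13783 := rfl
theorem L117450 : sm gb N13783 = N9507 := ded_24_1 (flp_j L81268) (flp_b L81219) L117448
theorem L117452 : sm gd N13783 = N9504 := ded_37_1 (flp_j L81243) (flp_d L81221) L117448
theorem L117454 : sm gf N13783 = N13783 := ded_46_1 (flp_j L117448) L81223 L117448
theorem L117455 : sm gg N13783 = N9552 := ded_49_1 (flp_j L81646) (flp_g L56563) (flp_j L56284) L81217 L117448
theorem L117457 : sm gh N9501 = N13784 := rfl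
theorem L117459 : sm gb N13784 = N9508 := ded_25_1 (flp_h L81276) (flp_b L81219) L117457
theorem L117461 : sm gf N13784 = N13784 := ded_47_1 (flp_h L117457) L81223 L117457
theorem L117462 : sm gg N13784 = N9502 := ded_50_1 (flp_h L81224) L81217 L117457
theorem L117464 : sm gd N13784 = N13784 := ded_38_1 (flp_h L117457) L81221 L56302 (flp_d L81221) L117457
theorem L117465 : sm gi N9502 = N13785 := rfl
theorem L117467 : sm gb N13785 = N9509 := ded_26_1 (flp_i L81283) (flp_b L81226) L117465
theorem L117469 : sm gd N13785 = N13785 := ded_39_1 (flp_i L117465) L81232 L117465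
theorem L117470 : sm gf N13785 = N9503 := ded_48_1 (flp_i L81233) (flp_f L81228) L117465
theorem L117472 : sm gj N13785 = N9554 := ded_53_1 (flp_i L81663) (flp_j L81230) L117465
theorem L117474 : sm gf N9505 = N13786 := rfl
theorem L117476 : sm ga N13786 = N13786 := ded_14_1 (flp_f L117474) L81255 L117474
theorem L117477 : sm gd N13786 = N13786 := ded_35_1 (flp_f L117474) L81256 L117474
theorem L117478 : sm ge N13786 = N13786 := ded_40_1 (flp_f L117474) L81257 L56317 (flp_e L81257) L117474
theorem L117479 : sm gg N13786 = N10048 := ded_45_2 (flp_f L85917) (flp_g L59446) (flp_f L56310) L81253 L117474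
theorem L117481 : sm gj N9505 = N13787 := rfl
theorem L117483 : sm ga N13787 = N13787 := ded_16_1 (flp_j L117481) L81255 L117481
theorem L117484 : sm gd N13787 = N13787 := ded_37_1 (flp_j L117481) L81256 L117481
theorem L117485 : sm ge N13787 = N9507 := ded_42_1 (flp_j L81268) (flp_e L81257) L117481
theorem L117487 : sm gg N13787 = N9556 := ded_49_1 (flp_j L81678) (flp_g L56596) (flp_j L56307) L81253 L117481
theorem L117489 : sm gh N9505 = N13788 := rfl
theorem L117491 : sm ga N13788 = N13788 := ded_17_1 (flp_h L117489) L81255 L117489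
theorem L117492 : sm ge N13788 = N9508 := ded_43_1 (flp_h L81276) (flp_e L81257) L117489
theorem L117494 : sm gg N13788 = N9506 := ded_50_1 (flp_h L81259) L81253 L117489
theorem L117496 : sm gd N9506 = N13789 := rfl
theorem L117498 : sm ga N13789 = N13789 := ded_12_1 (flp_d L117496) L81261 L117496
theorem L117499 : sm gf N13789 = N10051 := ded_35_2 (flp_d L85937) (flp_f L81264) L117496
theorem L117501 : sm gj N13789 = N9558 := ded_37_2 (flp_d L81691) (flp_j L81266) L117496
theorem L117503 : sm ge N13789 = N13789 := ded_34_2 (flp_d L117496) L81262 L56325 (flp_e L81262) L117496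
theorem L117504 : sm gh N13789 = N13789 := ded_38_2 (flp_d L117496) (flp_h L81259) L56309 L81259 L117496
theorem L117505 : sm gi N9506 = N13790 := rfl
theorem L117507 : sm ga N13790 = N13790 := ded_18_1 (flp_i L117505) L81261 L117505
theorem L117508 : sm ge N13790 = N9509 := ded_44_1 (flp_i L81283) (flp_e L81262) L117505
theorem L117510 : sm gf N13790 = N10052 := ded_48_1 (flp_i L85945) (flp_f L81264) L117505
theorem L117512 : sm gj N13790 = N9559 := ded_53_1 (flp_i L81698) (flp_j L81266) L117505
theorem L117514 : sm gh N9507 = N13791 := rfl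
theorem L117516 : sm ga N13791 = N13791 := ded_17_1 (flp_h L117514) L81270 L117514
theorem L117517 : sm gf N13791 = N13791 := ded_47_1 (flp_h L117514) L81273 L117514
theorem L117518 : sm gg N13791 = N9560 := ded_50_1 (flp_h L81705) (flp_g L81274) L117514
theorem L117520 : sm gj N13791 = N9508 := ded_52_1 (flp_h L81276) L81268 L117514
theorem L117522 : sm gd N13791 = N13791 := ded_38_1 (flp_h L117514) L81271 L56342 (flp_d L81271) L117514
theorem L117523 : sm gi N9508 = N13792 := rfl
theorem L117525 : sm ga N13792 = N13792 := ded_18_1 (flp_i L117523) L81278 L117523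
theorem L117526 : sm gd N13792 = N13792 := ded_39_1 (flp_i L117523) L81282 L117523
theorem L117527 : sm gf N13792 = N13792 := ded_48_1 (flp_i L117523) L81279 L117523
theorem L117528 : sm gg N13792 = N9509 := ded_51_1 (flp_i L81283) (flp_g L81280) L117523
theorem L117530 : sm gc N9510 = N13793 := rfl
theorem L117532 : sm ga N13793 = N9512 := ded_11_1 (flp_c L81310) (flp_a L81293) L117530
theorem L117534 : sm ge N13793 = N13793 := ded_28_2 (flp_c L117530) L81299 L117530
theorem L117535 : sm gg N13793 = N9562 := ded_30_2 (flp_c L81721) (flp_g L81296) L117530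
theorem L117537 : sm gi N13793 = N13793 := ded_33_2 (flp_c L117530) L81298 L117530
theorem L117538 : sm gd N13793 = N13793 := ded_27_2 (flp_c L117530) (flp_d L81291) L56350 L81291 L117530
theorem L117539 : sm gf N9510 = N13794 := rfl
theorem L117541 : sm ga N13794 = N9513 := ded_14_1 (flp_f L81318) (flp_a L81293) L117539
theorem L117543 : sm gb N13794 = N13794 := ded_22_1 (flp_f L117539) L81295 L117539
theorem L117544 : sm gd N13794 = N9511 := ded_35_1 (flp_f L81300) L81291 L117539
theorem L117546 : sm gi N13794 = N13794 := ded_48_2 (flp_f L117539) L81298 L117539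
theorem L117547 : sm gh N9510 = N13795 := rfl
theorem L117549 : sm ga N13795 = N9514 := ded_17_1 (flp_h L81325) (flp_a L81293) L117547
theorem L117551 : sm gb N13795 = N13795 := ded_25_1 (flp_h L117547) L81295 L117547
theorem L117552 : sm ge N13795 = N13795 := ded_43_1 (flp_h L117547) L81299 L117547
theorem L117553 : sm gg N13795 = N9564 := ded_50_1 (flp_h L81738) (flp_g L81296) L117547
theorem L117555 : sm gd N13795 = N9523 := ded_38_1 (flp_h L81410) (flp_d L56411) (flp_h L56353) L81291 L117547
theorem L117557 : sm gg N9511 = N13796 := rfl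
theorem L117559 : sm ga N13796 = N9515 := ded_15_1 (flp_g L81334) (flp_a L81302) L117557
theorem L117561 : sm gb N13796 = N13796 := ded_23_1 (flp_g L117557) L81304 L117557
theorem L117562 : sm gc N13796 = N13796 := ded_30_1 (flp_g L117557) L81305 L117557
theorem L117563 : sm ge N13796 = N13796 := ded_41_1 (flp_g L117557) L81309 L117557
theorem L117564 : sm gh N13796 = N9524 := ded_50_2 (flp_g L81419) (flp_h L81306) L117557
theorem L117566 : sm gi N13796 = N13796 := ded_51_2 (flp_g L117557) L81308 L117557
theorem L117567 : sm gf N13796 = N9565 := ded_45_1 (flp_g L81747) (flp_f L56638) (flp_g L56351) L81300 L117557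
theorem L117569 : sm gf N9512 = N13797 := rfl
theorem L117571 : sm gb N13797 = N13797 := ded_22_1 (flp_f L117569) L81316 L117569
theorem L117572 : sm gc N13797 = N9513 := ded_29_1 (flp_f L81318) L81310 L117569
theorem L117574 : sm gd N13797 = N13797 := ded_35_1 (flp_f L117569) L81317 L117569
theorem L117575 : sm gi N13797 = N13797 := ded_48_2 (flp_f L117569) L81315 L117569
theorem L117576 : sm gh N9512 = N13798 := rfl
theorem L117578 : sm gb N13798 = N13798 := ded_25_1 (flp_h L117576) L81316 L117576
theorem L117579 : sm gc N13798 = N9514 := ded_32_1 (flp_h L81325) L81310 L117576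
theorem L117581 : sm ge N13798 = N13798 := ded_43_1 (flp_h L117576) L81312 L117576
theorem L117582 : sm gg N13798 = N9567 := ded_50_1 (flp_h L81766) (flp_g L81313) L117576
theorem L117584 : sm ge N9513 = N13799 := rfl
theorem L117586 : sm gb N13799 = N9516 := ded_21_1 (flp_e L81345) (flp_b L81320) L117584
theorem L117588 : sm gi N13799 = N13799 := ded_44_2 (flp_e L117584) L81324 L117584
theorem L117589 : sm gd N13799 = N13799 := ded_34_1 (flp_e L117584) L81322 L56372 (flp_d L81322) L117584
theorem L117590 : sm gf N13799 = N13799 := ded_40_2 (flp_e L117584) (flp_f L81318) L56363 L81318 L117584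
theorem L117591 : sm gg N9513 = N13800 := rfl
theorem L117593 : sm gb N13800 = N9517 := ded_23_1 (flp_g L81352) (flp_b L81320) L117591
theorem L117595 : sm gd N13800 = N9515 := ded_36_1 (flp_g L81334) (flp_d L81322) L117591
theorem L117597 : sm gi N13800 = N13800 := ded_51_2 (flp_g L117591) L81324 L117591
theorem L117598 : sm gf N13800 = N9569 := ded_45_1 (flp_g L81782) (flp_f L56657) (flp_g L56360) L81318 L117591
theorem L117600 : sm gh N9513 = N13801 := rfl
theorem L117602 : sm gb N13801 = N9518 := ded_25_1 (flp_h L81361) (flp_b L81320) L117600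
theorem L117604 : sm gf N13801 = N9514 := ded_47_1 (flp_h L81325) L81318 L117600
theorem L117606 : sm gd N13801 = N9529 := ded_38_1 (flp_h L81464) L56444 (flp_h L56369) (flp_d L81322) L117600
theorem L117608 : sm gi N9514 = N13802 := rfl
theorem L117610 : sm gb N13802 = N9519 := ded_26_1 (flp_i L81369) (flp_b L81327) L117608
theorem L117612 : sm gd N13802 = N9530 := ded_39_1 (flp_i L81470) (flp_d L81332) L117608
theorem L117614 : sm ge N13802 = N13802 := ded_44_1 (flp_i L117608) L81329 L117608
theorem L117615 : sm gg N13802 = N9571 := ded_51_1 (flp_i L81798) (flp_g L81330) L117608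
theorem L117617 : sm gh N13802 = N13802 := ded_54_1 (flp_i L117608) (flp_h L81325) L56362 L81325 L117608
theorem L117618 : sm gj N9515 = N13803 := rfl
theorem L117620 : sm gb N13803 = N9520 := ded_24_1 (flp_j L81379) (flp_b L81336) L117618
theorem L117622 : sm gc N13803 = N13803 := ded_31_1 (flp_j L117618) L81338 L117618
theorem L117623 : sm ge N13803 = N13803 := ded_42_1 (flp_j L117618) L81339 L117618
theorem L117624 : sm gf N13803 = N9572 := ded_46_1 (flp_j L81807) (flp_f L81343) L117618
theorem L117626 : sm gh N13803 = N9531 := ded_52_2 (flp_j L81480) (flp_h L81340) L117618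
theorem L117628 : sm gi N13803 = N13803 := ded_53_2 (flp_j L117618) L81342 L117618
theorem L117629 : sm gg N9516 = N13804 := rfl
theorem L117631 : sm ga N13804 = N13804 := ded_15_1 (flp_g L117629) L81347 L117629
theorem L117632 : sm gc N13804 = N13804 := ded_30_1 (flp_g L117629) L81348 L117629
theorem L117633 : sm gd N13804 = N13804 := ded_36_1 (flp_g L117629) L81350 L117629
theorem L117634 : sm ge N13804 = N9517 := ded_41_1 (flp_g L81352) L81345 L117629
theorem L117636 : sm gi N13804 = N13804 := ded_51_2 (flp_g L117629) L81349 L117629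
theorem L117637 : sm gh N9516 = N13805 := rfl
theorem L117639 : sm ga N13805 = N13805 := ded_17_1 (flp_h L117637) L81347 L117637
theorem L117640 : sm gc N13805 = N13805 := ded_32_1 (flp_h L117637) L81348 L117637
theorem L117641 : sm ge N13805 = N9518 := ded_43_1 (flp_h L81361) L81345 L117637
theorem L117643 : sm gf N13805 = N13805 := ded_47_1 (flp_h L117637) L81351 L117637
theorem L117644 : sm gj N9517 = N13806 := rfl
theorem L117646 : sm ga N13806 = N13806 := ded_16_1 (flp_j L117644) L81354 L117644
theorem L117647 : sm gc N13806 = N13806 := ded_31_1 (flp_j L117644) L81355 L117644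
theorem L117648 : sm gd N13806 = N9520 := ded_37_1 (flp_j L81379) (flp_d L81356) L117644
theorem L117650 : sm gf N13806 = N9575 := ded_46_1 (flp_j L81835) (flp_f L81359) L117644
theorem L117652 : sm gi N13806 = N13806 := ded_53_2 (flp_j L117644) L81358 L117644
theorem L117653 : sm gh N9517 = N13807 := rfl
theorem L117655 : sm ga N13807 = N13807 := ded_17_1 (flp_h L117653) L81354 L117653
theorem L117656 : sm gc N13807 = N13807 := ded_32_1 (flp_h L117653) L81355 L117653
theorem L117657 : sm gf N13807 = N9576 := ded_47_1 (flp_h L81843) (flp_f L81359) L117653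
theorem L117659 : sm gg N13807 = N9518 := ded_50_1 (flp_h L81361) L81352 L117653
theorem L117661 : sm gd N13807 = N9535 := ded_38_1 (flp_h L81514) L56477 (flp_h L56395) (flp_d L81356) L117653
theorem L117663 : sm gi N9518 = N13808 := rfl
theorem L117665 : sm ga N13808 = N13808 := ded_18_1 (flp_i L117663) L81363 L117663
theorem L117666 : sm gc N13808 = N13808 := ded_33_1 (flp_i L117663) L81364 L117663
theorem L117667 : sm gd N13808 = N9536 := ded_39_1 (flp_i L81521) (flp_d L81367) L117663
theorem L117669 : sm gf N13808 = N9519 := ded_48_1 (flp_i L81369) (flp_f L81365) L117663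
theorem L117671 : sm gh N13808 = N13808 := ded_54_1 (flp_i L117663) (flp_h L81361) L56379 L81361 L117663
theorem L117672 : sm gb N9521 = N13809 := rfl
theorem L117674 : sm gd N13809 = N13809 := ded_20_2 (flp_b L117672) L81400 L117672
theorem L117675 : sm ge N13809 = N10055 := ded_21_2 (flp_b L85970) (flp_e L81394) L117672
theorem L117677 : sm gg N13809 = N9578 := ded_23_2 (flp_b L81861) (flp_g L81396) L117672
theorem L117679 : sm gi N13809 = N9537 := ded_26_2 (flp_b L81528) (flp_i L81398) L117672
theorem L117681 : sm gc N13809 = N13809 := ded_19_2 (flp_b L117672) (flp_c L81390) L56415 L81390 L117672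
theorem L117682 : sm gf N9521 = N13810 := rfl
theorem L117684 : sm ga N13810 = N9525 := ded_14_1 (flp_f L81430) (flp_a L81392) L117682
theorem L117686 : sm gc N13810 = N9522 := ded_29_1 (flp_f L81401) L81390 L117682
theorem L117688 : sm gd N13810 = N13810 := ded_35_1 (flp_f L117682) L81400 L117682
theorem L117689 : sm gi N13810 = N9538 := ded_48_2 (flp_f L81536) (flp_i L81398) L117682
theorem L117691 : sm gh N9521 = N13811 := rfl
theorem L117693 : sm ga N13811 = N9526 := ded_17_1 (flp_h L81437) (flp_a L81392) L117691
theorem L117695 : sm gc N13811 = N9523 := ded_32_1 (flp_h L81410) L81390 L117691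
theorem L117697 : sm ge N13811 = N10057 := ded_43_1 (flp_h L85989) (flp_e L81394) L117691
theorem L117699 : sm gg N13811 = N9580 := ded_50_1 (flp_h L81880) (flp_g L81396) L117691
theorem L117701 : sm ge N9522 = N13812 := rfl
theorem L117703 : sm ga N13812 = N9527 := ded_13_1 (flp_e L81445) (flp_a L81403) L117701
theorem L117705 : sm gb N13812 = N13812 := ded_21_1 (flp_e L117701) L81405 L117701
theorem L117706 : sm gi N13812 = N9540 := ded_44_2 (flp_e L81553) (flp_i L81408) L117701
theorem L117708 : sm gd N13812 = N13812 := ded_34_1 (flp_e L117701) L81406 L56430 (flp_d L81406) L117701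
theorem L117709 : sm gf N13812 = N10058 := ded_40_2 (flp_e L85997) (flp_f L59494) (flp_e L56420) L81401 L117701
theorem L117711 : sm gg N9522 = N13813 := rfl
theorem L117713 : sm ga N13813 = N9528 := ded_15_1 (flp_g L81454) (flp_a L81403) L117711
theorem L117715 : sm gb N13813 = N13813 := ded_23_1 (flp_g L117711) L81405 L117711
theorem L117716 : sm gd N13813 = N9524 := ded_36_1 (flp_g L81419) (flp_d L81406) L117711
theorem L117718 : sm gi N13813 = N9541 := ded_51_2 (flp_g L81561) (flp_i L81408) L117711
theorem L117720 : sm gf N13813 = N9582 := ded_45_1 (flp_g L81901) (flp_f L56738) (flp_g L56416) L81401 L117711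
theorem L117722 : sm gh N9522 = N13814 := rfl
theorem L117724 : sm ga N13814 = N9529 := ded_17_1 (flp_h L81464) (flp_a L81403) L117722
theorem L117726 : sm gb N13814 = N13814 := ded_25_1 (flp_h L117722) L81405 L117722
theorem L117727 : sm gf N13814 = N9523 := ded_47_1 (flp_h L81410) L81401 L117722
theorem L117729 : sm gi N9523 = N13815 := rfl
theorem L117731 : sm ga N13815 = N9530 := ded_18_1 (flp_i L81470) (flp_a L81412) L117729
theorem L117733 : sm gb N13815 = N13815 := ded_26_1 (flp_i L117729) L81414 L117729
theorem L117734 : sm ge N13815 = N10061 := ded_44_1 (flp_i L86024) (flp_e L81415) L117729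
theorem L117736 : sm gg N13815 = N9584 := ded_51_1 (flp_i L81918) (flp_g L81417) L117729
theorem L117738 : sm gh N13815 = N9543 := ded_54_1 (flp_i L81578) (flp_h L56523) (flp_i L56418) L81410 L117729
theorem L117740 : sm gj N9524 = N13816 := rfl
theorem L117742 : sm ga N13816 = N9531 := ded_16_1 (flp_j L81480) (flp_a L81421) L117740
theorem L117744 : sm gb N13816 = N13816 := ded_24_1 (flp_j L117740) L81423 L117740
theorem L117745 : sm gc N13816 = N13816 := ded_31_1 (flp_j L117740) L81424 L117740
theorem L117746 : sm ge N13816 = N13816 := ded_42_1 (flp_j L117740) L81425 L117740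
theorem L117747 : sm gf N13816 = N9585 := ded_46_1 (flp_j L81928) (flp_f L81428) L117740
theorem L117749 : sm gi N13816 = N9544 := ded_53_2 (flp_j L81588) (flp_i L81426) L117740
theorem L117751 : sm ge N9525 = N13817 := rfl
theorem L117753 : sm gc N13817 = N9527 := ded_28_1 (flp_e L81445) (flp_c L81432) L117751
theorem L117755 : sm gi N13817 = N9545 := ded_44_2 (flp_e L81598) (flp_i L81435) L117751
theorem L117757 : sm gf N13817 = N10063 := ded_40_2 (flp_e L86047) (flp_f L59524) (flp_e L56433) L81430 L117751
theorem L117759 : sm gg N9525 = N13818 := rfl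
theorem L117761 : sm gc N13818 = N9528 := ded_30_1 (flp_g L81454) (flp_c L81432) L117759
theorem L117763 : sm gd N13818 = N13818 := ded_36_1 (flp_g L117759) L81434 L117759
theorem L117764 : sm gi N13818 = N9546 := ded_51_2 (flp_g L81604) (flp_i L81435) L117759
theorem L117766 : sm gf N13818 = N9587 := ded_45_1 (flp_g L81948) (flp_f L56766) (flp_g L56435) L81430 L117759
theorem L117768 : sm gh N9525 = N13819 := rfl
theorem L117770 : sm gc N13819 = N9529 := ded_32_1 (flp_h L81464) (flp_c L81432) L117768
theorem L117772 : sm gf N13819 = N9526 := ded_47_1 (flp_h L81437) L81430 L117768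
theorem L117774 : sm gd N9526 = N13820 := rfl
theorem L117776 : sm gg N13820 = N9589 := ded_36_2 (flp_d L81962) (flp_g L81443) L117774
theorem L117778 : sm gh N13820 = N13820 := ded_38_2 (flp_d L117774) (flp_h L81437) L56439 L81437 L117774
theorem L117779 : sm gi N9526 = N13821 := rfl
theorem L117781 : sm gc N13821 = N9530 := ded_33_1 (flp_i L81470) (flp_c L81439) L117779
theorem L117783 : sm ge N13821 = N10067 := ded_44_1 (flp_i L86076) (flp_e L81441) L117779
theorem L117785 : sm gg N13821 = N9590 := ded_51_1 (flp_i L81966) (flp_g L81443) L117779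
theorem L117787 : sm gh N13821 = N9549 := ded_54_1 (flp_i L81623) (flp_h L56548) (flp_i L56437) L81437 L117779
theorem L117789 : sm gg N9527 = N13822 := rfl
theorem L117791 : sm gb N13822 = N9532 := ded_23_1 (flp_g L81490) (flp_b L81447) L117789
theorem L117793 : sm gd N13822 = N13822 := ded_36_1 (flp_g L117789) L81451 L117789
theorem L117794 : sm ge N13822 = N9528 := ded_41_1 (flp_g L81454) L81445 L117789
theorem L117796 : sm gi N13822 = N9550 := ded_51_2 (flp_g L81631) (flp_i L81449) L117789
theorem L117798 : sm gh N9527 = N13823 := rfl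
theorem L117800 : sm gb N13823 = N9533 := ded_25_1 (flp_h L81498) (flp_b L81447) L117798
theorem L117802 : sm ge N13823 = N9529 := ded_43_1 (flp_h L81464) L81445 L117798
theorem L117804 : sm gf N13823 = N10069 := ded_47_1 (flp_h L86093) (flp_f L81452) L117798
theorem L117806 : sm gj N9528 = N13824 := rfl
theorem L117808 : sm gb N13824 = N9534 := ded_24_1 (flp_j L81505) (flp_b L81456) L117806
theorem L117810 : sm gd N13824 = N9531 := ded_37_1 (flp_j L81480) (flp_d L81458) L117806
theorem L117812 : sm gf N13824 = N9593 := ded_46_1 (flp_j L81994) (flp_f L81462) L117806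
theorem L117814 : sm gi N13824 = N9552 := ded_53_2 (flp_j L81646) (flp_i L81460) L117806
theorem L117816 : sm gh N9528 = N13825 := rfl
theorem L117818 : sm gb N13825 = N9535 := ded_25_1 (flp_h L81514) (flp_b L81456) L117816
theorem L117820 : sm gf N13825 = N9594 := ded_47_1 (flp_h L82003) (flp_f L81462) L117816
theorem L117822 : sm gg N13825 = N9529 := ded_50_1 (flp_h L81464) L81454 L117816
theorem L117824 : sm gi N9529 = N13826 := rfl
theorem L117826 : sm gb N13826 = N9536 := ded_26_1 (flp_i L81521) (flp_b L81466) L117824
theorem L117828 : sm gf N13826 = N9530 := ded_48_1 (flp_i L81470) (flp_f L81468) L117824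
theorem L117830 : sm gh N13826 = N9554 := ded_54_1 (flp_i L81663) (flp_h L56571) (flp_i L56446) L81464 L117824
theorem L117832 : sm gf N9532 = N13827 := rfl
theorem L117834 : sm ga N13827 = N13827 := ded_14_1 (flp_f L117832) L81492 L117832
theorem L117835 : sm gd N13827 = N13827 := ded_35_1 (flp_f L117832) L81493 L117832
theorem L117836 : sm gi N13827 = N9555 := ded_48_2 (flp_f L81670) (flp_i L81496) L117832
theorem L117838 : sm ge N13827 = N9596 := ded_40_1 (flp_f L82018) L56831 (flp_f L56481) (flp_e L81494) L117832
theorem L117840 : sm gg N13827 = N10073 := ded_45_2 (flp_f L86127) (flp_g L59583) (flp_f L56472) L81490 L117832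
theorem L117842 : sm gj N9532 = N13828 := rfl
theorem L117844 : sm ga N13828 = N13828 := ded_16_1 (flp_j L117842) L81492 L117842
theorem L117845 : sm gd N13828 = N13828 := ded_37_1 (flp_j L117842) L81493 L117842
theorem L117846 : sm ge N13828 = N9534 := ded_42_1 (flp_j L81505) (flp_e L81494) L117842
theorem L117848 : sm gi N13828 = N9556 := ded_53_2 (flp_j L81678) (flp_i L81496) L117842
theorem L117850 : sm gh N9532 = N13829 := rfl
theorem L117852 : sm ga N13829 = N13829 := ded_17_1 (flp_h L117850) L81492 L117850
theorem L117853 : sm ge N13829 = N9535 := ded_43_1 (flp_h L81514) (flp_e L81494) L117850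
theorem L117855 : sm gg N13829 = N9533 := ded_50_1 (flp_h L81498) L81490 L117850
theorem L117857 : sm gd N9533 = N13830 := rfl
theorem L117859 : sm ga N13830 = N13830 := ded_12_1 (flp_d L117857) L81500 L117857
theorem L117860 : sm gf N13830 = N10076 := ded_35_2 (flp_d L86150) (flp_f L81503) L117857
theorem L117862 : sm gh N13830 = N13830 := ded_38_2 (flp_d L117857) (flp_h L81498) L56471 L81498 L117857
theorem L117863 : sm gi N9533 = N13831 := rfl
theorem L117865 : sm ga N13831 = N13831 := ded_18_1 (flp_i L117863) L81500 L117863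
theorem L117866 : sm ge N13831 = N9536 := ded_44_1 (flp_i L81521) (flp_e L81501) L117863
theorem L117868 : sm gf N13831 = N10077 := ded_48_1 (flp_i L86155) (flp_f L81503) L117863
theorem L117870 : sm gh N13831 = N9559 := ded_54_1 (flp_i L81698) (flp_h L56602) (flp_i L56469) L81498 L117863
theorem L117872 : sm gh N9534 = N13832 := rfl
theorem L117874 : sm ga N13832 = N13832 := ded_17_1 (flp_h L117872) L81507 L117872
theorem L117875 : sm gf N13832 = N9601 := ded_47_1 (flp_h L82062) (flp_f L81510) L117872
theorem L117877 : sm gj N13832 = N9535 := ded_52_1 (flp_h L81514) L81505 L117872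
theorem L117879 : sm gi N9535 = N13833 := rfl
theorem L117881 : sm ga N13833 = N13833 := ded_18_1 (flp_i L117879) L81516 L117879
theorem L117882 : sm gf N13833 = N9602 := ded_48_1 (flp_i L82068) (flp_f L81517) L117879
theorem L117884 : sm gg N13833 = N9536 := ded_51_1 (flp_i L81521) (flp_g L81519) L117879
theorem L117886 : sm gh N13833 = N9561 := ded_54_1 (flp_i L81713) (flp_h L56616) (flp_i L56479) L81514 L117879
theorem L117888 : sm gf N9537 = N13834 := rfl
theorem L117890 : sm gb N13834 = N9538 := ded_22_1 (flp_f L81536) L81528 L117888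
theorem L117892 : sm gc N13834 = N13834 := ded_29_1 (flp_f L117888) L81535 L117888
theorem L117893 : sm gd N13834 = N13834 := ded_35_1 (flp_f L117888) L81530 L117888
theorem L117894 : sm gh N9537 = N13835 := rfl
theorem L117896 : sm gb N13835 = N9539 := ded_25_1 (flp_h L81543) L81528 L117894
theorem L117898 : sm gc N13835 = N13835 := ded_32_1 (flp_h L117894) L81535 L117894
theorem L117899 : sm ge N13835 = N10081 := ded_43_1 (flp_h L86187) (flp_e L81531) L117894
theorem L117901 : sm gg N13835 = N9604 := ded_50_1 (flp_h L82082) (flp_g L81533) L117894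
theorem L117903 : sm ge N9538 = N13836 := rfl
theorem L117905 : sm ga N13836 = N9545 := ded_13_1 (flp_e L81598) (flp_a L81538) L117903
theorem L117907 : sm gc N13836 = N9540 := ded_28_1 (flp_e L81553) (flp_c L81540) L117903
theorem L117909 : sm gf N13836 = N10082 := ded_40_2 (flp_e L86194) (flp_f L59628) (flp_e L56511) L81536 L117903
theorem L117911 : sm gg N9538 = N13837 := rfl
theorem L117913 : sm ga N13837 = N9546 := ded_15_1 (flp_g L81604) (flp_a L81538) L117911
theorem L117915 : sm gc N13837 = N9541 := ded_30_1 (flp_g L81561) (flp_c L81540) L117911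
theorem L117917 : sm gd N13837 = N13837 := ded_36_1 (flp_g L117911) L81542 L117911
theorem L117918 : sm gf N13837 = N9606 := ded_45_1 (flp_g L82099) (flp_f L56871) (flp_g L56513) L81536 L117911
theorem L117920 : sm gh N9538 = N13838 := rfl
theorem L117922 : sm ga N13838 = N9547 := ded_17_1 (flp_h L81611) (flp_a L81538) L117920
theorem L117924 : sm gc N13838 = N9542 := ded_32_1 (flp_h L81570) (flp_c L81540) L117920
theorem L117926 : sm gf N13838 = N9539 := ded_47_1 (flp_h L81543) L81536 L117920
theorem L117928 : sm gd N9539 = N13839 := rfl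
theorem L117930 : sm ga N13839 = N9548 := ded_12_1 (flp_d L81617) (flp_a L81545) L117928
theorem L117932 : sm gg N13839 = N9608 := ded_36_2 (flp_d L82115) (flp_g L81551) L117928
theorem L117934 : sm gc N13839 = N13839 := ded_27_1 (flp_d L117928) L81547 L56532 (flp_c L81547) L117928
theorem L117935 : sm gh N13839 = N13839 := ded_38_2 (flp_d L117928) (flp_h L81543) L56515 L81543 L117928
theorem L117936 : sm gi N9539 = N13840 := rfl
theorem L117938 : sm ga N13840 = N9549 := ded_18_1 (flp_i L81623) (flp_a L81545) L117936
theorem L117940 : sm gc N13840 = N9543 := ded_33_1 (flp_i L81578) (flp_c L81547) L117936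
theorem L117942 : sm ge N13840 = N10086 := ded_44_1 (flp_i L86228) (flp_e L81549) L117936
theorem L117944 : sm gg N13840 = N9609 := ded_51_1 (flp_i L82122) (flp_g L81551) L117936
theorem L117946 : sm gg N9540 = N13841 := rfl
theorem L117948 : sm ga N13841 = N9550 := ded_15_1 (flp_g L81631) (flp_a L81555) L117946
theorem L117950 : sm gb N13841 = N13841 := ded_23_1 (flp_g L117946) L81557 L117946
theorem L117951 : sm gd N13841 = N13841 := ded_36_1 (flp_g L117946) L81558 L117946
theorem L117952 : sm ge N13841 = N9541 := ded_41_1 (flp_g L81561) L81553 L117946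
theorem L117954 : sm gh N9540 = N13842 := rfl
theorem L117956 : sm ga N13842 = N9551 := ded_17_1 (flp_h L81638) (flp_a L81555) L117954
theorem L117958 : sm gb N13842 = N13842 := ded_25_1 (flp_h L117954) L81557 L117954
theorem L117959 : sm ge N13842 = N9542 := ded_43_1 (flp_h L81570) L81553 L117954
theorem L117961 : sm gf N13842 = N10088 := ded_47_1 (flp_h L86244) (flp_f L81559) L117954
theorem L117963 : sm gj N9541 = N13843 := rfl
theorem L117965 : sm ga N13843 = N9552 := ded_16_1 (flp_j L81646) (flp_a L81563) L117963
theorem L117967 : sm gb N13843 = N13843 := ded_24_1 (flp_j L117963) L81565 L117963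
theorem L117968 : sm gd N13843 = N9544 := ded_37_1 (flp_j L81588) (flp_d L81566) L117963
theorem L117970 : sm gf N13843 = N9612 := ded_46_1 (flp_j L82150) (flp_f L81568) L117963
theorem L117972 : sm gh N9541 = N13844 := rfl
theorem L117974 : sm ga N13844 = N9553 := ded_17_1 (flp_h L81654) (flp_a L81563) L117972
theorem L117976 : sm gb N13844 = N13844 := ded_25_1 (flp_h L117972) L81565 L117972
theorem L117977 : sm gf N13844 = N9613 := ded_47_1 (flp_h L82158) (flp_f L81568) L117972
theorem L117979 : sm gg N13844 = N9542 := ded_50_1 (flp_h L81570) L81561 L117972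
theorem L117981 : sm gd N13844 = N13844 := ded_38_1 (flp_h L117972) L81566 L56540 (flp_d L81566) L117972
theorem L117982 : sm gi N9542 = N13845 := rfl
theorem L117984 : sm ga N13845 = N9554 := ded_18_1 (flp_i L81663) (flp_a L81572) L117982
theorem L117986 : sm gb N13845 = N13845 := ded_26_1 (flp_i L117982) L81574 L117982
theorem L117987 : sm gd N13845 = N13845 := ded_39_1 (flp_i L117982) L81577 L117982
theorem L117988 : sm gf N13845 = N9543 := ded_48_1 (flp_i L81578) (flp_f L81575) L117982
theorem L117990 : sm gd N9545 = N13846 := rfl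
theorem L117992 : sm gf N13846 = N10092 := ded_35_2 (flp_d L86280) (flp_f L81602) L117990
theorem L117994 : sm gc N13846 = N13846 := ded_27_1 (flp_d L117990) L81600 L56560 (flp_c L81600) L117990
theorem L117995 : sm ge N13846 = N13846 := ded_34_2 (flp_d L117990) (flp_e L81598) L56547 L81598 L117990
theorem L117996 : sm gg N9545 = N13847 := rfl
theorem L117998 : sm gc N13847 = N9550 := ded_30_1 (flp_g L81631) (flp_c L81600) L117996
theorem L118000 : sm ge N13847 = N9546 := ded_41_1 (flp_g L81604) L81598 L117996
theorem L118002 : sm gh N9545 = N13848 := rfl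
theorem L118004 : sm gc N13848 = N9551 := ded_32_1 (flp_h L81638) (flp_c L81600) L118002
theorem L118006 : sm ge N13848 = N9547 := ded_43_1 (flp_h L81611) L81598 L118002
theorem L118008 : sm gf N13848 = N10094 := ded_47_1 (flp_h L86291) (flp_f L81602) L118002
theorem L118010 : sm gj N9546 = N13849 := rfl
theorem L118012 : sm gc N13849 = N9552 := ded_31_1 (flp_j L81646) (flp_c L81606) L118010
theorem L118014 : sm gd N13849 = N13849 := ded_37_1 (flp_j L118010) L81608 L118010
theorem L118015 : sm gf N13849 = N9618 := ded_46_1 (flp_j L82198) (flp_f L81609) L118010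
theorem L118017 : sm gh N9546 = N13850 := rfl
theorem L118019 : sm gc N13850 = N9553 := ded_32_1 (flp_h L81654) (flp_c L81606) L118017
theorem L118021 : sm gf N13850 = N9619 := ded_47_1 (flp_h L82204) (flp_f L81609) L118017
theorem L118023 : sm gg N13850 = N9547 := ded_50_1 (flp_h L81611) L81604 L118017
theorem L118025 : sm gd N9547 = N13851 := rfl
theorem L118027 : sm gf N13851 = N9548 := ded_35_2 (flp_d L81617) (flp_f L81615) L118025
theorem L118029 : sm gc N13851 = N13851 := ded_27_1 (flp_d L118025) L81613 L56577 (flp_c L81613) L118025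
theorem L118030 : sm gh N13851 = N13851 := ded_38_2 (flp_d L118025) (flp_h L81611) L56547 L81611 L118025
theorem L118031 : sm gi N9547 = N13852 := rfl
theorem L118033 : sm gc N13852 = N9554 := ded_33_1 (flp_i L81663) (flp_c L81613) L118031
theorem L118035 : sm gf N13852 = N9549 := ded_48_1 (flp_i L81623) (flp_f L81615) L118031
theorem L118037 : sm ge N9548 = N13853 := rfl
theorem L118039 : sm gc N13853 = N13853 := ded_28_1 (flp_e L118037) L81621 L118037
theorem L118040 : sm gg N13853 = N9622 := ded_41_2 (flp_e L82224) (flp_g L81619) L118037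
theorem L118042 : sm gh N13853 = N13853 := ded_43_2 (flp_e L118037) L81622 L118037
theorem L118043 : sm gd N13853 = N10099 := ded_34_1 (flp_e L86327) (flp_d L59707) (flp_e L56552) L81617 L118037
theorem L118045 : sm gi N9548 = N13854 := rfl
theorem L118047 : sm gc N13854 = N13854 := ded_33_1 (flp_i L118045) L81621 L118045
theorem L118048 : sm gd N13854 = N9549 := ded_39_1 (flp_i L81623) L81617 L118045
theorem L118050 : sm gg N13854 = N9623 := ded_51_1 (flp_i L82231) (flp_g L81619) L118045
theorem L118052 : sm gf N9550 = N13855 := rfl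
theorem L118054 : sm gb N13855 = N9555 := ded_22_1 (flp_f L81670) (flp_b L81633) L118052
theorem L118056 : sm gd N13855 = N13855 := ded_35_1 (flp_f L118052) L81635 L118052
theorem L118057 : sm ge N13855 = N9624 := ded_40_1 (flp_f L82237) L56970 (flp_f L56569) (flp_e L81636) L118052
theorem L118059 : sm gg N13855 = N10101 := ded_45_2 (flp_f L86343) (flp_g L59721) (flp_f L56561) L81631 L118052
theorem L118061 : sm gj N9550 = N13856 := rfl
theorem L118063 : sm gb N13856 = N9556 := ded_24_1 (flp_j L81678) (flp_b L81633) L118061
theorem L118065 : sm gd N13856 = N13856 := ded_37_1 (flp_j L118061) L81635 L118061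
theorem L118066 : sm ge N13856 = N9552 := ded_42_1 (flp_j L81646) (flp_e L81636) L118061
theorem L118068 : sm gh N9550 = N13857 := rfl
theorem L118070 : sm gb N13857 = N9557 := ded_25_1 (flp_h L81684) (flp_b L81633) L118068
theorem L118072 : sm ge N13857 = N9553 := ded_43_1 (flp_h L81654) (flp_e L81636) L118068
theorem L118074 : sm gg N13857 = N9551 := ded_50_1 (flp_h L81638) L81631 L118068
theorem L118076 : sm gd N9551 = N13858 := rfl
theorem L118078 : sm gb N13858 = N9558 := ded_20_1 (flp_d L81691) (flp_b L81640) L118076
theorem L118080 : sm gf N13858 = N10104 := ded_35_2 (flp_d L86365) (flp_f L81644) L118076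
theorem L118082 : sm ge N13858 = N13858 := ded_34_2 (flp_d L118076) L81642 L56577 (flp_e L81642) L118076
theorem L118083 : sm gh N13858 = N13858 := ded_38_2 (flp_d L118076) (flp_h L81638) L56560 L81638 L118076
theorem L118084 : sm gi N9551 = N13859 := rfl
theorem L118086 : sm gb N13859 = N9559 := ded_26_1 (flp_i L81698) (flp_b L81640) L118084
theorem L118088 : sm ge N13859 = N9554 := ded_44_1 (flp_i L81663) (flp_e L81642) L118084
theorem L118090 : sm gf N13859 = N10105 := ded_48_1 (flp_i L86372) (flp_f L81644) L118084
theorem L118092 : sm gh N9552 = N13860 := rfl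
theorem L118094 : sm gb N13860 = N9560 := ded_25_1 (flp_h L81705) (flp_b L81648) L118092
theorem L118096 : sm gf N13860 = N9629 := ded_47_1 (flp_h L82281) (flp_f L81652) L118092
theorem L118098 : sm gj N13860 = N9553 := ded_52_1 (flp_h L81654) L81646 L118092
theorem L118100 : sm gd N13860 = N13860 := ded_38_1 (flp_h L118092) L81650 L56595 (flp_d L81650) L118092
theorem L118101 : sm gi N9553 = N13861 := rfl
theorem L118103 : sm gb N13861 = N9561 := ded_26_1 (flp_i L81713) (flp_b L81656) L118101
theorem L118105 : sm gd N13861 = N13861 := ded_39_1 (flp_i L118101) L81662 L118101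
theorem L118106 : sm gf N13861 = N9630 := ded_48_1 (flp_i L82289) (flp_f L81658) L118101
theorem L118108 : sm gg N13861 = N9554 := ded_51_1 (flp_i L81663) (flp_g L81660) L118101
theorem L118110 : sm gj N9555 = N13862 := rfl
theorem L118112 : sm ga N13862 = N13862 := ded_16_1 (flp_j L118110) L81672 L118110
theorem L118113 : sm gd N13862 = N13862 := ded_37_1 (flp_j L118110) L81673 L118110
theorem L118114 : sm ge N13862 = N9631 := ded_42_1 (flp_j L82296) (flp_e L81674) L118110
theorem L118116 : sm gf N13862 = N9556 := ded_46_1 (flp_j L81678) L81670 L118110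
theorem L118118 : sm gh N9555 = N13863 := rfl
theorem L118120 : sm ga N13863 = N13863 := ded_17_1 (flp_h L118118) L81672 L118118
theorem L118121 : sm ge N13863 = N9632 := ded_43_1 (flp_h L82303) (flp_e L81674) L118118
theorem L118123 : sm gf N13863 = N9557 := ded_47_1 (flp_h L81684) L81670 L118118
theorem L118125 : sm gg N13863 = N10109 := ded_50_1 (flp_h L86406) (flp_g L81676) L118118
theorem L118127 : sm gh N9556 = N13864 := rfl
theorem L118129 : sm ga N13864 = N13864 := ded_17_1 (flp_h L118127) L81680 L118127
theorem L118130 : sm ge N13864 = N9560 := ded_43_1 (flp_h L81705) (flp_e L81682) L118127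
theorem L118132 : sm gj N13864 = N9557 := ded_52_1 (flp_h L81684) L81678 L118127
theorem L118134 : sm gd N9557 = N13865 := rfl
theorem L118136 : sm ga N13865 = N13865 := ded_12_1 (flp_d L118134) L81686 L118134
theorem L118137 : sm gg N13865 = N9558 := ded_36_2 (flp_d L81691) (flp_g L81689) L118134
theorem L118139 : sm ge N13865 = N13865 := ded_34_2 (flp_d L118134) L81687 L56623 (flp_e L81687) L118134
theorem L118140 : sm gh N13865 = N13865 := ded_38_2 (flp_d L118134) (flp_h L81684) L56599 L81684 L118134
theorem L118141 : sm gi N9557 = N13866 := rfl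
theorem L118143 : sm ga N13866 = N13866 := ded_18_1 (flp_i L118141) L81686 L118141
theorem L118144 : sm ge N13866 = N9561 := ded_44_1 (flp_i L81713) (flp_e L81687) L118141
theorem L118146 : sm gg N13866 = N9559 := ded_51_1 (flp_i L81698) (flp_g L81689) L118141
theorem L118148 : sm gc N9558 = N13867 := rfl
theorem L118150 : sm ga N13867 = N13867 := ded_11_1 (flp_c L118148) L81693 L118148
theorem L118151 : sm ge N13867 = N13867 := ded_28_2 (flp_c L118148) L81696 L118148
theorem L118152 : sm gf N13867 = N10113 := ded_29_2 (flp_c L86435) (flp_f L81694) L118148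
theorem L118154 : sm gh N13867 = N13867 := ded_32_2 (flp_c L118148) L81697 L118148
theorem L118155 : sm gi N9558 = N13868 := rfl
theorem L118157 : sm ga N13868 = N13868 := ded_18_1 (flp_i L118155) L81693 L118155
theorem L118158 : sm gd N13868 = N9559 := ded_39_1 (flp_i L81698) L81691 L118155
theorem L118160 : sm ge N13868 = N13868 := ded_44_1 (flp_i L118155) L81696 L118155
theorem L118161 : sm gf N13868 = N10114 := ded_48_1 (flp_i L86441) (flp_f L81694) L118155
theorem L118163 : sm gi N9560 = N13869 := rfl
theorem L118165 : sm ga N13869 = N13869 := ded_18_1 (flp_i L118163) L81707 L118163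
theorem L118166 : sm gd N13869 = N13869 := ded_39_1 (flp_i L118163) L81712 L118163
theorem L118167 : sm gf N13869 = N9638 := ded_48_1 (flp_i L82351) (flp_f L81708) L118163
theorem L118169 : sm gj N13869 = N9561 := ded_53_1 (flp_i L81713) (flp_j L81710) L118163
theorem L118171 : sm gb N9562 = N13870 := rfl
theorem L118173 : sm gd N13870 = N13870 := ded_20_2 (flp_b L118171) L81728 L118171
theorem L118174 : sm ge N13870 = N13870 := ded_21_2 (flp_b L118171) L81725 L118171
theorem L118175 : sm gj N13870 = N13870 := ded_24_2 (flp_b L118171) L81726 L118171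
theorem L118176 : sm gi N13870 = N13870 := ded_26_2 (flp_b L118171) L81727 L118171
theorem L118177 : sm ga N13870 = N13870 := ded_10_1 (flp_b L118171) L81723 L56655 (flp_a L81723) L118171
theorem L118178 : sm gc N13870 = N13870 := ded_19_2 (flp_b L118171) (flp_c L81721) L56634 L81721 L118171
theorem L118179 : sm gf N9562 = N13871 := rfl
theorem L118181 : sm ga N13871 = N9566 := ded_14_1 (flp_f L81758) (flp_a L81723) L118179
theorem L118183 : sm gc N13871 = N9563 := ded_29_1 (flp_f L81729) L81721 L118179
theorem L118185 : sm gd N13871 = N13871 := ded_35_1 (flp_f L118179) L81728 L118179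
theorem L118186 : sm gj N13871 = N13871 := ded_46_2 (flp_f L118179) L81726 L118179
theorem L118187 : sm gi N13871 = N13871 := ded_48_2 (flp_f L118179) L81727 L118179
theorem L118188 : sm gh N9562 = N13872 := rfl
theorem L118190 : sm ga N13872 = N9567 := ded_17_1 (flp_h L81766) (flp_a L81723) L118188
theorem L118192 : sm gc N13872 = N9564 := ded_32_1 (flp_h L81738) L81721 L118188
theorem L118194 : sm ge N13872 = N13872 := ded_43_1 (flp_h L118188) L81725 L118188
theorem L118195 : sm gj N13872 = N13872 := ded_52_1 (flp_h L118188) L81726 L118188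
theorem L118196 : sm ge N9563 = N13873 := rfl
theorem L118198 : sm ga N13873 = N9568 := ded_13_1 (flp_e L81773) (flp_a L81731) L118196
theorem L118203 : sm gd N13873 = N9658 := ded_34_1 (flp_e L82529) L57169 (flp_e L56648) (flp_d L81734) L118196
theorem L118206 : sm gg N9563 = N13874 := rfl
theorem L118208 : sm ga N13874 = N9569 := ded_15_1 (flp_g L81782) (flp_a L81731) L118206
theorem L118210 : sm gb N13874 = N13874 := ded_23_1 (flp_g L118206) L81733 L118206
theorem L118211 : sm gd N13874 = N9565 := ded_36_1 (flp_g L81747) (flp_d L81734) L118206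
theorem L118213 : sm gi N13874 = N13874 := ded_51_2 (flp_g L118206) L81737 L118206
theorem L118214 : sm gh N9563 = N13875 := rfl
theorem L118216 : sm ga N13875 = N9570 := ded_17_1 (flp_h L81789) (flp_a L81731) L118214
theorem L118218 : sm gb N13875 = N13875 := ded_25_1 (flp_h L118214) L81733 L118214
theorem L118219 : sm gf N13875 = N9564 := ded_47_1 (flp_h L81738) L81729 L118214
theorem L118221 : sm gj N13875 = N13875 := ded_52_1 (flp_h L118214) L81736 L118214
theorem L118222 : sm gd N13875 = N9583 := ded_38_1 (flp_h L81910) L56743 (flp_h L56645) (flp_d L81734) L118214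
theorem L118224 : sm gi N9564 = N13876 := rfl
theorem L118226 : sm ga N13876 = N9571 := ded_18_1 (flp_i L81798) (flp_a L81740) L118224
theorem L118228 : sm gb N13876 = N13876 := ded_26_1 (flp_i L118224) L81742 L118224
theorem L118229 : sm gd N13876 = N9584 := ded_39_1 (flp_i L81918) (flp_d L81745) L118224
theorem L118231 : sm ge N13876 = N13876 := ded_44_1 (flp_i L118224) L81743 L118224
theorem L118232 : sm gj N13876 = N13876 := ded_53_1 (flp_i L118224) L81744 L118224
theorem L118233 : sm gh N13876 = N13876 := ded_54_1 (flp_i L118224) (flp_h L81738) L56636 L81738 L118224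
theorem L118234 : sm gj N9565 = N13877 := rfl
theorem L118236 : sm ga N13877 = N9572 := ded_16_1 (flp_j L81807) (flp_a L81749) L118234
theorem L118238 : sm gb N13877 = N13877 := ded_24_1 (flp_j L118234) L81751 L118234
theorem L118239 : sm gc N13877 = N13877 := ded_31_1 (flp_j L118234) L81752 L118234
theorem L118240 : sm ge N13877 = N9662 := ded_42_1 (flp_j L82567) (flp_e L81753) L118234
theorem L118242 : sm gh N13877 = N9585 := ded_52_2 (flp_j L81928) (flp_h L81755) L118234
theorem L118244 : sm gi N13877 = N13877 := ded_53_2 (flp_j L118234) L81757 L118234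
theorem L118245 : sm gg N13877 = N13877 := ded_49_1 (flp_j L118234) (flp_g L81747) L56644 L81747 L118234
theorem L118246 : sm ge N9566 = N13878 := rfl
theorem L118248 : sm gb N13878 = N13878 := ded_21_1 (flp_e L118246) L81760 L118246
theorem L118249 : sm gc N13878 = N9568 := ded_28_1 (flp_e L81773) (flp_c L81761) L118246
theorem L118251 : sm gj N13878 = N13878 := ded_42_2 (flp_e L118246) L81764 L118246
theorem L118252 : sm gi N13878 = N13878 := ded_44_2 (flp_e L118246) L81765 L118246
theorem L118253 : sm gf N13878 = N13878 := ded_40_2 (flp_e L118246) (flp_f L81758) L56652 L81758 L118246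
theorem L118254 : sm gg N9566 = N13879 := rfl
theorem L118256 : sm gb N13879 = N13879 := ded_23_1 (flp_g L118254) L81760 L118254
theorem L118257 : sm gc N13879 = N9569 := ded_30_1 (flp_g L81782) (flp_c L81761) L118254
theorem L118259 : sm gd N13879 = N13879 := ded_36_1 (flp_g L118254) L81763 L118254
theorem L118260 : sm gi N13879 = N13879 := ded_51_2 (flp_g L118254) L81765 L118254
theorem L118261 : sm gh N9566 = N13880 := rfl
theorem L118263 : sm gb N13880 = N13880 := ded_25_1 (flp_h L118261) L81760 L118261
theorem L118264 : sm gc N13880 = N9570 := ded_32_1 (flp_h L81789) (flp_c L81761) L118261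
theorem L118266 : sm gf N13880 = N9567 := ded_47_1 (flp_h L81766) L81758 L118261
theorem L118268 : sm gj N13880 = N13880 := ded_52_1 (flp_h L118261) L81764 L118261
theorem L118269 : sm gd N9567 = N13881 := rfl
theorem L118271 : sm gb N13881 = N13881 := ded_20_1 (flp_d L118269) L81768 L118269
theorem L118272 : sm gj N13881 = N13881 := ded_37_2 (flp_d L118269) L81772 L118269
theorem L118273 : sm gc N13881 = N9589 := ded_27_1 (flp_d L81962) L56776 (flp_d L56671) (flp_c L81769) L118269
theorem L118275 : sm gh N13881 = N13881 := ded_38_2 (flp_d L118269) (flp_h L81766) L56656 L81766 L118269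
theorem L118276 : sm gi N9567 = N13882 := rfl
theorem L118278 : sm gb N13882 = N13882 := ded_26_1 (flp_i L118276) L81768 L118276
theorem L118279 : sm gc N13882 = N9571 := ded_33_1 (flp_i L81798) (flp_c L81769) L118276
theorem L118281 : sm ge N13882 = N13882 := ded_44_1 (flp_i L118276) L81771 L118276
theorem L118282 : sm gj N13882 = N13882 := ded_53_1 (flp_i L118276) L81772 L118276
theorem L118283 : sm gh N13882 = N13882 := ded_54_1 (flp_i L118276) (flp_h L81766) L56654 L81766 L118276
theorem L118284 : sm gg N9568 = N13883 := rfl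
theorem L118286 : sm gb N13883 = N9573 := ded_23_1 (flp_g L81818) (flp_b L81775) L118284
theorem L118288 : sm gd N13883 = N9668 := ded_36_1 (flp_g L82614) (flp_d L81779) L118284
theorem L118290 : sm ge N13883 = N9569 := ded_41_1 (flp_g L81782) L81773 L118284
theorem L118292 : sm gi N13883 = N13883 := ded_51_2 (flp_g L118284) L81778 L118284
theorem L118293 : sm gh N9568 = N13884 := rfl
theorem L118295 : sm gb N13884 = N9574 := ded_25_1 (flp_h L81827) (flp_b L81775) L118293
theorem L118297 : sm ge N13884 = N9570 := ded_43_1 (flp_h L81789) L81773 L118293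
theorem L118299 : sm gf N13884 = N13884 := ded_47_1 (flp_h L118293) L81781 L118293
theorem L118300 : sm gj N13884 = N13884 := ded_52_1 (flp_h L118293) L81777 L118293
theorem L118301 : sm gj N9569 = N13885 := rfl
theorem L118303 : sm gb N13885 = N9575 := ded_24_1 (flp_j L81835) (flp_b L81784) L118301
theorem L118305 : sm gd N13885 = N9572 := ded_37_1 (flp_j L81807) (flp_d L81786) L118301
theorem L118307 : sm gi N13885 = N13885 := ded_53_2 (flp_j L118301) L81788 L118301
theorem L118308 : sm gg N13885 = N13885 := ded_49_1 (flp_j L118301) (flp_g L81782) L56663 L81782 L118301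
theorem L118309 : sm gh N9569 = N13886 := rfl
theorem L118311 : sm gb N13886 = N9576 := ded_25_1 (flp_h L81843) (flp_b L81784) L118309
theorem L118313 : sm gg N13886 = N9570 := ded_50_1 (flp_h L81789) L81782 L118309
theorem L118315 : sm gd N13886 = N9594 := ded_38_1 (flp_h L82003) L56796 (flp_h L56680) (flp_d L81786) L118309
theorem L118317 : sm gi N9570 = N13887 := rfl
theorem L118319 : sm gb N13887 = N9577 := ded_26_1 (flp_i L81851) (flp_b L81791) L118317
theorem L118321 : sm gd N13887 = N9595 := ded_39_1 (flp_i L82009) (flp_d L81796) L118317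
theorem L118323 : sm gf N13887 = N9571 := ded_48_1 (flp_i L81798) (flp_f L81793) L118317
theorem L118325 : sm gj N13887 = N13887 := ded_53_1 (flp_i L118317) L81795 L118317
theorem L118326 : sm gh N13887 = N13887 := ded_54_1 (flp_i L118317) (flp_h L81789) L56664 L81789 L118317
theorem L118327 : sm gf N9573 = N13888 := rfl
theorem L118329 : sm ga N13888 = N13888 := ded_14_1 (flp_f L118327) L81820 L118327
theorem L118330 : sm gc N13888 = N13888 := ded_29_1 (flp_f L118327) L81821 L118327
theorem L118331 : sm gd N13888 = N9673 := ded_35_1 (flp_f L82657) (flp_d L81822) L118327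
theorem L118333 : sm gi N13888 = N13888 := ded_48_2 (flp_f L118327) L81826 L118327
theorem L118334 : sm gg N13888 = N13888 := ded_45_2 (flp_f L118327) (flp_g L81818) L56691 L81818 L118327
theorem L118335 : sm gj N9573 = N13889 := rfl
theorem L118337 : sm ga N13889 = N13889 := ded_16_1 (flp_j L118335) L81820 L118335
theorem L118338 : sm gc N13889 = N13889 := ded_31_1 (flp_j L118335) L81821 L118335
theorem L118339 : sm gd N13889 = N9674 := ded_37_1 (flp_j L82663) (flp_d L81822) L118335
theorem L118341 : sm ge N13889 = N9575 := ded_42_1 (flp_j L81835) (flp_e L81824) L118335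
theorem L118343 : sm gi N13889 = N13889 := ded_53_2 (flp_j L118335) L81826 L118335
theorem L118344 : sm gg N13889 = N13889 := ded_49_1 (flp_j L118335) (flp_g L81818) L56687 L81818 L118335
theorem L118345 : sm gh N9573 = N13890 := rfl
theorem L118347 : sm ga N13890 = N13890 := ded_17_1 (flp_h L118345) L81820 L118345
theorem L118348 : sm gc N13890 = N13890 := ded_32_1 (flp_h L118345) L81821 L118345
theorem L118349 : sm ge N13890 = N9576 := ded_43_1 (flp_h L81843) (flp_e L81824) L118345
theorem L118351 : sm gg N13890 = N9574 := ded_50_1 (flp_h L81827) L81818 L118345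
theorem L118353 : sm gd N9574 = N13891 := rfl
theorem L118355 : sm ga N13891 = N13891 := ded_12_1 (flp_d L118353) L81829 L118353
theorem L118356 : sm gf N13891 = N13891 := ded_35_2 (flp_d L118353) L81833 L118353
theorem L118357 : sm gj N13891 = N13891 := ded_37_2 (flp_d L118353) L81834 L118353
theorem L118358 : sm ge N13891 = N9599 := ded_34_2 (flp_d L82044) L56838 (flp_d L56706) (flp_e L81831) L118353
theorem L118360 : sm gh N13891 = N9676 := ded_38_2 (flp_d L82677) (flp_h L57257) (flp_d L56689) L81827 L118353
theorem L118362 : sm gi N9574 = N13892 := rfl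
theorem L118364 : sm ga N13892 = N13892 := ded_18_1 (flp_i L118362) L81829 L118362
theorem L118365 : sm gc N13892 = N13892 := ded_33_1 (flp_i L118362) L81830 L118362
theorem L118366 : sm ge N13892 = N9577 := ded_44_1 (flp_i L81851) (flp_e L81831) L118362
theorem L118368 : sm gf N13892 = N13892 := ded_48_1 (flp_i L118362) L81833 L118362
theorem L118369 : sm gj N13892 = N13892 := ded_53_1 (flp_i L118362) L81834 L118362
theorem L118370 : sm gh N13892 = N13892 := ded_54_1 (flp_i L118362) (flp_h L81827) L56688 L81827 L118362
theorem L118371 : sm gh N9575 = N13893 := rfl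
theorem L118373 : sm ga N13893 = N13893 := ded_17_1 (flp_h L118371) L81837 L118371
theorem L118374 : sm gc N13893 = N13893 := ded_32_1 (flp_h L118371) L81838 L118371
theorem L118375 : sm gg N13893 = N13893 := ded_50_1 (flp_h L118371) L81842 L118371
theorem L118376 : sm gj N13893 = N9576 := ded_52_1 (flp_h L81843) L81835 L118371
theorem L118378 : sm gd N13893 = N9601 := ded_38_1 (flp_h L82062) L56846 (flp_h L56724) (flp_d L81839) L118371
theorem L118380 : sm gi N9576 = N13894 := rfl
theorem L118382 : sm ga N13894 = N13894 := ded_18_1 (flp_i L118380) L81845 L118380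
theorem L118383 : sm gc N13894 = N13894 := ded_33_1 (flp_i L118380) L81846 L118380
theorem L118384 : sm gd N13894 = N9602 := ded_39_1 (flp_i L82068) (flp_d L81849) L118380
theorem L118386 : sm gg N13894 = N9577 := ded_51_1 (flp_i L81851) (flp_g L81847) L118380
theorem L118388 : sm gh N13894 = N13894 := ded_54_1 (flp_i L118380) (flp_h L81843) L56698 L81843 L118380
theorem L118389 : sm gf N9578 = N13895 := rfl
theorem L118391 : sm gb N13895 = N9579 := ded_22_1 (flp_f L81870) L81861 L118389
theorem L118393 : sm gc N13895 = N13895 := ded_29_1 (flp_f L118389) L81869 L118389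
theorem L118394 : sm gd N13895 = N13895 := ded_35_1 (flp_f L118389) L81863 L118389
theorem L118395 : sm gj N13895 = N13895 := ded_46_2 (flp_f L118389) L81866 L118389
theorem L118396 : sm gi N13895 = N9603 := ded_48_2 (flp_f L82075) (flp_i L81867) L118389
theorem L118398 : sm gh N9578 = N13896 := rfl
theorem L118400 : sm gb N13896 = N9580 := ded_25_1 (flp_h L81880) L81861 L118398
theorem L118402 : sm gc N13896 = N13896 := ded_32_1 (flp_h L118398) L81869 L118398
theorem L118403 : sm ge N13896 = N10117 := ded_43_1 (flp_h L86467) (flp_e L81864) L118398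
theorem L118405 : sm gj N13896 = N13896 := ded_52_1 (flp_h L118398) L81866 L118398
theorem L118406 : sm ge N9579 = N13897 := rfl
theorem L118408 : sm ga N13897 = N9586 := ded_13_1 (flp_e L81939) (flp_a L81872) L118406
theorem L118410 : sm gc N13897 = N9581 := ded_28_1 (flp_e L81889) (flp_c L81874) L118406
theorem L118412 : sm gj N13897 = N13897 := ded_42_2 (flp_e L118406) L81877 L118406
theorem L118413 : sm gi N13897 = N9605 := ded_44_2 (flp_e L82090) (flp_i L81878) L118406
theorem L118415 : sm gf N13897 = N10118 := ded_40_2 (flp_e L86473) (flp_f L59816) (flp_e L56732) L81870 L118406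
theorem L118417 : sm gg N9579 = N13898 := rfl
theorem L118419 : sm ga N13898 = N9587 := ded_15_1 (flp_g L81948) (flp_a L81872) L118417
theorem L118421 : sm gc N13898 = N9582 := ded_30_1 (flp_g L81901) (flp_c L81874) L118417
theorem L118423 : sm gd N13898 = N13898 := ded_36_1 (flp_g L118417) L81876 L118417
theorem L118424 : sm gi N13898 = N9606 := ded_51_2 (flp_g L82099) (flp_i L81878) L118417
theorem L118426 : sm gh N9579 = N13899 := rfl
theorem L118428 : sm ga N13899 = N9588 := ded_17_1 (flp_h L81955) (flp_a L81872) L118426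
theorem L118430 : sm gc N13899 = N9583 := ded_32_1 (flp_h L81910) (flp_c L81874) L118426
theorem L118432 : sm gf N13899 = N9580 := ded_47_1 (flp_h L81880) L81870 L118426
theorem L118434 : sm gj N13899 = N13899 := ded_52_1 (flp_h L118426) L81877 L118426
theorem L118435 : sm gd N9580 = N13900 := rfl
theorem L118437 : sm ga N13900 = N9589 := ded_12_1 (flp_d L81962) (flp_a L81882) L118435
theorem L118439 : sm gj N13900 = N13900 := ded_37_2 (flp_d L118435) L81888 L118435
theorem L118440 : sm gh N13900 = N13900 := ded_38_2 (flp_d L118435) (flp_h L81880) L56737 L81880 L118435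
theorem L118441 : sm gi N9580 = N13901 := rfl
theorem L118443 : sm ga N13901 = N9590 := ded_18_1 (flp_i L81966) (flp_a L81882) L118441
theorem L118445 : sm gc N13901 = N9584 := ded_33_1 (flp_i L81918) (flp_c L81884) L118441
theorem L118447 : sm ge N13901 = N10122 := ded_44_1 (flp_i L86509) (flp_e L81886) L118441
theorem L118449 : sm gj N13901 = N13901 := ded_53_1 (flp_i L118441) L81888 L118441
theorem L118450 : sm gh N13901 = N9609 := ded_54_1 (flp_i L82122) (flp_h L56879) (flp_i L56735) L81880 L118441
theorem L118452 : sm gg N9581 = N13902 := rfl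
theorem L118454 : sm ga N13902 = N9591 := ded_15_1 (flp_g L81975) (flp_a L81891) L118452
theorem L118456 : sm gb N13902 = N13902 := ded_23_1 (flp_g L118452) L81893 L118452
theorem L118457 : sm gd N13902 = N9687 := ded_36_1 (flp_g L82779) (flp_d L81897) L118452
theorem L118459 : sm ge N13902 = N9582 := ded_41_1 (flp_g L81901) L81889 L118452
theorem L118461 : sm gi N13902 = N9610 := ded_51_2 (flp_g L82131) (flp_i L81895) L118452
theorem L118463 : sm gh N9581 = N13903 := rfl
theorem L118465 : sm ga N13903 = N9592 := ded_17_1 (flp_h L81985) (flp_a L81891) L118463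
theorem L118467 : sm gb N13903 = N13903 := ded_25_1 (flp_h L118463) L81893 L118463
theorem L118468 : sm ge N13903 = N9583 := ded_43_1 (flp_h L81910) L81889 L118463
theorem L118470 : sm gf N13903 = N10124 := ded_47_1 (flp_h L86529) (flp_f L81899) L118463
theorem L118472 : sm gj N13903 = N13903 := ded_52_1 (flp_h L118463) L81894 L118463
theorem L118473 : sm gj N9582 = N13904 := rfl
theorem L118475 : sm ga N13904 = N9593 := ded_16_1 (flp_j L81994) (flp_a L81903) L118473
theorem L118477 : sm gb N13904 = N13904 := ded_24_1 (flp_j L118473) L81905 L118473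
theorem L118478 : sm gd N13904 = N9585 := ded_37_1 (flp_j L81928) (flp_d L81906) L118473
theorem L118480 : sm gi N13904 = N9612 := ded_53_2 (flp_j L82150) (flp_i L81908) L118473
theorem L118482 : sm gg N13904 = N13904 := ded_49_1 (flp_j L118473) (flp_g L81901) L56745 L81901 L118473
theorem L118483 : sm gh N9582 = N13905 := rfl
theorem L118485 : sm ga N13905 = N9594 := ded_17_1 (flp_h L82003) (flp_a L81903) L118483
theorem L118487 : sm gb N13905 = N13905 := ded_25_1 (flp_h L118483) L81905 L118483
theorem L118488 : sm gg N13905 = N9583 := ded_50_1 (flp_h L81910) L81901 L118483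
theorem L118490 : sm gi N9583 = N13906 := rfl
theorem L118492 : sm ga N13906 = N9595 := ded_18_1 (flp_i L82009) (flp_a L81912) L118490
theorem L118494 : sm gb N13906 = N13906 := ded_26_1 (flp_i L118490) L81914 L118490
theorem L118495 : sm gf N13906 = N9584 := ded_48_1 (flp_i L81918) (flp_f L81915) L118490
theorem L118497 : sm gj N13906 = N13906 := ded_53_1 (flp_i L118490) L81917 L118490
theorem L118498 : sm gh N13906 = N9614 := ded_54_1 (flp_i L82166) (flp_h L56905) (flp_i L56746) L81910 L118490
theorem L118500 : sm gd N9586 = N13907 := rfl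
theorem L118502 : sm gf N13907 = N10128 := ded_35_2 (flp_d L86566) (flp_f L81946) L118500
theorem L118504 : sm gj N13907 = N13907 := ded_37_2 (flp_d L118500) L81943 L118500
theorem L118505 : sm gi N13907 = N9615 := ded_39_2 (flp_d L82175) (flp_i L81944) L118500
theorem L118507 : sm gc N13907 = N9692 := ded_27_1 (flp_d L82827) L57372 (flp_d L56788) (flp_c L81941) L118500
theorem L118509 : sm ge N13907 = N13907 := ded_34_2 (flp_d L118500) (flp_e L81939) L56770 L81939 L118500
theorem L118510 : sm gg N9586 = N13908 := rfl
theorem L118512 : sm gc N13908 = N9591 := ded_30_1 (flp_g L81975) (flp_c L81941) L118510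
theorem L118514 : sm ge N13908 = N9587 := ded_41_1 (flp_g L81948) L81939 L118510
theorem L118516 : sm gi N13908 = N9616 := ded_51_2 (flp_g L82183) (flp_i L81944) L118510
theorem L118518 : sm gh N9586 = N13909 := rfl
theorem L118520 : sm gc N13909 = N9592 := ded_32_1 (flp_h L81985) (flp_c L81941) L118518
theorem L118522 : sm ge N13909 = N9588 := ded_43_1 (flp_h L81955) L81939 L118518
theorem L118524 : sm gf N13909 = N10130 := ded_47_1 (flp_h L86583) (flp_f L81946) L118518
theorem L118526 : sm gj N13909 = N13909 := ded_52_1 (flp_h L118518) L81943 L118518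
theorem L118527 : sm gj N9587 = N13910 := rfl
theorem L118529 : sm gc N13910 = N9593 := ded_31_1 (flp_j L81994) (flp_c L81950) L118527
theorem L118531 : sm gd N13910 = N13910 := ded_37_1 (flp_j L118527) L81952 L118527
theorem L118532 : sm gi N13910 = N9618 := ded_53_2 (flp_j L82198) (flp_i L81953) L118527
theorem L118534 : sm gg N13910 = N13910 := ded_49_1 (flp_j L118527) (flp_g L81948) L56771 L81948 L118527
theorem L118535 : sm gh N9587 = N13911 := rfl
theorem L118537 : sm gc N13911 = N9594 := ded_32_1 (flp_h L82003) (flp_c L81950) L118535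
theorem L118539 : sm gg N13911 = N9588 := ded_50_1 (flp_h L81955) L81948 L118535
theorem L118541 : sm gd N9588 = N13912 := rfl
theorem L118543 : sm gf N13912 = N9589 := ded_35_2 (flp_d L81962) (flp_f L81959) L118541
theorem L118545 : sm gj N13912 = N13912 := ded_37_2 (flp_d L118541) L81961 L118541
theorem L118546 : sm gh N13912 = N13912 := ded_38_2 (flp_d L118541) (flp_h L81955) L56770 L81955 L118541
theorem L118547 : sm gi N9588 = N13913 := rfl
theorem L118549 : sm gc N13913 = N9595 := ded_33_1 (flp_i L82009) (flp_c L81957) L118547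
theorem L118551 : sm gf N13913 = N9590 := ded_48_1 (flp_i L81966) (flp_f L81959) L118547
theorem L118553 : sm gj N13913 = N13913 := ded_53_1 (flp_i L118547) L81961 L118547
theorem L118554 : sm gh N13913 = N9621 := ded_54_1 (flp_i L82217) (flp_h L56945) (flp_i L56772) L81955 L118547
theorem L118556 : sm ge N9589 = N13914 := rfl
theorem L118558 : sm gj N13914 = N13914 := ded_42_2 (flp_e L118556) L81964 L118556
theorem L118559 : sm gh N13914 = N13914 := ded_43_2 (flp_e L118556) L81965 L118556
theorem L118560 : sm gd N13914 = N10135 := ded_34_1 (flp_e L86622) (flp_d L59906) (flp_e L56778) L81962 L118556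
theorem L118562 : sm gi N9589 = N13915 := rfl
theorem L118564 : sm gd N13915 = N9590 := ded_39_1 (flp_i L81966) L81962 L118562
theorem L118566 : sm gj N13915 = N13915 := ded_53_1 (flp_i L118562) L81964 L118562
theorem L118567 : sm gf N9591 = N13916 := rfl
theorem L118569 : sm gb N13916 = N9596 := ded_22_1 (flp_f L82018) (flp_b L81977) L118567
theorem L118571 : sm gd N13916 = N9701 := ded_35_1 (flp_f L82905) (flp_d L81979) L118567
theorem L118573 : sm gi N13916 = N9624 := ded_48_2 (flp_f L82237) (flp_i L81983) L118567
theorem L118575 : sm gg N13916 = N10137 := ded_45_2 (flp_f L86634) (flp_g L59919) (flp_f L56790) L81975 L118567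
theorem L118577 : sm gj N9591 = N13917 := rfl
theorem L118579 : sm gb N13917 = N9597 := ded_24_1 (flp_j L82027) (flp_b L81977) L118577
theorem L118581 : sm gd N13917 = N9702 := ded_37_1 (flp_j L82914) (flp_d L81979) L118577
theorem L118583 : sm ge N13917 = N9593 := ded_42_1 (flp_j L81994) (flp_e L81981) L118577
theorem L118585 : sm gi N13917 = N9625 := ded_53_2 (flp_j L82245) (flp_i L81983) L118577
theorem L118587 : sm gg N13917 = N13917 := ded_49_1 (flp_j L118577) (flp_g L81975) L56785 L81975 L118577
theorem L118588 : sm gh N9591 = N13918 := rfl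
theorem L118590 : sm gb N13918 = N9598 := ded_25_1 (flp_h L82037) (flp_b L81977) L118588
theorem L118592 : sm ge N13918 = N9594 := ded_43_1 (flp_h L82003) (flp_e L81981) L118588
theorem L118594 : sm gg N13918 = N9592 := ded_50_1 (flp_h L81985) L81975 L118588
theorem L118596 : sm gd N9592 = N13919 := rfl
theorem L118598 : sm gb N13919 = N9599 := ded_20_1 (flp_d L82044) (flp_b L81987) L118596
theorem L118600 : sm gf N13919 = N10140 := ded_35_2 (flp_d L86661) (flp_f L81991) L118596
theorem L118602 : sm gj N13919 = N13919 := ded_37_2 (flp_d L118596) L81993 L118596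
theorem L118603 : sm gh N13919 = N9704 := ded_38_2 (flp_d L82931) (flp_h L57421) (flp_d L56788) L81985 L118596
theorem L118605 : sm gi N9592 = N13920 := rfl
theorem L118607 : sm gb N13920 = N9600 := ded_26_1 (flp_i L82052) (flp_b L81987) L118605
theorem L118609 : sm ge N13920 = N9595 := ded_44_1 (flp_i L82009) (flp_e L81989) L118605
theorem L118611 : sm gf N13920 = N10141 := ded_48_1 (flp_i L86669) (flp_f L81991) L118605
theorem L118613 : sm gj N13920 = N13920 := ded_53_1 (flp_i L118605) L81993 L118605
theorem L118614 : sm gh N13920 = N9628 := ded_54_1 (flp_i L82272) (flp_h L56972) (flp_i L56786) L81985 L118605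
theorem L118616 : sm gh N9593 = N13921 := rfl
theorem L118618 : sm gb N13921 = N9601 := ded_25_1 (flp_h L82062) (flp_b L81996) L118616
theorem L118620 : sm gg N13921 = N13921 := ded_50_1 (flp_h L118616) L82002 L118616
theorem L118621 : sm gj N13921 = N9594 := ded_52_1 (flp_h L82003) L81994 L118616
theorem L118623 : sm gi N9594 = N13922 := rfl
theorem L118625 : sm gb N13922 = N9602 := ded_26_1 (flp_i L82068) (flp_b L82005) L118623
theorem L118627 : sm gg N13922 = N9595 := ded_51_1 (flp_i L82009) (flp_g L82007) L118623
theorem L118629 : sm gh N13922 = N9630 := ded_54_1 (flp_i L82289) (flp_h L56988) (flp_i L56798) L82003 L118623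
theorem L118631 : sm gj N9596 = N13923 := rfl
theorem L118633 : sm ga N13923 = N13923 := ded_16_1 (flp_j L118631) L82020 L118631
theorem L118634 : sm gd N13923 = N9708 := ded_37_1 (flp_j L82966) (flp_d L82021) L118631
theorem L118636 : sm gf N13923 = N9597 := ded_46_1 (flp_j L82027) L82018 L118631
theorem L118638 : sm gi N13923 = N9631 := ded_53_2 (flp_j L82296) (flp_i L82023) L118631
theorem L118640 : sm gh N9596 = N13924 := rfl
theorem L118642 : sm ga N13924 = N13924 := ded_17_1 (flp_h L118640) L82020 L118640
theorem L118643 : sm gf N13924 = N9598 := ded_47_1 (flp_h L82037) L82018 L118640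
theorem L118645 : sm gg N13924 = N10145 := ded_50_1 (flp_h L86704) (flp_g L82025) L118640
theorem L118647 : sm gh N9597 = N13925 := rfl
theorem L118649 : sm ga N13925 = N13925 := ded_17_1 (flp_h L118647) L82029 L118647
theorem L118650 : sm ge N13925 = N9601 := ded_43_1 (flp_h L82062) (flp_e L82032) L118647
theorem L118652 : sm gg N13925 = N13925 := ded_50_1 (flp_h L118647) L82036 L118647
theorem L118653 : sm gj N13925 = N9598 := ded_52_1 (flp_h L82037) L82027 L118647
theorem L118655 : sm gd N9598 = N13926 := rfl
theorem L118657 : sm ga N13926 = N13926 := ded_12_1 (flp_d L118655) L82039 L118655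
theorem L118658 : sm gg N13926 = N9599 := ded_36_2 (flp_d L82044) (flp_g L82042) L118655
theorem L118660 : sm gh N13926 = N9711 := ded_38_2 (flp_d L82993) (flp_h L57474) (flp_d L56829) L82037 L118655
theorem L118662 : sm gi N9598 = N13927 := rfl
theorem L118664 : sm ga N13927 = N13927 := ded_18_1 (flp_i L118662) L82039 L118662
theorem L118665 : sm ge N13927 = N9602 := ded_44_1 (flp_i L82068) (flp_e L82040) L118662
theorem L118667 : sm gg N13927 = N9600 := ded_51_1 (flp_i L82052) (flp_g L82042) L118662
theorem L118669 : sm gh N13927 = N9635 := ded_54_1 (flp_i L82326) (flp_h L57018) (flp_i L56833) L82037 L118662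
theorem L118671 : sm gc N9599 = N13928 := rfl
theorem L118673 : sm ga N13928 = N13928 := ded_11_1 (flp_c L118671) L82046 L118671
theorem L118674 : sm gf N13928 = N10149 := ded_29_2 (flp_c L86734) (flp_f L82047) L118671
theorem L118676 : sm gj N13928 = N13928 := ded_31_2 (flp_c L118671) L82049 L118671
theorem L118677 : sm gh N13928 = N9713 := ded_32_2 (flp_c L83008) (flp_h L82050) L118671
theorem L118679 : sm gi N9599 = N13929 := rfl
theorem L118681 : sm ga N13929 = N13929 := ded_18_1 (flp_i L118679) L82046 L118679
theorem L118682 : sm gd N13929 = N9600 := ded_39_1 (flp_i L82052) L82044 L118679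
theorem L118684 : sm gf N13929 = N10150 := ded_48_1 (flp_i L86741) (flp_f L82047) L118679
theorem L118686 : sm gj N13929 = N13929 := ded_53_1 (flp_i L118679) L82049 L118679
theorem L118687 : sm gi N9601 = N13930 := rfl
theorem L118689 : sm ga N13930 = N13930 := ded_18_1 (flp_i L118687) L82064 L118687
theorem L118690 : sm gg N13930 = N13930 := ded_51_1 (flp_i L118687) L82065 L118687
theorem L118691 : sm gj N13930 = N9602 := ded_53_1 (flp_i L82068) (flp_j L82066) L118687
theorem L118693 : sm gh N13930 = N9638 := ded_54_1 (flp_i L82351) (flp_h L57042) (flp_i L56848) L82062 L118687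
theorem L118695 : sm ge N9603 = N13931 := rfl
theorem L118697 : sm gb N13931 = N9605 := ded_21_1 (flp_e L82090) (flp_b L82077) L118695
theorem L118699 : sm gc N13931 = N13931 := ded_28_1 (flp_e L118695) L82079 L118695
theorem L118700 : sm gj N13931 = N13931 := ded_42_2 (flp_e L118695) L82081 L118695
theorem L118701 : sm gf N13931 = N10152 := ded_40_2 (flp_e L86757) (flp_f L60016) (flp_e L56867) L82075 L118695
theorem L118703 : sm gg N9603 = N13932 := rfl
theorem L118705 : sm gb N13932 = N9606 := ded_23_1 (flp_g L82099) (flp_b L82077) L118703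
theorem L118707 : sm gc N13932 = N13932 := ded_30_1 (flp_g L118703) L82079 L118703
theorem L118708 : sm gd N13932 = N13932 := ded_36_1 (flp_g L118703) L82080 L118703
theorem L118709 : sm gh N9603 = N13933 := rfl
theorem L118711 : sm gb N13933 = N9607 := ded_25_1 (flp_h L82106) (flp_b L82077) L118709
theorem L118713 : sm gc N13933 = N13933 := ded_32_1 (flp_h L118709) L82079 L118709
theorem L118714 : sm gf N13933 = N9604 := ded_47_1 (flp_h L82082) L82075 L118709
theorem L118716 : sm gj N13933 = N13933 := ded_52_1 (flp_h L118709) L82081 L118709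
theorem L118717 : sm gd N9604 = N13934 := rfl
theorem L118719 : sm gb N13934 = N9608 := ded_20_1 (flp_d L82115) (flp_b L82084) L118717
theorem L118723 : sm gi N9604 = N13935 := rfl
theorem L118725 : sm gb N13935 = N9609 := ded_26_1 (flp_i L82122) (flp_b L82084) L118723
theorem L118727 : sm gc N13935 = N13935 := ded_33_1 (flp_i L118723) L82086 L118723
theorem L118730 : sm gj N13935 = N13935 := ded_53_1 (flp_i L118723) L82089 L118723
theorem L118731 : sm gd N9605 = N13936 := rfl
theorem L118733 : sm ga N13936 = N9615 := ded_12_1 (flp_d L82175) (flp_a L82092) L118731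
theorem L118735 : sm gf N13936 = N10157 := ded_35_2 (flp_d L86791) (flp_f L82097) L118731
theorem L118737 : sm gj N13936 = N13936 := ded_37_2 (flp_d L118731) L82096 L118731
theorem L118738 : sm gc N13936 = N9721 := ded_27_1 (flp_d L83078) L57538 (flp_d L56894) (flp_c L82094) L118731
theorem L118740 : sm ge N13936 = N13936 := ded_34_2 (flp_d L118731) (flp_e L82090) L56877 L82090 L118731
theorem L118741 : sm gg N9605 = N13937 := rfl
theorem L118743 : sm ga N13937 = N9616 := ded_15_1 (flp_g L82183) (flp_a L82092) L118741
theorem L118745 : sm gc N13937 = N9610 := ded_30_1 (flp_g L82131) (flp_c L82094) L118741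
theorem L118747 : sm ge N13937 = N9606 := ded_41_1 (flp_g L82099) L82090 L118741
theorem L118749 : sm gh N9605 = N13938 := rfl
theorem L118751 : sm ga N13938 = N9617 := ded_17_1 (flp_h L82189) (flp_a L82092) L118749
theorem L118753 : sm gc N13938 = N9611 := ded_32_1 (flp_h L82140) (flp_c L82094) L118749
theorem L118755 : sm ge N13938 = N9607 := ded_43_1 (flp_h L82106) L82090 L118749
theorem L118757 : sm gf N13938 = N10159 := ded_47_1 (flp_h L86808) (flp_f L82097) L118749
theorem L118759 : sm gj N13938 = N13938 := ded_52_1 (flp_h L118749) L82096 L118749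
theorem L118760 : sm gj N9606 = N13939 := rfl
theorem L118762 : sm ga N13939 = N9618 := ded_16_1 (flp_j L82198) (flp_a L82101) L118760
theorem L118764 : sm gc N13939 = N9612 := ded_31_1 (flp_j L82150) (flp_c L82103) L118760
theorem L118766 : sm gd N13939 = N13939 := ded_37_1 (flp_j L118760) L82105 L118760
theorem L118767 : sm gg N13939 = N13939 := ded_49_1 (flp_j L118760) (flp_g L82099) L56878 L82099 L118760
theorem L118768 : sm gh N9606 = N13940 := rfl
theorem L118770 : sm ga N13940 = N9619 := ded_17_1 (flp_h L82204) (flp_a L82101) L118768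
theorem L118772 : sm gc N13940 = N9613 := ded_32_1 (flp_h L82158) (flp_c L82103) L118768
theorem L118774 : sm gg N13940 = N9607 := ded_50_1 (flp_h L82106) L82099 L118768
theorem L118776 : sm gd N9607 = N13941 := rfl
theorem L118778 : sm ga N13941 = N9620 := ded_12_1 (flp_d L82210) (flp_a L82108) L118776
theorem L118780 : sm gf N13941 = N9608 := ded_35_2 (flp_d L82115) (flp_f L82112) L118776
theorem L118782 : sm gj N13941 = N13941 := ded_37_2 (flp_d L118776) L82114 L118776
theorem L118783 : sm gc N13941 = N13941 := ded_27_1 (flp_d L118776) L82110 L56913 (flp_c L82110) L118776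
theorem L118784 : sm gh N13941 = N13941 := ded_38_2 (flp_d L118776) (flp_h L82106) L56877 L82106 L118776
theorem L118785 : sm gi N9607 = N13942 := rfl
theorem L118787 : sm ga N13942 = N9621 := ded_18_1 (flp_i L82217) (flp_a L82108) L118785
theorem L118789 : sm gc N13942 = N9614 := ded_33_1 (flp_i L82166) (flp_c L82110) L118785
theorem L118791 : sm gf N13942 = N9609 := ded_48_1 (flp_i L82122) (flp_f L82112) L118785
theorem L118793 : sm gj N13942 = N13942 := ded_53_1 (flp_i L118785) L82114 L118785
theorem L118794 : sm ge N9608 = N13943 := rfl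
theorem L118796 : sm ga N13943 = N9622 := ded_13_1 (flp_e L82224) (flp_a L82117) L118794
theorem L118801 : sm gd N13943 = N10164 := ded_34_1 (flp_e L86854) (flp_d L60054) (flp_e L56885) L82115 L118794
theorem L118803 : sm gi N9608 = N13944 := rfl
theorem L118805 : sm ga N13944 = N9623 := ded_18_1 (flp_i L82231) (flp_a L82117) L118803
theorem L118807 : sm gc N13944 = N13944 := ded_33_1 (flp_i L118803) L82120 L118803
theorem L118808 : sm gd N13944 = N9609 := ded_39_1 (flp_i L82122) L82115 L118803
theorem L118810 : sm gj N13944 = N13944 := ded_53_1 (flp_i L118803) L82119 L118803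
theorem L118811 : sm gf N9610 = N13945 := rfl
theorem L118813 : sm ga N13945 = N9624 := ded_14_1 (flp_f L82237) (flp_a L82133) L118811
theorem L118815 : sm gb N13945 = N13945 := ded_22_1 (flp_f L118811) L82135 L118811
theorem L118816 : sm gd N13945 = N9729 := ded_35_1 (flp_f L83151) (flp_d L82136) L118811
theorem L118818 : sm gg N13945 = N10166 := ded_45_2 (flp_f L86872) (flp_g L60070) (flp_f L56896) L82131 L118811
theorem L118820 : sm gj N9610 = N13946 := rfl
theorem L118822 : sm ga N13946 = N9625 := ded_16_1 (flp_j L82245) (flp_a L82133) L118820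
theorem L118824 : sm gb N13946 = N13946 := ded_24_1 (flp_j L118820) L82135 L118820
theorem L118825 : sm gd N13946 = N9730 := ded_37_1 (flp_j L83159) (flp_d L82136) L118820
theorem L118827 : sm ge N13946 = N9612 := ded_42_1 (flp_j L82150) (flp_e L82138) L118820
theorem L118829 : sm gg N13946 = N13946 := ded_49_1 (flp_j L118820) (flp_g L82131) L56893 L82131 L118820
theorem L118830 : sm gh N9610 = N13947 := rfl
theorem L118832 : sm ga N13947 = N9626 := ded_17_1 (flp_h L82254) (flp_a L82133) L118830
theorem L118834 : sm gb N13947 = N13947 := ded_25_1 (flp_h L118830) L82135 L118830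
theorem L118835 : sm ge N13947 = N9613 := ded_43_1 (flp_h L82158) (flp_e L82138) L118830
theorem L118837 : sm gg N13947 = N9611 := ded_50_1 (flp_h L82140) L82131 L118830
theorem L118839 : sm gd N9611 = N13948 := rfl
theorem L118841 : sm ga N13948 = N9627 := ded_12_1 (flp_d L82262) (flp_a L82142) L118839
theorem L118843 : sm gb N13948 = N13948 := ded_20_1 (flp_d L118839) L82144 L118839
theorem L118844 : sm gf N13948 = N10169 := ded_35_2 (flp_d L86898) (flp_f L82147) L118839
theorem L118846 : sm gj N13948 = N13948 := ded_37_2 (flp_d L118839) L82149 L118839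
theorem L118847 : sm ge N13948 = N13948 := ded_34_2 (flp_d L118839) L82145 L56913 (flp_e L82145) L118839
theorem L118848 : sm gh N13948 = N9732 := ded_38_2 (flp_d L83176) (flp_h L57586) (flp_d L56894) L82140 L118839
theorem L118850 : sm gi N9611 = N13949 := rfl
theorem L118852 : sm ga N13949 = N9628 := ded_18_1 (flp_i L82272) (flp_a L82142) L118850
theorem L118854 : sm gb N13949 = N13949 := ded_26_1 (flp_i L118850) L82144 L118850
theorem L118855 : sm ge N13949 = N9614 := ded_44_1 (flp_i L82166) (flp_e L82145) L118850
theorem L118857 : sm gf N13949 = N10170 := ded_48_1 (flp_i L86908) (flp_f L82147) L118850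
theorem L118859 : sm gj N13949 = N13949 := ded_53_1 (flp_i L118850) L82149 L118850
theorem L118860 : sm gh N9612 = N13950 := rfl
theorem L118862 : sm ga N13950 = N9629 := ded_17_1 (flp_h L82281) (flp_a L82152) L118860
theorem L118864 : sm gb N13950 = N13950 := ded_25_1 (flp_h L118860) L82154 L118860
theorem L118865 : sm gg N13950 = N13950 := ded_50_1 (flp_h L118860) L82157 L118860
theorem L118866 : sm gj N13950 = N9613 := ded_52_1 (flp_h L82158) L82150 L118860
theorem L118868 : sm gd N13950 = N13950 := ded_38_1 (flp_h L118860) L82155 L56931 (flp_d L82155) L118860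
theorem L118869 : sm gi N9613 = N13951 := rfl
theorem L118871 : sm ga N13951 = N9630 := ded_18_1 (flp_i L82289) (flp_a L82160) L118869
theorem L118873 : sm gb N13951 = N13951 := ded_26_1 (flp_i L118869) L82162 L118869
theorem L118874 : sm gd N13951 = N13951 := ded_39_1 (flp_i L118869) L82165 L118869
theorem L118875 : sm gg N13951 = N9614 := ded_51_1 (flp_i L82166) (flp_g L82163) L118869
theorem L118877 : sm gg N9615 = N13952 := rfl
theorem L118879 : sm gc N13952 = N9736 := ded_30_1 (flp_g L83214) (flp_c L82180) L118877
theorem L118881 : sm gd N13952 = N9616 := ded_36_1 (flp_g L82183) L82175 L118877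
theorem L118883 : sm ge N13952 = N13952 := ded_41_1 (flp_g L118877) L82182 L118877
theorem L118884 : sm gh N9615 = N13953 := rfl
theorem L118886 : sm gc N13953 = N9737 := ded_32_1 (flp_h L83220) (flp_c L82180) L118884
theorem L118888 : sm ge N13953 = N13953 := ded_43_1 (flp_h L118884) L82182 L118884
theorem L118889 : sm gf N13953 = N10174 := ded_47_1 (flp_h L86943) (flp_f L82177) L118884
theorem L118891 : sm gj N13953 = N13953 := ded_52_1 (flp_h L118884) L82179 L118884
theorem L118892 : sm gf N9616 = N13954 := rfl
theorem L118894 : sm gc N13954 = N9624 := ded_29_1 (flp_f L82237) (flp_c L82185) L118892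
theorem L118896 : sm gg N13954 = N10175 := ded_45_2 (flp_f L86950) (flp_g L60121) (flp_f L56938) L82183 L118892
theorem L118898 : sm gj N9616 = N13955 := rfl
theorem L118900 : sm gc N13955 = N9625 := ded_31_1 (flp_j L82245) (flp_c L82185) L118898
theorem L118902 : sm ge N13955 = N9618 := ded_42_1 (flp_j L82198) (flp_e L82187) L118898
theorem L118904 : sm gg N13955 = N13955 := ded_49_1 (flp_j L118898) (flp_g L82183) L56937 L82183 L118898
theorem L118905 : sm gh N9616 = N13956 := rfl
theorem L118907 : sm gc N13956 = N9626 := ded_32_1 (flp_h L82254) (flp_c L82185) L118905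
theorem L118909 : sm ge N13956 = N9619 := ded_43_1 (flp_h L82204) (flp_e L82187) L118905
theorem L118911 : sm gg N13956 = N9617 := ded_50_1 (flp_h L82189) L82183 L118905
theorem L118913 : sm gd N9617 = N13957 := rfl
theorem L118915 : sm gf N13957 = N10178 := ded_35_2 (flp_d L86969) (flp_f L82195) L118913
theorem L118917 : sm gj N13957 = N13957 := ded_37_2 (flp_d L118913) L82197 L118913
theorem L118918 : sm gi N9617 = N13958 := rfl
theorem L118920 : sm gc N13958 = N9628 := ded_33_1 (flp_i L82272) (flp_c L82191) L118918
theorem L118922 : sm ge N13958 = N9621 := ded_44_1 (flp_i L82217) (flp_e L82193) L118918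
theorem L118924 : sm gf N13958 = N10179 := ded_48_1 (flp_i L86972) (flp_f L82195) L118918
theorem L118926 : sm gj N13958 = N13958 := ded_53_1 (flp_i L118918) L82197 L118918
theorem L118927 : sm gh N9618 = N13959 := rfl
theorem L118929 : sm gc N13959 = N9629 := ded_32_1 (flp_h L82281) (flp_c L82200) L118927
theorem L118931 : sm gg N13959 = N13959 := ded_50_1 (flp_h L118927) L82203 L118927
theorem L118932 : sm gj N13959 = N9619 := ded_52_1 (flp_h L82204) L82198 L118927
theorem L118934 : sm gd N9619 = N13960 := rfl
theorem L118936 : sm gg N13960 = N9620 := ded_36_2 (flp_d L82210) (flp_g L82208) L118934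
theorem L118938 : sm gc N13960 = N13960 := ded_27_1 (flp_d L118934) L82206 L56994 (flp_c L82206) L118934
theorem L118939 : sm gh N13960 = N13960 := ded_38_2 (flp_d L118934) (flp_h L82204) L56944 L82204 L118934
theorem L118940 : sm gi N9619 = N13961 := rfl
theorem L118942 : sm gc N13961 = N9630 := ded_33_1 (flp_i L82289) (flp_c L82206) L118940
theorem L118944 : sm gg N13961 = N9621 := ded_51_1 (flp_i L82217) (flp_g L82208) L118940
theorem L118946 : sm ge N9620 = N13962 := rfl
theorem L118948 : sm gc N13962 = N13962 := ded_28_1 (flp_e L118946) L82215 L118946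
theorem L118949 : sm gj N13962 = N13962 := ded_42_2 (flp_e L118946) L82214 L118946
theorem L118950 : sm gh N13962 = N13962 := ded_43_2 (flp_e L118946) L82216 L118946
theorem L118951 : sm gi N9620 = N13963 := rfl
theorem L118953 : sm gc N13963 = N13963 := ded_33_1 (flp_i L118951) L82215 L118951
theorem L118954 : sm gd N13963 = N9621 := ded_39_1 (flp_i L82217) L82210 L118951
theorem L118956 : sm gf N13963 = N9623 := ded_48_1 (flp_i L82231) (flp_f L82212) L118951
theorem L118958 : sm gj N13963 = N13963 := ded_53_1 (flp_i L118951) L82214 L118951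
theorem L118959 : sm gf N9622 = N13964 := rfl
theorem L118961 : sm gc N13964 = N13964 := ded_29_1 (flp_f L118959) L82226 L118959
theorem L118962 : sm gd N13964 = N10185 := ded_35_1 (flp_f L87016) (flp_d L82229) L118959
theorem L118964 : sm gj N13964 = N13964 := ded_46_2 (flp_f L118959) L82227 L118959
theorem L118965 : sm gh N13964 = N13964 := ded_47_2 (flp_f L118959) L82228 L118959
theorem L118966 : sm gi N9622 = N13965 := rfl
theorem L118968 : sm gc N13965 = N13965 := ded_33_1 (flp_i L118966) L82226 L118966
theorem L118969 : sm gd N13965 = N10186 := ded_39_1 (flp_i L87023) (flp_d L82229) L118966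
theorem L118971 : sm ge N13965 = N9623 := ded_44_1 (flp_i L82231) L82224 L118966
theorem L118973 : sm gj N13965 = N13965 := ded_53_1 (flp_i L118966) L82227 L118966
theorem L118974 : sm gh N9623 = N13966 := rfl
theorem L118976 : sm gc N13966 = N13966 := ded_32_1 (flp_h L118974) L82233 L118974
theorem L118977 : sm gj N13966 = N13966 := ded_52_1 (flp_h L118974) L82236 L118974
theorem L118978 : sm gi N13966 = N13966 := ded_54_2 (flp_h L118974) (flp_i L82231) L56956 L82231 L118974
theorem L118979 : sm gj N9624 = N13967 := rfl
theorem L118981 : sm gb N13967 = N9631 := ded_24_1 (flp_j L82296) (flp_b L82239) L118979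
theorem L118983 : sm gd N13967 = N9749 := ded_37_1 (flp_j L83317) (flp_d L82241) L118979
theorem L118985 : sm gf N13967 = N9625 := ded_46_1 (flp_j L82245) L82237 L118979
theorem L118987 : sm gh N9624 = N13968 := rfl
theorem L118989 : sm gb N13968 = N9632 := ded_25_1 (flp_h L82303) (flp_b L82239) L118987
theorem L118991 : sm gf N13968 = N9626 := ded_47_1 (flp_h L82254) L82237 L118987
theorem L118993 : sm gg N13968 = N10189 := ded_50_1 (flp_h L87045) (flp_g L82243) L118987
theorem L118995 : sm gh N9625 = N13969 := rfl
theorem L118997 : sm gb N13969 = N9633 := ded_25_1 (flp_h L82310) (flp_b L82247) L118995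
theorem L118999 : sm ge N13969 = N9629 := ded_43_1 (flp_h L82281) (flp_e L82251) L118995
theorem L119001 : sm gg N13969 = N13969 := ded_50_1 (flp_h L118995) L82253 L118995
theorem L119002 : sm gj N13969 = N9626 := ded_52_1 (flp_h L82254) L82245 L118995
theorem L119004 : sm gd N9626 = N13970 := rfl
theorem L119006 : sm gb N13970 = N9634 := ded_20_1 (flp_d L82318) (flp_b L82256) L119004
theorem L119008 : sm gg N13970 = N9627 := ded_36_2 (flp_d L82262) (flp_g L82260) L119004
theorem L119010 : sm ge N13970 = N13970 := ded_34_2 (flp_d L119004) L82258 L56994 (flp_e L82258) L119004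
theorem L119011 : sm gh N13970 = N9752 := ded_38_2 (flp_d L83342) (flp_h L57702) (flp_d L56968) L82254 L119004
theorem L119013 : sm gi N9626 = N13971 := rfl
theorem L119015 : sm gb N13971 = N9635 := ded_26_1 (flp_i L82326) (flp_b L82256) L119013
theorem L119017 : sm ge N13971 = N9630 := ded_44_1 (flp_i L82289) (flp_e L82258) L119013
theorem L119019 : sm gg N13971 = N9628 := ded_51_1 (flp_i L82272) (flp_g L82260) L119013
theorem L119021 : sm gc N9627 = N13972 := rfl
theorem L119023 : sm ge N13972 = N13972 := ded_28_2 (flp_c L119021) L82269 L119021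
theorem L119024 : sm gf N13972 = N10193 := ded_29_2 (flp_c L87078) (flp_f L82266) L119021
theorem L119026 : sm gj N13972 = N13972 := ded_31_2 (flp_c L119021) L82268 L119021
theorem L119027 : sm gh N13972 = N9754 := ded_32_2 (flp_c L83357) (flp_h L82270) L119021
theorem L119029 : sm gi N9627 = N13973 := rfl
theorem L119031 : sm gb N13973 = N9637 := ded_26_1 (flp_i L82342) (flp_b L82264) L119029
theorem L119033 : sm gd N13973 = N9628 := ded_39_1 (flp_i L82272) L82262 L119029
theorem L119035 : sm ge N13973 = N13973 := ded_44_1 (flp_i L119029) L82269 L119029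
theorem L119036 : sm gf N13973 = N10194 := ded_48_1 (flp_i L87085) (flp_f L82266) L119029
theorem L119038 : sm gj N13973 = N13973 := ded_53_1 (flp_i L119029) L82268 L119029
theorem L119039 : sm gi N9629 = N13974 := rfl
theorem L119041 : sm gb N13974 = N9638 := ded_26_1 (flp_i L82351) (flp_b L82283) L119039
theorem L119043 : sm gd N13974 = N13974 := ded_39_1 (flp_i L119039) L82288 L119039
theorem L119044 : sm gg N13974 = N13974 := ded_51_1 (flp_i L119039) L82285 L119039
theorem L119045 : sm gj N13974 = N9630 := ded_53_1 (flp_i L82289) (flp_j L82286) L119039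
theorem L119047 : sm gg N9631 = N13975 := rfl
theorem L119049 : sm ga N13975 = N13975 := ded_15_1 (flp_g L119047) L82298 L119047
theorem L119050 : sm gd N13975 = N9757 := ded_36_1 (flp_g L83382) (flp_d L82299) L119047
theorem L119052 : sm gf N13975 = N13975 := ded_45_1 (flp_g L119047) L82301 L57017 (flp_f L82301) L119047
theorem L119053 : sm gj N13975 = N10196 := ded_49_2 (flp_g L87103) (flp_j L60233) (flp_g L57008) L82296 L119047
theorem L119055 : sm gh N9631 = N13976 := rfl
theorem L119057 : sm ga N13976 = N13976 := ded_17_1 (flp_h L119055) L82298 L119055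
theorem L119058 : sm gf N13976 = N9633 := ded_47_1 (flp_h L82310) (flp_f L82301) L119055
theorem L119060 : sm gj N13976 = N9632 := ded_52_1 (flp_h L82303) L82296 L119055
theorem L119062 : sm gd N9632 = N13977 := rfl
theorem L119064 : sm ga N13977 = N13977 := ded_12_1 (flp_d L119062) L82305 L119062
theorem L119065 : sm gf N13977 = N9634 := ded_35_2 (flp_d L82318) (flp_f L82306) L119062
theorem L119067 : sm gg N13977 = N10198 := ded_36_2 (flp_d L87116) (flp_g L82308) L119062
theorem L119069 : sm gh N13977 = N9759 := ded_38_2 (flp_d L83399) (flp_h L57751) (flp_d L57006) L82303 L119062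
theorem L119071 : sm gi N9632 = N13978 := rfl
theorem L119073 : sm ga N13978 = N13978 := ded_18_1 (flp_i L119071) L82305 L119071
theorem L119074 : sm gf N13978 = N9635 := ded_48_1 (flp_i L82326) (flp_f L82306) L119071
theorem L119076 : sm gg N13978 = N10199 := ded_51_1 (flp_i L87123) (flp_g L82308) L119071
theorem L119078 : sm gd N9633 = N13979 := rfl
theorem L119080 : sm ga N13979 = N13979 := ded_12_1 (flp_d L119078) L82312 L119078
theorem L119081 : sm gg N13979 = N13979 := ded_36_2 (flp_d L119078) L82315 L119078
theorem L119082 : sm gj N13979 = N9634 := ded_37_2 (flp_d L82318) (flp_j L82316) L119078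
theorem L119084 : sm ge N13979 = N13979 := ded_34_2 (flp_d L119078) L82313 L57048 (flp_e L82313) L119078
theorem L119085 : sm gh N13979 = N9761 := ded_38_2 (flp_d L83415) (flp_h L57760) (flp_d L57013) L82310 L119078
theorem L119087 : sm gi N9633 = N13980 := rfl
theorem L119089 : sm ga N13980 = N13980 := ded_18_1 (flp_i L119087) L82312 L119087
theorem L119090 : sm ge N13980 = N9638 := ded_44_1 (flp_i L82351) (flp_e L82313) L119087
theorem L119092 : sm gg N13980 = N13980 := ded_51_1 (flp_i L119087) L82315 L119087
theorem L119093 : sm gj N13980 = N9635 := ded_53_1 (flp_i L82326) (flp_j L82316) L119087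
theorem L119095 : sm gc N9634 = N13981 := rfl
theorem L119097 : sm ga N13981 = N13981 := ded_11_1 (flp_c L119095) L82320 L119095
theorem L119098 : sm ge N13981 = N13981 := ded_28_2 (flp_c L119095) L82323 L119095
theorem L119099 : sm gg N13981 = N9636 := ded_30_2 (flp_c L82333) (flp_g L82321) L119095
theorem L119101 : sm gh N13981 = N9763 := ded_32_2 (flp_c L83431) (flp_h L82324) L119095
theorem L119103 : sm gi N9634 = N13982 := rfl
theorem L119105 : sm ga N13982 = N13982 := ded_18_1 (flp_i L119103) L82320 L119103
theorem L119106 : sm gd N13982 = N9635 := ded_39_1 (flp_i L82326) L82318 L119103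
theorem L119108 : sm ge N13982 = N13982 := ded_44_1 (flp_i L119103) L82323 L119103
theorem L119109 : sm gg N13982 = N9637 := ded_51_1 (flp_i L82342) (flp_g L82321) L119103
theorem L119111 : sm gb N9636 = N13983 := rfl
theorem L119113 : sm ge N13983 = N13983 := ded_21_2 (flp_b L119111) L82336 L119111
theorem L119114 : sm gf N13983 = N10204 := ded_22_2 (flp_b L87164) (flp_f L82337) L119111
theorem L119116 : sm gj N13983 = N13983 := ded_24_2 (flp_b L119111) L82339 L119111
theorem L119117 : sm gh N13983 = N9765 := ded_25_2 (flp_b L83446) (flp_h L82340) L119111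
theorem L119119 : sm gi N9636 = N13984 := rfl
theorem L119121 : sm ga N13984 = N13984 := ded_18_1 (flp_i L119119) L82335 L119119
theorem L119122 : sm gc N13984 = N9637 := ded_33_1 (flp_i L82342) L82333 L119119
theorem L119124 : sm ge N13984 = N13984 := ded_44_1 (flp_i L119119) L82336 L119119
theorem L119125 : sm gf N13984 = N10205 := ded_48_1 (flp_i L87171) (flp_f L82337) L119119
theorem L119127 : sm gj N13984 = N13984 := ded_53_1 (flp_i L119119) L82339 L119119
theorem L119128 : sm gh N9637 = N13985 := rfl
theorem L119130 : sm ga N13985 = N13985 := ded_17_1 (flp_h L119128) L82344 L119128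
theorem L119131 : sm ge N13985 = N13985 := ded_43_1 (flp_h L119128) L82347 L119128
theorem L119132 : sm gf N13985 = N10206 := ded_47_1 (flp_h L87179) (flp_f L82348) L119128
theorem L119134 : sm gj N13985 = N13985 := ded_52_1 (flp_h L119128) L82350 L119128
theorem L119135 : sm gi N13985 = N9767 := ded_54_2 (flp_h L83463) (flp_i L57791) (flp_h L57032) L82342 L119128
theorem L119147 : sm gf N9639 = N13987 := rfl
theorem L119149 : sm ga N13987 = N9643 := ded_14_1 (flp_f L82395) (flp_a L82360) L119147
theorem L119151 : sm gc N13987 = N9640 := ded_29_1 (flp_f L82367) L82358 L119147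
theorem L119165 : sm ge N9640 = N13989 := rfl
theorem L119167 : sm ga N13989 = N9645 := ded_13_1 (flp_e L82413) (flp_a L82369) L119165
theorem L119169 : sm gb N13989 = N13989 := ded_21_1 (flp_e L119165) L82371 L119165
theorem L119174 : sm gg N9640 = N13990 := rfl
theorem L119176 : sm ga N13990 = N9646 := ded_15_1 (flp_g L82421) (flp_a L82369) L119174
theorem L119179 : sm gd N13990 = N9642 := ded_36_1 (flp_g L82385) (flp_d L82372) L119174
theorem L119183 : sm gh N9640 = N13991 := rfl
theorem L119185 : sm ga N13991 = N9647 := ded_17_1 (flp_h L82429) (flp_a L82369) L119183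
theorem L119202 : sm gj N9642 = N13993 := rfl
theorem L119204 : sm ga N13993 = N9649 := ded_16_1 (flp_j L82446) (flp_a L82387) L119202
theorem L119213 : sm ge N9643 = N13994 := rfl
theorem L119215 : sm gb N13994 = N9663 := ded_21_1 (flp_e L82578) (flp_b L82397) L119213
theorem L119217 : sm gc N13994 = N9645 := ded_28_1 (flp_e L82413) (flp_c L82399) L119213
theorem L119222 : sm gg N9643 = N13995 := rfl
theorem L119224 : sm gb N13995 = N9664 := ded_23_1 (flp_g L82585) (flp_b L82397) L119222
theorem L119226 : sm gc N13995 = N9646 := ded_30_1 (flp_g L82421) (flp_c L82399) L119222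
theorem L119230 : sm gf N13995 = N13995 := ded_45_1 (flp_g L119222) (flp_f L82395) L57077 L82395 L119222
theorem L119231 : sm gh N9643 = N13996 := rfl
theorem L119233 : sm gb N13996 = N9665 := ded_25_1 (flp_h L82592) (flp_b L82397) L119231
theorem L119237 : sm gf N13996 = N9644 := ded_47_1 (flp_h L82404) L82395 L119231
theorem L119240 : sm gd N9644 = N13997 := rfl
theorem L119242 : sm gb N13997 = N9666 := ded_20_1 (flp_d L82599) (flp_b L82406) L119240
theorem L119244 : sm gg N13997 = N13997 := ded_36_2 (flp_d L119240) L82411 L119240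
theorem L119248 : sm gi N9644 = N13998 := rfl
theorem L119252 : sm gc N13998 = N9648 := ded_33_1 (flp_i L82437) (flp_c L82408) L119248
theorem L119258 : sm gg N9645 = N13999 := rfl
theorem L119260 : sm gb N13999 = N9650 := ded_23_1 (flp_g L82456) (flp_b L82415) L119258
theorem L119263 : sm ge N13999 = N9646 := ded_41_1 (flp_g L82421) L82413 L119258
theorem L119266 : sm gh N9645 = N14000 := rfl
theorem L119268 : sm gb N14000 = N9651 := ded_25_1 (flp_h L82465) (flp_b L82415) L119266
theorem L119270 : sm ge N14000 = N9647 := ded_43_1 (flp_h L82429) L82413 L119266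
theorem L119274 : sm gj N9646 = N14001 := rfl
theorem L119276 : sm gb N14001 = N9652 := ded_24_1 (flp_j L82474) (flp_b L82423) L119274
theorem L119278 : sm gd N14001 = N9649 := ded_37_1 (flp_j L82446) (flp_d L82425) L119274
theorem L119283 : sm gh N9646 = N14002 := rfl
theorem L119288 : sm gg N14002 = N9647 := ded_50_1 (flp_h L82429) L82421 L119283
theorem L119291 : sm gi N9647 = N14003 := rfl
theorem L119293 : sm gb N14003 = N9654 := ded_26_1 (flp_i L82493) (flp_b L82431) L119291
theorem L119296 : sm gf N14003 = N9648 := ded_48_1 (flp_i L82437) (flp_f L82433) L119291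
theorem L119300 : sm gf N9650 = N14004 := rfl
theorem L119302 : sm ga N14004 = N14004 := ded_14_1 (flp_f L119300) L82458 L119300
theorem L119303 : sm gc N14004 = N9673 := ded_29_1 (flp_f L82657) (flp_c L82459) L119300
theorem L119305 : sm gd N14004 = N14004 := ded_35_1 (flp_f L119300) L82461 L119300
theorem L119306 : sm gi N14004 = N14004 := ded_48_2 (flp_f L119300) L82464 L119300
theorem L119307 : sm ge N14004 = N14004 := ded_40_1 (flp_f L119300) L82462 L57125 (flp_e L82462) L119300
theorem L119308 : sm gg N14004 = N14004 := ded_45_2 (flp_f L119300) (flp_g L82456) L57116 L82456 L119300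
theorem L119309 : sm gj N9650 = N14005 := rfl
theorem L119311 : sm ga N14005 = N14005 := ded_16_1 (flp_j L119309) L82458 L119309
theorem L119312 : sm gc N14005 = N9674 := ded_31_1 (flp_j L82663) (flp_c L82459) L119309
theorem L119314 : sm gd N14005 = N14005 := ded_37_1 (flp_j L119309) L82461 L119309
theorem L119315 : sm ge N14005 = N9652 := ded_42_1 (flp_j L82474) (flp_e L82462) L119309
theorem L119317 : sm gi N14005 = N14005 := ded_53_2 (flp_j L119309) L82464 L119309
theorem L119318 : sm gg N14005 = N14005 := ded_49_1 (flp_j L119309) (flp_g L82456) L57113 L82456 L119309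
theorem L119319 : sm gh N9650 = N14006 := rfl
theorem L119322 : sm gc N14006 = N9675 := ded_32_1 (flp_h L82670) (flp_c L82459) L119319
theorem L119324 : sm ge N14006 = N9653 := ded_43_1 (flp_h L82484) (flp_e L82462) L119319
theorem L119326 : sm gg N14006 = N9651 := ded_50_1 (flp_h L82465) L82456 L119319
theorem L119328 : sm gd N9651 = N14007 := rfl
theorem L119335 : sm gi N9651 = N14008 := rfl
theorem L119345 : sm gh N9652 = N14009 := rfl
theorem L119365 : sm gf N9655 = N14011 := rfl
theorem L119367 : sm gb N14011 = N9656 := ded_22_1 (flp_f L82511) L82503 L119365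
theorem L119369 : sm gc N14011 = N14011 := ded_29_1 (flp_f L119365) L82510 L119365
theorem L119373 : sm gh N9655 = N14012 := rfl
theorem L119375 : sm gb N14012 = N9657 := ded_25_1 (flp_h L82520) L82503 L119373
theorem L119381 : sm ge N9656 = N14013 := rfl
theorem L119383 : sm ga N14013 = N9663 := ded_13_1 (flp_e L82578) (flp_a L82513) L119381
theorem L119385 : sm gc N14013 = N9658 := ded_28_1 (flp_e L82529) (flp_c L82515) L119381
theorem L119390 : sm gg N9656 = N14014 := rfl
theorem L119394 : sm gc N14014 = N9659 := ded_30_1 (flp_g L82537) (flp_c L82515) L119390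
theorem L119399 : sm gh N9656 = N14015 := rfl
theorem L119405 : sm gf N14015 = N9657 := ded_47_1 (flp_h L82520) L82511 L119399
theorem L119408 : sm gd N9657 = N14016 := rfl
theorem L119414 : sm gc N14016 = N9685 := ded_27_1 (flp_d L82760) L57314 (flp_d L57181) (flp_c L82524) L119408
theorem L119427 : sm gg N9658 = N14018 := rfl
theorem L119429 : sm ga N14018 = N9668 := ded_15_1 (flp_g L82614) (flp_a L82531) L119427
theorem L119435 : sm gh N9658 = N14019 := rfl
theorem L119437 : sm ga N14019 = N9669 := ded_17_1 (flp_h L82621) (flp_a L82531) L119435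
theorem L119440 : sm ge N14019 = N9660 := ded_43_1 (flp_h L82546) L82529 L119435
theorem L119475 : sm gd N9663 = N14023 := rfl
theorem L119481 : sm gg N9663 = N14024 := rfl
theorem L119483 : sm gc N14024 = N9668 := ded_30_1 (flp_g L82614) (flp_c L82580) L119481
theorem L119488 : sm gh N9663 = N14025 := rfl
theorem L119490 : sm gc N14025 = N9669 := ded_32_1 (flp_h L82621) (flp_c L82580) L119488
theorem L119492 : sm ge N14025 = N9665 := ded_43_1 (flp_h L82592) L82578 L119488
theorem L119511 : sm gd N9665 = N14028 := rfl
theorem L119519 : sm gi N9665 = N14029 := rfl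
theorem L119521 : sm gc N14029 = N9672 := ded_33_1 (flp_i L82647) (flp_c L82594) L119519
theorem L119527 : sm ge N9666 = N14030 := rfl
theorem L119529 : sm gc N14030 = N9699 := ded_28_1 (flp_e L82890) (flp_c L82603) L119527
theorem L119543 : sm gf N9668 = N14032 := rfl
theorem L119545 : sm gb N14032 = N9673 := ded_22_1 (flp_f L82657) (flp_b L82616) L119543
theorem L119547 : sm gi N14032 = N14032 := ded_48_2 (flp_f L119543) L82620 L119543
theorem L119548 : sm ge N14032 = N14032 := ded_40_1 (flp_f L119543) L82618 L57221 (flp_e L82618) L119543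
theorem L119549 : sm gg N14032 = N14032 := ded_45_2 (flp_f L119543) (flp_g L82614) L57213 L82614 L119543
theorem L119550 : sm gj N9668 = N14033 := rfl
theorem L119552 : sm gb N14033 = N9674 := ded_24_1 (flp_j L82663) (flp_b L82616) L119550
theorem L119554 : sm ge N14033 = N9670 := ded_42_1 (flp_j L82629) (flp_e L82618) L119550
theorem L119556 : sm gi N14033 = N14033 := ded_53_2 (flp_j L119550) L82620 L119550
theorem L119557 : sm gg N14033 = N14033 := ded_49_1 (flp_j L119550) (flp_g L82614) L57211 L82614 L119550
theorem L119558 : sm gh N9668 = N14034 := rfl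
theorem L119560 : sm gb N14034 = N9675 := ded_25_1 (flp_h L82670) (flp_b L82616) L119558
theorem L119562 : sm ge N14034 = N9671 := ded_43_1 (flp_h L82638) (flp_e L82618) L119558
theorem L119564 : sm gg N14034 = N9669 := ded_50_1 (flp_h L82621) L82614 L119558
theorem L119566 : sm gd N9669 = N14035 := rfl
theorem L119568 : sm gb N14035 = N9676 := ded_20_1 (flp_d L82677) (flp_b L82623) L119566
theorem L119572 : sm ge N14035 = N9704 := ded_34_2 (flp_d L82931) L57425 (flp_d L57229) (flp_e L82625) L119566
theorem L119574 : sm gi N9669 = N14036 := rfl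
theorem L119578 : sm ge N14036 = N9672 := ded_44_1 (flp_i L82647) (flp_e L82625) L119574
theorem L119583 : sm gh N9670 = N14037 := rfl
theorem L119591 : sm gd N14037 = N9706 := ded_38_1 (flp_h L82949) L57434 (flp_h L57247) (flp_d L82633) L119583
theorem L119603 : sm gj N9673 = N14039 := rfl
theorem L119605 : sm ga N14039 = N14039 := ded_16_1 (flp_j L119603) L82659 L119603
theorem L119606 : sm ge N14039 = N14039 := ded_42_1 (flp_j L119603) L82661 L119603
theorem L119607 : sm gf N14039 = N9674 := ded_46_1 (flp_j L82663) L82657 L119603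
theorem L119609 : sm gi N14039 = N14039 := ded_53_2 (flp_j L119603) L82660 L119603
theorem L119610 : sm gh N9673 = N14040 := rfl
theorem L119612 : sm ga N14040 = N14040 := ded_17_1 (flp_h L119610) L82659 L119610
theorem L119613 : sm ge N14040 = N14040 := ded_43_1 (flp_h L119610) L82661 L119610
theorem L119614 : sm gf N14040 = N9675 := ded_47_1 (flp_h L82670) L82657 L119610
theorem L119616 : sm gg N14040 = N14040 := ded_50_1 (flp_h L119610) L82662 L119610
theorem L119617 : sm gh N9674 = N14041 := rfl
theorem L119619 : sm ga N14041 = N14041 := ded_17_1 (flp_h L119617) L82665 L119617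
theorem L119620 : sm ge N14041 = N9678 := ded_43_1 (flp_h L82692) (flp_e L82666) L119617
theorem L119622 : sm gg N14041 = N14041 := ded_50_1 (flp_h L119617) L82669 L119617
theorem L119623 : sm gj N14041 = N9675 := ded_52_1 (flp_h L82670) L82663 L119617
theorem L119625 : sm gd N9675 = N14042 := rfl
theorem L119627 : sm ga N14042 = N14042 := ded_12_1 (flp_d L119625) L82672 L119625
theorem L119628 : sm gg N14042 = N9676 := ded_36_2 (flp_d L82677) (flp_g L82675) L119625
theorem L119630 : sm ge N14042 = N9711 := ded_34_2 (flp_d L82993) L57478 (flp_d L57278) (flp_e L82673) L119625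
theorem L119632 : sm gi N9675 = N14043 := rfl
theorem L119640 : sm gc N9676 = N14044 := rfl
theorem L119642 : sm ga N14044 = N14044 := ded_11_1 (flp_c L119640) L82679 L119640
theorem L119643 : sm ge N14044 = N9713 := ded_28_2 (flp_c L83008) (flp_e L82682) L119640
theorem L119645 : sm gf N14044 = N14044 := ded_29_2 (flp_c L119640) L82680 L119640
theorem L119646 : sm gj N14044 = N14044 := ded_31_2 (flp_c L119640) L82681 L119640
theorem L119647 : sm gi N9676 = N14045 := rfl
theorem L119649 : sm ga N14045 = N14045 := ded_18_1 (flp_i L119647) L82679 L119647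
theorem L119652 : sm ge N14045 = N9714 := ded_44_1 (flp_i L83015) (flp_e L82682) L119647
theorem L119654 : sm gf N14045 = N14045 := ded_48_1 (flp_i L119647) L82680 L119647
theorem L119656 : sm gi N9678 = N14046 := rfl
theorem L119659 : sm gd N14046 = N9715 := ded_39_1 (flp_i L83023) (flp_d L82699) L119656
theorem L119666 : sm ge N9680 = N14047 := rfl
theorem L119669 : sm gb N14047 = N9682 := ded_21_1 (flp_e L82730) (flp_b L82713) L119666
theorem L119673 : sm gi N14047 = N9716 := ded_44_2 (flp_e L83033) (flp_i L82718) L119666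
theorem L119677 : sm gg N9680 = N14048 := rfl
theorem L119680 : sm gb N14048 = N9683 := ded_23_1 (flp_g L82741) (flp_b L82713) L119677
theorem L119684 : sm gi N14048 = N9717 := ded_51_2 (flp_g L83042) (flp_i L82718) L119677
theorem L119687 : sm gh N9680 = N14049 := rfl
theorem L119693 : sm gf N14049 = N9681 := ded_47_1 (flp_h L82720) L82710 L119687
theorem L119696 : sm gd N9681 = N14050 := rfl
theorem L119699 : sm gb N14050 = N9685 := ded_20_1 (flp_d L82760) (flp_b L82723) L119696
theorem L119704 : sm gi N9681 = N14051 := rfl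
theorem L119714 : sm gh N14051 = N9720 := ded_54_1 (flp_i L83068) (flp_h L57524) (flp_i L57296) L82720 L119704
theorem L119716 : sm gd N9682 = N14052 := rfl
theorem L119718 : sm ga N14052 = N9692 := ded_12_1 (flp_d L82827) (flp_a L82732) L119716
theorem L119720 : sm gf N14052 = N10212 := ded_35_2 (flp_d L87235) (flp_f L82739) L119716
theorem L119723 : sm gi N14052 = N9721 := ded_39_2 (flp_d L83078) (flp_i L82737) L119716
theorem L119726 : sm gg N9682 = N14053 := rfl
theorem L119728 : sm ga N14053 = N9693 := ded_15_1 (flp_g L82836) (flp_a L82732) L119726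
theorem L119730 : sm gc N14053 = N9687 := ded_30_1 (flp_g L82779) (flp_c L82734) L119726
theorem L119732 : sm ge N14053 = N9683 := ded_41_1 (flp_g L82741) L82730 L119726
theorem L119734 : sm gi N14053 = N9722 := ded_51_2 (flp_g L83086) (flp_i L82737) L119726
theorem L119736 : sm gh N9682 = N14054 := rfl
theorem L119738 : sm ga N14054 = N9694 := ded_17_1 (flp_h L82845) (flp_a L82732) L119736
theorem L119740 : sm gc N14054 = N9688 := ded_32_1 (flp_h L82788) (flp_c L82734) L119736
theorem L119744 : sm gf N14054 = N10214 := ded_47_1 (flp_h L87254) (flp_f L82739) L119736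
theorem L119747 : sm gj N9683 = N14055 := rfl
theorem L119749 : sm ga N14055 = N9695 := ded_16_1 (flp_j L82855) (flp_a L82743) L119747
theorem L119751 : sm gc N14055 = N9689 := ded_31_1 (flp_j L82798) (flp_c L82745) L119747
theorem L119755 : sm gi N14055 = N9724 := ded_53_2 (flp_j L83105) (flp_i L82748) L119747
theorem L119758 : sm gh N9683 = N14056 := rfl
theorem L119760 : sm ga N14056 = N9696 := ded_17_1 (flp_h L82865) (flp_a L82743) L119758
theorem L119786 : sm ge N9685 = N14059 := rfl
theorem L119788 : sm ga N14059 = N9699 := ded_13_1 (flp_e L82890) (flp_a L82762) L119786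
theorem L119793 : sm gd N14059 = N10219 := ded_34_1 (flp_e L87305) (flp_d L60341) (flp_e L57316) L82760 L119786
theorem L119803 : sm gf N9687 = N14061 := rfl
theorem L119805 : sm ga N14061 = N9701 := ded_14_1 (flp_f L82905) (flp_a L82781) L119803
theorem L119807 : sm gb N14061 = N14061 := ded_22_1 (flp_f L119803) L82783 L119803
theorem L119808 : sm gi N14061 = N9729 := ded_48_2 (flp_f L83151) (flp_i L82786) L119803
theorem L119810 : sm ge N14061 = N14061 := ded_40_1 (flp_f L119803) L82784 L57339 (flp_e L82784) L119803
theorem L119811 : sm gg N14061 = N10221 := ded_45_2 (flp_f L87324) (flp_g L60360) (flp_f L57328) L82779 L119803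
theorem L119813 : sm gj N9687 = N14062 := rfl
theorem L119815 : sm ga N14062 = N9702 := ded_16_1 (flp_j L82914) (flp_a L82781) L119813
theorem L119817 : sm gb N14062 = N14062 := ded_24_1 (flp_j L119813) L82783 L119813
theorem L119818 : sm ge N14062 = N9689 := ded_42_1 (flp_j L82798) (flp_e L82784) L119813
theorem L119820 : sm gi N14062 = N9730 := ded_53_2 (flp_j L83159) (flp_i L82786) L119813
theorem L119822 : sm gg N14062 = N14062 := ded_49_1 (flp_j L119813) (flp_g L82779) L57325 L82779 L119813
theorem L119823 : sm gh N9687 = N14063 := rfl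
theorem L119825 : sm ga N14063 = N9703 := ded_17_1 (flp_h L82923) (flp_a L82781) L119823
theorem L119832 : sm gd N9688 = N14064 := rfl
theorem L119834 : sm ga N14064 = N9704 := ded_12_1 (flp_d L82931) (flp_a L82790) L119832
theorem L119837 : sm gf N14064 = N10224 := ded_35_2 (flp_d L87351) (flp_f L82795) L119832
theorem L119861 : sm gi N9690 = N14067 := rfl
theorem L119869 : sm gh N14067 = N9735 := ded_54_1 (flp_i L83205) (flp_h L57605) (flp_i L57337) L82809 L119861
theorem L119871 : sm gg N9692 = N14068 := rfl
theorem L119873 : sm gb N14068 = N14068 := ded_23_1 (flp_g L119871) L82829 L119871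
theorem L119874 : sm gd N14068 = N9693 := ded_36_1 (flp_g L82836) L82827 L119871
theorem L119876 : sm ge N14068 = N14068 := ded_41_1 (flp_g L119871) L82835 L119871
theorem L119877 : sm gi N14068 = N9736 := ded_51_2 (flp_g L83214) (flp_i L82833) L119871
theorem L119879 : sm gh N9692 = N14069 := rfl
theorem L119881 : sm gb N14069 = N14069 := ded_25_1 (flp_h L119879) L82829 L119879
theorem L119882 : sm ge N14069 = N14069 := ded_43_1 (flp_h L119879) L82835 L119879
theorem L119883 : sm gf N14069 = N10229 := ded_47_1 (flp_h L87398) (flp_f L82830) L119879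
theorem L119885 : sm gj N14069 = N14069 := ded_52_1 (flp_h L119879) L82832 L119879
theorem L119886 : sm gf N9693 = N14070 := rfl
theorem L119888 : sm gb N14070 = N14070 := ded_22_1 (flp_f L119886) L82838 L119886
theorem L119889 : sm gc N14070 = N9701 := ded_29_1 (flp_f L82905) (flp_c L82839) L119886
theorem L119891 : sm gi N14070 = N9738 := ded_48_2 (flp_f L83227) (flp_i L82843) L119886
theorem L119893 : sm ge N14070 = N14070 := ded_40_1 (flp_f L119886) L82841 L57387 (flp_e L82841) L119886
theorem L119894 : sm gg N14070 = N10230 := ded_45_2 (flp_f L87404) (flp_g L60416) (flp_f L57377) L82836 L119886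
theorem L119896 : sm gj N9693 = N14071 := rfl
theorem L119898 : sm gb N14071 = N14071 := ded_24_1 (flp_j L119896) L82838 L119896
theorem L119899 : sm gc N14071 = N9702 := ded_31_1 (flp_j L82914) (flp_c L82839) L119896
theorem L119901 : sm ge N14071 = N9695 := ded_42_1 (flp_j L82855) (flp_e L82841) L119896
theorem L119903 : sm gi N14071 = N9739 := ded_53_2 (flp_j L83235) (flp_i L82843) L119896
theorem L119905 : sm gg N14071 = N14071 := ded_49_1 (flp_j L119896) (flp_g L82836) L57374 L82836 L119896
theorem L119906 : sm gh N9693 = N14072 := rfl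
theorem L119909 : sm gc N14072 = N9703 := ded_32_1 (flp_h L82923) (flp_c L82839) L119906
theorem L119913 : sm gg N14072 = N9694 := ded_50_1 (flp_h L82845) L82836 L119906
theorem L119915 : sm gd N9694 = N14073 := rfl
theorem L119918 : sm gf N14073 = N10233 := ded_35_2 (flp_d L87431) (flp_f L82852) L119915
theorem L119933 : sm gh N9695 = N14075 := rfl
theorem L119940 : sm gj N14075 = N9696 := ded_52_1 (flp_h L82865) L82855 L119933
theorem L119942 : sm gd N9696 = N14076 := rfl
theorem L119946 : sm gg N14076 = N9697 := ded_36_2 (flp_d L82873) (flp_g L82871) L119942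
theorem L119959 : sm ge N9697 = N14078 := rfl
theorem L119964 : sm gi N9697 = N14079 := rfl
theorem L119972 : sm gf N9699 = N14080 := rfl
theorem L119979 : sm gi N9699 = N14081 := rfl
theorem L119988 : sm gh N9700 = N14082 := rfl
theorem L119993 : sm gd N14082 = N9748 := ded_38_1 (flp_h L83309) L57683 (flp_h L57411) (flp_d L82901) L119988
theorem L119996 : sm gj N9701 = N14083 := rfl
theorem L119998 : sm gb N14083 = N9708 := ded_24_1 (flp_j L82966) (flp_b L82907) L119996
theorem L120000 : sm ge N14083 = N14083 := ded_42_1 (flp_j L119996) L82911 L119996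
theorem L120001 : sm gf N14083 = N9702 := ded_46_1 (flp_j L82914) L82905 L119996
theorem L120003 : sm gi N14083 = N9749 := ded_53_2 (flp_j L83317) (flp_i L82909) L119996
theorem L120005 : sm gh N9701 = N14084 := rfl
theorem L120007 : sm gb N14084 = N9709 := ded_25_1 (flp_h L82975) (flp_b L82907) L120005
theorem L120009 : sm ge N14084 = N14084 := ded_43_1 (flp_h L120005) L82911 L120005
theorem L120010 : sm gf N14084 = N9703 := ded_47_1 (flp_h L82923) L82905 L120005
theorem L120012 : sm gg N14084 = N10243 := ded_50_1 (flp_h L87515) (flp_g L82912) L120005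
theorem L120014 : sm gh N9702 = N14085 := rfl
theorem L120016 : sm gb N14085 = N9710 := ded_25_1 (flp_h L82984) (flp_b L82916) L120014
theorem L120018 : sm ge N14085 = N9706 := ded_43_1 (flp_h L82949) (flp_e L82918) L120014
theorem L120020 : sm gg N14085 = N14085 := ded_50_1 (flp_h L120014) L82922 L120014
theorem L120021 : sm gj N14085 = N9703 := ded_52_1 (flp_h L82923) L82914 L120014
theorem L120023 : sm gd N9703 = N14086 := rfl
theorem L120025 : sm gb N14086 = N9711 := ded_20_1 (flp_d L82993) (flp_b L82925) L120023
theorem L120027 : sm gg N14086 = N9704 := ded_36_2 (flp_d L82931) (flp_g L82929) L120023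
theorem L120029 : sm gi N9703 = N14087 := rfl
theorem L120035 : sm gg N14087 = N9705 := ded_51_1 (flp_i L82938) (flp_g L82929) L120029
theorem L120037 : sm gh N14087 = N9753 := ded_54_1 (flp_i L83349) (flp_h L57702) (flp_i L57419) L82923 L120029
theorem L120039 : sm gc N9704 = N14088 := rfl
theorem L120041 : sm gf N14088 = N10247 := ded_29_2 (flp_c L87548) (flp_f L82935) L120039
theorem L120043 : sm gj N14088 = N14088 := ded_31_2 (flp_c L120039) L82937 L120039
theorem L120044 : sm gi N9704 = N14089 := rfl
theorem L120046 : sm gb N14089 = N9714 := ded_26_1 (flp_i L83015) (flp_b L82933) L120044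
theorem L120048 : sm gd N14089 = N9705 := ded_39_1 (flp_i L82938) L82931 L120044
theorem L120053 : sm gi N9706 = N14090 := rfl
theorem L120055 : sm gb N14090 = N9715 := ded_26_1 (flp_i L83023) (flp_b L82951) L120053
theorem L120061 : sm gh N14090 = N9756 := ded_54_1 (flp_i L83373) (flp_h L57727) (flp_i L57437) L82949 L120053
theorem L120063 : sm gg N9708 = N14091 := rfl
theorem L120065 : sm ga N14091 = N14091 := ded_15_1 (flp_g L120063) L82968 L120063
theorem L120066 : sm gc N14091 = N14091 := ded_30_1 (flp_g L120063) L82969 L120063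
theorem L120067 : sm ge N14091 = N14091 := ded_41_1 (flp_g L120063) L82970 L120063
theorem L120068 : sm gi N14091 = N9757 := ded_51_2 (flp_g L83382) (flp_i L82973) L120063
theorem L120070 : sm gf N14091 = N14091 := ded_45_1 (flp_g L120063) L82971 L57473 (flp_f L82971) L120063
theorem L120071 : sm gj N14091 = N10250 := ded_49_2 (flp_g L87571) (flp_j L60546) (flp_g L57463) L82966 L120063
theorem L120073 : sm gh N9708 = N14092 := rfl
theorem L120075 : sm ga N14092 = N14092 := ded_17_1 (flp_h L120073) L82968 L120073
theorem L120076 : sm gc N14092 = N14092 := ded_32_1 (flp_h L120073) L82969 L120073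
theorem L120077 : sm ge N14092 = N14092 := ded_43_1 (flp_h L120073) L82970 L120073
theorem L120078 : sm gf N14092 = N9710 := ded_47_1 (flp_h L82984) (flp_f L82971) L120073
theorem L120080 : sm gj N14092 = N9709 := ded_52_1 (flp_h L82975) L82966 L120073
theorem L120082 : sm gd N9709 = N14093 := rfl
theorem L120084 : sm ga N14093 = N14093 := ded_12_1 (flp_d L120082) L82977 L120082
theorem L120085 : sm gf N14093 = N9711 := ded_35_2 (flp_d L82993) (flp_f L82980) L120082
theorem L120087 : sm gg N14093 = N10252 := ded_36_2 (flp_d L87588) (flp_g L82982) L120082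
theorem L120089 : sm gi N9709 = N14094 := rfl
theorem L120091 : sm ga N14094 = N14094 := ded_18_1 (flp_i L120089) L82977 L120089
theorem L120092 : sm gc N14094 = N14094 := ded_33_1 (flp_i L120089) L82978 L120089
theorem L120093 : sm ge N14094 = N14094 := ded_44_1 (flp_i L120089) L82979 L120089
theorem L120094 : sm gf N14094 = N9712 := ded_48_1 (flp_i L82998) (flp_f L82980) L120089
theorem L120096 : sm gg N14094 = N10253 := ded_51_1 (flp_i L87593) (flp_g L82982) L120089
theorem L120098 : sm gh N14094 = N9760 := ded_54_1 (flp_i L83406) (flp_h L57751) (flp_i L57460) L82975 L120089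
theorem L120100 : sm gd N9710 = N14095 := rfl
theorem L120102 : sm ga N14095 = N14095 := ded_12_1 (flp_d L120100) L82986 L120100
theorem L120103 : sm gg N14095 = N14095 := ded_36_2 (flp_d L120100) L82990 L120100
theorem L120104 : sm gj N14095 = N9711 := ded_37_2 (flp_d L82993) (flp_j L82991) L120100
theorem L120106 : sm gi N9710 = N14096 := rfl
theorem L120108 : sm ga N14096 = N14096 := ded_18_1 (flp_i L120106) L82986 L120106
theorem L120109 : sm gc N14096 = N14096 := ded_33_1 (flp_i L120106) L82987 L120106
theorem L120110 : sm ge N14096 = N9715 := ded_44_1 (flp_i L83023) (flp_e L82988) L120106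
theorem L120112 : sm gg N14096 = N14096 := ded_51_1 (flp_i L120106) L82990 L120106
theorem L120113 : sm gj N14096 = N9712 := ded_53_1 (flp_i L82998) (flp_j L82991) L120106
theorem L120115 : sm gh N14096 = N9762 := ded_54_1 (flp_i L83422) (flp_h L57760) (flp_i L57471) L82984 L120106
theorem L120117 : sm gc N9711 = N14097 := rfl
theorem L120119 : sm ga N14097 = N14097 := ded_11_1 (flp_c L120117) L82995 L120117
theorem L120120 : sm gg N14097 = N9713 := ded_30_2 (flp_c L83008) (flp_g L82996) L120117
theorem L120122 : sm gd N14097 = N14097 := ded_27_2 (flp_c L120117) (flp_d L82993) L57477 L82993 L120117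
theorem L120123 : sm gi N9711 = N14098 := rfl
theorem L120125 : sm ga N14098 = N14098 := ded_18_1 (flp_i L120123) L82995 L120123
theorem L120126 : sm gd N14098 = N9712 := ded_39_1 (flp_i L82998) L82993 L120123
theorem L120128 : sm gg N14098 = N9714 := ded_51_1 (flp_i L83015) (flp_g L82996) L120123
theorem L120130 : sm gb N9713 = N14099 := rfl
theorem L120132 : sm gd N14099 = N14099 := ded_20_2 (flp_b L120130) L83014 L120130
theorem L120133 : sm gf N14099 = N10258 := ded_22_2 (flp_b L87635) (flp_f L83011) L120130
theorem L120135 : sm gj N14099 = N14099 := ded_24_2 (flp_b L120130) L83013 L120130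
theorem L120136 : sm gi N9713 = N14100 := rfl
theorem L120138 : sm ga N14100 = N14100 := ded_18_1 (flp_i L120136) L83010 L120136
theorem L120139 : sm gc N14100 = N9714 := ded_33_1 (flp_i L83015) L83008 L120136
theorem L120141 : sm gd N14100 = N14100 := ded_39_1 (flp_i L120136) L83014 L120136
theorem L120142 : sm gf N14100 = N10259 := ded_48_1 (flp_i L87640) (flp_f L83011) L120136
theorem L120144 : sm gj N14100 = N14100 := ded_53_1 (flp_i L120136) L83013 L120136
theorem L120145 : sm gh N9714 = N14101 := rfl
theorem L120147 : sm ga N14101 = N14101 := ded_17_1 (flp_h L120145) L83017 L120145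
theorem L120148 : sm gf N14101 = N10260 := ded_47_1 (flp_h L87648) (flp_f L83020) L120145
theorem L120150 : sm gj N14101 = N14101 := ded_52_1 (flp_h L120145) L83022 L120145
theorem L120151 : sm gd N14101 = N9767 := ded_38_1 (flp_h L83463) L57794 (flp_h L57497) (flp_d L83018) L120145
theorem L120153 : sm gd N9716 = N14102 := rfl
theorem L120156 : sm gb N14102 = N9721 := ded_20_1 (flp_d L83078) (flp_b L83036) L120153
theorem L120158 : sm gf N14102 = N10261 := ded_35_2 (flp_d L87655) (flp_f L83040) L120153
theorem L120162 : sm gg N9716 = N14103 := rfl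
theorem L120165 : sm gb N14103 = N9722 := ded_23_1 (flp_g L83086) (flp_b L83036) L120162
theorem L120168 : sm ge N14103 = N9717 := ded_41_1 (flp_g L83042) L83033 L120162
theorem L120170 : sm gh N9716 = N14104 := rfl
theorem L120181 : sm gj N9717 = N14105 := rfl
theorem L120184 : sm gb N14105 = N9724 := ded_24_1 (flp_j L83105) (flp_b L83045) L120181
theorem L120190 : sm gh N9717 = N14106 := rfl
theorem L120197 : sm gg N14106 = N9718 := ded_50_1 (flp_h L83050) L83042 L120190
theorem L120199 : sm gd N9718 = N14107 := rfl
theorem L120208 : sm gi N9718 = N14108 := rfl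
theorem L120236 : sm gg N9721 = N14111 := rfl
theorem L120238 : sm ga N14111 = N9736 := ded_15_1 (flp_g L83214) (flp_a L83080) L120236
theorem L120240 : sm gd N14111 = N9722 := ded_36_1 (flp_g L83086) L83078 L120236
theorem L120242 : sm ge N14111 = N14111 := ded_41_1 (flp_g L120236) L83085 L120236
theorem L120243 : sm gh N9721 = N14112 := rfl
theorem L120245 : sm ga N14112 = N9737 := ded_17_1 (flp_h L83220) (flp_a L83080) L120243
theorem L120247 : sm ge N14112 = N14112 := ded_43_1 (flp_h L120243) L83085 L120243
theorem L120248 : sm gf N14112 = N10268 := ded_47_1 (flp_h L87718) (flp_f L83082) L120243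
theorem L120250 : sm gj N14112 = N14112 := ded_52_1 (flp_h L120243) L83084 L120243
theorem L120251 : sm gf N9722 = N14113 := rfl
theorem L120253 : sm ga N14113 = N9738 := ded_14_1 (flp_f L83227) (flp_a L83088) L120251
theorem L120255 : sm gc N14113 = N9729 := ded_29_1 (flp_f L83151) (flp_c L83090) L120251
theorem L120257 : sm ge N14113 = N14113 := ded_40_1 (flp_f L120251) L83092 L57550 (flp_e L83092) L120251
theorem L120258 : sm gg N14113 = N10269 := ded_45_2 (flp_f L87725) (flp_g L60653) (flp_f L57541) L83086 L120251
theorem L120260 : sm gj N9722 = N14114 := rfl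
theorem L120262 : sm ga N14114 = N9739 := ded_16_1 (flp_j L83235) (flp_a L83088) L120260
theorem L120264 : sm gc N14114 = N9730 := ded_31_1 (flp_j L83159) (flp_c L83090) L120260
theorem L120266 : sm ge N14114 = N9724 := ded_42_1 (flp_j L83105) (flp_e L83092) L120260
theorem L120268 : sm gg N14114 = N14114 := ded_49_1 (flp_j L120260) (flp_g L83086) L57540 L83086 L120260
theorem L120269 : sm gh N9722 = N14115 := rfl
theorem L120271 : sm ga N14115 = N9740 := ded_17_1 (flp_h L83243) (flp_a L83088) L120269
theorem L120273 : sm gc N14115 = N9731 := ded_32_1 (flp_h L83167) (flp_c L83090) L120269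
theorem L120275 : sm ge N14115 = N9725 := ded_43_1 (flp_h L83114) (flp_e L83092) L120269
theorem L120277 : sm gg N14115 = N9723 := ded_50_1 (flp_h L83094) L83086 L120269
theorem L120279 : sm gd N9723 = N14116 := rfl
theorem L120281 : sm ga N14116 = N9741 := ded_12_1 (flp_d L83252) (flp_a L83096) L120279
theorem L120283 : sm gf N14116 = N10272 := ded_35_2 (flp_d L87751) (flp_f L83102) L120279
theorem L120286 : sm gi N9723 = N14117 := rfl
theorem L120297 : sm gh N9724 = N14118 := rfl
theorem L120301 : sm gc N14118 = N9734 := ded_32_1 (flp_h L83195) (flp_c L83109) L120297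
theorem L120352 : sm gj N9729 = N14124 := rfl
theorem L120354 : sm ga N14124 = N9749 := ded_16_1 (flp_j L83317) (flp_a L83153) L120352
theorem L120356 : sm gb N14124 = N14124 := ded_24_1 (flp_j L120352) L83155 L120352
theorem L120357 : sm ge N14124 = N14124 := ded_42_1 (flp_j L120352) L83156 L120352
theorem L120358 : sm gf N14124 = N9730 := ded_46_1 (flp_j L83159) L83151 L120352
theorem L120360 : sm gh N9729 = N14125 := rfl
theorem L120362 : sm ga N14125 = N9750 := ded_17_1 (flp_h L83324) (flp_a L83153) L120360
theorem L120364 : sm gb N14125 = N14125 := ded_25_1 (flp_h L120360) L83155 L120360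
theorem L120365 : sm ge N14125 = N14125 := ded_43_1 (flp_h L120360) L83156 L120360
theorem L120366 : sm gf N14125 = N9731 := ded_47_1 (flp_h L83167) L83151 L120360
theorem L120368 : sm gg N14125 = N10277 := ded_50_1 (flp_h L87795) (flp_g L83157) L120360
theorem L120370 : sm gh N9730 = N14126 := rfl
theorem L120372 : sm ga N14126 = N9751 := ded_17_1 (flp_h L83333) (flp_a L83161) L120370
theorem L120374 : sm gb N14126 = N14126 := ded_25_1 (flp_h L120370) L83163 L120370
theorem L120375 : sm ge N14126 = N9734 := ded_43_1 (flp_h L83195) (flp_e L83164) L120370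
theorem L120377 : sm gg N14126 = N14126 := ded_50_1 (flp_h L120370) L83166 L120370
theorem L120378 : sm gj N14126 = N9731 := ded_52_1 (flp_h L83167) L83159 L120370
theorem L120380 : sm gd N9731 = N14127 := rfl
theorem L120382 : sm ga N14127 = N9752 := ded_12_1 (flp_d L83342) (flp_a L83169) L120380
theorem L120384 : sm gb N14127 = N14127 := ded_20_1 (flp_d L120380) L83171 L120380
theorem L120385 : sm gg N14127 = N9732 := ded_36_2 (flp_d L83176) (flp_g L83174) L120380
theorem L120387 : sm ge N14127 = N14127 := ded_34_2 (flp_d L120380) L83172 L57613 (flp_e L83172) L120380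
theorem L120388 : sm gi N9731 = N14128 := rfl
theorem L120390 : sm ga N14128 = N9753 := ded_18_1 (flp_i L83349) (flp_a L83169) L120388
theorem L120397 : sm gc N9732 = N14129 := rfl
theorem L120399 : sm ga N14129 = N9754 := ded_11_1 (flp_c L83357) (flp_a L83178) L120397
theorem L120401 : sm ge N14129 = N14129 := ded_28_2 (flp_c L120397) L83184 L120397
theorem L120402 : sm gf N14129 = N10281 := ded_29_2 (flp_c L87831) (flp_f L83181) L120397
theorem L120404 : sm gj N14129 = N14129 := ded_31_2 (flp_c L120397) L83183 L120397
theorem L120405 : sm gi N9732 = N14130 := rfl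
theorem L120407 : sm ga N14130 = N9755 := ded_18_1 (flp_i L83363) (flp_a L83178) L120405
theorem L120413 : sm gf N14130 = N10282 := ded_48_1 (flp_i L87838) (flp_f L83181) L120405
theorem L120416 : sm gi N9734 = N14131 := rfl
theorem L120418 : sm ga N14131 = N9756 := ded_18_1 (flp_i L83373) (flp_a L83197) L120416
theorem L120424 : sm gj N14131 = N9735 := ded_53_1 (flp_i L83205) (flp_j L83202) L120416
theorem L120426 : sm gf N9736 = N14132 := rfl
theorem L120428 : sm gb N14132 = N14132 := ded_22_1 (flp_f L120426) L83216 L120426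
theorem L120429 : sm gd N14132 = N9738 := ded_35_1 (flp_f L83227) (flp_d L83217) L120426
theorem L120431 : sm gg N14132 = N10284 := ded_45_2 (flp_f L87859) (flp_g L60760) (flp_f L57626) L83214 L120426
theorem L120433 : sm gj N9736 = N14133 := rfl
theorem L120435 : sm gb N14133 = N14133 := ded_24_1 (flp_j L120433) L83216 L120433
theorem L120436 : sm gd N14133 = N9739 := ded_37_1 (flp_j L83235) (flp_d L83217) L120433
theorem L120438 : sm ge N14133 = N14133 := ded_42_1 (flp_j L120433) L83219 L120433
theorem L120439 : sm gg N14133 = N14133 := ded_49_1 (flp_j L120433) (flp_g L83214) L57628 L83214 L120433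
theorem L120440 : sm gh N9736 = N14134 := rfl
theorem L120442 : sm gb N14134 = N14134 := ded_25_1 (flp_h L120440) L83216 L120440
theorem L120443 : sm ge N14134 = N14134 := ded_43_1 (flp_h L120440) L83219 L120440
theorem L120444 : sm gg N14134 = N9737 := ded_50_1 (flp_h L83220) L83214 L120440
theorem L120446 : sm gd N9737 = N14135 := rfl
theorem L120448 : sm gb N14135 = N14135 := ded_20_1 (flp_d L120446) L83222 L120446
theorem L120449 : sm gf N14135 = N10287 := ded_35_2 (flp_d L87879) (flp_f L83224) L120446
theorem L120451 : sm gj N14135 = N14135 := ded_37_2 (flp_d L120446) L83226 L120446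
theorem L120452 : sm gh N14135 = N9741 := ded_38_2 (flp_d L83252) (flp_h L57637) L57623 L83220 L120446
theorem L120454 : sm gi N9737 = N14136 := rfl
theorem L120456 : sm gb N14136 = N14136 := ded_26_1 (flp_i L120454) L83222 L120454
theorem L120457 : sm ge N14136 = N14136 := ded_44_1 (flp_i L120454) L83223 L120454
theorem L120458 : sm gf N14136 = N10288 := ded_48_1 (flp_i L87886) (flp_f L83224) L120454
theorem L120460 : sm gj N14136 = N14136 := ded_53_1 (flp_i L120454) L83226 L120454
theorem L120461 : sm gj N9738 = N14137 := rfl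
theorem L120463 : sm gb N14137 = N14137 := ded_24_1 (flp_j L120461) L83229 L120461
theorem L120464 : sm gc N14137 = N9749 := ded_31_1 (flp_j L83317) (flp_c L83230) L120461
theorem L120466 : sm ge N14137 = N14137 := ded_42_1 (flp_j L120461) L83232 L120461
theorem L120467 : sm gf N14137 = N9739 := ded_46_1 (flp_j L83235) L83227 L120461
theorem L120469 : sm gh N9738 = N14138 := rfl
theorem L120471 : sm gb N14138 = N14138 := ded_25_1 (flp_h L120469) L83229 L120469
theorem L120472 : sm gc N14138 = N9750 := ded_32_1 (flp_h L83324) (flp_c L83230) L120469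
theorem L120474 : sm ge N14138 = N14138 := ded_43_1 (flp_h L120469) L83232 L120469
theorem L120475 : sm gf N14138 = N9740 := ded_47_1 (flp_h L83243) L83227 L120469
theorem L120477 : sm gg N14138 = N10290 := ded_50_1 (flp_h L87900) (flp_g L83233) L120469
theorem L120479 : sm gh N9739 = N14139 := rfl
theorem L120481 : sm gb N14139 = N14139 := ded_25_1 (flp_h L120479) L83237 L120479
theorem L120482 : sm gc N14139 = N9751 := ded_32_1 (flp_h L83333) (flp_c L83238) L120479
theorem L120484 : sm ge N14139 = N9743 := ded_43_1 (flp_h L83268) (flp_e L83240) L120479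
theorem L120486 : sm gg N14139 = N14139 := ded_50_1 (flp_h L120479) L83242 L120479
theorem L120487 : sm gj N14139 = N9740 := ded_52_1 (flp_h L83243) L83235 L120479
theorem L120489 : sm gd N9740 = N14140 := rfl
theorem L120491 : sm gb N14140 = N14140 := ded_20_1 (flp_d L120489) L83245 L120489
theorem L120492 : sm gg N14140 = N9741 := ded_36_2 (flp_d L83252) (flp_g L83250) L120489
theorem L120494 : sm gi N9740 = N14141 := rfl
theorem L120497 : sm gc N14141 = N9753 := ded_33_1 (flp_i L83349) (flp_c L83246) L120494
theorem L120503 : sm gc N9741 = N14142 := rfl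
theorem L120505 : sm gf N14142 = N10294 := ded_29_2 (flp_c L87933) (flp_f L83255) L120503
theorem L120507 : sm gj N14142 = N14142 := ded_31_2 (flp_c L120503) L83257 L120503
theorem L120508 : sm gd N14142 = N9754 := ded_27_2 (flp_c L83357) (flp_d L57710) (flp_c L57640) L83252 L120503
theorem L120510 : sm ge N9741 = N14143 := rfl
theorem L120517 : sm gi N9741 = N14144 := rfl
theorem L120522 : sm gf N14144 = N10295 := ded_48_1 (flp_i L87939) (flp_f L83255) L120517
theorem L120525 : sm gd N9743 = N14145 := rfl
theorem L120530 : sm gj N14145 = N9744 := ded_37_2 (flp_d L83277) (flp_j L83275) L120525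
theorem L120534 : sm gi N9743 = N14146 := rfl
theorem L120537 : sm gc N14146 = N9756 := ded_33_1 (flp_i L83373) (flp_c L83271) L120534
theorem L120543 : sm ge N9744 = N14147 := rfl
theorem L120567 : sm gh N9747 = N14150 := rfl
theorem L120571 : sm gf N14150 = N9748 := ded_47_1 (flp_h L83309) (flp_f L83306) L120567
theorem L120575 : sm gg N9749 = N14151 := rfl
theorem L120577 : sm gb N14151 = N9757 := ded_23_1 (flp_g L83382) (flp_b L83319) L120575
theorem L120579 : sm ge N14151 = N14151 := ded_41_1 (flp_g L120575) L83321 L120575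
theorem L120580 : sm gf N14151 = N14151 := ded_45_1 (flp_g L120575) L83322 L57701 (flp_f L83322) L120575
theorem L120581 : sm gj N14151 = N10297 := ded_49_2 (flp_g L87956) (flp_j L60828) (flp_g L57693) L83317 L120575
theorem L120583 : sm gh N9749 = N14152 := rfl
theorem L120585 : sm gb N14152 = N9758 := ded_25_1 (flp_h L83390) (flp_b L83319) L120583
theorem L120587 : sm ge N14152 = N14152 := ded_43_1 (flp_h L120583) L83321 L120583
theorem L120588 : sm gf N14152 = N9751 := ded_47_1 (flp_h L83333) (flp_f L83322) L120583
theorem L120590 : sm gj N14152 = N9750 := ded_52_1 (flp_h L83324) L83317 L120583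
theorem L120592 : sm gd N9750 = N14153 := rfl
theorem L120594 : sm gb N14153 = N9759 := ded_20_1 (flp_d L83399) (flp_b L83326) L120592
theorem L120596 : sm gf N14153 = N9752 := ded_35_2 (flp_d L83342) (flp_f L83329) L120592
theorem L120598 : sm gg N14153 = N10299 := ded_36_2 (flp_d L87971) (flp_g L83331) L120592
theorem L120600 : sm gi N9750 = N14154 := rfl
theorem L120602 : sm gb N14154 = N9760 := ded_26_1 (flp_i L83406) (flp_b L83326) L120600
theorem L120604 : sm ge N14154 = N14154 := ded_44_1 (flp_i L120600) L83328 L120600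
theorem L120605 : sm gf N14154 = N9753 := ded_48_1 (flp_i L83349) (flp_f L83329) L120600
theorem L120607 : sm gg N14154 = N10300 := ded_51_1 (flp_i L87977) (flp_g L83331) L120600
theorem L120609 : sm gd N9751 = N14155 := rfl
theorem L120611 : sm gb N14155 = N9761 := ded_20_1 (flp_d L83415) (flp_b L83335) L120609
theorem L120613 : sm gg N14155 = N14155 := ded_36_2 (flp_d L120609) L83339 L120609
theorem L120614 : sm gj N14155 = N9752 := ded_37_2 (flp_d L83342) (flp_j L83340) L120609
theorem L120616 : sm ge N14155 = N14155 := ded_34_2 (flp_d L120609) L83337 L57735 (flp_e L83337) L120609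
theorem L120617 : sm gi N9751 = N14156 := rfl
theorem L120619 : sm gb N14156 = N9762 := ded_26_1 (flp_i L83422) (flp_b L83335) L120617
theorem L120621 : sm ge N14156 = N9756 := ded_44_1 (flp_i L83373) (flp_e L83337) L120617
theorem L120623 : sm gg N14156 = N14156 := ded_51_1 (flp_i L120617) L83339 L120617
theorem L120624 : sm gj N14156 = N9753 := ded_53_1 (flp_i L83349) (flp_j L83340) L120617
theorem L120626 : sm gc N9752 = N14157 := rfl
theorem L120628 : sm ge N14157 = N14157 := ded_28_2 (flp_c L120626) L83348 L120626
theorem L120629 : sm gg N14157 = N9754 := ded_30_2 (flp_c L83357) (flp_g L83346) L120626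
theorem L120631 : sm gi N9752 = N14158 := rfl
theorem L120633 : sm gb N14158 = N9764 := ded_26_1 (flp_i L83438) (flp_b L83344) L120631
theorem L120635 : sm gd N14158 = N9753 := ded_39_1 (flp_i L83349) L83342 L120631
theorem L120637 : sm ge N14158 = N14158 := ded_44_1 (flp_i L120631) L83348 L120631
theorem L120638 : sm gg N14158 = N9755 := ded_51_1 (flp_i L83363) (flp_g L83346) L120631
theorem L120640 : sm gb N9754 = N14159 := rfl
theorem L120642 : sm ge N14159 = N14159 := ded_21_2 (flp_b L120640) L83359 L120640
theorem L120643 : sm gf N14159 = N10305 := ded_22_2 (flp_b L88018) (flp_f L83360) L120640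
theorem L120645 : sm gj N14159 = N14159 := ded_24_2 (flp_b L120640) L83362 L120640
theorem L120646 : sm gc N14159 = N9765 := ded_19_2 (flp_b L83446) (flp_c L57783) (flp_b L57712) L83357 L120640
theorem L120648 : sm gi N9754 = N14160 := rfl
theorem L120650 : sm gc N14160 = N9755 := ded_33_1 (flp_i L83363) L83357 L120648
theorem L120652 : sm ge N14160 = N14160 := ded_44_1 (flp_i L120648) L83359 L120648
theorem L120653 : sm gf N14160 = N10306 := ded_48_1 (flp_i L88025) (flp_f L83360) L120648
theorem L120655 : sm gj N14160 = N14160 := ded_53_1 (flp_i L120648) L83362 L120648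
theorem L120656 : sm gh N9755 = N14161 := rfl
theorem L120658 : sm gb N14161 = N9767 := ded_25_1 (flp_h L83463) (flp_b L83365) L120656
theorem L120660 : sm ge N14161 = N14161 := ded_43_1 (flp_h L120656) L83369 L120656
theorem L120661 : sm gf N14161 = N10307 := ded_47_1 (flp_h L88032) (flp_f L83370) L120656
theorem L120663 : sm gj N14161 = N14161 := ded_52_1 (flp_h L120656) L83372 L120656
theorem L120664 : sm gh N9757 = N14162 := rfl
theorem L120666 : sm ga N14162 = N14162 := ded_17_1 (flp_h L120664) L83384 L120664
theorem L120667 : sm gc N14162 = N14162 := ded_32_1 (flp_h L120664) L83385 L120664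
theorem L120668 : sm ge N14162 = N14162 := ded_43_1 (flp_h L120664) L83386 L120664
theorem L120669 : sm gf N14162 = N14162 := ded_47_1 (flp_h L120664) L83387 L120664
theorem L120670 : sm gg N14162 = N9758 := ded_50_1 (flp_h L83390) L83382 L120664
theorem L120672 : sm gj N14162 = N10308 := ded_52_1 (flp_h L88039) (flp_j L83388) L120664
theorem L120674 : sm gd N9758 = N14163 := rfl
theorem L120676 : sm ga N14163 = N14163 := ded_12_1 (flp_d L120674) L83392 L120674
theorem L120677 : sm gf N14163 = N9761 := ded_35_2 (flp_d L83415) (flp_f L83395) L120674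
theorem L120679 : sm gj N14163 = N9759 := ded_37_2 (flp_d L83399) (flp_j L83397) L120674
theorem L120681 : sm gi N9758 = N14164 := rfl
theorem L120683 : sm ga N14164 = N14164 := ded_18_1 (flp_i L120681) L83392 L120681
theorem L120684 : sm gc N14164 = N14164 := ded_33_1 (flp_i L120681) L83393 L120681
theorem L120685 : sm ge N14164 = N14164 := ded_44_1 (flp_i L120681) L83394 L120681
theorem L120686 : sm gf N14164 = N9762 := ded_48_1 (flp_i L83422) (flp_f L83395) L120681
theorem L120688 : sm gj N14164 = N9760 := ded_53_1 (flp_i L83406) (flp_j L83397) L120681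
theorem L120690 : sm gc N9759 = N14165 := rfl
theorem L120692 : sm ga N14165 = N14165 := ded_11_1 (flp_c L120690) L83401 L120690
theorem L120693 : sm gf N14165 = N9763 := ded_29_2 (flp_c L83431) (flp_f L83402) L120690
theorem L120695 : sm gg N14165 = N10311 := ded_30_2 (flp_c L88063) (flp_g L83404) L120690
theorem L120697 : sm gd N14165 = N14165 := ded_27_2 (flp_c L120690) (flp_d L83399) L57754 L83399 L120690
theorem L120698 : sm ge N9759 = N14166 := rfl
theorem L120700 : sm ga N14166 = N14166 := ded_13_1 (flp_e L120698) L83401 L120698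
theorem L120701 : sm gg N14166 = N10312 := ded_41_2 (flp_e L88069) (flp_g L83404) L120698
theorem L120703 : sm gd N14166 = N14166 := ded_34_1 (flp_e L120698) (flp_d L83399) L57755 L83399 L120698
theorem L120704 : sm gf N14166 = N14166 := ded_40_2 (flp_e L120698) L83402 L57774 (flp_f L83402) L120698
theorem L120705 : sm gi N9759 = N14167 := rfl
theorem L120707 : sm ga N14167 = N14167 := ded_18_1 (flp_i L120705) L83401 L120705
theorem L120708 : sm gd N14167 = N9760 := ded_39_1 (flp_i L83406) L83399 L120705
theorem L120710 : sm gf N14167 = N9764 := ded_48_1 (flp_i L83438) (flp_f L83402) L120705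
theorem L120712 : sm gg N14167 = N10313 := ded_51_1 (flp_i L88075) (flp_g L83404) L120705
theorem L120714 : sm gc N9761 = N14168 := rfl
theorem L120716 : sm ga N14168 = N14168 := ded_11_1 (flp_c L120714) L83417 L120714
theorem L120717 : sm ge N14168 = N14168 := ded_28_2 (flp_c L120714) L83421 L120714
theorem L120718 : sm gg N14168 = N14168 := ded_30_2 (flp_c L120714) L83418 L120714
theorem L120719 : sm gj N14168 = N9763 := ded_31_2 (flp_c L83431) (flp_j L83419) L120714
theorem L120721 : sm gd N14168 = N14168 := ded_27_2 (flp_c L120714) (flp_d L83415) L57763 L83415 L120714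
theorem L120722 : sm gi N9761 = N14169 := rfl
theorem L120724 : sm ga N14169 = N14169 := ded_18_1 (flp_i L120722) L83417 L120722
theorem L120725 : sm gd N14169 = N9762 := ded_39_1 (flp_i L83422) L83415 L120722
theorem L120727 : sm ge N14169 = N14169 := ded_44_1 (flp_i L120722) L83421 L120722
theorem L120728 : sm gg N14169 = N14169 := ded_51_1 (flp_i L120722) L83418 L120722
theorem L120729 : sm gj N14169 = N9764 := ded_53_1 (flp_i L83438) (flp_j L83419) L120722
theorem L120731 : sm gb N9763 = N14170 := rfl
theorem L120733 : sm gd N14170 = N14170 := ded_20_2 (flp_b L120731) L83437 L120731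
theorem L120734 : sm ge N14170 = N14170 := ded_21_2 (flp_b L120731) L83434 L120731
theorem L120735 : sm gg N14170 = N9765 := ded_23_2 (flp_b L83446) (flp_g L83435) L120731
theorem L120737 : sm gi N9763 = N14171 := rfl
theorem L120739 : sm ga N14171 = N14171 := ded_18_1 (flp_i L120737) L83433 L120737
theorem L120740 : sm gc N14171 = N9764 := ded_33_1 (flp_i L83438) L83431 L120737
theorem L120742 : sm gd N14171 = N14171 := ded_39_1 (flp_i L120737) L83437 L120737
theorem L120743 : sm ge N14171 = N14171 := ded_44_1 (flp_i L120737) L83434 L120737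
theorem L120744 : sm gg N14171 = N9766 := ded_51_1 (flp_i L83453) (flp_g L83435) L120737
theorem L120746 : sm gh N9764 = N14172 := rfl
theorem L120748 : sm ga N14172 = N14172 := ded_17_1 (flp_h L120746) L83440 L120746
theorem L120749 : sm ge N14172 = N14172 := ded_43_1 (flp_h L120746) L83443 L120746
theorem L120750 : sm gg N14172 = N9767 := ded_50_1 (flp_h L83463) (flp_g L83444) L120746
theorem L120752 : sm ga N9765 = N14173 := rfl
theorem L120754 : sm gd N14173 = N14173 := ded_12_2 (flp_a L120752) L83448 L120752
theorem L120755 : sm ge N14173 = N14173 := ded_13_2 (flp_a L120752) L83449 L120752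
theorem L120756 : sm gf N14173 = N10319 := ded_14_2 (flp_a L88125) (flp_f L83450) L120752
theorem L120758 : sm gj N14173 = N14173 := ded_16_2 (flp_a L120752) L83452 L120752
theorem L120759 : sm gb N14173 = N14173 := ded_10_2 (flp_a L120752) (flp_b L83446) L57785 L83446 L120752
theorem L120760 : sm gi N9765 = N14174 := rfl
theorem L120762 : sm gb N14174 = N9766 := ded_26_1 (flp_i L83453) L83446 L120760
theorem L120764 : sm gd N14174 = N14174 := ded_39_1 (flp_i L120760) L83448 L120760
theorem L120765 : sm ge N14174 = N14174 := ded_44_1 (flp_i L120760) L83449 L120760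
theorem L120766 : sm gf N14174 = N10320 := ded_48_1 (flp_i L88132) (flp_f L83450) L120760
theorem L120768 : sm gj N14174 = N14174 := ded_53_1 (flp_i L120760) L83452 L120760
theorem L120769 : sm gh N9766 = N14175 := rfl
theorem L120771 : sm ga N14175 = N14175 := ded_17_1 (flp_h L120769) L83455 L120769
theorem L120772 : sm gc N14175 = N9767 := ded_32_1 (flp_h L83463) (flp_c L83456) L120769
theorem L120774 : sm ge N14175 = N14175 := ded_43_1 (flp_h L120769) L83459 L120769
theorem L120775 : sm gf N14175 = N10321 := ded_47_1 (flp_h L88140) (flp_f L83460) L120769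
theorem L120777 : sm gj N14175 = N14175 := ded_52_1 (flp_h L120769) L83462 L120769
theorem L120778 : sm gc N9768 = N14176 := rfl
theorem L120781 : sm gf N14176 = N9769 := ded_29_2 (flp_c L83481) (flp_f L83475) L120778
theorem L120788 : sm ge N9768 = N14177 := rfl
theorem L120791 : sm gb N14177 = N10567 := ded_21_1 (flp_e L90244) (flp_b L83473) L120788
theorem L120798 : sm gb N9769 = N14178 := rfl
theorem L120801 : sm gg N14178 = N9786 := ded_23_2 (flp_b L83648) (flp_g L83484) L120798
theorem L120806 : sm gc N14178 = N10568 := ded_19_2 (flp_b L90253) (flp_c L62481) (flp_b L57824) L83481 L120798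
theorem L120808 : sm ge N9769 = N14179 := rfl
theorem L120811 : sm gc N14179 = N9770 := ded_28_1 (flp_e L83490) L83481 L120808
theorem L120813 : sm gg N14179 = N9787 := ded_41_2 (flp_e L83658) (flp_g L83484) L120808
theorem L120816 : sm gh N14179 = N14179 := ded_43_2 (flp_e L120808) L83487 L120808
theorem L120818 : sm gf N9770 = N14180 := rfl
theorem L120821 : sm gb N14180 = N10570 := ded_22_1 (flp_f L90271) (flp_b L83493) L120818
theorem L120823 : sm gd N14180 = N9773 := ded_35_1 (flp_f L83525) (flp_d L83500) L120818
theorem L120828 : sm ga N9771 = N14181 := rfl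
theorem L120830 : sm gc N14181 = N10571 := ded_11_2 (flp_a L90280) (flp_c L83512) L120828
theorem L120834 : sm gg N14181 = N9789 := ded_15_2 (flp_a L83679) (flp_g L83506) L120828
theorem L120837 : sm gh N14181 = N9774 := ded_17_2 (flp_a L83535) (flp_h L83509) L120828
theorem L120841 : sm ge N9771 = N14182 := rfl
theorem L120843 : sm gb N14182 = N9772 := ded_21_1 (flp_e L83514) L83502 L120841
theorem L120847 : sm gg N14182 = N9790 := ded_41_2 (flp_e L83692) (flp_g L83506) L120841
theorem L120850 : sm gh N14182 = N9775 := ded_43_2 (flp_e L83546) (flp_h L83509) L120841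
theorem L120853 : sm gd N9772 = N14183 := rfl
theorem L120856 : sm gg N14183 = N9791 := ded_36_2 (flp_d L83703) (flp_g L83519) L120853
theorem L120861 : sm gf N9772 = N14184 := rfl
theorem L120864 : sm gc N14184 = N9773 := ded_29_1 (flp_f L83525) (flp_c L83517) L120861
theorem L120867 : sm gh N14184 = N9777 := ded_47_2 (flp_f L83566) (flp_h L83522) L120861
theorem L120871 : sm gg N9773 = N14185 := rfl
theorem L120874 : sm gb N14185 = N10575 := ded_23_1 (flp_g L90320) (flp_b L83528) L120871
theorem L120882 : sm ge N9774 = N14186 := rfl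
theorem L120884 : sm ga N14186 = N9775 := ded_13_1 (flp_e L83546) L83535 L120882
theorem L120887 : sm gc N14186 = N10576 := ded_28_1 (flp_e L90330) (flp_c L83537) L120882
theorem L120889 : sm gg N14186 = N9794 := ded_41_2 (flp_e L83732) (flp_g L83540) L120882
theorem L120892 : sm gi N14186 = N9779 := ded_44_2 (flp_e L83586) (flp_i L83543) L120882
theorem L120894 : sm gd N9775 = N14187 := rfl
theorem L120896 : sm gb N14187 = N9776 := ded_20_1 (flp_d L83557) (flp_b L83548) L120894
theorem L120898 : sm gg N14187 = N9795 := ded_36_2 (flp_d L83743) (flp_g L83552) L120894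
theorem L120900 : sm gj N14187 = N14187 := ded_37_2 (flp_d L120894) L83554 L120894
theorem L120901 : sm gi N14187 = N9780 := ded_39_2 (flp_d L83597) (flp_i L83555) L120894
theorem L120903 : sm gf N9775 = N14188 := rfl
theorem L120905 : sm gb N14188 = N9777 := ded_22_1 (flp_f L83566) (flp_b L83548) L120903
theorem L120907 : sm gc N14188 = N10578 := ded_29_1 (flp_f L90351) (flp_c L83550) L120903
theorem L120909 : sm gj N14188 = N14188 := ded_46_2 (flp_f L120903) L83554 L120903
theorem L120910 : sm gi N14188 = N9781 := ded_48_2 (flp_f L83604) (flp_i L83555) L120903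
theorem L120912 : sm ge N14188 = N14188 := ded_40_1 (flp_f L120903) (flp_e L83546) L57855 L83546 L120903
theorem L120913 : sm gf N9776 = N14189 := rfl
theorem L120917 : sm gd N14189 = N9777 := ded_35_1 (flp_f L83566) L83557 L120913
theorem L120920 : sm gi N14189 = N9782 := ded_48_2 (flp_f L83613) (flp_i L83563) L120913
theorem L120922 : sm gh N9776 = N14190 := rfl
theorem L120926 : sm gg N14190 = N9798 := ded_50_1 (flp_h L83773) (flp_g L83560) L120922
theorem L120929 : sm gg N9777 = N14191 := rfl
theorem L120932 : sm gc N14191 = N9778 := ded_30_1 (flp_g L83575) (flp_c L83569) L120929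
theorem L120935 : sm gi N14191 = N9784 := ded_51_2 (flp_g L83628) (flp_i L83572) L120929
theorem L120937 : sm gf N14191 = N9799 := ded_45_1 (flp_g L83779) (flp_f L58011) (flp_g L57868) L83566 L120929
theorem L120939 : sm gj N9778 = N14192 := rfl
theorem L120942 : sm gb N14192 = N10582 := ded_24_1 (flp_j L90389) (flp_b L83578) L120939
theorem L120951 : sm gd N9779 = N14193 := rfl
theorem L120953 : sm ga N14193 = N9780 := ded_12_1 (flp_d L83597) (flp_a L83588) L120951
theorem L120955 : sm gb N14193 = N14193 := ded_20_1 (flp_d L120951) L83590 L120951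
theorem L120956 : sm gg N14193 = N9801 := ded_36_2 (flp_d L83800) (flp_g L83593) L120951
theorem L120958 : sm gj N14193 = N14193 := ded_37_2 (flp_d L120951) L83595 L120951
theorem L120959 : sm gf N9779 = N14194 := rfl
theorem L120961 : sm ga N14194 = N9781 := ded_14_1 (flp_f L83604) (flp_a L83588) L120959
theorem L120963 : sm gb N14194 = N14194 := ded_22_1 (flp_f L120959) L83590 L120959
theorem L120964 : sm gc N14194 = N10584 := ded_29_1 (flp_f L90410) (flp_c L83591) L120959
theorem L120966 : sm gj N14194 = N14194 := ded_46_2 (flp_f L120959) L83595 L120959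
theorem L120967 : sm gh N14194 = N14194 := ded_47_2 (flp_f L120959) L83596 L120959
theorem L120968 : sm ge N14194 = N14194 := ded_40_1 (flp_f L120959) (flp_e L83586) L57887 L83586 L120959
theorem L120969 : sm gc N9780 = N14195 := rfl
theorem L120971 : sm gg N14195 = N9803 := ded_30_2 (flp_c L83819) (flp_g L83601) L120969
theorem L120973 : sm gj N14195 = N14195 := ded_31_2 (flp_c L120969) L83603 L120969
theorem L120974 : sm gb N14195 = N14195 := ded_19_1 (flp_c L120969) L83599 L57909 (flp_b L83599) L120969
theorem L120975 : sm gd N14195 = N10585 := ded_27_2 (flp_c L90419) (flp_d L62592) (flp_c L57897) L83597 L120969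
theorem L120977 : sm gf N9780 = N14196 := rfl
theorem L120979 : sm gb N14196 = N9782 := ded_22_1 (flp_f L83613) (flp_b L83599) L120977
theorem L120981 : sm gd N14196 = N9781 := ded_35_1 (flp_f L83604) L83597 L120977
theorem L120983 : sm gj N14196 = N14196 := ded_46_2 (flp_f L120977) L83603 L120977
theorem L120984 : sm gh N9780 = N14197 := rfl
theorem L120986 : sm gb N14197 = N9783 := ded_25_1 (flp_h L83620) (flp_b L83599) L120984
theorem L120988 : sm gg N14197 = N9805 := ded_50_1 (flp_h L83834) (flp_g L83601) L120984
theorem L120990 : sm gj N14197 = N14197 := ded_52_1 (flp_h L120984) L83603 L120984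
theorem L120991 : sm gd N14197 = N14197 := ded_38_1 (flp_h L120984) (flp_d L83597) L57902 L83597 L120984
theorem L120992 : sm gg N9781 = N14198 := rfl
theorem L120994 : sm gb N14198 = N9784 := ded_23_1 (flp_g L83628) (flp_b L83606) L120992
theorem L121000 : sm gf N14198 = N9806 := ded_45_1 (flp_g L83841) (flp_f L58048) (flp_g L57899) L83604 L120992
theorem L121002 : sm ge N9782 = N14199 := rfl
theorem L121004 : sm ga N14199 = N14199 := ded_13_1 (flp_e L121002) L83615 L121002
theorem L121005 : sm gc N14199 = N14199 := ded_28_1 (flp_e L121002) L83616 L121002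
theorem L121006 : sm gj N14199 = N14199 := ded_42_2 (flp_e L121002) L83619 L121002
theorem L121007 : sm gd N14199 = N14199 := ded_34_1 (flp_e L121002) L83617 L57917 (flp_d L83617) L121002
theorem L121008 : sm gg N9782 = N14200 := rfl
theorem L121012 : sm gd N14200 = N9784 := ded_36_1 (flp_g L83628) (flp_d L83617) L121008
theorem L121014 : sm gf N14200 = N9808 := ded_45_1 (flp_g L83858) (flp_f L58059) (flp_g L57906) L83613 L121008
theorem L121016 : sm gh N9782 = N14201 := rfl
theorem L121018 : sm ga N14201 = N14201 := ded_17_1 (flp_h L121016) L83615 L121016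
theorem L121019 : sm gc N14201 = N14201 := ded_32_1 (flp_h L121016) L83616 L121016
theorem L121020 : sm gf N14201 = N9783 := ded_47_1 (flp_h L83620) L83613 L121016
theorem L121022 : sm gj N14201 = N14201 := ded_52_1 (flp_h L121016) L83619 L121016
theorem L121023 : sm gd N14201 = N14201 := ded_38_1 (flp_h L121016) L83617 L57916 (flp_d L83617) L121016
theorem L121024 : sm gi N9783 = N14202 := rfl
theorem L121029 : sm gg N14202 = N9810 := ded_51_1 (flp_i L83873) (flp_g L83624) L121024
theorem L121032 : sm gj N9784 = N14203 := rfl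
theorem L121038 : sm gf N14203 = N9811 := ded_46_1 (flp_j L83880) (flp_f L83635) L121032
theorem L121042 : sm ga N9786 = N14204 := rfl
theorem L121048 : sm gj N14204 = N9812 := ded_16_2 (flp_a L83890) (flp_j L83652) L121042
theorem L121053 : sm ge N9786 = N14205 := rfl
theorem L121055 : sm gb N14205 = N9787 := ded_21_1 (flp_e L83658) L83648 L121053
theorem L121057 : sm gc N14205 = N10606 := ded_28_1 (flp_e L90618) (flp_c L83656) L121053
theorem L121059 : sm gj N14205 = N9813 := ded_42_2 (flp_e L83900) (flp_j L83652) L121053
theorem L121063 : sm gd N9787 = N14206 := rfl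
theorem L121065 : sm ga N14206 = N14206 := ded_12_1 (flp_d L121063) L83660 L121063
theorem L121066 : sm gj N14206 = N9814 := ded_37_2 (flp_d L83909) (flp_j L83663) L121063
theorem L121069 : sm gc N14206 = N9791 := ded_27_1 (flp_d L83703) L57963 (flp_d L57946) (flp_c L83661) L121063
theorem L121072 : sm gf N9787 = N14207 := rfl
theorem L121075 : sm gc N14207 = N9788 := ded_29_1 (flp_f L83667) (flp_c L83661) L121072
theorem L121077 : sm gj N14207 = N9815 := ded_46_2 (flp_f L83917) (flp_j L83663) L121072
theorem L121079 : sm gh N14207 = N14207 := ded_47_2 (flp_f L121072) L83665 L121072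
theorem L121082 : sm gg N9788 = N14208 := rfl
theorem L121085 : sm gb N14208 = N10609 := ded_23_1 (flp_g L90646) (flp_b L83670) L121082
theorem L121087 : sm gd N14208 = N9793 := ded_36_1 (flp_g L83722) (flp_d L83672) L121082
theorem L121092 : sm ge N9789 = N14209 := rfl
theorem L121094 : sm ga N14209 = N9790 := ded_13_1 (flp_e L83692) L83679 L121092
theorem L121096 : sm gb N14209 = N14209 := ded_21_1 (flp_e L121092) L83691 L121092
theorem L121097 : sm gc N14209 = N10610 := ded_28_1 (flp_e L90655) (flp_c L83681) L121092
theorem L121099 : sm gj N14209 = N9817 := ded_42_2 (flp_e L83936) (flp_j L83686) L121092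
theorem L121104 : sm gd N9790 = N14210 := rfl
theorem L121106 : sm gb N14210 = N9791 := ded_20_1 (flp_d L83703) (flp_b L83694) L121104
theorem L121108 : sm gj N14210 = N9818 := ded_37_2 (flp_d L83947) (flp_j L83698) L121104
theorem L121112 : sm gf N9790 = N14211 := rfl
theorem L121114 : sm gb N14211 = N9792 := ded_22_1 (flp_f L83710) (flp_b L83694) L121112
theorem L121116 : sm gc N14211 = N10612 := ded_29_1 (flp_f L90673) (flp_c L83696) L121112
theorem L121118 : sm gj N14211 = N9819 := ded_46_2 (flp_f L83954) (flp_j L83698) L121112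
theorem L121120 : sm gh N14211 = N9796 := ded_47_2 (flp_f L83751) (flp_h L83700) L121112
theorem L121125 : sm gf N9791 = N14212 := rfl
theorem L121128 : sm gd N14212 = N9792 := ded_35_1 (flp_f L83710) L83703 L121125
theorem L121130 : sm gj N14212 = N9820 := ded_46_2 (flp_f L83965) (flp_j L83706) L121125
theorem L121133 : sm gh N9791 = N14213 := rfl
theorem L121137 : sm gj N14213 = N9821 := ded_52_1 (flp_h L83971) (flp_j L83706) L121133
theorem L121139 : sm gd N14213 = N9798 := ded_38_1 (flp_h L83773) (flp_d L58003) (flp_h L57967) L83703 L121133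
theorem L121141 : sm gg N9792 = N14214 := rfl
theorem L121144 : sm gc N14214 = N9793 := ded_30_1 (flp_g L83722) (flp_c L83713) L121141
theorem L121146 : sm ge N14214 = N9856 := ded_41_1 (flp_g L84260) (flp_e L83720) L121141
theorem L121148 : sm gh N14214 = N9799 := ded_50_2 (flp_g L83779) (flp_h L83717) L121141
theorem L121151 : sm gj N9793 = N14215 := rfl
theorem L121154 : sm gb N14215 = N10616 := ded_24_1 (flp_j L90712) (flp_b L83725) L121151
theorem L121156 : sm ge N14215 = N9857 := ded_42_1 (flp_j L84269) (flp_e L83727) L121151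
theorem L121161 : sm gg N14215 = N9823 := ded_49_1 (flp_j L83989) (flp_g L58158) (flp_j L57975) L83722 L121151
theorem L121163 : sm gd N9794 = N14216 := rfl
theorem L121165 : sm ga N14216 = N9795 := ded_12_1 (flp_d L83743) (flp_a L83734) L121163
theorem L121168 : sm gj N14216 = N9824 := ded_37_2 (flp_d L84000) (flp_j L83739) L121163
theorem L121170 : sm gi N14216 = N9801 := ded_39_2 (flp_d L83800) (flp_i L83741) L121163
theorem L121172 : sm gf N9794 = N14217 := rfl
theorem L121174 : sm ga N14217 = N9796 := ded_14_1 (flp_f L83751) (flp_a L83734) L121172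
theorem L121177 : sm gc N14217 = N10618 := ded_29_1 (flp_f L90734) (flp_c L83737) L121172
theorem L121181 : sm gi N14217 = N9802 := ded_48_2 (flp_f L83807) (flp_i L83741) L121172
theorem L121183 : sm ge N14217 = N9859 := ded_40_1 (flp_f L84291) (flp_e L58362) (flp_f L57986) L83732 L121172
theorem L121185 : sm gc N9795 = N14218 := rfl
theorem L121187 : sm gj N14218 = N9826 := ded_31_2 (flp_c L84019) (flp_j L83747) L121185
theorem L121189 : sm gi N14218 = N9803 := ded_33_2 (flp_c L83819) (flp_i L83749) L121185
theorem L121191 : sm gb N14218 = N14218 := ded_19_1 (flp_c L121185) L83745 L58010 (flp_b L83745) L121185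
theorem L121192 : sm gd N14218 = N10619 := ded_27_2 (flp_c L90746) (flp_d L62806) (flp_c L57997) L83743 L121185
theorem L121194 : sm gf N9795 = N14219 := rfl
theorem L121196 : sm gb N14219 = N9797 := ded_22_1 (flp_f L83763) (flp_b L83745) L121194
theorem L121198 : sm gd N14219 = N9796 := ded_35_1 (flp_f L83751) L83743 L121194
theorem L121200 : sm gj N14219 = N9827 := ded_46_2 (flp_f L84027) (flp_j L83747) L121194
theorem L121202 : sm gi N14219 = N9804 := ded_48_2 (flp_f L83826) (flp_i L83749) L121194
theorem L121204 : sm gh N9795 = N14220 := rfl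
theorem L121206 : sm gb N14220 = N9798 := ded_25_1 (flp_h L83773) (flp_b L83745) L121204
theorem L121208 : sm gj N14220 = N9828 := ded_52_1 (flp_h L84035) (flp_j L83747) L121204
theorem L121210 : sm gg N9796 = N14221 := rfl
theorem L121212 : sm gb N14221 = N9799 := ded_23_1 (flp_g L83779) (flp_b L83753) L121210
theorem L121214 : sm gc N14221 = N10622 := ded_30_1 (flp_g L90771) (flp_c L83755) L121210
theorem L121216 : sm ge N14221 = N9863 := ded_41_1 (flp_g L84330) (flp_e L83761) L121210
theorem L121218 : sm gi N14221 = N9806 := ded_51_2 (flp_g L83841) (flp_i L83759) L121210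
theorem L121220 : sm ge N9797 = N14222 := rfl
theorem L121222 : sm ga N14222 = N14222 := ded_13_1 (flp_e L121220) L83765 L121220
theorem L121223 : sm gc N14222 = N14222 := ded_28_1 (flp_e L121220) L83766 L121220
theorem L121224 : sm gj N14222 = N9830 := ded_42_2 (flp_e L84051) (flp_j L83769) L121220
theorem L121226 : sm gi N14222 = N9807 := ded_44_2 (flp_e L83850) (flp_i L83771) L121220
theorem L121228 : sm gd N14222 = N9864 := ded_34_1 (flp_e L84339) L58398 (flp_e L58020) (flp_d L83767) L121220
theorem L121230 : sm gg N9797 = N14223 := rfl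
theorem L121234 : sm gd N14223 = N9799 := ded_36_1 (flp_g L83779) (flp_d L83767) L121230
theorem L121238 : sm gh N9797 = N14224 := rfl
theorem L121246 : sm gi N9798 = N14225 := rfl
theorem L121248 : sm ga N14225 = N14225 := ded_18_1 (flp_i L121246) L83775 L121246
theorem L121249 : sm gc N14225 = N14225 := ded_33_1 (flp_i L121246) L83776 L121246
theorem L121250 : sm gj N14225 = N9833 := ded_53_1 (flp_i L84074) (flp_j L83777) L121246
theorem L121252 : sm gh N14225 = N9810 := ded_54_1 (flp_i L83873) (flp_h L58067) (flp_i L58008) L83773 L121246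
theorem L121254 : sm gj N9799 = N14226 := rfl
theorem L121257 : sm gc N14226 = N9800 := ded_31_1 (flp_j L83788) (flp_c L83782) L121254
theorem L121259 : sm ge N14226 = N9868 := ded_42_1 (flp_j L84377) (flp_e L83784) L121254
theorem L121261 : sm gi N14226 = N9811 := ded_53_2 (flp_j L83880) (flp_i L83786) L121254
theorem L121263 : sm gg N14226 = N9834 := ded_49_1 (flp_j L84081) (flp_g L58209) (flp_j L58016) L83779 L121254
theorem L121265 : sm gc N9801 = N14227 := rfl
theorem L121267 : sm ga N14227 = N9803 := ded_11_1 (flp_c L83819) (flp_a L83802) L121265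
theorem L121269 : sm gj N14227 = N9835 := ded_31_2 (flp_c L84091) (flp_j L83805) L121265
theorem L121271 : sm gd N14227 = N10628 := ded_27_2 (flp_c L90831) (flp_d L62865) (flp_c L58037) L83800 L121265
theorem L121273 : sm gf N9801 = N14228 := rfl
theorem L121275 : sm ga N14228 = N9804 := ded_14_1 (flp_f L83826) (flp_a L83802) L121273
theorem L121277 : sm gb N14228 = N14228 := ded_22_1 (flp_f L121273) L83804 L121273
theorem L121278 : sm gd N14228 = N9802 := ded_35_1 (flp_f L83807) L83800 L121273
theorem L121280 : sm gj N14228 = N9836 := ded_46_2 (flp_f L84098) (flp_j L83805) L121273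
theorem L121282 : sm gh N9801 = N14229 := rfl
theorem L121284 : sm ga N14229 = N9805 := ded_17_1 (flp_h L83834) (flp_a L83802) L121282
theorem L121290 : sm gg N9802 = N14230 := rfl
theorem L121292 : sm ga N14230 = N9806 := ded_15_1 (flp_g L83841) (flp_a L83809) L121290
theorem L121294 : sm gb N14230 = N14230 := ded_23_1 (flp_g L121290) L83811 L121290
theorem L121295 : sm gc N14230 = N10631 := ded_30_1 (flp_g L90858) (flp_c L83812) L121290
theorem L121297 : sm ge N14230 = N9872 := ded_41_1 (flp_g L84414) (flp_e L83817) L121290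
theorem L121299 : sm gh N14230 = N14230 := ded_50_2 (flp_g L121290) L83816 L121290
theorem L121300 : sm gf N9803 = N14231 := rfl
theorem L121302 : sm gb N14231 = N14231 := ded_22_1 (flp_f L121300) L83823 L121300
theorem L121303 : sm gc N14231 = N9804 := ded_29_1 (flp_f L83826) L83819 L121300
theorem L121305 : sm gd N14231 = N10632 := ded_35_1 (flp_f L90867) (flp_d L83824) L121300
theorem L121307 : sm gj N14231 = N9839 := ded_46_2 (flp_f L84123) (flp_j L83821) L121300
theorem L121309 : sm gh N9803 = N14232 := rfl
theorem L121312 : sm gc N14232 = N9805 := ded_32_1 (flp_h L83834) L83819 L121309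
theorem L121314 : sm gj N14232 = N9840 := ded_52_1 (flp_h L84130) (flp_j L83821) L121309
theorem L121316 : sm ge N9804 = N14233 := rfl
theorem L121318 : sm gb N14233 = N9807 := ded_21_1 (flp_e L83850) (flp_b L83828) L121316
theorem L121320 : sm gj N14233 = N9841 := ded_42_2 (flp_e L84136) (flp_j L83832) L121316
theorem L121322 : sm gd N14233 = N9875 := ded_34_1 (flp_e L84442) L58463 (flp_e L58057) (flp_d L83830) L121316
theorem L121324 : sm gg N9804 = N14234 := rfl
theorem L121326 : sm gb N14234 = N9808 := ded_23_1 (flp_g L83858) (flp_b L83828) L121324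
theorem L121328 : sm gd N14234 = N9806 := ded_36_1 (flp_g L83841) (flp_d L83830) L121324
theorem L121330 : sm gh N9804 = N14235 := rfl
theorem L121332 : sm gb N14235 = N9809 := ded_25_1 (flp_h L83864) (flp_b L83828) L121330
theorem L121334 : sm gf N14235 = N9805 := ded_47_1 (flp_h L83834) L83826 L121330
theorem L121336 : sm gj N14235 = N9843 := ded_52_1 (flp_h L84149) (flp_j L83832) L121330
theorem L121338 : sm gd N14235 = N14235 := ded_38_1 (flp_h L121330) L83830 L58056 (flp_d L83830) L121330
theorem L121339 : sm gi N9805 = N14236 := rfl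
theorem L121341 : sm gb N14236 = N9810 := ded_26_1 (flp_i L83873) (flp_b L83836) L121339
theorem L121343 : sm gd N14236 = N14236 := ded_39_1 (flp_i L121339) L83840 L121339
theorem L121344 : sm gj N14236 = N9844 := ded_53_1 (flp_i L84156) (flp_j L83838) L121339
theorem L121346 : sm gj N9806 = N14237 := rfl
theorem L121348 : sm gb N14237 = N9811 := ded_24_1 (flp_j L83880) (flp_b L83843) L121346
theorem L121352 : sm ge N14237 = N9879 := ded_42_1 (flp_j L84472) (flp_e L83847) L121346
theorem L121357 : sm gg N9807 = N14238 := rfl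
theorem L121359 : sm ga N14238 = N14238 := ded_15_1 (flp_g L121357) L83852 L121357
theorem L121360 : sm gc N14238 = N14238 := ded_30_1 (flp_g L121357) L83853 L121357
theorem L121361 : sm gd N14238 = N9880 := ded_36_1 (flp_g L84482) (flp_d L83856) L121357
theorem L121363 : sm ge N14238 = N9808 := ded_41_1 (flp_g L83858) L83850 L121357
theorem L121365 : sm gh N9807 = N14239 := rfl
theorem L121367 : sm ga N14239 = N14239 := ded_17_1 (flp_h L121365) L83852 L121365
theorem L121368 : sm gc N14239 = N14239 := ded_32_1 (flp_h L121365) L83853 L121365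
theorem L121369 : sm ge N14239 = N9809 := ded_43_1 (flp_h L83864) L83850 L121365
theorem L121371 : sm gj N14239 = N9847 := ded_52_1 (flp_h L84180) (flp_j L83854) L121365
theorem L121373 : sm gj N9808 = N14240 := rfl
theorem L121377 : sm gd N14240 = N9811 := ded_37_1 (flp_j L83880) (flp_d L83862) L121373
theorem L121379 : sm gg N14240 = N9848 := ded_49_1 (flp_j L84186) (flp_g L58280) (flp_j L58065) L83858 L121373
theorem L121381 : sm gh N9808 = N14241 := rfl
theorem L121383 : sm ga N14241 = N14241 := ded_17_1 (flp_h L121381) L83860 L121381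
theorem L121384 : sm gc N14241 = N14241 := ded_32_1 (flp_h L121381) L83861 L121381
theorem L121385 : sm gg N14241 = N9809 := ded_50_1 (flp_h L83864) L83858 L121381
theorem L121387 : sm gd N14241 = N14241 := ded_38_1 (flp_h L121381) L83862 L58081 (flp_d L83862) L121381
theorem L121388 : sm gi N9809 = N14242 := rfl
theorem L121390 : sm ga N14242 = N14242 := ded_18_1 (flp_i L121388) L83866 L121388
theorem L121391 : sm gc N14242 = N14242 := ded_33_1 (flp_i L121388) L83867 L121388
theorem L121392 : sm gd N14242 = N14242 := ded_39_1 (flp_i L121388) L83872 L121388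
theorem L121393 : sm gf N14242 = N9810 := ded_48_1 (flp_i L83873) (flp_f L83868) L121388
theorem L121395 : sm gj N14242 = N9850 := ded_53_1 (flp_i L84201) (flp_j L83870) L121388
theorem L121397 : sm ge N9812 = N14243 := rfl
theorem L121399 : sm ga N14243 = N9813 := ded_13_1 (flp_e L83900) L83890 L121397
theorem L121407 : sm gd N9813 = N14244 := rfl
theorem L121409 : sm gb N14244 = N9814 := ded_20_1 (flp_d L83909) (flp_b L83902) L121407
theorem L121414 : sm gf N9813 = N14245 := rfl
theorem L121416 : sm gb N14245 = N9815 := ded_22_1 (flp_f L83917) (flp_b L83902) L121414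
theorem L121423 : sm gf N9814 = N14246 := rfl
theorem L121426 : sm gc N14246 = N9820 := ded_29_1 (flp_f L83965) (flp_c L83914) L121423
theorem L121428 : sm gd N14246 = N9815 := ded_35_1 (flp_f L83917) L83909 L121423
theorem L121431 : sm gh N9814 = N14247 := rfl
theorem L121434 : sm gc N14247 = N9821 := ded_32_1 (flp_h L83971) (flp_c L83914) L121431
theorem L121439 : sm gg N9815 = N14248 := rfl
theorem L121442 : sm gc N14248 = N9816 := ded_30_1 (flp_g L83925) (flp_c L83920) L121439
theorem L121445 : sm gh N14248 = N14248 := ded_50_2 (flp_g L121439) L83922 L121439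
theorem L121446 : sm gi N14248 = N14248 := ded_51_2 (flp_g L121439) L83923 L121439
theorem L121448 : sm gj N9816 = N14249 := rfl
theorem L121451 : sm gb N14249 = N10667 := ded_24_1 (flp_j L91172) (flp_b L83928) L121448
theorem L121453 : sm gd N14249 = N9823 := ded_37_1 (flp_j L83989) (flp_d L83930) L121448
theorem L121459 : sm gd N9817 = N14250 := rfl
theorem L121461 : sm ga N14250 = N9818 := ded_12_1 (flp_d L83947) (flp_a L83938) L121459
theorem L121467 : sm gf N9817 = N14251 := rfl
theorem L121472 : sm gc N14251 = N10669 := ded_29_1 (flp_f L91190) (flp_c L83941) L121467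
theorem L121479 : sm gc N9818 = N14252 := rfl
theorem L121486 : sm gf N9818 = N14253 := rfl
theorem L121488 : sm gb N14253 = N9820 := ded_22_1 (flp_f L83965) (flp_b L83949) L121486
theorem L121490 : sm gd N14253 = N9819 := ded_35_1 (flp_f L83954) L83947 L121486
theorem L121493 : sm gh N9818 = N14254 := rfl
theorem L121495 : sm gb N14254 = N9821 := ded_25_1 (flp_h L83971) (flp_b L83949) L121493
theorem L121499 : sm gd N14254 = N9828 := ded_38_1 (flp_h L84035) (flp_d L58179) (flp_h L58139) L83947 L121493
theorem L121501 : sm gg N9819 = N14255 := rfl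
theorem L121503 : sm gb N14255 = N9822 := ded_23_1 (flp_g L83978) (flp_b L83956) L121501
theorem L121505 : sm gc N14255 = N10673 := ded_30_1 (flp_g L91219) (flp_c L83958) L121501
theorem L121507 : sm ge N14255 = N9890 := ded_41_1 (flp_g L84571) (flp_e L83963) L121501
theorem L121513 : sm ge N9820 = N14256 := rfl
theorem L121517 : sm gd N14256 = N9891 := ded_34_1 (flp_e L84582) L58559 (flp_e L58156) (flp_d L83968) L121513
theorem L121520 : sm gg N9820 = N14257 := rfl
theorem L121523 : sm gd N14257 = N9822 := ded_36_1 (flp_g L83978) (flp_d L83968) L121520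
theorem L121527 : sm gh N9820 = N14258 := rfl
theorem L121530 : sm gf N14258 = N9821 := ded_47_1 (flp_h L83971) L83965 L121527
theorem L121534 : sm gi N9821 = N14259 := rfl
theorem L121536 : sm ga N14259 = N14259 := ded_18_1 (flp_i L121534) L83973 L121534
theorem L121537 : sm gd N14259 = N9833 := ded_39_1 (flp_i L84074) (flp_d L83976) L121534
theorem L121539 : sm ge N14259 = N14259 := ded_44_1 (flp_i L121534) L83974 L121534
theorem L121540 : sm gg N14259 = N14259 := ded_51_1 (flp_i L121534) L83975 L121534
theorem L121541 : sm gh N14259 = N14259 := ded_54_1 (flp_i L121534) (flp_h L83971) L58146 L83971 L121534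
theorem L121542 : sm gj N9822 = N14260 := rfl
theorem L121545 : sm gc N14260 = N9823 := ded_31_1 (flp_j L83989) (flp_c L83981) L121542
theorem L121547 : sm ge N14260 = N9895 := ded_42_1 (flp_j L84615) (flp_e L83983) L121542
theorem L121550 : sm gh N14260 = N9834 := ded_52_2 (flp_j L84081) (flp_h L83985) L121542
theorem L121553 : sm gc N9824 = N14261 := rfl
theorem L121555 : sm ga N14261 = N9826 := ded_11_1 (flp_c L84019) (flp_a L84002) L121553
theorem L121558 : sm gi N14261 = N9835 := ded_33_2 (flp_c L84091) (flp_i L84006) L121553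
theorem L121562 : sm gf N9824 = N14262 := rfl
theorem L121564 : sm ga N14262 = N9827 := ded_14_1 (flp_f L84027) (flp_a L84002) L121562
theorem L121569 : sm gi N14262 = N9836 := ded_48_2 (flp_f L84098) (flp_i L84006) L121562
theorem L121571 : sm gh N9824 = N14263 := rfl
theorem L121573 : sm ga N14263 = N9828 := ded_17_1 (flp_h L84035) (flp_a L84002) L121571
theorem L121577 : sm gg N9825 = N14264 := rfl
theorem L121582 : sm gc N14264 = N10682 := ded_30_1 (flp_g L91298) (flp_c L84013) L121577
theorem L121586 : sm gi N14264 = N9838 := ded_51_2 (flp_g L84112) (flp_i L84015) L121577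
theorem L121589 : sm gf N9826 = N14265 := rfl
theorem L121591 : sm gb N14265 = N14265 := ded_22_1 (flp_f L121589) L84024 L121589
theorem L121592 : sm gc N14265 = N9827 := ded_29_1 (flp_f L84027) L84019 L121589
theorem L121594 : sm gd N14265 = N10683 := ded_35_1 (flp_f L91309) (flp_d L84025) L121589
theorem L121596 : sm gi N14265 = N9839 := ded_48_2 (flp_f L84123) (flp_i L84022) L121589
theorem L121598 : sm gh N9826 = N14266 := rfl
theorem L121600 : sm gb N14266 = N14266 := ded_25_1 (flp_h L121598) L84024 L121598
theorem L121601 : sm gc N14266 = N9828 := ded_32_1 (flp_h L84035) L84019 L121598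
theorem L121603 : sm gg N14266 = N14266 := ded_50_1 (flp_h L121598) L84021 L121598
theorem L121604 : sm ge N9827 = N14267 := rfl
theorem L121606 : sm gb N14267 = N9830 := ded_21_1 (flp_e L84051) (flp_b L84029) L121604
theorem L121608 : sm gi N14267 = N9841 := ded_44_2 (flp_e L84136) (flp_i L84033) L121604
theorem L121610 : sm gd N14267 = N9902 := ded_34_1 (flp_e L84680) L58624 (flp_e L58194) (flp_d L84031) L121604
theorem L121612 : sm gg N9827 = N14268 := rfl
theorem L121614 : sm gb N14268 = N9831 := ded_23_1 (flp_g L84059) (flp_b L84029) L121612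
theorem L121616 : sm gd N14268 = N9829 := ded_36_1 (flp_g L84040) (flp_d L84031) L121612
theorem L121618 : sm gi N14268 = N9842 := ded_51_2 (flp_g L84142) (flp_i L84033) L121612
theorem L121620 : sm gf N14268 = N14268 := ded_45_1 (flp_g L121612) (flp_f L84027) L58183 L84027 L121612
theorem L121621 : sm gh N9827 = N14269 := rfl
theorem L121623 : sm gb N14269 = N9832 := ded_25_1 (flp_h L84068) (flp_b L84029) L121621
theorem L121625 : sm gf N14269 = N9828 := ded_47_1 (flp_h L84035) L84027 L121621
theorem L121627 : sm gi N9828 = N14270 := rfl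
theorem L121629 : sm gb N14270 = N9833 := ded_26_1 (flp_i L84074) (flp_b L84037) L121627
theorem L121631 : sm gg N14270 = N14270 := ded_51_1 (flp_i L121627) L84039 L121627
theorem L121632 : sm gh N14270 = N9844 := ded_54_1 (flp_i L84156) (flp_h L58258) (flp_i L58184) L84035 L121627
theorem L121634 : sm gj N9829 = N14271 := rfl
theorem L121636 : sm gb N14271 = N9834 := ded_24_1 (flp_j L84081) (flp_b L84042) L121634
theorem L121638 : sm gc N14271 = N10689 := ded_31_1 (flp_j L91355) (flp_c L84044) L121634
theorem L121640 : sm ge N14271 = N9906 := ded_42_1 (flp_j L84710) (flp_e L84046) L121634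
theorem L121642 : sm gf N14271 = N14271 := ded_46_1 (flp_j L121634) L84050 L121634
theorem L121643 : sm gi N14271 = N9845 := ded_53_2 (flp_j L84162) (flp_i L84048) L121634
theorem L121645 : sm gg N9830 = N14272 := rfl
theorem L121647 : sm ga N14272 = N14272 := ded_15_1 (flp_g L121645) L84053 L121645
theorem L121648 : sm gc N14272 = N14272 := ded_30_1 (flp_g L121645) L84054 L121645
theorem L121649 : sm gd N14272 = N9907 := ded_36_1 (flp_g L84720) (flp_d L84057) L121645
theorem L121651 : sm ge N14272 = N9831 := ded_41_1 (flp_g L84059) L84051 L121645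
theorem L121653 : sm gi N14272 = N9846 := ded_51_2 (flp_g L84172) (flp_i L84055) L121645
theorem L121655 : sm gh N9830 = N14273 := rfl
theorem L121657 : sm ga N14273 = N14273 := ded_17_1 (flp_h L121655) L84053 L121655
theorem L121658 : sm gc N14273 = N14273 := ded_32_1 (flp_h L121655) L84054 L121655
theorem L121659 : sm ge N14273 = N9832 := ded_43_1 (flp_h L84068) L84051 L121655
theorem L121661 : sm gj N9831 = N14274 := rfl
theorem L121665 : sm gd N14274 = N9834 := ded_37_1 (flp_j L84081) (flp_d L84063) L121661
theorem L121668 : sm gi N14274 = N9848 := ded_53_2 (flp_j L84186) (flp_i L84065) L121661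
theorem L121670 : sm gh N9831 = N14275 := rfl
theorem L121675 : sm gg N14275 = N9832 := ded_50_1 (flp_h L84068) L84059 L121670
theorem L121677 : sm gi N9832 = N14276 := rfl
theorem L121679 : sm ga N14276 = N14276 := ded_18_1 (flp_i L121677) L84070 L121677
theorem L121680 : sm gc N14276 = N14276 := ded_33_1 (flp_i L121677) L84071 L121677
theorem L121681 : sm gf N14276 = N9833 := ded_48_1 (flp_i L84074) (flp_f L84072) L121677
theorem L121683 : sm gh N14276 = N9850 := ded_54_1 (flp_i L84201) (flp_h L58287) (flp_i L58202) L84068 L121677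
theorem L121685 : sm gb N9835 = N14277 := rfl
theorem L121687 : sm gd N14277 = N10695 := ded_20_2 (flp_b L91410) (flp_d L84096) L121685
theorem L121692 : sm gf N9835 = N14278 := rfl
theorem L121694 : sm ga N14278 = N9839 := ded_14_1 (flp_f L84123) (flp_a L84093) L121692
theorem L121696 : sm gc N14278 = N9836 := ded_29_1 (flp_f L84098) L84091 L121692
theorem L121698 : sm gd N14278 = N10696 := ded_35_1 (flp_f L91417) (flp_d L84096) L121692
theorem L121700 : sm gh N9835 = N14279 := rfl
theorem L121707 : sm ge N9836 = N14280 := rfl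
theorem L121709 : sm ga N14280 = N9841 := ded_13_1 (flp_e L84136) (flp_a L84100) L121707
theorem L121711 : sm gb N14280 = N14280 := ded_21_1 (flp_e L121707) L84102 L121707
theorem L121712 : sm gd N14280 = N9915 := ded_34_1 (flp_e L84790) L58700 (flp_e L58244) (flp_d L84103) L121707
theorem L121714 : sm gg N9836 = N14281 := rfl
theorem L121716 : sm ga N14281 = N9842 := ded_15_1 (flp_g L84142) (flp_a L84100) L121714
theorem L121718 : sm gb N14281 = N14281 := ded_23_1 (flp_g L121714) L84102 L121714
theorem L121719 : sm gd N14281 = N9838 := ded_36_1 (flp_g L84112) (flp_d L84103) L121714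
theorem L121721 : sm gf N14281 = N14281 := ded_45_1 (flp_g L121714) (flp_f L84098) L58235 L84098 L121714
theorem L121722 : sm gh N9836 = N14282 := rfl
theorem L121724 : sm ga N14282 = N9843 := ded_17_1 (flp_h L84149) (flp_a L84100) L121722
theorem L121737 : sm gj N9838 = N14284 := rfl
theorem L121739 : sm ga N14284 = N9845 := ded_16_1 (flp_j L84162) (flp_a L84114) L121737
theorem L121741 : sm gb N14284 = N14284 := ded_24_1 (flp_j L121737) L84116 L121737
theorem L121742 : sm gc N14284 = N10702 := ded_31_1 (flp_j L91467) (flp_c L84117) L121737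
theorem L121744 : sm ge N14284 = N9919 := ded_42_1 (flp_j L84820) (flp_e L84119) L121737
theorem L121746 : sm gf N14284 = N14284 := ded_46_1 (flp_j L121737) L84122 L121737
theorem L121747 : sm gh N14284 = N14284 := ded_52_2 (flp_j L121737) L84121 L121737
theorem L121748 : sm ge N9839 = N14285 := rfl
theorem L121750 : sm gb N14285 = N14285 := ded_21_1 (flp_e L121748) L84125 L121748
theorem L121751 : sm gc N14285 = N9841 := ded_28_1 (flp_e L84136) (flp_c L84126) L121748
theorem L121753 : sm gg N9839 = N14286 := rfl
theorem L121755 : sm gb N14286 = N14286 := ded_23_1 (flp_g L121753) L84125 L121753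
theorem L121756 : sm gc N14286 = N9842 := ded_30_1 (flp_g L84142) (flp_c L84126) L121753
theorem L121758 : sm gd N14286 = N10704 := ded_36_1 (flp_g L91483) (flp_d L84128) L121753
theorem L121760 : sm gf N14286 = N14286 := ded_45_1 (flp_g L121753) (flp_f L84123) L58248 L84123 L121753
theorem L121761 : sm gh N9839 = N14287 := rfl
theorem L121764 : sm gc N14287 = N9843 := ded_32_1 (flp_h L84149) (flp_c L84126) L121761
theorem L121768 : sm gd N9840 = N14288 := rfl
theorem L121773 : sm gh N14288 = N10706 := ded_38_2 (flp_d L91496) (flp_h L63300) (flp_d L58250) L84130 L121768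
theorem L121775 : sm gi N9840 = N14289 := rfl
theorem L121781 : sm gg N9841 = N14290 := rfl
theorem L121783 : sm gb N14290 = N9846 := ded_23_1 (flp_g L84172) (flp_b L84138) L121781
theorem L121785 : sm gd N14290 = N9925 := ded_36_1 (flp_g L84871) (flp_d L84140) L121781
theorem L121787 : sm ge N14290 = N9842 := ded_41_1 (flp_g L84142) L84136 L121781
theorem L121789 : sm gh N9841 = N14291 := rfl
theorem L121791 : sm gb N14291 = N9847 := ded_25_1 (flp_h L84180) (flp_b L84138) L121789
theorem L121793 : sm ge N14291 = N9843 := ded_43_1 (flp_h L84149) L84136 L121789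
theorem L121795 : sm gj N9842 = N14292 := rfl
theorem L121797 : sm gb N14292 = N9848 := ded_24_1 (flp_j L84186) (flp_b L84144) L121795
theorem L121799 : sm gd N14292 = N9845 := ded_37_1 (flp_j L84162) (flp_d L84146) L121795
theorem L121801 : sm gf N14292 = N14292 := ded_46_1 (flp_j L121795) L84148 L121795
theorem L121802 : sm gh N9842 = N14293 := rfl
theorem L121804 : sm gb N14293 = N9849 := ded_25_1 (flp_h L84193) (flp_b L84144) L121802
theorem L121806 : sm gf N14293 = N14293 := ded_47_1 (flp_h L121802) L84148 L121802
theorem L121807 : sm gg N14293 = N9843 := ded_50_1 (flp_h L84149) L84142 L121802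
theorem L121809 : sm gd N14293 = N14293 := ded_38_1 (flp_h L121802) L84146 L58272 (flp_d L84146) L121802
theorem L121810 : sm gi N9843 = N14294 := rfl
theorem L121812 : sm gb N14294 = N9850 := ded_26_1 (flp_i L84201) (flp_b L84151) L121810
theorem L121814 : sm gd N14294 = N14294 := ded_39_1 (flp_i L121810) L84155 L121810
theorem L121815 : sm gf N14294 = N9844 := ded_48_1 (flp_i L84156) (flp_f L84153) L121810
theorem L121817 : sm gf N9846 = N14295 := rfl
theorem L121819 : sm ga N14295 = N14295 := ded_14_1 (flp_f L121817) L84174 L121817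
theorem L121820 : sm gc N14295 = N14295 := ded_29_1 (flp_f L121817) L84175 L121817
theorem L121821 : sm gd N14295 = N9930 := ded_35_1 (flp_f L84907) (flp_d L84176) L121817
theorem L121823 : sm ge N14295 = N14295 := ded_40_1 (flp_f L121817) L84178 L58286 (flp_e L84178) L121817
theorem L121824 : sm gj N9846 = N14296 := rfl
theorem L121826 : sm ga N14296 = N14296 := ded_16_1 (flp_j L121824) L84174 L121824
theorem L121827 : sm gc N14296 = N14296 := ded_31_1 (flp_j L121824) L84175 L121824
theorem L121828 : sm gd N14296 = N9931 := ded_37_1 (flp_j L84914) (flp_d L84176) L121824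
theorem L121830 : sm ge N14296 = N9848 := ded_42_1 (flp_j L84186) (flp_e L84178) L121824
theorem L121832 : sm gh N9846 = N14297 := rfl
theorem L121834 : sm ga N14297 = N14297 := ded_17_1 (flp_h L121832) L84174 L121832
theorem L121835 : sm gc N14297 = N14297 := ded_32_1 (flp_h L121832) L84175 L121832
theorem L121836 : sm ge N14297 = N9849 := ded_43_1 (flp_h L84193) (flp_e L84178) L121832
theorem L121838 : sm gg N14297 = N9847 := ded_50_1 (flp_h L84180) L84172 L121832
theorem L121840 : sm gd N9847 = N14298 := rfl
theorem L121842 : sm ga N14298 = N14298 := ded_12_1 (flp_d L121840) L84182 L121840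
theorem L121843 : sm ge N14298 = N14298 := ded_34_2 (flp_d L121840) L84184 L58293 (flp_e L84184) L121840
theorem L121844 : sm gh N14298 = N9933 := ded_38_2 (flp_d L84930) (flp_h L58778) (flp_d L58278) L84180 L121840
theorem L121846 : sm gi N9847 = N14299 := rfl
theorem L121848 : sm ga N14299 = N14299 := ded_18_1 (flp_i L121846) L84182 L121846
theorem L121849 : sm gc N14299 = N14299 := ded_33_1 (flp_i L121846) L84183 L121846
theorem L121850 : sm ge N14299 = N9850 := ded_44_1 (flp_i L84201) (flp_e L84184) L121846
theorem L121852 : sm gh N9848 = N14300 := rfl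
theorem L121854 : sm ga N14300 = N14300 := ded_17_1 (flp_h L121852) L84188 L121852
theorem L121855 : sm gc N14300 = N14300 := ded_32_1 (flp_h L121852) L84189 L121852
theorem L121856 : sm gf N14300 = N14300 := ded_47_1 (flp_h L121852) L84192 L121852
theorem L121857 : sm gj N14300 = N9849 := ded_52_1 (flp_h L84193) L84186 L121852
theorem L121859 : sm gd N14300 = N14300 := ded_38_1 (flp_h L121852) L84190 L58308 (flp_d L84190) L121852
theorem L121860 : sm gi N9849 = N14301 := rfl
theorem L121862 : sm ga N14301 = N14301 := ded_18_1 (flp_i L121860) L84195 L121860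
theorem L121863 : sm gc N14301 = N14301 := ded_33_1 (flp_i L121860) L84196 L121860
theorem L121864 : sm gd N14301 = N14301 := ded_39_1 (flp_i L121860) L84200 L121860
theorem L121865 : sm gf N14301 = N14301 := ded_48_1 (flp_i L121860) L84197 L121860
theorem L121866 : sm gg N14301 = N9850 := ded_51_1 (flp_i L84201) (flp_g L84198) L121860
theorem L121868 : sm gd N9851 = N14302 := rfl
theorem L121870 : sm ga N14302 = N9852 := ded_12_1 (flp_d L84221) (flp_a L84210) L121868
theorem L121874 : sm gj N14302 = N9885 := ded_37_2 (flp_d L84527) (flp_j L84216) L121868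
theorem L121878 : sm gf N9851 = N14303 := rfl
theorem L121880 : sm ga N14303 = N9853 := ded_14_1 (flp_f L84230) (flp_a L84210) L121878
theorem L121887 : sm gh N14303 = N9859 := ded_47_2 (flp_f L84291) (flp_h L84218) L121878
theorem L121890 : sm gc N9852 = N14304 := rfl
theorem L121894 : sm gj N14304 = N9887 := ded_31_2 (flp_c L84546) (flp_j L84226) L121890
theorem L121898 : sm gd N14304 = N10729 := ded_27_2 (flp_c L91699) (flp_d L63449) (flp_c L58325) L84221 L121890
theorem L121900 : sm gf N9852 = N14305 := rfl
theorem L121902 : sm gb N14305 = N9854 := ded_22_1 (flp_f L84241) (flp_b L84223) L121900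
theorem L121904 : sm gd N14305 = N9853 := ded_35_1 (flp_f L84230) L84221 L121900
theorem L121906 : sm gj N14305 = N9888 := ded_46_2 (flp_f L84555) (flp_j L84226) L121900
theorem L121909 : sm gh N9852 = N14306 := rfl
theorem L121911 : sm gb N14306 = N9855 := ded_25_1 (flp_h L84250) (flp_b L84223) L121909
theorem L121917 : sm gd N14306 = N9862 := ded_38_1 (flp_h L84323) (flp_d L58374) (flp_h L58330) L84221 L121909
theorem L121919 : sm gg N9853 = N14307 := rfl
theorem L121921 : sm gb N14307 = N9856 := ded_23_1 (flp_g L84260) (flp_b L84232) L121919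
theorem L121925 : sm gh N14307 = N9863 := ded_50_2 (flp_g L84330) (flp_h L84238) L121919
theorem L121929 : sm ge N9854 = N14308 := rfl
theorem L121933 : sm gj N14308 = N9891 := ded_42_2 (flp_e L84582) (flp_j L84247) L121929
theorem L121937 : sm gg N9854 = N14309 := rfl
theorem L121941 : sm gd N14309 = N9856 := ded_36_1 (flp_g L84260) (flp_d L84245) L121937
theorem L121945 : sm gh N9854 = N14310 := rfl
theorem L121947 : sm ga N14310 = N14310 := ded_17_1 (flp_h L121945) L84243 L121945
theorem L121948 : sm gc N14310 = N14310 := ded_32_1 (flp_h L121945) L84244 L121945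
theorem L121949 : sm gf N14310 = N9855 := ded_47_1 (flp_h L84250) L84241 L121945
theorem L121951 : sm gj N14310 = N9893 := ded_52_1 (flp_h L84597) (flp_j L84247) L121945
theorem L121953 : sm gd N14310 = N9866 := ded_38_1 (flp_h L84358) L58398 (flp_h L58349) (flp_d L84245) L121945
theorem L121955 : sm gi N9855 = N14311 := rfl
theorem L121957 : sm ga N14311 = N14311 := ded_18_1 (flp_i L121955) L84252 L121955
theorem L121958 : sm gc N14311 = N14311 := ded_33_1 (flp_i L121955) L84253 L121955
theorem L121959 : sm gd N14311 = N9867 := ded_39_1 (flp_i L84367) (flp_d L84258) L121955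
theorem L121961 : sm ge N14311 = N14311 := ded_44_1 (flp_i L121955) L84254 L121955
theorem L121962 : sm gg N14311 = N14311 := ded_51_1 (flp_i L121955) L84255 L121955
theorem L121963 : sm gj N14311 = N9894 := ded_53_1 (flp_i L84605) (flp_j L84256) L121955
theorem L121965 : sm gh N14311 = N14311 := ded_54_1 (flp_i L121955) (flp_h L84250) L58339 L84250 L121955
theorem L121966 : sm gj N9856 = N14312 := rfl
theorem L121969 : sm gc N14312 = N9857 := ded_31_1 (flp_j L84269) (flp_c L84263) L121966
theorem L121977 : sm gc N9858 = N14313 := rfl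
theorem L121979 : sm ga N14313 = N9860 := ded_11_1 (flp_c L84302) (flp_a L84283) L121977
theorem L121982 : sm gj N14313 = N9896 := ded_31_2 (flp_c L84625) (flp_j L84287) L121977
theorem L121984 : sm gi N14313 = N9869 := ded_33_2 (flp_c L84387) (flp_i L84289) L121977
theorem L121986 : sm gd N14313 = N10738 := ded_27_2 (flp_c L91783) (flp_d L63507) (flp_c L58367) L84281 L121977
theorem L121988 : sm gf N9858 = N14314 := rfl
theorem L121990 : sm ga N14314 = N9861 := ded_14_1 (flp_f L84313) (flp_a L84283) L121988
theorem L121993 : sm gd N14314 = N9859 := ded_35_1 (flp_f L84291) L84281 L121988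
theorem L121995 : sm gj N14314 = N9897 := ded_46_2 (flp_f L84635) (flp_j L84287) L121988
theorem L121997 : sm gi N14314 = N9870 := ded_48_2 (flp_f L84396) (flp_i L84289) L121988
theorem L121999 : sm gh N9858 = N14315 := rfl
theorem L122007 : sm gg N9859 = N14316 := rfl
theorem L122009 : sm ga N14316 = N9863 := ded_15_1 (flp_g L84330) (flp_a L84293) L122007
theorem L122012 : sm gc N14316 = N10741 := ded_30_1 (flp_g L91815) (flp_c L84296) L122007
theorem L122017 : sm gf N9860 = N14317 := rfl
theorem L122019 : sm gb N14317 = N10018 := ded_22_1 (flp_f L85651) (flp_b L84309) L122017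
theorem L122021 : sm gc N14317 = N9861 := ded_29_1 (flp_f L84313) L84302 L122017
theorem L122023 : sm gd N14317 = N10742 := ded_35_1 (flp_f L91824) (flp_d L84311) L122017
theorem L122025 : sm gj N14317 = N9900 := ded_46_2 (flp_f L84662) (flp_j L84305) L122017
theorem L122027 : sm gi N14317 = N9873 := ded_48_2 (flp_f L84423) (flp_i L84307) L122017
theorem L122029 : sm gh N9860 = N14318 := rfl
theorem L122031 : sm gb N14318 = N10019 := ded_25_1 (flp_h L85661) (flp_b L84309) L122029
theorem L122033 : sm gc N14318 = N9862 := ded_32_1 (flp_h L84323) L84302 L122029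
theorem L122035 : sm gg N14318 = N14318 := ded_50_1 (flp_h L122029) L84304 L122029
theorem L122036 : sm gj N14318 = N9901 := ded_52_1 (flp_h L84672) (flp_j L84305) L122029
theorem L122038 : sm ge N9861 = N14319 := rfl
theorem L122040 : sm gb N14319 = N9864 := ded_21_1 (flp_e L84339) (flp_b L84315) L122038
theorem L122042 : sm gj N14319 = N9902 := ded_42_2 (flp_e L84680) (flp_j L84319) L122038
theorem L122044 : sm gi N14319 = N9875 := ded_44_2 (flp_e L84442) (flp_i L84321) L122038
theorem L122046 : sm gg N9861 = N14320 := rfl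
theorem L122048 : sm gb N14320 = N9865 := ded_23_1 (flp_g L84348) (flp_b L84315) L122046
theorem L122050 : sm gd N14320 = N9863 := ded_36_1 (flp_g L84330) (flp_d L84317) L122046
theorem L122052 : sm gi N14320 = N9876 := ded_51_2 (flp_g L84448) (flp_i L84321) L122046
theorem L122054 : sm gf N14320 = N14320 := ded_45_1 (flp_g L122046) (flp_f L84313) L58378 L84313 L122046
theorem L122055 : sm gh N9861 = N14321 := rfl
theorem L122057 : sm gb N14321 = N9866 := ded_25_1 (flp_h L84358) (flp_b L84315) L122055
theorem L122059 : sm gf N14321 = N9862 := ded_47_1 (flp_h L84323) L84313 L122055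
theorem L122061 : sm gj N14321 = N9904 := ded_52_1 (flp_h L84696) (flp_j L84319) L122055
theorem L122063 : sm gi N9862 = N14322 := rfl
theorem L122065 : sm gb N14322 = N9867 := ded_26_1 (flp_i L84367) (flp_b L84325) L122063
theorem L122067 : sm gg N14322 = N14322 := ded_51_1 (flp_i L122063) L84327 L122063
theorem L122068 : sm gj N14322 = N9905 := ded_53_1 (flp_i L84702) (flp_j L84328) L122063
theorem L122070 : sm gh N14322 = N9878 := ded_54_1 (flp_i L84464) (flp_h L58467) (flp_i L58381) L84323 L122063
theorem L122072 : sm gj N9863 = N14323 := rfl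
theorem L122074 : sm gb N14323 = N9868 := ded_24_1 (flp_j L84377) (flp_b L84332) L122072
theorem L122076 : sm gc N14323 = N10748 := ded_31_1 (flp_j L91880) (flp_c L84334) L122072
theorem L122078 : sm gf N14323 = N14323 := ded_46_1 (flp_j L122072) L84338 L122072
theorem L122079 : sm gi N14323 = N9879 := ded_53_2 (flp_j L84472) (flp_i L84336) L122072
theorem L122081 : sm gg N14323 = N9906 := ded_49_1 (flp_j L84710) (flp_g L58634) (flp_j L58389) L84330 L122072
theorem L122083 : sm gg N9864 = N14324 := rfl
theorem L122085 : sm ga N14324 = N14324 := ded_15_1 (flp_g L122083) L84341 L122083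
theorem L122086 : sm gc N14324 = N10025 := ded_30_1 (flp_g L85718) (flp_c L84342) L122083
theorem L122088 : sm ge N14324 = N9865 := ded_41_1 (flp_g L84348) L84339 L122083
theorem L122090 : sm gi N14324 = N9880 := ded_51_2 (flp_g L84482) (flp_i L84346) L122083
theorem L122092 : sm gh N9864 = N14325 := rfl
theorem L122094 : sm ga N14325 = N14325 := ded_17_1 (flp_h L122092) L84341 L122092
theorem L122095 : sm gc N14325 = N10026 := ded_32_1 (flp_h L85726) (flp_c L84342) L122092
theorem L122097 : sm ge N14325 = N9866 := ded_43_1 (flp_h L84358) L84339 L122092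
theorem L122099 : sm gj N14325 = N9908 := ded_52_1 (flp_h L84729) (flp_j L84344) L122092
theorem L122101 : sm gj N9865 = N14326 := rfl
theorem L122103 : sm ga N14326 = N14326 := ded_16_1 (flp_j L122101) L84350 L122101
theorem L122104 : sm gc N14326 = N10027 := ded_31_1 (flp_j L85733) (flp_c L84351) L122101
theorem L122106 : sm gd N14326 = N9868 := ded_37_1 (flp_j L84377) (flp_d L84353) L122101
theorem L122108 : sm gf N14326 = N14326 := ded_46_1 (flp_j L122101) L84357 L122101
theorem L122109 : sm gi N14326 = N9882 := ded_53_2 (flp_j L84498) (flp_i L84355) L122101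
theorem L122111 : sm gg N14326 = N9909 := ded_49_1 (flp_j L84736) (flp_g L58651) (flp_j L58400) L84348 L122101
theorem L122113 : sm gh N9865 = N14327 := rfl
theorem L122115 : sm ga N14327 = N14327 := ded_17_1 (flp_h L122113) L84350 L122113
theorem L122116 : sm gc N14327 = N10028 := ded_32_1 (flp_h L85743) (flp_c L84351) L122113
theorem L122118 : sm gf N14327 = N14327 := ded_47_1 (flp_h L122113) L84357 L122113
theorem L122119 : sm gg N14327 = N9866 := ded_50_1 (flp_h L84358) L84348 L122113
theorem L122121 : sm gi N9866 = N14328 := rfl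
theorem L122123 : sm ga N14328 = N14328 := ded_18_1 (flp_i L122121) L84360 L122121
theorem L122124 : sm gc N14328 = N10029 := ded_33_1 (flp_i L85750) (flp_c L84361) L122121
theorem L122126 : sm gf N14328 = N9867 := ded_48_1 (flp_i L84367) (flp_f L84363) L122121
theorem L122128 : sm gj N14328 = N9911 := ded_53_1 (flp_i L84756) (flp_j L84365) L122121
theorem L122130 : sm gh N14328 = N9884 := ded_54_1 (flp_i L84517) (flp_h L58498) (flp_i L58402) L84358 L122121
theorem L122132 : sm gb N9869 = N14329 := rfl
theorem L122134 : sm gd N14329 = N10754 := ded_20_2 (flp_b L91944) (flp_d L84394) L122132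
theorem L122136 : sm gg N14329 = N14329 := ded_23_2 (flp_b L122132) L84391 L122132
theorem L122137 : sm gj N14329 = N9912 := ded_24_2 (flp_b L84765) (flp_j L84392) L122132
theorem L122139 : sm ga N14329 = N10030 := ded_10_1 (flp_b L85760) L59349 (flp_b L58455) (flp_a L84389) L122132
theorem L122141 : sm gc N14329 = N14329 := ded_19_2 (flp_b L122132) (flp_c L84387) L58436 L84387 L122132
theorem L122142 : sm gf N9869 = N14330 := rfl
theorem L122144 : sm ga N14330 = N9873 := ded_14_1 (flp_f L84423) (flp_a L84389) L122142
theorem L122146 : sm gc N14330 = N9870 := ded_29_1 (flp_f L84396) L84387 L122142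
theorem L122148 : sm gd N14330 = N10755 := ded_35_1 (flp_f L91954) (flp_d L84394) L122142
theorem L122150 : sm gj N14330 = N9913 := ded_46_2 (flp_f L84774) (flp_j L84392) L122142
theorem L122152 : sm gh N9869 = N14331 := rfl
theorem L122154 : sm ga N14331 = N9874 := ded_17_1 (flp_h L84433) (flp_a L84389) L122152
theorem L122156 : sm gc N14331 = N9871 := ded_32_1 (flp_h L84405) L84387 L122152
theorem L122158 : sm gg N14331 = N14331 := ded_50_1 (flp_h L122152) L84391 L122152
theorem L122159 : sm gj N14331 = N9914 := ded_52_1 (flp_h L84782) (flp_j L84392) L122152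
theorem L122161 : sm ge N9870 = N14332 := rfl
theorem L122163 : sm ga N14332 = N9875 := ded_13_1 (flp_e L84442) (flp_a L84398) L122161
theorem L122165 : sm gb N14332 = N14332 := ded_21_1 (flp_e L122161) L84400 L122161
theorem L122166 : sm gj N14332 = N9915 := ded_42_2 (flp_e L84790) (flp_j L84403) L122161
theorem L122168 : sm gg N9870 = N14333 := rfl
theorem L122170 : sm ga N14333 = N9876 := ded_15_1 (flp_g L84448) (flp_a L84398) L122168
theorem L122172 : sm gb N14333 = N14333 := ded_23_1 (flp_g L122168) L84400 L122168
theorem L122173 : sm gd N14333 = N9872 := ded_36_1 (flp_g L84414) (flp_d L84401) L122168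
theorem L122175 : sm gf N14333 = N14333 := ded_45_1 (flp_g L122168) (flp_f L84396) L58437 L84396 L122168
theorem L122176 : sm gh N9870 = N14334 := rfl
theorem L122178 : sm ga N14334 = N9877 := ded_17_1 (flp_h L84455) (flp_a L84398) L122176
theorem L122180 : sm gb N14334 = N14334 := ded_25_1 (flp_h L122176) L84400 L122176
theorem L122181 : sm gf N14334 = N9871 := ded_47_1 (flp_h L84405) L84396 L122176
theorem L122183 : sm gj N14334 = N9917 := ded_52_1 (flp_h L84804) (flp_j L84403) L122176
theorem L122185 : sm gd N14334 = N14334 := ded_38_1 (flp_h L122176) L84401 L58449 (flp_d L84401) L122176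
theorem L122186 : sm gi N9871 = N14335 := rfl
theorem L122188 : sm ga N14335 = N9878 := ded_18_1 (flp_i L84464) (flp_a L84407) L122186
theorem L122190 : sm gb N14335 = N14335 := ded_26_1 (flp_i L122186) L84409 L122186
theorem L122191 : sm gd N14335 = N14335 := ded_39_1 (flp_i L122186) L84413 L122186
theorem L122192 : sm gg N14335 = N14335 := ded_51_1 (flp_i L122186) L84410 L122186
theorem L122193 : sm gj N14335 = N9918 := ded_53_1 (flp_i L84812) (flp_j L84411) L122186
theorem L122195 : sm gj N9872 = N14336 := rfl
theorem L122197 : sm ga N14336 = N9879 := ded_16_1 (flp_j L84472) (flp_a L84416) L122195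
theorem L122199 : sm gb N14336 = N14336 := ded_24_1 (flp_j L122195) L84418 L122195
theorem L122200 : sm gc N14336 = N10761 := ded_31_1 (flp_j L92012) (flp_c L84419) L122195
theorem L122202 : sm gf N14336 = N14336 := ded_46_1 (flp_j L122195) L84422 L122195
theorem L122203 : sm gh N14336 = N14336 := ded_52_2 (flp_j L122195) L84421 L122195
theorem L122204 : sm gg N14336 = N9919 := ded_49_1 (flp_j L84820) (flp_g L58710) (flp_j L58447) L84414 L122195
theorem L122206 : sm ge N9873 = N14337 := rfl
theorem L122208 : sm gb N14337 = N10038 := ded_21_1 (flp_e L85837) (flp_b L84425) L122206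
theorem L122210 : sm gc N14337 = N9875 := ded_28_1 (flp_e L84442) (flp_c L84427) L122206
theorem L122212 : sm gj N14337 = N9920 := ded_42_2 (flp_e L84830) (flp_j L84431) L122206
theorem L122214 : sm gg N9873 = N14338 := rfl
theorem L122216 : sm gb N14338 = N10039 := ded_23_1 (flp_g L85843) (flp_b L84425) L122214
theorem L122218 : sm gc N14338 = N9876 := ded_30_1 (flp_g L84448) (flp_c L84427) L122214
theorem L122220 : sm gd N14338 = N10763 := ded_36_1 (flp_g L92031) (flp_d L84429) L122214
theorem L122222 : sm gf N14338 = N14338 := ded_45_1 (flp_g L122214) (flp_f L84423) L58452 L84423 L122214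
theorem L122223 : sm gh N9873 = N14339 := rfl
theorem L122225 : sm gb N14339 = N10040 := ded_25_1 (flp_h L85850) (flp_b L84425) L122223
theorem L122227 : sm gc N14339 = N9877 := ded_32_1 (flp_h L84455) (flp_c L84427) L122223
theorem L122229 : sm gf N14339 = N9874 := ded_47_1 (flp_h L84433) L84423 L122223
theorem L122231 : sm gj N14339 = N9922 := ded_52_1 (flp_h L84846) (flp_j L84431) L122223
theorem L122233 : sm gd N9874 = N14340 := rfl
theorem L122235 : sm gb N14340 = N10041 := ded_20_1 (flp_d L85858) (flp_b L84435) L122233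
theorem L122237 : sm gg N14340 = N14340 := ded_36_2 (flp_d L122233) L84439 L122233
theorem L122238 : sm gj N14340 = N9923 := ded_37_2 (flp_d L84854) (flp_j L84440) L122233
theorem L122240 : sm gc N14340 = N14340 := ded_27_1 (flp_d L122233) L84437 L58474 (flp_c L84437) L122233
theorem L122241 : sm gh N14340 = N10765 := ded_38_2 (flp_d L92048) (flp_h L63664) (flp_d L58457) L84433 L122233
theorem L122243 : sm gi N9874 = N14341 := rfl
theorem L122245 : sm gb N14341 = N10042 := ded_26_1 (flp_i L85867) (flp_b L84435) L122243
theorem L122247 : sm gc N14341 = N9878 := ded_33_1 (flp_i L84464) (flp_c L84437) L122243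
theorem L122249 : sm gg N14341 = N14341 := ded_51_1 (flp_i L122243) L84439 L122243
theorem L122250 : sm gj N14341 = N9924 := ded_53_1 (flp_i L84863) (flp_j L84440) L122243
theorem L122252 : sm gg N9875 = N14342 := rfl
theorem L122254 : sm gb N14342 = N9880 := ded_23_1 (flp_g L84482) (flp_b L84444) L122252
theorem L122256 : sm ge N14342 = N9876 := ded_41_1 (flp_g L84448) L84442 L122252
theorem L122258 : sm gh N9875 = N14343 := rfl
theorem L122260 : sm gb N14343 = N9881 := ded_25_1 (flp_h L84489) (flp_b L84444) L122258
theorem L122262 : sm ge N14343 = N9877 := ded_43_1 (flp_h L84455) L84442 L122258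
theorem L122264 : sm gj N14343 = N9926 := ded_52_1 (flp_h L84877) (flp_j L84446) L122258
theorem L122266 : sm gj N9876 = N14344 := rfl
theorem L122268 : sm gb N14344 = N9882 := ded_24_1 (flp_j L84498) (flp_b L84450) L122266
theorem L122270 : sm gd N14344 = N9879 := ded_37_1 (flp_j L84472) (flp_d L84452) L122266
theorem L122272 : sm gf N14344 = N14344 := ded_46_1 (flp_j L122266) L84454 L122266
theorem L122273 : sm gg N14344 = N9927 := ded_49_1 (flp_j L84883) (flp_g L58740) (flp_j L58465) L84448 L122266
theorem L122275 : sm gh N9876 = N14345 := rfl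
theorem L122277 : sm gb N14345 = N9883 := ded_25_1 (flp_h L84508) (flp_b L84450) L122275
theorem L122279 : sm gf N14345 = N14345 := ded_47_1 (flp_h L122275) L84454 L122275
theorem L122280 : sm gg N14345 = N9877 := ded_50_1 (flp_h L84455) L84448 L122275
theorem L122282 : sm gd N14345 = N14345 := ded_38_1 (flp_h L122275) L84452 L58481 (flp_d L84452) L122275
theorem L122283 : sm gi N9877 = N14346 := rfl
theorem L122285 : sm gb N14346 = N9884 := ded_26_1 (flp_i L84517) (flp_b L84457) L122283
theorem L122287 : sm gd N14346 = N14346 := ded_39_1 (flp_i L122283) L84463 L122283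
theorem L122288 : sm gf N14346 = N9878 := ded_48_1 (flp_i L84464) (flp_f L84459) L122283
theorem L122290 : sm gj N14346 = N9929 := ded_53_1 (flp_i L84900) (flp_j L84461) L122283
theorem L122292 : sm gf N9880 = N14347 := rfl
theorem L122294 : sm ga N14347 = N14347 := ded_14_1 (flp_f L122292) L84484 L122292
theorem L122295 : sm gc N14347 = N10048 := ded_29_1 (flp_f L85917) (flp_c L84485) L122292
theorem L122297 : sm ge N14347 = N14347 := ded_40_1 (flp_f L122292) L84487 L58497 (flp_e L84487) L122292
theorem L122298 : sm gj N9880 = N14348 := rfl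
theorem L122300 : sm ga N14348 = N14348 := ded_16_1 (flp_j L122298) L84484 L122298
theorem L122301 : sm gc N14348 = N10049 := ded_31_1 (flp_j L85922) (flp_c L84485) L122298
theorem L122303 : sm ge N14348 = N9882 := ded_42_1 (flp_j L84498) (flp_e L84487) L122298
theorem L122305 : sm gg N14348 = N9931 := ded_49_1 (flp_j L84914) (flp_g L58771) (flp_j L58488) L84482 L122298
theorem L122307 : sm gh N9880 = N14349 := rfl
theorem L122309 : sm ga N14349 = N14349 := ded_17_1 (flp_h L122307) L84484 L122307
theorem L122310 : sm gc N14349 = N10050 := ded_32_1 (flp_h L85930) (flp_c L84485) L122307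
theorem L122312 : sm ge N14349 = N9883 := ded_43_1 (flp_h L84508) (flp_e L84487) L122307
theorem L122314 : sm gg N14349 = N9881 := ded_50_1 (flp_h L84489) L84482 L122307
theorem L122316 : sm gd N9881 = N14350 := rfl
theorem L122318 : sm ga N14350 = N14350 := ded_12_1 (flp_d L122316) L84491 L122316
theorem L122319 : sm gj N14350 = N9933 := ded_37_2 (flp_d L84930) (flp_j L84496) L122316
theorem L122321 : sm ge N14350 = N14350 := ded_34_2 (flp_d L122316) L84494 L58507 (flp_e L84494) L122316
theorem L122322 : sm gi N9881 = N14351 := rfl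
theorem L122324 : sm ga N14351 = N14351 := ded_18_1 (flp_i L122322) L84491 L122322
theorem L122325 : sm gc N14351 = N10052 := ded_33_1 (flp_i L85945) (flp_c L84492) L122322
theorem L122327 : sm ge N14351 = N9884 := ded_44_1 (flp_i L84517) (flp_e L84494) L122322
theorem L122329 : sm gj N14351 = N9934 := ded_53_1 (flp_i L84934) (flp_j L84496) L122322
theorem L122331 : sm gh N9882 = N14352 := rfl
theorem L122333 : sm ga N14352 = N14352 := ded_17_1 (flp_h L122331) L84500 L122331
theorem L122334 : sm gc N14352 = N10053 := ded_32_1 (flp_h L85952) (flp_c L84501) L122331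
theorem L122336 : sm gf N14352 = N14352 := ded_47_1 (flp_h L122331) L84505 L122331
theorem L122337 : sm gg N14352 = N9935 := ded_50_1 (flp_h L84941) (flp_g L84506) L122331
theorem L122339 : sm gj N14352 = N9883 := ded_52_1 (flp_h L84508) L84498 L122331
theorem L122341 : sm gd N14352 = N14352 := ded_38_1 (flp_h L122331) L84503 L58523 (flp_d L84503) L122331
theorem L122342 : sm gi N9883 = N14353 := rfl
theorem L122344 : sm ga N14353 = N14353 := ded_18_1 (flp_i L122342) L84510 L122342
theorem L122345 : sm gc N14353 = N10054 := ded_33_1 (flp_i L85962) (flp_c L84511) L122342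
theorem L122347 : sm gd N14353 = N14353 := ded_39_1 (flp_i L122342) L84516 L122342
theorem L122348 : sm gf N14353 = N14353 := ded_48_1 (flp_i L122342) L84513 L122342
theorem L122349 : sm gg N14353 = N9884 := ded_51_1 (flp_i L84517) (flp_g L84514) L122342
theorem L122351 : sm gc N9885 = N14354 := rfl
theorem L122356 : sm gg N14354 = N9937 := ded_30_2 (flp_c L84961) (flp_g L84532) L122351
theorem L122359 : sm gd N14354 = N10790 := ded_27_2 (flp_c L92277) (flp_d L63830) (flp_c L58531) L84527 L122351
theorem L122361 : sm gf N9885 = N14355 := rfl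
theorem L122363 : sm ga N14355 = N9888 := ded_14_1 (flp_f L84555) (flp_a L84529) L122361
theorem L122366 : sm gd N14355 = N9886 := ded_35_1 (flp_f L84536) L84527 L122361
theorem L122379 : sm gg N9886 = N14357 := rfl
theorem L122386 : sm gh N14357 = N9899 := ded_50_2 (flp_g L84651) (flp_h L84543) L122379
theorem L122391 : sm gf N9887 = N14358 := rfl
theorem L122394 : sm gc N14358 = N9888 := ded_29_1 (flp_f L84555) L84546 L122391
theorem L122396 : sm gd N14358 = N10794 := ded_35_1 (flp_f L92314) (flp_d L84553) L122391
theorem L122399 : sm gh N9887 = N14359 := rfl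
theorem L122402 : sm gc N14359 = N9889 := ded_32_1 (flp_h L84562) L84546 L122399
theorem L122405 : sm gg N14359 = N9942 := ded_50_1 (flp_h L85008) (flp_g L84549) L122399
theorem L122407 : sm ge N9888 = N14360 := rfl
theorem L122409 : sm gb N14360 = N9891 := ded_21_1 (flp_e L84582) (flp_b L84557) L122407
theorem L122413 : sm gg N9888 = N14361 := rfl
theorem L122415 : sm gb N14361 = N9892 := ded_23_1 (flp_g L84588) (flp_b L84557) L122413
theorem L122417 : sm gd N14361 = N9890 := ded_36_1 (flp_g L84571) (flp_d L84559) L122413
theorem L122420 : sm gf N14361 = N9944 := ded_45_1 (flp_g L85023) (flp_f L58840) (flp_g L58542) L84555 L122413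
theorem L122422 : sm gh N9888 = N14362 := rfl
theorem L122424 : sm gb N14362 = N9893 := ded_25_1 (flp_h L84597) (flp_b L84557) L122422
theorem L122428 : sm gd N14362 = N9904 := ded_38_1 (flp_h L84696) L58624 (flp_h L58552) (flp_d L84559) L122422
theorem L122430 : sm gi N9889 = N14363 := rfl
theorem L122432 : sm gb N14363 = N9894 := ded_26_1 (flp_i L84605) (flp_b L84564) L122430
theorem L122434 : sm gd N14363 = N9905 := ded_39_1 (flp_i L84702) (flp_d L84569) L122430
theorem L122451 : sm gg N9891 = N14365 := rfl
theorem L122455 : sm ge N14365 = N9892 := ded_41_1 (flp_g L84588) L84582 L122451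
theorem L122458 : sm gh N9891 = N14366 := rfl
theorem L122460 : sm ga N14366 = N14366 := ded_17_1 (flp_h L122458) L84584 L122458
theorem L122461 : sm gc N14366 = N14366 := ded_32_1 (flp_h L122458) L84585 L122458
theorem L122462 : sm ge N14366 = N9893 := ded_43_1 (flp_h L84597) L84582 L122458
theorem L122464 : sm gf N14366 = N14366 := ded_47_1 (flp_h L122458) L84587 L122458
theorem L122465 : sm gj N9892 = N14367 := rfl
theorem L122469 : sm gd N14367 = N9895 := ded_37_1 (flp_j L84615) (flp_d L84592) L122465
theorem L122471 : sm gf N14367 = N9950 := ded_46_1 (flp_j L85075) (flp_f L84595) L122465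
theorem L122474 : sm gh N9892 = N14368 := rfl
theorem L122476 : sm ga N14368 = N14368 := ded_17_1 (flp_h L122474) L84590 L122474
theorem L122477 : sm gc N14368 = N14368 := ded_32_1 (flp_h L122474) L84591 L122474
theorem L122478 : sm gf N14368 = N9951 := ded_47_1 (flp_h L85083) (flp_f L84595) L122474
theorem L122480 : sm gg N14368 = N9893 := ded_50_1 (flp_h L84597) L84588 L122474
theorem L122482 : sm gd N14368 = N9910 := ded_38_1 (flp_h L84747) L58656 (flp_h L58576) (flp_d L84592) L122474
theorem L122484 : sm gi N9893 = N14369 := rfl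
theorem L122486 : sm ga N14369 = N14369 := ded_18_1 (flp_i L122484) L84599 L122484
theorem L122487 : sm gc N14369 = N14369 := ded_33_1 (flp_i L122484) L84600 L122484
theorem L122488 : sm gd N14369 = N9911 := ded_39_1 (flp_i L84756) (flp_d L84603) L122484
theorem L122490 : sm gf N14369 = N9894 := ded_48_1 (flp_i L84605) (flp_f L84601) L122484
theorem L122492 : sm gh N14369 = N14369 := ded_54_1 (flp_i L122484) (flp_h L84597) L58561 L84597 L122484
theorem L122493 : sm gb N9896 = N14370 := rfl
theorem L122495 : sm gd N14370 = N10806 := ded_20_2 (flp_b L92413) (flp_d L84633) L122493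
theorem L122499 : sm gi N14370 = N9912 := ded_26_2 (flp_b L84765) (flp_i L84631) L122493
theorem L122501 : sm ga N14370 = N10055 := ded_10_1 (flp_b L85970) L59486 (flp_b L58616) (flp_a L84627) L122493
theorem L122504 : sm gf N9896 = N14371 := rfl
theorem L122506 : sm ga N14371 = N9900 := ded_14_1 (flp_f L84662) (flp_a L84627) L122504
theorem L122508 : sm gc N14371 = N9897 := ded_29_1 (flp_f L84635) L84625 L122504
theorem L122510 : sm gd N14371 = N10807 := ded_35_1 (flp_f L92424) (flp_d L84633) L122504
theorem L122512 : sm gi N14371 = N9913 := ded_48_2 (flp_f L84774) (flp_i L84631) L122504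
theorem L122514 : sm gh N9896 = N14372 := rfl
theorem L122516 : sm ga N14372 = N9901 := ded_17_1 (flp_h L84672) (flp_a L84627) L122514
theorem L122520 : sm gg N14372 = N9955 := ded_50_1 (flp_h L85122) (flp_g L84629) L122514
theorem L122522 : sm ge N9897 = N14373 := rfl
theorem L122524 : sm ga N14373 = N9902 := ded_13_1 (flp_e L84680) (flp_a L84637) L122522
theorem L122527 : sm gi N14373 = N9915 := ded_44_2 (flp_e L84790) (flp_i L84642) L122522
theorem L122529 : sm gg N9897 = N14374 := rfl
theorem L122531 : sm ga N14374 = N9903 := ded_15_1 (flp_g L84686) (flp_a L84637) L122529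
theorem L122534 : sm gd N14374 = N9899 := ded_36_1 (flp_g L84651) (flp_d L84640) L122529
theorem L122536 : sm gi N14374 = N9916 := ded_51_2 (flp_g L84795) (flp_i L84642) L122529
theorem L122538 : sm gf N14374 = N9957 := ded_45_1 (flp_g L85138) (flp_f L58918) (flp_g L58597) L84635 L122529
theorem L122540 : sm gh N9897 = N14375 := rfl
theorem L122547 : sm gi N9898 = N14376 := rfl
theorem L122549 : sm ga N14376 = N9905 := ded_18_1 (flp_i L84702) (flp_a L84646) L122547
theorem L122554 : sm gh N14376 = N9918 := ded_54_1 (flp_i L84812) (flp_h L58702) (flp_i L58599) L84644 L122547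
theorem L122556 : sm gj N9899 = N14377 := rfl
theorem L122558 : sm ga N14377 = N9906 := ded_16_1 (flp_j L84710) (flp_a L84653) L122556
theorem L122565 : sm gi N14377 = N9919 := ded_53_2 (flp_j L84820) (flp_i L84658) L122556
theorem L122567 : sm ge N9900 = N14378 := rfl
theorem L122569 : sm gb N14378 = N10063 := ded_21_1 (flp_e L86047) (flp_b L84664) L122567
theorem L122571 : sm gc N14378 = N9902 := ded_28_1 (flp_e L84680) (flp_c L84666) L122567
theorem L122573 : sm gi N14378 = N9920 := ded_44_2 (flp_e L84830) (flp_i L84670) L122567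
theorem L122575 : sm gg N9900 = N14379 := rfl
theorem L122577 : sm gb N14379 = N10064 := ded_23_1 (flp_g L86053) (flp_b L84664) L122575
theorem L122579 : sm gc N14379 = N9903 := ded_30_1 (flp_g L84686) (flp_c L84666) L122575
theorem L122581 : sm gd N14379 = N10815 := ded_36_1 (flp_g L92500) (flp_d L84668) L122575
theorem L122583 : sm gi N14379 = N9921 := ded_51_2 (flp_g L84836) (flp_i L84670) L122575
theorem L122585 : sm gf N14379 = N9962 := ded_45_1 (flp_g L85183) (flp_f L58944) (flp_g L58612) L84662 L122575
theorem L122587 : sm gh N9900 = N14380 := rfl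
theorem L122589 : sm gb N14380 = N10065 := ded_25_1 (flp_h L86063) (flp_b L84664) L122587
theorem L122591 : sm gc N14380 = N9904 := ded_32_1 (flp_h L84696) (flp_c L84666) L122587
theorem L122593 : sm gf N14380 = N9901 := ded_47_1 (flp_h L84672) L84662 L122587
theorem L122595 : sm gd N9901 = N14381 := rfl
theorem L122599 : sm gg N14381 = N9964 := ded_36_2 (flp_d L85202) (flp_g L84678) L122595
theorem L122601 : sm gh N14381 = N10817 := ded_38_2 (flp_d L92518) (flp_h L63970) (flp_d L58618) L84672 L122595
theorem L122603 : sm gi N9901 = N14382 := rfl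
theorem L122605 : sm gb N14382 = N10067 := ded_26_1 (flp_i L86076) (flp_b L84674) L122603
theorem L122607 : sm gc N14382 = N9905 := ded_33_1 (flp_i L84702) (flp_c L84676) L122603
theorem L122609 : sm gg N14382 = N9965 := ded_51_1 (flp_i L85209) (flp_g L84678) L122603
theorem L122611 : sm gh N14382 = N9924 := ded_54_1 (flp_i L84863) (flp_h L58728) (flp_i L58614) L84672 L122603
theorem L122613 : sm gg N9902 = N14383 := rfl
theorem L122615 : sm gb N14383 = N9907 := ded_23_1 (flp_g L84720) (flp_b L84682) L122613
theorem L122617 : sm ge N14383 = N9903 := ded_41_1 (flp_g L84686) L84680 L122613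
theorem L122619 : sm gi N14383 = N9925 := ded_51_2 (flp_g L84871) (flp_i L84684) L122613
theorem L122621 : sm gh N9902 = N14384 := rfl
theorem L122623 : sm gb N14384 = N9908 := ded_25_1 (flp_h L84729) (flp_b L84682) L122621
theorem L122625 : sm ge N14384 = N9904 := ded_43_1 (flp_h L84696) L84680 L122621
theorem L122627 : sm gj N9903 = N14385 := rfl
theorem L122629 : sm gb N14385 = N9909 := ded_24_1 (flp_j L84736) (flp_b L84688) L122627
theorem L122631 : sm gd N14385 = N9906 := ded_37_1 (flp_j L84710) (flp_d L84690) L122627
theorem L122633 : sm gf N14385 = N9968 := ded_46_1 (flp_j L85234) (flp_f L84694) L122627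
theorem L122635 : sm gi N14385 = N9927 := ded_53_2 (flp_j L84883) (flp_i L84692) L122627
theorem L122637 : sm gh N9903 = N14386 := rfl
theorem L122639 : sm gb N14386 = N9910 := ded_25_1 (flp_h L84747) (flp_b L84688) L122637
theorem L122641 : sm gf N14386 = N9969 := ded_47_1 (flp_h L85243) (flp_f L84694) L122637
theorem L122643 : sm gg N14386 = N9904 := ded_50_1 (flp_h L84696) L84686 L122637
theorem L122645 : sm gi N9904 = N14387 := rfl
theorem L122647 : sm gb N14387 = N9911 := ded_26_1 (flp_i L84756) (flp_b L84698) L122645
theorem L122649 : sm gf N14387 = N9905 := ded_48_1 (flp_i L84702) (flp_f L84700) L122645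
theorem L122651 : sm gh N14387 = N9929 := ded_54_1 (flp_i L84900) (flp_h L58748) (flp_i L58626) L84696 L122645
theorem L122653 : sm gf N9907 = N14388 := rfl
theorem L122655 : sm ga N14388 = N14388 := ded_14_1 (flp_f L122653) L84722 L122653
theorem L122656 : sm gc N14388 = N10073 := ded_29_1 (flp_f L86127) (flp_c L84723) L122653
theorem L122658 : sm gi N14388 = N9930 := ded_48_2 (flp_f L84907) (flp_i L84727) L122653
theorem L122660 : sm ge N14388 = N9971 := ded_40_1 (flp_f L85258) L59008 (flp_f L58660) (flp_e L84725) L122653
theorem L122662 : sm gj N9907 = N14389 := rfl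
theorem L122664 : sm ga N14389 = N14389 := ded_16_1 (flp_j L122662) L84722 L122662
theorem L122665 : sm gc N14389 = N10074 := ded_31_1 (flp_j L86135) (flp_c L84723) L122662
theorem L122667 : sm ge N14389 = N9909 := ded_42_1 (flp_j L84736) (flp_e L84725) L122662
theorem L122669 : sm gi N14389 = N9931 := ded_53_2 (flp_j L84914) (flp_i L84727) L122662
theorem L122671 : sm gh N9907 = N14390 := rfl
theorem L122673 : sm ga N14390 = N14390 := ded_17_1 (flp_h L122671) L84722 L122671
theorem L122674 : sm gc N14390 = N10075 := ded_32_1 (flp_h L86143) (flp_c L84723) L122671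
theorem L122676 : sm ge N14390 = N9910 := ded_43_1 (flp_h L84747) (flp_e L84725) L122671
theorem L122678 : sm gg N14390 = N9908 := ded_50_1 (flp_h L84729) L84720 L122671
theorem L122680 : sm gd N9908 = N14391 := rfl
theorem L122682 : sm ga N14391 = N14391 := ded_12_1 (flp_d L122680) L84731 L122680
theorem L122683 : sm gi N9908 = N14392 := rfl
theorem L122685 : sm ga N14392 = N14392 := ded_18_1 (flp_i L122683) L84731 L122683
theorem L122686 : sm gc N14392 = N10077 := ded_33_1 (flp_i L86155) (flp_c L84732) L122683
theorem L122688 : sm ge N14392 = N9911 := ded_44_1 (flp_i L84756) (flp_e L84734) L122683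
theorem L122690 : sm gh N14392 = N9934 := ded_54_1 (flp_i L84934) (flp_h L58778) (flp_i L58649) L84729 L122683
theorem L122692 : sm gh N9909 = N14393 := rfl
theorem L122694 : sm ga N14393 = N14393 := ded_17_1 (flp_h L122692) L84738 L122692
theorem L122695 : sm gc N14393 = N10078 := ded_32_1 (flp_h L86162) (flp_c L84739) L122692
theorem L122697 : sm gf N14393 = N9976 := ded_47_1 (flp_h L85301) (flp_f L84743) L122692
theorem L122699 : sm gj N14393 = N9910 := ded_52_1 (flp_h L84747) L84736 L122692
theorem L122701 : sm gi N9910 = N14394 := rfl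
theorem L122703 : sm ga N14394 = N14394 := ded_18_1 (flp_i L122701) L84749 L122701
theorem L122704 : sm gc N14394 = N10079 := ded_33_1 (flp_i L86170) (flp_c L84750) L122701
theorem L122706 : sm gf N14394 = N9977 := ded_48_1 (flp_i L85309) (flp_f L84752) L122701
theorem L122708 : sm gg N14394 = N9911 := ded_51_1 (flp_i L84756) (flp_g L84754) L122701
theorem L122710 : sm gh N14394 = N9936 := ded_54_1 (flp_i L84951) (flp_h L58794) (flp_i L58658) L84747 L122701
theorem L122712 : sm gf N9912 = N14395 := rfl
theorem L122714 : sm ga N14395 = N10080 := ded_14_1 (flp_f L86180) (flp_a L84771) L122712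
theorem L122716 : sm gb N14395 = N9913 := ded_22_1 (flp_f L84774) L84765 L122712
theorem L122718 : sm gc N14395 = N14395 := ded_29_1 (flp_f L122712) L84773 L122712
theorem L122719 : sm gd N14395 = N10831 := ded_35_1 (flp_f L92645) (flp_d L84767) L122712
theorem L122721 : sm gh N9912 = N14396 := rfl
theorem L122723 : sm ga N14396 = N10081 := ded_17_1 (flp_h L86187) (flp_a L84771) L122721
theorem L122725 : sm gb N14396 = N9914 := ded_25_1 (flp_h L84782) L84765 L122721
theorem L122727 : sm gc N14396 = N14396 := ded_32_1 (flp_h L122721) L84773 L122721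
theorem L122728 : sm gg N14396 = N9979 := ded_50_1 (flp_h L85328) (flp_g L84769) L122721
theorem L122730 : sm ge N9913 = N14397 := rfl
theorem L122732 : sm ga N14397 = N9920 := ded_13_1 (flp_e L84830) (flp_a L84776) L122730
theorem L122734 : sm gc N14397 = N9915 := ded_28_1 (flp_e L84790) (flp_c L84778) L122730
theorem L122736 : sm gg N9913 = N14398 := rfl
theorem L122738 : sm ga N14398 = N9921 := ded_15_1 (flp_g L84836) (flp_a L84776) L122736
theorem L122740 : sm gc N14398 = N9916 := ded_30_1 (flp_g L84795) (flp_c L84778) L122736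
theorem L122742 : sm gd N14398 = N10834 := ded_36_1 (flp_g L92671) (flp_d L84780) L122736
theorem L122744 : sm gf N14398 = N9981 := ded_45_1 (flp_g L85343) (flp_f L59055) (flp_g L58691) L84774 L122736
theorem L122746 : sm gh N9913 = N14399 := rfl
theorem L122748 : sm ga N14399 = N9922 := ded_17_1 (flp_h L84846) (flp_a L84776) L122746
theorem L122750 : sm gc N14399 = N9917 := ded_32_1 (flp_h L84804) (flp_c L84778) L122746
theorem L122752 : sm gf N14399 = N9914 := ded_47_1 (flp_h L84782) L84774 L122746
theorem L122754 : sm gd N9914 = N14400 := rfl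
theorem L122756 : sm ga N14400 = N9923 := ded_12_1 (flp_d L84854) (flp_a L84784) L122754
theorem L122758 : sm gg N14400 = N9983 := ded_36_2 (flp_d L85360) (flp_g L84788) L122754
theorem L122760 : sm gc N14400 = N14400 := ded_27_1 (flp_d L122754) L84786 L58709 (flp_c L84786) L122754
theorem L122761 : sm gh N14400 = N10836 := ded_38_2 (flp_d L92687) (flp_h L64085) (flp_d L58693) L84782 L122754
theorem L122763 : sm gi N9914 = N14401 := rfl
theorem L122765 : sm ga N14401 = N9924 := ded_18_1 (flp_i L84863) (flp_a L84784) L122763
theorem L122767 : sm gc N14401 = N9918 := ded_33_1 (flp_i L84812) (flp_c L84786) L122763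
theorem L122769 : sm gg N14401 = N9984 := ded_51_1 (flp_i L85368) (flp_g L84788) L122763
theorem L122771 : sm gg N9915 = N14402 := rfl
theorem L122773 : sm ga N14402 = N9925 := ded_15_1 (flp_g L84871) (flp_a L84792) L122771
theorem L122775 : sm gb N14402 = N14402 := ded_23_1 (flp_g L122771) L84794 L122771
theorem L122776 : sm ge N14402 = N9916 := ded_41_1 (flp_g L84795) L84790 L122771
theorem L122778 : sm gh N9915 = N14403 := rfl
theorem L122780 : sm ga N14403 = N9926 := ded_17_1 (flp_h L84877) (flp_a L84792) L122778
theorem L122782 : sm gb N14403 = N14403 := ded_25_1 (flp_h L122778) L84794 L122778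
theorem L122783 : sm ge N14403 = N9917 := ded_43_1 (flp_h L84804) L84790 L122778
theorem L122785 : sm gj N9916 = N14404 := rfl
theorem L122787 : sm ga N14404 = N9927 := ded_16_1 (flp_j L84883) (flp_a L84797) L122785
theorem L122789 : sm gb N14404 = N14404 := ded_24_1 (flp_j L122785) L84799 L122785
theorem L122790 : sm gd N14404 = N9919 := ded_37_1 (flp_j L84820) (flp_d L84800) L122785
theorem L122792 : sm gf N14404 = N9987 := ded_46_1 (flp_j L85391) (flp_f L84802) L122785
theorem L122794 : sm gh N9916 = N14405 := rfl
theorem L122796 : sm ga N14405 = N9928 := ded_17_1 (flp_h L84891) (flp_a L84797) L122794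
theorem L122798 : sm gb N14405 = N14405 := ded_25_1 (flp_h L122794) L84799 L122794
theorem L122799 : sm gf N14405 = N9988 := ded_47_1 (flp_h L85399) (flp_f L84802) L122794
theorem L122801 : sm gg N14405 = N9917 := ded_50_1 (flp_h L84804) L84795 L122794
theorem L122803 : sm gd N14405 = N14405 := ded_38_1 (flp_h L122794) L84800 L58717 (flp_d L84800) L122794
theorem L122804 : sm gi N9917 = N14406 := rfl
theorem L122806 : sm ga N14406 = N9929 := ded_18_1 (flp_i L84900) (flp_a L84806) L122804
theorem L122808 : sm gb N14406 = N14406 := ded_26_1 (flp_i L122804) L84808 L122804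
theorem L122809 : sm gd N14406 = N14406 := ded_39_1 (flp_i L122804) L84811 L122804
theorem L122810 : sm gf N14406 = N9918 := ded_48_1 (flp_i L84812) (flp_f L84809) L122804
theorem L122812 : sm gd N9920 = N14407 := rfl
theorem L122814 : sm gb N14407 = N10092 := ded_20_1 (flp_d L86280) (flp_b L84832) L122812
theorem L122816 : sm ge N14407 = N10843 := ded_34_2 (flp_d L92750) (flp_e L64139) (flp_d L58726) L84830 L122812
theorem L122818 : sm gg N9920 = N14408 := rfl
theorem L122820 : sm gb N14408 = N10093 := ded_23_1 (flp_g L86285) (flp_b L84832) L122818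
theorem L122822 : sm gc N14408 = N9925 := ded_30_1 (flp_g L84871) (flp_c L84834) L122818
theorem L122824 : sm ge N14408 = N9921 := ded_41_1 (flp_g L84836) L84830 L122818
theorem L122826 : sm gh N9920 = N14409 := rfl
theorem L122828 : sm gb N14409 = N10094 := ded_25_1 (flp_h L86291) (flp_b L84832) L122826
theorem L122830 : sm gc N14409 = N9926 := ded_32_1 (flp_h L84877) (flp_c L84834) L122826
theorem L122832 : sm ge N14409 = N9922 := ded_43_1 (flp_h L84846) L84830 L122826
theorem L122834 : sm gj N9921 = N14410 := rfl
theorem L122836 : sm gb N14410 = N10095 := ded_24_1 (flp_j L86297) (flp_b L84838) L122834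
theorem L122838 : sm gc N14410 = N9927 := ded_31_1 (flp_j L84883) (flp_c L84840) L122834
theorem L122840 : sm gd N14410 = N10846 := ded_37_1 (flp_j L92772) (flp_d L84842) L122834
theorem L122842 : sm gf N14410 = N9993 := ded_46_1 (flp_j L85441) (flp_f L84844) L122834
theorem L122844 : sm gh N9921 = N14411 := rfl
theorem L122846 : sm gb N14411 = N10096 := ded_25_1 (flp_h L86305) (flp_b L84838) L122844
theorem L122848 : sm gc N14411 = N9928 := ded_32_1 (flp_h L84891) (flp_c L84840) L122844
theorem L122850 : sm gf N14411 = N9994 := ded_47_1 (flp_h L85450) (flp_f L84844) L122844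
theorem L122852 : sm gg N14411 = N9922 := ded_50_1 (flp_h L84846) L84836 L122844
theorem L122854 : sm gd N9922 = N14412 := rfl
theorem L122856 : sm gb N14412 = N10097 := ded_20_1 (flp_d L86313) (flp_b L84848) L122854
theorem L122858 : sm gf N14412 = N9923 := ded_35_2 (flp_d L84854) (flp_f L84852) L122854
theorem L122860 : sm gc N14412 = N14412 := ded_27_1 (flp_d L122854) L84850 L58754 (flp_c L84850) L122854
theorem L122861 : sm gh N14412 = N10848 := ded_38_2 (flp_d L92790) (flp_h L64154) (flp_d L58726) L84846 L122854
theorem L122863 : sm gi N9922 = N14413 := rfl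
theorem L122865 : sm gb N14413 = N10098 := ded_26_1 (flp_i L86321) (flp_b L84848) L122863
theorem L122867 : sm gc N14413 = N9929 := ded_33_1 (flp_i L84900) (flp_c L84850) L122863
theorem L122869 : sm gf N14413 = N9924 := ded_48_1 (flp_i L84863) (flp_f L84852) L122863
theorem L122871 : sm ge N9923 = N14414 := rfl
theorem L122873 : sm gb N14414 = N10099 := ded_21_1 (flp_e L86327) (flp_b L84856) L122871
theorem L122875 : sm gc N14414 = N14414 := ded_28_1 (flp_e L122871) L84860 L122871
theorem L122876 : sm gg N14414 = N9997 := ded_41_2 (flp_e L85477) (flp_g L84858) L122871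
theorem L122878 : sm gh N14414 = N10850 := ded_43_2 (flp_e L92805) (flp_h L84861) L122871
theorem L122880 : sm gi N9923 = N14415 := rfl
theorem L122882 : sm gb N14415 = N10100 := ded_26_1 (flp_i L86335) (flp_b L84856) L122880
theorem L122884 : sm gc N14415 = N14415 := ded_33_1 (flp_i L122880) L84860 L122880
theorem L122885 : sm gd N14415 = N9924 := ded_39_1 (flp_i L84863) L84854 L122880
theorem L122887 : sm gg N14415 = N9998 := ded_51_1 (flp_i L85485) (flp_g L84858) L122880
theorem L122889 : sm gf N9925 = N14416 := rfl
theorem L122891 : sm gb N14416 = N9930 := ded_22_1 (flp_f L84907) (flp_b L84873) L122889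
theorem L122893 : sm ge N14416 = N9999 := ded_40_1 (flp_f L85493) L59155 (flp_f L58746) (flp_e L84875) L122889
theorem L122895 : sm gj N9925 = N14417 := rfl
theorem L122897 : sm gb N14417 = N9931 := ded_24_1 (flp_j L84914) (flp_b L84873) L122895
theorem L122899 : sm ge N14417 = N9927 := ded_42_1 (flp_j L84883) (flp_e L84875) L122895
theorem L122901 : sm gh N9925 = N14418 := rfl
theorem L122903 : sm gb N14418 = N9932 := ded_25_1 (flp_h L84921) (flp_b L84873) L122901
theorem L122905 : sm ge N14418 = N9928 := ded_43_1 (flp_h L84891) (flp_e L84875) L122901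
theorem L122907 : sm gg N14418 = N9926 := ded_50_1 (flp_h L84877) L84871 L122901
theorem L122909 : sm gd N9926 = N14419 := rfl
theorem L122911 : sm gb N14419 = N9933 := ded_20_1 (flp_d L84930) (flp_b L84879) L122909
theorem L122913 : sm ge N14419 = N14419 := ded_34_2 (flp_d L122909) L84881 L58754 (flp_e L84881) L122909
theorem L122914 : sm gi N9926 = N14420 := rfl
theorem L122916 : sm gb N14420 = N9934 := ded_26_1 (flp_i L84934) (flp_b L84879) L122914
theorem L122918 : sm ge N14420 = N9929 := ded_44_1 (flp_i L84900) (flp_e L84881) L122914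
theorem L122920 : sm gh N9927 = N14421 := rfl
theorem L122922 : sm gb N14421 = N9935 := ded_25_1 (flp_h L84941) (flp_b L84885) L122920
theorem L122924 : sm gf N14421 = N10004 := ded_47_1 (flp_h L85528) (flp_f L84889) L122920
theorem L122926 : sm gj N14421 = N9928 := ded_52_1 (flp_h L84891) L84883 L122920
theorem L122928 : sm gd N14421 = N14421 := ded_38_1 (flp_h L122920) L84887 L58770 (flp_d L84887) L122920
theorem L122929 : sm gi N9928 = N14422 := rfl
theorem L122931 : sm gb N14422 = N9936 := ded_26_1 (flp_i L84951) (flp_b L84893) L122929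
theorem L122933 : sm gd N14422 = N14422 := ded_39_1 (flp_i L122929) L84899 L122929
theorem L122934 : sm gf N14422 = N10005 := ded_48_1 (flp_i L85536) (flp_f L84895) L122929
theorem L122936 : sm gg N14422 = N9929 := ded_51_1 (flp_i L84900) (flp_g L84897) L122929
theorem L122938 : sm gj N9930 = N14423 := rfl
theorem L122940 : sm ga N14423 = N14423 := ded_16_1 (flp_j L122938) L84909 L122938
theorem L122941 : sm gc N14423 = N10108 := ded_31_1 (flp_j L86398) (flp_c L84910) L122938
theorem L122943 : sm ge N14423 = N10006 := ded_42_1 (flp_j L85543) (flp_e L84912) L122938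
theorem L122945 : sm gf N14423 = N9931 := ded_46_1 (flp_j L84914) L84907 L122938
theorem L122947 : sm gh N9930 = N14424 := rfl
theorem L122949 : sm ga N14424 = N14424 := ded_17_1 (flp_h L122947) L84909 L122947
theorem L122950 : sm gc N14424 = N10109 := ded_32_1 (flp_h L86406) (flp_c L84910) L122947
theorem L122952 : sm ge N14424 = N10007 := ded_43_1 (flp_h L85551) (flp_e L84912) L122947
theorem L122954 : sm gf N14424 = N9932 := ded_47_1 (flp_h L84921) L84907 L122947
theorem L122956 : sm gh N9931 = N14425 := rfl
theorem L122958 : sm ga N14425 = N14425 := ded_17_1 (flp_h L122956) L84916 L122956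
theorem L122959 : sm gc N14425 = N10110 := ded_32_1 (flp_h L86413) (flp_c L84917) L122956
theorem L122961 : sm ge N14425 = N9935 := ded_43_1 (flp_h L84941) (flp_e L84919) L122956
theorem L122963 : sm gj N14425 = N9932 := ded_52_1 (flp_h L84921) L84914 L122956
theorem L122965 : sm gd N9932 = N14426 := rfl
theorem L122967 : sm ga N14426 = N14426 := ded_12_1 (flp_d L122965) L84923 L122965
theorem L122968 : sm gg N14426 = N9933 := ded_36_2 (flp_d L84930) (flp_g L84928) L122965
theorem L122970 : sm ge N14426 = N14426 := ded_34_2 (flp_d L122965) L84926 L58803 (flp_e L84926) L122965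
theorem L122971 : sm gi N9932 = N14427 := rfl
theorem L122973 : sm ga N14427 = N14427 := ded_18_1 (flp_i L122971) L84923 L122971
theorem L122974 : sm gc N14427 = N10112 := ded_33_1 (flp_i L86428) (flp_c L84924) L122971
theorem L122976 : sm ge N14427 = N9936 := ded_44_1 (flp_i L84951) (flp_e L84926) L122971
theorem L122978 : sm gg N14427 = N9934 := ded_51_1 (flp_i L84934) (flp_g L84928) L122971
theorem L122980 : sm gc N9933 = N14428 := rfl
theorem L122982 : sm ga N14428 = N14428 := ded_11_1 (flp_c L122980) L84932 L122980
theorem L122983 : sm ge N14428 = N14428 := ded_28_2 (flp_c L122980) L84933 L122980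
theorem L122984 : sm gd N14428 = N10113 := ded_27_2 (flp_c L86435) (flp_d L59779) (flp_c L58781) L84930 L122980
theorem L122986 : sm gi N9933 = N14429 := rfl
theorem L122988 : sm ga N14429 = N14429 := ded_18_1 (flp_i L122986) L84932 L122986
theorem L122989 : sm gd N14429 = N9934 := ded_39_1 (flp_i L84934) L84930 L122986
theorem L122991 : sm ge N14429 = N14429 := ded_44_1 (flp_i L122986) L84933 L122986
theorem L122992 : sm gi N9935 = N14430 := rfl
theorem L122994 : sm ga N14430 = N14430 := ded_18_1 (flp_i L122992) L84943 L122992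
theorem L122995 : sm gc N14430 = N10115 := ded_33_1 (flp_i L86448) (flp_c L84944) L122992
theorem L122997 : sm gd N14430 = N14430 := ded_39_1 (flp_i L122992) L84950 L122992
theorem L122998 : sm gf N14430 = N10013 := ded_48_1 (flp_i L85599) (flp_f L84946) L122992
theorem L123000 : sm gj N14430 = N9936 := ded_53_1 (flp_i L84951) (flp_j L84948) L122992
theorem L123002 : sm gb N9937 = N14431 := rfl
theorem L123004 : sm gd N14431 = N10883 := ded_20_2 (flp_b L93092) (flp_d L84968) L123002
theorem L123011 : sm gf N9937 = N14432 := rfl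
theorem L123015 : sm gc N14432 = N9938 := ded_29_1 (flp_f L84970) L84961 L123011
theorem L123021 : sm gh N9937 = N14433 := rfl
theorem L123025 : sm gc N14433 = N9939 := ded_32_1 (flp_h L84979) L84961 L123021
theorem L123038 : sm gg N9938 = N14435 := rfl
theorem L123043 : sm gd N14435 = N9940 := ded_36_1 (flp_g L84988) (flp_d L84975) L123038
theorem L123066 : sm gj N9940 = N14438 := rfl
theorem L123068 : sm ga N14438 = N9947 := ded_16_1 (flp_j L85048) (flp_a L84990) L123066
theorem L123074 : sm gh N14438 = N9960 := ded_52_2 (flp_j L85163) (flp_h L84996) L123066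
theorem L123086 : sm gg N9941 = N14440 := rfl
theorem L123089 : sm gc N14440 = N9944 := ded_30_1 (flp_g L85023) (flp_c L85002) L123086
theorem L123091 : sm gd N14440 = N10892 := ded_36_1 (flp_g L93171) (flp_d L85004) L123086
theorem L123094 : sm gh N9941 = N14441 := rfl
theorem L123097 : sm gc N14441 = N9945 := ded_32_1 (flp_h L85030) (flp_c L85002) L123094
theorem L123099 : sm gf N14441 = N9942 := ded_47_1 (flp_h L85008) L84999 L123094
theorem L123102 : sm gd N9942 = N14442 := rfl
theorem L123106 : sm gc N14442 = N9964 := ded_27_1 (flp_d L85202) L58959 (flp_d L58854) (flp_c L85011) L123102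
theorem L123108 : sm gh N14442 = N10894 := ded_38_2 (flp_d L93185) (flp_h L64421) (flp_d L58838) L85008 L123102
theorem L123118 : sm gg N9943 = N14444 := rfl
theorem L123120 : sm gb N14444 = N9948 := ded_23_1 (flp_g L85059) (flp_b L85017) L123118
theorem L123123 : sm ge N14444 = N9944 := ded_41_1 (flp_g L85023) L85015 L123118
theorem L123126 : sm gh N9943 = N14445 := rfl
theorem L123128 : sm gb N14445 = N9949 := ded_25_1 (flp_h L85067) (flp_b L85017) L123126
theorem L123130 : sm ge N14445 = N9945 := ded_43_1 (flp_h L85030) L85015 L123126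
theorem L123134 : sm gj N9944 = N14446 := rfl
theorem L123138 : sm gd N14446 = N9947 := ded_37_1 (flp_j L85048) (flp_d L85027) L123134
theorem L123142 : sm gh N9944 = N14447 := rfl
theorem L123144 : sm gb N14447 = N9951 := ded_25_1 (flp_h L85083) (flp_b L85025) L123142
theorem L123148 : sm gd N14447 = N9969 := ded_38_1 (flp_h L85243) L58974 (flp_h L58863) (flp_d L85027) L123142
theorem L123150 : sm gi N9945 = N14448 := rfl
theorem L123152 : sm gb N14448 = N9952 := ded_26_1 (flp_i L85091) (flp_b L85032) L123150
theorem L123154 : sm gd N14448 = N9970 := ded_39_1 (flp_i L85249) (flp_d L85037) L123150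
theorem L123160 : sm gf N9948 = N14449 := rfl
theorem L123167 : sm gj N9948 = N14450 := rfl
theorem L123172 : sm ge N14450 = N9950 := ded_42_1 (flp_j L85075) (flp_e L85064) L123167
theorem L123176 : sm gh N9948 = N14451 := rfl
theorem L123178 : sm ga N14451 = N14451 := ded_17_1 (flp_h L123176) L85061 L123176
theorem L123179 : sm gc N14451 = N14451 := ded_32_1 (flp_h L123176) L85062 L123176
theorem L123180 : sm ge N14451 = N9951 := ded_43_1 (flp_h L85083) (flp_e L85064) L123176
theorem L123182 : sm gg N14451 = N9949 := ded_50_1 (flp_h L85067) L85059 L123176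
theorem L123184 : sm gd N9949 = N14452 := rfl
theorem L123186 : sm ga N14452 = N14452 := ded_12_1 (flp_d L123184) L85069 L123184
theorem L123187 : sm gf N14452 = N14452 := ded_35_2 (flp_d L123184) L85073 L123184
theorem L123188 : sm gj N14452 = N14452 := ded_37_2 (flp_d L123184) L85074 L123184
theorem L123189 : sm ge N14452 = N9974 := ded_34_2 (flp_d L85286) L59017 (flp_d L58888) (flp_e L85071) L123184
theorem L123191 : sm gh N14452 = N14452 := ded_38_2 (flp_d L123184) (flp_h L85067) L58872 L85067 L123184
theorem L123192 : sm gi N9949 = N14453 := rfl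
theorem L123194 : sm ga N14453 = N14453 := ded_18_1 (flp_i L123192) L85069 L123192
theorem L123195 : sm gc N14453 = N14453 := ded_33_1 (flp_i L123192) L85070 L123192
theorem L123196 : sm ge N14453 = N9952 := ded_44_1 (flp_i L85091) (flp_e L85071) L123192
theorem L123198 : sm gf N14453 = N14453 := ded_48_1 (flp_i L123192) L85073 L123192
theorem L123199 : sm gj N14453 = N14453 := ded_53_1 (flp_i L123192) L85074 L123192
theorem L123200 : sm gh N14453 = N14453 := ded_54_1 (flp_i L123192) (flp_h L85067) L58871 L85067 L123192
theorem L123201 : sm gh N9950 = N14454 := rfl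
theorem L123203 : sm ga N14454 = N14454 := ded_17_1 (flp_h L123201) L85077 L123201
theorem L123204 : sm gc N14454 = N14454 := ded_32_1 (flp_h L123201) L85078 L123201
theorem L123205 : sm gg N14454 = N14454 := ded_50_1 (flp_h L123201) L85082 L123201
theorem L123206 : sm gj N14454 = N9951 := ded_52_1 (flp_h L85083) L85075 L123201
theorem L123208 : sm gd N14454 = N9976 := ded_38_1 (flp_h L85301) L59025 (flp_h L58905) (flp_d L85079) L123201
theorem L123210 : sm gi N9951 = N14455 := rfl
theorem L123212 : sm ga N14455 = N14455 := ded_18_1 (flp_i L123210) L85085 L123210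
theorem L123213 : sm gc N14455 = N14455 := ded_33_1 (flp_i L123210) L85086 L123210
theorem L123214 : sm gd N14455 = N9977 := ded_39_1 (flp_i L85309) (flp_d L85089) L123210
theorem L123216 : sm gg N14455 = N9952 := ded_51_1 (flp_i L85091) (flp_g L85087) L123210
theorem L123218 : sm gh N14455 = N14455 := ded_54_1 (flp_i L123210) (flp_h L85083) L58880 L85083 L123210
theorem L123219 : sm gf N9953 = N14456 := rfl
theorem L123221 : sm ga N14456 = N10116 := ded_14_1 (flp_f L86457) (flp_a L85108) L123219
theorem L123223 : sm gb N14456 = N9954 := ded_22_1 (flp_f L85111) L85101 L123219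
theorem L123226 : sm gd N14456 = N10908 := ded_35_1 (flp_f L93302) (flp_d L85103) L123219
theorem L123229 : sm gi N14456 = N9978 := ded_48_2 (flp_f L85318) (flp_i L85106) L123219
theorem L123231 : sm gh N9953 = N14457 := rfl
theorem L123235 : sm gb N14457 = N9955 := ded_25_1 (flp_h L85122) L85101 L123231
theorem L123239 : sm ge N9954 = N14458 := rfl
theorem L123241 : sm ga N14458 = N9961 := ded_13_1 (flp_e L85174) (flp_a L85113) L123239
theorem L123243 : sm gc N14458 = N9956 := ded_28_1 (flp_e L85129) (flp_c L85115) L123239
theorem L123246 : sm gi N14458 = N9980 := ded_44_2 (flp_e L85336) (flp_i L85120) L123239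
theorem L123248 : sm gg N9954 = N14459 := rfl
theorem L123256 : sm gi N14459 = N9981 := ded_51_2 (flp_g L85343) (flp_i L85120) L123248
theorem L123258 : sm gh N9954 = N14460 := rfl
theorem L123260 : sm ga N14460 = N9963 := ded_17_1 (flp_h L85193) (flp_a L85113) L123258
theorem L123264 : sm gf N14460 = N9955 := ded_47_1 (flp_h L85122) L85111 L123258
theorem L123267 : sm gd N9955 = N14461 := rfl
theorem L123269 : sm ga N14461 = N9964 := ded_12_1 (flp_d L85202) (flp_a L85124) L123267
theorem L123272 : sm gh N14461 = N10913 := ded_38_2 (flp_d L93350) (flp_h L64532) (flp_d L58916) L85122 L123267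
theorem L123274 : sm gi N9955 = N14462 := rfl
theorem L123283 : sm gg N9956 = N14463 := rfl
theorem L123285 : sm ga N14463 = N9966 := ded_15_1 (flp_g L85218) (flp_a L85131) L123283
theorem L123289 : sm ge N14463 = N9957 := ded_41_1 (flp_g L85138) L85129 L123283
theorem L123291 : sm gi N14463 = N9985 := ded_51_2 (flp_g L85375) (flp_i L85135) L123283
theorem L123293 : sm gh N9956 = N14464 := rfl
theorem L123295 : sm ga N14464 = N9967 := ded_17_1 (flp_h L85227) (flp_a L85131) L123293
theorem L123301 : sm gj N9957 = N14465 := rfl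
theorem L123303 : sm ga N14465 = N9968 := ded_16_1 (flp_j L85234) (flp_a L85140) L123301
theorem L123306 : sm gd N14465 = N9960 := ded_37_1 (flp_j L85163) (flp_d L85143) L123301
theorem L123308 : sm gi N14465 = N9987 := ded_53_2 (flp_j L85391) (flp_i L85145) L123301
theorem L123311 : sm gh N9957 = N14466 := rfl
theorem L123313 : sm ga N14466 = N9969 := ded_17_1 (flp_h L85243) (flp_a L85140) L123311
theorem L123318 : sm gi N9958 = N14467 := rfl
theorem L123320 : sm ga N14467 = N9970 := ded_18_1 (flp_i L85249) (flp_a L85149) L123318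
theorem L123326 : sm gh N14467 = N9989 := ded_54_1 (flp_i L85407) (flp_h L59085) (flp_i L58926) L85147 L123318
theorem L123328 : sm gd N9961 = N14468 := rfl
theorem L123330 : sm gb N14468 = N10128 := ded_20_1 (flp_d L86566) (flp_b L85176) L123328
theorem L123332 : sm gj N14468 = N14468 := ded_37_2 (flp_d L123328) L85180 L123328
theorem L123333 : sm gi N14468 = N9990 := ded_39_2 (flp_d L85416) (flp_i L85181) L123328
theorem L123335 : sm gc N14468 = N14468 := ded_27_1 (flp_d L123328) L85178 L58969 (flp_c L85178) L123328
theorem L123336 : sm ge N14468 = N10920 := ded_34_2 (flp_d L93416) (flp_e L64590) (flp_d L58950) L85174 L123328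
theorem L123338 : sm gg N9961 = N14469 := rfl
theorem L123340 : sm gb N14469 = N10129 := ded_23_1 (flp_g L86575) (flp_b L85176) L123338
theorem L123342 : sm gc N14469 = N9966 := ded_30_1 (flp_g L85218) (flp_c L85178) L123338
theorem L123344 : sm ge N14469 = N9962 := ded_41_1 (flp_g L85183) L85174 L123338
theorem L123346 : sm gi N14469 = N9991 := ded_51_2 (flp_g L85424) (flp_i L85181) L123338
theorem L123348 : sm gh N9961 = N14470 := rfl
theorem L123350 : sm gb N14470 = N10130 := ded_25_1 (flp_h L86583) (flp_b L85176) L123348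
theorem L123352 : sm gc N14470 = N9967 := ded_32_1 (flp_h L85227) (flp_c L85178) L123348
theorem L123354 : sm ge N14470 = N9963 := ded_43_1 (flp_h L85193) L85174 L123348
theorem L123356 : sm gj N14470 = N14470 := ded_52_1 (flp_h L123348) L85180 L123348
theorem L123357 : sm gj N9962 = N14471 := rfl
theorem L123359 : sm gb N14471 = N10131 := ded_24_1 (flp_j L86590) (flp_b L85185) L123357
theorem L123361 : sm gc N14471 = N9968 := ded_31_1 (flp_j L85234) (flp_c L85187) L123357
theorem L123363 : sm gd N14471 = N10923 := ded_37_1 (flp_j L93445) (flp_d L85189) L123357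
theorem L123365 : sm gi N14471 = N9993 := ded_53_2 (flp_j L85441) (flp_i L85191) L123357
theorem L123367 : sm gg N14471 = N14471 := ded_49_1 (flp_j L123357) (flp_g L85183) L58952 L85183 L123357
theorem L123368 : sm gh N9962 = N14472 := rfl
theorem L123370 : sm gb N14472 = N10132 := ded_25_1 (flp_h L86599) (flp_b L85185) L123368
theorem L123372 : sm gc N14472 = N9969 := ded_32_1 (flp_h L85243) (flp_c L85187) L123368
theorem L123374 : sm gg N14472 = N9963 := ded_50_1 (flp_h L85193) L85183 L123368
theorem L123376 : sm gd N9963 = N14473 := rfl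
theorem L123378 : sm gb N14473 = N10133 := ded_20_1 (flp_d L86605) (flp_b L85195) L123376
theorem L123380 : sm gf N14473 = N9964 := ded_35_2 (flp_d L85202) (flp_f L85199) L123376
theorem L123383 : sm gh N14473 = N10925 := ded_38_2 (flp_d L93462) (flp_h L64608) (flp_d L58950) L85193 L123376
theorem L123385 : sm gi N9963 = N14474 := rfl
theorem L123387 : sm gb N14474 = N10134 := ded_26_1 (flp_i L86613) (flp_b L85195) L123385
theorem L123389 : sm gc N14474 = N9970 := ded_33_1 (flp_i L85249) (flp_c L85197) L123385
theorem L123391 : sm gf N14474 = N9965 := ded_48_1 (flp_i L85209) (flp_f L85199) L123385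
theorem L123393 : sm gj N14474 = N14474 := ded_53_1 (flp_i L123385) L85201 L123385
theorem L123394 : sm gh N14474 = N9996 := ded_54_1 (flp_i L85468) (flp_h L59126) (flp_i L58953) L85193 L123385
theorem L123396 : sm ge N9964 = N14475 := rfl
theorem L123398 : sm gb N14475 = N10135 := ded_21_1 (flp_e L86622) (flp_b L85204) L123396
theorem L123401 : sm gh N14475 = N10927 := ded_43_2 (flp_e L93480) (flp_h L85207) L123396
theorem L123403 : sm gi N9964 = N14476 := rfl
theorem L123405 : sm gb N14476 = N10136 := ded_26_1 (flp_i L86628) (flp_b L85204) L123403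
theorem L123407 : sm gd N14476 = N9965 := ded_39_1 (flp_i L85209) L85202 L123403
theorem L123410 : sm gf N9966 = N14477 := rfl
theorem L123412 : sm gb N14477 = N9971 := ded_22_1 (flp_f L85258) (flp_b L85220) L123410
theorem L123414 : sm gd N14477 = N14477 := ded_35_1 (flp_f L123410) L85222 L123410
theorem L123415 : sm gi N14477 = N9999 := ded_48_2 (flp_f L85493) (flp_i L85225) L123410
theorem L123417 : sm gj N9966 = N14478 := rfl
theorem L123419 : sm gb N14478 = N9972 := ded_24_1 (flp_j L85266) (flp_b L85220) L123417
theorem L123421 : sm gd N14478 = N14478 := ded_37_1 (flp_j L123417) L85222 L123417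
theorem L123422 : sm ge N14478 = N9968 := ded_42_1 (flp_j L85234) (flp_e L85223) L123417
theorem L123424 : sm gi N14478 = N10000 := ded_53_2 (flp_j L85498) (flp_i L85225) L123417
theorem L123426 : sm gg N14478 = N14478 := ded_49_1 (flp_j L123417) (flp_g L85218) L58966 L85218 L123417
theorem L123427 : sm gh N9966 = N14479 := rfl
theorem L123429 : sm gb N14479 = N9973 := ded_25_1 (flp_h L85277) (flp_b L85220) L123427
theorem L123431 : sm ge N14479 = N9969 := ded_43_1 (flp_h L85243) (flp_e L85223) L123427
theorem L123433 : sm gg N14479 = N9967 := ded_50_1 (flp_h L85227) L85218 L123427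
theorem L123435 : sm gd N9967 = N14480 := rfl
theorem L123437 : sm gb N14480 = N9974 := ded_20_1 (flp_d L85286) (flp_b L85229) L123435
theorem L123439 : sm gj N14480 = N14480 := ded_37_2 (flp_d L123435) L85233 L123435
theorem L123440 : sm gh N14480 = N14480 := ded_38_2 (flp_d L123435) (flp_h L85227) L58969 L85227 L123435
theorem L123441 : sm gi N9967 = N14481 := rfl
theorem L123443 : sm gb N14481 = N9975 := ded_26_1 (flp_i L85291) (flp_b L85229) L123441
theorem L123445 : sm ge N14481 = N9970 := ded_44_1 (flp_i L85249) (flp_e L85231) L123441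
theorem L123447 : sm gj N14481 = N14481 := ded_53_1 (flp_i L123441) L85233 L123441
theorem L123448 : sm gh N14481 = N10003 := ded_54_1 (flp_i L85521) (flp_h L59157) (flp_i L58967) L85227 L123441
theorem L123450 : sm gh N9968 = N14482 := rfl
theorem L123452 : sm gb N14482 = N9976 := ded_25_1 (flp_h L85301) (flp_b L85236) L123450
theorem L123454 : sm gg N14482 = N14482 := ded_50_1 (flp_h L123450) L85242 L123450
theorem L123455 : sm gj N14482 = N9969 := ded_52_1 (flp_h L85243) L85234 L123450
theorem L123457 : sm gi N9969 = N14483 := rfl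
theorem L123459 : sm gb N14483 = N9977 := ded_26_1 (flp_i L85309) (flp_b L85245) L123457
theorem L123461 : sm gg N14483 = N9970 := ded_51_1 (flp_i L85249) (flp_g L85247) L123457
theorem L123463 : sm gh N14483 = N10005 := ded_54_1 (flp_i L85536) (flp_h L59171) (flp_i L58976) L85243 L123457
theorem L123465 : sm gj N9971 = N14484 := rfl
theorem L123467 : sm ga N14484 = N14484 := ded_16_1 (flp_j L123465) L85260 L123465
theorem L123468 : sm gc N14484 = N10144 := ded_31_1 (flp_j L86695) (flp_c L85261) L123465
theorem L123470 : sm gd N14484 = N14484 := ded_37_1 (flp_j L123465) L85263 L123465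
theorem L123471 : sm gf N14484 = N9972 := ded_46_1 (flp_j L85266) L85258 L123465
theorem L123473 : sm gi N14484 = N10006 := ded_53_2 (flp_j L85543) (flp_i L85264) L123465
theorem L123475 : sm gh N9971 = N14485 := rfl
theorem L123477 : sm ga N14485 = N14485 := ded_17_1 (flp_h L123475) L85260 L123475
theorem L123478 : sm gc N14485 = N10145 := ded_32_1 (flp_h L86704) (flp_c L85261) L123475
theorem L123480 : sm gf N14485 = N9973 := ded_47_1 (flp_h L85277) L85258 L123475
theorem L123482 : sm gh N9972 = N14486 := rfl
theorem L123484 : sm ga N14486 = N14486 := ded_17_1 (flp_h L123482) L85268 L123482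
theorem L123485 : sm gc N14486 = N10146 := ded_32_1 (flp_h L86709) (flp_c L85269) L123482
theorem L123487 : sm ge N14486 = N9976 := ded_43_1 (flp_h L85301) (flp_e L85272) L123482
theorem L123489 : sm gg N14486 = N14486 := ded_50_1 (flp_h L123482) L85276 L123482
theorem L123490 : sm gj N14486 = N9973 := ded_52_1 (flp_h L85277) L85266 L123482
theorem L123492 : sm gd N9973 = N14487 := rfl
theorem L123494 : sm ga N14487 = N14487 := ded_12_1 (flp_d L123492) L85279 L123492
theorem L123495 : sm gg N14487 = N9974 := ded_36_2 (flp_d L85286) (flp_g L85284) L123492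
theorem L123497 : sm gh N14487 = N14487 := ded_38_2 (flp_d L123492) (flp_h L85277) L59007 L85277 L123492
theorem L123498 : sm gi N9973 = N14488 := rfl
theorem L123500 : sm ga N14488 = N14488 := ded_18_1 (flp_i L123498) L85279 L123498
theorem L123501 : sm gc N14488 = N10148 := ded_33_1 (flp_i L86725) (flp_c L85280) L123498
theorem L123503 : sm ge N14488 = N9977 := ded_44_1 (flp_i L85309) (flp_e L85282) L123498
theorem L123505 : sm gg N14488 = N9975 := ded_51_1 (flp_i L85291) (flp_g L85284) L123498
theorem L123507 : sm gh N14488 = N10010 := ded_54_1 (flp_i L85575) (flp_h L59201) (flp_i L59010) L85277 L123498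
theorem L123509 : sm gc N9974 = N14489 := rfl
theorem L123511 : sm ga N14489 = N14489 := ded_11_1 (flp_c L123509) L85288 L123509
theorem L123512 : sm gj N14489 = N14489 := ded_31_2 (flp_c L123509) L85289 L123509
theorem L123513 : sm gh N14489 = N14489 := ded_32_2 (flp_c L123509) L85290 L123509
theorem L123514 : sm gd N14489 = N10149 := ded_27_2 (flp_c L86734) (flp_d L59986) (flp_c L59015) L85286 L123509
theorem L123516 : sm gi N9974 = N14490 := rfl
theorem L123518 : sm ga N14490 = N14490 := ded_18_1 (flp_i L123516) L85288 L123516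
theorem L123519 : sm gd N14490 = N9975 := ded_39_1 (flp_i L85291) L85286 L123516
theorem L123521 : sm gj N14490 = N14490 := ded_53_1 (flp_i L123516) L85289 L123516
theorem L123522 : sm gi N9976 = N14491 := rfl
theorem L123524 : sm ga N14491 = N14491 := ded_18_1 (flp_i L123522) L85303 L123522
theorem L123525 : sm gc N14491 = N10151 := ded_33_1 (flp_i L86748) (flp_c L85304) L123522
theorem L123527 : sm gg N14491 = N14491 := ded_51_1 (flp_i L123522) L85306 L123522
theorem L123528 : sm gj N14491 = N9977 := ded_53_1 (flp_i L85309) (flp_j L85307) L123522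
theorem L123530 : sm gh N14491 = N10013 := ded_54_1 (flp_i L85599) (flp_h L59224) (flp_i L59027) L85301 L123522
theorem L123532 : sm ge N9978 = N14492 := rfl
theorem L123534 : sm ga N14492 = N10152 := ded_13_1 (flp_e L86757) (flp_a L85320) L123532
theorem L123536 : sm gb N14492 = N9980 := ded_21_1 (flp_e L85336) (flp_b L85322) L123532
theorem L123538 : sm gc N14492 = N14492 := ded_28_1 (flp_e L123532) L85324 L123532
theorem L123539 : sm gj N14492 = N14492 := ded_42_2 (flp_e L123532) L85327 L123532
theorem L123540 : sm gg N9978 = N14493 := rfl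
theorem L123542 : sm ga N14493 = N10153 := ded_15_1 (flp_g L86763) (flp_a L85320) L123540
theorem L123544 : sm gb N14493 = N9981 := ded_23_1 (flp_g L85343) (flp_b L85322) L123540
theorem L123546 : sm gc N14493 = N14493 := ded_30_1 (flp_g L123540) L85324 L123540
theorem L123547 : sm gd N14493 = N10945 := ded_36_1 (flp_g L93639) (flp_d L85325) L123540
theorem L123549 : sm gh N9978 = N14494 := rfl
theorem L123551 : sm ga N14494 = N10154 := ded_17_1 (flp_h L86770) (flp_a L85320) L123549
theorem L123553 : sm gb N14494 = N9982 := ded_25_1 (flp_h L85351) (flp_b L85322) L123549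
theorem L123555 : sm gc N14494 = N14494 := ded_32_1 (flp_h L123549) L85324 L123549
theorem L123556 : sm gf N14494 = N9979 := ded_47_1 (flp_h L85328) L85318 L123549
theorem L123558 : sm gj N14494 = N14494 := ded_52_1 (flp_h L123549) L85327 L123549
theorem L123559 : sm gd N9979 = N14495 := rfl
theorem L123566 : sm gh N14495 = N10947 := ded_38_2 (flp_d L93658) (flp_h L64752) (flp_d L59049) L85328 L123559
theorem L123568 : sm gi N9979 = N14496 := rfl
theorem L123570 : sm ga N14496 = N10156 := ded_18_1 (flp_i L86785) (flp_a L85330) L123568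
theorem L123572 : sm gb N14496 = N9984 := ded_26_1 (flp_i L85368) (flp_b L85332) L123568
theorem L123574 : sm gc N14496 = N14496 := ded_33_1 (flp_i L123568) L85334 L123568
theorem L123575 : sm gj N14496 = N14496 := ded_53_1 (flp_i L123568) L85335 L123568
theorem L123576 : sm gd N9980 = N14497 := rfl
theorem L123578 : sm ga N14497 = N9990 := ded_12_1 (flp_d L85416) (flp_a L85338) L123576
theorem L123580 : sm gj N14497 = N14497 := ded_37_2 (flp_d L123576) L85342 L123576
theorem L123581 : sm gc N14497 = N14497 := ded_27_1 (flp_d L123576) L85340 L59077 (flp_c L85340) L123576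
theorem L123582 : sm ge N14497 = N10949 := ded_34_2 (flp_d L93675) (flp_e L64762) (flp_d L59061) L85336 L123576
theorem L123584 : sm gg N9980 = N14498 := rfl
theorem L123586 : sm ga N14498 = N9991 := ded_15_1 (flp_g L85424) (flp_a L85338) L123584
theorem L123588 : sm gc N14498 = N9985 := ded_30_1 (flp_g L85375) (flp_c L85340) L123584
theorem L123590 : sm ge N14498 = N9981 := ded_41_1 (flp_g L85343) L85336 L123584
theorem L123592 : sm gh N9980 = N14499 := rfl
theorem L123594 : sm ga N14499 = N9992 := ded_17_1 (flp_h L85432) (flp_a L85338) L123592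
theorem L123596 : sm gc N14499 = N9986 := ded_32_1 (flp_h L85383) (flp_c L85340) L123592
theorem L123598 : sm ge N14499 = N9982 := ded_43_1 (flp_h L85351) L85336 L123592
theorem L123600 : sm gj N14499 = N14499 := ded_52_1 (flp_h L123592) L85342 L123592
theorem L123601 : sm gj N9981 = N14500 := rfl
theorem L123603 : sm ga N14500 = N9993 := ded_16_1 (flp_j L85441) (flp_a L85345) L123601
theorem L123605 : sm gc N14500 = N9987 := ded_31_1 (flp_j L85391) (flp_c L85347) L123601
theorem L123607 : sm gd N14500 = N10952 := ded_37_1 (flp_j L93700) (flp_d L85349) L123601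
theorem L123609 : sm gg N14500 = N14500 := ded_49_1 (flp_j L123601) (flp_g L85343) L59063 L85343 L123601
theorem L123610 : sm gh N9981 = N14501 := rfl
theorem L123612 : sm ga N14501 = N9994 := ded_17_1 (flp_h L85450) (flp_a L85345) L123610
theorem L123614 : sm gc N14501 = N9988 := ded_32_1 (flp_h L85399) (flp_c L85347) L123610
theorem L123616 : sm gg N14501 = N9982 := ded_50_1 (flp_h L85351) L85343 L123610
theorem L123618 : sm gd N9982 = N14502 := rfl
theorem L123620 : sm ga N14502 = N9995 := ded_12_1 (flp_d L85458) (flp_a L85353) L123618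
theorem L123622 : sm gf N14502 = N9983 := ded_35_2 (flp_d L85360) (flp_f L85357) L123618
theorem L123624 : sm gj N14502 = N14502 := ded_37_2 (flp_d L123618) L85359 L123618
theorem L123625 : sm gc N14502 = N14502 := ded_27_1 (flp_d L123618) L85355 L59093 (flp_c L85355) L123618
theorem L123626 : sm gh N14502 = N10954 := ded_38_2 (flp_d L93715) (flp_h L64776) (flp_d L59061) L85351 L123618
theorem L123628 : sm gi N9982 = N14503 := rfl
theorem L123630 : sm ga N14503 = N9996 := ded_18_1 (flp_i L85468) (flp_a L85353) L123628
theorem L123632 : sm gc N14503 = N9989 := ded_33_1 (flp_i L85407) (flp_c L85355) L123628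
theorem L123634 : sm gf N14503 = N9984 := ded_48_1 (flp_i L85368) (flp_f L85357) L123628
theorem L123636 : sm gj N14503 = N14503 := ded_53_1 (flp_i L123628) L85359 L123628
theorem L123637 : sm ge N9983 = N14504 := rfl
theorem L123639 : sm ga N14504 = N9997 := ded_13_1 (flp_e L85477) (flp_a L85362) L123637
theorem L123643 : sm gh N14504 = N10956 := ded_43_2 (flp_e L93732) (flp_h L85366) L123637
theorem L123645 : sm gi N9983 = N14505 := rfl
theorem L123647 : sm ga N14505 = N9998 := ded_18_1 (flp_i L85485) (flp_a L85362) L123645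
theorem L123649 : sm gc N14505 = N14505 := ded_33_1 (flp_i L123645) L85365 L123645
theorem L123650 : sm gd N14505 = N9984 := ded_39_1 (flp_i L85368) L85360 L123645
theorem L123652 : sm gj N14505 = N14505 := ded_53_1 (flp_i L123645) L85364 L123645
theorem L123653 : sm gf N9985 = N14506 := rfl
theorem L123655 : sm ga N14506 = N9999 := ded_14_1 (flp_f L85493) (flp_a L85377) L123653
theorem L123657 : sm gb N14506 = N14506 := ded_22_1 (flp_f L123653) L85379 L123653
theorem L123658 : sm gd N14506 = N14506 := ded_35_1 (flp_f L123653) L85380 L123653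
theorem L123659 : sm gj N9985 = N14507 := rfl
theorem L123661 : sm ga N14507 = N10000 := ded_16_1 (flp_j L85498) (flp_a L85377) L123659
theorem L123663 : sm gb N14507 = N14507 := ded_24_1 (flp_j L123659) L85379 L123659
theorem L123664 : sm gd N14507 = N14507 := ded_37_1 (flp_j L123659) L85380 L123659
theorem L123665 : sm ge N14507 = N9987 := ded_42_1 (flp_j L85391) (flp_e L85381) L123659
theorem L123667 : sm gg N14507 = N14507 := ded_49_1 (flp_j L123659) (flp_g L85375) L59076 L85375 L123659
theorem L123668 : sm gh N9985 = N14508 := rfl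
theorem L123670 : sm ga N14508 = N10001 := ded_17_1 (flp_h L85506) (flp_a L85377) L123668
theorem L123672 : sm gb N14508 = N14508 := ded_25_1 (flp_h L123668) L85379 L123668
theorem L123673 : sm ge N14508 = N9988 := ded_43_1 (flp_h L85399) (flp_e L85381) L123668
theorem L123675 : sm gg N14508 = N9986 := ded_50_1 (flp_h L85383) L85375 L123668
theorem L123677 : sm gd N9986 = N14509 := rfl
theorem L123679 : sm ga N14509 = N10002 := ded_12_1 (flp_d L85514) (flp_a L85385) L123677
theorem L123681 : sm gb N14509 = N14509 := ded_20_1 (flp_d L123677) L85387 L123677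
theorem L123682 : sm gj N14509 = N14509 := ded_37_2 (flp_d L123677) L85390 L123677
theorem L123683 : sm ge N14509 = N14509 := ded_34_2 (flp_d L123677) L85388 L59093 (flp_e L85388) L123677
theorem L123684 : sm gh N14509 = N14509 := ded_38_2 (flp_d L123677) (flp_h L85383) L59077 L85383 L123677
theorem L123685 : sm gi N9986 = N14510 := rfl
theorem L123687 : sm ga N14510 = N10003 := ded_18_1 (flp_i L85521) (flp_a L85385) L123685
theorem L123689 : sm gb N14510 = N14510 := ded_26_1 (flp_i L123685) L85387 L123685
theorem L123690 : sm ge N14510 = N9989 := ded_44_1 (flp_i L85407) (flp_e L85388) L123685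
theorem L123692 : sm gj N14510 = N14510 := ded_53_1 (flp_i L123685) L85390 L123685
theorem L123693 : sm gh N9987 = N14511 := rfl
theorem L123695 : sm ga N14511 = N10004 := ded_17_1 (flp_h L85528) (flp_a L85393) L123693
theorem L123697 : sm gb N14511 = N14511 := ded_25_1 (flp_h L123693) L85395 L123693
theorem L123698 : sm gg N14511 = N14511 := ded_50_1 (flp_h L123693) L85398 L123693
theorem L123699 : sm gj N14511 = N9988 := ded_52_1 (flp_h L85399) L85391 L123693
theorem L123701 : sm gd N14511 = N14511 := ded_38_1 (flp_h L123693) L85396 L59109 (flp_d L85396) L123693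
theorem L123702 : sm gi N9988 = N14512 := rfl
theorem L123704 : sm ga N14512 = N10005 := ded_18_1 (flp_i L85536) (flp_a L85401) L123702
theorem L123706 : sm gb N14512 = N14512 := ded_26_1 (flp_i L123702) L85403 L123702
theorem L123707 : sm gd N14512 = N14512 := ded_39_1 (flp_i L123702) L85406 L123702
theorem L123708 : sm gg N14512 = N9989 := ded_51_1 (flp_i L85407) (flp_g L85404) L123702
theorem L123710 : sm gg N9990 = N14513 := rfl
theorem L123712 : sm gb N14513 = N10173 := ded_23_1 (flp_g L86935) (flp_b L85418) L123710
theorem L123714 : sm gc N14513 = N14513 := ded_30_1 (flp_g L123710) L85421 L123710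
theorem L123715 : sm gd N14513 = N9991 := ded_36_1 (flp_g L85424) L85416 L123710
theorem L123717 : sm ge N14513 = N10965 := ded_41_1 (flp_g L93814) (flp_e L85422) L123710
theorem L123719 : sm gh N9990 = N14514 := rfl
theorem L123721 : sm gb N14514 = N10174 := ded_25_1 (flp_h L86943) (flp_b L85418) L123719
theorem L123723 : sm gc N14514 = N14514 := ded_32_1 (flp_h L123719) L85421 L123719
theorem L123724 : sm ge N14514 = N10966 := ded_43_1 (flp_h L93821) (flp_e L85422) L123719
theorem L123726 : sm gj N14514 = N14514 := ded_52_1 (flp_h L123719) L85420 L123719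
theorem L123727 : sm gf N9991 = N14515 := rfl
theorem L123729 : sm gb N14515 = N10175 := ded_22_1 (flp_f L86950) (flp_b L85426) L123727
theorem L123731 : sm gc N14515 = N9999 := ded_29_1 (flp_f L85493) (flp_c L85428) L123727
theorem L123733 : sm gj N9991 = N14516 := rfl
theorem L123735 : sm gb N14516 = N10176 := ded_24_1 (flp_j L86954) (flp_b L85426) L123733
theorem L123737 : sm gc N14516 = N10000 := ded_31_1 (flp_j L85498) (flp_c L85428) L123733
theorem L123739 : sm ge N14516 = N9993 := ded_42_1 (flp_j L85441) (flp_e L85430) L123733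
theorem L123741 : sm gg N14516 = N14516 := ded_49_1 (flp_j L123733) (flp_g L85424) L59117 L85424 L123733
theorem L123742 : sm gh N9991 = N14517 := rfl
theorem L123744 : sm gb N14517 = N10177 := ded_25_1 (flp_h L86961) (flp_b L85426) L123742
theorem L123746 : sm gc N14517 = N10001 := ded_32_1 (flp_h L85506) (flp_c L85428) L123742
theorem L123748 : sm ge N14517 = N9994 := ded_43_1 (flp_h L85450) (flp_e L85430) L123742
theorem L123750 : sm gg N14517 = N9992 := ded_50_1 (flp_h L85432) L85424 L123742
theorem L123752 : sm gd N9992 = N14518 := rfl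
theorem L123754 : sm gb N14518 = N10178 := ded_20_1 (flp_d L86969) (flp_b L85434) L123752
theorem L123756 : sm gj N14518 = N14518 := ded_37_2 (flp_d L123752) L85440 L123752
theorem L123757 : sm gi N9992 = N14519 := rfl
theorem L123759 : sm gb N14519 = N10179 := ded_26_1 (flp_i L86972) (flp_b L85434) L123757
theorem L123761 : sm gc N14519 = N10003 := ded_33_1 (flp_i L85521) (flp_c L85436) L123757
theorem L123763 : sm ge N14519 = N9996 := ded_44_1 (flp_i L85468) (flp_e L85438) L123757
theorem L123765 : sm gj N14519 = N14519 := ded_53_1 (flp_i L123757) L85440 L123757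
theorem L123766 : sm gh N9993 = N14520 := rfl
theorem L123768 : sm gb N14520 = N10180 := ded_25_1 (flp_h L86979) (flp_b L85443) L123766
theorem L123770 : sm gc N14520 = N10004 := ded_32_1 (flp_h L85528) (flp_c L85445) L123766
theorem L123772 : sm gg N14520 = N14520 := ded_50_1 (flp_h L123766) L85449 L123766
theorem L123773 : sm gj N14520 = N9994 := ded_52_1 (flp_h L85450) L85441 L123766
theorem L123775 : sm gd N9994 = N14521 := rfl
theorem L123777 : sm gb N14521 = N10181 := ded_20_1 (flp_d L86986) (flp_b L85452) L123775
theorem L123779 : sm gg N14521 = N9995 := ded_36_2 (flp_d L85458) (flp_g L85456) L123775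
theorem L123781 : sm gc N14521 = N14521 := ded_27_1 (flp_d L123775) L85454 L59177 (flp_c L85454) L123775
theorem L123782 : sm gh N14521 = N10973 := ded_38_2 (flp_d L93879) (flp_h L64878) (flp_d L59124) L85450 L123775
theorem L123784 : sm gi N9994 = N14522 := rfl
theorem L123786 : sm gb N14522 = N10182 := ded_26_1 (flp_i L86994) (flp_b L85452) L123784
theorem L123788 : sm gc N14522 = N10005 := ded_33_1 (flp_i L85536) (flp_c L85454) L123784
theorem L123790 : sm gg N14522 = N9996 := ded_51_1 (flp_i L85468) (flp_g L85456) L123784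
theorem L123792 : sm ge N9995 = N14523 := rfl
theorem L123794 : sm gb N14523 = N10183 := ded_21_1 (flp_e L87000) (flp_b L85460) L123792
theorem L123796 : sm gc N14523 = N14523 := ded_28_1 (flp_e L123792) L85465 L123792
theorem L123797 : sm gj N14523 = N14523 := ded_42_2 (flp_e L123792) L85464 L123792
theorem L123798 : sm gh N14523 = N10975 := ded_43_2 (flp_e L93894) (flp_h L85466) L123792
theorem L123800 : sm gi N9995 = N14524 := rfl
theorem L123802 : sm gb N14524 = N10184 := ded_26_1 (flp_i L87007) (flp_b L85460) L123800
theorem L123804 : sm gc N14524 = N14524 := ded_33_1 (flp_i L123800) L85465 L123800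
theorem L123805 : sm gd N14524 = N9996 := ded_39_1 (flp_i L85468) L85458 L123800
theorem L123807 : sm gf N14524 = N9998 := ded_48_1 (flp_i L85485) (flp_f L85462) L123800
theorem L123809 : sm gj N14524 = N14524 := ded_53_1 (flp_i L123800) L85464 L123800
theorem L123810 : sm gf N9997 = N14525 := rfl
theorem L123812 : sm gb N14525 = N10185 := ded_22_1 (flp_f L87016) (flp_b L85479) L123810
theorem L123814 : sm gc N14525 = N14525 := ded_29_1 (flp_f L123810) L85481 L123810
theorem L123815 : sm gj N14525 = N14525 := ded_46_2 (flp_f L123810) L85482 L123810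
theorem L123816 : sm gh N14525 = N10977 := ded_47_2 (flp_f L93910) (flp_h L85483) L123810
theorem L123818 : sm gi N9997 = N14526 := rfl
theorem L123820 : sm gb N14526 = N10186 := ded_26_1 (flp_i L87023) (flp_b L85479) L123818
theorem L123822 : sm gc N14526 = N14526 := ded_33_1 (flp_i L123818) L85481 L123818
theorem L123823 : sm ge N14526 = N9998 := ded_44_1 (flp_i L85485) L85477 L123818
theorem L123825 : sm gj N14526 = N14526 := ded_53_1 (flp_i L123818) L85482 L123818
theorem L123826 : sm gh N9998 = N14527 := rfl
theorem L123832 : sm gi N14527 = N10979 := ded_54_2 (flp_h L93926) (flp_i L64910) (flp_h L59141) L85485 L123826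
theorem L123834 : sm gj N9999 = N14528 := rfl
theorem L123836 : sm gb N14528 = N10006 := ded_24_1 (flp_j L85543) (flp_b L85495) L123834
theorem L123838 : sm gd N14528 = N14528 := ded_37_1 (flp_j L123834) L85497 L123834
theorem L123839 : sm gf N14528 = N10000 := ded_46_1 (flp_j L85498) L85493 L123834
theorem L123841 : sm gh N9999 = N14529 := rfl
theorem L123843 : sm gb N14529 = N10007 := ded_25_1 (flp_h L85551) (flp_b L85495) L123841
theorem L123845 : sm gf N14529 = N10001 := ded_47_1 (flp_h L85506) L85493 L123841
theorem L123847 : sm gh N10000 = N14530 := rfl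
theorem L123849 : sm gb N14530 = N10008 := ded_25_1 (flp_h L85558) (flp_b L85500) L123847
theorem L123851 : sm ge N14530 = N10004 := ded_43_1 (flp_h L85528) (flp_e L85503) L123847
theorem L123853 : sm gg N14530 = N14530 := ded_50_1 (flp_h L123847) L85505 L123847
theorem L123854 : sm gj N14530 = N10001 := ded_52_1 (flp_h L85506) L85498 L123847
theorem L123856 : sm gd N10001 = N14531 := rfl
theorem L123858 : sm gb N14531 = N10009 := ded_20_1 (flp_d L85568) (flp_b L85508) L123856
theorem L123860 : sm gg N14531 = N10002 := ded_36_2 (flp_d L85514) (flp_g L85512) L123856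
theorem L123862 : sm ge N14531 = N14531 := ded_34_2 (flp_d L123856) L85510 L59177 (flp_e L85510) L123856
theorem L123863 : sm gh N14531 = N14531 := ded_38_2 (flp_d L123856) (flp_h L85506) L59154 L85506 L123856
theorem L123864 : sm gi N10001 = N14532 := rfl
theorem L123866 : sm gb N14532 = N10010 := ded_26_1 (flp_i L85575) (flp_b L85508) L123864
theorem L123868 : sm ge N14532 = N10005 := ded_44_1 (flp_i L85536) (flp_e L85510) L123864
theorem L123870 : sm gg N14532 = N10003 := ded_51_1 (flp_i L85521) (flp_g L85512) L123864
theorem L123872 : sm gc N10002 = N14533 := rfl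
theorem L123874 : sm ge N14533 = N14533 := ded_28_2 (flp_c L123872) L85519 L123872
theorem L123875 : sm gj N14533 = N14533 := ded_31_2 (flp_c L123872) L85518 L123872
theorem L123876 : sm gh N14533 = N14533 := ded_32_2 (flp_c L123872) L85520 L123872
theorem L123877 : sm gi N10002 = N14534 := rfl
theorem L123879 : sm gb N14534 = N10012 := ded_26_1 (flp_i L85592) (flp_b L85516) L123877
theorem L123881 : sm gd N14534 = N10003 := ded_39_1 (flp_i L85521) L85514 L123877
theorem L123883 : sm ge N14534 = N14534 := ded_44_1 (flp_i L123877) L85519 L123877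
theorem L123884 : sm gj N14534 = N14534 := ded_53_1 (flp_i L123877) L85518 L123877
theorem L123885 : sm gi N10004 = N14535 := rfl
theorem L123887 : sm gb N14535 = N10013 := ded_26_1 (flp_i L85599) (flp_b L85530) L123885
theorem L123889 : sm gd N14535 = N14535 := ded_39_1 (flp_i L123885) L85535 L123885
theorem L123890 : sm gg N14535 = N14535 := ded_51_1 (flp_i L123885) L85532 L123885
theorem L123891 : sm gj N14535 = N10005 := ded_53_1 (flp_i L85536) (flp_j L85533) L123885
theorem L123893 : sm gg N10006 = N14536 := rfl
theorem L123895 : sm ga N14536 = N14536 := ded_15_1 (flp_g L123893) L85545 L123893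
theorem L123896 : sm gc N14536 = N10196 := ded_30_1 (flp_g L87103) (flp_c L85546) L123893
theorem L123898 : sm gd N14536 = N14536 := ded_36_1 (flp_g L123893) L85548 L123893
theorem L123899 : sm gf N14536 = N14536 := ded_45_1 (flp_g L123893) L85549 L59200 (flp_f L85549) L123893
theorem L123900 : sm gh N10006 = N14537 := rfl
theorem L123902 : sm ga N14537 = N14537 := ded_17_1 (flp_h L123900) L85545 L123900
theorem L123903 : sm gc N14537 = N10197 := ded_32_1 (flp_h L87109) (flp_c L85546) L123900
theorem L123905 : sm gf N14537 = N10008 := ded_47_1 (flp_h L85558) (flp_f L85549) L123900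
theorem L123907 : sm gj N14537 = N10007 := ded_52_1 (flp_h L85551) L85543 L123900
theorem L123909 : sm gd N10007 = N14538 := rfl
theorem L123911 : sm ga N14538 = N14538 := ded_12_1 (flp_d L123909) L85553 L123909
theorem L123912 : sm gf N14538 = N10009 := ded_35_2 (flp_d L85568) (flp_f L85556) L123909
theorem L123914 : sm gh N14538 = N14538 := ded_38_2 (flp_d L123909) (flp_h L85551) L59191 L85551 L123909
theorem L123915 : sm gi N10007 = N14539 := rfl
theorem L123917 : sm ga N14539 = N14539 := ded_18_1 (flp_i L123915) L85553 L123915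
theorem L123918 : sm gc N14539 = N10199 := ded_33_1 (flp_i L87123) (flp_c L85554) L123915
theorem L123920 : sm gf N14539 = N10010 := ded_48_1 (flp_i L85575) (flp_f L85556) L123915
theorem L123922 : sm gd N10008 = N14540 := rfl
theorem L123924 : sm ga N14540 = N14540 := ded_12_1 (flp_d L123922) L85560 L123922
theorem L123925 : sm gg N14540 = N14540 := ded_36_2 (flp_d L123922) L85565 L123922
theorem L123926 : sm gj N14540 = N10009 := ded_37_2 (flp_d L85568) (flp_j L85566) L123922
theorem L123928 : sm ge N14540 = N14540 := ded_34_2 (flp_d L123922) L85563 L59232 (flp_e L85563) L123922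
theorem L123929 : sm gh N14540 = N14540 := ded_38_2 (flp_d L123922) (flp_h L85558) L59197 L85558 L123922
theorem L123930 : sm gi N10008 = N14541 := rfl
theorem L123932 : sm ga N14541 = N14541 := ded_18_1 (flp_i L123930) L85560 L123930
theorem L123933 : sm gc N14541 = N10201 := ded_33_1 (flp_i L87138) (flp_c L85561) L123930
theorem L123935 : sm ge N14541 = N10013 := ded_44_1 (flp_i L85599) (flp_e L85563) L123930
theorem L123937 : sm gg N14541 = N14541 := ded_51_1 (flp_i L123930) L85565 L123930
theorem L123938 : sm gj N14541 = N10010 := ded_53_1 (flp_i L85575) (flp_j L85566) L123930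
theorem L123940 : sm gc N10009 = N14542 := rfl
theorem L123942 : sm ga N14542 = N14542 := ded_11_1 (flp_c L123940) L85570 L123940
theorem L123943 : sm ge N14542 = N14542 := ded_28_2 (flp_c L123940) L85573 L123940
theorem L123944 : sm gg N14542 = N10011 := ded_30_2 (flp_c L85584) (flp_g L85571) L123940
theorem L123946 : sm gh N14542 = N14542 := ded_32_2 (flp_c L123940) L85574 L123940
theorem L123947 : sm gd N14542 = N10202 := ded_27_2 (flp_c L87146) (flp_d L60253) (flp_c L59204) L85568 L123940
theorem L123949 : sm gi N10009 = N14543 := rfl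
theorem L123951 : sm ga N14543 = N14543 := ded_18_1 (flp_i L123949) L85570 L123949
theorem L123952 : sm gd N14543 = N10010 := ded_39_1 (flp_i L85575) L85568 L123949
theorem L123954 : sm ge N14543 = N14543 := ded_44_1 (flp_i L123949) L85573 L123949
theorem L123955 : sm gg N14543 = N10012 := ded_51_1 (flp_i L85592) (flp_g L85571) L123949
theorem L123957 : sm gb N10011 = N14544 := rfl
theorem L123959 : sm gd N14544 = N10204 := ded_20_2 (flp_b L87164) (flp_d L85590) L123957
theorem L123961 : sm ge N14544 = N14544 := ded_21_2 (flp_b L123957) L85587 L123957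
theorem L123962 : sm gj N14544 = N14544 := ded_24_2 (flp_b L123957) L85588 L123957
theorem L123963 : sm gh N14544 = N14544 := ded_25_2 (flp_b L123957) L85589 L123957
theorem L123964 : sm gi N10011 = N14545 := rfl
theorem L123966 : sm ga N14545 = N14545 := ded_18_1 (flp_i L123964) L85586 L123964
theorem L123967 : sm gc N14545 = N10012 := ded_33_1 (flp_i L85592) L85584 L123964
theorem L123969 : sm gd N14545 = N10205 := ded_39_1 (flp_i L87171) (flp_d L85590) L123964
theorem L123971 : sm ge N14545 = N14545 := ded_44_1 (flp_i L123964) L85587 L123964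
theorem L123972 : sm gj N14545 = N14545 := ded_53_1 (flp_i L123964) L85588 L123964
theorem L123973 : sm gh N10012 = N14546 := rfl
theorem L123975 : sm ga N14546 = N14546 := ded_17_1 (flp_h L123973) L85594 L123973
theorem L123976 : sm ge N14546 = N14546 := ded_43_1 (flp_h L123973) L85597 L123973
theorem L123977 : sm gj N14546 = N14546 := ded_52_1 (flp_h L123973) L85598 L123973
theorem L123978 : sm gi N14546 = N14546 := ded_54_2 (flp_h L123973) (flp_i L85592) L59215 L85592 L123973
theorem L123979 : sm gb N10014 = N14547 := rfl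
theorem L123981 : sm gd N14547 = N10996 := ded_20_2 (flp_b L94072) (flp_d L85617) L123979
theorem L123983 : sm gg N14547 = N14547 := ded_23_2 (flp_b L123979) L85612 L123979
theorem L123984 : sm gj N14547 = N10055 := ded_24_2 (flp_b L85970) (flp_j L85613) L123979
theorem L123986 : sm gi N14547 = N10030 := ded_26_2 (flp_b L85760) (flp_i L85615) L123979
theorem L123988 : sm gc N14547 = N14547 := ded_19_2 (flp_b L123979) (flp_c L85608) L59245 L85608 L123979
theorem L123989 : sm gf N10014 = N14548 := rfl
theorem L123991 : sm ga N14548 = N10018 := ded_14_1 (flp_f L85651) (flp_a L85610) L123989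
theorem L123993 : sm gc N14548 = N10015 := ded_29_1 (flp_f L85619) L85608 L123989
theorem L123995 : sm gd N14548 = N10997 := ded_35_1 (flp_f L94082) (flp_d L85617) L123989
theorem L123997 : sm gj N14548 = N10056 := ded_46_2 (flp_f L85979) (flp_j L85613) L123989
theorem L123999 : sm gi N14548 = N10031 := ded_48_2 (flp_f L85768) (flp_i L85615) L123989
theorem L124001 : sm gh N10014 = N14549 := rfl
theorem L124003 : sm ga N14549 = N10019 := ded_17_1 (flp_h L85661) (flp_a L85610) L124001
theorem L124005 : sm gc N14549 = N10016 := ded_32_1 (flp_h L85630) L85608 L124001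
theorem L124007 : sm gg N14549 = N14549 := ded_50_1 (flp_h L124001) L85612 L124001
theorem L124008 : sm gj N14549 = N10057 := ded_52_1 (flp_h L85989) (flp_j L85613) L124001
theorem L124010 : sm ge N10015 = N14550 := rfl
theorem L124012 : sm ga N14550 = N10020 := ded_13_1 (flp_e L85668) (flp_a L85621) L124010
theorem L124014 : sm gb N14550 = N14550 := ded_21_1 (flp_e L124010) L85623 L124010
theorem L124015 : sm gj N14550 = N10058 := ded_42_2 (flp_e L85997) (flp_j L85626) L124010
theorem L124017 : sm gi N14550 = N10033 := ded_44_2 (flp_e L85787) (flp_i L85628) L124010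
theorem L124019 : sm gd N14550 = N14550 := ded_34_1 (flp_e L124010) L85624 L59263 (flp_d L85624) L124010
theorem L124020 : sm gg N10015 = N14551 := rfl
theorem L124022 : sm ga N14551 = N10021 := ded_15_1 (flp_g L85677) (flp_a L85621) L124020
theorem L124024 : sm gb N14551 = N14551 := ded_23_1 (flp_g L124020) L85623 L124020
theorem L124025 : sm gd N14551 = N10017 := ded_36_1 (flp_g L85639) (flp_d L85624) L124020
theorem L124027 : sm gi N14551 = N10034 := ded_51_2 (flp_g L85795) (flp_i L85628) L124020
theorem L124029 : sm gf N14551 = N14551 := ded_45_1 (flp_g L124020) (flp_f L85619) L59246 L85619 L124020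
theorem L124030 : sm gh N10015 = N14552 := rfl
theorem L124032 : sm ga N14552 = N10022 := ded_17_1 (flp_h L85686) (flp_a L85621) L124030
theorem L124034 : sm gb N14552 = N14552 := ded_25_1 (flp_h L124030) L85623 L124030
theorem L124035 : sm gf N14552 = N10016 := ded_47_1 (flp_h L85630) L85619 L124030
theorem L124037 : sm gj N14552 = N10060 := ded_52_1 (flp_h L86016) (flp_j L85626) L124030
theorem L124039 : sm gd N14552 = N14552 := ded_38_1 (flp_h L124030) L85624 L59260 (flp_d L85624) L124030
theorem L124040 : sm gi N10016 = N14553 := rfl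
theorem L124042 : sm ga N14553 = N10023 := ded_18_1 (flp_i L85695) (flp_a L85632) L124040
theorem L124044 : sm gb N14553 = N14553 := ded_26_1 (flp_i L124040) L85634 L124040
theorem L124045 : sm gd N14553 = N14553 := ded_39_1 (flp_i L124040) L85638 L124040
theorem L124046 : sm gg N14553 = N14553 := ded_51_1 (flp_i L124040) L85635 L124040
theorem L124047 : sm gj N14553 = N10061 := ded_53_1 (flp_i L86024) (flp_j L85636) L124040
theorem L124049 : sm gh N14553 = N10036 := ded_54_1 (flp_i L85814) (flp_h L59365) (flp_i L59249) L85630 L124040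
theorem L124051 : sm gj N10017 = N14554 := rfl
theorem L124053 : sm ga N14554 = N10024 := ded_16_1 (flp_j L85705) (flp_a L85641) L124051
theorem L124055 : sm gb N14554 = N14554 := ded_24_1 (flp_j L124051) L85643 L124051
theorem L124056 : sm gc N14554 = N11003 := ded_31_1 (flp_j L94149) (flp_c L85644) L124051
theorem L124058 : sm ge N14554 = N14554 := ded_42_1 (flp_j L124051) L85646 L124051
theorem L124059 : sm gf N14554 = N14554 := ded_46_1 (flp_j L124051) L85650 L124051
theorem L124060 : sm gh N14554 = N14554 := ded_52_2 (flp_j L124051) L85647 L124051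
theorem L124061 : sm gi N14554 = N10037 := ded_53_2 (flp_j L85824) (flp_i L85648) L124051
theorem L124063 : sm gg N14554 = N10062 := ded_49_1 (flp_j L86034) (flp_g L59511) (flp_j L59258) L85639 L124051
theorem L124065 : sm ge N10018 = N14555 := rfl
theorem L124067 : sm gc N14555 = N10020 := ded_28_1 (flp_e L85668) (flp_c L85653) L124065
theorem L124069 : sm gj N14555 = N10063 := ded_42_2 (flp_e L86047) (flp_j L85657) L124065
theorem L124071 : sm gi N14555 = N10038 := ded_44_2 (flp_e L85837) (flp_i L85659) L124065
theorem L124073 : sm gg N10018 = N14556 := rfl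
theorem L124075 : sm gc N14556 = N10021 := ded_30_1 (flp_g L85677) (flp_c L85653) L124073
theorem L124077 : sm gd N14556 = N11005 := ded_36_1 (flp_g L94171) (flp_d L85655) L124073
theorem L124079 : sm gi N14556 = N10039 := ded_51_2 (flp_g L85843) (flp_i L85659) L124073
theorem L124081 : sm gf N14556 = N14556 := ded_45_1 (flp_g L124073) (flp_f L85651) L59266 L85651 L124073
theorem L124082 : sm gh N10018 = N14557 := rfl
theorem L124084 : sm gc N14557 = N10022 := ded_32_1 (flp_h L85686) (flp_c L85653) L124082
theorem L124086 : sm gf N14557 = N10019 := ded_47_1 (flp_h L85661) L85651 L124082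
theorem L124088 : sm gj N14557 = N10065 := ded_52_1 (flp_h L86063) (flp_j L85657) L124082
theorem L124090 : sm gd N10019 = N14558 := rfl
theorem L124092 : sm gg N14558 = N14558 := ded_36_2 (flp_d L124090) L85665 L124090
theorem L124093 : sm gj N14558 = N10066 := ded_37_2 (flp_d L86069) (flp_j L85666) L124090
theorem L124095 : sm gc N14558 = N14558 := ded_27_1 (flp_d L124090) L85663 L59290 (flp_c L85663) L124090
theorem L124096 : sm gh N14558 = N11007 := ded_38_2 (flp_d L94186) (flp_h L65091) (flp_d L59271) L85661 L124090
theorem L124098 : sm gi N10019 = N14559 := rfl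
theorem L124100 : sm gc N14559 = N10023 := ded_33_1 (flp_i L85695) (flp_c L85663) L124098
theorem L124102 : sm gg N14559 = N14559 := ded_51_1 (flp_i L124098) L85665 L124098
theorem L124103 : sm gj N14559 = N10067 := ded_53_1 (flp_i L86076) (flp_j L85666) L124098
theorem L124105 : sm gh N14559 = N10042 := ded_54_1 (flp_i L85867) (flp_h L59394) (flp_i L59269) L85661 L124098
theorem L124107 : sm gg N10020 = N14560 := rfl
theorem L124109 : sm gb N14560 = N10025 := ded_23_1 (flp_g L85718) (flp_b L85670) L124107
theorem L124111 : sm gd N14560 = N14560 := ded_36_1 (flp_g L124107) L85676 L124107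
theorem L124112 : sm ge N14560 = N10021 := ded_41_1 (flp_g L85677) L85668 L124107
theorem L124114 : sm gi N14560 = N10043 := ded_51_2 (flp_g L85874) (flp_i L85674) L124107
theorem L124116 : sm gh N10020 = N14561 := rfl
theorem L124118 : sm gb N14561 = N10026 := ded_25_1 (flp_h L85726) (flp_b L85670) L124116
theorem L124120 : sm ge N14561 = N10022 := ded_43_1 (flp_h L85686) L85668 L124116
theorem L124122 : sm gj N14561 = N10069 := ded_52_1 (flp_h L86093) (flp_j L85672) L124116
theorem L124124 : sm gj N10021 = N14562 := rfl
theorem L124126 : sm gb N14562 = N10027 := ded_24_1 (flp_j L85733) (flp_b L85679) L124124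
theorem L124128 : sm gd N14562 = N10024 := ded_37_1 (flp_j L85705) (flp_d L85681) L124124
theorem L124130 : sm gf N14562 = N14562 := ded_46_1 (flp_j L124124) L85685 L124124
theorem L124131 : sm gi N14562 = N10045 := ded_53_2 (flp_j L85889) (flp_i L85683) L124124
theorem L124133 : sm gg N14562 = N10070 := ded_49_1 (flp_j L86099) (flp_g L59545) (flp_j L59279) L85677 L124124
theorem L124135 : sm gh N10021 = N14563 := rfl
theorem L124137 : sm gb N14563 = N10028 := ded_25_1 (flp_h L85743) (flp_b L85679) L124135
theorem L124139 : sm gf N14563 = N14563 := ded_47_1 (flp_h L124135) L85685 L124135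
theorem L124140 : sm gg N14563 = N10022 := ded_50_1 (flp_h L85686) L85677 L124135
theorem L124142 : sm gd N14563 = N14563 := ded_38_1 (flp_h L124135) L85681 L59298 (flp_d L85681) L124135
theorem L124143 : sm gi N10022 = N14564 := rfl
theorem L124145 : sm gb N14564 = N10029 := ded_26_1 (flp_i L85750) (flp_b L85688) L124143
theorem L124147 : sm gd N14564 = N14564 := ded_39_1 (flp_i L124143) L85694 L124143
theorem L124148 : sm gf N14564 = N10023 := ded_48_1 (flp_i L85695) (flp_f L85690) L124143
theorem L124150 : sm gj N14564 = N10072 := ded_53_1 (flp_i L86118) (flp_j L85692) L124143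
theorem L124152 : sm gh N14564 = N10047 := ded_54_1 (flp_i L85907) (flp_h L59415) (flp_i L59281) L85686 L124143
theorem L124154 : sm gf N10025 = N14565 := rfl
theorem L124156 : sm ga N14565 = N14565 := ded_14_1 (flp_f L124154) L85720 L124154
theorem L124157 : sm gd N14565 = N14565 := ded_35_1 (flp_f L124154) L85721 L124154
theorem L124158 : sm gi N14565 = N10048 := ded_48_2 (flp_f L85917) (flp_i L85724) L124154
theorem L124160 : sm ge N14565 = N14565 := ded_40_1 (flp_f L124154) L85722 L59317 (flp_e L85722) L124154
theorem L124161 : sm gj N10025 = N14566 := rfl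
theorem L124163 : sm ga N14566 = N14566 := ded_16_1 (flp_j L124161) L85720 L124161
theorem L124164 : sm gd N14566 = N14566 := ded_37_1 (flp_j L124161) L85721 L124161
theorem L124165 : sm ge N14566 = N10027 := ded_42_1 (flp_j L85733) (flp_e L85722) L124161
theorem L124167 : sm gi N14566 = N10049 := ded_53_2 (flp_j L85922) (flp_i L85724) L124161
theorem L124169 : sm gg N14566 = N10074 := ded_49_1 (flp_j L86135) (flp_g L59583) (flp_j L59305) L85718 L124161
theorem L124171 : sm gh N10025 = N14567 := rfl
theorem L124173 : sm ga N14567 = N14567 := ded_17_1 (flp_h L124171) L85720 L124171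
theorem L124174 : sm ge N14567 = N10028 := ded_43_1 (flp_h L85743) (flp_e L85722) L124171
theorem L124176 : sm gg N14567 = N10026 := ded_50_1 (flp_h L85726) L85718 L124171
theorem L124178 : sm gd N10026 = N14568 := rfl
theorem L124180 : sm ga N14568 = N14568 := ded_12_1 (flp_d L124178) L85728 L124178
theorem L124181 : sm gj N14568 = N10076 := ded_37_2 (flp_d L86150) (flp_j L85731) L124178
theorem L124183 : sm ge N14568 = N14568 := ded_34_2 (flp_d L124178) L85729 L59325 (flp_e L85729) L124178
theorem L124184 : sm gh N14568 = N14568 := ded_38_2 (flp_d L124178) (flp_h L85726) L59309 L85726 L124178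
theorem L124185 : sm gi N10026 = N14569 := rfl
theorem L124187 : sm ga N14569 = N14569 := ded_18_1 (flp_i L124185) L85728 L124185
theorem L124188 : sm ge N14569 = N10029 := ded_44_1 (flp_i L85750) (flp_e L85729) L124185
theorem L124190 : sm gj N14569 = N10077 := ded_53_1 (flp_i L86155) (flp_j L85731) L124185
theorem L124192 : sm gh N14569 = N10052 := ded_54_1 (flp_i L85945) (flp_h L59452) (flp_i L59307) L85726 L124185
theorem L124194 : sm gh N10027 = N14570 := rfl
theorem L124196 : sm ga N14570 = N14570 := ded_17_1 (flp_h L124194) L85735 L124194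
theorem L124197 : sm gf N14570 = N14570 := ded_47_1 (flp_h L124194) L85738 L124194
theorem L124198 : sm gg N14570 = N10078 := ded_50_1 (flp_h L86162) (flp_g L85741) L124194
theorem L124200 : sm gj N14570 = N10028 := ded_52_1 (flp_h L85743) L85733 L124194
theorem L124202 : sm gd N14570 = N14570 := ded_38_1 (flp_h L124194) L85736 L59342 (flp_d L85736) L124194
theorem L124203 : sm gi N10028 = N14571 := rfl
theorem L124205 : sm ga N14571 = N14571 := ded_18_1 (flp_i L124203) L85745 L124203
theorem L124206 : sm gd N14571 = N14571 := ded_39_1 (flp_i L124203) L85749 L124203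
theorem L124207 : sm gf N14571 = N14571 := ded_48_1 (flp_i L124203) L85746 L124203
theorem L124208 : sm gg N14571 = N10029 := ded_51_1 (flp_i L85750) (flp_g L85747) L124203
theorem L124210 : sm gh N14571 = N10054 := ded_54_1 (flp_i L85962) (flp_h L59467) (flp_i L59315) L85743 L124203
theorem L124212 : sm gf N10030 = N14572 := rfl
theorem L124214 : sm gb N14572 = N10031 := ded_22_1 (flp_f L85768) L85760 L124212
theorem L124216 : sm gc N14572 = N14572 := ded_29_1 (flp_f L124212) L85767 L124212
theorem L124217 : sm gd N14572 = N11021 := ded_35_1 (flp_f L94318) (flp_d L85762) L124212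
theorem L124219 : sm gj N14572 = N10080 := ded_46_2 (flp_f L86180) (flp_j L85765) L124212
theorem L124221 : sm gh N10030 = N14573 := rfl
theorem L124223 : sm gb N14573 = N10032 := ded_25_1 (flp_h L85778) L85760 L124221
theorem L124227 : sm gj N14573 = N10081 := ded_52_1 (flp_h L86187) (flp_j L85765) L124221
theorem L124229 : sm ge N10031 = N14574 := rfl
theorem L124231 : sm ga N14574 = N10038 := ded_13_1 (flp_e L85837) (flp_a L85770) L124229
theorem L124233 : sm gc N14574 = N10033 := ded_28_1 (flp_e L85787) (flp_c L85772) L124229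
theorem L124235 : sm gj N14574 = N10082 := ded_42_2 (flp_e L86194) (flp_j L85776) L124229
theorem L124237 : sm gg N10031 = N14575 := rfl
theorem L124239 : sm ga N14575 = N10039 := ded_15_1 (flp_g L85843) (flp_a L85770) L124237
theorem L124241 : sm gc N14575 = N10034 := ded_30_1 (flp_g L85795) (flp_c L85772) L124237
theorem L124243 : sm gd N14575 = N11024 := ded_36_1 (flp_g L94345) (flp_d L85774) L124237
theorem L124245 : sm gf N14575 = N14575 := ded_45_1 (flp_g L124237) (flp_f L85768) L59351 L85768 L124237
theorem L124246 : sm gh N10031 = N14576 := rfl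
theorem L124248 : sm ga N14576 = N10040 := ded_17_1 (flp_h L85850) (flp_a L85770) L124246
theorem L124250 : sm gc N14576 = N10035 := ded_32_1 (flp_h L85803) (flp_c L85772) L124246
theorem L124252 : sm gf N14576 = N10032 := ded_47_1 (flp_h L85778) L85768 L124246
theorem L124254 : sm gj N14576 = N10084 := ded_52_1 (flp_h L86210) (flp_j L85776) L124246
theorem L124256 : sm gd N10032 = N14577 := rfl
theorem L124258 : sm ga N14577 = N10041 := ded_12_1 (flp_d L85858) (flp_a L85780) L124256
theorem L124263 : sm gc N14577 = N10327 := ded_27_1 (flp_d L88199) L60999 (flp_d L59373) (flp_c L85782) L124256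
theorem L124265 : sm gh N14577 = N11026 := ded_38_2 (flp_d L94362) (flp_h L65213) (flp_d L59354) L85778 L124256
theorem L124267 : sm gi N10032 = N14578 := rfl
theorem L124269 : sm ga N14578 = N10042 := ded_18_1 (flp_i L85867) (flp_a L85780) L124267
theorem L124271 : sm gc N14578 = N10036 := ded_33_1 (flp_i L85814) (flp_c L85782) L124267
theorem L124273 : sm gg N14578 = N14578 := ded_51_1 (flp_i L124267) L85784 L124267
theorem L124274 : sm gj N14578 = N10086 := ded_53_1 (flp_i L86228) (flp_j L85785) L124267
theorem L124276 : sm gg N10033 = N14579 := rfl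
theorem L124278 : sm ga N14579 = N10043 := ded_15_1 (flp_g L85874) (flp_a L85789) L124276
theorem L124280 : sm gb N14579 = N14579 := ded_23_1 (flp_g L124276) L85791 L124276
theorem L124281 : sm gd N14579 = N14579 := ded_36_1 (flp_g L124276) L85794 L124276
theorem L124282 : sm ge N14579 = N10034 := ded_41_1 (flp_g L85795) L85787 L124276
theorem L124284 : sm gh N10033 = N14580 := rfl
theorem L124286 : sm ga N14580 = N10044 := ded_17_1 (flp_h L85881) (flp_a L85789) L124284
theorem L124288 : sm gb N14580 = N14580 := ded_25_1 (flp_h L124284) L85791 L124284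
theorem L124289 : sm ge N14580 = N10035 := ded_43_1 (flp_h L85803) L85787 L124284
theorem L124291 : sm gj N14580 = N10088 := ded_52_1 (flp_h L86244) (flp_j L85792) L124284
theorem L124293 : sm gj N10034 = N14581 := rfl
theorem L124295 : sm ga N14581 = N10045 := ded_16_1 (flp_j L85889) (flp_a L85797) L124293
theorem L124297 : sm gb N14581 = N14581 := ded_24_1 (flp_j L124293) L85799 L124293
theorem L124298 : sm gd N14581 = N10037 := ded_37_1 (flp_j L85824) (flp_d L85800) L124293
theorem L124300 : sm gf N14581 = N14581 := ded_46_1 (flp_j L124293) L85802 L124293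
theorem L124301 : sm gg N14581 = N10089 := ded_49_1 (flp_j L86251) (flp_g L59650) (flp_j L59363) L85795 L124293
theorem L124303 : sm gh N10034 = N14582 := rfl
theorem L124305 : sm ga N14582 = N10046 := ded_17_1 (flp_h L85898) (flp_a L85797) L124303
theorem L124307 : sm gb N14582 = N14582 := ded_25_1 (flp_h L124303) L85799 L124303
theorem L124308 : sm gf N14582 = N14582 := ded_47_1 (flp_h L124303) L85802 L124303
theorem L124309 : sm gg N14582 = N10035 := ded_50_1 (flp_h L85803) L85795 L124303
theorem L124311 : sm gd N14582 = N10332 := ded_38_1 (flp_h L88249) L61020 (flp_h L59383) (flp_d L85800) L124303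
theorem L124313 : sm gi N10035 = N14583 := rfl
theorem L124315 : sm ga N14583 = N10047 := ded_18_1 (flp_i L85907) (flp_a L85805) L124313
theorem L124317 : sm gb N14583 = N14583 := ded_26_1 (flp_i L124313) L85807 L124313
theorem L124318 : sm gd N14583 = N10333 := ded_39_1 (flp_i L88257) (flp_d L85812) L124313
theorem L124320 : sm gf N14583 = N10036 := ded_48_1 (flp_i L85814) (flp_f L85808) L124313
theorem L124322 : sm gj N14583 = N10091 := ded_53_1 (flp_i L86271) (flp_j L85810) L124313
theorem L124324 : sm gd N10038 = N14584 := rfl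
theorem L124326 : sm gj N14584 = N10092 := ded_37_2 (flp_d L86280) (flp_j L85841) L124324
theorem L124328 : sm gc N14584 = N14584 := ded_27_1 (flp_d L124324) L85839 L59407 (flp_c L85839) L124324
theorem L124329 : sm ge N14584 = N11033 := ded_34_2 (flp_d L94435) (flp_e L65278) (flp_d L59390) L85837 L124324
theorem L124331 : sm gg N10038 = N14585 := rfl
theorem L124333 : sm gc N14585 = N10043 := ded_30_1 (flp_g L85874) (flp_c L85839) L124331
theorem L124335 : sm ge N14585 = N10039 := ded_41_1 (flp_g L85843) L85837 L124331
theorem L124337 : sm gh N10038 = N14586 := rfl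
theorem L124339 : sm gc N14586 = N10044 := ded_32_1 (flp_h L85881) (flp_c L85839) L124337
theorem L124341 : sm ge N14586 = N10040 := ded_43_1 (flp_h L85850) L85837 L124337
theorem L124343 : sm gj N14586 = N10094 := ded_52_1 (flp_h L86291) (flp_j L85841) L124337
theorem L124345 : sm gj N10039 = N14587 := rfl
theorem L124347 : sm gc N14587 = N10045 := ded_31_1 (flp_j L85889) (flp_c L85845) L124345
theorem L124349 : sm gd N14587 = N11036 := ded_37_1 (flp_j L94456) (flp_d L85847) L124345
theorem L124351 : sm gf N14587 = N14587 := ded_46_1 (flp_j L124345) L85849 L124345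
theorem L124352 : sm gg N14587 = N10095 := ded_49_1 (flp_j L86297) (flp_g L59693) (flp_j L59392) L85843 L124345
theorem L124354 : sm gh N10039 = N14588 := rfl
theorem L124356 : sm gc N14588 = N10046 := ded_32_1 (flp_h L85898) (flp_c L85845) L124354
theorem L124358 : sm gf N14588 = N14588 := ded_47_1 (flp_h L124354) L85849 L124354
theorem L124359 : sm gg N14588 = N10040 := ded_50_1 (flp_h L85850) L85843 L124354
theorem L124361 : sm gd N10040 = N14589 := rfl
theorem L124363 : sm gf N14589 = N10041 := ded_35_2 (flp_d L85858) (flp_f L85854) L124361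
theorem L124365 : sm gj N14589 = N10097 := ded_37_2 (flp_d L86313) (flp_j L85856) L124361
theorem L124367 : sm gc N14589 = N10339 := ded_27_1 (flp_d L88314) L61076 (flp_d L59423) (flp_c L85852) L124361
theorem L124369 : sm gh N14589 = N11038 := ded_38_2 (flp_d L94470) (flp_h L65290) (flp_d L59390) L85850 L124361
theorem L124371 : sm gi N10040 = N14590 := rfl
theorem L124373 : sm gc N14590 = N10047 := ded_33_1 (flp_i L85907) (flp_c L85852) L124371
theorem L124375 : sm gf N14590 = N10042 := ded_48_1 (flp_i L85867) (flp_f L85854) L124371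
theorem L124377 : sm gj N14590 = N10098 := ded_53_1 (flp_i L86321) (flp_j L85856) L124371
theorem L124379 : sm ge N10041 = N14591 := rfl
theorem L124381 : sm gc N14591 = N10341 := ded_28_1 (flp_e L88333) (flp_c L85863) L124379
theorem L124383 : sm gg N14591 = N14591 := ded_41_2 (flp_e L124379) L85860 L124379
theorem L124384 : sm gj N14591 = N10099 := ded_42_2 (flp_e L86327) (flp_j L85861) L124379
theorem L124386 : sm gh N14591 = N11040 := ded_43_2 (flp_e L94486) (flp_h L85865) L124379
theorem L124388 : sm gi N10041 = N14592 := rfl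
theorem L124390 : sm gc N14592 = N10342 := ded_33_1 (flp_i L88342) (flp_c L85863) L124388
theorem L124392 : sm gd N14592 = N10042 := ded_39_1 (flp_i L85867) L85858 L124388
theorem L124394 : sm gg N14592 = N14592 := ded_51_1 (flp_i L124388) L85860 L124388
theorem L124395 : sm gj N14592 = N10100 := ded_53_1 (flp_i L86335) (flp_j L85861) L124388
theorem L124397 : sm gf N10043 = N14593 := rfl
theorem L124399 : sm gb N14593 = N10048 := ded_22_1 (flp_f L85917) (flp_b L85876) L124397
theorem L124401 : sm gd N14593 = N14593 := ded_35_1 (flp_f L124397) L85878 L124397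
theorem L124402 : sm ge N14593 = N14593 := ded_40_1 (flp_f L124397) L85879 L59414 (flp_e L85879) L124397
theorem L124403 : sm gj N10043 = N14594 := rfl
theorem L124405 : sm gb N14594 = N10049 := ded_24_1 (flp_j L85922) (flp_b L85876) L124403
theorem L124407 : sm gd N14594 = N14594 := ded_37_1 (flp_j L124403) L85878 L124403
theorem L124408 : sm ge N14594 = N10045 := ded_42_1 (flp_j L85889) (flp_e L85879) L124403
theorem L124410 : sm gg N14594 = N10102 := ded_49_1 (flp_j L86350) (flp_g L59721) (flp_j L59405) L85874 L124403
theorem L124412 : sm gh N10043 = N14595 := rfl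
theorem L124414 : sm gb N14595 = N10050 := ded_25_1 (flp_h L85930) (flp_b L85876) L124412
theorem L124416 : sm ge N14595 = N10046 := ded_43_1 (flp_h L85898) (flp_e L85879) L124412
theorem L124418 : sm gg N14595 = N10044 := ded_50_1 (flp_h L85881) L85874 L124412
theorem L124420 : sm gd N10044 = N14596 := rfl
theorem L124422 : sm gb N14596 = N10051 := ded_20_1 (flp_d L85937) (flp_b L85883) L124420
theorem L124424 : sm gj N14596 = N10104 := ded_37_2 (flp_d L86365) (flp_j L85887) L124420
theorem L124426 : sm ge N14596 = N10346 := ded_34_2 (flp_d L88376) L61112 (flp_d L59423) (flp_e L85885) L124420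
theorem L124428 : sm gh N14596 = N14596 := ded_38_2 (flp_d L124420) (flp_h L85881) L59407 L85881 L124420
theorem L124429 : sm gi N10044 = N14597 := rfl
theorem L124431 : sm gb N14597 = N10052 := ded_26_1 (flp_i L85945) (flp_b L85883) L124429
theorem L124433 : sm ge N14597 = N10047 := ded_44_1 (flp_i L85907) (flp_e L85885) L124429
theorem L124435 : sm gj N14597 = N10105 := ded_53_1 (flp_i L86372) (flp_j L85887) L124429
theorem L124437 : sm gh N10045 = N14598 := rfl
theorem L124439 : sm gb N14598 = N10053 := ded_25_1 (flp_h L85952) (flp_b L85891) L124437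
theorem L124441 : sm gf N14598 = N14598 := ded_47_1 (flp_h L124437) L85895 L124437
theorem L124442 : sm gg N14598 = N10106 := ded_50_1 (flp_h L86378) (flp_g L85896) L124437
theorem L124444 : sm gj N14598 = N10046 := ded_52_1 (flp_h L85898) L85889 L124437
theorem L124446 : sm gd N14598 = N10348 := ded_38_1 (flp_h L88394) L61121 (flp_h L59442) (flp_d L85893) L124437
theorem L124448 : sm gi N10046 = N14599 := rfl
theorem L124450 : sm gb N14599 = N10054 := ded_26_1 (flp_i L85962) (flp_b L85900) L124448
theorem L124452 : sm gd N14599 = N10349 := ded_39_1 (flp_i L88403) (flp_d L85905) L124448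
theorem L124454 : sm gf N14599 = N14599 := ded_48_1 (flp_i L124448) L85902 L124448
theorem L124455 : sm gg N14599 = N10047 := ded_51_1 (flp_i L85907) (flp_g L85903) L124448
theorem L124457 : sm gj N10048 = N14600 := rfl
theorem L124459 : sm ga N14600 = N14600 := ded_16_1 (flp_j L124457) L85919 L124457
theorem L124460 : sm gd N14600 = N14600 := ded_37_1 (flp_j L124457) L85920 L124457
theorem L124461 : sm ge N14600 = N14600 := ded_42_1 (flp_j L124457) L85921 L124457
theorem L124462 : sm gf N14600 = N10049 := ded_46_1 (flp_j L85922) L85917 L124457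
theorem L124464 : sm gh N10048 = N14601 := rfl
theorem L124466 : sm ga N14601 = N14601 := ded_17_1 (flp_h L124464) L85919 L124464
theorem L124467 : sm ge N14601 = N14601 := ded_43_1 (flp_h L124464) L85921 L124464
theorem L124468 : sm gf N14601 = N10050 := ded_47_1 (flp_h L85930) L85917 L124464
theorem L124470 : sm gh N10049 = N14602 := rfl
theorem L124472 : sm ga N14602 = N14602 := ded_17_1 (flp_h L124470) L85924 L124470
theorem L124473 : sm ge N14602 = N10053 := ded_43_1 (flp_h L85952) (flp_e L85926) L124470
theorem L124475 : sm gg N14602 = N10110 := ded_50_1 (flp_h L86413) (flp_g L85928) L124470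
theorem L124477 : sm gj N14602 = N10050 := ded_52_1 (flp_h L85930) L85922 L124470
theorem L124479 : sm gd N10050 = N14603 := rfl
theorem L124481 : sm ga N14603 = N14603 := ded_12_1 (flp_d L124479) L85932 L124479
theorem L124482 : sm gg N14603 = N10051 := ded_36_2 (flp_d L85937) (flp_g L85935) L124479
theorem L124484 : sm ge N14603 = N10353 := ded_34_2 (flp_d L88438) L61165 (flp_d L59473) (flp_e L85933) L124479
theorem L124486 : sm gh N14603 = N14603 := ded_38_2 (flp_d L124479) (flp_h L85930) L59449 L85930 L124479
theorem L124487 : sm gi N10050 = N14604 := rfl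
theorem L124489 : sm ga N14604 = N14604 := ded_18_1 (flp_i L124487) L85932 L124487
theorem L124490 : sm ge N14604 = N10054 := ded_44_1 (flp_i L85962) (flp_e L85933) L124487
theorem L124492 : sm gg N14604 = N10052 := ded_51_1 (flp_i L85945) (flp_g L85935) L124487
theorem L124494 : sm gc N10051 = N14605 := rfl
theorem L124496 : sm ga N14605 = N14605 := ded_11_1 (flp_c L124494) L85939 L124494
theorem L124497 : sm ge N14605 = N10355 := ded_28_2 (flp_c L88453) (flp_e L85942) L124494
theorem L124499 : sm gj N14605 = N10113 := ded_31_2 (flp_c L86435) (flp_j L85940) L124494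
theorem L124501 : sm gh N14605 = N14605 := ded_32_2 (flp_c L124494) L85944 L124494
theorem L124502 : sm gi N10051 = N14606 := rfl
theorem L124504 : sm ga N14606 = N14606 := ded_18_1 (flp_i L124502) L85939 L124502
theorem L124505 : sm gd N14606 = N10052 := ded_39_1 (flp_i L85945) L85937 L124502
theorem L124507 : sm ge N14606 = N10356 := ded_44_1 (flp_i L88461) (flp_e L85942) L124502
theorem L124509 : sm gj N14606 = N10114 := ded_53_1 (flp_i L86441) (flp_j L85940) L124502
theorem L124511 : sm gi N10053 = N14607 := rfl
theorem L124513 : sm ga N14607 = N14607 := ded_18_1 (flp_i L124511) L85954 L124511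
theorem L124514 : sm gd N14607 = N10357 := ded_39_1 (flp_i L88469) (flp_d L85960) L124511
theorem L124516 : sm gf N14607 = N14607 := ded_48_1 (flp_i L124511) L85955 L124511
theorem L124517 : sm gg N14607 = N10115 := ded_51_1 (flp_i L86448) (flp_g L85956) L124511
theorem L124519 : sm gj N14607 = N10054 := ded_53_1 (flp_i L85962) (flp_j L85958) L124511
theorem L124521 : sm gf N10055 = N14608 := rfl
theorem L124523 : sm gb N14608 = N10056 := ded_22_1 (flp_f L85979) L85970 L124521
theorem L124525 : sm gc N14608 = N14608 := ded_29_1 (flp_f L124521) L85978 L124521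
theorem L124526 : sm gd N14608 = N11057 := ded_35_1 (flp_f L94641) (flp_d L85972) L124521
theorem L124528 : sm gi N14608 = N10080 := ded_48_2 (flp_f L86180) (flp_i L85976) L124521
theorem L124530 : sm gh N10055 = N14609 := rfl
theorem L124532 : sm gb N14609 = N10057 := ded_25_1 (flp_h L85989) L85970 L124530
theorem L124535 : sm gg N14609 = N10117 := ded_50_1 (flp_h L86467) (flp_g L85974) L124530
theorem L124537 : sm ge N10056 = N14610 := rfl
theorem L124539 : sm ga N14610 = N10063 := ded_13_1 (flp_e L86047) (flp_a L85981) L124537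
theorem L124541 : sm gc N14610 = N10058 := ded_28_1 (flp_e L85997) (flp_c L85983) L124537
theorem L124543 : sm gi N14610 = N10082 := ded_44_2 (flp_e L86194) (flp_i L85987) L124537
theorem L124545 : sm gg N10056 = N14611 := rfl
theorem L124547 : sm ga N14611 = N10064 := ded_15_1 (flp_g L86053) (flp_a L85981) L124545
theorem L124549 : sm gc N14611 = N10059 := ded_30_1 (flp_g L86005) (flp_c L85983) L124545
theorem L124551 : sm gd N14611 = N11060 := ded_36_1 (flp_g L94667) (flp_d L85985) L124545
theorem L124553 : sm gi N14611 = N10083 := ded_51_2 (flp_g L86200) (flp_i L85987) L124545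
theorem L124555 : sm gf N14611 = N10119 := ded_45_1 (flp_g L86482) (flp_f L59816) (flp_g L59488) L85979 L124545
theorem L124557 : sm gh N10056 = N14612 := rfl
theorem L124559 : sm ga N14612 = N10065 := ded_17_1 (flp_h L86063) (flp_a L85981) L124557
theorem L124561 : sm gc N14612 = N10060 := ded_32_1 (flp_h L86016) (flp_c L85983) L124557
theorem L124563 : sm gf N14612 = N10057 := ded_47_1 (flp_h L85989) L85979 L124557
theorem L124565 : sm gd N10057 = N14613 := rfl
theorem L124569 : sm gg N14613 = N10121 := ded_36_2 (flp_d L86501) (flp_g L85995) L124565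
theorem L124572 : sm gh N14613 = N11062 := ded_38_2 (flp_d L94685) (flp_h L65437) (flp_d L59492) L85989 L124565
theorem L124574 : sm gi N10057 = N14614 := rfl
theorem L124576 : sm ga N14614 = N10067 := ded_18_1 (flp_i L86076) (flp_a L85991) L124574
theorem L124578 : sm gc N14614 = N10061 := ded_33_1 (flp_i L86024) (flp_c L85993) L124574
theorem L124580 : sm gg N14614 = N10122 := ded_51_1 (flp_i L86509) (flp_g L85995) L124574
theorem L124582 : sm gh N14614 = N10086 := ded_54_1 (flp_i L86228) (flp_h L59636) (flp_i L59490) L85989 L124574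
theorem L124584 : sm gg N10058 = N14615 := rfl
theorem L124586 : sm ga N14615 = N10068 := ded_15_1 (flp_g L86084) (flp_a L85999) L124584
theorem L124588 : sm gb N14615 = N14615 := ded_23_1 (flp_g L124584) L86001 L124584
theorem L124589 : sm gd N14615 = N14615 := ded_36_1 (flp_g L124584) L86004 L124584
theorem L124590 : sm ge N14615 = N10059 := ded_41_1 (flp_g L86005) L85997 L124584
theorem L124592 : sm gi N14615 = N10087 := ded_51_2 (flp_g L86236) (flp_i L86002) L124584
theorem L124594 : sm gh N10058 = N14616 := rfl
theorem L124596 : sm ga N14616 = N10069 := ded_17_1 (flp_h L86093) (flp_a L85999) L124594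
theorem L124598 : sm gb N14616 = N14616 := ded_25_1 (flp_h L124594) L86001 L124594
theorem L124599 : sm ge N14616 = N10060 := ded_43_1 (flp_h L86016) L85997 L124594
theorem L124601 : sm gj N10059 = N14617 := rfl
theorem L124603 : sm ga N14617 = N10070 := ded_16_1 (flp_j L86099) (flp_a L86007) L124601
theorem L124605 : sm gb N14617 = N14617 := ded_24_1 (flp_j L124601) L86009 L124601
theorem L124606 : sm gd N14617 = N10062 := ded_37_1 (flp_j L86034) (flp_d L86010) L124601
theorem L124608 : sm gf N14617 = N10125 := ded_46_1 (flp_j L86537) (flp_f L86014) L124601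
theorem L124610 : sm gi N14617 = N10089 := ded_53_2 (flp_j L86251) (flp_i L86012) L124601
theorem L124612 : sm gh N10059 = N14618 := rfl
theorem L124614 : sm ga N14618 = N10071 := ded_17_1 (flp_h L86109) (flp_a L86007) L124612
theorem L124616 : sm gb N14618 = N14618 := ded_25_1 (flp_h L124612) L86009 L124612
theorem L124617 : sm gf N14618 = N10126 := ded_47_1 (flp_h L86547) (flp_f L86014) L124612
theorem L124619 : sm gg N14618 = N10060 := ded_50_1 (flp_h L86016) L86005 L124612
theorem L124621 : sm gd N14618 = N14618 := ded_38_1 (flp_h L124612) L86010 L59519 (flp_d L86010) L124612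
theorem L124622 : sm gi N10060 = N14619 := rfl
theorem L124624 : sm ga N14619 = N10072 := ded_18_1 (flp_i L86118) (flp_a L86018) L124622
theorem L124626 : sm gb N14619 = N14619 := ded_26_1 (flp_i L124622) L86020 L124622
theorem L124627 : sm gd N14619 = N14619 := ded_39_1 (flp_i L124622) L86023 L124622
theorem L124628 : sm gf N14619 = N10061 := ded_48_1 (flp_i L86024) (flp_f L86021) L124622
theorem L124630 : sm gh N14619 = N10091 := ded_54_1 (flp_i L86271) (flp_h L59659) (flp_i L59501) L86016 L124622
theorem L124632 : sm gd N10063 = N14620 := rfl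
theorem L124634 : sm gi N14620 = N10092 := ded_39_2 (flp_d L86280) (flp_i L86051) L124632
theorem L124636 : sm gc N14620 = N14620 := ded_27_1 (flp_d L124632) L86049 L59544 (flp_c L86049) L124632
theorem L124637 : sm ge N14620 = N11069 := ded_34_2 (flp_d L94757) (flp_e L65501) (flp_d L59528) L86047 L124632
theorem L124639 : sm gg N10063 = N14621 := rfl
theorem L124641 : sm gc N14621 = N10068 := ded_30_1 (flp_g L86084) (flp_c L86049) L124639
theorem L124643 : sm ge N14621 = N10064 := ded_41_1 (flp_g L86053) L86047 L124639
theorem L124645 : sm gi N14621 = N10093 := ded_51_2 (flp_g L86285) (flp_i L86051) L124639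
theorem L124647 : sm gh N10063 = N14622 := rfl
theorem L124649 : sm gc N14622 = N10069 := ded_32_1 (flp_h L86093) (flp_c L86049) L124647
theorem L124651 : sm ge N14622 = N10065 := ded_43_1 (flp_h L86063) L86047 L124647
theorem L124653 : sm gj N10064 = N14623 := rfl
theorem L124655 : sm gc N14623 = N10070 := ded_31_1 (flp_j L86099) (flp_c L86055) L124653
theorem L124657 : sm gd N14623 = N11072 := ded_37_1 (flp_j L94778) (flp_d L86057) L124653
theorem L124659 : sm gf N14623 = N10131 := ded_46_1 (flp_j L86590) (flp_f L86061) L124653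
theorem L124661 : sm gi N14623 = N10095 := ded_53_2 (flp_j L86297) (flp_i L86059) L124653
theorem L124663 : sm gh N10064 = N14624 := rfl
theorem L124665 : sm gc N14624 = N10071 := ded_32_1 (flp_h L86109) (flp_c L86055) L124663
theorem L124667 : sm gf N14624 = N10132 := ded_47_1 (flp_h L86599) (flp_f L86061) L124663
theorem L124669 : sm gg N14624 = N10065 := ded_50_1 (flp_h L86063) L86053 L124663
theorem L124671 : sm gd N10065 = N14625 := rfl
theorem L124673 : sm gf N14625 = N10066 := ded_35_2 (flp_d L86069) (flp_f L86067) L124671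
theorem L124675 : sm gc N14625 = N14625 := ded_27_1 (flp_d L124671) L86065 L59561 (flp_c L86065) L124671
theorem L124676 : sm gh N14625 = N11074 := ded_38_2 (flp_d L94794) (flp_h L65516) (flp_d L59528) L86063 L124671
theorem L124678 : sm gi N10065 = N14626 := rfl
theorem L124680 : sm gc N14626 = N10072 := ded_33_1 (flp_i L86118) (flp_c L86065) L124678
theorem L124682 : sm gf N14626 = N10067 := ded_48_1 (flp_i L86076) (flp_f L86067) L124678
theorem L124684 : sm gh N14626 = N10098 := ded_54_1 (flp_i L86321) (flp_h L59701) (flp_i L59530) L86063 L124678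
theorem L124686 : sm ge N10066 = N14627 := rfl
theorem L124689 : sm gg N14627 = N10135 := ded_41_2 (flp_e L86622) (flp_g L86071) L124686
theorem L124691 : sm gh N14627 = N11076 := ded_43_2 (flp_e L94807) (flp_h L86074) L124686
theorem L124693 : sm gi N10066 = N14628 := rfl
theorem L124695 : sm gc N14628 = N14628 := ded_33_1 (flp_i L124693) L86073 L124693
theorem L124696 : sm gd N14628 = N10067 := ded_39_1 (flp_i L86076) L86069 L124693
theorem L124698 : sm gg N14628 = N10136 := ded_51_1 (flp_i L86628) (flp_g L86071) L124693
theorem L124700 : sm gf N10068 = N14629 := rfl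
theorem L124702 : sm gb N14629 = N10073 := ded_22_1 (flp_f L86127) (flp_b L86086) L124700
theorem L124704 : sm gd N14629 = N14629 := ded_35_1 (flp_f L124700) L86088 L124700
theorem L124705 : sm gi N14629 = N10101 := ded_48_2 (flp_f L86343) (flp_i L86091) L124700
theorem L124707 : sm ge N14629 = N10137 := ded_40_1 (flp_f L86634) L59925 (flp_f L59553) (flp_e L86089) L124700
theorem L124709 : sm gj N10068 = N14630 := rfl
theorem L124711 : sm gb N14630 = N10074 := ded_24_1 (flp_j L86135) (flp_b L86086) L124709
theorem L124713 : sm gd N14630 = N14630 := ded_37_1 (flp_j L124709) L86088 L124709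
theorem L124714 : sm ge N14630 = N10070 := ded_42_1 (flp_j L86099) (flp_e L86089) L124709
theorem L124716 : sm gi N14630 = N10102 := ded_53_2 (flp_j L86350) (flp_i L86091) L124709
theorem L124718 : sm gh N10068 = N14631 := rfl
theorem L124720 : sm gb N14631 = N10075 := ded_25_1 (flp_h L86143) (flp_b L86086) L124718
theorem L124722 : sm ge N14631 = N10071 := ded_43_1 (flp_h L86109) (flp_e L86089) L124718
theorem L124724 : sm gg N14631 = N10069 := ded_50_1 (flp_h L86093) L86084 L124718
theorem L124726 : sm gd N10069 = N14632 := rfl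
theorem L124728 : sm gb N14632 = N10076 := ded_20_1 (flp_d L86150) (flp_b L86095) L124726
theorem L124730 : sm ge N14632 = N14632 := ded_34_2 (flp_d L124726) L86097 L59561 (flp_e L86097) L124726
theorem L124731 : sm gh N14632 = N14632 := ded_38_2 (flp_d L124726) (flp_h L86093) L59544 L86093 L124726
theorem L124732 : sm gi N10069 = N14633 := rfl
theorem L124734 : sm gb N14633 = N10077 := ded_26_1 (flp_i L86155) (flp_b L86095) L124732
theorem L124736 : sm ge N14633 = N10072 := ded_44_1 (flp_i L86118) (flp_e L86097) L124732
theorem L124738 : sm gh N14633 = N10105 := ded_54_1 (flp_i L86372) (flp_h L59728) (flp_i L59542) L86093 L124732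
theorem L124740 : sm gh N10070 = N14634 := rfl
theorem L124742 : sm gb N14634 = N10078 := ded_25_1 (flp_h L86162) (flp_b L86101) L124740
theorem L124744 : sm gf N14634 = N10142 := ded_47_1 (flp_h L86678) (flp_f L86105) L124740
theorem L124746 : sm gj N14634 = N10071 := ded_52_1 (flp_h L86109) L86099 L124740
theorem L124748 : sm gd N14634 = N14634 := ded_38_1 (flp_h L124740) L86103 L59580 (flp_d L86103) L124740
theorem L124749 : sm gi N10071 = N14635 := rfl
theorem L124751 : sm gb N14635 = N10079 := ded_26_1 (flp_i L86170) (flp_b L86111) L124749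
theorem L124753 : sm gd N14635 = N14635 := ded_39_1 (flp_i L124749) L86117 L124749
theorem L124754 : sm gf N14635 = N10143 := ded_48_1 (flp_i L86686) (flp_f L86113) L124749
theorem L124756 : sm gg N14635 = N10072 := ded_51_1 (flp_i L86118) (flp_g L86115) L124749
theorem L124758 : sm gh N14635 = N10107 := ded_54_1 (flp_i L86388) (flp_h L59742) (flp_i L59551) L86109 L124749
theorem L124760 : sm gj N10073 = N14636 := rfl
theorem L124762 : sm ga N14636 = N14636 := ded_16_1 (flp_j L124760) L86129 L124760
theorem L124763 : sm gd N14636 = N14636 := ded_37_1 (flp_j L124760) L86130 L124760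
theorem L124764 : sm ge N14636 = N10144 := ded_42_1 (flp_j L86695) (flp_e L86133) L124760
theorem L124766 : sm gf N14636 = N10074 := ded_46_1 (flp_j L86135) L86127 L124760
theorem L124768 : sm gi N14636 = N10108 := ded_53_2 (flp_j L86398) (flp_i L86131) L124760
theorem L124770 : sm gh N10073 = N14637 := rfl
theorem L124772 : sm ga N14637 = N14637 := ded_17_1 (flp_h L124770) L86129 L124770
theorem L124773 : sm ge N14637 = N10145 := ded_43_1 (flp_h L86704) (flp_e L86133) L124770
theorem L124775 : sm gf N14637 = N10075 := ded_47_1 (flp_h L86143) L86127 L124770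
theorem L124777 : sm gh N10074 = N14638 := rfl
theorem L124779 : sm ga N14638 = N14638 := ded_17_1 (flp_h L124777) L86137 L124777
theorem L124780 : sm ge N14638 = N10078 := ded_43_1 (flp_h L86162) (flp_e L86139) L124777
theorem L124782 : sm gj N14638 = N10075 := ded_52_1 (flp_h L86143) L86135 L124777
theorem L124784 : sm gd N10075 = N14639 := rfl
theorem L124786 : sm ga N14639 = N14639 := ded_12_1 (flp_d L124784) L86145 L124784
theorem L124787 : sm gg N14639 = N10076 := ded_36_2 (flp_d L86150) (flp_g L86148) L124784
theorem L124789 : sm ge N14639 = N14639 := ded_34_2 (flp_d L124784) L86146 L59612 (flp_e L86146) L124784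
theorem L124790 : sm gh N14639 = N14639 := ded_38_2 (flp_d L124784) (flp_h L86143) L59586 L86143 L124784
theorem L124791 : sm gi N10075 = N14640 := rfl
theorem L124793 : sm ga N14640 = N14640 := ded_18_1 (flp_i L124791) L86145 L124791
theorem L124794 : sm ge N14640 = N10079 := ded_44_1 (flp_i L86170) (flp_e L86146) L124791
theorem L124796 : sm gg N14640 = N10077 := ded_51_1 (flp_i L86155) (flp_g L86148) L124791
theorem L124798 : sm gh N14640 = N10112 := ded_54_1 (flp_i L86428) (flp_h L59772) (flp_i L59589) L86143 L124791
theorem L124800 : sm gc N10076 = N14641 := rfl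
theorem L124802 : sm ga N14641 = N14641 := ded_11_1 (flp_c L124800) L86152 L124800
theorem L124803 : sm ge N14641 = N14641 := ded_28_2 (flp_c L124800) L86153 L124800
theorem L124804 : sm gh N14641 = N14641 := ded_32_2 (flp_c L124800) L86154 L124800
theorem L124805 : sm gi N10076 = N14642 := rfl
theorem L124807 : sm ga N14642 = N14642 := ded_18_1 (flp_i L124805) L86152 L124805
theorem L124808 : sm gd N14642 = N10077 := ded_39_1 (flp_i L86155) L86150 L124805
theorem L124810 : sm ge N14642 = N14642 := ded_44_1 (flp_i L124805) L86153 L124805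
theorem L124811 : sm gi N10078 = N14643 := rfl
theorem L124813 : sm ga N14643 = N14643 := ded_18_1 (flp_i L124811) L86164 L124811
theorem L124814 : sm gd N14643 = N14643 := ded_39_1 (flp_i L124811) L86169 L124811
theorem L124815 : sm gf N14643 = N10151 := ded_48_1 (flp_i L86748) (flp_f L86165) L124811
theorem L124817 : sm gj N14643 = N10079 := ded_53_1 (flp_i L86170) (flp_j L86167) L124811
theorem L124819 : sm gh N14643 = N10115 := ded_54_1 (flp_i L86448) (flp_h L59790) (flp_i L59603) L86162 L124811
theorem L124821 : sm ge N10080 = N14644 := rfl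
theorem L124823 : sm gb N14644 = N10082 := ded_21_1 (flp_e L86194) (flp_b L86182) L124821
theorem L124825 : sm gc N14644 = N14644 := ded_28_1 (flp_e L124821) L86184 L124821
theorem L124826 : sm gg N10080 = N14645 := rfl
theorem L124828 : sm gb N14645 = N10083 := ded_23_1 (flp_g L86200) (flp_b L86182) L124826
theorem L124830 : sm gc N14645 = N14645 := ded_30_1 (flp_g L124826) L86184 L124826
theorem L124831 : sm gd N14645 = N11094 := ded_36_1 (flp_g L94962) (flp_d L86185) L124826
theorem L124833 : sm gf N14645 = N10153 := ded_45_1 (flp_g L86763) (flp_f L60016) (flp_g L59625) L86180 L124826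
theorem L124835 : sm gh N10080 = N14646 := rfl
theorem L124837 : sm gb N14646 = N10084 := ded_25_1 (flp_h L86210) (flp_b L86182) L124835
theorem L124840 : sm gf N14646 = N10081 := ded_47_1 (flp_h L86187) L86180 L124835
theorem L124842 : sm gd N10081 = N14647 := rfl
theorem L124848 : sm gh N14647 = N11096 := ded_38_2 (flp_d L94978) (flp_h L65649) (flp_d L59623) L86187 L124842
theorem L124850 : sm gi N10081 = N14648 := rfl
theorem L124852 : sm gb N14648 = N10086 := ded_26_1 (flp_i L86228) (flp_b L86189) L124850
theorem L124857 : sm gd N10082 = N14649 := rfl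
theorem L124859 : sm ga N14649 = N10092 := ded_12_1 (flp_d L86280) (flp_a L86196) L124857
theorem L124861 : sm gc N14649 = N14649 := ded_27_1 (flp_d L124857) L86198 L59649 (flp_c L86198) L124857
theorem L124862 : sm ge N14649 = N11098 := ded_34_2 (flp_d L94993) (flp_e L65658) (flp_d L59634) L86194 L124857
theorem L124864 : sm gg N10082 = N14650 := rfl
theorem L124866 : sm ga N14650 = N10093 := ded_15_1 (flp_g L86285) (flp_a L86196) L124864
theorem L124868 : sm gc N14650 = N10087 := ded_30_1 (flp_g L86236) (flp_c L86198) L124864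
theorem L124870 : sm ge N14650 = N10083 := ded_41_1 (flp_g L86200) L86194 L124864
theorem L124872 : sm gh N10082 = N14651 := rfl
theorem L124874 : sm ga N14651 = N10094 := ded_17_1 (flp_h L86291) (flp_a L86196) L124872
theorem L124876 : sm gc N14651 = N10088 := ded_32_1 (flp_h L86244) (flp_c L86198) L124872
theorem L124878 : sm ge N14651 = N10084 := ded_43_1 (flp_h L86210) L86194 L124872
theorem L124880 : sm gj N10083 = N14652 := rfl
theorem L124882 : sm ga N14652 = N10095 := ded_16_1 (flp_j L86297) (flp_a L86202) L124880
theorem L124884 : sm gc N14652 = N10089 := ded_31_1 (flp_j L86251) (flp_c L86204) L124880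
theorem L124886 : sm gd N14652 = N11101 := ded_37_1 (flp_j L95016) (flp_d L86206) L124880
theorem L124888 : sm gf N14652 = N10160 := ded_46_1 (flp_j L86817) (flp_f L86208) L124880
theorem L124890 : sm gh N10083 = N14653 := rfl
theorem L124892 : sm ga N14653 = N10096 := ded_17_1 (flp_h L86305) (flp_a L86202) L124890
theorem L124894 : sm gc N14653 = N10090 := ded_32_1 (flp_h L86260) (flp_c L86204) L124890
theorem L124896 : sm gf N14653 = N10161 := ded_47_1 (flp_h L86826) (flp_f L86208) L124890
theorem L124898 : sm gg N14653 = N10084 := ded_50_1 (flp_h L86210) L86200 L124890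
theorem L124900 : sm gd N10084 = N14654 := rfl
theorem L124902 : sm ga N14654 = N10097 := ded_12_1 (flp_d L86313) (flp_a L86212) L124900
theorem L124906 : sm gc N14654 = N10368 := ded_27_1 (flp_d L88573) L61244 (flp_d L59666) (flp_c L86214) L124900
theorem L124908 : sm gh N14654 = N11103 := ded_38_2 (flp_d L95034) (flp_h L65673) (flp_d L59634) L86210 L124900
theorem L124910 : sm gi N10084 = N14655 := rfl
theorem L124912 : sm ga N14655 = N10098 := ded_18_1 (flp_i L86321) (flp_a L86212) L124910
theorem L124914 : sm gc N14655 = N10091 := ded_33_1 (flp_i L86271) (flp_c L86214) L124910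
theorem L124916 : sm gf N14655 = N10086 := ded_48_1 (flp_i L86228) (flp_f L86216) L124910
theorem L124918 : sm ge N10085 = N14656 := rfl
theorem L124920 : sm ga N14656 = N10099 := ded_13_1 (flp_e L86327) (flp_a L86220) L124918
theorem L124922 : sm gc N14656 = N10370 := ded_28_1 (flp_e L88590) (flp_c L86224) L124918
theorem L124924 : sm gg N14656 = N10164 := ded_41_2 (flp_e L86854) (flp_g L86222) L124918
theorem L124926 : sm gh N14656 = N11105 := ded_43_2 (flp_e L95050) (flp_h L86226) L124918
theorem L124928 : sm gi N10085 = N14657 := rfl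
theorem L124930 : sm ga N14657 = N10100 := ded_18_1 (flp_i L86335) (flp_a L86220) L124928
theorem L124932 : sm gc N14657 = N10371 := ded_33_1 (flp_i L88599) (flp_c L86224) L124928
theorem L124934 : sm gd N14657 = N10086 := ded_39_1 (flp_i L86228) L86218 L124928
theorem L124938 : sm gf N10087 = N14658 := rfl
theorem L124940 : sm ga N14658 = N10101 := ded_14_1 (flp_f L86343) (flp_a L86238) L124938
theorem L124942 : sm gb N14658 = N14658 := ded_22_1 (flp_f L124938) L86240 L124938
theorem L124943 : sm gd N14658 = N14658 := ded_35_1 (flp_f L124938) L86241 L124938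
theorem L124944 : sm ge N14658 = N10166 := ded_40_1 (flp_f L86872) L60077 (flp_f L59657) (flp_e L86242) L124938
theorem L124946 : sm gj N10087 = N14659 := rfl
theorem L124948 : sm ga N14659 = N10102 := ded_16_1 (flp_j L86350) (flp_a L86238) L124946
theorem L124950 : sm gb N14659 = N14659 := ded_24_1 (flp_j L124946) L86240 L124946
theorem L124951 : sm gd N14659 = N14659 := ded_37_1 (flp_j L124946) L86241 L124946
theorem L124952 : sm ge N14659 = N10089 := ded_42_1 (flp_j L86251) (flp_e L86242) L124946
theorem L124954 : sm gh N10087 = N14660 := rfl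
theorem L124956 : sm ga N14660 = N10103 := ded_17_1 (flp_h L86357) (flp_a L86238) L124954
theorem L124958 : sm gb N14660 = N14660 := ded_25_1 (flp_h L124954) L86240 L124954
theorem L124959 : sm ge N14660 = N10090 := ded_43_1 (flp_h L86260) (flp_e L86242) L124954
theorem L124961 : sm gg N14660 = N10088 := ded_50_1 (flp_h L86244) L86236 L124954
theorem L124963 : sm gd N10088 = N14661 := rfl
theorem L124965 : sm ga N14661 = N10104 := ded_12_1 (flp_d L86365) (flp_a L86246) L124963
theorem L124967 : sm gb N14661 = N14661 := ded_20_1 (flp_d L124963) L86248 L124963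
theorem L124968 : sm ge N14661 = N10375 := ded_34_2 (flp_d L88635) L61280 (flp_d L59666) (flp_e L86249) L124963
theorem L124970 : sm gh N14661 = N14661 := ded_38_2 (flp_d L124963) (flp_h L86244) L59649 L86244 L124963
theorem L124971 : sm gi N10088 = N14662 := rfl
theorem L124973 : sm ga N14662 = N10105 := ded_18_1 (flp_i L86372) (flp_a L86246) L124971
theorem L124975 : sm gb N14662 = N14662 := ded_26_1 (flp_i L124971) L86248 L124971
theorem L124976 : sm ge N14662 = N10091 := ded_44_1 (flp_i L86271) (flp_e L86249) L124971
theorem L124978 : sm gh N10089 = N14663 := rfl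
theorem L124980 : sm ga N14663 = N10106 := ded_17_1 (flp_h L86378) (flp_a L86253) L124978
theorem L124982 : sm gb N14663 = N14663 := ded_25_1 (flp_h L124978) L86255 L124978
theorem L124983 : sm gf N14663 = N10171 := ded_47_1 (flp_h L86916) (flp_f L86258) L124978
theorem L124985 : sm gj N14663 = N10090 := ded_52_1 (flp_h L86260) L86251 L124978
theorem L124987 : sm gd N14663 = N10377 := ded_38_1 (flp_h L88651) L61288 (flp_h L59687) (flp_d L86256) L124978
theorem L124989 : sm gi N10090 = N14664 := rfl
theorem L124991 : sm ga N14664 = N10107 := ded_18_1 (flp_i L86388) (flp_a L86262) L124989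
theorem L124993 : sm gb N14664 = N14664 := ded_26_1 (flp_i L124989) L86264 L124989
theorem L124994 : sm gd N14664 = N10378 := ded_39_1 (flp_i L88660) (flp_d L86269) L124989
theorem L124996 : sm gf N14664 = N10172 := ded_48_1 (flp_i L86926) (flp_f L86265) L124989
theorem L124998 : sm gg N14664 = N10091 := ded_51_1 (flp_i L86271) (flp_g L86267) L124989
theorem L125000 : sm gg N10092 = N14665 := rfl
theorem L125002 : sm gc N14665 = N14665 := ded_30_1 (flp_g L125000) L86282 L125000
theorem L125003 : sm gd N14665 = N10093 := ded_36_1 (flp_g L86285) L86280 L125000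
theorem L125005 : sm ge N14665 = N11114 := ded_41_1 (flp_g L95141) (flp_e L86283) L125000
theorem L125007 : sm gh N10092 = N14666 := rfl
theorem L125009 : sm gc N14666 = N14666 := ded_32_1 (flp_h L125007) L86282 L125007
theorem L125010 : sm ge N14666 = N11115 := ded_43_1 (flp_h L95146) (flp_e L86283) L125007
theorem L125012 : sm gf N10093 = N14667 := rfl
theorem L125014 : sm gc N14667 = N10101 := ded_29_1 (flp_f L86343) (flp_c L86287) L125012
theorem L125016 : sm ge N14667 = N10175 := ded_40_1 (flp_f L86950) L60125 (flp_f L59699) (flp_e L86289) L125012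
theorem L125018 : sm gj N10093 = N14668 := rfl
theorem L125020 : sm gc N14668 = N10102 := ded_31_1 (flp_j L86350) (flp_c L86287) L125018
theorem L125022 : sm ge N14668 = N10095 := ded_42_1 (flp_j L86297) (flp_e L86289) L125018
theorem L125024 : sm gh N10093 = N14669 := rfl
theorem L125026 : sm gc N14669 = N10103 := ded_32_1 (flp_h L86357) (flp_c L86287) L125024
theorem L125028 : sm ge N14669 = N10096 := ded_43_1 (flp_h L86305) (flp_e L86289) L125024
theorem L125030 : sm gg N14669 = N10094 := ded_50_1 (flp_h L86291) L86285 L125024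
theorem L125032 : sm gd N10094 = N14670 := rfl
theorem L125034 : sm gi N10094 = N14671 := rfl
theorem L125036 : sm gc N14671 = N10105 := ded_33_1 (flp_i L86372) (flp_c L86293) L125034
theorem L125038 : sm ge N14671 = N10098 := ded_44_1 (flp_i L86321) (flp_e L86295) L125034
theorem L125040 : sm gh N10095 = N14672 := rfl
theorem L125042 : sm gc N14672 = N10106 := ded_32_1 (flp_h L86378) (flp_c L86299) L125040
theorem L125044 : sm gf N14672 = N10180 := ded_47_1 (flp_h L86979) (flp_f L86303) L125040
theorem L125046 : sm gj N14672 = N10096 := ded_52_1 (flp_h L86305) L86297 L125040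
theorem L125048 : sm gd N10096 = N14673 := rfl
theorem L125050 : sm gf N14673 = N10181 := ded_35_2 (flp_d L86986) (flp_f L86309) L125048
theorem L125052 : sm gg N14673 = N10097 := ded_36_2 (flp_d L86313) (flp_g L86311) L125048
theorem L125054 : sm gc N14673 = N10387 := ded_27_1 (flp_d L88734) L61347 (flp_d L59750) (flp_c L86307) L125048
theorem L125056 : sm gh N14673 = N11122 := ded_38_2 (flp_d L95189) (flp_h L65771) (flp_d L59697) L86305 L125048
theorem L125058 : sm gi N10096 = N14674 := rfl
theorem L125060 : sm gc N14674 = N10107 := ded_33_1 (flp_i L86388) (flp_c L86307) L125058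
theorem L125062 : sm gf N14674 = N10182 := ded_48_1 (flp_i L86994) (flp_f L86309) L125058
theorem L125064 : sm gg N14674 = N10098 := ded_51_1 (flp_i L86321) (flp_g L86311) L125058
theorem L125066 : sm ge N10097 = N14675 := rfl
theorem L125068 : sm gc N14675 = N10389 := ded_28_1 (flp_e L88753) (flp_c L86317) L125066
theorem L125070 : sm gh N14675 = N11124 := ded_43_2 (flp_e L95205) (flp_h L86319) L125066
theorem L125072 : sm gi N10097 = N14676 := rfl
theorem L125074 : sm gc N14676 = N10390 := ded_33_1 (flp_i L88758) (flp_c L86317) L125072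
theorem L125076 : sm gd N14676 = N10098 := ded_39_1 (flp_i L86321) L86313 L125072
theorem L125078 : sm gf N14676 = N10100 := ded_48_1 (flp_i L86335) (flp_f L86315) L125072
theorem L125080 : sm gf N10099 = N14677 := rfl
theorem L125082 : sm gc N14677 = N10391 := ded_29_1 (flp_f L88765) (flp_c L86329) L125080
theorem L125084 : sm gh N14677 = N11126 := ded_47_2 (flp_f L95217) (flp_h L86333) L125080
theorem L125086 : sm gi N10099 = N14678 := rfl
theorem L125088 : sm gc N14678 = N10392 := ded_33_1 (flp_i L88771) (flp_c L86329) L125086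
theorem L125090 : sm ge N14678 = N10100 := ded_44_1 (flp_i L86335) L86327 L125086
theorem L125092 : sm gg N14678 = N10186 := ded_51_1 (flp_i L87023) (flp_g L86331) L125086
theorem L125094 : sm gh N10100 = N14679 := rfl
theorem L125100 : sm gi N14679 = N11128 := ded_54_2 (flp_h L95231) (flp_i L65798) (flp_h L59713) L86335 L125094
theorem L125102 : sm gj N10101 = N14680 := rfl
theorem L125104 : sm gb N14680 = N10108 := ded_24_1 (flp_j L86398) (flp_b L86345) L125102
theorem L125106 : sm gd N14680 = N14680 := ded_37_1 (flp_j L125102) L86347 L125102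
theorem L125107 : sm ge N14680 = N10188 := ded_42_1 (flp_j L87037) (flp_e L86348) L125102
theorem L125109 : sm gf N14680 = N10102 := ded_46_1 (flp_j L86350) L86343 L125102
theorem L125111 : sm gh N10101 = N14681 := rfl
theorem L125113 : sm gb N14681 = N10109 := ded_25_1 (flp_h L86406) (flp_b L86345) L125111
theorem L125115 : sm ge N14681 = N10189 := ded_43_1 (flp_h L87045) (flp_e L86348) L125111
theorem L125117 : sm gf N14681 = N10103 := ded_47_1 (flp_h L86357) L86343 L125111
theorem L125119 : sm gh N10102 = N14682 := rfl
theorem L125121 : sm gb N14682 = N10110 := ded_25_1 (flp_h L86413) (flp_b L86352) L125119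
theorem L125123 : sm ge N14682 = N10106 := ded_43_1 (flp_h L86378) (flp_e L86355) L125119
theorem L125125 : sm gj N14682 = N10103 := ded_52_1 (flp_h L86357) L86350 L125119
theorem L125127 : sm gd N10103 = N14683 := rfl
theorem L125129 : sm gb N14683 = N10111 := ded_20_1 (flp_d L86420) (flp_b L86359) L125127
theorem L125131 : sm gg N14683 = N10104 := ded_36_2 (flp_d L86365) (flp_g L86363) L125127
theorem L125133 : sm ge N14683 = N10397 := ded_34_2 (flp_d L88814) L61404 (flp_d L59750) (flp_e L86361) L125127
theorem L125135 : sm gh N14683 = N14683 := ded_38_2 (flp_d L125127) (flp_h L86357) L59725 L86357 L125127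
theorem L125136 : sm gi N10103 = N14684 := rfl
theorem L125138 : sm gb N14684 = N10112 := ded_26_1 (flp_i L86428) (flp_b L86359) L125136
theorem L125140 : sm ge N14684 = N10107 := ded_44_1 (flp_i L86388) (flp_e L86361) L125136
theorem L125142 : sm gg N14684 = N10105 := ded_51_1 (flp_i L86372) (flp_g L86363) L125136
theorem L125144 : sm gc N10104 = N14685 := rfl
theorem L125146 : sm ge N14685 = N10399 := ded_28_2 (flp_c L88830) (flp_e L86369) L125144

end Cfsg.Agent.Helper28.FicA
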