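import Cfsg.Agent.Helper28.FicB16

/-! # The Fi₂₃ presentation, cosets of the subgroup generated by a, …, i: the coset enumeration, part 17 (helper28; generated) -/

set_option autoImplicit false

noncomputable section

namespace Cfsg.Agent.Helper28.FicA

open Cfsg.Agent.Helper28.CosetTable

theorem L125148 : sm gh N14685 = N14685 := ded_32_2 (flp_c L125144) L86371 L125144
theorem L125149 : sm gi N10104 = N14686 := rfl
theorem L125151 : sm gb N14686 = N10114 := ded_26_1 (flp_i L86441) (flp_b L86367) L125149
theorem L125153 : sm gd N14686 = N10105 := ded_39_1 (flp_i L86372) L86365 L125149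
theorem L125155 : sm ge N14686 = N10400 := ded_44_1 (flp_i L88834) (flp_e L86369) L125149
theorem L125157 : sm gi N10106 = N14687 := rfl
theorem L125159 : sm gb N14687 = N10115 := ded_26_1 (flp_i L86448) (flp_b L86380) L125157
theorem L125161 : sm gd N14687 = N10401 := ded_39_1 (flp_i L88841) (flp_d L86386) L125157
theorem L125163 : sm gf N14687 = N10195 := ded_48_1 (flp_i L87094) (flp_f L86382) L125157
theorem L125165 : sm gj N14687 = N10107 := ded_53_1 (flp_i L86388) (flp_j L86384) L125157
theorem L125167 : sm gg N10108 = N14688 := rfl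
theorem L125169 : sm ga N14688 = N14688 := ded_15_1 (flp_g L125167) L86400 L125167
theorem L125170 : sm gd N14688 = N14688 := ded_36_1 (flp_g L125167) L86401 L125167
theorem L125171 : sm ge N14688 = N10196 := ded_41_1 (flp_g L87103) (flp_e L86402) L125167
theorem L125173 : sm gh N10108 = N14689 := rfl
theorem L125175 : sm ga N14689 = N14689 := ded_17_1 (flp_h L125173) L86400 L125173
theorem L125176 : sm ge N14689 = N10197 := ded_43_1 (flp_h L87109) (flp_e L86402) L125173
theorem L125178 : sm gf N14689 = N10110 := ded_47_1 (flp_h L86413) (flp_f L86404) L125173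
theorem L125180 : sm gj N14689 = N10109 := ded_52_1 (flp_h L86406) L86398 L125173
theorem L125182 : sm gd N10109 = N14690 := rfl
theorem L125184 : sm ga N14690 = N14690 := ded_12_1 (flp_d L125182) L86408 L125182
theorem L125185 : sm gf N14690 = N10111 := ded_35_2 (flp_d L86420) (flp_f L86411) L125182
theorem L125187 : sm gh N14690 = N14690 := ded_38_2 (flp_d L125182) (flp_h L86406) L59763 L86406 L125182
theorem L125188 : sm gi N10109 = N14691 := rfl
theorem L125190 : sm ga N14691 = N14691 := ded_18_1 (flp_i L125188) L86408 L125188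
theorem L125191 : sm ge N14691 = N10199 := ded_44_1 (flp_i L87123) (flp_e L86409) L125188
theorem L125193 : sm gf N14691 = N10112 := ded_48_1 (flp_i L86428) (flp_f L86411) L125188
theorem L125195 : sm gd N10110 = N14692 := rfl
theorem L125197 : sm ga N14692 = N14692 := ded_12_1 (flp_d L125195) L86415 L125195
theorem L125198 : sm gj N14692 = N10111 := ded_37_2 (flp_d L86420) (flp_j L86418) L125195
theorem L125200 : sm ge N14692 = N10406 := ded_34_2 (flp_d L88886) L61462 (flp_d L59797) (flp_e L86416) L125195
theorem L125202 : sm gh N14692 = N14692 := ded_38_2 (flp_d L125195) (flp_h L86413) L59769 L86413 L125195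
theorem L125203 : sm gi N10110 = N14693 := rfl
theorem L125205 : sm ga N14693 = N14693 := ded_18_1 (flp_i L125203) L86415 L125203
theorem L125206 : sm ge N14693 = N10115 := ded_44_1 (flp_i L86448) (flp_e L86416) L125203
theorem L125208 : sm gj N14693 = N10112 := ded_53_1 (flp_i L86428) (flp_j L86418) L125203
theorem L125210 : sm gc N10111 = N14694 := rfl
theorem L125212 : sm ga N14694 = N14694 := ded_11_1 (flp_c L125210) L86422 L125210
theorem L125213 : sm ge N14694 = N10408 := ded_28_2 (flp_c L88901) (flp_e L86425) L125210
theorem L125215 : sm gg N14694 = N10113 := ded_30_2 (flp_c L86435) (flp_g L86423) L125210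
theorem L125217 : sm gh N14694 = N14694 := ded_32_2 (flp_c L125210) L86427 L125210
theorem L125218 : sm gi N10111 = N14695 := rfl
theorem L125220 : sm ga N14695 = N14695 := ded_18_1 (flp_i L125218) L86422 L125218
theorem L125221 : sm gd N14695 = N10112 := ded_39_1 (flp_i L86428) L86420 L125218
theorem L125223 : sm ge N14695 = N10409 := ded_44_1 (flp_i L88908) (flp_e L86425) L125218
theorem L125225 : sm gg N14695 = N10114 := ded_51_1 (flp_i L86441) (flp_g L86423) L125218
theorem L125227 : sm gb N10113 = N14696 := rfl
theorem L125229 : sm ge N14696 = N10410 := ded_21_2 (flp_b L88915) (flp_e L86438) L125227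
theorem L125231 : sm gh N14696 = N14696 := ded_25_2 (flp_b L125227) L86440 L125227
theorem L125232 : sm gi N10113 = N14697 := rfl
theorem L125234 : sm ga N14697 = N14697 := ded_18_1 (flp_i L125232) L86437 L125232
theorem L125235 : sm gc N14697 = N10114 := ded_33_1 (flp_i L86441) L86435 L125232
theorem L125237 : sm ge N14697 = N10411 := ded_44_1 (flp_i L88920) (flp_e L86438) L125232
theorem L125239 : sm gh N10114 = N14698 := rfl
theorem L125241 : sm ga N14698 = N14698 := ded_17_1 (flp_h L125239) L86443 L125239
theorem L125242 : sm ge N14698 = N10412 := ded_43_1 (flp_h L88927) (flp_e L86446) L125239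
theorem L125244 : sm gi N14698 = N14698 := ded_54_2 (flp_h L125239) (flp_i L86441) L59784 L86441 L125239
theorem L125245 : sm ge N10116 = N14699 := rfl
theorem L125247 : sm gb N14699 = N10118 := ded_21_1 (flp_e L86473) (flp_b L86459) L125245
theorem L125249 : sm gc N14699 = N14699 := ded_28_1 (flp_e L125245) L86461 L125245
theorem L125250 : sm gj N14699 = N14699 := ded_42_2 (flp_e L125245) L86464 L125245
theorem L125251 : sm gi N14699 = N10152 := ded_44_2 (flp_e L86757) (flp_i L86465) L125245
theorem L125253 : sm gg N10116 = N14700 := rfl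
theorem L125255 : sm gb N14700 = N10119 := ded_23_1 (flp_g L86482) (flp_b L86459) L125253
theorem L125257 : sm gc N14700 = N14700 := ded_30_1 (flp_g L125253) L86461 L125253
theorem L125258 : sm gd N14700 = N11149 := ded_36_1 (flp_g L95410) (flp_d L86462) L125253
theorem L125260 : sm gi N14700 = N10153 := ded_51_2 (flp_g L86763) (flp_i L86465) L125253
theorem L125262 : sm gh N10116 = N14701 := rfl
theorem L125264 : sm gb N14701 = N10120 := ded_25_1 (flp_h L86492) (flp_b L86459) L125262
theorem L125270 : sm gd N10117 = N14702 := rfl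
theorem L125275 : sm gh N14702 = N11151 := ded_38_2 (flp_d L95427) (flp_h L65943) (flp_d L59810) L86467 L125270
theorem L125277 : sm gi N10117 = N14703 := rfl
theorem L125279 : sm gb N14703 = N10122 := ded_26_1 (flp_i L86509) (flp_b L86469) L125277
theorem L125285 : sm gd N10118 = N14704 := rfl
theorem L125287 : sm ga N14704 = N10128 := ded_12_1 (flp_d L86566) (flp_a L86475) L125285
theorem L125290 : sm gi N14704 = N10157 := ded_39_2 (flp_d L86791) (flp_i L86480) L125285
theorem L125292 : sm gc N14704 = N10212 := ded_27_1 (flp_d L87235) L60316 (flp_d L59842) (flp_c L86477) L125285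
theorem L125294 : sm ge N14704 = N11153 := ded_34_2 (flp_d L95442) (flp_e L65951) (flp_d L59822) L86473 L125285
theorem L125296 : sm gg N10118 = N14705 := rfl
theorem L125298 : sm ga N14705 = N10129 := ded_15_1 (flp_g L86575) (flp_a L86475) L125296
theorem L125300 : sm gc N14705 = N10123 := ded_30_1 (flp_g L86518) (flp_c L86477) L125296
theorem L125302 : sm ge N14705 = N10119 := ded_41_1 (flp_g L86482) L86473 L125296
theorem L125304 : sm gi N14705 = N10158 := ded_51_2 (flp_g L86800) (flp_i L86480) L125296
theorem L125306 : sm gh N10118 = N14706 := rfl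
theorem L125308 : sm ga N14706 = N10130 := ded_17_1 (flp_h L86583) (flp_a L86475) L125306
theorem L125310 : sm gc N14706 = N10124 := ded_32_1 (flp_h L86529) (flp_c L86477) L125306
theorem L125312 : sm ge N14706 = N10120 := ded_43_1 (flp_h L86492) L86473 L125306
theorem L125314 : sm gj N14706 = N14706 := ded_52_1 (flp_h L125306) L86479 L125306
theorem L125315 : sm gj N10119 = N14707 := rfl
theorem L125317 : sm ga N14707 = N10131 := ded_16_1 (flp_j L86590) (flp_a L86484) L125315
theorem L125319 : sm gc N14707 = N10125 := ded_31_1 (flp_j L86537) (flp_c L86486) L125315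
theorem L125321 : sm gd N14707 = N11156 := ded_37_1 (flp_j L95472) (flp_d L86488) L125315
theorem L125323 : sm gi N14707 = N10160 := ded_53_2 (flp_j L86817) (flp_i L86490) L125315
theorem L125325 : sm gg N14707 = N14707 := ded_49_1 (flp_j L125315) (flp_g L86482) L59824 L86482 L125315
theorem L125326 : sm gh N10119 = N14708 := rfl
theorem L125328 : sm ga N14708 = N10132 := ded_17_1 (flp_h L86599) (flp_a L86484) L125326
theorem L125330 : sm gc N14708 = N10126 := ded_32_1 (flp_h L86547) (flp_c L86486) L125326
theorem L125332 : sm gg N14708 = N10120 := ded_50_1 (flp_h L86492) L86482 L125326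
theorem L125334 : sm gd N10120 = N14709 := rfl
theorem L125336 : sm ga N14709 = N10133 := ded_12_1 (flp_d L86605) (flp_a L86494) L125334
theorem L125338 : sm gf N14709 = N10121 := ded_35_2 (flp_d L86501) (flp_f L86498) L125334
theorem L125342 : sm gh N14709 = N11158 := ded_38_2 (flp_d L95489) (flp_h L65969) (flp_d L59822) L86492 L125334
theorem L125344 : sm gi N10120 = N14710 := rfl
theorem L125346 : sm ga N14710 = N10134 := ded_18_1 (flp_i L86613) (flp_a L86494) L125344
theorem L125348 : sm gc N14710 = N10127 := ded_33_1 (flp_i L86555) (flp_c L86496) L125344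
theorem L125350 : sm gf N14710 = N10122 := ded_48_1 (flp_i L86509) (flp_f L86498) L125344
theorem L125352 : sm gj N14710 = N14710 := ded_53_1 (flp_i L125344) L86500 L125344
theorem L125353 : sm gh N14710 = N10163 := ded_54_1 (flp_i L86845) (flp_h L60045) (flp_i L59825) L86492 L125344
theorem L125355 : sm ge N10121 = N14711 := rfl
theorem L125357 : sm ga N14711 = N10135 := ded_13_1 (flp_e L86622) (flp_a L86503) L125355
theorem L125361 : sm gh N14711 = N11160 := ded_43_2 (flp_e L95508) (flp_h L86507) L125355
theorem L125363 : sm gi N10121 = N14712 := rfl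
theorem L125365 : sm ga N14712 = N10136 := ded_18_1 (flp_i L86628) (flp_a L86503) L125363
theorem L125371 : sm gf N10123 = N14713 := rfl
theorem L125373 : sm ga N14713 = N10137 := ded_14_1 (flp_f L86634) (flp_a L86520) L125371
theorem L125375 : sm gb N14713 = N14713 := ded_22_1 (flp_f L125371) L86522 L125371
theorem L125376 : sm gd N14713 = N10221 := ded_35_1 (flp_f L87324) (flp_d L86523) L125371
theorem L125378 : sm gi N14713 = N10166 := ded_48_2 (flp_f L86872) (flp_i L86527) L125371
theorem L125380 : sm gj N10123 = N14714 := rfl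
theorem L125382 : sm ga N14714 = N10138 := ded_16_1 (flp_j L86642) (flp_a L86520) L125380
theorem L125384 : sm gb N14714 = N14714 := ded_24_1 (flp_j L125380) L86522 L125380
theorem L125385 : sm gd N14714 = N10222 := ded_37_1 (flp_j L87332) (flp_d L86523) L125380
theorem L125387 : sm ge N14714 = N10125 := ded_42_1 (flp_j L86537) (flp_e L86525) L125380
theorem L125389 : sm gi N14714 = N10167 := ded_53_2 (flp_j L86879) (flp_i L86527) L125380
theorem L125391 : sm gg N14714 = N14714 := ded_49_1 (flp_j L125380) (flp_g L86518) L59839 L86518 L125380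
theorem L125392 : sm gh N10123 = N14715 := rfl
theorem L125394 : sm ga N14715 = N10139 := ded_17_1 (flp_h L86653) (flp_a L86520) L125392
theorem L125396 : sm gb N14715 = N14715 := ded_25_1 (flp_h L125392) L86522 L125392
theorem L125397 : sm ge N14715 = N10126 := ded_43_1 (flp_h L86547) (flp_e L86525) L125392
theorem L125399 : sm gg N14715 = N10124 := ded_50_1 (flp_h L86529) L86518 L125392
theorem L125401 : sm gd N10124 = N14716 := rfl
theorem L125403 : sm ga N14716 = N10140 := ded_12_1 (flp_d L86661) (flp_a L86531) L125401
theorem L125408 : sm gh N14716 = N10224 := ded_38_2 (flp_d L87351) (flp_h L60369) (flp_d L59842) L86529 L125401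
theorem L125410 : sm gi N10124 = N14717 := rfl
theorem L125412 : sm ga N14717 = N10141 := ded_18_1 (flp_i L86669) (flp_a L86531) L125410
theorem L125414 : sm gb N14717 = N14717 := ded_26_1 (flp_i L125410) L86533 L125410
theorem L125415 : sm ge N14717 = N10127 := ded_44_1 (flp_i L86555) (flp_e L86534) L125410
theorem L125417 : sm gj N14717 = N14717 := ded_53_1 (flp_i L125410) L86536 L125410
theorem L125418 : sm gh N14717 = N10170 := ded_54_1 (flp_i L86908) (flp_h L60079) (flp_i L59840) L86529 L125410
theorem L125420 : sm gh N10125 = N14718 := rfl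
theorem L125422 : sm ga N14718 = N10142 := ded_17_1 (flp_h L86678) (flp_a L86539) L125420
theorem L125424 : sm gb N14718 = N14718 := ded_25_1 (flp_h L125420) L86541 L125420
theorem L125425 : sm gg N14718 = N14718 := ded_50_1 (flp_h L125420) L86546 L125420
theorem L125426 : sm gj N14718 = N10126 := ded_52_1 (flp_h L86547) L86537 L125420
theorem L125428 : sm gd N14718 = N14718 := ded_38_1 (flp_h L125420) L86542 L59880 (flp_d L86542) L125420
theorem L125429 : sm gi N10126 = N14719 := rfl
theorem L125431 : sm ga N14719 = N10143 := ded_18_1 (flp_i L86686) (flp_a L86549) L125429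
theorem L125433 : sm gb N14719 = N14719 := ded_26_1 (flp_i L125429) L86551 L125429
theorem L125434 : sm gd N14719 = N14719 := ded_39_1 (flp_i L125429) L86554 L125429
theorem L125435 : sm gg N14719 = N10127 := ded_51_1 (flp_i L86555) (flp_g L86552) L125429
theorem L125437 : sm gh N14719 = N10172 := ded_54_1 (flp_i L86926) (flp_h L60095) (flp_i L59851) L86547 L125429
theorem L125439 : sm gg N10128 = N14720 := rfl
theorem L125441 : sm gc N14720 = N10228 := ded_30_1 (flp_g L87389) (flp_c L86571) L125439
theorem L125443 : sm gd N14720 = N10129 := ded_36_1 (flp_g L86575) L86566 L125439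
theorem L125445 : sm ge N14720 = N11169 := ded_41_1 (flp_g L95601) (flp_e L86573) L125439
theorem L125447 : sm gi N14720 = N10173 := ded_51_2 (flp_g L86935) (flp_i L86569) L125439
theorem L125449 : sm gh N10128 = N14721 := rfl
theorem L125451 : sm gc N14721 = N10229 := ded_32_1 (flp_h L87398) (flp_c L86571) L125449
theorem L125453 : sm ge N14721 = N11170 := ded_43_1 (flp_h L95609) (flp_e L86573) L125449
theorem L125455 : sm gj N14721 = N14721 := ded_52_1 (flp_h L125449) L86568 L125449
theorem L125456 : sm gf N10129 = N14722 := rfl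
theorem L125458 : sm gc N14722 = N10137 := ded_29_1 (flp_f L86634) (flp_c L86577) L125456
theorem L125460 : sm gi N14722 = N10175 := ded_48_2 (flp_f L86950) (flp_i L86581) L125456
theorem L125462 : sm gj N10129 = N14723 := rfl
theorem L125464 : sm gc N14723 = N10138 := ded_31_1 (flp_j L86642) (flp_c L86577) L125462
theorem L125466 : sm ge N14723 = N10131 := ded_42_1 (flp_j L86590) (flp_e L86579) L125462
theorem L125468 : sm gi N14723 = N10176 := ded_53_2 (flp_j L86954) (flp_i L86581) L125462
theorem L125470 : sm gg N14723 = N14723 := ded_49_1 (flp_j L125462) (flp_g L86575) L59888 L86575 L125462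
theorem L125471 : sm gh N10129 = N14724 := rfl
theorem L125473 : sm gc N14724 = N10139 := ded_32_1 (flp_h L86653) (flp_c L86577) L125471
theorem L125475 : sm ge N14724 = N10132 := ded_43_1 (flp_h L86599) (flp_e L86579) L125471
theorem L125477 : sm gg N14724 = N10130 := ded_50_1 (flp_h L86583) L86575 L125471
theorem L125479 : sm gd N10130 = N14725 := rfl
theorem L125481 : sm gj N14725 = N14725 := ded_37_2 (flp_d L125479) L86589 L125479
theorem L125482 : sm gi N10130 = N14726 := rfl
theorem L125484 : sm gc N14726 = N10141 := ded_33_1 (flp_i L86669) (flp_c L86585) L125482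
theorem L125486 : sm ge N14726 = N10134 := ded_44_1 (flp_i L86613) (flp_e L86587) L125482
theorem L125488 : sm gj N14726 = N14726 := ded_53_1 (flp_i L125482) L86589 L125482
theorem L125489 : sm gh N14726 = N10179 := ded_54_1 (flp_i L86972) (flp_h L60127) (flp_i L59889) L86583 L125482
theorem L125491 : sm gh N10131 = N14727 := rfl
theorem L125493 : sm gc N14727 = N10142 := ded_32_1 (flp_h L86678) (flp_c L86592) L125491
theorem L125495 : sm gg N14727 = N14727 := ded_50_1 (flp_h L125491) L86598 L125491
theorem L125496 : sm gj N14727 = N10132 := ded_52_1 (flp_h L86599) L86590 L125491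
theorem L125498 : sm gd N10132 = N14728 := rfl
theorem L125500 : sm gg N14728 = N10133 := ded_36_2 (flp_d L86605) (flp_g L86603) L125498
theorem L125502 : sm gc N14728 = N14728 := ded_27_1 (flp_d L125498) L86601 L59951 (flp_c L86601) L125498
theorem L125503 : sm gh N14728 = N11177 := ded_38_2 (flp_d L95660) (flp_h L66079) (flp_d L59895) L86599 L125498
theorem L125505 : sm gi N10132 = N14729 := rfl
theorem L125507 : sm gc N14729 = N10143 := ded_33_1 (flp_i L86686) (flp_c L86601) L125505
theorem L125509 : sm gg N14729 = N10134 := ded_51_1 (flp_i L86613) (flp_g L86603) L125505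
theorem L125511 : sm gh N14729 = N10182 := ded_54_1 (flp_i L86994) (flp_h L60141) (flp_i L59897) L86599 L125505
theorem L125513 : sm ge N10133 = N14730 := rfl
theorem L125515 : sm gc N14730 = N14730 := ded_28_1 (flp_e L125513) L86610 L125513
theorem L125516 : sm gj N14730 = N14730 := ded_42_2 (flp_e L125513) L86609 L125513
theorem L125517 : sm gh N14730 = N11179 := ded_43_2 (flp_e L95673) (flp_h L86611) L125513
theorem L125519 : sm gi N10133 = N14731 := rfl
theorem L125521 : sm gc N14731 = N14731 := ded_33_1 (flp_i L125519) L86610 L125519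
theorem L125522 : sm gd N14731 = N10134 := ded_39_1 (flp_i L86613) L86605 L125519
theorem L125524 : sm gf N14731 = N10136 := ded_48_1 (flp_i L86628) (flp_f L86607) L125519
theorem L125526 : sm gj N14731 = N14731 := ded_53_1 (flp_i L125519) L86609 L125519
theorem L125527 : sm gf N10135 = N14732 := rfl
theorem L125531 : sm gh N14732 = N11181 := ded_47_2 (flp_f L95685) (flp_h L86626) L125527
theorem L125533 : sm gi N10135 = N14733 := rfl
theorem L125536 : sm ge N14733 = N10136 := ded_44_1 (flp_i L86628) L86622 L125533
theorem L125539 : sm gh N10136 = N14734 := rfl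
theorem L125547 : sm gj N10137 = N14735 := rfl
theorem L125549 : sm gb N14735 = N10144 := ded_24_1 (flp_j L86695) (flp_b L86636) L125547
theorem L125551 : sm gd N14735 = N10242 := ded_37_1 (flp_j L87506) (flp_d L86638) L125547
theorem L125553 : sm gf N14735 = N10138 := ded_46_1 (flp_j L86642) L86634 L125547
theorem L125555 : sm gi N14735 = N10188 := ded_53_2 (flp_j L87037) (flp_i L86640) L125547
theorem L125557 : sm gh N10137 = N14736 := rfl
theorem L125559 : sm gb N14736 = N10145 := ded_25_1 (flp_h L86704) (flp_b L86636) L125557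
theorem L125561 : sm gf N14736 = N10139 := ded_47_1 (flp_h L86653) L86634 L125557
theorem L125563 : sm gh N10138 = N14737 := rfl
theorem L125565 : sm gb N14737 = N10146 := ded_25_1 (flp_h L86709) (flp_b L86644) L125563
theorem L125567 : sm ge N14737 = N10142 := ded_43_1 (flp_h L86678) (flp_e L86648) L125563
theorem L125569 : sm gg N14737 = N14737 := ded_50_1 (flp_h L125563) L86652 L125563
theorem L125570 : sm gj N14737 = N10139 := ded_52_1 (flp_h L86653) L86642 L125563
theorem L125572 : sm gd N10139 = N14738 := rfl
theorem L125574 : sm gb N14738 = N10147 := ded_20_1 (flp_d L86717) (flp_b L86655) L125572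
theorem L125576 : sm gg N14738 = N10140 := ded_36_2 (flp_d L86661) (flp_g L86659) L125572
theorem L125578 : sm ge N14738 = N14738 := ded_34_2 (flp_d L125572) L86657 L59951 (flp_e L86657) L125572
theorem L125579 : sm gh N14738 = N10245 := ded_38_2 (flp_d L87531) (flp_h L60504) (flp_d L59923) L86653 L125572
theorem L125581 : sm gi N10139 = N14739 := rfl
theorem L125583 : sm gb N14739 = N10148 := ded_26_1 (flp_i L86725) (flp_b L86655) L125581
theorem L125585 : sm ge N14739 = N10143 := ded_44_1 (flp_i L86686) (flp_e L86657) L125581
theorem L125587 : sm gg N14739 = N10141 := ded_51_1 (flp_i L86669) (flp_g L86659) L125581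
theorem L125589 : sm gh N14739 = N10192 := ded_54_1 (flp_i L87070) (flp_h L60192) (flp_i L59927) L86653 L125581
theorem L125591 : sm gc N10140 = N14740 := rfl
theorem L125593 : sm ge N14740 = N14740 := ded_28_2 (flp_c L125591) L86666 L125591
theorem L125594 : sm gj N14740 = N14740 := ded_31_2 (flp_c L125591) L86665 L125591
theorem L125595 : sm gh N14740 = N10247 := ded_32_2 (flp_c L87548) (flp_h L86667) L125591
theorem L125597 : sm gi N10140 = N14741 := rfl
theorem L125599 : sm gb N14741 = N10150 := ded_26_1 (flp_i L86741) (flp_b L86663) L125597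
theorem L125601 : sm gd N14741 = N10141 := ded_39_1 (flp_i L86669) L86661 L125597
theorem L125603 : sm ge N14741 = N14741 := ded_44_1 (flp_i L125597) L86666 L125597
theorem L125604 : sm gj N14741 = N14741 := ded_53_1 (flp_i L125597) L86665 L125597
theorem L125605 : sm gi N10142 = N14742 := rfl
theorem L125607 : sm gb N14742 = N10151 := ded_26_1 (flp_i L86748) (flp_b L86680) L125605
theorem L125609 : sm gd N14742 = N14742 := ded_39_1 (flp_i L125605) L86685 L125605
theorem L125610 : sm gg N14742 = N14742 := ded_51_1 (flp_i L125605) L86682 L125605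
theorem L125611 : sm gj N14742 = N10143 := ded_53_1 (flp_i L86686) (flp_j L86683) L125605
theorem L125613 : sm gh N14742 = N10195 := ded_54_1 (flp_i L87094) (flp_h L60216) (flp_i L59942) L86678 L125605
theorem L125615 : sm gg N10144 = N14743 := rfl
theorem L125617 : sm ga N14743 = N14743 := ded_15_1 (flp_g L125615) L86697 L125615
theorem L125618 : sm gd N14743 = N10250 := ded_36_1 (flp_g L87571) (flp_d L86698) L125615
theorem L125620 : sm gi N14743 = N10196 := ded_51_2 (flp_g L87103) (flp_i L86702) L125615
theorem L125622 : sm gf N14743 = N14743 := ded_45_1 (flp_g L125615) L86700 L59978 (flp_f L86700) L125615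
theorem L125623 : sm gh N10144 = N14744 := rfl
theorem L125625 : sm ga N14744 = N14744 := ded_17_1 (flp_h L125623) L86697 L125623
theorem L125626 : sm gf N14744 = N10146 := ded_47_1 (flp_h L86709) (flp_f L86700) L125623
theorem L125628 : sm gj N14744 = N10145 := ded_52_1 (flp_h L86704) L86695 L125623
theorem L125630 : sm gd N10145 = N14745 := rfl
theorem L125632 : sm ga N14745 = N14745 := ded_12_1 (flp_d L125630) L86706 L125630
theorem L125633 : sm gf N14745 = N10147 := ded_35_2 (flp_d L86717) (flp_f L86707) L125630
theorem L125635 : sm gh N14745 = N10252 := ded_38_2 (flp_d L87588) (flp_h L60555) (flp_d L59965) L86704 L125630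
theorem L125637 : sm gi N10145 = N14746 := rfl
theorem L125639 : sm ga N14746 = N14746 := ded_18_1 (flp_i L125637) L86706 L125637
theorem L125640 : sm gf N14746 = N10148 := ded_48_1 (flp_i L86725) (flp_f L86707) L125637
theorem L125642 : sm gh N14746 = N10199 := ded_54_1 (flp_i L87123) (flp_h L60240) (flp_i L59967) L86704 L125637
theorem L125644 : sm gd N10146 = N14747 := rfl
theorem L125646 : sm ga N14747 = N14747 := ded_12_1 (flp_d L125644) L86711 L125644
theorem L125647 : sm gg N14747 = N14747 := ded_36_2 (flp_d L125644) L86714 L125644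
theorem L125648 : sm gj N14747 = N10147 := ded_37_2 (flp_d L86717) (flp_j L86715) L125644
theorem L125650 : sm ge N14747 = N14747 := ded_34_2 (flp_d L125644) L86712 L60007 (flp_e L86712) L125644
theorem L125651 : sm gh N14747 = N10254 := ded_38_2 (flp_d L87602) (flp_h L60562) (flp_d L59972) L86709 L125644
theorem L125653 : sm gi N10146 = N14748 := rfl
theorem L125655 : sm ga N14748 = N14748 := ded_18_1 (flp_i L125653) L86711 L125653
theorem L125656 : sm ge N14748 = N10151 := ded_44_1 (flp_i L86748) (flp_e L86712) L125653
theorem L125658 : sm gg N14748 = N14748 := ded_51_1 (flp_i L125653) L86714 L125653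
theorem L125659 : sm gj N14748 = N10148 := ded_53_1 (flp_i L86725) (flp_j L86715) L125653
theorem L125661 : sm gh N14748 = N10201 := ded_54_1 (flp_i L87138) (flp_h L60245) (flp_i L59976) L86709 L125653
theorem L125663 : sm gc N10147 = N14749 := rfl
theorem L125665 : sm ga N14749 = N14749 := ded_11_1 (flp_c L125663) L86719 L125663
theorem L125666 : sm ge N14749 = N14749 := ded_28_2 (flp_c L125663) L86722 L125663
theorem L125667 : sm gg N14749 = N10149 := ded_30_2 (flp_c L86734) (flp_g L86720) L125663
theorem L125669 : sm gh N14749 = N10256 := ded_32_2 (flp_c L87620) (flp_h L86723) L125663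
theorem L125671 : sm gi N10147 = N14750 := rfl
theorem L125673 : sm ga N14750 = N14750 := ded_18_1 (flp_i L125671) L86719 L125671
theorem L125674 : sm gd N14750 = N10148 := ded_39_1 (flp_i L86725) L86717 L125671
theorem L125676 : sm ge N14750 = N14750 := ded_44_1 (flp_i L125671) L86722 L125671
theorem L125677 : sm gg N14750 = N10150 := ded_51_1 (flp_i L86741) (flp_g L86720) L125671
theorem L125679 : sm gb N10149 = N14751 := rfl
theorem L125681 : sm ge N14751 = N14751 := ded_21_2 (flp_b L125679) L86737 L125679
theorem L125682 : sm gj N14751 = N14751 := ded_24_2 (flp_b L125679) L86738 L125679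
theorem L125683 : sm gh N14751 = N10258 := ded_25_2 (flp_b L87635) (flp_h L86739) L125679
theorem L125685 : sm gi N10149 = N14752 := rfl
theorem L125687 : sm ga N14752 = N14752 := ded_18_1 (flp_i L125685) L86736 L125685
theorem L125688 : sm gc N14752 = N10150 := ded_33_1 (flp_i L86741) L86734 L125685
theorem L125690 : sm ge N14752 = N14752 := ded_44_1 (flp_i L125685) L86737 L125685
theorem L125691 : sm gj N14752 = N14752 := ded_53_1 (flp_i L125685) L86738 L125685
theorem L125692 : sm gh N10150 = N14753 := rfl
theorem L125694 : sm ga N14753 = N14753 := ded_17_1 (flp_h L125692) L86743 L125692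
theorem L125695 : sm ge N14753 = N14753 := ded_43_1 (flp_h L125692) L86746 L125692
theorem L125696 : sm gj N14753 = N14753 := ded_52_1 (flp_h L125692) L86747 L125692
theorem L125697 : sm gd N14753 = N10206 := ded_38_1 (flp_h L87179) L60280 (flp_h L59999) (flp_d L86744) L125692
theorem L125699 : sm gi N14753 = N10260 := ded_54_2 (flp_h L87648) (flp_i L60593) (flp_h L59991) L86741 L125692
theorem L125701 : sm gd N10152 = N14754 := rfl
theorem L125703 : sm gb N14754 = N10157 := ded_20_1 (flp_d L86791) (flp_b L86759) L125701
theorem L125705 : sm gj N14754 = N14754 := ded_37_2 (flp_d L125701) L86762 L125701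
theorem L125706 : sm ge N14754 = N11202 := ded_34_2 (flp_d L95868) (flp_e L66249) (flp_d L60021) L86757 L125701
theorem L125708 : sm gg N10152 = N14755 := rfl
theorem L125710 : sm gb N14755 = N10158 := ded_23_1 (flp_g L86800) (flp_b L86759) L125708
theorem L125712 : sm gc N14755 = N14755 := ded_30_1 (flp_g L125708) L86761 L125708
theorem L125713 : sm ge N14755 = N10153 := ded_41_1 (flp_g L86763) L86757 L125708
theorem L125715 : sm gh N10152 = N14756 := rfl
theorem L125717 : sm gb N14756 = N10159 := ded_25_1 (flp_h L86808) (flp_b L86759) L125715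
theorem L125723 : sm gj N10153 = N14757 := rfl
theorem L125725 : sm gb N14757 = N10160 := ded_24_1 (flp_j L86817) (flp_b L86765) L125723
theorem L125727 : sm gc N14757 = N14757 := ded_31_1 (flp_j L125723) L86767 L125723
theorem L125728 : sm gd N14757 = N11205 := ded_37_1 (flp_j L95892) (flp_d L86768) L125723
theorem L125730 : sm gg N14757 = N14757 := ded_49_1 (flp_j L125723) (flp_g L86763) L60023 L86763 L125723
theorem L125731 : sm gh N10153 = N14758 := rfl
theorem L125733 : sm gb N14758 = N10161 := ded_25_1 (flp_h L86826) (flp_b L86765) L125731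
theorem L125736 : sm gg N14758 = N10154 := ded_50_1 (flp_h L86770) L86763 L125731
theorem L125738 : sm gd N10154 = N14759 := rfl
theorem L125745 : sm gh N14759 = N11207 := ded_38_2 (flp_d L95907) (flp_h L66263) (flp_d L60021) L86770 L125738
theorem L125747 : sm gi N10154 = N14760 := rfl
theorem L125752 : sm gf N14760 = N10156 := ded_48_1 (flp_i L86785) (flp_f L86775) L125747
theorem L125755 : sm gc N10155 = N14761 := rfl
theorem L125763 : sm ge N10155 = N14762 := rfl
theorem L125768 : sm gh N14762 = N11210 := ded_43_2 (flp_e L95930) (flp_h L86783) L125763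
theorem L125777 : sm gg N10157 = N14764 := rfl
theorem L125779 : sm ga N14764 = N10173 := ded_15_1 (flp_g L86935) (flp_a L86793) L125777
theorem L125781 : sm gc N14764 = N10267 := ded_30_1 (flp_g L87710) (flp_c L86796) L125777
theorem L125783 : sm gd N14764 = N10158 := ded_36_1 (flp_g L86800) L86791 L125777
theorem L125785 : sm ge N14764 = N11212 := ded_41_1 (flp_g L95943) (flp_e L86798) L125777
theorem L125787 : sm gh N10157 = N14765 := rfl
theorem L125789 : sm ga N14765 = N10174 := ded_17_1 (flp_h L86943) (flp_a L86793) L125787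
theorem L125791 : sm gc N14765 = N10268 := ded_32_1 (flp_h L87718) (flp_c L86796) L125787
theorem L125793 : sm ge N14765 = N11213 := ded_43_1 (flp_h L95951) (flp_e L86798) L125787
theorem L125795 : sm gj N14765 = N14765 := ded_52_1 (flp_h L125787) L86795 L125787
theorem L125796 : sm gf N10158 = N14766 := rfl
theorem L125798 : sm ga N14766 = N10175 := ded_14_1 (flp_f L86950) (flp_a L86802) L125796
theorem L125800 : sm gc N14766 = N10166 := ded_29_1 (flp_f L86872) (flp_c L86804) L125796
theorem L125802 : sm gj N10158 = N14767 := rfl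
theorem L125804 : sm ga N14767 = N10176 := ded_16_1 (flp_j L86954) (flp_a L86802) L125802
theorem L125806 : sm gc N14767 = N10167 := ded_31_1 (flp_j L86879) (flp_c L86804) L125802
theorem L125808 : sm ge N14767 = N10160 := ded_42_1 (flp_j L86817) (flp_e L86806) L125802
theorem L125810 : sm gg N14767 = N14767 := ded_49_1 (flp_j L125802) (flp_g L86800) L60036 L86800 L125802
theorem L125811 : sm gh N10158 = N14768 := rfl
theorem L125813 : sm ga N14768 = N10177 := ded_17_1 (flp_h L86961) (flp_a L86802) L125811
theorem L125815 : sm gc N14768 = N10168 := ded_32_1 (flp_h L86889) (flp_c L86804) L125811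
theorem L125817 : sm ge N14768 = N10161 := ded_43_1 (flp_h L86826) (flp_e L86806) L125811
theorem L125819 : sm gg N14768 = N10159 := ded_50_1 (flp_h L86808) L86800 L125811
theorem L125821 : sm gd N10159 = N14769 := rfl
theorem L125823 : sm ga N14769 = N10178 := ded_12_1 (flp_d L86969) (flp_a L86810) L125821
theorem L125825 : sm gj N14769 = N14769 := ded_37_2 (flp_d L125821) L86816 L125821
theorem L125826 : sm gi N10159 = N14770 := rfl
theorem L125828 : sm ga N14770 = N10179 := ded_18_1 (flp_i L86972) (flp_a L86810) L125826
theorem L125830 : sm gc N14770 = N10170 := ded_33_1 (flp_i L86908) (flp_c L86812) L125826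
theorem L125832 : sm ge N14770 = N10163 := ded_44_1 (flp_i L86845) (flp_e L86814) L125826
theorem L125834 : sm gj N14770 = N14770 := ded_53_1 (flp_i L125826) L86816 L125826
theorem L125835 : sm gh N10160 = N14771 := rfl
theorem L125837 : sm ga N14771 = N10180 := ded_17_1 (flp_h L86979) (flp_a L86819) L125835
theorem L125839 : sm gc N14771 = N10171 := ded_32_1 (flp_h L86916) (flp_c L86821) L125835
theorem L125841 : sm gg N14771 = N14771 := ded_50_1 (flp_h L125835) L86825 L125835
theorem L125842 : sm gj N14771 = N10161 := ded_52_1 (flp_h L86826) L86817 L125835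
theorem L125844 : sm gd N10161 = N14772 := rfl
theorem L125846 : sm ga N14772 = N10181 := ded_12_1 (flp_d L86986) (flp_a L86828) L125844
theorem L125848 : sm gg N14772 = N10162 := ded_36_2 (flp_d L86834) (flp_g L86832) L125844
theorem L125850 : sm gc N14772 = N10428 := ded_27_1 (flp_d L89072) L61581 (flp_d L60102) (flp_c L86830) L125844
theorem L125854 : sm gi N10161 = N14773 := rfl
theorem L125856 : sm ga N14773 = N10182 := ded_18_1 (flp_i L86994) (flp_a L86828) L125854
theorem L125858 : sm gc N14773 = N10172 := ded_33_1 (flp_i L86926) (flp_c L86830) L125854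
theorem L125860 : sm gg N14773 = N10163 := ded_51_1 (flp_i L86845) (flp_g L86832) L125854
theorem L125862 : sm ge N10162 = N14774 := rfl
theorem L125864 : sm ga N14774 = N10183 := ded_13_1 (flp_e L87000) (flp_a L86836) L125862
theorem L125866 : sm gc N14774 = N10430 := ded_28_1 (flp_e L89089) (flp_c L86841) L125862
theorem L125869 : sm gh N14774 = N11222 := ded_43_2 (flp_e L96027) (flp_h L86843) L125862
theorem L125871 : sm gi N10162 = N14775 := rfl
theorem L125873 : sm ga N14775 = N10184 := ded_18_1 (flp_i L87007) (flp_a L86836) L125871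
theorem L125875 : sm gc N14775 = N10431 := ded_33_1 (flp_i L89096) (flp_c L86841) L125871
theorem L125877 : sm gd N14775 = N10163 := ded_39_1 (flp_i L86845) L86834 L125871
theorem L125882 : sm gf N10164 = N14776 := rfl
theorem L125884 : sm ga N14776 = N10185 := ded_14_1 (flp_f L87016) (flp_a L86856) L125882
theorem L125886 : sm gc N14776 = N10432 := ded_29_1 (flp_f L89105) (flp_c L86858) L125882
theorem L125889 : sm gh N14776 = N11224 := ded_47_2 (flp_f L96045) (flp_h L86861) L125882
theorem L125891 : sm gi N10164 = N14777 := rfl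
theorem L125893 : sm ga N14777 = N10186 := ded_18_1 (flp_i L87023) (flp_a L86856) L125891
theorem L125895 : sm gc N14777 = N10433 := ded_33_1 (flp_i L89113) (flp_c L86858) L125891
theorem L125897 : sm ge N14777 = N10165 := ded_44_1 (flp_i L86863) L86854 L125891
theorem L125909 : sm gj N10166 = N14779 := rfl
theorem L125911 : sm ga N14779 = N10188 := ded_16_1 (flp_j L87037) (flp_a L86874) L125909
theorem L125913 : sm gb N14779 = N14779 := ded_24_1 (flp_j L125909) L86876 L125909
theorem L125914 : sm gd N14779 = N10276 := ded_37_1 (flp_j L87787) (flp_d L86877) L125909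
theorem L125916 : sm gf N14779 = N10167 := ded_46_1 (flp_j L86879) L86872 L125909
theorem L125918 : sm gh N10166 = N14780 := rfl
theorem L125920 : sm ga N14780 = N10189 := ded_17_1 (flp_h L87045) (flp_a L86874) L125918
theorem L125922 : sm gb N14780 = N14780 := ded_25_1 (flp_h L125918) L86876 L125918
theorem L125923 : sm gf N14780 = N10168 := ded_47_1 (flp_h L86889) L86872 L125918
theorem L125925 : sm gh N10167 = N14781 := rfl
theorem L125927 : sm ga N14781 = N10190 := ded_17_1 (flp_h L87051) (flp_a L86881) L125925
theorem L125929 : sm gb N14781 = N14781 := ded_25_1 (flp_h L125925) L86883 L125925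
theorem L125930 : sm ge N14781 = N10171 := ded_43_1 (flp_h L86916) (flp_e L86886) L125925
theorem L125932 : sm gg N14781 = N14781 := ded_50_1 (flp_h L125925) L86888 L125925
theorem L125933 : sm gj N14781 = N10168 := ded_52_1 (flp_h L86889) L86879 L125925
theorem L125935 : sm gd N10168 = N14782 := rfl
theorem L125937 : sm ga N14782 = N10191 := ded_12_1 (flp_d L87060) (flp_a L86891) L125935
theorem L125939 : sm gb N14782 = N14782 := ded_20_1 (flp_d L125935) L86893 L125935
theorem L125940 : sm gg N14782 = N10169 := ded_36_2 (flp_d L86898) (flp_g L86896) L125935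
theorem L125942 : sm ge N14782 = N10438 := ded_34_2 (flp_d L89157) L61644 (flp_d L60102) (flp_e L86894) L125935
theorem L125944 : sm gh N14782 = N10279 := ded_38_2 (flp_d L87813) (flp_h L60714) (flp_d L60075) L86889 L125935
theorem L125946 : sm gi N10168 = N14783 := rfl
theorem L125948 : sm ga N14783 = N10192 := ded_18_1 (flp_i L87070) (flp_a L86891) L125946
theorem L125950 : sm gb N14783 = N14783 := ded_26_1 (flp_i L125946) L86893 L125946
theorem L125951 : sm ge N14783 = N10172 := ded_44_1 (flp_i L86926) (flp_e L86894) L125946
theorem L125953 : sm gg N14783 = N10170 := ded_51_1 (flp_i L86908) (flp_g L86896) L125946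
theorem L125955 : sm gc N10169 = N14784 := rfl
theorem L125957 : sm ga N14784 = N10193 := ded_11_1 (flp_c L87078) (flp_a L86900) L125955
theorem L125959 : sm ge N14784 = N10440 := ded_28_2 (flp_c L89176) (flp_e L86904) L125955
theorem L125961 : sm gj N14784 = N14784 := ded_31_2 (flp_c L125955) L86903 L125955
theorem L125962 : sm gh N14784 = N10281 := ded_32_2 (flp_c L87831) (flp_h L86906) L125955
theorem L125964 : sm gi N10169 = N14785 := rfl
theorem L125966 : sm ga N14785 = N10194 := ded_18_1 (flp_i L87085) (flp_a L86900) L125964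
theorem L125968 : sm gb N14785 = N14785 := ded_26_1 (flp_i L125964) L86902 L125964
theorem L125969 : sm gd N14785 = N10170 := ded_39_1 (flp_i L86908) L86898 L125964
theorem L125971 : sm ge N14785 = N10441 := ded_44_1 (flp_i L89184) (flp_e L86904) L125964
theorem L125973 : sm gj N14785 = N14785 := ded_53_1 (flp_i L125964) L86903 L125964
theorem L125974 : sm gi N10171 = N14786 := rfl
theorem L125976 : sm ga N14786 = N10195 := ded_18_1 (flp_i L87094) (flp_a L86918) L125974
theorem L125978 : sm gb N14786 = N14786 := ded_26_1 (flp_i L125974) L86920 L125974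
theorem L125979 : sm gd N14786 = N10442 := ded_39_1 (flp_i L89193) (flp_d L86924) L125974
theorem L125981 : sm gg N14786 = N14786 := ded_51_1 (flp_i L125974) L86921 L125974
theorem L125982 : sm gj N14786 = N10172 := ded_53_1 (flp_i L86926) (flp_j L86922) L125974
theorem L125984 : sm gf N10173 = N14787 := rfl
theorem L125986 : sm gc N14787 = N10284 := ded_29_1 (flp_f L87859) (flp_c L86937) L125984
theorem L125988 : sm gd N14787 = N10175 := ded_35_1 (flp_f L86950) (flp_d L86939) L125984
theorem L125990 : sm gj N10173 = N14788 := rfl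
theorem L125992 : sm gc N14788 = N10285 := ded_31_1 (flp_j L87864) (flp_c L86937) L125990
theorem L125994 : sm gd N14788 = N10176 := ded_37_1 (flp_j L86954) (flp_d L86939) L125990
theorem L125996 : sm ge N14788 = N11233 := ded_42_1 (flp_j L96131) (flp_e L86941) L125990
theorem L125998 : sm gg N14788 = N14788 := ded_49_1 (flp_j L125990) (flp_g L86935) L60116 L86935 L125990
theorem L125999 : sm gh N10173 = N14789 := rfl
theorem L126001 : sm gc N14789 = N10286 := ded_32_1 (flp_h L87872) (flp_c L86937) L125999
theorem L126003 : sm ge N14789 = N11234 := ded_43_1 (flp_h L96138) (flp_e L86941) L125999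
theorem L126005 : sm gg N14789 = N10174 := ded_50_1 (flp_h L86943) L86935 L125999
theorem L126007 : sm gd N10174 = N14790 := rfl
theorem L126009 : sm gj N14790 = N14790 := ded_37_2 (flp_d L126007) L86949 L126007
theorem L126010 : sm gh N14790 = N10178 := ded_38_2 (flp_d L86969) (flp_h L60127) L60114 L86943 L126007
theorem L126012 : sm gi N10174 = N14791 := rfl
theorem L126014 : sm gc N14791 = N10288 := ded_33_1 (flp_i L87886) (flp_c L86945) L126012
theorem L126016 : sm ge N14791 = N11236 := ded_44_1 (flp_i L96151) (flp_e L86947) L126012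
theorem L126018 : sm gj N14791 = N14791 := ded_53_1 (flp_i L126012) L86949 L126012
theorem L126019 : sm gj N10175 = N14792 := rfl
theorem L126021 : sm gc N14792 = N10188 := ded_31_1 (flp_j L87037) (flp_c L86952) L126019
theorem L126023 : sm gf N14792 = N10176 := ded_46_1 (flp_j L86954) L86950 L126019
theorem L126025 : sm gh N10175 = N14793 := rfl
theorem L126027 : sm gc N14793 = N10189 := ded_32_1 (flp_h L87045) (flp_c L86952) L126025
theorem L126029 : sm gf N14793 = N10177 := ded_47_1 (flp_h L86961) L86950 L126025
theorem L126031 : sm gh N10176 = N14794 := rfl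
theorem L126033 : sm gc N14794 = N10190 := ded_32_1 (flp_h L87051) (flp_c L86956) L126031
theorem L126035 : sm ge N14794 = N10180 := ded_43_1 (flp_h L86979) (flp_e L86958) L126031
theorem L126037 : sm gg N14794 = N14794 := ded_50_1 (flp_h L126031) L86960 L126031
theorem L126038 : sm gj N14794 = N10177 := ded_52_1 (flp_h L86961) L86954 L126031
theorem L126040 : sm gd N10177 = N14795 := rfl
theorem L126042 : sm gg N14795 = N10178 := ded_36_2 (flp_d L86969) (flp_g L86967) L126040
theorem L126044 : sm gi N10177 = N14796 := rfl
theorem L126046 : sm gc N14796 = N10192 := ded_33_1 (flp_i L87070) (flp_c L86963) L126044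
theorem L126048 : sm ge N14796 = N10182 := ded_44_1 (flp_i L86994) (flp_e L86965) L126044
theorem L126050 : sm gg N14796 = N10179 := ded_51_1 (flp_i L86972) (flp_g L86967) L126044
theorem L126052 : sm gc N10178 = N14797 := rfl
theorem L126054 : sm gj N14797 = N14797 := ded_31_2 (flp_c L126052) L86971 L126052
theorem L126055 : sm gd N14797 = N10193 := ded_27_2 (flp_c L87078) (flp_d L60200) (flp_c L60129) L86969 L126052
theorem L126057 : sm ge N10178 = N14798 := rfl
theorem L126059 : sm gj N14798 = N14798 := ded_42_2 (flp_e L126057) L86971 L126057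
theorem L126060 : sm gd N14798 = N10183 := ded_34_1 (flp_e L87000) (flp_d L60147) (flp_e L60131) L86969 L126057
theorem L126062 : sm gi N10178 = N14799 := rfl
theorem L126064 : sm gd N14799 = N10179 := ded_39_1 (flp_i L86972) L86969 L126062
theorem L126066 : sm gj N14799 = N14799 := ded_53_1 (flp_i L126062) L86971 L126062
theorem L126067 : sm gd N10180 = N14800 := rfl
theorem L126069 : sm gg N14800 = N14800 := ded_36_2 (flp_d L126067) L86983 L126067
theorem L126070 : sm gj N14800 = N10181 := ded_37_2 (flp_d L86986) (flp_j L86984) L126067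
theorem L126072 : sm gc N14800 = N10451 := ded_27_1 (flp_d L89266) L61729 (flp_d L60223) (flp_c L86981) L126067
theorem L126074 : sm gh N14800 = N11244 := ded_38_2 (flp_d L96205) (flp_h L66469) (flp_d L60138) L86979 L126067
theorem L126076 : sm gi N10180 = N14801 := rfl
theorem L126078 : sm gc N14801 = N10195 := ded_33_1 (flp_i L87094) (flp_c L86981) L126076
theorem L126080 : sm gg N14801 = N14801 := ded_51_1 (flp_i L126076) L86983 L126076
theorem L126081 : sm gj N14801 = N10182 := ded_53_1 (flp_i L86994) (flp_j L86984) L126076
theorem L126083 : sm ge N10181 = N14802 := rfl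
theorem L126085 : sm gc N14802 = N10453 := ded_28_1 (flp_e L89283) (flp_c L86990) L126083
theorem L126087 : sm gg N14802 = N10183 := ded_41_2 (flp_e L87000) (flp_g L86988) L126083
theorem L126089 : sm gh N14802 = N11246 := ded_43_2 (flp_e L96219) (flp_h L86992) L126083
theorem L126091 : sm gi N10181 = N14803 := rfl
theorem L126093 : sm gc N14803 = N10454 := ded_33_1 (flp_i L89290) (flp_c L86990) L126091
theorem L126095 : sm gd N14803 = N10182 := ded_39_1 (flp_i L86994) L86986 L126091
theorem L126097 : sm gg N14803 = N10184 := ded_51_1 (flp_i L87007) (flp_g L86988) L126091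
theorem L126099 : sm gf N10183 = N14804 := rfl
theorem L126101 : sm gc N14804 = N10455 := ded_29_1 (flp_f L89297) (flp_c L87002) L126099
theorem L126103 : sm gj N14804 = N14804 := ded_46_2 (flp_f L126099) L87004 L126099
theorem L126104 : sm gh N14804 = N11248 := ded_47_2 (flp_f L96233) (flp_h L87005) L126099
theorem L126106 : sm ge N14804 = N10185 := ded_40_1 (flp_f L87016) (flp_e L60163) (flp_f L60149) L87000 L126099
theorem L126108 : sm gi N10183 = N14805 := rfl
theorem L126110 : sm gc N14805 = N10456 := ded_33_1 (flp_i L89305) (flp_c L87002) L126108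
theorem L126112 : sm ge N14805 = N10184 := ded_44_1 (flp_i L87007) L87000 L126108
theorem L126114 : sm gj N14805 = N14805 := ded_53_1 (flp_i L126108) L87004 L126108
theorem L126115 : sm gh N10184 = N14806 := rfl
theorem L126119 : sm gf N14806 = N10187 := ded_47_1 (flp_h L87030) (flp_f L87013) L126115
theorem L126122 : sm gi N14806 = N11250 := ded_54_2 (flp_h L96247) (flp_i L66493) (flp_h L60154) L87007 L126115
theorem L126124 : sm gg N10185 = N14807 := rfl
theorem L126126 : sm gc N14807 = N10458 := ded_30_1 (flp_g L89320) (flp_c L87018) L126124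
theorem L126128 : sm gh N14807 = N11251 := ded_50_2 (flp_g L96254) (flp_h L87021) L126124
theorem L126130 : sm gi N10185 = N14808 := rfl
theorem L126132 : sm gc N14808 = N10459 := ded_33_1 (flp_i L89326) (flp_c L87018) L126130
theorem L126134 : sm gf N14808 = N10186 := ded_48_1 (flp_i L87023) L87016 L126130
theorem L126136 : sm gj N14808 = N14808 := ded_53_1 (flp_i L126130) L87020 L126130
theorem L126137 : sm gh N10186 = N14809 := rfl
theorem L126139 : sm gc N14809 = N10460 := ded_32_1 (flp_h L89333) (flp_c L87025) L126137
theorem L126146 : sm gg N10188 = N14810 := rfl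
theorem L126148 : sm gb N14810 = N10196 := ded_23_1 (flp_g L87103) (flp_b L87039) L126146
theorem L126150 : sm gd N14810 = N10297 := ded_36_1 (flp_g L87956) (flp_d L87041) L126146
theorem L126152 : sm gf N14810 = N14810 := ded_45_1 (flp_g L126146) L87043 L60191 (flp_f L87043) L126146
theorem L126153 : sm gh N10188 = N14811 := rfl
theorem L126155 : sm gb N14811 = N10197 := ded_25_1 (flp_h L87109) (flp_b L87039) L126153
theorem L126157 : sm gf N14811 = N10190 := ded_47_1 (flp_h L87051) (flp_f L87043) L126153
theorem L126159 : sm gj N14811 = N10189 := ded_52_1 (flp_h L87045) L87037 L126153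
theorem L126161 : sm gd N10189 = N14812 := rfl
theorem L126163 : sm gb N14812 = N10198 := ded_20_1 (flp_d L87116) (flp_b L87047) L126161
theorem L126165 : sm gf N14812 = N10191 := ded_35_2 (flp_d L87060) (flp_f L87049) L126161
theorem L126167 : sm gh N14812 = N10299 := ded_38_2 (flp_d L87971) (flp_h L60835) (flp_d L60181) L87045 L126161
theorem L126169 : sm gi N10189 = N14813 := rfl
theorem L126171 : sm gb N14813 = N10199 := ded_26_1 (flp_i L87123) (flp_b L87047) L126169
theorem L126173 : sm gf N14813 = N10192 := ded_48_1 (flp_i L87070) (flp_f L87049) L126169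
theorem L126175 : sm gd N10190 = N14814 := rfl
theorem L126177 : sm gb N14814 = N10200 := ded_20_1 (flp_d L87128) (flp_b L87053) L126175
theorem L126179 : sm gg N14814 = N14814 := ded_36_2 (flp_d L126175) L87057 L126175
theorem L126180 : sm gj N14814 = N10191 := ded_37_2 (flp_d L87060) (flp_j L87058) L126175
theorem L126182 : sm ge N14814 = N10465 := ded_34_2 (flp_d L89375) L61804 (flp_d L60223) (flp_e L87055) L126175
theorem L126184 : sm gh N14814 = N10301 := ded_38_2 (flp_d L87984) (flp_h L60842) (flp_d L60187) L87051 L126175
theorem L126186 : sm gi N10190 = N14815 := rfl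
theorem L126188 : sm gb N14815 = N10201 := ded_26_1 (flp_i L87138) (flp_b L87053) L126186
theorem L126190 : sm ge N14815 = N10195 := ded_44_1 (flp_i L87094) (flp_e L87055) L126186
theorem L126192 : sm gg N14815 = N14815 := ded_51_1 (flp_i L126186) L87057 L126186
theorem L126193 : sm gj N14815 = N10192 := ded_53_1 (flp_i L87070) (flp_j L87058) L126186
theorem L126195 : sm gc N10191 = N14816 := rfl
theorem L126197 : sm ge N14816 = N10467 := ded_28_2 (flp_c L89394) (flp_e L87066) L126195
theorem L126199 : sm gg N14816 = N10193 := ded_30_2 (flp_c L87078) (flp_g L87064) L126195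
theorem L126201 : sm gh N14816 = N10303 := ded_32_2 (flp_c L88002) (flp_h L87068) L126195
theorem L126203 : sm gi N10191 = N14817 := rfl
theorem L126205 : sm gb N14817 = N10203 := ded_26_1 (flp_i L87155) (flp_b L87062) L126203
theorem L126207 : sm gd N14817 = N10192 := ded_39_1 (flp_i L87070) L87060 L126203
theorem L126209 : sm ge N14817 = N10468 := ded_44_1 (flp_i L89400) (flp_e L87066) L126203
theorem L126211 : sm gg N14817 = N10194 := ded_51_1 (flp_i L87085) (flp_g L87064) L126203
theorem L126213 : sm gb N10193 = N14818 := rfl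
theorem L126215 : sm ge N14818 = N10469 := ded_21_2 (flp_b L89408) (flp_e L87080) L126213
theorem L126217 : sm gj N14818 = N14818 := ded_24_2 (flp_b L126213) L87082 L126213
theorem L126218 : sm gh N14818 = N10305 := ded_25_2 (flp_b L88018) (flp_h L87083) L126213
theorem L126220 : sm gc N14818 = N10204 := ded_19_2 (flp_b L87164) (flp_c L60269) (flp_b L60202) L87078 L126213
theorem L126222 : sm gi N10193 = N14819 := rfl
theorem L126224 : sm gc N14819 = N10194 := ded_33_1 (flp_i L87085) L87078 L126222
theorem L126226 : sm ge N14819 = N10470 := ded_44_1 (flp_i L89416) (flp_e L87080) L126222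
theorem L126228 : sm gj N14819 = N14819 := ded_53_1 (flp_i L126222) L87082 L126222
theorem L126229 : sm gh N10194 = N14820 := rfl
theorem L126231 : sm gb N14820 = N10206 := ded_25_1 (flp_h L87179) (flp_b L87087) L126229
theorem L126233 : sm ge N14820 = N10471 := ded_43_1 (flp_h L89422) (flp_e L87091) L126229
theorem L126235 : sm gj N14820 = N14820 := ded_52_1 (flp_h L126229) L87093 L126229
theorem L126236 : sm gi N14820 = N10307 := ded_54_2 (flp_h L88032) (flp_i L60872) (flp_h L60207) L87085 L126229
theorem L126238 : sm gh N10196 = N14821 := rfl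
theorem L126240 : sm ga N14821 = N14821 := ded_17_1 (flp_h L126238) L87105 L126238
theorem L126241 : sm gf N14821 = N14821 := ded_47_1 (flp_h L126238) L87108 L126238
theorem L126242 : sm gg N14821 = N10197 := ded_50_1 (flp_h L87109) L87103 L126238
theorem L126244 : sm gd N10197 = N14822 := rfl
theorem L126246 : sm ga N14822 = N14822 := ded_12_1 (flp_d L126244) L87111 L126244
theorem L126247 : sm gf N14822 = N10200 := ded_35_2 (flp_d L87128) (flp_f L87112) L126244
theorem L126249 : sm gj N14822 = N10198 := ded_37_2 (flp_d L87116) (flp_j L87114) L126244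
theorem L126251 : sm gh N14822 = N10309 := ded_38_2 (flp_d L88047) (flp_h L60897) (flp_d L60236) L87109 L126244
theorem L126253 : sm gi N10197 = N14823 := rfl
theorem L126255 : sm ga N14823 = N14823 := ded_18_1 (flp_i L126253) L87111 L126253
theorem L126256 : sm gf N14823 = N10201 := ded_48_1 (flp_i L87138) (flp_f L87112) L126253
theorem L126258 : sm gj N14823 = N10199 := ded_53_1 (flp_i L87123) (flp_j L87114) L126253
theorem L126260 : sm gc N10198 = N14824 := rfl
theorem L126262 : sm ga N14824 = N14824 := ded_11_1 (flp_c L126260) L87118 L126260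
theorem L126263 : sm gf N14824 = N10202 := ded_29_2 (flp_c L87146) (flp_f L87119) L126260
theorem L126265 : sm gh N14824 = N10311 := ded_32_2 (flp_c L88063) (flp_h L87121) L126260
theorem L126267 : sm ge N10198 = N14825 := rfl
theorem L126269 : sm ga N14825 = N14825 := ded_13_1 (flp_e L126267) L87118 L126267
theorem L126270 : sm gh N14825 = N10312 := ded_43_2 (flp_e L88069) (flp_h L87121) L126267
theorem L126272 : sm gf N14825 = N10476 := ded_40_2 (flp_e L89466) L61868 (flp_e L60258) (flp_f L87119) L126267
theorem L126274 : sm gi N10198 = N14826 := rfl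
theorem L126276 : sm ga N14826 = N14826 := ded_18_1 (flp_i L126274) L87118 L126274
theorem L126277 : sm gd N14826 = N10199 := ded_39_1 (flp_i L87123) L87116 L126274
theorem L126279 : sm gf N14826 = N10203 := ded_48_1 (flp_i L87155) (flp_f L87119) L126274
theorem L126281 : sm gc N10200 = N14827 := rfl
theorem L126283 : sm ga N14827 = N14827 := ded_11_1 (flp_c L126281) L87130 L126281
theorem L126284 : sm ge N14827 = N10478 := ded_28_2 (flp_c L89480) (flp_e L87134) L126281
theorem L126286 : sm gg N14827 = N14827 := ded_30_2 (flp_c L126281) L87131 L126281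
theorem L126287 : sm gj N14827 = N10202 := ded_31_2 (flp_c L87146) (flp_j L87132) L126281
theorem L126289 : sm gh N14827 = N10314 := ded_32_2 (flp_c L88082) (flp_h L87136) L126281
theorem L126291 : sm gi N10200 = N14828 := rfl
theorem L126293 : sm ga N14828 = N14828 := ded_18_1 (flp_i L126291) L87130 L126291
theorem L126294 : sm gd N14828 = N10201 := ded_39_1 (flp_i L87138) L87128 L126291
theorem L126296 : sm ge N14828 = N10479 := ded_44_1 (flp_i L89489) (flp_e L87134) L126291
theorem L126298 : sm gg N14828 = N14828 := ded_51_1 (flp_i L126291) L87131 L126291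
theorem L126299 : sm gj N14828 = N10203 := ded_53_1 (flp_i L87155) (flp_j L87132) L126291
theorem L126301 : sm gb N10202 = N14829 := rfl
theorem L126303 : sm ge N14829 = N10480 := ded_21_2 (flp_b L89497) (flp_e L87149) L126301
theorem L126305 : sm gg N14829 = N10204 := ded_23_2 (flp_b L87164) (flp_g L87151) L126301
theorem L126307 : sm gh N14829 = N10316 := ded_25_2 (flp_b L88101) (flp_h L87153) L126301
theorem L126309 : sm gi N10202 = N14830 := rfl
theorem L126311 : sm ga N14830 = N14830 := ded_18_1 (flp_i L126309) L87148 L126309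
theorem L126312 : sm gc N14830 = N10203 := ded_33_1 (flp_i L87155) L87146 L126309
theorem L126314 : sm ge N14830 = N10481 := ded_44_1 (flp_i L89504) (flp_e L87149) L126309
theorem L126316 : sm gg N14830 = N10205 := ded_51_1 (flp_i L87171) (flp_g L87151) L126309
theorem L126318 : sm gh N10203 = N14831 := rfl
theorem L126320 : sm ga N14831 = N14831 := ded_17_1 (flp_h L126318) L87157 L126318
theorem L126321 : sm ge N14831 = N10482 := ded_43_1 (flp_h L89512) (flp_e L87160) L126318
theorem L126323 : sm gg N14831 = N10206 := ded_50_1 (flp_h L87179) (flp_g L87162) L126318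
theorem L126325 : sm gi N14831 = N10318 := ded_54_2 (flp_h L88118) (flp_i L60943) (flp_h L60260) L87155 L126318
theorem L126327 : sm ga N10204 = N14832 := rfl
theorem L126329 : sm ge N14832 = N10483 := ded_13_2 (flp_a L89520) (flp_e L87166) L126327
theorem L126331 : sm gj N14832 = N14832 := ded_16_2 (flp_a L126327) L87168 L126327
theorem L126332 : sm gh N14832 = N10319 := ded_17_2 (flp_a L88125) (flp_h L87169) L126327
theorem L126334 : sm gb N14832 = N14832 := ded_10_2 (flp_a L126327) (flp_b L87164) L60271 L87164 L126327
theorem L126335 : sm gi N10204 = N14833 := rfl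
theorem L126337 : sm gb N14833 = N10205 := ded_26_1 (flp_i L87171) L87164 L126335
theorem L126339 : sm ge N14833 = N10484 := ded_44_1 (flp_i L89528) (flp_e L87166) L126335
theorem L126341 : sm gj N14833 = N14833 := ded_53_1 (flp_i L126335) L87168 L126335
theorem L126342 : sm gh N10205 = N14834 := rfl
theorem L126344 : sm ga N14834 = N14834 := ded_17_1 (flp_h L126342) L87173 L126342
theorem L126345 : sm gc N14834 = N10206 := ded_32_1 (flp_h L87179) (flp_c L87174) L126342
theorem L126347 : sm ge N14834 = N10485 := ded_43_1 (flp_h L89535) (flp_e L87176) L126342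
theorem L126349 : sm gj N14834 = N14834 := ded_52_1 (flp_h L126342) L87178 L126342
theorem L126350 : sm gi N14834 = N10321 := ded_54_2 (flp_h L88140) (flp_i L60958) (flp_h L60275) L87171 L126342
theorem L126352 : sm gd N10207 = N14835 := rfl
theorem L126358 : sm gi N14835 = N10261 := ded_39_2 (flp_d L87655) (flp_i L87194) L126352
theorem L126360 : sm ge N14835 = N11260 := ded_34_2 (flp_d L96327) (flp_e L66600) (flp_d L60299) L87187 L126352
theorem L126362 : sm gg N10207 = N14836 := rfl
theorem L126365 : sm gb N14836 = N10213 := ded_23_1 (flp_g L87244) (flp_b L87190) L126362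
theorem L126368 : sm ge N14836 = N10208 := ded_41_1 (flp_g L87196) L87187 L126362
theorem L126370 : sm gi N14836 = N10262 := ded_51_2 (flp_g L87663) (flp_i L87194) L126362
theorem L126372 : sm gh N10207 = N14837 := rfl
theorem L126381 : sm gj N10208 = N14838 := rfl
theorem L126384 : sm gb N14838 = N10215 := ded_24_1 (flp_j L87263) (flp_b L87199) L126381
theorem L126387 : sm gd N14838 = N11263 := ded_37_1 (flp_j L96359) (flp_d L87202) L126381
theorem L126390 : sm gi N14838 = N10264 := ded_53_2 (flp_j L87680) (flp_i L87204) L126381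
theorem L126393 : sm gh N10208 = N14839 := rfl
theorem L126412 : sm gi N10209 = N14841 := rfl
theorem L126421 : sm gh N14841 = N10266 := ded_54_1 (flp_i L87700) (flp_h L60627) (flp_i L60302) L87207 L126412
theorem L126451 : sm gg N10212 = N14845 := rfl
theorem L126453 : sm ga N14845 = N10228 := ded_15_1 (flp_g L87389) (flp_a L87237) L126451
theorem L126455 : sm gd N14845 = N10213 := ded_36_1 (flp_g L87244) L87235 L126451
theorem L126457 : sm ge N14845 = N11268 := ded_41_1 (flp_g L96408) (flp_e L87242) L126451
theorem L126459 : sm gi N14845 = N10267 := ded_51_2 (flp_g L87710) (flp_i L87240) L126451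
theorem L126461 : sm gh N10212 = N14846 := rfl
theorem L126463 : sm ga N14846 = N10229 := ded_17_1 (flp_h L87398) (flp_a L87237) L126461
theorem L126465 : sm ge N14846 = N11269 := ded_43_1 (flp_h L96416) (flp_e L87242) L126461
theorem L126468 : sm gf N10213 = N14847 := rfl
theorem L126470 : sm ga N14847 = N10230 := ded_14_1 (flp_f L87404) (flp_a L87246) L126468
theorem L126472 : sm gc N14847 = N10221 := ded_29_1 (flp_f L87324) (flp_c L87248) L126468
theorem L126474 : sm gi N14847 = N10269 := ded_48_2 (flp_f L87725) (flp_i L87252) L126468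
theorem L126477 : sm gj N10213 = N14848 := rfl
theorem L126481 : sm gc N14848 = N10222 := ded_31_1 (flp_j L87332) (flp_c L87248) L126477
theorem L126488 : sm gh N10213 = N14849 := rfl
theorem L126498 : sm gd N10214 = N14850 := rfl
theorem L126500 : sm ga N14850 = N10233 := ded_12_1 (flp_d L87431) (flp_a L87256) L126498
theorem L126503 : sm gi N10214 = N14851 := rfl
theorem L126514 : sm gh N10215 = N14852 := rfl
theorem L126522 : sm gj N14852 = N10216 := ded_52_1 (flp_h L87275) L87263 L126514
theorem L126524 : sm gd N10216 = N14853 := rfl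
theorem L126529 : sm gg N14853 = N10217 := ded_36_2 (flp_d L87284) (flp_g L87282) L126524
theorem L126534 : sm gi N10216 = N14854 := rfl
theorem L126536 : sm ga N14854 = N10237 := ded_18_1 (flp_i L87463) (flp_a L87277) L126534
theorem L126538 : sm gc N14854 = N10227 := ded_33_1 (flp_i L87378) (flp_c L87279) L126534
theorem L126553 : sm gi N10217 = N14856 := rfl
theorem L126560 : sm gf N14856 = N10220 := ded_48_1 (flp_i L87314) (flp_f L87288) L126553
theorem L126564 : sm gf N10219 = N14857 := rfl
theorem L126566 : sm ga N14857 = N10240 := ded_14_1 (flp_f L87490) (flp_a L87307) L126564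
theorem L126570 : sm gh N14857 = N11277 := ded_47_2 (flp_f L96488) (flp_h L87312) L126564
theorem L126582 : sm gj N10221 = N14859 := rfl
theorem L126584 : sm ga N14859 = N10242 := ded_16_1 (flp_j L87506) (flp_a L87326) L126582
theorem L126586 : sm gb N14859 = N14859 := ded_24_1 (flp_j L126582) L87328 L126582
theorem L126587 : sm ge N14859 = N14859 := ded_42_1 (flp_j L126582) L87331 L126582
theorem L126588 : sm gf N14859 = N10222 := ded_46_1 (flp_j L87332) L87324 L126582
theorem L126590 : sm gi N14859 = N10276 := ded_53_2 (flp_j L87787) (flp_i L87329) L126582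
theorem L126592 : sm gh N10221 = N14860 := rfl
theorem L126594 : sm ga N14860 = N10243 := ded_17_1 (flp_h L87515) (flp_a L87326) L126592
theorem L126598 : sm gf N14860 = N10223 := ded_47_1 (flp_h L87342) L87324 L126592
theorem L126600 : sm gh N10222 = N14861 := rfl
theorem L126602 : sm ga N14861 = N10244 := ded_17_1 (flp_h L87522) (flp_a L87334) L126600
theorem L126608 : sm gj N14861 = N10223 := ded_52_1 (flp_h L87342) L87332 L126600
theorem L126610 : sm gd N10223 = N14862 := rfl
theorem L126612 : sm ga N14862 = N10245 := ded_12_1 (flp_d L87531) (flp_a L87344) L126610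
theorem L126615 : sm gg N14862 = N10224 := ded_36_2 (flp_d L87351) (flp_g L87349) L126610
theorem L126618 : sm gi N10223 = N14863 := rfl
theorem L126627 : sm gh N14863 = N10280 := ded_54_1 (flp_i L87822) (flp_h L60714) (flp_i L60367) L87342 L126618
theorem L126629 : sm gc N10224 = N14864 := rfl
theorem L126631 : sm ga N14864 = N10247 := ded_11_1 (flp_c L87548) (flp_a L87353) L126629
theorem L126635 : sm gi N10224 = N14865 := rfl
theorem L126637 : sm ga N14865 = N10248 := ded_18_1 (flp_i L87552) (flp_a L87353) L126635
theorem L126640 : sm gd N14865 = N10225 := ded_39_1 (flp_i L87358) L87351 L126635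
theorem L126644 : sm gi N10226 = N14866 := rfl
theorem L126652 : sm gj N14866 = N10227 := ded_53_1 (flp_i L87378) (flp_j L87375) L126644
theorem L126656 : sm gf N10228 = N14867 := rfl
theorem L126658 : sm gb N14867 = N14867 := ded_22_1 (flp_f L126656) L87391 L126656
theorem L126659 : sm gd N14867 = N10230 := ded_35_1 (flp_f L87404) (flp_d L87392) L126656
theorem L126661 : sm gi N14867 = N10284 := ded_48_2 (flp_f L87859) (flp_i L87396) L126656
theorem L126663 : sm gj N10228 = N14868 := rfl
theorem L126665 : sm gb N14868 = N14868 := ded_24_1 (flp_j L126663) L87391 L126663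
theorem L126666 : sm gd N14868 = N10231 := ded_37_1 (flp_j L87412) (flp_d L87392) L126663
theorem L126668 : sm ge N14868 = N11284 := ded_42_1 (flp_j L96556) (flp_e L87394) L126663
theorem L126670 : sm gi N14868 = N10285 := ded_53_2 (flp_j L87864) (flp_i L87396) L126663
theorem L126672 : sm gg N14868 = N14868 := ded_49_1 (flp_j L126663) (flp_g L87389) L60411 L87389 L126663
theorem L126673 : sm gh N10228 = N14869 := rfl
theorem L126675 : sm gb N14869 = N14869 := ded_25_1 (flp_h L126673) L87391 L126673
theorem L126676 : sm ge N14869 = N11285 := ded_43_1 (flp_h L96564) (flp_e L87394) L126673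
theorem L126678 : sm gg N14869 = N10229 := ded_50_1 (flp_h L87398) L87389 L126673
theorem L126680 : sm gd N10229 = N14870 := rfl
theorem L126684 : sm gh N14870 = N10233 := ded_38_2 (flp_d L87431) (flp_h L60425) L60408 L87398 L126680
theorem L126686 : sm gi N10229 = N14871 := rfl
theorem L126688 : sm gb N14871 = N14871 := ded_26_1 (flp_i L126686) L87400 L126686
theorem L126689 : sm ge N14871 = N11287 := ded_44_1 (flp_i L96576) (flp_e L87401) L126686
theorem L126691 : sm gj N14871 = N14871 := ded_53_1 (flp_i L126686) L87403 L126686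
theorem L126692 : sm gh N14871 = N10288 := ded_54_1 (flp_i L87886) (flp_h L60767) (flp_i L60412) L87398 L126686
theorem L126694 : sm gj N10230 = N14872 := rfl
theorem L126696 : sm gb N14872 = N14872 := ded_24_1 (flp_j L126694) L87406 L126694
theorem L126697 : sm gc N14872 = N10242 := ded_31_1 (flp_j L87506) (flp_c L87407) L126694
theorem L126699 : sm ge N14872 = N14872 := ded_42_1 (flp_j L126694) L87411 L126694
theorem L126700 : sm gf N14872 = N10231 := ded_46_1 (flp_j L87412) L87404 L126694
theorem L126702 : sm gi N14872 = N10289 := ded_53_2 (flp_j L87892) (flp_i L87409) L126694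
theorem L126704 : sm gh N10230 = N14873 := rfl
theorem L126707 : sm gc N14873 = N10243 := ded_32_1 (flp_h L87515) (flp_c L87407) L126704
theorem L126710 : sm gf N14873 = N10232 := ded_47_1 (flp_h L87422) L87404 L126704
theorem L126712 : sm gh N10231 = N14874 := rfl
theorem L126715 : sm gc N14874 = N10244 := ded_32_1 (flp_h L87522) (flp_c L87415) L126712
theorem L126720 : sm gj N14874 = N10232 := ded_52_1 (flp_h L87422) L87412 L126712
theorem L126722 : sm gd N10232 = N14875 := rfl
theorem L126725 : sm gg N14875 = N10233 := ded_36_2 (flp_d L87431) (flp_g L87429) L126722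
theorem L126738 : sm gc N10233 = N14877 := rfl
theorem L126741 : sm gd N14877 = N10247 := ded_27_2 (flp_c L87548) (flp_d L60512) (flp_c L60428) L87431 L126738
theorem L126743 : sm ge N10233 = N14878 := rfl
theorem L126747 : sm gd N14878 = N10238 := ded_34_1 (flp_e L87473) (flp_d L60452) (flp_e L60430) L87431 L126743
theorem L126749 : sm gi N10233 = N14879 := rfl
theorem L126755 : sm gd N10235 = N14880 := rfl
theorem L126760 : sm gj N14880 = N10236 := ded_37_2 (flp_d L87454) (flp_j L87452) L126755
theorem L126763 : sm gh N14880 = N11294 := ded_38_2 (flp_d L96634) (flp_h L66808) (flp_d L60438) L87445 L126755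
theorem L126776 : sm ge N10236 = N14882 := rfl
theorem L126794 : sm gf N10238 = N14884 := rfl
theorem L126799 : sm gh N14884 = N11296 := ded_47_2 (flp_f L96650) (flp_h L87478) L126794
theorem L126803 : sm gi N10238 = N14885 := rfl
theorem L126811 : sm gg N10240 = N14886 := rfl
theorem L126815 : sm gh N14886 = N11297 := ded_50_2 (flp_g L96658) (flp_h L87495) L126811
theorem L126826 : sm gg N10242 = N14888 := rfl
theorem L126828 : sm gb N14888 = N10250 := ded_23_1 (flp_g L87571) (flp_b L87508) L126826
theorem L126830 : sm ge N14888 = N14888 := ded_41_1 (flp_g L126826) L87510 L126826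
theorem L126831 : sm gi N14888 = N10297 := ded_51_2 (flp_g L87956) (flp_i L87513) L126826
theorem L126833 : sm gf N14888 = N14888 := ded_45_1 (flp_g L126826) L87511 L60503 (flp_f L87511) L126826
theorem L126834 : sm gh N10242 = N14889 := rfl
theorem L126836 : sm gb N14889 = N10251 := ded_25_1 (flp_h L87579) (flp_b L87508) L126834
theorem L126838 : sm ge N14889 = N14889 := ded_43_1 (flp_h L126834) L87510 L126834
theorem L126839 : sm gf N14889 = N10244 := ded_47_1 (flp_h L87522) (flp_f L87511) L126834
theorem L126841 : sm gj N14889 = N10243 := ded_52_1 (flp_h L87515) L87506 L126834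
theorem L126843 : sm gd N10243 = N14890 := rfl
theorem L126845 : sm gb N14890 = N10252 := ded_20_1 (flp_d L87588) (flp_b L87517) L126843
theorem L126847 : sm gf N14890 = N10245 := ded_35_2 (flp_d L87531) (flp_f L87520) L126843
theorem L126849 : sm gi N10243 = N14891 := rfl
theorem L126851 : sm gb N14891 = N10253 := ded_26_1 (flp_i L87593) (flp_b L87517) L126849
theorem L126856 : sm gh N14891 = N10300 := ded_54_1 (flp_i L87977) (flp_h L60835) (flp_i L60492) L87515 L126849
theorem L126858 : sm gd N10244 = N14892 := rfl
theorem L126860 : sm gb N14892 = N10254 := ded_20_1 (flp_d L87602) (flp_b L87524) L126858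
theorem L126862 : sm gg N14892 = N14892 := ded_36_2 (flp_d L126858) L87528 L126858
theorem L126863 : sm gj N14892 = N10245 := ded_37_2 (flp_d L87531) (flp_j L87529) L126858
theorem L126865 : sm ge N14892 = N14892 := ded_34_2 (flp_d L126858) L87526 L60535 (flp_e L87526) L126858
theorem L126866 : sm gi N10244 = N14893 := rfl
theorem L126875 : sm gh N14893 = N10302 := ded_54_1 (flp_i L87993) (flp_h L60842) (flp_i L60501) L87522 L126866
theorem L126877 : sm gc N10245 = N14894 := rfl
theorem L126879 : sm ge N14894 = N14894 := ded_28_2 (flp_c L126877) L87537 L126877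
theorem L126880 : sm gg N14894 = N10247 := ded_30_2 (flp_c L87548) (flp_g L87535) L126877
theorem L126882 : sm gi N10245 = N14895 := rfl
theorem L126884 : sm gb N14895 = N10257 := ded_26_1 (flp_i L87627) (flp_b L87533) L126882
theorem L126886 : sm gd N14895 = N10246 := ded_39_1 (flp_i L87538) L87531 L126882
theorem L126891 : sm gb N10247 = N14896 := rfl
theorem L126893 : sm ge N14896 = N14896 := ded_21_2 (flp_b L126891) L87550 L126891
theorem L126894 : sm gj N14896 = N14896 := ded_24_2 (flp_b L126891) L87551 L126891
theorem L126895 : sm gc N14896 = N10258 := ded_19_2 (flp_b L87635) (flp_c L60587) (flp_b L60514) L87548 L126891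
theorem L126897 : sm gi N10247 = N14897 := rfl
theorem L126899 : sm gc N14897 = N10248 := ded_33_1 (flp_i L87552) L87548 L126897
theorem L126903 : sm gh N10248 = N14898 := rfl
theorem L126909 : sm gd N14898 = N10307 := ded_38_1 (flp_h L88032) L60876 (flp_h L60525) (flp_d L87556) L126903
theorem L126911 : sm gh N10250 = N14899 := rfl
theorem L126913 : sm ga N14899 = N14899 := ded_17_1 (flp_h L126911) L87573 L126911
theorem L126914 : sm gc N14899 = N14899 := ded_32_1 (flp_h L126911) L87574 L126911
theorem L126915 : sm ge N14899 = N14899 := ded_43_1 (flp_h L126911) L87575 L126911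
theorem L126916 : sm gf N14899 = N14899 := ded_47_1 (flp_h L126911) L87578 L126911
theorem L126917 : sm gg N14899 = N10251 := ded_50_1 (flp_h L87579) L87571 L126911
theorem L126919 : sm gd N10251 = N14900 := rfl
theorem L126921 : sm ga N14900 = N14900 := ded_12_1 (flp_d L126919) L87581 L126919
theorem L126922 : sm gf N14900 = N10254 := ded_35_2 (flp_d L87602) (flp_f L87584) L126919
theorem L126924 : sm gj N14900 = N10252 := ded_37_2 (flp_d L87588) (flp_j L87586) L126919
theorem L126926 : sm gi N10251 = N14901 := rfl
theorem L126928 : sm ga N14901 = N14901 := ded_18_1 (flp_i L126926) L87581 L126926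
theorem L126929 : sm gc N14901 = N14901 := ded_33_1 (flp_i L126926) L87582 L126926
theorem L126930 : sm ge N14901 = N14901 := ded_44_1 (flp_i L126926) L87583 L126926
theorem L126931 : sm gf N14901 = N10255 := ded_48_1 (flp_i L87609) (flp_f L87584) L126926
theorem L126933 : sm gj N14901 = N10253 := ded_53_1 (flp_i L87593) (flp_j L87586) L126926
theorem L126935 : sm gh N14901 = N10310 := ded_54_1 (flp_i L88054) (flp_h L60897) (flp_i L60553) L87579 L126926
theorem L126937 : sm gc N10252 = N14902 := rfl
theorem L126939 : sm ga N14902 = N14902 := ded_11_1 (flp_c L126937) L87590 L126937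
theorem L126940 : sm gf N14902 = N10256 := ded_29_2 (flp_c L87620) (flp_f L87591) L126937
theorem L126942 : sm gd N14902 = N14902 := ded_27_2 (flp_c L126937) (flp_d L87588) L60558 L87588 L126937
theorem L126943 : sm ge N10252 = N14903 := rfl
theorem L126945 : sm ga N14903 = N14903 := ded_13_1 (flp_e L126943) L87590 L126943
theorem L126946 : sm gd N14903 = N14903 := ded_34_1 (flp_e L126943) (flp_d L87588) L60559 L87588 L126943
theorem L126947 : sm gf N14903 = N14903 := ded_40_2 (flp_e L126943) L87591 L60576 (flp_f L87591) L126943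
theorem L126948 : sm gi N10252 = N14904 := rfl
theorem L126950 : sm ga N14904 = N14904 := ded_18_1 (flp_i L126948) L87590 L126948
theorem L126951 : sm gd N14904 = N10253 := ded_39_1 (flp_i L87593) L87588 L126948
theorem L126953 : sm gf N14904 = N10257 := ded_48_1 (flp_i L87627) (flp_f L87591) L126948
theorem L126955 : sm gc N10254 = N14905 := rfl
theorem L126957 : sm ga N14905 = N14905 := ded_11_1 (flp_c L126955) L87604 L126955
theorem L126958 : sm ge N14905 = N14905 := ded_28_2 (flp_c L126955) L87608 L126955
theorem L126959 : sm gg N14905 = N14905 := ded_30_2 (flp_c L126955) L87605 L126955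
theorem L126960 : sm gj N14905 = N10256 := ded_31_2 (flp_c L87620) (flp_j L87606) L126955
theorem L126962 : sm gd N14905 = N14905 := ded_27_2 (flp_c L126955) (flp_d L87602) L60565 L87602 L126955
theorem L126963 : sm gi N10254 = N14906 := rfl
theorem L126965 : sm ga N14906 = N14906 := ded_18_1 (flp_i L126963) L87604 L126963
theorem L126966 : sm gd N14906 = N10255 := ded_39_1 (flp_i L87609) L87602 L126963
theorem L126968 : sm ge N14906 = N14906 := ded_44_1 (flp_i L126963) L87608 L126963
theorem L126969 : sm gg N14906 = N14906 := ded_51_1 (flp_i L126963) L87605 L126963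
theorem L126970 : sm gj N14906 = N10257 := ded_53_1 (flp_i L87627) (flp_j L87606) L126963
theorem L126972 : sm gb N10256 = N14907 := rfl
theorem L126974 : sm gd N14907 = N14907 := ded_20_2 (flp_b L126972) L87626 L126972
theorem L126975 : sm ge N14907 = N14907 := ded_21_2 (flp_b L126972) L87623 L126972
theorem L126976 : sm gg N14907 = N10258 := ded_23_2 (flp_b L87635) (flp_g L87624) L126972
theorem L126978 : sm gi N10256 = N14908 := rfl
theorem L126980 : sm ga N14908 = N14908 := ded_18_1 (flp_i L126978) L87622 L126978
theorem L126981 : sm gc N14908 = N10257 := ded_33_1 (flp_i L87627) L87620 L126978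
theorem L126983 : sm gd N14908 = N14908 := ded_39_1 (flp_i L126978) L87626 L126978
theorem L126984 : sm ge N14908 = N14908 := ded_44_1 (flp_i L126978) L87623 L126978
theorem L126985 : sm gg N14908 = N10259 := ded_51_1 (flp_i L87640) (flp_g L87624) L126978
theorem L126987 : sm gh N10257 = N14909 := rfl
theorem L126989 : sm ga N14909 = N14909 := ded_17_1 (flp_h L126987) L87629 L126987
theorem L126990 : sm ge N14909 = N14909 := ded_43_1 (flp_h L126987) L87632 L126987
theorem L126991 : sm gg N14909 = N10260 := ded_50_1 (flp_h L87648) (flp_g L87633) L126987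
theorem L126993 : sm gd N14909 = N10318 := ded_38_1 (flp_h L88118) L60946 (flp_h L60585) (flp_d L87630) L126987
theorem L126995 : sm ga N10258 = N14910 := rfl
theorem L126997 : sm gd N14910 = N14910 := ded_12_2 (flp_a L126995) L87637 L126995
theorem L126998 : sm ge N14910 = N14910 := ded_13_2 (flp_a L126995) L87638 L126995
theorem L126999 : sm gj N14910 = N14910 := ded_16_2 (flp_a L126995) L87639 L126995
theorem L127000 : sm gb N14910 = N14910 := ded_10_2 (flp_a L126995) (flp_b L87635) L60589 L87635 L126995
theorem L127001 : sm gi N10258 = N14911 := rfl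
theorem L127003 : sm gb N14911 = N10259 := ded_26_1 (flp_i L87640) L87635 L127001
theorem L127005 : sm gd N14911 = N14911 := ded_39_1 (flp_i L127001) L87637 L127001
theorem L127006 : sm ge N14911 = N14911 := ded_44_1 (flp_i L127001) L87638 L127001
theorem L127007 : sm gj N14911 = N14911 := ded_53_1 (flp_i L127001) L87639 L127001
theorem L127008 : sm gh N10259 = N14912 := rfl
theorem L127010 : sm ga N14912 = N14912 := ded_17_1 (flp_h L127008) L87642 L127008
theorem L127011 : sm gc N14912 = N10260 := ded_32_1 (flp_h L87648) (flp_c L87643) L127008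
theorem L127013 : sm ge N14912 = N14912 := ded_43_1 (flp_h L127008) L87646 L127008
theorem L127014 : sm gj N14912 = N14912 := ded_52_1 (flp_h L127008) L87647 L127008
theorem L127015 : sm gc N10261 = N14913 := rfl
theorem L127018 : sm ge N14913 = N11311 := ded_28_2 (flp_c L96778) (flp_e L87661) L127015
theorem L127022 : sm gg N10261 = N14914 := rfl
theorem L127025 : sm gb N14914 = N10267 := ded_23_1 (flp_g L87710) (flp_b L87658) L127022
theorem L127027 : sm gd N14914 = N10262 := ded_36_1 (flp_g L87663) L87655 L127022
theorem L127029 : sm ge N14914 = N11312 := ded_41_1 (flp_g L96785) (flp_e L87661) L127022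
theorem L127031 : sm gh N10261 = N14915 := rfl
theorem L127034 : sm gb N14915 = N10268 := ded_25_1 (flp_h L87718) (flp_b L87658) L127031
theorem L127036 : sm ge N14915 = N11313 := ded_43_1 (flp_h L96792) (flp_e L87661) L127031
theorem L127039 : sm gf N10262 = N14916 := rfl
theorem L127042 : sm gb N14916 = N10269 := ded_22_1 (flp_f L87725) (flp_b L87666) L127039
theorem L127046 : sm gj N10262 = N14917 := rfl
theorem L127049 : sm gb N14917 = N10270 := ded_24_1 (flp_j L87732) (flp_b L87666) L127046
theorem L127052 : sm ge N14917 = N10264 := ded_42_1 (flp_j L87680) (flp_e L87669) L127046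
theorem L127055 : sm gh N10262 = N14918 := rfl
theorem L127063 : sm gg N14918 = N10263 := ded_50_1 (flp_h L87671) L87663 L127055
theorem L127065 : sm gd N10263 = N14919 := rfl
theorem L127072 : sm gi N10263 = N14920 := rfl
theorem L127092 : sm gi N10265 = N14922 := rfl
theorem L127100 : sm gg N14922 = N10266 := ded_51_1 (flp_i L87700) (flp_g L87697) L127092
theorem L127102 : sm gf N10267 = N14923 := rfl
theorem L127104 : sm ga N14923 = N10284 := ded_14_1 (flp_f L87859) (flp_a L87712) L127102
theorem L127106 : sm gd N14923 = N10269 := ded_35_1 (flp_f L87725) (flp_d L87714) L127102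
theorem L127108 : sm gj N10267 = N14924 := rfl
theorem L127110 : sm ga N14924 = N10285 := ded_16_1 (flp_j L87864) (flp_a L87712) L127108
theorem L127112 : sm gd N14924 = N10270 := ded_37_1 (flp_j L87732) (flp_d L87714) L127108
theorem L127114 : sm ge N14924 = N11317 := ded_42_1 (flp_j L96828) (flp_e L87716) L127108
theorem L127116 : sm gg N14924 = N14924 := ded_49_1 (flp_j L127108) (flp_g L87710) L60650 L87710 L127108
theorem L127117 : sm gh N10267 = N14925 := rfl
theorem L127119 : sm ga N14925 = N10286 := ded_17_1 (flp_h L87872) (flp_a L87712) L127117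
theorem L127121 : sm ge N14925 = N11318 := ded_43_1 (flp_h L96835) (flp_e L87716) L127117
theorem L127123 : sm gg N14925 = N10268 := ded_50_1 (flp_h L87718) L87710 L127117
theorem L127125 : sm gd N10268 = N14926 := rfl
theorem L127127 : sm ga N14926 = N10287 := ded_12_1 (flp_d L87879) (flp_a L87720) L127125
theorem L127133 : sm gi N10268 = N14927 := rfl
theorem L127135 : sm ga N14927 = N10288 := ded_18_1 (flp_i L87886) (flp_a L87720) L127133
theorem L127137 : sm ge N14927 = N11319 := ded_44_1 (flp_i L96842) (flp_e L87722) L127133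
theorem L127139 : sm gj N14927 = N14927 := ded_53_1 (flp_i L127133) L87724 L127133
theorem L127140 : sm gj N10269 = N14928 := rfl
theorem L127142 : sm ga N14928 = N10289 := ded_16_1 (flp_j L87892) (flp_a L87727) L127140
theorem L127144 : sm gc N14928 = N10276 := ded_31_1 (flp_j L87787) (flp_c L87729) L127140
theorem L127146 : sm ge N14928 = N14928 := ded_42_1 (flp_j L127140) L87731 L127140
theorem L127147 : sm gf N14928 = N10270 := ded_46_1 (flp_j L87732) L87725 L127140
theorem L127149 : sm gh N10269 = N14929 := rfl
theorem L127151 : sm ga N14929 = N10290 := ded_17_1 (flp_h L87900) (flp_a L87727) L127149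
theorem L127153 : sm gc N14929 = N10277 := ded_32_1 (flp_h L87795) (flp_c L87729) L127149
theorem L127156 : sm gf N14929 = N10271 := ded_47_1 (flp_h L87741) L87725 L127149
theorem L127158 : sm gh N10270 = N14930 := rfl
theorem L127160 : sm ga N14930 = N10291 := ded_17_1 (flp_h L87908) (flp_a L87734) L127158
theorem L127162 : sm gc N14930 = N10278 := ded_32_1 (flp_h L87803) (flp_c L87736) L127158
theorem L127167 : sm gj N14930 = N10271 := ded_52_1 (flp_h L87741) L87732 L127158
theorem L127169 : sm gd N10271 = N14931 := rfl
theorem L127171 : sm ga N14931 = N10292 := ded_12_1 (flp_d L87918) (flp_a L87743) L127169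
theorem L127173 : sm gg N14931 = N10272 := ded_36_2 (flp_d L87751) (flp_g L87749) L127169
theorem L127176 : sm gi N10271 = N14932 := rfl
theorem L127186 : sm gc N10272 = N14933 := rfl
theorem L127188 : sm ga N14933 = N10294 := ded_11_1 (flp_c L87933) (flp_a L87753) L127186
theorem L127192 : sm gd N14933 = N10281 := ded_27_2 (flp_c L87831) (flp_d L60723) (flp_c L60665) L87751 L127186
theorem L127213 : sm gg N10276 = N14936 := rfl
theorem L127215 : sm ga N14936 = N10297 := ded_15_1 (flp_g L87956) (flp_a L87789) L127213
theorem L127217 : sm gb N14936 = N14936 := ded_23_1 (flp_g L127213) L87791 L127213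
theorem L127218 : sm ge N14936 = N14936 := ded_41_1 (flp_g L127213) L87792 L127213
theorem L127219 : sm gf N14936 = N14936 := ded_45_1 (flp_g L127213) L87793 L60713 (flp_f L87793) L127213
theorem L127220 : sm gh N10276 = N14937 := rfl
theorem L127222 : sm ga N14937 = N10298 := ded_17_1 (flp_h L87962) (flp_a L87789) L127220
theorem L127224 : sm gb N14937 = N14937 := ded_25_1 (flp_h L127220) L87791 L127220
theorem L127225 : sm ge N14937 = N14937 := ded_43_1 (flp_h L127220) L87792 L127220
theorem L127226 : sm gf N14937 = N10278 := ded_47_1 (flp_h L87803) (flp_f L87793) L127220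
theorem L127228 : sm gj N14937 = N10277 := ded_52_1 (flp_h L87795) L87787 L127220
theorem L127230 : sm gd N10277 = N14938 := rfl
theorem L127232 : sm ga N14938 = N10299 := ded_12_1 (flp_d L87971) (flp_a L87797) L127230
theorem L127234 : sm gb N14938 = N14938 := ded_20_1 (flp_d L127230) L87799 L127230
theorem L127235 : sm gf N14938 = N10279 := ded_35_2 (flp_d L87813) (flp_f L87801) L127230
theorem L127237 : sm gi N10277 = N14939 := rfl
theorem L127245 : sm gd N10278 = N14940 := rfl
theorem L127247 : sm ga N14940 = N10301 := ded_12_1 (flp_d L87984) (flp_a L87805) L127245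
theorem L127249 : sm gb N14940 = N14940 := ded_20_1 (flp_d L127245) L87807 L127245
theorem L127250 : sm gg N14940 = N14940 := ded_36_2 (flp_d L127245) L87810 L127245
theorem L127251 : sm gj N14940 = N10279 := ded_37_2 (flp_d L87813) (flp_j L87811) L127245
theorem L127253 : sm ge N14940 = N10490 := ded_34_2 (flp_d L89584) L61963 (flp_d L60748) (flp_e L87808) L127245
theorem L127265 : sm gc N10279 = N14942 := rfl
theorem L127267 : sm ga N14942 = N10303 := ded_11_1 (flp_c L88002) (flp_a L87815) L127265
theorem L127269 : sm ge N14942 = N10492 := ded_28_2 (flp_c L89604) (flp_e L87820) L127265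
theorem L127271 : sm gg N14942 = N10281 := ded_30_2 (flp_c L87831) (flp_g L87818) L127265
theorem L127273 : sm gi N10279 = N14943 := rfl
theorem L127275 : sm ga N14943 = N10304 := ded_18_1 (flp_i L88008) (flp_a L87815) L127273
theorem L127278 : sm gd N14943 = N10280 := ded_39_1 (flp_i L87822) L87813 L127273
theorem L127280 : sm ge N14943 = N10493 := ded_44_1 (flp_i L89611) (flp_e L87820) L127273
theorem L127282 : sm gg N14943 = N10282 := ded_51_1 (flp_i L87838) (flp_g L87818) L127273
theorem L127284 : sm gb N10281 = N14944 := rfl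
theorem L127286 : sm ge N14944 = N10494 := ded_21_2 (flp_b L89620) (flp_e L87835) L127284
theorem L127288 : sm gj N14944 = N14944 := ded_24_2 (flp_b L127284) L87837 L127284
theorem L127289 : sm gc N14944 = N14944 := ded_19_2 (flp_b L127284) (flp_c L87831) L60727 L87831 L127284
theorem L127290 : sm gi N10281 = N14945 := rfl
theorem L127292 : sm ga N14945 = N10306 := ded_18_1 (flp_i L88025) (flp_a L87833) L127290
theorem L127294 : sm gc N14945 = N10282 := ded_33_1 (flp_i L87838) L87831 L127290
theorem L127296 : sm ge N14945 = N10495 := ded_44_1 (flp_i L89626) (flp_e L87835) L127290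
theorem L127299 : sm gh N10282 = N14946 := rfl
theorem L127301 : sm ga N14946 = N10307 := ded_17_1 (flp_h L88032) (flp_a L87840) L127299
theorem L127304 : sm ge N14946 = N10496 := ded_43_1 (flp_h L89635) (flp_e L87845) L127299
theorem L127307 : sm ge N10284 = N14947 := rfl
theorem L127309 : sm gb N14947 = N14947 := ded_21_1 (flp_e L127307) L87861 L127307
theorem L127310 : sm gd N14947 = N14947 := ded_34_1 (flp_e L127307) L87862 L60778 (flp_d L87862) L127307
theorem L127311 : sm gf N14947 = N11322 := ded_40_2 (flp_e L96869) (flp_f L67004) (flp_e L60765) L87859 L127307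
theorem L127313 : sm gj N10284 = N14948 := rfl
theorem L127315 : sm gb N14948 = N14948 := ded_24_1 (flp_j L127313) L87861 L127313
theorem L127316 : sm gd N14948 = N10289 := ded_37_1 (flp_j L87892) (flp_d L87862) L127313
theorem L127318 : sm gf N14948 = N10285 := ded_46_1 (flp_j L87864) L87859 L127313
theorem L127320 : sm gh N10284 = N14949 := rfl
theorem L127322 : sm gb N14949 = N14949 := ded_25_1 (flp_h L127320) L87861 L127320
theorem L127323 : sm gf N14949 = N10286 := ded_47_1 (flp_h L87872) L87859 L127320
theorem L127325 : sm gh N10285 = N14950 := rfl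
theorem L127327 : sm gb N14950 = N14950 := ded_25_1 (flp_h L127325) L87866 L127325
theorem L127328 : sm ge N14950 = N11325 := ded_43_1 (flp_h L96888) (flp_e L87869) L127325
theorem L127330 : sm gg N14950 = N14950 := ded_50_1 (flp_h L127325) L87871 L127325
theorem L127331 : sm gj N14950 = N10286 := ded_52_1 (flp_h L87872) L87864 L127325
theorem L127333 : sm gd N10286 = N14951 := rfl
theorem L127335 : sm gb N14951 = N14951 := ded_20_1 (flp_d L127333) L87874 L127333
theorem L127336 : sm gg N14951 = N10287 := ded_36_2 (flp_d L87879) (flp_g L87877) L127333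
theorem L127338 : sm ge N14951 = N14951 := ded_34_2 (flp_d L127333) L87875 L67021 (flp_e L87875) L127333
theorem L127339 : sm gh N14951 = N10292 := ded_38_2 (flp_d L87918) (flp_h L60787) (flp_d L60763) L87872 L127333
theorem L127341 : sm gi N10286 = N14952 := rfl
theorem L127343 : sm gb N14952 = N14952 := ded_26_1 (flp_i L127341) L87874 L127341
theorem L127344 : sm ge N14952 = N11326 := ded_44_1 (flp_i L96895) (flp_e L87875) L127341
theorem L127346 : sm gg N14952 = N10288 := ded_51_1 (flp_i L87886) (flp_g L87877) L127341
theorem L127348 : sm gc N10287 = N14953 := rfl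
theorem L127350 : sm ge N14953 = N14953 := ded_28_2 (flp_c L127348) L87883 L127348
theorem L127351 : sm gj N14953 = N14953 := ded_31_2 (flp_c L127348) L87882 L127348
theorem L127352 : sm gh N14953 = N10294 := ded_32_2 (flp_c L87933) (flp_h L87884) L127348
theorem L127354 : sm gi N10287 = N14954 := rfl
theorem L127356 : sm gb N14954 = N14954 := ded_26_1 (flp_i L127354) L87881 L127354
theorem L127357 : sm gd N14954 = N10288 := ded_39_1 (flp_i L87886) L87879 L127354
theorem L127359 : sm ge N14954 = N14954 := ded_44_1 (flp_i L127354) L87883 L127354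
theorem L127360 : sm gj N14954 = N14954 := ded_53_1 (flp_i L127354) L87882 L127354
theorem L127361 : sm gg N10289 = N14955 := rfl
theorem L127363 : sm gb N14955 = N14955 := ded_23_1 (flp_g L127361) L87894 L127361
theorem L127364 : sm gc N14955 = N10297 := ded_30_1 (flp_g L87956) (flp_c L87895) L127361
theorem L127366 : sm ge N14955 = N14955 := ded_41_1 (flp_g L127361) L87897 L127361
theorem L127367 : sm gf N14955 = N14955 := ded_45_1 (flp_g L127361) L87898 L60786 (flp_f L87898) L127361
theorem L127368 : sm gh N10289 = N14956 := rfl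
theorem L127370 : sm gb N14956 = N14956 := ded_25_1 (flp_h L127368) L87894 L127368
theorem L127371 : sm gc N14956 = N10298 := ded_32_1 (flp_h L87962) (flp_c L87895) L127368
theorem L127373 : sm ge N14956 = N14956 := ded_43_1 (flp_h L127368) L87897 L127368
theorem L127374 : sm gf N14956 = N10291 := ded_47_1 (flp_h L87908) (flp_f L87898) L127368
theorem L127376 : sm gj N14956 = N10290 := ded_52_1 (flp_h L87900) L87892 L127368
theorem L127378 : sm gd N10290 = N14957 := rfl
theorem L127380 : sm gb N14957 = N14957 := ded_20_1 (flp_d L127378) L87902 L127378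
theorem L127381 : sm gf N14957 = N10292 := ded_35_2 (flp_d L87918) (flp_f L87906) L127378
theorem L127383 : sm gi N10290 = N14958 := rfl
theorem L127391 : sm gd N10291 = N14959 := rfl
theorem L127393 : sm gb N14959 = N14959 := ded_20_1 (flp_d L127391) L87910 L127391
theorem L127394 : sm gg N14959 = N14959 := ded_36_2 (flp_d L127391) L87915 L127391
theorem L127395 : sm gj N14959 = N10292 := ded_37_2 (flp_d L87918) (flp_j L87916) L127391
theorem L127397 : sm ge N14959 = N14959 := ded_34_2 (flp_d L127391) L87913 L60818 (flp_e L87913) L127391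
theorem L127408 : sm gc N10292 = N14961 := rfl
theorem L127410 : sm ge N14961 = N14961 := ded_28_2 (flp_c L127408) L87923 L127408
theorem L127411 : sm gg N14961 = N10294 := ded_30_2 (flp_c L87933) (flp_g L87921) L127408
theorem L127413 : sm gd N14961 = N10303 := ded_27_2 (flp_c L88002) (flp_d L60851) (flp_c L60790) L87918 L127408
theorem L127415 : sm gi N10292 = N14962 := rfl
theorem L127423 : sm gb N10294 = N14963 := rfl
theorem L127425 : sm gd N14963 = N10305 := ded_20_2 (flp_b L88018) (flp_d L87937) L127423
theorem L127427 : sm ge N14963 = N14963 := ded_21_2 (flp_b L127423) L87935 L127423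
theorem L127428 : sm gj N14963 = N14963 := ded_24_2 (flp_b L127423) L87936 L127423
theorem L127429 : sm gc N14963 = N14963 := ded_19_2 (flp_b L127423) (flp_c L87933) L60798 L87933 L127423
theorem L127430 : sm gi N10294 = N14964 := rfl
theorem L127432 : sm gc N14964 = N10295 := ded_33_1 (flp_i L87939) L87933 L127430
theorem L127434 : sm gd N14964 = N10306 := ded_39_1 (flp_i L88025) (flp_d L87937) L127430
theorem L127438 : sm gh N10295 = N14965 := rfl
theorem L127443 : sm gh N10297 = N14966 := rfl
theorem L127445 : sm gb N14966 = N10308 := ded_25_1 (flp_h L88039) (flp_b L87958) L127443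
theorem L127447 : sm ge N14966 = N14966 := ded_43_1 (flp_h L127443) L87960 L127443
theorem L127448 : sm gf N14966 = N14966 := ded_47_1 (flp_h L127443) L87961 L127443
theorem L127449 : sm gg N14966 = N10298 := ded_50_1 (flp_h L87962) L87956 L127443
theorem L127451 : sm gd N10298 = N14967 := rfl
theorem L127453 : sm gb N14967 = N10309 := ded_20_1 (flp_d L88047) (flp_b L87964) L127451
theorem L127455 : sm gf N14967 = N10301 := ded_35_2 (flp_d L87984) (flp_f L87967) L127451
theorem L127457 : sm gj N14967 = N10299 := ded_37_2 (flp_d L87971) (flp_j L87969) L127451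
theorem L127459 : sm gi N10298 = N14968 := rfl
theorem L127461 : sm gb N14968 = N10310 := ded_26_1 (flp_i L88054) (flp_b L87964) L127459
theorem L127463 : sm ge N14968 = N14968 := ded_44_1 (flp_i L127459) L87966 L127459
theorem L127464 : sm gf N14968 = N10302 := ded_48_1 (flp_i L87993) (flp_f L87967) L127459
theorem L127466 : sm gj N14968 = N10300 := ded_53_1 (flp_i L87977) (flp_j L87969) L127459
theorem L127468 : sm gc N10299 = N14969 := rfl
theorem L127470 : sm gf N14969 = N10303 := ded_29_2 (flp_c L88002) (flp_f L87975) L127468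
theorem L127472 : sm ge N10299 = N14970 := rfl
theorem L127474 : sm gb N14970 = N10312 := ded_21_1 (flp_e L88069) (flp_b L87973) L127472
theorem L127476 : sm gd N14970 = N14970 := ded_34_1 (flp_e L127472) (flp_d L87971) L60839 L87971 L127472
theorem L127477 : sm gf N14970 = N10501 := ded_40_2 (flp_e L89678) L62036 (flp_e L60857) (flp_f L87975) L127472
theorem L127479 : sm gi N10299 = N14971 := rfl
theorem L127481 : sm gb N14971 = N10313 := ded_26_1 (flp_i L88075) (flp_b L87973) L127479
theorem L127483 : sm gd N14971 = N10300 := ded_39_1 (flp_i L87977) L87971 L127479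
theorem L127485 : sm gf N14971 = N10304 := ded_48_1 (flp_i L88008) (flp_f L87975) L127479
theorem L127487 : sm gc N10301 = N14972 := rfl
theorem L127489 : sm ge N14972 = N10503 := ded_28_2 (flp_c L89693) (flp_e L87991) L127487
theorem L127491 : sm gg N14972 = N14972 := ded_30_2 (flp_c L127487) L87988 L127487
theorem L127492 : sm gj N14972 = N10303 := ded_31_2 (flp_c L88002) (flp_j L87989) L127487
theorem L127494 : sm gi N10301 = N14973 := rfl
theorem L127496 : sm gb N14973 = N10315 := ded_26_1 (flp_i L88091) (flp_b L87986) L127494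
theorem L127498 : sm gd N14973 = N10302 := ded_39_1 (flp_i L87993) L87984 L127494
theorem L127500 : sm ge N14973 = N10504 := ded_44_1 (flp_i L89699) (flp_e L87991) L127494
theorem L127502 : sm gg N14973 = N14973 := ded_51_1 (flp_i L127494) L87988 L127494
theorem L127503 : sm gj N14973 = N10304 := ded_53_1 (flp_i L88008) (flp_j L87989) L127494
theorem L127505 : sm gb N10303 = N14974 := rfl
theorem L127507 : sm ge N14974 = N10505 := ded_21_2 (flp_b L89708) (flp_e L88004) L127505
theorem L127509 : sm gg N14974 = N10305 := ded_23_2 (flp_b L88018) (flp_g L88006) L127505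
theorem L127511 : sm gc N14974 = N10316 := ded_19_2 (flp_b L88101) (flp_c L60935) (flp_b L60853) L88002 L127505
theorem L127513 : sm gi N10303 = N14975 := rfl
theorem L127515 : sm gc N14975 = N10304 := ded_33_1 (flp_i L88008) L88002 L127513
theorem L127517 : sm ge N14975 = N10506 := ded_44_1 (flp_i L89715) (flp_e L88004) L127513
theorem L127519 : sm gg N14975 = N10306 := ded_51_1 (flp_i L88025) (flp_g L88006) L127513
theorem L127521 : sm gh N10304 = N14976 := rfl
theorem L127523 : sm gb N14976 = N10318 := ded_25_1 (flp_h L88118) (flp_b L88010) L127521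
theorem L127525 : sm ge N14976 = N10507 := ded_43_1 (flp_h L89722) (flp_e L88014) L127521
theorem L127527 : sm gg N14976 = N10307 := ded_50_1 (flp_h L88032) (flp_g L88016) L127521
theorem L127529 : sm ga N10305 = N14977 := rfl
theorem L127531 : sm gc N14977 = N10319 := ded_11_2 (flp_a L88125) (flp_c L88023) L127529
theorem L127533 : sm ge N14977 = N10508 := ded_13_2 (flp_a L89729) (flp_e L88020) L127529
theorem L127535 : sm gj N14977 = N14977 := ded_16_2 (flp_a L127529) L88022 L127529
theorem L127536 : sm gi N10305 = N14978 := rfl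
theorem L127538 : sm gb N14978 = N10306 := ded_26_1 (flp_i L88025) L88018 L127536
theorem L127540 : sm gc N14978 = N10320 := ded_33_1 (flp_i L88132) (flp_c L88023) L127536
theorem L127542 : sm ge N14978 = N10509 := ded_44_1 (flp_i L89736) (flp_e L88020) L127536
theorem L127544 : sm gj N14978 = N14978 := ded_53_1 (flp_i L127536) L88022 L127536
theorem L127545 : sm gh N10306 = N14979 := rfl
theorem L127547 : sm gc N14979 = N10307 := ded_32_1 (flp_h L88032) (flp_c L88027) L127545
theorem L127549 : sm ge N14979 = N10510 := ded_43_1 (flp_h L89745) (flp_e L88029) L127545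
theorem L127551 : sm gj N14979 = N14979 := ded_52_1 (flp_h L127545) L88031 L127545
theorem L127552 : sm gd N10308 = N14980 := rfl
theorem L127554 : sm ga N14980 = N14980 := ded_12_1 (flp_d L127552) L88041 L127552
theorem L127555 : sm gf N14980 = N14980 := ded_35_2 (flp_d L127552) L88044 L127552
theorem L127556 : sm gg N14980 = N10309 := ded_36_2 (flp_d L88047) (flp_g L88045) L127552
theorem L127558 : sm gi N10308 = N14981 := rfl
theorem L127560 : sm ga N14981 = N14981 := ded_18_1 (flp_i L127558) L88041 L127558
theorem L127561 : sm gc N14981 = N14981 := ded_33_1 (flp_i L127558) L88042 L127558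
theorem L127562 : sm ge N14981 = N14981 := ded_44_1 (flp_i L127558) L88043 L127558
theorem L127563 : sm gf N14981 = N14981 := ded_48_1 (flp_i L127558) L88044 L127558
theorem L127564 : sm gg N14981 = N10310 := ded_51_1 (flp_i L88054) (flp_g L88045) L127558
theorem L127566 : sm gc N10309 = N14982 := rfl
theorem L127568 : sm ga N14982 = N14982 := ded_11_1 (flp_c L127566) L88049 L127566
theorem L127569 : sm gf N14982 = N10314 := ded_29_2 (flp_c L88082) (flp_f L88050) L127566
theorem L127571 : sm gj N14982 = N10311 := ded_31_2 (flp_c L88063) (flp_j L88052) L127566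
theorem L127573 : sm gd N14982 = N14982 := ded_27_2 (flp_c L127566) (flp_d L88047) L60900 L88047 L127566
theorem L127574 : sm ge N10309 = N14983 := rfl
theorem L127576 : sm ga N14983 = N14983 := ded_13_1 (flp_e L127574) L88049 L127574
theorem L127577 : sm gj N14983 = N10312 := ded_42_2 (flp_e L88069) (flp_j L88052) L127574
theorem L127579 : sm gd N14983 = N14983 := ded_34_1 (flp_e L127574) (flp_d L88047) L60901 L88047 L127574
theorem L127580 : sm gf N14983 = N10514 := ded_40_2 (flp_e L89778) L62114 (flp_e L60924) (flp_f L88050) L127574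
theorem L127582 : sm gi N10309 = N14984 := rfl
theorem L127584 : sm ga N14984 = N14984 := ded_18_1 (flp_i L127582) L88049 L127582
theorem L127585 : sm gd N14984 = N10310 := ded_39_1 (flp_i L88054) L88047 L127582
theorem L127587 : sm gf N14984 = N10315 := ded_48_1 (flp_i L88091) (flp_f L88050) L127582
theorem L127589 : sm gj N14984 = N10313 := ded_53_1 (flp_i L88075) (flp_j L88052) L127582
theorem L127591 : sm gb N10311 = N14985 := rfl
theorem L127593 : sm gd N14985 = N14985 := ded_20_2 (flp_b L127591) L88068 L127591
theorem L127594 : sm gf N14985 = N10316 := ded_22_2 (flp_b L88101) (flp_f L88066) L127591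
theorem L127596 : sm ge N10311 = N14986 := rfl
theorem L127599 : sm gc N14986 = N10312 := ded_28_1 (flp_e L88069) L88063 L127596
theorem L127601 : sm gf N14986 = N10517 := ded_40_2 (flp_e L89800) L62132 (flp_e L60938) (flp_f L88066) L127596
theorem L127603 : sm gi N10311 = N14987 := rfl
theorem L127606 : sm gc N14987 = N10313 := ded_33_1 (flp_i L88075) L88063 L127603
theorem L127609 : sm gf N14987 = N10317 := ded_48_1 (flp_i L88108) (flp_f L88066) L127603
theorem L127611 : sm gi N10312 = N14988 := rfl
theorem L127615 : sm ge N14988 = N10313 := ded_44_1 (flp_i L88075) L88069 L127611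
theorem L127619 : sm gh N10313 = N14989 := rfl
theorem L127621 : sm ga N14989 = N14989 := ded_17_1 (flp_h L127619) L88077 L127619
theorem L127622 : sm gf N14989 = N10318 := ded_47_1 (flp_h L88118) (flp_f L88080) L127619
theorem L127624 : sm gb N10314 = N14990 := rfl
theorem L127626 : sm gd N14990 = N14990 := ded_20_2 (flp_b L127624) L88090 L127624
theorem L127627 : sm ge N14990 = N10521 := ded_21_2 (flp_b L89830) (flp_e L88085) L127624
theorem L127629 : sm gg N14990 = N14990 := ded_23_2 (flp_b L127624) L88087 L127624
theorem L127630 : sm gj N14990 = N10316 := ded_24_2 (flp_b L88101) (flp_j L88088) L127624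
theorem L127632 : sm gi N10314 = N14991 := rfl
theorem L127635 : sm gc N14991 = N10315 := ded_33_1 (flp_i L88091) L88082 L127632
theorem L127638 : sm ge N14991 = N10522 := ded_44_1 (flp_i L89837) (flp_e L88085) L127632
theorem L127641 : sm gj N14991 = N10317 := ded_53_1 (flp_i L88108) (flp_j L88088) L127632
theorem L127643 : sm gh N10315 = N14992 := rfl
theorem L127645 : sm ga N14992 = N14992 := ded_17_1 (flp_h L127643) L88093 L127643
theorem L127646 : sm ge N14992 = N10523 := ded_43_1 (flp_h L89847) (flp_e L88096) L127643
theorem L127648 : sm gg N14992 = N14992 := ded_50_1 (flp_h L127643) L88098 L127643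
theorem L127649 : sm gj N14992 = N10318 := ded_52_1 (flp_h L88118) (flp_j L88099) L127643
theorem L127651 : sm ga N10316 = N14993 := rfl
theorem L127653 : sm gd N14993 = N14993 := ded_12_2 (flp_a L127651) L88103 L127651
theorem L127654 : sm ge N14993 = N10524 := ded_13_2 (flp_a L89854) (flp_e L88104) L127651
theorem L127656 : sm gg N14993 = N10319 := ded_15_2 (flp_a L88125) (flp_g L88106) L127651
theorem L127658 : sm gb N14993 = N14993 := ded_10_2 (flp_a L127651) (flp_b L88101) L60937 L88101 L127651
theorem L127659 : sm gi N10316 = N14994 := rfl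
theorem L127661 : sm gb N14994 = N10317 := ded_26_1 (flp_i L88108) L88101 L127659
theorem L127663 : sm gd N14994 = N14994 := ded_39_1 (flp_i L127659) L88103 L127659
theorem L127664 : sm ge N14994 = N10525 := ded_44_1 (flp_i L89861) (flp_e L88104) L127659
theorem L127666 : sm gg N14994 = N10320 := ded_51_1 (flp_i L88132) (flp_g L88106) L127659
theorem L127668 : sm gh N10317 = N14995 := rfl
theorem L127670 : sm ga N14995 = N14995 := ded_17_1 (flp_h L127668) L88110 L127668
theorem L127671 : sm gc N14995 = N10318 := ded_32_1 (flp_h L88118) (flp_c L88111) L127668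
theorem L127673 : sm ge N14995 = N10526 := ded_43_1 (flp_h L89869) (flp_e L88114) L127668
theorem L127675 : sm gg N14995 = N10321 := ded_50_1 (flp_h L88140) (flp_g L88116) L127668
theorem L127677 : sm gi N10319 = N14996 := rfl
theorem L127679 : sm ga N14996 = N10320 := ded_18_1 (flp_i L88132) L88125 L127677
theorem L127681 : sm gb N14996 = N14996 := ded_26_1 (flp_i L127677) L88131 L127677
theorem L127682 : sm gd N14996 = N14996 := ded_39_1 (flp_i L127677) L88127 L127677
theorem L127683 : sm ge N14996 = N10527 := ded_44_1 (flp_i L89876) (flp_e L88128) L127677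
theorem L127685 : sm gj N14996 = N14996 := ded_53_1 (flp_i L127677) L88130 L127677
theorem L127686 : sm gh N10320 = N14997 := rfl
theorem L127688 : sm gb N14997 = N10321 := ded_25_1 (flp_h L88140) (flp_b L88134) L127686
theorem L127690 : sm ge N14997 = N10528 := ded_43_1 (flp_h L89885) (flp_e L88137) L127686
theorem L127692 : sm gj N14997 = N14997 := ded_52_1 (flp_h L127686) L88139 L127686
theorem L127693 : sm gd N10321 = N14998 := rfl
theorem L127695 : sm ga N14998 = N14998 := ded_12_1 (flp_d L127693) L88142 L127693
theorem L127696 : sm gj N14998 = N14998 := ded_37_2 (flp_d L127693) L88147 L127693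
theorem L127697 : sm gh N14998 = N14998 := ded_38_2 (flp_d L127693) (flp_h L88140) L60963 L88140 L127693
theorem L127698 : sm ge N10322 = N14999 := rfl
theorem L127701 : sm gb N14999 = N10324 := ded_21_1 (flp_e L88169) (flp_b L88151) L127698
theorem L127704 : sm gj N14999 = N10358 := ded_42_2 (flp_e L88479) (flp_j L88156) L127698
theorem L127708 : sm gg N10322 = N15000 := rfl
theorem L127711 : sm gb N15000 = N10325 := ded_23_1 (flp_g L88179) (flp_b L88151) L127708
theorem L127714 : sm gd N15000 = N11329 := ded_36_1 (flp_g L96922) (flp_d L88154) L127708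
theorem L127718 : sm gh N10322 = N15001 := rfl
theorem L127721 : sm gb N15001 = N10326 := ded_25_1 (flp_h L88189) (flp_b L88151) L127718
theorem L127726 : sm gj N15001 = N10360 := ded_52_1 (flp_h L88498) (flp_j L88156) L127718
theorem L127728 : sm gd N10323 = N15002 := rfl
theorem L127734 : sm gj N15002 = N10361 := ded_37_2 (flp_d L88506) (flp_j L88167) L127728
theorem L127736 : sm gh N15002 = N11331 := ded_38_2 (flp_d L96942) (flp_h L67055) (flp_d L60975) L88159 L127728
theorem L127738 : sm gi N10323 = N15003 := rfl
theorem L127746 : sm gj N15003 = N10362 := ded_53_1 (flp_i L88515) (flp_j L88167) L127738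
theorem L127749 : sm gd N10324 = N15004 := rfl
theorem L127751 : sm ga N15004 = N10334 := ded_12_1 (flp_d L88267) (flp_a L88171) L127749
theorem L127754 : sm gj N15004 = N10363 := ded_37_2 (flp_d L88525) (flp_j L88175) L127749
theorem L127758 : sm ge N15004 = N11333 := ded_34_2 (flp_d L96963) (flp_e L67067) (flp_d L60990) L88169 L127749
theorem L127760 : sm gg N10324 = N15005 := rfl
theorem L127762 : sm ga N15005 = N10335 := ded_15_1 (flp_g L88277) (flp_a L88171) L127760
theorem L127764 : sm gc N15005 = N10329 := ded_30_1 (flp_g L88219) (flp_c L88173) L127760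
theorem L127766 : sm ge N15005 = N10325 := ded_41_1 (flp_g L88179) L88169 L127760
theorem L127769 : sm gh N10324 = N15006 := rfl
theorem L127771 : sm ga N15006 = N10336 := ded_17_1 (flp_h L88285) (flp_a L88171) L127769
theorem L127773 : sm gc N15006 = N10330 := ded_32_1 (flp_h L88228) (flp_c L88173) L127769
theorem L127775 : sm ge N15006 = N10326 := ded_43_1 (flp_h L88189) L88169 L127769
theorem L127777 : sm gf N15006 = N15006 := ded_47_1 (flp_h L127769) L88178 L127769
theorem L127778 : sm gj N15006 = N10365 := ded_52_1 (flp_h L88543) (flp_j L88175) L127769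
theorem L127780 : sm gj N10325 = N15007 := rfl
theorem L127782 : sm ga N15007 = N10337 := ded_16_1 (flp_j L88295) (flp_a L88181) L127780
theorem L127784 : sm gc N15007 = N10331 := ded_31_1 (flp_j L88238) (flp_c L88183) L127780
theorem L127786 : sm gd N15007 = N11336 := ded_37_1 (flp_j L96994) (flp_d L88185) L127780
theorem L127790 : sm gg N15007 = N10366 := ded_49_1 (flp_j L88552) (flp_g L61229) (flp_j L60992) L88179 L127780
theorem L127792 : sm gh N10325 = N15008 := rfl
theorem L127794 : sm ga N15008 = N10338 := ded_17_1 (flp_h L88306) (flp_a L88181) L127792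
theorem L127796 : sm gc N15008 = N10332 := ded_32_1 (flp_h L88249) (flp_c L88183) L127792
theorem L127798 : sm gf N15008 = N15008 := ded_47_1 (flp_h L127792) L88188 L127792
theorem L127799 : sm gg N15008 = N10326 := ded_50_1 (flp_h L88189) L88179 L127792
theorem L127801 : sm gd N10326 = N15009 := rfl
theorem L127803 : sm ga N15009 = N10339 := ded_12_1 (flp_d L88314) (flp_a L88191) L127801
theorem L127807 : sm gj N15009 = N10368 := ded_37_2 (flp_d L88573) (flp_j L88197) L127801
theorem L127809 : sm gh N15009 = N11338 := ded_38_2 (flp_d L97013) (flp_h L67086) (flp_d L60990) L88189 L127801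
theorem L127811 : sm gi N10326 = N15010 := rfl
theorem L127813 : sm ga N15010 = N10340 := ded_18_1 (flp_i L88323) (flp_a L88191) L127811
theorem L127815 : sm gc N15010 = N10333 := ded_33_1 (flp_i L88257) (flp_c L88193) L127811
theorem L127817 : sm gf N15010 = N10328 := ded_48_1 (flp_i L88208) (flp_f L88195) L127811
theorem L127819 : sm gj N15010 = N10369 := ded_53_1 (flp_i L88581) (flp_j L88197) L127811
theorem L127821 : sm gh N15010 = N15010 := ded_54_1 (flp_i L127811) (flp_h L88189) L60994 L88189 L127811
theorem L127822 : sm ge N10327 = N15011 := rfl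
theorem L127824 : sm ga N15011 = N10341 := ded_13_1 (flp_e L88333) (flp_a L88201) L127822
theorem L127827 : sm gj N15011 = N10370 := ded_42_2 (flp_e L88590) (flp_j L88204) L127822
theorem L127832 : sm gi N10327 = N15012 := rfl
theorem L127834 : sm ga N15012 = N10342 := ded_18_1 (flp_i L88342) (flp_a L88201) L127832
theorem L127836 : sm gd N15012 = N10328 := ded_39_1 (flp_i L88208) L88199 L127832
theorem L127839 : sm gj N15012 = N10371 := ded_53_1 (flp_i L88599) (flp_j L88204) L127832
theorem L127841 : sm gf N10329 = N15013 := rfl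
theorem L127843 : sm ga N15013 = N10343 := ded_14_1 (flp_f L88350) (flp_a L88221) L127841
theorem L127845 : sm gb N15013 = N15013 := ded_22_1 (flp_f L127841) L88223 L127841
theorem L127850 : sm gj N10329 = N15014 := rfl
theorem L127852 : sm ga N15014 = N10344 := ded_16_1 (flp_j L88358) (flp_a L88221) L127850
theorem L127856 : sm ge N15014 = N10331 := ded_42_1 (flp_j L88238) (flp_e L88225) L127850
theorem L127859 : sm gg N15014 = N10373 := ded_49_1 (flp_j L88617) (flp_g L61266) (flp_j L61010) L88219 L127850
theorem L127861 : sm gh N10329 = N15015 := rfl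
theorem L127863 : sm ga N15015 = N10345 := ded_17_1 (flp_h L88368) (flp_a L88221) L127861
theorem L127865 : sm gb N15015 = N15015 := ded_25_1 (flp_h L127861) L88223 L127861
theorem L127866 : sm ge N15015 = N10332 := ded_43_1 (flp_h L88249) (flp_e L88225) L127861
theorem L127868 : sm gg N15015 = N10330 := ded_50_1 (flp_h L88228) L88219 L127861
theorem L127870 : sm gd N10330 = N15016 := rfl
theorem L127872 : sm ga N15016 = N10346 := ded_12_1 (flp_d L88376) (flp_a L88230) L127870
theorem L127874 : sm gb N15016 = N15016 := ded_20_1 (flp_d L127870) L88232 L127870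
theorem L127875 : sm gf N15016 = N15016 := ded_35_2 (flp_d L127870) L88235 L127870
theorem L127876 : sm gj N15016 = N10375 := ded_37_2 (flp_d L88635) (flp_j L88236) L127870
theorem L127878 : sm gh N15016 = N15016 := ded_38_2 (flp_d L127870) (flp_h L88228) L61013 L88228 L127870
theorem L127879 : sm gi N10330 = N15017 := rfl
theorem L127881 : sm ga N15017 = N10347 := ded_18_1 (flp_i L88384) (flp_a L88230) L127879
theorem L127883 : sm gb N15017 = N15017 := ded_26_1 (flp_i L127879) L88232 L127879
theorem L127884 : sm ge N15017 = N10333 := ded_44_1 (flp_i L88257) (flp_e L88233) L127879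
theorem L127886 : sm gf N15017 = N15017 := ded_48_1 (flp_i L127879) L88235 L127879
theorem L127887 : sm gj N15017 = N10376 := ded_53_1 (flp_i L88642) (flp_j L88236) L127879
theorem L127889 : sm gh N15017 = N15017 := ded_54_1 (flp_i L127879) (flp_h L88228) L61012 L88228 L127879
theorem L127890 : sm gh N10331 = N15018 := rfl
theorem L127892 : sm ga N15018 = N10348 := ded_17_1 (flp_h L88394) (flp_a L88240) L127890
theorem L127894 : sm gb N15018 = N15018 := ded_25_1 (flp_h L127890) L88242 L127890
theorem L127895 : sm gf N15018 = N15018 := ded_47_1 (flp_h L127890) L88245 L127890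
theorem L127896 : sm gg N15018 = N10377 := ded_50_1 (flp_h L88651) (flp_g L88247) L127890
theorem L127898 : sm gj N15018 = N10332 := ded_52_1 (flp_h L88249) L88238 L127890
theorem L127900 : sm gi N10332 = N15019 := rfl
theorem L127902 : sm ga N15019 = N10349 := ded_18_1 (flp_i L88403) (flp_a L88251) L127900
theorem L127904 : sm gb N15019 = N15019 := ded_26_1 (flp_i L127900) L88253 L127900
theorem L127905 : sm gf N15019 = N15019 := ded_48_1 (flp_i L127900) L88254 L127900
theorem L127906 : sm gg N15019 = N10333 := ded_51_1 (flp_i L88257) (flp_g L88255) L127900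
theorem L127908 : sm gh N15019 = N15019 := ded_54_1 (flp_i L127900) (flp_h L88249) L61022 L88249 L127900
theorem L127909 : sm gg N10334 = N15020 := rfl
theorem L127913 : sm gd N15020 = N10335 := ded_36_1 (flp_g L88277) L88267 L127909
theorem L127915 : sm ge N15020 = N11349 := ded_41_1 (flp_g L97128) (flp_e L88275) L127909
theorem L127918 : sm gh N10334 = N15021 := rfl
theorem L127925 : sm gj N15021 = N10380 := ded_52_1 (flp_h L88679) (flp_j L88271) L127918
theorem L127927 : sm gf N10335 = N15022 := rfl
theorem L127930 : sm gc N15022 = N10343 := ded_29_1 (flp_f L88350) (flp_c L88280) L127927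
theorem L127935 : sm gj N10335 = N15023 := rfl
theorem L127938 : sm gc N15023 = N10344 := ded_31_1 (flp_j L88358) (flp_c L88280) L127935
theorem L127940 : sm ge N15023 = N10337 := ded_42_1 (flp_j L88295) (flp_e L88282) L127935
theorem L127943 : sm gg N15023 = N10382 := ded_49_1 (flp_j L88695) (flp_g L61318) (flp_j L61060) L88277 L127935
theorem L127945 : sm gh N10335 = N15024 := rfl
theorem L127947 : sm gb N15024 = N15024 := ded_25_1 (flp_h L127945) L88279 L127945
theorem L127948 : sm gc N15024 = N10345 := ded_32_1 (flp_h L88368) (flp_c L88280) L127945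
theorem L127950 : sm ge N15024 = N10338 := ded_43_1 (flp_h L88306) (flp_e L88282) L127945
theorem L127952 : sm gg N15024 = N10336 := ded_50_1 (flp_h L88285) L88277 L127945
theorem L127954 : sm gd N10336 = N15025 := rfl
theorem L127956 : sm gb N15025 = N15025 := ded_20_1 (flp_d L127954) L88287 L127954
theorem L127957 : sm gf N15025 = N15025 := ded_35_2 (flp_d L127954) L88292 L127954
theorem L127958 : sm gj N15025 = N10384 := ded_37_2 (flp_d L88712) (flp_j L88293) L127954
theorem L127960 : sm gi N10336 = N15026 := rfl
theorem L127962 : sm gb N15026 = N15026 := ded_26_1 (flp_i L127960) L88287 L127960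
theorem L127963 : sm gc N15026 = N10347 := ded_33_1 (flp_i L88384) (flp_c L88288) L127960
theorem L127965 : sm ge N15026 = N10340 := ded_44_1 (flp_i L88323) (flp_e L88290) L127960
theorem L127967 : sm gf N15026 = N15026 := ded_48_1 (flp_i L127960) L88292 L127960
theorem L127968 : sm gj N15026 = N10385 := ded_53_1 (flp_i L88716) (flp_j L88293) L127960
theorem L127970 : sm gh N15026 = N15026 := ded_54_1 (flp_i L127960) (flp_h L88285) L61062 L88285 L127960
theorem L127971 : sm gh N10337 = N15027 := rfl
theorem L127973 : sm gb N15027 = N15027 := ded_25_1 (flp_h L127971) L88297 L127971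
theorem L127974 : sm gc N15027 = N10348 := ded_32_1 (flp_h L88394) (flp_c L88298) L127971
theorem L127976 : sm gf N15027 = N15027 := ded_47_1 (flp_h L127971) L88302 L127971
theorem L127977 : sm gg N15027 = N10386 := ded_50_1 (flp_h L88725) (flp_g L88304) L127971
theorem L127979 : sm gj N15027 = N10338 := ded_52_1 (flp_h L88306) L88295 L127971
theorem L127981 : sm gd N10338 = N15028 := rfl
theorem L127983 : sm gb N15028 = N15028 := ded_20_1 (flp_d L127981) L88308 L127981
theorem L127984 : sm gf N15028 = N15028 := ded_35_2 (flp_d L127981) L88311 L127981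
theorem L127985 : sm gg N15028 = N10339 := ded_36_2 (flp_d L88314) (flp_g L88312) L127981
theorem L127987 : sm gh N15028 = N11357 := ded_38_2 (flp_d L97200) (flp_h L67206) (flp_d L61069) L88306 L127981
theorem L127989 : sm gi N10338 = N15029 := rfl
theorem L127991 : sm gb N15029 = N15029 := ded_26_1 (flp_i L127989) L88308 L127989
theorem L127992 : sm gc N15029 = N10349 := ded_33_1 (flp_i L88403) (flp_c L88309) L127989
theorem L127994 : sm gf N15029 = N15029 := ded_48_1 (flp_i L127989) L88311 L127989
theorem L127995 : sm gg N15029 = N10340 := ded_51_1 (flp_i L88323) (flp_g L88312) L127989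
theorem L127997 : sm gh N15029 = N15029 := ded_54_1 (flp_i L127989) (flp_h L88306) L61071 L88306 L127989
theorem L127998 : sm ge N10339 = N15030 := rfl
theorem L128000 : sm gb N15030 = N15030 := ded_21_1 (flp_e L127998) L88316 L127998
theorem L128001 : sm gj N15030 = N10389 := ded_42_2 (flp_e L88753) (flp_j L88319) L127998
theorem L128003 : sm gh N15030 = N11359 := ded_43_2 (flp_e L97215) (flp_h L88321) L127998
theorem L128005 : sm gi N10339 = N15031 := rfl
theorem L128007 : sm gb N15031 = N15031 := ded_26_1 (flp_i L128005) L88316 L128005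
theorem L128008 : sm gd N15031 = N10340 := ded_39_1 (flp_i L88323) L88314 L128005
theorem L128010 : sm gf N15031 = N10342 := ded_48_1 (flp_i L88342) (flp_f L88317) L128005
theorem L128012 : sm gj N15031 = N10390 := ded_53_1 (flp_i L88758) (flp_j L88319) L128005
theorem L128014 : sm gf N10341 = N15032 := rfl
theorem L128016 : sm gb N15032 = N15032 := ded_22_1 (flp_f L128014) L88335 L128014
theorem L128017 : sm gd N15032 = N15032 := ded_35_1 (flp_f L128014) L88341 L128014
theorem L128018 : sm gj N15032 = N10391 := ded_46_2 (flp_f L88765) (flp_j L88337) L128014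
theorem L128020 : sm gh N15032 = N11361 := ded_47_2 (flp_f L97229) (flp_h L88339) L128014
theorem L128022 : sm gi N10341 = N15033 := rfl
theorem L128024 : sm gb N15033 = N15033 := ded_26_1 (flp_i L128022) L88335 L128022
theorem L128025 : sm gd N15033 = N15033 := ded_39_1 (flp_i L128022) L88341 L128022
theorem L128026 : sm ge N15033 = N10342 := ded_44_1 (flp_i L88342) L88333 L128022
theorem L128028 : sm gg N15033 = N15033 := ded_51_1 (flp_i L128022) L88336 L128022
theorem L128029 : sm gj N15033 = N10392 := ded_53_1 (flp_i L88771) (flp_j L88337) L128022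
theorem L128040 : sm gj N10343 = N15035 := rfl
theorem L128042 : sm gb N15035 = N10350 := ded_24_1 (flp_j L88411) (flp_b L88352) L128040
theorem L128046 : sm gf N15035 = N10344 := ded_46_1 (flp_j L88358) L88350 L128040
theorem L128049 : sm gh N10343 = N15036 := rfl
theorem L128051 : sm gb N15036 = N10351 := ded_25_1 (flp_h L88420) (flp_b L88352) L128049
theorem L128053 : sm ge N15036 = N15036 := ded_43_1 (flp_h L128049) L88356 L128049
theorem L128054 : sm gf N15036 = N10345 := ded_47_1 (flp_h L88368) L88350 L128049
theorem L128056 : sm gg N15036 = N15036 := ded_50_1 (flp_h L128049) L88357 L128049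
theorem L128057 : sm gh N10344 = N15037 := rfl
theorem L128059 : sm gb N15037 = N10352 := ded_25_1 (flp_h L88428) (flp_b L88360) L128057
theorem L128061 : sm ge N15037 = N10348 := ded_43_1 (flp_h L88394) (flp_e L88363) L128057
theorem L128063 : sm gg N15037 = N10396 := ded_50_1 (flp_h L88806) (flp_g L88366) L128057
theorem L128065 : sm gj N15037 = N10345 := ded_52_1 (flp_h L88368) L88358 L128057
theorem L128067 : sm gd N10345 = N15038 := rfl
theorem L128069 : sm gb N15038 = N10353 := ded_20_1 (flp_d L88438) (flp_b L88370) L128067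
theorem L128071 : sm gg N15038 = N10346 := ded_36_2 (flp_d L88376) (flp_g L88374) L128067
theorem L128073 : sm gh N15038 = N15038 := ded_38_2 (flp_d L128067) (flp_h L88368) L61104 L88368 L128067
theorem L128074 : sm gi N10345 = N15039 := rfl
theorem L128076 : sm gb N15039 = N10354 := ded_26_1 (flp_i L88444) (flp_b L88370) L128074
theorem L128078 : sm ge N15039 = N10349 := ded_44_1 (flp_i L88403) (flp_e L88372) L128074
theorem L128080 : sm gg N15039 = N10347 := ded_51_1 (flp_i L88384) (flp_g L88374) L128074
theorem L128082 : sm gh N15039 = N15039 := ded_54_1 (flp_i L128074) (flp_h L88368) L61107 L88368 L128074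
theorem L128083 : sm gc N10346 = N15040 := rfl
theorem L128085 : sm gf N15040 = N15040 := ded_29_2 (flp_c L128083) L88380 L128083
theorem L128086 : sm gj N15040 = N10399 := ded_31_2 (flp_c L88830) (flp_j L88381) L128083
theorem L128088 : sm gh N15040 = N15040 := ded_32_2 (flp_c L128083) L88383 L128083
theorem L128089 : sm gi N10346 = N15041 := rfl
theorem L128091 : sm gb N15041 = N10356 := ded_26_1 (flp_i L88461) (flp_b L88378) L128089
theorem L128093 : sm gd N15041 = N10347 := ded_39_1 (flp_i L88384) L88376 L128089
theorem L128095 : sm gf N15041 = N15041 := ded_48_1 (flp_i L128089) L88380 L128089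
theorem L128096 : sm gj N15041 = N10400 := ded_53_1 (flp_i L88834) (flp_j L88381) L128089
theorem L128098 : sm gi N10348 = N15042 := rfl
theorem L128100 : sm gb N15042 = N10357 := ded_26_1 (flp_i L88469) (flp_b L88396) L128098
theorem L128102 : sm gf N15042 = N15042 := ded_48_1 (flp_i L128098) L88398 L128098
theorem L128103 : sm gg N15042 = N10401 := ded_51_1 (flp_i L88841) (flp_g L88399) L128098
theorem L128105 : sm gj N15042 = N10349 := ded_53_1 (flp_i L88403) (flp_j L88401) L128098
theorem L128107 : sm gh N15042 = N15042 := ded_54_1 (flp_i L128098) (flp_h L88394) L61124 L88394 L128098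
theorem L128108 : sm gg N10350 = N15043 := rfl
theorem L128115 : sm gf N15043 = N10402 := ded_45_1 (flp_g L88850) L61446 (flp_g L61159) (flp_f L88417) L128108
theorem L128118 : sm gh N10350 = N15044 := rfl
theorem L128120 : sm ga N15044 = N15044 := ded_17_1 (flp_h L128118) L88413 L128118
theorem L128121 : sm gc N15044 = N15044 := ded_32_1 (flp_h L128118) L88414 L128118
theorem L128122 : sm ge N15044 = N15044 := ded_43_1 (flp_h L128118) L88416 L128118
theorem L128123 : sm gf N15044 = N10352 := ded_47_1 (flp_h L88428) (flp_f L88417) L128118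
theorem L128125 : sm gj N15044 = N10351 := ded_52_1 (flp_h L88420) L88411 L128118
theorem L128127 : sm gd N10351 = N15045 := rfl
theorem L128129 : sm ga N15045 = N15045 := ded_12_1 (flp_d L128127) L88422 L128127
theorem L128130 : sm gf N15045 = N10353 := ded_35_2 (flp_d L88438) (flp_f L88425) L128127
theorem L128132 : sm gg N15045 = N15045 := ded_36_2 (flp_d L128127) L88427 L128127
theorem L128133 : sm gh N15045 = N15045 := ded_38_2 (flp_d L128127) (flp_h L88420) L61147 L88420 L128127
theorem L128134 : sm gi N10351 = N15046 := rfl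
theorem L128136 : sm ga N15046 = N15046 := ded_18_1 (flp_i L128134) L88422 L128134
theorem L128137 : sm gc N15046 = N15046 := ded_33_1 (flp_i L128134) L88423 L128134
theorem L128138 : sm ge N15046 = N15046 := ded_44_1 (flp_i L128134) L88424 L128134
theorem L128139 : sm gf N15046 = N10354 := ded_48_1 (flp_i L88444) (flp_f L88425) L128134
theorem L128141 : sm gg N15046 = N15046 := ded_51_1 (flp_i L128134) L88427 L128134
theorem L128142 : sm gh N15046 = N15046 := ded_54_1 (flp_i L128134) (flp_h L88420) L61148 L88420 L128134
theorem L128143 : sm gd N10352 = N15047 := rfl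
theorem L128145 : sm ga N15047 = N15047 := ded_12_1 (flp_d L128143) L88430 L128143
theorem L128146 : sm gg N15047 = N10406 := ded_36_2 (flp_d L88886) (flp_g L88434) L128143
theorem L128148 : sm gj N15047 = N10353 := ded_37_2 (flp_d L88438) (flp_j L88436) L128143
theorem L128150 : sm gh N15047 = N15047 := ded_38_2 (flp_d L128143) (flp_h L88428) L61155 L88428 L128143
theorem L128151 : sm gi N10352 = N15048 := rfl
theorem L128153 : sm ga N15048 = N15048 := ded_18_1 (flp_i L128151) L88430 L128151
theorem L128154 : sm gc N15048 = N15048 := ded_33_1 (flp_i L128151) L88431 L128151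
theorem L128155 : sm ge N15048 = N10357 := ded_44_1 (flp_i L88469) (flp_e L88432) L128151
theorem L128157 : sm gg N15048 = N10407 := ded_51_1 (flp_i L88892) (flp_g L88434) L128151
theorem L128159 : sm gj N15048 = N10354 := ded_53_1 (flp_i L88444) (flp_j L88436) L128151
theorem L128161 : sm gh N15048 = N15048 := ded_54_1 (flp_i L128151) (flp_h L88428) L61158 L88428 L128151
theorem L128162 : sm gc N10353 = N15049 := rfl
theorem L128164 : sm ga N15049 = N15049 := ded_11_1 (flp_c L128162) L88440 L128162
theorem L128165 : sm gg N15049 = N10355 := ded_30_2 (flp_c L88453) (flp_g L88441) L128162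
theorem L128167 : sm gh N15049 = N15049 := ded_32_2 (flp_c L128162) L88443 L128162
theorem L128168 : sm gd N15049 = N15049 := ded_27_2 (flp_c L128162) (flp_d L88438) L61164 L88438 L128162
theorem L128169 : sm gi N10353 = N15050 := rfl
theorem L128171 : sm ga N15050 = N15050 := ded_18_1 (flp_i L128169) L88440 L128169
theorem L128172 : sm gd N15050 = N10354 := ded_39_1 (flp_i L88444) L88438 L128169
theorem L128174 : sm gg N15050 = N10356 := ded_51_1 (flp_i L88461) (flp_g L88441) L128169
theorem L128176 : sm gb N10355 = N15051 := rfl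
theorem L128178 : sm gd N15051 = N15051 := ded_20_2 (flp_b L128176) L88460 L128176
theorem L128179 : sm gf N15051 = N15051 := ded_22_2 (flp_b L128176) L88456 L128176
theorem L128180 : sm gj N15051 = N10410 := ded_24_2 (flp_b L88915) (flp_j L88457) L128176
theorem L128182 : sm gh N15051 = N15051 := ded_25_2 (flp_b L128176) L88459 L128176
theorem L128183 : sm gi N10355 = N15052 := rfl
theorem L128185 : sm ga N15052 = N15052 := ded_18_1 (flp_i L128183) L88455 L128183
theorem L128186 : sm gc N15052 = N10356 := ded_33_1 (flp_i L88461) L88453 L128183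
theorem L128188 : sm gd N15052 = N15052 := ded_39_1 (flp_i L128183) L88460 L128183
theorem L128189 : sm gf N15052 = N15052 := ded_48_1 (flp_i L128183) L88456 L128183
theorem L128190 : sm gj N15052 = N10411 := ded_53_1 (flp_i L88920) (flp_j L88457) L128183
theorem L128192 : sm gh N10356 = N15053 := rfl
theorem L128194 : sm ga N15053 = N15053 := ded_17_1 (flp_h L128192) L88463 L128192
theorem L128195 : sm gf N15053 = N15053 := ded_47_1 (flp_h L128192) L88466 L128192
theorem L128196 : sm gj N15053 = N10412 := ded_52_1 (flp_h L88927) (flp_j L88467) L128192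
theorem L128198 : sm gd N15053 = N15053 := ded_38_1 (flp_h L128192) L88464 L61185 (flp_d L88464) L128192
theorem L128199 : sm gi N15053 = N15053 := ded_54_2 (flp_h L128192) (flp_i L88461) L61175 L88461 L128192
theorem L128200 : sm gd N10358 = N15054 := rfl
theorem L128203 : sm gb N15054 = N10363 := ded_20_1 (flp_d L88525) (flp_b L88482) L128200
theorem L128209 : sm gg N10358 = N15055 := rfl
theorem L128212 : sm gb N15055 = N10364 := ded_23_1 (flp_g L88534) (flp_b L88482) L128209
theorem L128215 : sm ge N15055 = N10359 := ded_41_1 (flp_g L88487) L88479 L128209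
theorem L128218 : sm gh N10358 = N15056 := rfl
theorem L128221 : sm gb N15056 = N10365 := ded_25_1 (flp_h L88543) (flp_b L88482) L128218
theorem L128227 : sm gj N10359 = N15057 := rfl
theorem L128230 : sm gb N15057 = N10366 := ded_24_1 (flp_j L88552) (flp_b L88490) L128227
theorem L128235 : sm gf N15057 = N10415 := ded_46_1 (flp_j L88953) (flp_f L88496) L128227
theorem L128238 : sm gh N10359 = N15058 := rfl
theorem L128241 : sm gb N15058 = N10367 := ded_25_1 (flp_h L88563) (flp_b L88490) L128238
theorem L128248 : sm gd N10360 = N15059 := rfl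
theorem L128251 : sm gb N15059 = N10368 := ded_20_1 (flp_d L88573) (flp_b L88501) L128248
theorem L128255 : sm gh N15059 = N11387 := ded_38_2 (flp_d L97473) (flp_h L67411) (flp_d L61209) L88498 L128248
theorem L128257 : sm gi N10360 = N15060 := rfl
theorem L128260 : sm gb N15060 = N10369 := ded_26_1 (flp_i L88581) (flp_b L88501) L128257
theorem L128266 : sm gc N10361 = N15061 := rfl
theorem L128271 : sm gh N15061 = N11389 := ded_32_2 (flp_c L97490) (flp_h L88513) L128266
theorem L128274 : sm ge N10361 = N15062 := rfl
theorem L128281 : sm gh N15062 = N11390 := ded_43_2 (flp_e L97497) (flp_h L88513) L128274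
theorem L128293 : sm gg N10363 = N15064 := rfl
theorem L128295 : sm ga N15064 = N10379 := ded_15_1 (flp_g L88670) (flp_a L88527) L128293
theorem L128298 : sm gd N15064 = N10364 := ded_36_1 (flp_g L88534) L88525 L128293
theorem L128300 : sm ge N15064 = N11392 := ded_41_1 (flp_g L97515) (flp_e L88532) L128293
theorem L128303 : sm gh N10363 = N15065 := rfl
theorem L128305 : sm ga N15065 = N10380 := ded_17_1 (flp_h L88679) (flp_a L88527) L128303
theorem L128308 : sm ge N15065 = N11393 := ded_43_1 (flp_h L97524) (flp_e L88532) L128303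
theorem L128311 : sm gf N10364 = N15066 := rfl
theorem L128313 : sm ga N15066 = N10381 := ded_14_1 (flp_f L88686) (flp_a L88536) L128311
theorem L128315 : sm gc N15066 = N10372 := ded_29_1 (flp_f L88607) (flp_c L88538) L128311
theorem L128318 : sm ge N15066 = N10422 := ded_40_1 (flp_f L89015) L61554 (flp_f L61238) (flp_e L88540) L128311
theorem L128321 : sm gj N10364 = N15067 := rfl
theorem L128323 : sm ga N15067 = N10382 := ded_16_1 (flp_j L88695) (flp_a L88536) L128321
theorem L128325 : sm gc N15067 = N10373 := ded_31_1 (flp_j L88617) (flp_c L88538) L128321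
theorem L128327 : sm ge N15067 = N10366 := ded_42_1 (flp_j L88552) (flp_e L88540) L128321
theorem L128330 : sm gh N10364 = N15068 := rfl
theorem L128332 : sm ga N15068 = N10383 := ded_17_1 (flp_h L88703) (flp_a L88536) L128330
theorem L128334 : sm gc N15068 = N10374 := ded_32_1 (flp_h L88626) (flp_c L88538) L128330
theorem L128336 : sm ge N15068 = N10367 := ded_43_1 (flp_h L88563) (flp_e L88540) L128330
theorem L128338 : sm gg N15068 = N10365 := ded_50_1 (flp_h L88543) L88534 L128330
theorem L128340 : sm gd N10365 = N15069 := rfl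
theorem L128342 : sm ga N15069 = N10384 := ded_12_1 (flp_d L88712) (flp_a L88545) L128340
theorem L128344 : sm gf N15069 = N15069 := ded_35_2 (flp_d L128340) L88551 L128340
theorem L128345 : sm gi N10365 = N15070 := rfl
theorem L128347 : sm ga N15070 = N10385 := ded_18_1 (flp_i L88716) (flp_a L88545) L128345
theorem L128349 : sm gc N15070 = N10376 := ded_33_1 (flp_i L88642) (flp_c L88547) L128345
theorem L128351 : sm ge N15070 = N10369 := ded_44_1 (flp_i L88581) (flp_e L88549) L128345
theorem L128353 : sm gf N15070 = N15070 := ded_48_1 (flp_i L128345) L88551 L128345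
theorem L128354 : sm gh N15070 = N15070 := ded_54_1 (flp_i L128345) (flp_h L88543) L61227 L88543 L128345
theorem L128355 : sm gh N10366 = N15071 := rfl
theorem L128357 : sm ga N15071 = N10386 := ded_17_1 (flp_h L88725) (flp_a L88554) L128355
theorem L128359 : sm gc N15071 = N10377 := ded_32_1 (flp_h L88651) (flp_c L88556) L128355
theorem L128361 : sm gf N15071 = N10427 := ded_47_1 (flp_h L89063) (flp_f L88560) L128355
theorem L128363 : sm gj N15071 = N10367 := ded_52_1 (flp_h L88563) L88552 L128355
theorem L128365 : sm gd N10367 = N15072 := rfl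
theorem L128367 : sm ga N15072 = N10387 := ded_12_1 (flp_d L88734) (flp_a L88565) L128365
theorem L128371 : sm gg N15072 = N10368 := ded_36_2 (flp_d L88573) (flp_g L88571) L128365
theorem L128373 : sm gh N15072 = N11399 := ded_38_2 (flp_d L97579) (flp_h L67476) (flp_d L61235) L88563 L128365
theorem L128375 : sm gi N10367 = N15073 := rfl
theorem L128377 : sm ga N15073 = N10388 := ded_18_1 (flp_i L88743) (flp_a L88565) L128375
theorem L128379 : sm gc N15073 = N10378 := ded_33_1 (flp_i L88660) (flp_c L88567) L128375
theorem L128381 : sm gf N15073 = N10429 := ded_48_1 (flp_i L89080) (flp_f L88569) L128375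
theorem L128383 : sm gg N15073 = N10369 := ded_51_1 (flp_i L88581) (flp_g L88571) L128375
theorem L128385 : sm gh N15073 = N15073 := ded_54_1 (flp_i L128375) (flp_h L88563) L61237 L88563 L128375
theorem L128386 : sm ge N10368 = N15074 := rfl
theorem L128388 : sm ga N15074 = N10389 := ded_13_1 (flp_e L88753) (flp_a L88575) L128386
theorem L128390 : sm gh N15074 = N11401 := ded_43_2 (flp_e L97598) (flp_h L88579) L128386
theorem L128392 : sm gi N10368 = N15075 := rfl
theorem L128394 : sm ga N15075 = N10390 := ded_18_1 (flp_i L88758) (flp_a L88575) L128392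
theorem L128396 : sm gd N15075 = N10369 := ded_39_1 (flp_i L88581) L88573 L128392
theorem L128400 : sm gf N10370 = N15076 := rfl
theorem L128402 : sm ga N15076 = N10391 := ded_14_1 (flp_f L88765) (flp_a L88592) L128400
theorem L128405 : sm gh N15076 = N11403 := ded_47_2 (flp_f L97610) (flp_h L88596) L128400
theorem L128407 : sm gi N10370 = N15077 := rfl
theorem L128409 : sm ga N15077 = N10392 := ded_18_1 (flp_i L88771) (flp_a L88592) L128407
theorem L128412 : sm ge N15077 = N10371 := ded_44_1 (flp_i L88599) L88590 L128407
theorem L128414 : sm gg N15077 = N10433 := ded_51_1 (flp_i L89113) (flp_g L88594) L128407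
theorem L128416 : sm gh N10371 = N15078 := rfl
theorem L128423 : sm gi N15078 = N11405 := ded_54_2 (flp_h L97626) (flp_i L67509) (flp_h L61254) L88599 L128416
theorem L128425 : sm gj N10372 = N15079 := rfl
theorem L128427 : sm ga N15079 = N10394 := ded_16_1 (flp_j L88787) (flp_a L88609) L128425
theorem L128431 : sm ge N15079 = N10435 := ded_42_1 (flp_j L89129) (flp_e L88614) L128425
theorem L128433 : sm gf N15079 = N10373 := ded_46_1 (flp_j L88617) L88607 L128425
theorem L128436 : sm gh N10372 = N15080 := rfl
theorem L128438 : sm ga N15080 = N10395 := ded_17_1 (flp_h L88797) (flp_a L88609) L128436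
theorem L128440 : sm gb N15080 = N15080 := ded_25_1 (flp_h L128436) L88611 L128436
theorem L128441 : sm ge N15080 = N10436 := ded_43_1 (flp_h L89139) (flp_e L88614) L128436
theorem L128443 : sm gf N15080 = N10374 := ded_47_1 (flp_h L88626) L88607 L128436
theorem L128445 : sm gg N15080 = N15080 := ded_50_1 (flp_h L128436) L88616 L128436
theorem L128446 : sm gh N10373 = N15081 := rfl
theorem L128448 : sm ga N15081 = N10396 := ded_17_1 (flp_h L88806) (flp_a L88619) L128446
theorem L128450 : sm gb N15081 = N15081 := ded_25_1 (flp_h L128446) L88621 L128446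
theorem L128451 : sm ge N15081 = N10377 := ded_43_1 (flp_h L88651) (flp_e L88623) L128446
theorem L128453 : sm gj N15081 = N10374 := ded_52_1 (flp_h L88626) L88617 L128446
theorem L128455 : sm gd N10374 = N15082 := rfl
theorem L128457 : sm ga N15082 = N10397 := ded_12_1 (flp_d L88814) (flp_a L88628) L128455
theorem L128459 : sm gb N15082 = N15082 := ded_20_1 (flp_d L128455) L88630 L128455
theorem L128460 : sm gg N15082 = N10375 := ded_36_2 (flp_d L88635) (flp_g L88633) L128455
theorem L128462 : sm gh N15082 = N15082 := ded_38_2 (flp_d L128455) (flp_h L88626) L61271 L88626 L128455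
theorem L128463 : sm gi N10374 = N15083 := rfl
theorem L128465 : sm ga N15083 = N10398 := ded_18_1 (flp_i L88821) (flp_a L88628) L128463
theorem L128467 : sm gb N15083 = N15083 := ded_26_1 (flp_i L128463) L88630 L128463
theorem L128468 : sm ge N15083 = N10378 := ded_44_1 (flp_i L88660) (flp_e L88631) L128463
theorem L128470 : sm gg N15083 = N10376 := ded_51_1 (flp_i L88642) (flp_g L88633) L128463
theorem L128472 : sm gh N15083 = N15083 := ded_54_1 (flp_i L128463) (flp_h L88626) L61274 L88626 L128463
theorem L128473 : sm gc N10375 = N15084 := rfl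
theorem L128475 : sm ga N15084 = N10399 := ded_11_1 (flp_c L88830) (flp_a L88637) L128473
theorem L128477 : sm gf N15084 = N15084 := ded_29_2 (flp_c L128473) L88640 L128473
theorem L128478 : sm gh N15084 = N15084 := ded_32_2 (flp_c L128473) L88641 L128473
theorem L128479 : sm gi N10375 = N15085 := rfl
theorem L128481 : sm ga N15085 = N10400 := ded_18_1 (flp_i L88834) (flp_a L88637) L128479
theorem L128483 : sm gb N15085 = N15085 := ded_26_1 (flp_i L128479) L88639 L128479
theorem L128484 : sm gd N15085 = N10376 := ded_39_1 (flp_i L88642) L88635 L128479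
theorem L128486 : sm gf N15085 = N15085 := ded_48_1 (flp_i L128479) L88640 L128479
theorem L128487 : sm gi N10377 = N15086 := rfl
theorem L128489 : sm ga N15086 = N10401 := ded_18_1 (flp_i L88841) (flp_a L88653) L128487
theorem L128491 : sm gb N15086 = N15086 := ded_26_1 (flp_i L128487) L88655 L128487
theorem L128492 : sm gf N15086 = N10442 := ded_48_1 (flp_i L89193) (flp_f L88656) L128487
theorem L128494 : sm gj N15086 = N10378 := ded_53_1 (flp_i L88660) (flp_j L88658) L128487
theorem L128496 : sm gh N15086 = N15086 := ded_54_1 (flp_i L128487) (flp_h L88651) L61292 L88651 L128487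
theorem L128497 : sm gf N10379 = N15087 := rfl
theorem L128501 : sm gd N15087 = N10381 := ded_35_1 (flp_f L88686) (flp_d L88674) L128497
theorem L128506 : sm gj N10379 = N15088 := rfl
theorem L128512 : sm ge N15088 = N11412 := ded_42_1 (flp_j L97694) (flp_e L88676) L128506
theorem L128515 : sm gh N10379 = N15089 := rfl
theorem L128519 : sm ge N15089 = N11413 := ded_43_1 (flp_h L97702) (flp_e L88676) L128515
theorem L128521 : sm gg N15089 = N10380 := ded_50_1 (flp_h L88679) L88670 L128515
theorem L128523 : sm gd N10380 = N15090 := rfl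
theorem L128525 : sm gb N15090 = N15090 := ded_20_1 (flp_d L128523) L88681 L128523
theorem L128526 : sm gf N15090 = N15090 := ded_35_2 (flp_d L128523) L88685 L128523
theorem L128527 : sm gh N15090 = N10384 := ded_38_2 (flp_d L88712) (flp_h L61326) L61310 L88679 L128523
theorem L128529 : sm gi N10380 = N15091 := rfl
theorem L128531 : sm gb N15091 = N15091 := ded_26_1 (flp_i L128529) L88681 L128529
theorem L128532 : sm gc N15091 = N15091 := ded_33_1 (flp_i L128529) L88682 L128529
theorem L128533 : sm ge N15091 = N11415 := ded_44_1 (flp_i L97716) (flp_e L88683) L128529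
theorem L128535 : sm gf N15091 = N15091 := ded_48_1 (flp_i L128529) L88685 L128529
theorem L128536 : sm gh N15091 = N15091 := ded_54_1 (flp_i L128529) (flp_h L88679) L61314 L88679 L128529
theorem L128537 : sm gj N10381 = N15092 := rfl
theorem L128542 : sm ge N15092 = N10443 := ded_42_1 (flp_j L89202) (flp_e L88692) L128537
theorem L128544 : sm gf N15092 = N10382 := ded_46_1 (flp_j L88695) L88686 L128537
theorem L128547 : sm gh N10381 = N15093 := rfl
theorem L128549 : sm gb N15093 = N15093 := ded_25_1 (flp_h L128547) L88688 L128547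
theorem L128550 : sm gc N15093 = N10395 := ded_32_1 (flp_h L88797) (flp_c L88689) L128547
theorem L128552 : sm ge N15093 = N10444 := ded_43_1 (flp_h L89211) (flp_e L88692) L128547
theorem L128554 : sm gf N15093 = N10383 := ded_47_1 (flp_h L88703) L88686 L128547
theorem L128556 : sm gg N15093 = N15093 := ded_50_1 (flp_h L128547) L88694 L128547
theorem L128557 : sm gh N10382 = N15094 := rfl
theorem L128559 : sm gb N15094 = N15094 := ded_25_1 (flp_h L128557) L88697 L128557
theorem L128560 : sm gc N15094 = N10396 := ded_32_1 (flp_h L88806) (flp_c L88698) L128557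
theorem L128562 : sm ge N15094 = N10386 := ded_43_1 (flp_h L88725) (flp_e L88700) L128557
theorem L128564 : sm gj N15094 = N10383 := ded_52_1 (flp_h L88703) L88695 L128557
theorem L128566 : sm gd N10383 = N15095 := rfl
theorem L128568 : sm gb N15095 = N15095 := ded_20_1 (flp_d L128566) L88705 L128566
theorem L128569 : sm gg N15095 = N10384 := ded_36_2 (flp_d L88712) (flp_g L88710) L128566
theorem L128571 : sm gi N10383 = N15096 := rfl
theorem L128573 : sm gb N15096 = N15096 := ded_26_1 (flp_i L128571) L88705 L128571
theorem L128574 : sm gc N15096 = N10398 := ded_33_1 (flp_i L88821) (flp_c L88706) L128571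
theorem L128576 : sm ge N15096 = N10388 := ded_44_1 (flp_i L88743) (flp_e L88708) L128571
theorem L128578 : sm gg N15096 = N10385 := ded_51_1 (flp_i L88716) (flp_g L88710) L128571
theorem L128580 : sm gh N15096 = N15096 := ded_54_1 (flp_i L128571) (flp_h L88703) L61325 L88703 L128571
theorem L128581 : sm gc N10384 = N15097 := rfl
theorem L128583 : sm gf N15097 = N15097 := ded_29_2 (flp_c L128581) L88715 L128581
theorem L128584 : sm gd N15097 = N10399 := ded_27_2 (flp_c L88830) (flp_d L61408) (flp_c L61329) L88712 L128581
theorem L128586 : sm ge N10384 = N15098 := rfl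
theorem L128588 : sm gb N15098 = N15098 := ded_21_1 (flp_e L128586) L88714 L128586
theorem L128589 : sm gd N15098 = N10389 := ded_34_1 (flp_e L88753) (flp_d L61353) (flp_e L61331) L88712 L128586
theorem L128591 : sm gi N10384 = N15099 := rfl
theorem L128593 : sm gb N15099 = N15099 := ded_26_1 (flp_i L128591) L88714 L128591
theorem L128594 : sm gd N15099 = N10385 := ded_39_1 (flp_i L88716) L88712 L128591
theorem L128596 : sm gf N15099 = N15099 := ded_48_1 (flp_i L128591) L88715 L128591
theorem L128597 : sm gd N10386 = N15100 := rfl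
theorem L128599 : sm gb N15100 = N15100 := ded_20_1 (flp_d L128597) L88727 L128597
theorem L128600 : sm gf N15100 = N10451 := ded_35_2 (flp_d L89266) (flp_f L88730) L128597
theorem L128602 : sm gj N15100 = N10387 := ded_37_2 (flp_d L88734) (flp_j L88732) L128597
theorem L128604 : sm gh N15100 = N11422 := ded_38_2 (flp_d L97768) (flp_h L67628) (flp_d L61339) L88725 L128597
theorem L128606 : sm gi N10386 = N15101 := rfl
theorem L128608 : sm gb N15101 = N15101 := ded_26_1 (flp_i L128606) L88727 L128606
theorem L128609 : sm gc N15101 = N10401 := ded_33_1 (flp_i L88841) (flp_c L88728) L128606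
theorem L128611 : sm gf N15101 = N10452 := ded_48_1 (flp_i L89274) (flp_f L88730) L128606
theorem L128613 : sm gj N15101 = N10388 := ded_53_1 (flp_i L88743) (flp_j L88732) L128606
theorem L128615 : sm gh N15101 = N15101 := ded_54_1 (flp_i L128606) (flp_h L88725) L61343 L88725 L128606
theorem L128616 : sm ge N10387 = N15102 := rfl
theorem L128618 : sm gb N15102 = N15102 := ded_21_1 (flp_e L128616) L88736 L128616
theorem L128619 : sm gg N15102 = N10389 := ded_41_2 (flp_e L88753) (flp_g L88739) L128616
theorem L128621 : sm gh N15102 = N11424 := ded_43_2 (flp_e L97785) (flp_h L88741) L128616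
theorem L128623 : sm gi N10387 = N15103 := rfl
theorem L128625 : sm gb N15103 = N15103 := ded_26_1 (flp_i L128623) L88736 L128623
theorem L128626 : sm gd N15103 = N10388 := ded_39_1 (flp_i L88743) L88734 L128623
theorem L128628 : sm gf N15103 = N10454 := ded_48_1 (flp_i L89290) (flp_f L88737) L128623
theorem L128630 : sm gg N15103 = N10390 := ded_51_1 (flp_i L88758) (flp_g L88739) L128623
theorem L128632 : sm gf N10389 = N15104 := rfl
theorem L128634 : sm gb N15104 = N15104 := ded_22_1 (flp_f L128632) L88755 L128632
theorem L128635 : sm gh N15104 = N11426 := ded_47_2 (flp_f L97799) (flp_h L88756) L128632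
theorem L128637 : sm ge N15104 = N10391 := ded_40_1 (flp_f L88765) (flp_e L61368) (flp_f L61356) L88753 L128632
theorem L128639 : sm gi N10389 = N15105 := rfl
theorem L128641 : sm gb N15105 = N15105 := ded_26_1 (flp_i L128639) L88755 L128639
theorem L128642 : sm ge N15105 = N10390 := ded_44_1 (flp_i L88758) L88753 L128639
theorem L128644 : sm gh N10390 = N15106 := rfl
theorem L128650 : sm gi N15106 = N11428 := ded_54_2 (flp_h L97809) (flp_i L67657) (flp_h L61358) L88758 L128644
theorem L128652 : sm gg N10391 = N15107 := rfl
theorem L128654 : sm gb N15107 = N15107 := ded_23_1 (flp_g L128652) L88767 L128652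
theorem L128655 : sm gd N15107 = N15107 := ded_36_1 (flp_g L128652) L88768 L128652
theorem L128656 : sm gh N15107 = N11429 := ded_50_2 (flp_g L97815) (flp_h L88769) L128652
theorem L128658 : sm gf N15107 = N10458 := ded_45_1 (flp_g L89320) (flp_f L61763) (flp_g L61371) L88765 L128652
theorem L128660 : sm gi N10391 = N15108 := rfl
theorem L128662 : sm gb N15108 = N15108 := ded_26_1 (flp_i L128660) L88767 L128660
theorem L128663 : sm gd N15108 = N15108 := ded_39_1 (flp_i L128660) L88768 L128660
theorem L128664 : sm gf N15108 = N10392 := ded_48_1 (flp_i L88771) L88765 L128660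
theorem L128666 : sm gh N10392 = N15109 := rfl
theorem L128671 : sm gg N15109 = N10460 := ded_50_1 (flp_h L89333) (flp_g L88777) L128666
theorem L128675 : sm gg N10394 = N15110 := rfl
theorem L128677 : sm gb N15110 = N10402 := ded_23_1 (flp_g L88850) (flp_b L88789) L128675
theorem L128680 : sm ge N15110 = N10461 := ded_41_1 (flp_g L89341) (flp_e L88792) L128675
theorem L128684 : sm gh N10394 = N15111 := rfl
theorem L128686 : sm gb N15111 = N10403 := ded_25_1 (flp_h L88859) (flp_b L88789) L128684
theorem L128688 : sm ge N15111 = N10462 := ded_43_1 (flp_h L89350) (flp_e L88792) L128684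
theorem L128690 : sm gf N15111 = N10396 := ded_47_1 (flp_h L88806) (flp_f L88794) L128684
theorem L128692 : sm gj N15111 = N10395 := ded_52_1 (flp_h L88797) L88787 L128684
theorem L128694 : sm gd N10395 = N15112 := rfl
theorem L128696 : sm gb N15112 = N10404 := ded_20_1 (flp_d L88869) (flp_b L88799) L128694
theorem L128698 : sm gf N15112 = N10397 := ded_35_2 (flp_d L88814) (flp_f L88803) L128694
theorem L128700 : sm gg N15112 = N15112 := ded_36_2 (flp_d L128694) L88805 L128694
theorem L128701 : sm gh N15112 = N15112 := ded_38_2 (flp_d L128694) (flp_h L88797) L61387 L88797 L128694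
theorem L128702 : sm gi N10395 = N15113 := rfl
theorem L128704 : sm gb N15113 = N10405 := ded_26_1 (flp_i L88876) (flp_b L88799) L128702
theorem L128706 : sm ge N15113 = N10464 := ded_44_1 (flp_i L89367) (flp_e L88801) L128702
theorem L128708 : sm gf N15113 = N10398 := ded_48_1 (flp_i L88821) (flp_f L88803) L128702
theorem L128710 : sm gg N15113 = N15113 := ded_51_1 (flp_i L128702) L88805 L128702
theorem L128711 : sm gh N15113 = N15113 := ded_54_1 (flp_i L128702) (flp_h L88797) L61388 L88797 L128702
theorem L128712 : sm gd N10396 = N15114 := rfl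
theorem L128714 : sm gb N15114 = N10406 := ded_20_1 (flp_d L88886) (flp_b L88808) L128712
theorem L128716 : sm gj N15114 = N10397 := ded_37_2 (flp_d L88814) (flp_j L88812) L128712
theorem L128718 : sm gh N15114 = N15114 := ded_38_2 (flp_d L128712) (flp_h L88806) L61396 L88806 L128712
theorem L128719 : sm gi N10396 = N15115 := rfl
theorem L128721 : sm gb N15115 = N10407 := ded_26_1 (flp_i L88892) (flp_b L88808) L128719
theorem L128723 : sm ge N15115 = N10401 := ded_44_1 (flp_i L88841) (flp_e L88810) L128719
theorem L128725 : sm gj N15115 = N10398 := ded_53_1 (flp_i L88821) (flp_j L88812) L128719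
theorem L128727 : sm gh N15115 = N15115 := ded_54_1 (flp_i L128719) (flp_h L88806) L61399 L88806 L128719
theorem L128728 : sm gc N10397 = N15116 := rfl
theorem L128730 : sm gg N15116 = N10399 := ded_30_2 (flp_c L88830) (flp_g L88818) L128728
theorem L128732 : sm gh N15116 = N15116 := ded_32_2 (flp_c L128728) L88820 L128728
theorem L128733 : sm gi N10397 = N15117 := rfl
theorem L128735 : sm gb N15117 = N10409 := ded_26_1 (flp_i L88908) (flp_b L88816) L128733
theorem L128737 : sm gd N15117 = N10398 := ded_39_1 (flp_i L88821) L88814 L128733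
theorem L128739 : sm gg N15117 = N10400 := ded_51_1 (flp_i L88834) (flp_g L88818) L128733
theorem L128741 : sm gb N10399 = N15118 := rfl
theorem L128743 : sm gf N15118 = N15118 := ded_22_2 (flp_b L128741) L88832 L128741
theorem L128744 : sm gh N15118 = N15118 := ded_25_2 (flp_b L128741) L88833 L128741
theorem L128745 : sm gc N15118 = N10410 := ded_19_2 (flp_b L88915) (flp_c L61481) (flp_b L61410) L88830 L128741
theorem L128747 : sm gi N10399 = N15119 := rfl
theorem L128749 : sm gc N15119 = N10400 := ded_33_1 (flp_i L88834) L88830 L128747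
theorem L128751 : sm gf N15119 = N15119 := ded_48_1 (flp_i L128747) L88832 L128747
theorem L128752 : sm gh N10400 = N15120 := rfl
theorem L128754 : sm gb N15120 = N10412 := ded_25_1 (flp_h L88927) (flp_b L88836) L128752
theorem L128756 : sm gf N15120 = N15120 := ded_47_1 (flp_h L128752) L88840 L128752
theorem L128757 : sm gd N15120 = N15120 := ded_38_1 (flp_h L128752) L88838 L61421 (flp_d L88838) L128752
theorem L128758 : sm gi N15120 = N15120 := ded_54_2 (flp_h L128752) (flp_i L88834) L61413 L88834 L128752
theorem L128759 : sm gh N10402 = N15121 := rfl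
theorem L128761 : sm ga N15121 = N15121 := ded_17_1 (flp_h L128759) L88852 L128759
theorem L128762 : sm gc N15121 = N15121 := ded_32_1 (flp_h L128759) L88853 L128759
theorem L128763 : sm ge N15121 = N10472 := ded_43_1 (flp_h L89431) (flp_e L88855) L128759
theorem L128765 : sm gg N15121 = N10403 := ded_50_1 (flp_h L88859) L88850 L128759
theorem L128767 : sm gj N15121 = N15121 := ded_52_1 (flp_h L128759) L88858 L128759
theorem L128768 : sm gd N10403 = N15122 := rfl
theorem L128770 : sm ga N15122 = N15122 := ded_12_1 (flp_d L128768) L88861 L128768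
theorem L128771 : sm gf N15122 = N10406 := ded_35_2 (flp_d L88886) (flp_f L88865) L128768
theorem L128773 : sm gj N15122 = N10404 := ded_37_2 (flp_d L88869) (flp_j L88867) L128768
theorem L128775 : sm gh N15122 = N15122 := ded_38_2 (flp_d L128768) (flp_h L88859) L61443 L88859 L128768
theorem L128776 : sm gi N10403 = N15123 := rfl
theorem L128778 : sm ga N15123 = N15123 := ded_18_1 (flp_i L128776) L88861 L128776
theorem L128779 : sm gc N15123 = N15123 := ded_33_1 (flp_i L128776) L88862 L128776
theorem L128780 : sm ge N15123 = N10474 := ded_44_1 (flp_i L89448) (flp_e L88863) L128776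
theorem L128782 : sm gf N15123 = N10407 := ded_48_1 (flp_i L88892) (flp_f L88865) L128776
theorem L128784 : sm gj N15123 = N10405 := ded_53_1 (flp_i L88876) (flp_j L88867) L128776
theorem L128786 : sm gh N15123 = N15123 := ded_54_1 (flp_i L128776) (flp_h L88859) L61448 L88859 L128776
theorem L128787 : sm gc N10404 = N15124 := rfl
theorem L128789 : sm ga N15124 = N15124 := ded_11_1 (flp_c L128787) L88871 L128787
theorem L128790 : sm gf N15124 = N10408 := ded_29_2 (flp_c L88901) (flp_f L88872) L128787
theorem L128792 : sm gg N15124 = N15124 := ded_30_2 (flp_c L128787) L88874 L128787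
theorem L128793 : sm gh N15124 = N15124 := ded_32_2 (flp_c L128787) L88875 L128787
theorem L128794 : sm gd N15124 = N15124 := ded_27_2 (flp_c L128787) (flp_d L88869) L61452 L88869 L128787
theorem L128795 : sm ge N10404 = N15125 := rfl
theorem L128797 : sm ga N15125 = N15125 := ded_13_1 (flp_e L128795) L88871 L128795
theorem L128798 : sm gg N15125 = N15125 := ded_41_2 (flp_e L128795) L88874 L128795
theorem L128799 : sm gh N15125 = N15125 := ded_43_2 (flp_e L128795) L88875 L128795
theorem L128800 : sm gd N15125 = N10476 := ded_34_1 (flp_e L89466) (flp_d L61865) (flp_e L61453) L88869 L128795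
theorem L128802 : sm gi N10404 = N15126 := rfl
theorem L128804 : sm ga N15126 = N15126 := ded_18_1 (flp_i L128802) L88871 L128802
theorem L128805 : sm gd N15126 = N10405 := ded_39_1 (flp_i L88876) L88869 L128802
theorem L128807 : sm gf N15126 = N10409 := ded_48_1 (flp_i L88908) (flp_f L88872) L128802
theorem L128809 : sm gg N15126 = N15126 := ded_51_1 (flp_i L128802) L88874 L128802
theorem L128810 : sm gc N10406 = N15127 := rfl
theorem L128812 : sm ga N15127 = N15127 := ded_11_1 (flp_c L128810) L88888 L128810
theorem L128813 : sm gj N15127 = N10408 := ded_31_2 (flp_c L88901) (flp_j L88889) L128810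
theorem L128815 : sm gh N15127 = N15127 := ded_32_2 (flp_c L128810) L88891 L128810
theorem L128816 : sm gd N15127 = N15127 := ded_27_2 (flp_c L128810) (flp_d L88886) L61461 L88886 L128810
theorem L128817 : sm gi N10406 = N15128 := rfl
theorem L128819 : sm ga N15128 = N15128 := ded_18_1 (flp_i L128817) L88888 L128817
theorem L128820 : sm gd N15128 = N10407 := ded_39_1 (flp_i L88892) L88886 L128817
theorem L128822 : sm gj N15128 = N10409 := ded_53_1 (flp_i L88908) (flp_j L88889) L128817
theorem L128824 : sm gb N10408 = N15129 := rfl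
theorem L128826 : sm gd N15129 = N15129 := ded_20_2 (flp_b L128824) L88907 L128824
theorem L128827 : sm gg N15129 = N10410 := ded_23_2 (flp_b L88915) (flp_g L88904) L128824
theorem L128829 : sm gh N15129 = N15129 := ded_25_2 (flp_b L128824) L88906 L128824
theorem L128830 : sm gi N10408 = N15130 := rfl
theorem L128832 : sm ga N15130 = N15130 := ded_18_1 (flp_i L128830) L88903 L128830
theorem L128833 : sm gc N15130 = N10409 := ded_33_1 (flp_i L88908) L88901 L128830
theorem L128835 : sm gd N15130 = N15130 := ded_39_1 (flp_i L128830) L88907 L128830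
theorem L128836 : sm gg N15130 = N10411 := ded_51_1 (flp_i L88920) (flp_g L88904) L128830
theorem L128838 : sm gh N10409 = N15131 := rfl
theorem L128840 : sm ga N15131 = N15131 := ded_17_1 (flp_h L128838) L88910 L128838
theorem L128841 : sm gg N15131 = N10412 := ded_50_1 (flp_h L88927) (flp_g L88913) L128838
theorem L128843 : sm gd N15131 = N15131 := ded_38_1 (flp_h L128838) L88911 L61480 (flp_d L88911) L128838
theorem L128844 : sm gi N15131 = N15131 := ded_54_2 (flp_h L128838) (flp_i L88908) L61471 L88908 L128838
theorem L128845 : sm ga N10410 = N15132 := rfl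
theorem L128847 : sm gd N15132 = N15132 := ded_12_2 (flp_a L128845) L88917 L128845
theorem L128848 : sm gf N15132 = N15132 := ded_14_2 (flp_a L128845) L88918 L128845
theorem L128849 : sm gh N15132 = N15132 := ded_17_2 (flp_a L128845) L88919 L128845
theorem L128850 : sm gb N15132 = N15132 := ded_10_2 (flp_a L128845) (flp_b L88915) L61483 L88915 L128845
theorem L128851 : sm gi N10410 = N15133 := rfl
theorem L128853 : sm gb N15133 = N10411 := ded_26_1 (flp_i L88920) L88915 L128851
theorem L128855 : sm gd N15133 = N15133 := ded_39_1 (flp_i L128851) L88917 L128851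
theorem L128856 : sm gf N15133 = N15133 := ded_48_1 (flp_i L128851) L88918 L128851
theorem L128857 : sm gh N10411 = N15134 := rfl
theorem L128859 : sm ga N15134 = N15134 := ded_17_1 (flp_h L128857) L88922 L128857
theorem L128860 : sm gc N15134 = N10412 := ded_32_1 (flp_h L88927) (flp_c L88923) L128857
theorem L128862 : sm gf N15134 = N15134 := ded_47_1 (flp_h L128857) L88926 L128857
theorem L128863 : sm gi N15134 = N15134 := ded_54_2 (flp_h L128857) (flp_i L88920) L61485 L88920 L128857
theorem L128864 : sm gf N10413 = N15135 := rfl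
theorem L128867 : sm gb N15135 = N10422 := ded_22_1 (flp_f L89015) (flp_b L88936) L128864
theorem L128873 : sm gj N10413 = N15136 := rfl
theorem L128876 : sm gb N15136 = N10423 := ded_24_1 (flp_j L89024) (flp_b L88936) L128873
theorem L128884 : sm gh N10413 = N15137 := rfl
theorem L128887 : sm gb N15137 = N10424 := ded_25_1 (flp_h L89035) (flp_b L88936) L128884
theorem L128890 : sm ge N15137 = N10416 := ded_43_1 (flp_h L88963) (flp_e L88940) L128884
theorem L128892 : sm gg N15137 = N10414 := ded_50_1 (flp_h L88943) L88933 L128884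
theorem L128894 : sm gd N10414 = N15138 := rfl
theorem L128897 : sm gb N15138 = N10425 := ded_20_1 (flp_d L89045) (flp_b L88946) L128894
theorem L128902 : sm gi N10414 = N15139 := rfl
theorem L128905 : sm gb N15139 = N10426 := ded_26_1 (flp_i L89052) (flp_b L88946) L128902
theorem L128913 : sm gh N10415 = N15140 := rfl
theorem L128916 : sm gb N15140 = N10427 := ded_25_1 (flp_h L89063) (flp_b L88956) L128913
theorem L128920 : sm gj N15140 = N10416 := ded_52_1 (flp_h L88963) L88953 L128913
theorem L128922 : sm gd N10416 = N15141 := rfl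
theorem L128925 : sm gb N15141 = N10428 := ded_20_1 (flp_d L89072) (flp_b L88966) L128922
theorem L128929 : sm gh N15141 = N11448 := ded_38_2 (flp_d L97969) (flp_h L67803) (flp_d L61518) L88963 L128922
theorem L128931 : sm gi N10416 = N15142 := rfl
theorem L128934 : sm gb N15142 = N10429 := ded_26_1 (flp_i L89080) (flp_b L88966) L128931
theorem L128940 : sm gc N10417 = N15143 := rfl
theorem L128946 : sm gh N15143 = N11450 := ded_32_2 (flp_c L97987) (flp_h L88979) L128940
theorem L128982 : sm gf N10420 = N15148 := rfl
theorem L128989 : sm gh N15148 = N11455 := ded_47_2 (flp_f L98026) (flp_h L89004) L128982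
theorem L129009 : sm gj N10422 = N15151 := rfl
theorem L129011 : sm ga N15151 = N10443 := ded_16_1 (flp_j L89202) (flp_a L89017) L129009
theorem L129016 : sm gf N15151 = N10423 := ded_46_1 (flp_j L89024) L89015 L129009
theorem L129019 : sm gh N10422 = N15152 := rfl
theorem L129021 : sm ga N15152 = N10444 := ded_17_1 (flp_h L89211) (flp_a L89017) L129019
theorem L129023 : sm gc N15152 = N10436 := ded_32_1 (flp_h L89139) (flp_c L89019) L129019
theorem L129025 : sm gf N15152 = N10424 := ded_47_1 (flp_h L89035) L89015 L129019
theorem L129027 : sm gg N15152 = N15152 := ded_50_1 (flp_h L129019) L89023 L129019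
theorem L129028 : sm gh N10423 = N15153 := rfl
theorem L129030 : sm ga N15153 = N10445 := ded_17_1 (flp_h L89219) (flp_a L89026) L129028
theorem L129032 : sm gc N15153 = N10437 := ded_32_1 (flp_h L89147) (flp_c L89028) L129028
theorem L129034 : sm ge N15153 = N10427 := ded_43_1 (flp_h L89063) (flp_e L89031) L129028
theorem L129036 : sm gg N15153 = N15153 := ded_50_1 (flp_h L129028) L89034 L129028
theorem L129037 : sm gj N15153 = N10424 := ded_52_1 (flp_h L89035) L89024 L129028
theorem L129039 : sm gd N10424 = N15154 := rfl
theorem L129041 : sm ga N15154 = N10446 := ded_12_1 (flp_d L89229) (flp_a L89037) L129039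
theorem L129043 : sm gg N15154 = N10425 := ded_36_2 (flp_d L89045) (flp_g L89043) L129039
theorem L129045 : sm gh N15154 = N15154 := ded_38_2 (flp_d L129039) (flp_h L89035) L61553 L89035 L129039
theorem L129046 : sm gi N10424 = N15155 := rfl
theorem L129048 : sm ga N15155 = N10447 := ded_18_1 (flp_i L89235) (flp_a L89037) L129046
theorem L129050 : sm gc N15155 = N10439 := ded_33_1 (flp_i L89166) (flp_c L89039) L129046
theorem L129052 : sm ge N15155 = N10429 := ded_44_1 (flp_i L89080) (flp_e L89041) L129046
theorem L129054 : sm gg N15155 = N10426 := ded_51_1 (flp_i L89052) (flp_g L89043) L129046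
theorem L129056 : sm gh N15155 = N15155 := ded_54_1 (flp_i L129046) (flp_h L89035) L61556 L89035 L129046
theorem L129057 : sm gc N10425 = N15156 := rfl
theorem L129059 : sm ga N15156 = N10448 := ded_11_1 (flp_c L89245) (flp_a L89047) L129057
theorem L129061 : sm gf N15156 = N15156 := ded_29_2 (flp_c L129057) L89049 L129057
theorem L129062 : sm gj N15156 = N15156 := ded_31_2 (flp_c L129057) L89050 L129057
theorem L129063 : sm gh N15156 = N15156 := ded_32_2 (flp_c L129057) L89051 L129057
theorem L129064 : sm gd N15156 = N10440 := ded_27_2 (flp_c L89176) (flp_d L61648) (flp_c L61561) L89045 L129057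
theorem L129066 : sm ge N10425 = N15157 := rfl
theorem L129068 : sm ga N15157 = N10449 := ded_13_1 (flp_e L89252) (flp_a L89047) L129066
theorem L129074 : sm gi N10425 = N15158 := rfl
theorem L129076 : sm ga N15158 = N10450 := ded_18_1 (flp_i L89259) (flp_a L89047) L129074
theorem L129078 : sm gd N15158 = N10426 := ded_39_1 (flp_i L89052) L89045 L129074
theorem L129080 : sm gf N15158 = N15158 := ded_48_1 (flp_i L129074) L89049 L129074
theorem L129081 : sm gj N15158 = N15158 := ded_53_1 (flp_i L129074) L89050 L129074
theorem L129082 : sm gd N10427 = N15159 := rfl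
theorem L129084 : sm ga N15159 = N10451 := ded_12_1 (flp_d L89266) (flp_a L89065) L129082
theorem L129087 : sm gj N15159 = N10428 := ded_37_2 (flp_d L89072) (flp_j L89070) L129082
theorem L129091 : sm gi N10427 = N15160 := rfl
theorem L129093 : sm ga N15160 = N10452 := ded_18_1 (flp_i L89274) (flp_a L89065) L129091
theorem L129095 : sm gc N15160 = N10442 := ded_33_1 (flp_i L89193) (flp_c L89067) L129091
theorem L129097 : sm gg N15160 = N15160 := ded_51_1 (flp_i L129091) L89069 L129091
theorem L129098 : sm gj N15160 = N10429 := ded_53_1 (flp_i L89080) (flp_j L89070) L129091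
theorem L129100 : sm gh N15160 = N15160 := ded_54_1 (flp_i L129091) (flp_h L89063) L61575 L89063 L129091
theorem L129101 : sm ge N10428 = N15161 := rfl
theorem L129103 : sm ga N15161 = N10453 := ded_13_1 (flp_e L89283) (flp_a L89074) L129101
theorem L129107 : sm gh N15161 = N11460 := ded_43_2 (flp_e L98069) (flp_h L89078) L129101
theorem L129109 : sm gi N10428 = N15162 := rfl
theorem L129111 : sm ga N15162 = N10454 := ded_18_1 (flp_i L89290) (flp_a L89074) L129109
theorem L129113 : sm gd N15162 = N10429 := ded_39_1 (flp_i L89080) L89072 L129109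
theorem L129117 : sm gf N10430 = N15163 := rfl
theorem L129119 : sm ga N15163 = N10455 := ded_14_1 (flp_f L89297) (flp_a L89091) L129117
theorem L129124 : sm ge N15163 = N10432 := ded_40_1 (flp_f L89105) (flp_e L61604) (flp_f L61589) L89089 L129117
theorem L129126 : sm gi N10430 = N15164 := rfl
theorem L129128 : sm ga N15164 = N10456 := ded_18_1 (flp_i L89305) (flp_a L89091) L129126
theorem L129130 : sm ge N15164 = N10431 := ded_44_1 (flp_i L89096) L89089 L129126
theorem L129133 : sm gh N10431 = N15165 := rfl
theorem L129141 : sm gi N15165 = N11464 := ded_54_2 (flp_h L98100) (flp_i L67887) (flp_h L61592) L89096 L129133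
theorem L129143 : sm gg N10432 = N15166 := rfl
theorem L129145 : sm ga N15166 = N10458 := ded_15_1 (flp_g L89320) (flp_a L89107) L129143
theorem L129148 : sm gh N15166 = N11465 := ded_50_2 (flp_g L98108) (flp_h L89111) L129143
theorem L129150 : sm gi N10432 = N15167 := rfl
theorem L129152 : sm ga N15167 = N10459 := ded_18_1 (flp_i L89326) (flp_a L89107) L129150
theorem L129155 : sm gf N15167 = N10433 := ded_48_1 (flp_i L89113) L89105 L129150
theorem L129158 : sm gh N10433 = N15168 := rfl
theorem L129167 : sm gg N10435 = N15169 := rfl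
theorem L129169 : sm ga N15169 = N10461 := ded_15_1 (flp_g L89341) (flp_a L89131) L129167
theorem L129172 : sm gd N15169 = N10486 := ded_36_1 (flp_g L89544) (flp_d L89134) L129167
theorem L129177 : sm gh N10435 = N15170 := rfl
theorem L129179 : sm ga N15170 = N10462 := ded_17_1 (flp_h L89350) (flp_a L89131) L129177
theorem L129181 : sm gb N15170 = N15170 := ded_25_1 (flp_h L129177) L89133 L129177
theorem L129182 : sm gf N15170 = N10437 := ded_47_1 (flp_h L89147) (flp_f L89136) L129177
theorem L129184 : sm gj N15170 = N10436 := ded_52_1 (flp_h L89139) L89129 L129177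
theorem L129186 : sm gd N10436 = N15171 := rfl
theorem L129188 : sm ga N15171 = N10463 := ded_12_1 (flp_d L89358) (flp_a L89141) L129186
theorem L129190 : sm gb N15171 = N15171 := ded_20_1 (flp_d L129186) L89143 L129186
theorem L129191 : sm gf N15171 = N10438 := ded_35_2 (flp_d L89157) (flp_f L89144) L129186
theorem L129193 : sm gg N15171 = N15171 := ded_36_2 (flp_d L129186) L89146 L129186
theorem L129194 : sm gh N15171 = N10488 := ded_38_2 (flp_d L89565) (flp_h L61947) (flp_d L61624) L89139 L129186
theorem L129196 : sm gi N10436 = N15172 := rfl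
theorem L129198 : sm ga N15172 = N10464 := ded_18_1 (flp_i L89367) (flp_a L89141) L129196
theorem L129200 : sm gb N15172 = N15172 := ded_26_1 (flp_i L129196) L89143 L129196
theorem L129201 : sm gf N15172 = N10439 := ded_48_1 (flp_i L89166) (flp_f L89144) L129196
theorem L129203 : sm gg N15172 = N15172 := ded_51_1 (flp_i L129196) L89146 L129196
theorem L129204 : sm gh N15172 = N15172 := ded_54_1 (flp_i L129196) (flp_h L89139) L61626 L89139 L129196
theorem L129205 : sm gd N10437 = N15173 := rfl
theorem L129207 : sm ga N15173 = N10465 := ded_12_1 (flp_d L89375) (flp_a L89149) L129205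
theorem L129209 : sm gb N15173 = N15173 := ded_20_1 (flp_d L129205) L89151 L129205
theorem L129210 : sm gg N15173 = N15173 := ded_36_2 (flp_d L129205) L89154 L129205
theorem L129211 : sm gj N15173 = N10438 := ded_37_2 (flp_d L89157) (flp_j L89155) L129205
theorem L129213 : sm gh N15173 = N10490 := ded_38_2 (flp_d L89584) (flp_h L61957) (flp_d L61633) L89147 L129205
theorem L129215 : sm gi N10437 = N15174 := rfl
theorem L129217 : sm ga N15174 = N10466 := ded_18_1 (flp_i L89384) (flp_a L89149) L129215
theorem L129219 : sm gb N15174 = N15174 := ded_26_1 (flp_i L129215) L89151 L129215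
theorem L129220 : sm ge N15174 = N10442 := ded_44_1 (flp_i L89193) (flp_e L89152) L129215
theorem L129222 : sm gg N15174 = N15174 := ded_51_1 (flp_i L129215) L89154 L129215
theorem L129223 : sm gj N15174 = N10439 := ded_53_1 (flp_i L89166) (flp_j L89155) L129215
theorem L129225 : sm gh N15174 = N15174 := ded_54_1 (flp_i L129215) (flp_h L89147) L61637 L89147 L129215
theorem L129226 : sm gc N10438 = N15175 := rfl
theorem L129228 : sm ga N15175 = N10467 := ded_11_1 (flp_c L89394) (flp_a L89159) L129226
theorem L129230 : sm gg N15175 = N10440 := ded_30_2 (flp_c L89176) (flp_g L89162) L129226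
theorem L129232 : sm gh N15175 = N10492 := ded_32_2 (flp_c L89604) (flp_h L89164) L129226
theorem L129234 : sm gi N10438 = N15176 := rfl
theorem L129236 : sm ga N15176 = N10468 := ded_18_1 (flp_i L89400) (flp_a L89159) L129234
theorem L129238 : sm gb N15176 = N15176 := ded_26_1 (flp_i L129234) L89161 L129234
theorem L129239 : sm gd N15176 = N10439 := ded_39_1 (flp_i L89166) L89157 L129234
theorem L129241 : sm gg N15176 = N10441 := ded_51_1 (flp_i L89184) (flp_g L89162) L129234
theorem L129243 : sm gb N10440 = N15177 := rfl
theorem L129245 : sm gf N15177 = N15177 := ded_22_2 (flp_b L129243) L89180 L129243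
theorem L129246 : sm gj N15177 = N15177 := ded_24_2 (flp_b L129243) L89181 L129243
theorem L129247 : sm gh N15177 = N10494 := ded_25_2 (flp_b L89620) (flp_h L89182) L129243
theorem L129249 : sm gc N15177 = N15177 := ded_19_2 (flp_b L129243) (flp_c L89176) L61652 L89176 L129243
theorem L129250 : sm gi N10440 = N15178 := rfl
theorem L129252 : sm ga N15178 = N10470 := ded_18_1 (flp_i L89416) (flp_a L89178) L129250
theorem L129254 : sm gc N15178 = N10441 := ded_33_1 (flp_i L89184) L89176 L129250
theorem L129256 : sm gf N15178 = N15178 := ded_48_1 (flp_i L129250) L89180 L129250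
theorem L129257 : sm gj N15178 = N15178 := ded_53_1 (flp_i L129250) L89181 L129250
theorem L129258 : sm gh N10441 = N15179 := rfl
theorem L129260 : sm ga N15179 = N10471 := ded_17_1 (flp_h L89422) (flp_a L89186) L129258
theorem L129262 : sm gb N15179 = N15179 := ded_25_1 (flp_h L129258) L89188 L129258
theorem L129263 : sm gf N15179 = N15179 := ded_47_1 (flp_h L129258) L89191 L129258
theorem L129264 : sm gj N15179 = N15179 := ded_52_1 (flp_h L129258) L89192 L129258
theorem L129265 : sm gd N15179 = N15179 := ded_38_1 (flp_h L129258) L89189 L61666 (flp_d L89189) L129258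
theorem L129266 : sm gi N15179 = N10496 := ded_54_2 (flp_h L89635) (flp_i L61993) (flp_h L61655) L89184 L129258
theorem L129268 : sm gg N10443 = N15180 := rfl
theorem L129271 : sm gc N15180 = N10461 := ded_30_1 (flp_g L89341) (flp_c L89205) L129268
theorem L129277 : sm gh N10443 = N15181 := rfl
theorem L129279 : sm gb N15181 = N15181 := ded_25_1 (flp_h L129277) L89204 L129277
theorem L129280 : sm gc N15181 = N10462 := ded_32_1 (flp_h L89350) (flp_c L89205) L129277
theorem L129282 : sm gf N15181 = N10445 := ded_47_1 (flp_h L89219) (flp_f L89208) L129277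
theorem L129284 : sm gj N15181 = N10444 := ded_52_1 (flp_h L89211) L89202 L129277
theorem L129286 : sm gd N10444 = N15182 := rfl
theorem L129288 : sm gb N15182 = N15182 := ded_20_1 (flp_d L129286) L89213 L129286
theorem L129289 : sm gf N15182 = N10446 := ded_35_2 (flp_d L89229) (flp_f L89216) L129286
theorem L129291 : sm gg N15182 = N15182 := ded_36_2 (flp_d L129286) L89218 L129286
theorem L129292 : sm gh N15182 = N15182 := ded_38_2 (flp_d L129286) (flp_h L89211) L61688 L89211 L129286
theorem L129293 : sm gi N10444 = N15183 := rfl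
theorem L129295 : sm gb N15183 = N15183 := ded_26_1 (flp_i L129293) L89213 L129293
theorem L129296 : sm gc N15183 = N10464 := ded_33_1 (flp_i L89367) (flp_c L89214) L129293
theorem L129298 : sm gf N15183 = N10447 := ded_48_1 (flp_i L89235) (flp_f L89216) L129293
theorem L129300 : sm gg N15183 = N15183 := ded_51_1 (flp_i L129293) L89218 L129293
theorem L129301 : sm gh N15183 = N15183 := ded_54_1 (flp_i L129293) (flp_h L89211) L61689 L89211 L129293
theorem L129302 : sm gd N10445 = N15184 := rfl
theorem L129304 : sm gb N15184 = N15184 := ded_20_1 (flp_d L129302) L89221 L129302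
theorem L129305 : sm gg N15184 = N15184 := ded_36_2 (flp_d L129302) L89226 L129302
theorem L129306 : sm gj N15184 = N10446 := ded_37_2 (flp_d L89229) (flp_j L89227) L129302
theorem L129308 : sm gh N15184 = N15184 := ded_38_2 (flp_d L129302) (flp_h L89219) L61696 L89219 L129302
theorem L129309 : sm gi N10445 = N15185 := rfl
theorem L129311 : sm gb N15185 = N15185 := ded_26_1 (flp_i L129309) L89221 L129309
theorem L129312 : sm gc N15185 = N10466 := ded_33_1 (flp_i L89384) (flp_c L89222) L129309
theorem L129314 : sm ge N15185 = N10452 := ded_44_1 (flp_i L89274) (flp_e L89224) L129309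
theorem L129316 : sm gg N15185 = N15185 := ded_51_1 (flp_i L129309) L89226 L129309
theorem L129317 : sm gj N15185 = N10447 := ded_53_1 (flp_i L89235) (flp_j L89227) L129309
theorem L129319 : sm gh N15185 = N15185 := ded_54_1 (flp_i L129309) (flp_h L89219) L61699 L89219 L129309
theorem L129320 : sm gc N10446 = N15186 := rfl
theorem L129322 : sm gg N15186 = N10448 := ded_30_2 (flp_c L89245) (flp_g L89232) L129320
theorem L129324 : sm gh N15186 = N15186 := ded_32_2 (flp_c L129320) L89234 L129320
theorem L129325 : sm gd N15186 = N10467 := ded_27_2 (flp_c L89394) (flp_d L61809) (flp_c L61704) L89229 L129320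
theorem L129327 : sm ge N10446 = N15187 := rfl
theorem L129329 : sm gb N15187 = N15187 := ded_21_1 (flp_e L129327) L89231 L129327
theorem L129330 : sm gg N15187 = N10449 := ded_41_2 (flp_e L89252) (flp_g L89232) L129327
theorem L129332 : sm gh N15187 = N15187 := ded_43_2 (flp_e L129327) L89234 L129327
theorem L129333 : sm gd N15187 = N10453 := ded_34_1 (flp_e L89283) (flp_d L61734) (flp_e L61706) L89229 L129327
theorem L129335 : sm gi N10446 = N15188 := rfl
theorem L129337 : sm gb N15188 = N15188 := ded_26_1 (flp_i L129335) L89231 L129335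
theorem L129338 : sm gd N15188 = N10447 := ded_39_1 (flp_i L89235) L89229 L129335
theorem L129340 : sm gg N15188 = N10450 := ded_51_1 (flp_i L89259) (flp_g L89232) L129335
theorem L129342 : sm gb N10448 = N15189 := rfl
theorem L129344 : sm gd N15189 = N10469 := ded_20_2 (flp_b L89408) (flp_d L89250) L129342
theorem L129346 : sm gf N15189 = N15189 := ded_22_2 (flp_b L129342) L89247 L129342
theorem L129347 : sm gj N15189 = N15189 := ded_24_2 (flp_b L129342) L89248 L129342
theorem L129348 : sm gh N15189 = N15189 := ded_25_2 (flp_b L129342) L89249 L129342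
theorem L129349 : sm gc N15189 = N15189 := ded_19_2 (flp_b L129342) (flp_c L89245) L61712 L89245 L129342
theorem L129350 : sm ge N10448 = N15190 := rfl
theorem L129352 : sm gc N15190 = N10449 := ded_28_1 (flp_e L89252) L89245 L129350
theorem L129354 : sm gj N15190 = N15190 := ded_42_2 (flp_e L129350) L89248 L129350
theorem L129355 : sm gh N15190 = N15190 := ded_43_2 (flp_e L129350) L89249 L129350
theorem L129356 : sm gi N10448 = N15191 := rfl
theorem L129358 : sm gc N15191 = N10450 := ded_33_1 (flp_i L89259) L89245 L129356
theorem L129360 : sm gd N15191 = N10470 := ded_39_1 (flp_i L89416) (flp_d L89250) L129356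
theorem L129362 : sm gf N15191 = N15191 := ded_48_1 (flp_i L129356) L89247 L129356
theorem L129363 : sm gj N15191 = N15191 := ded_53_1 (flp_i L129356) L89248 L129356
theorem L129364 : sm gf N10449 = N15192 := rfl
theorem L129366 : sm gb N15192 = N15192 := ded_22_1 (flp_f L129364) L89254 L129364
theorem L129367 : sm gd N15192 = N10455 := ded_35_1 (flp_f L89297) (flp_d L89257) L129364
theorem L129369 : sm gj N15192 = N15192 := ded_46_2 (flp_f L129364) L89255 L129364
theorem L129370 : sm gh N15192 = N15192 := ded_47_2 (flp_f L129364) L89256 L129364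
theorem L129371 : sm ge N15192 = N15192 := ded_40_1 (flp_f L129364) (flp_e L89252) L61713 L89252 L129364
theorem L129372 : sm gi N10449 = N15193 := rfl
theorem L129374 : sm gb N15193 = N15193 := ded_26_1 (flp_i L129372) L89254 L129372
theorem L129375 : sm gd N15193 = N10456 := ded_39_1 (flp_i L89305) (flp_d L89257) L129372
theorem L129377 : sm ge N15193 = N10450 := ded_44_1 (flp_i L89259) L89252 L129372
theorem L129379 : sm gj N15193 = N15193 := ded_53_1 (flp_i L129372) L89255 L129372
theorem L129380 : sm gh N10450 = N15194 := rfl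
theorem L129382 : sm gb N15194 = N15194 := ded_25_1 (flp_h L129380) L89261 L129380
theorem L129383 : sm gf N15194 = N15194 := ded_47_1 (flp_h L129380) L89264 L129380
theorem L129384 : sm gj N15194 = N15194 := ded_52_1 (flp_h L129380) L89265 L129380
theorem L129385 : sm gd N15194 = N15194 := ded_38_1 (flp_h L129380) L89262 L61725 (flp_d L89262) L129380
theorem L129386 : sm gi N15194 = N15194 := ded_54_2 (flp_h L129380) (flp_i L89259) L61715 L89259 L129380
theorem L129387 : sm ge N10451 = N15195 := rfl
theorem L129389 : sm gb N15195 = N15195 := ded_21_1 (flp_e L129387) L89268 L129387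
theorem L129390 : sm gg N15195 = N15195 := ded_41_2 (flp_e L129387) L89269 L129387
theorem L129391 : sm gj N15195 = N10453 := ded_42_2 (flp_e L89283) (flp_j L89270) L129387
theorem L129393 : sm gh N15195 = N11468 := ded_43_2 (flp_e L98130) (flp_h L89272) L129387
theorem L129395 : sm gi N10451 = N15196 := rfl
theorem L129397 : sm gb N15196 = N15196 := ded_26_1 (flp_i L129395) L89268 L129395
theorem L129398 : sm gd N15196 = N10452 := ded_39_1 (flp_i L89274) L89266 L129395
theorem L129400 : sm gg N15196 = N15196 := ded_51_1 (flp_i L129395) L89269 L129395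
theorem L129401 : sm gj N15196 = N10454 := ded_53_1 (flp_i L89290) (flp_j L89270) L129395
theorem L129403 : sm gf N10453 = N15197 := rfl
theorem L129405 : sm gb N15197 = N15197 := ded_22_1 (flp_f L129403) L89285 L129403
theorem L129406 : sm gh N15197 = N11470 := ded_47_2 (flp_f L98145) (flp_h L89288) L129403
theorem L129408 : sm gi N10453 = N15198 := rfl
theorem L129410 : sm gb N15198 = N15198 := ded_26_1 (flp_i L129408) L89285 L129408
theorem L129411 : sm ge N15198 = N10454 := ded_44_1 (flp_i L89290) L89283 L129408
theorem L129413 : sm gg N15198 = N10456 := ded_51_1 (flp_i L89305) (flp_g L89286) L129408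
theorem L129415 : sm gh N10454 = N15199 := rfl
theorem L129421 : sm gi N15199 = N11472 := ded_54_2 (flp_h L98157) (flp_i L67951) (flp_h L61739) L89290 L129415
theorem L129423 : sm gg N10455 = N15200 := rfl
theorem L129425 : sm gb N15200 = N15200 := ded_23_1 (flp_g L129423) L89299 L129423
theorem L129426 : sm ge N15200 = N10458 := ded_41_1 (flp_g L89320) (flp_e L89303) L129423
theorem L129428 : sm gh N15200 = N11473 := ded_50_2 (flp_g L98163) (flp_h L89301) L129423
theorem L129430 : sm gi N10455 = N15201 := rfl
theorem L129432 : sm gb N15201 = N15201 := ded_26_1 (flp_i L129430) L89299 L129430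
theorem L129433 : sm ge N15201 = N10459 := ded_44_1 (flp_i L89326) (flp_e L89303) L129430
theorem L129435 : sm gf N15201 = N10456 := ded_48_1 (flp_i L89305) L89297 L129430
theorem L129437 : sm gj N15201 = N15201 := ded_53_1 (flp_i L129430) L89300 L129430
theorem L129438 : sm gh N10456 = N15202 := rfl
theorem L129444 : sm gi N15202 = N11475 := ded_54_2 (flp_h L98178) (flp_i L67965) (flp_h L61753) L89305 L129438
theorem L129446 : sm gj N10458 = N15203 := rfl
theorem L129448 : sm gb N15203 = N15203 := ded_24_1 (flp_j L129446) L89322 L129446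
theorem L129449 : sm gd N15203 = N15203 := ded_37_1 (flp_j L129446) L89323 L129446
theorem L129450 : sm gh N15203 = N11476 := ded_52_2 (flp_j L98184) (flp_h L89324) L129446
theorem L129452 : sm gg N15203 = N15203 := ded_49_1 (flp_j L129446) (flp_g L89320) L61767 L89320 L129446
theorem L129453 : sm gi N10458 = N15204 := rfl
theorem L129455 : sm gb N15204 = N15204 := ded_26_1 (flp_i L129453) L89322 L129453
theorem L129456 : sm gd N15204 = N15204 := ded_39_1 (flp_i L129453) L89323 L129453
theorem L129457 : sm gg N15204 = N10459 := ded_51_1 (flp_i L89326) L89320 L129453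
theorem L129459 : sm gh N10459 = N15205 := rfl
theorem L129462 : sm gf N15205 = N10460 := ded_47_1 (flp_h L89333) (flp_f L89330) L129459
theorem L129465 : sm gi N15205 = N11478 := ded_54_2 (flp_h L98197) (flp_i L67984) (flp_h L61768) L89326 L129459
theorem L129467 : sm gd N10460 = N15206 := rfl
theorem L129471 : sm gi N15206 = N11479 := ded_39_2 (flp_d L98203) (flp_i L89339) L129467
theorem L129475 : sm gh N10461 = N15207 := rfl
theorem L129477 : sm gb N15207 = N10472 := ded_25_1 (flp_h L89431) (flp_b L89343) L129475
theorem L129479 : sm gf N15207 = N15207 := ded_47_1 (flp_h L129475) L89348 L129475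
theorem L129480 : sm gg N15207 = N10462 := ded_50_1 (flp_h L89350) L89341 L129475
theorem L129482 : sm gj N15207 = N15207 := ded_52_1 (flp_h L129475) L89349 L129475
theorem L129483 : sm gd N10462 = N15208 := rfl
theorem L129485 : sm gb N15208 = N10473 := ded_20_1 (flp_d L89439) (flp_b L89352) L129483
theorem L129487 : sm gf N15208 = N10465 := ded_35_2 (flp_d L89375) (flp_f L89354) L129483
theorem L129489 : sm gj N15208 = N10463 := ded_37_2 (flp_d L89358) (flp_j L89356) L129483
theorem L129491 : sm gh N15208 = N10498 := ded_38_2 (flp_d L89653) (flp_h L62022) (flp_d L61788) L89350 L129483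
theorem L129493 : sm gi N10462 = N15209 := rfl
theorem L129495 : sm gb N15209 = N10474 := ded_26_1 (flp_i L89448) (flp_b L89352) L129493
theorem L129497 : sm gf N15209 = N10466 := ded_48_1 (flp_i L89384) (flp_f L89354) L129493
theorem L129499 : sm gj N15209 = N10464 := ded_53_1 (flp_i L89367) (flp_j L89356) L129493
theorem L129501 : sm gh N15209 = N15209 := ded_54_1 (flp_i L129493) (flp_h L89350) L61792 L89350 L129493
theorem L129502 : sm gc N10463 = N15210 := rfl
theorem L129504 : sm gf N15210 = N10467 := ded_29_2 (flp_c L89394) (flp_f L89362) L129502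
theorem L129506 : sm gg N15210 = N15210 := ded_30_2 (flp_c L129502) L89364 L129502
theorem L129507 : sm gh N15210 = N10500 := ded_32_2 (flp_c L89672) (flp_h L89365) L129502
theorem L129509 : sm ge N10463 = N15211 := rfl
theorem L129511 : sm gb N15211 = N10476 := ded_21_1 (flp_e L89466) (flp_b L89360) L129509
theorem L129513 : sm gg N15211 = N15211 := ded_41_2 (flp_e L129509) L89364 L129509
theorem L129514 : sm gh N15211 = N10501 := ded_43_2 (flp_e L89678) (flp_h L89365) L129509
theorem L129516 : sm gi N10463 = N15212 := rfl
theorem L129518 : sm gb N15212 = N10477 := ded_26_1 (flp_i L89472) (flp_b L89360) L129516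
theorem L129520 : sm gd N15212 = N10464 := ded_39_1 (flp_i L89367) L89358 L129516
theorem L129522 : sm gf N15212 = N10468 := ded_48_1 (flp_i L89400) (flp_f L89362) L129516
theorem L129524 : sm gg N15212 = N15212 := ded_51_1 (flp_i L129516) L89364 L129516
theorem L129525 : sm gc N10465 = N15213 := rfl
theorem L129527 : sm gg N15213 = N15213 := ded_30_2 (flp_c L129525) L89379 L129525
theorem L129528 : sm gj N15213 = N10467 := ded_31_2 (flp_c L89394) (flp_j L89380) L129525
theorem L129530 : sm gh N15213 = N10503 := ded_32_2 (flp_c L89693) (flp_h L89382) L129525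
theorem L129532 : sm gi N10465 = N15214 := rfl
theorem L129534 : sm gb N15214 = N10479 := ded_26_1 (flp_i L89489) (flp_b L89377) L129532
theorem L129536 : sm gd N15214 = N10466 := ded_39_1 (flp_i L89384) L89375 L129532
theorem L129538 : sm gg N15214 = N15214 := ded_51_1 (flp_i L129532) L89379 L129532
theorem L129539 : sm gj N15214 = N10468 := ded_53_1 (flp_i L89400) (flp_j L89380) L129532
theorem L129541 : sm gb N10467 = N15215 := rfl
theorem L129543 : sm gg N15215 = N10469 := ded_23_2 (flp_b L89408) (flp_g L89396) L129541
theorem L129545 : sm gh N15215 = N10505 := ded_25_2 (flp_b L89708) (flp_h L89398) L129541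
theorem L129547 : sm gc N15215 = N10480 := ded_19_2 (flp_b L89497) (flp_c L61899) (flp_b L61811) L89394 L129541
theorem L129549 : sm gi N10467 = N15216 := rfl
theorem L129551 : sm gc N15216 = N10468 := ded_33_1 (flp_i L89400) L89394 L129549
theorem L129553 : sm gg N15216 = N10470 := ded_51_1 (flp_i L89416) (flp_g L89396) L129549
theorem L129555 : sm gh N10468 = N15217 := rfl
theorem L129557 : sm gb N15217 = N10482 := ded_25_1 (flp_h L89512) (flp_b L89402) L129555
theorem L129559 : sm gg N15217 = N10471 := ded_50_1 (flp_h L89422) (flp_g L89406) L129555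
theorem L129561 : sm gd N15217 = N15217 := ded_38_1 (flp_h L129555) L89404 L61825 (flp_d L89404) L129555
theorem L129562 : sm gi N15217 = N10507 := ded_54_2 (flp_h L89722) (flp_i L62072) (flp_h L61815) L89400 L129555
theorem L129564 : sm ga N10469 = N15218 := rfl
theorem L129566 : sm gc N15218 = N10483 := ded_11_2 (flp_a L89520) (flp_c L89414) L129564
theorem L129568 : sm gf N15218 = N15218 := ded_14_2 (flp_a L129564) L89410 L129564
theorem L129569 : sm gj N15218 = N15218 := ded_16_2 (flp_a L129564) L89411 L129564
theorem L129570 : sm gh N15218 = N10508 := ded_17_2 (flp_a L89729) (flp_h L89412) L129564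
theorem L129572 : sm gi N10469 = N15219 := rfl
theorem L129574 : sm gb N15219 = N10470 := ded_26_1 (flp_i L89416) L89408 L129572
theorem L129576 : sm gc N15219 = N10484 := ded_33_1 (flp_i L89528) (flp_c L89414) L129572
theorem L129578 : sm gf N15219 = N15219 := ded_48_1 (flp_i L129572) L89410 L129572
theorem L129579 : sm gj N15219 = N15219 := ded_53_1 (flp_i L129572) L89411 L129572
theorem L129580 : sm gh N10470 = N15220 := rfl
theorem L129582 : sm gc N15220 = N10471 := ded_32_1 (flp_h L89422) (flp_c L89418) L129580
theorem L129584 : sm gf N15220 = N15220 := ded_47_1 (flp_h L129580) L89420 L129580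
theorem L129585 : sm gj N15220 = N15220 := ded_52_1 (flp_h L129580) L89421 L129580
theorem L129586 : sm gi N15220 = N10510 := ded_54_2 (flp_h L89745) (flp_i L62087) (flp_h L61830) L89416 L129580
theorem L129588 : sm gd N10472 = N15221 := rfl
theorem L129592 : sm gg N15221 = N10473 := ded_36_2 (flp_d L89439) (flp_g L89436) L129588
theorem L129595 : sm gh N15221 = N10511 := ded_38_2 (flp_d L89751) (flp_h L62101) (flp_d L61852) L89431 L129588
theorem L129597 : sm gi N10472 = N15222 := rfl
theorem L129599 : sm ga N15222 = N15222 := ded_18_1 (flp_i L129597) L89433 L129597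
theorem L129600 : sm gc N15222 = N15222 := ded_33_1 (flp_i L129597) L89434 L129597
theorem L129601 : sm gf N15222 = N15222 := ded_48_1 (flp_i L129597) L89435 L129597
theorem L129602 : sm gg N15222 = N10474 := ded_51_1 (flp_i L89448) (flp_g L89436) L129597
theorem L129604 : sm gj N15222 = N15222 := ded_53_1 (flp_i L129597) L89438 L129597
theorem L129605 : sm gh N15222 = N15222 := ded_54_1 (flp_i L129597) (flp_h L89431) L61854 L89431 L129597
theorem L129606 : sm gc N10473 = N15223 := rfl
theorem L129609 : sm gf N15223 = N10478 := ded_29_2 (flp_c L89480) (flp_f L89442) L129606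
theorem L129611 : sm gj N15223 = N10475 := ded_31_2 (flp_c L89457) (flp_j L89444) L129606
theorem L129616 : sm ge N10473 = N15224 := rfl
theorem L129623 : sm gi N10473 = N15225 := rfl
theorem L129625 : sm ga N15225 = N15225 := ded_18_1 (flp_i L129623) L89441 L129623
theorem L129626 : sm gd N15225 = N10474 := ded_39_1 (flp_i L89448) L89439 L129623
theorem L129628 : sm gf N15225 = N10479 := ded_48_1 (flp_i L89489) (flp_f L89442) L129623
theorem L129630 : sm gj N15225 = N10477 := ded_53_1 (flp_i L89472) (flp_j L89444) L129623
theorem L129632 : sm gb N10475 = N15226 := rfl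
theorem L129634 : sm gd N15226 = N15226 := ded_20_2 (flp_b L129632) L89465 L129632
theorem L129635 : sm gf N15226 = N10480 := ded_22_2 (flp_b L89497) (flp_f L89460) L129632
theorem L129637 : sm gg N15226 = N15226 := ded_23_2 (flp_b L129632) L89462 L129632
theorem L129638 : sm gh N15226 = N10516 := ded_25_2 (flp_b L89793) (flp_h L89463) L129632
theorem L129640 : sm ge N10475 = N15227 := rfl
theorem L129643 : sm gc N15227 = N10476 := ded_28_1 (flp_e L89466) L89457 L129640
theorem L129646 : sm gh N15227 = N10517 := ded_43_2 (flp_e L89800) (flp_h L89463) L129640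
theorem L129648 : sm gi N10475 = N15228 := rfl
theorem L129650 : sm ga N15228 = N15228 := ded_18_1 (flp_i L129648) L89459 L129648
theorem L129651 : sm gc N15228 = N10477 := ded_33_1 (flp_i L89472) L89457 L129648
theorem L129653 : sm gd N15228 = N15228 := ded_39_1 (flp_i L129648) L89465 L129648
theorem L129654 : sm gf N15228 = N10481 := ded_48_1 (flp_i L89504) (flp_f L89460) L129648
theorem L129656 : sm gg N15228 = N15228 := ded_51_1 (flp_i L129648) L89462 L129648
theorem L129657 : sm gi N10476 = N15229 := rfl
theorem L129659 : sm ga N15229 = N15229 := ded_18_1 (flp_i L129657) L89468 L129657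
theorem L129660 : sm ge N15229 = N10477 := ded_44_1 (flp_i L89472) L89466 L129657
theorem L129662 : sm gg N15229 = N15229 := ded_51_1 (flp_i L129657) L89469 L129657
theorem L129663 : sm gh N10477 = N15230 := rfl
theorem L129665 : sm ga N15230 = N15230 := ded_17_1 (flp_h L129663) L89474 L129663
theorem L129666 : sm gf N15230 = N10482 := ded_47_1 (flp_h L89512) (flp_f L89477) L129663
theorem L129668 : sm gg N15230 = N15230 := ded_50_1 (flp_h L129663) L89479 L129663
theorem L129669 : sm gd N15230 = N15230 := ded_38_1 (flp_h L129663) L89475 L61880 (flp_d L89475) L129663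
theorem L129670 : sm gi N15230 = N10520 := ded_54_2 (flp_h L89823) (flp_i L62142) (flp_h L61871) L89472 L129663
theorem L129672 : sm gb N10478 = N15231 := rfl
theorem L129674 : sm gd N15231 = N15231 := ded_20_2 (flp_b L129672) L89488 L129672
theorem L129675 : sm gg N15231 = N15231 := ded_23_2 (flp_b L129672) L89483 L129672
theorem L129676 : sm gj N15231 = N10480 := ded_24_2 (flp_b L89497) (flp_j L89484) L129672
theorem L129678 : sm gh N15231 = N10521 := ded_25_2 (flp_b L89830) (flp_h L89486) L129672
theorem L129680 : sm gi N10478 = N15232 := rfl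
theorem L129683 : sm gc N15232 = N10479 := ded_33_1 (flp_i L89489) L89480 L129680
theorem L129687 : sm gj N15232 = N10481 := ded_53_1 (flp_i L89504) (flp_j L89484) L129680
theorem L129689 : sm gh N10479 = N15233 := rfl
theorem L129698 : sm ga N10480 = N15234 := rfl
theorem L129700 : sm gd N15234 = N15234 := ded_12_2 (flp_a L129698) L89499 L129698
theorem L129701 : sm gg N15234 = N10483 := ded_15_2 (flp_a L89520) (flp_g L89500) L129698
theorem L129703 : sm gh N15234 = N10524 := ded_17_2 (flp_a L89854) (flp_h L89502) L129698
theorem L129705 : sm gb N15234 = N15234 := ded_10_2 (flp_a L129698) (flp_b L89497) L61901 L89497 L129698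
theorem L129706 : sm gi N10480 = N15235 := rfl
theorem L129708 : sm gb N15235 = N10481 := ded_26_1 (flp_i L89504) L89497 L129706
theorem L129710 : sm gd N15235 = N15235 := ded_39_1 (flp_i L129706) L89499 L129706
theorem L129711 : sm gg N15235 = N10484 := ded_51_1 (flp_i L89528) (flp_g L89500) L129706
theorem L129713 : sm gh N10481 = N15236 := rfl
theorem L129718 : sm gg N15236 = N10485 := ded_50_1 (flp_h L89535) (flp_g L89510) L129713
theorem L129720 : sm gi N15236 = N10526 := ded_54_2 (flp_h L89869) (flp_i L62172) (flp_h L61904) L89504 L129713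
theorem L129722 : sm gi N10483 = N15237 := rfl
theorem L129724 : sm ga N15237 = N10484 := ded_18_1 (flp_i L89528) L89520 L129722
theorem L129726 : sm gb N15237 = N15237 := ded_26_1 (flp_i L129722) L89527 L129722
theorem L129727 : sm gd N15237 = N15237 := ded_39_1 (flp_i L129722) L89522 L129722
theorem L129728 : sm gf N15237 = N15237 := ded_48_1 (flp_i L129722) L89523 L129722
theorem L129729 : sm gj N15237 = N15237 := ded_53_1 (flp_i L129722) L89524 L129722
theorem L129730 : sm gh N10484 = N15238 := rfl
theorem L129732 : sm gb N15238 = N10485 := ded_25_1 (flp_h L89535) (flp_b L89530) L129730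
theorem L129734 : sm gf N15238 = N15238 := ded_47_1 (flp_h L129730) L89533 L129730
theorem L129735 : sm gj N15238 = N15238 := ded_52_1 (flp_h L129730) L89534 L129730
theorem L129736 : sm gi N15238 = N10528 := ded_54_2 (flp_h L89885) (flp_i L62194) (flp_h L61919) L89528 L129730
theorem L129738 : sm gd N10485 = N15239 := rfl
theorem L129743 : sm gi N15239 = N10529 := ded_39_2 (flp_d L89891) (flp_i L89542) L129738
theorem L129747 : sm gh N10486 = N15240 := rfl
theorem L129749 : sm ga N15240 = N10497 := ded_17_1 (flp_h L89643) (flp_a L89546) L129747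
theorem L129755 : sm gg N15240 = N10487 := ded_50_1 (flp_h L89554) L89544 L129747
theorem L129758 : sm gd N10487 = N15241 := rfl
theorem L129760 : sm ga N15241 = N10498 := ded_12_1 (flp_d L89653) (flp_a L89556) L129758
theorem L129762 : sm gb N15241 = N15241 := ded_20_1 (flp_d L129758) L89558 L129758
theorem L129763 : sm gf N15241 = N10490 := ded_35_2 (flp_d L89584) (flp_f L89561) L129758
theorem L129765 : sm gj N15241 = N10488 := ded_37_2 (flp_d L89565) (flp_j L89563) L129758
theorem L129767 : sm gi N10487 = N15242 := rfl
theorem L129769 : sm ga N15242 = N10499 := ded_18_1 (flp_i L89661) (flp_a L89556) L129767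
theorem L129776 : sm gj N15242 = N10489 := ded_53_1 (flp_i L89573) (flp_j L89563) L129767
theorem L129779 : sm gc N10488 = N15243 := rfl
theorem L129781 : sm ga N15243 = N10500 := ded_11_1 (flp_c L89672) (flp_a L89567) L129779
theorem L129783 : sm gf N15243 = N10492 := ded_29_2 (flp_c L89604) (flp_f L89570) L129779
theorem L129785 : sm gg N15243 = N15243 := ded_30_2 (flp_c L129779) L89572 L129779
theorem L129786 : sm gd N15243 = N15243 := ded_27_2 (flp_c L129779) (flp_d L89565) L61952 L89565 L129779
theorem L129787 : sm ge N10488 = N15244 := rfl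
theorem L129789 : sm ga N15244 = N10501 := ded_13_1 (flp_e L89678) (flp_a L89567) L129787
theorem L129791 : sm gb N15244 = N15244 := ded_21_1 (flp_e L129787) L89569 L129787
theorem L129792 : sm gg N15244 = N15244 := ded_41_2 (flp_e L129787) L89572 L129787
theorem L129793 : sm gd N15244 = N15244 := ded_34_1 (flp_e L129787) (flp_d L89565) L61953 L89565 L129787
theorem L129794 : sm gi N10488 = N15245 := rfl
theorem L129796 : sm ga N15245 = N10502 := ded_18_1 (flp_i L89684) (flp_a L89567) L129794
theorem L129798 : sm gb N15245 = N15245 := ded_26_1 (flp_i L129794) L89569 L129794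
theorem L129799 : sm gd N15245 = N10489 := ded_39_1 (flp_i L89573) L89565 L129794
theorem L129801 : sm gf N15245 = N10493 := ded_48_1 (flp_i L89611) (flp_f L89570) L129794
theorem L129803 : sm gg N15245 = N15245 := ded_51_1 (flp_i L129794) L89572 L129794
theorem L129804 : sm gc N10490 = N15246 := rfl
theorem L129806 : sm ga N15246 = N10503 := ded_11_1 (flp_c L89693) (flp_a L89586) L129804
theorem L129808 : sm gg N15246 = N15246 := ded_30_2 (flp_c L129804) L89589 L129804
theorem L129809 : sm gj N15246 = N10492 := ded_31_2 (flp_c L89604) (flp_j L89590) L129804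
theorem L129811 : sm gd N15246 = N15246 := ded_27_2 (flp_c L129804) (flp_d L89584) L61962 L89584 L129804
theorem L129812 : sm gi N10490 = N15247 := rfl
theorem L129814 : sm ga N15247 = N10504 := ded_18_1 (flp_i L89699) (flp_a L89586) L129812
theorem L129816 : sm gb N15247 = N15247 := ded_26_1 (flp_i L129812) L89588 L129812
theorem L129817 : sm gd N15247 = N10491 := ded_39_1 (flp_i L89592) L89584 L129812
theorem L129819 : sm gg N15247 = N15247 := ded_51_1 (flp_i L129812) L89589 L129812
theorem L129820 : sm gj N15247 = N10493 := ded_53_1 (flp_i L89611) (flp_j L89590) L129812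
theorem L129822 : sm gb N10492 = N15248 := rfl
theorem L129824 : sm gd N15248 = N15248 := ded_20_2 (flp_b L129822) L89610 L129822
theorem L129825 : sm gg N15248 = N10494 := ded_23_2 (flp_b L89620) (flp_g L89608) L129822
theorem L129827 : sm gc N15248 = N15248 := ded_19_2 (flp_b L129822) (flp_c L89604) L61972 L89604 L129822
theorem L129828 : sm gi N10492 = N15249 := rfl
theorem L129830 : sm ga N15249 = N10506 := ded_18_1 (flp_i L89715) (flp_a L89606) L129828
theorem L129832 : sm gc N15249 = N10493 := ded_33_1 (flp_i L89611) L89604 L129828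
theorem L129834 : sm gd N15249 = N15249 := ded_39_1 (flp_i L129828) L89610 L129828
theorem L129835 : sm gg N15249 = N10495 := ded_51_1 (flp_i L89626) (flp_g L89608) L129828
theorem L129837 : sm gh N10493 = N15250 := rfl
theorem L129839 : sm ga N15250 = N10507 := ded_17_1 (flp_h L89722) (flp_a L89613) L129837
theorem L129841 : sm gb N15250 = N15250 := ded_25_1 (flp_h L129837) L89615 L129837
theorem L129842 : sm gg N15250 = N10496 := ded_50_1 (flp_h L89635) (flp_g L89618) L129837
theorem L129844 : sm gd N15250 = N15250 := ded_38_1 (flp_h L129837) L89616 L61985 (flp_d L89616) L129837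
theorem L129845 : sm ga N10494 = N15251 := rfl
theorem L129847 : sm gc N15251 = N15251 := ded_11_2 (flp_a L129845) L89625 L129845
theorem L129848 : sm gd N15251 = N15251 := ded_12_2 (flp_a L129845) L89622 L129845
theorem L129849 : sm gf N15251 = N15251 := ded_14_2 (flp_a L129845) L89623 L129845
theorem L129850 : sm gj N15251 = N15251 := ded_16_2 (flp_a L129845) L89624 L129845
theorem L129851 : sm gb N15251 = N10508 := ded_10_2 (flp_a L89729) (flp_b L62080) (flp_a L61988) L89620 L129845
theorem L129853 : sm gi N10494 = N15252 := rfl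
theorem L129855 : sm gb N15252 = N10495 := ded_26_1 (flp_i L89626) L89620 L129853
theorem L129857 : sm gc N15252 = N15252 := ded_33_1 (flp_i L129853) L89625 L129853
theorem L129858 : sm gd N15252 = N15252 := ded_39_1 (flp_i L129853) L89622 L129853
theorem L129859 : sm gf N15252 = N15252 := ded_48_1 (flp_i L129853) L89623 L129853
theorem L129860 : sm gj N15252 = N15252 := ded_53_1 (flp_i L129853) L89624 L129853
theorem L129861 : sm gh N10495 = N15253 := rfl
theorem L129863 : sm ga N15253 = N10510 := ded_17_1 (flp_h L89745) (flp_a L89628) L129861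
theorem L129865 : sm gc N15253 = N10496 := ded_32_1 (flp_h L89635) (flp_c L89630) L129861
theorem L129867 : sm gf N15253 = N15253 := ded_47_1 (flp_h L129861) L89633 L129861
theorem L129868 : sm gj N15253 = N15253 := ded_52_1 (flp_h L129861) L89634 L129861
theorem L129869 : sm gd N10497 = N15254 := rfl
theorem L129874 : sm gg N15254 = N10498 := ded_36_2 (flp_d L89653) (flp_g L89650) L129869
theorem L129888 : sm gc N10498 = N15256 := rfl
theorem L129890 : sm gf N15256 = N10503 := ded_29_2 (flp_c L89693) (flp_f L89657) L129888
theorem L129892 : sm gj N15256 = N10500 := ded_31_2 (flp_c L89672) (flp_j L89659) L129888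
theorem L129894 : sm gd N15256 = N15256 := ded_27_2 (flp_c L129888) (flp_d L89653) L62026 L89653 L129888
theorem L129902 : sm gi N10498 = N15258 := rfl
theorem L129906 : sm gd N15258 = N10499 := ded_39_1 (flp_i L89661) L89653 L129902
theorem L129910 : sm gj N15258 = N10502 := ded_53_1 (flp_i L89684) (flp_j L89659) L129902
theorem L129912 : sm gb N10500 = N15259 := rfl
theorem L129914 : sm gd N15259 = N15259 := ded_20_2 (flp_b L129912) L89677 L129912
theorem L129915 : sm gf N15259 = N10505 := ded_22_2 (flp_b L89708) (flp_f L89674) L129912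
theorem L129917 : sm gg N15259 = N15259 := ded_23_2 (flp_b L129912) L89676 L129912
theorem L129918 : sm gc N15259 = N10516 := ded_19_2 (flp_b L89793) (flp_c L62129) (flp_b L62034) L89672 L129912
theorem L129920 : sm ge N10500 = N15260 := rfl
theorem L129922 : sm gc N15260 = N10501 := ded_28_1 (flp_e L89678) L89672 L129920
theorem L129924 : sm gg N15260 = N15260 := ded_41_2 (flp_e L129920) L89676 L129920
theorem L129925 : sm gi N10500 = N15261 := rfl
theorem L129927 : sm gc N15261 = N10502 := ded_33_1 (flp_i L89684) L89672 L129925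
theorem L129929 : sm gd N15261 = N15261 := ded_39_1 (flp_i L129925) L89677 L129925
theorem L129930 : sm gf N15261 = N10506 := ded_48_1 (flp_i L89715) (flp_f L89674) L129925
theorem L129932 : sm gg N15261 = N15261 := ded_51_1 (flp_i L129925) L89676 L129925
theorem L129933 : sm gi N10501 = N15262 := rfl
theorem L129941 : sm gh N10502 = N15263 := rfl
theorem L129943 : sm gb N15263 = N10520 := ded_25_1 (flp_h L89823) (flp_b L89686) L129941
theorem L129945 : sm gf N15263 = N10507 := ded_47_1 (flp_h L89722) (flp_f L89690) L129941
theorem L129949 : sm gb N10503 = N15264 := rfl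
theorem L129953 : sm gj N15264 = N10505 := ded_24_2 (flp_b L89708) (flp_j L89696) L129949
theorem L129957 : sm gi N10503 = N15265 := rfl
theorem L129959 : sm gc N15265 = N10504 := ded_33_1 (flp_i L89699) L89693 L129957
theorem L129963 : sm gj N15265 = N10506 := ded_53_1 (flp_i L89715) (flp_j L89696) L129957
theorem L129965 : sm gh N10504 = N15266 := rfl
theorem L129970 : sm gj N15266 = N10507 := ded_52_1 (flp_h L89722) (flp_j L89706) L129965
theorem L129973 : sm ga N10505 = N15267 := rfl
theorem L129975 : sm gc N15267 = N10524 := ded_11_2 (flp_a L89854) (flp_c L89713) L129973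
theorem L129977 : sm gd N15267 = N15267 := ded_12_2 (flp_a L129973) L89710 L129973
theorem L129978 : sm gg N15267 = N10508 := ded_15_2 (flp_a L89729) (flp_g L89711) L129973
theorem L129980 : sm gi N10505 = N15268 := rfl
theorem L129982 : sm gb N15268 = N10506 := ded_26_1 (flp_i L89715) L89708 L129980
theorem L129987 : sm gg N15268 = N10509 := ded_51_1 (flp_i L89736) (flp_g L89711) L129980
theorem L129989 : sm gh N10506 = N15269 := rfl
theorem L129991 : sm gc N15269 = N10507 := ded_32_1 (flp_h L89722) (flp_c L89717) L129989
theorem L129993 : sm gg N15269 = N10510 := ded_50_1 (flp_h L89745) (flp_g L89720) L129989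
theorem L129995 : sm gi N10508 = N15270 := rfl
theorem L129997 : sm ga N15270 = N10509 := ded_18_1 (flp_i L89736) L89729 L129995
theorem L129999 : sm gc N15270 = N10527 := ded_33_1 (flp_i L89876) (flp_c L89731) L129995
theorem L130001 : sm gd N15270 = N15270 := ded_39_1 (flp_i L129995) L89733 L129995
theorem L130002 : sm gf N15270 = N15270 := ded_48_1 (flp_i L129995) L89734 L129995
theorem L130003 : sm gj N15270 = N15270 := ded_53_1 (flp_i L129995) L89735 L129995
theorem L130004 : sm gh N10509 = N15271 := rfl
theorem L130006 : sm gb N15271 = N10510 := ded_25_1 (flp_h L89745) (flp_b L89738) L130004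
theorem L130008 : sm gc N15271 = N10528 := ded_32_1 (flp_h L89885) (flp_c L89740) L130004
theorem L130010 : sm gf N15271 = N15271 := ded_47_1 (flp_h L130004) L89743 L130004
theorem L130011 : sm gj N15271 = N15271 := ded_52_1 (flp_h L130004) L89744 L130004
theorem L130012 : sm gd N10510 = N15272 := rfl
theorem L130014 : sm gf N15272 = N15272 := ded_35_2 (flp_d L130012) L89749 L130012
theorem L130015 : sm gj N15272 = N15272 := ded_37_2 (flp_d L130012) L89750 L130012
theorem L130016 : sm gc N15272 = N15272 := ded_27_1 (flp_d L130012) L89747 L62100 (flp_c L89747) L130012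
theorem L130017 : sm gh N15272 = N15272 := ded_38_2 (flp_d L130012) (flp_h L89745) L62091 L89745 L130012
theorem L130018 : sm gc N10511 = N15273 := rfl
theorem L130022 : sm gg N15273 = N10513 := ded_30_2 (flp_c L89769) (flp_g L89755) L130018
theorem L130027 : sm ge N10511 = N15274 := rfl
theorem L130030 : sm gg N15274 = N10514 := ded_41_2 (flp_e L89778) (flp_g L89755) L130027
theorem L130034 : sm gi N10511 = N15275 := rfl
theorem L130043 : sm gb N10513 = N15276 := rfl
theorem L130047 : sm gf N15276 = N10521 := ded_22_2 (flp_b L89830) (flp_f L89772) L130043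
theorem L130085 : sm ga N10516 = N15281 := rfl
theorem L130087 : sm gd N15281 = N10538 := ded_12_2 (flp_a L89972) (flp_d L89795) L130085
theorem L130089 : sm gf N15281 = N10524 := ded_14_2 (flp_a L89854) (flp_f L89797) L130085
theorem L130093 : sm ge N10516 = N15282 := rfl
theorem L130098 : sm gi N10516 = N15283 := rfl
theorem L130107 : sm gd N10517 = N15284 := rfl
theorem L130112 : sm ge N15284 = N10541 := ded_34_2 (flp_d L89996) (flp_e L62262) (flp_d L62135) L89800 L130107
theorem L130136 : sm ga N10521 = N15288 := rfl
theorem L130141 : sm gj N15288 = N10524 := ded_16_2 (flp_a L89854) (flp_j L89835) L130136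
theorem L130153 : sm gh N10522 = N15290 := rfl
theorem L130156 : sm gc N15290 = N10523 := ded_32_1 (flp_h L89847) (flp_c L89840) L130153
theorem L130159 : sm gj N15290 = N10526 := ded_52_1 (flp_h L89869) (flp_j L89845) L130153
theorem L130161 : sm gi N10524 = N15291 := rfl
theorem L130163 : sm ga N15291 = N10525 := ded_18_1 (flp_i L89861) L89854 L130161
theorem L130166 : sm gd N15291 = N10548 := ded_39_1 (flp_i L90057) (flp_d L89856) L130161
theorem L130168 : sm gg N15291 = N10527 := ded_51_1 (flp_i L89876) (flp_g L89858) L130161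
theorem L130170 : sm gh N10525 = N15292 := rfl
theorem L130174 : sm gg N15292 = N10528 := ded_50_1 (flp_h L89885) (flp_g L89867) L130170
theorem L130176 : sm gd N10526 = N15293 := rfl
theorem L130182 : sm gh N15293 = N10550 := ded_38_2 (flp_d L90075) (flp_h L62339) (flp_d L62177) L89869 L130176
theorem L130184 : sm gh N10527 = N15294 := rfl
theorem L130186 : sm ga N15294 = N10528 := ded_17_1 (flp_h L89885) (flp_a L89878) L130184
theorem L130188 : sm gb N15294 = N15294 := ded_25_1 (flp_h L130184) L89880 L130184
theorem L130189 : sm gf N15294 = N15294 := ded_47_1 (flp_h L130184) L89883 L130184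
theorem L130190 : sm gj N15294 = N15294 := ded_52_1 (flp_h L130184) L89884 L130184
theorem L130191 : sm gd N10528 = N15295 := rfl
theorem L130193 : sm gb N15295 = N10529 := ded_20_1 (flp_d L89891) (flp_b L89887) L130191
theorem L130197 : sm gh N15295 = N10552 := ded_38_2 (flp_d L90092) (flp_h L62357) (flp_d L62198) L89885 L130191
theorem L130199 : sm ge N10529 = N15296 := rfl
theorem L130204 : sm gh N15296 = N10553 := ded_43_2 (flp_e L90099) (flp_h L89897) L130199
theorem L130214 : sm ge N10530 = N15298 := rfl
theorem L130217 : sm gc N15298 = N10531 := ded_28_1 (flp_e L89907) L89899 L130214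
theorem L130219 : sm gg N15298 = N10534 := ded_41_2 (flp_e L89934) (flp_g L89903) L130214
theorem L130232 : sm gf N10531 = N15300 := rfl
theorem L130241 : sm gi N10531 = N15301 := rfl
theorem L130246 : sm ge N15301 = N10532 := ded_44_1 (flp_i L89916) L89907 L130241
theorem L130251 : sm gh N10532 = N15302 := rfl
theorem L130270 : sm ge N10533 = N15304 := rfl
theorem L130272 : sm gb N15304 = N10534 := ded_21_1 (flp_e L89934) L89926 L130270
theorem L130275 : sm gj N15304 = N10539 := ded_42_2 (flp_e L89980) (flp_j L89930) L130270
theorem L130279 : sm gi N10533 = N15305 := rfl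
theorem L130284 : sm gf N15305 = N10546 := ded_48_1 (flp_i L90038) (flp_f L89928) L130279
theorem L130288 : sm gd N10534 = N15306 := rfl
theorem L130292 : sm gj N15306 = N10541 := ded_37_2 (flp_d L89996) (flp_j L89939) L130288
theorem L130295 : sm gi N10534 = N15307 := rfl
theorem L130303 : sm gj N15307 = N10542 := ded_53_1 (flp_i L90002) (flp_j L89939) L130295
theorem L130325 : sm ge N10538 = N15310 := rfl
theorem L130327 : sm ga N15310 = N10539 := ded_13_1 (flp_e L89980) L89972 L130325
theorem L130334 : sm gi N10538 = N15311 := rfl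
theorem L130336 : sm ga N15311 = N10540 := ded_18_1 (flp_i L89988) L89972 L130334
theorem L130340 : sm gf N15311 = N10548 := ded_48_1 (flp_i L90057) (flp_f L89975) L130334
theorem L130343 : sm gd N10539 = N15312 := rfl
theorem L130349 : sm gi N10539 = N15313 := rfl
theorem L130351 : sm gb N15313 = N10542 := ded_26_1 (flp_i L90002) (flp_b L89982) L130349
theorem L130358 : sm gh N10540 = N15314 := rfl
theorem L130363 : sm gf N15314 = N10549 := ded_47_1 (flp_h L90066) (flp_f L89993) L130358
theorem L130367 : sm gh N10541 = N15315 := rfl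
theorem L130374 : sm gi N10541 = N15316 := rfl
theorem L130382 : sm gh N10542 = N15317 := rfl
theorem L130387 : sm ge N15317 = N10543 := ded_43_1 (flp_h L90011) (flp_e L90007) L130382
theorem L130392 : sm gd N10543 = N15318 := rfl
theorem L130395 : sm gf N15318 = N10550 := ded_35_2 (flp_d L90075) (flp_f L90016) L130392
theorem L130419 : sm gh N10546 = N15321 := rfl
theorem L130426 : sm gj N15321 = N10549 := ded_52_1 (flp_h L90066) (flp_j L90045) L130419
theorem L130437 : sm gh N10548 = N15323 := rfl
theorem L130444 : sm gg N15323 = N10551 := ded_50_1 (flp_h L90082) (flp_g L90064) L130437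
theorem L130447 : sm gd N10549 = N15324 := rfl
theorem L130451 : sm gg N15324 = N10552 := ded_36_2 (flp_d L90092) (flp_g L90072) L130447
theorem L130454 : sm ge N10550 = N15325 := rfl
theorem L130458 : sm gg N15325 = N10553 := ded_41_2 (flp_e L90099) (flp_g L90078) L130454
theorem L130462 : sm gd N10551 = N15326 := rfl
theorem L130464 : sm ga N15326 = N10552 := ded_12_1 (flp_d L90092) (flp_a L90084) L130462
theorem L130470 : sm gc N10552 = N15327 := rfl
theorem L130475 : sm gb N15327 = N15327 := ded_19_1 (flp_c L130470) L90094 L62372 (flp_b L90094) L130470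
theorem L130477 : sm ge N10552 = N15328 := rfl
theorem L130479 : sm gb N15328 = N10553 := ded_21_1 (flp_e L90099) (flp_b L90094) L130477
theorem L130484 : sm gf N10553 = N15329 := rfl
theorem L130492 : sm gd N10554 = N15330 := rfl
theorem L130494 : sm ga N15330 = N11622 := ded_12_1 (flp_d L99434) (flp_a L90108) L130492
theorem L130496 : sm gb N15330 = N15330 := ded_20_1 (flp_d L130492) L90110 L130492
theorem L130497 : sm gf N15330 = N15330 := ded_35_2 (flp_d L130492) L90114 L130492
theorem L130498 : sm gg N15330 = N15330 := ded_36_2 (flp_d L130492) L90115 L130492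
theorem L130499 : sm gj N15330 = N15330 := ded_37_2 (flp_d L130492) L90116 L130492
theorem L130500 : sm ge N15330 = N15330 := ded_34_2 (flp_d L130492) L90112 L62393 (flp_e L90112) L130492
theorem L130501 : sm gh N15330 = N15330 := ded_38_2 (flp_d L130492) (flp_h L90106) L62381 L90106 L130492
theorem L130502 : sm gi N10554 = N15331 := rfl
theorem L130508 : sm ge N15331 = N10556 := ded_44_1 (flp_i L90129) (flp_e L90112) L130502
theorem L130513 : sm gh N10555 = N15332 := rfl
theorem L130519 : sm ge N15332 = N10557 := ded_43_1 (flp_h L90140) (flp_e L90124) L130513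
theorem L130524 : sm gh N10556 = N15333 := rfl
theorem L130530 : sm gf N15333 = N10558 := ded_47_1 (flp_h L90150) (flp_f L90136) L130524
theorem L130534 : sm gi N15333 = N10557 := ded_54_2 (flp_h L90140) (flp_i L62394) L62383 L90129 L130524
theorem L130536 : sm gd N10557 = N15334 := rfl
theorem L130545 : sm gh N15334 = N10560 := ded_38_2 (flp_d L90172) (flp_h L62427) (flp_d L62400) L90140 L130536
theorem L130547 : sm gd N10558 = N15335 := rfl
theorem L130555 : sm gi N15335 = N10559 := ded_39_2 (flp_d L90162) (flp_i L90160) L130547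
theorem L130558 : sm gc N10559 = N15336 := rfl
theorem L130565 : sm gh N15336 = N10561 := ded_32_2 (flp_c L90182) (flp_h L90170) L130558
theorem L130579 : sm gc N10560 = N15338 := rfl
theorem L130588 : sm gd N15338 = N10566 := ded_27_2 (flp_c L90234) (flp_d L62471) (flp_c L62432) L90172 L130579
theorem L130608 : sm ge N10561 = N15341 := rfl
theorem L130614 : sm gg N15341 = N10598 := ded_41_2 (flp_e L90537) (flp_g L90186) L130608
theorem L130650 : sm gd N10564 = N15345 := rfl
theorem L130658 : sm ge N15345 = N10573 := ded_34_2 (flp_d L90301) (flp_e L62510) (flp_d L62459) L90214 L130650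
theorem L130660 : sm gf N10564 = N15346 := rfl
theorem L130669 : sm ge N15346 = N15346 := ded_40_1 (flp_f L130660) (flp_e L90214) L62453 L90214 L130660
theorem L130680 : sm gb N10566 = N15348 := rfl
theorem L130682 : sm gf N15348 = N10568 := ded_22_2 (flp_b L90253) (flp_f L90238) L130680
theorem L130688 : sm ge N10566 = N15349 := rfl
theorem L130690 : sm ga N15349 = N11641 := ded_13_1 (flp_e L99586) (flp_a L90236) L130688
theorem L130692 : sm gc N15349 = N10567 := ded_28_1 (flp_e L90244) L90234 L130688
theorem L130698 : sm gf N10567 = N15350 := rfl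
theorem L130700 : sm ga N15350 = N11642 := ded_14_1 (flp_f L99594) (flp_a L90246) L130698
theorem L130704 : sm gh N15350 = N15350 := ded_47_2 (flp_f L130698) L90250 L130698
theorem L130706 : sm ge N15350 = N10570 := ded_40_1 (flp_f L90271) (flp_e L62490) (flp_f L62475) L90244 L130698
theorem L130708 : sm ga N10568 = N15351 := rfl
theorem L130715 : sm gb N15351 = N11643 := ded_10_2 (flp_a L99603) (flp_b L68992) (flp_a L62483) L90253 L130708
theorem L130717 : sm ge N10568 = N15352 := rfl
theorem L130721 : sm gg N15352 = N10606 := ded_41_2 (flp_e L90618) (flp_g L90255) L130717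
theorem L130736 : sm gf N10569 = N15354 := rfl
theorem L130740 : sm gc N15354 = N10570 := ded_29_1 (flp_f L90271) (flp_c L90264) L130736
theorem L130745 : sm gg N10570 = N15355 := rfl
theorem L130747 : sm ga N15355 = N11647 := ded_15_1 (flp_g L99636) (flp_a L90273) L130745
theorem L130749 : sm gd N15355 = N10575 := ded_36_1 (flp_g L90320) (flp_d L90275) L130745
theorem L130752 : sm gi N15355 = N15355 := ded_51_2 (flp_g L130745) L90279 L130745
theorem L130753 : sm gf N15355 = N10609 := ded_45_1 (flp_g L90646) (flp_f L62736) (flp_g L62494) L90271 L130745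
theorem L130755 : sm ge N10571 = N15356 := rfl
theorem L130761 : sm gg N15356 = N10610 := ded_41_2 (flp_e L90655) (flp_g L90283) L130755
theorem L130764 : sm gh N15356 = N10576 := ded_43_2 (flp_e L90330) (flp_h L90286) L130755
theorem L130775 : sm gf N10572 = N15358 := rfl
theorem L130777 : sm gb N15358 = N10574 := ded_22_1 (flp_f L90309) (flp_b L90293) L130775
theorem L130780 : sm gh N15358 = N10578 := ded_47_2 (flp_f L90351) (flp_h L90298) L130775
theorem L130784 : sm gf N10573 = N15359 := rfl
theorem L130786 : sm ga N15359 = N11651 := ded_14_1 (flp_f L99674) (flp_a L90303) L130784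
theorem L130788 : sm gd N15359 = N10574 := ded_35_1 (flp_f L90309) L90301 L130784
theorem L130792 : sm gh N10573 = N15360 := rfl
theorem L130796 : sm gg N15360 = N10614 := ded_50_1 (flp_h L90693) (flp_g L90305) L130792
theorem L130801 : sm gg N10574 = N15361 := rfl
theorem L130803 : sm ga N15361 = N11653 := ded_15_1 (flp_g L99687) (flp_a L90311) L130801
theorem L130808 : sm gh N15361 = N10581 := ded_50_2 (flp_g L90378) (flp_h L90316) L130801
theorem L130811 : sm gf N15361 = N10615 := ded_45_1 (flp_g L90701) (flp_f L62774) (flp_g L62516) L90309 L130801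
theorem L130813 : sm gj N10575 = N15362 := rfl
theorem L130820 : sm gh N15362 = N10582 := ded_52_2 (flp_j L90389) (flp_h L90325) L130813
theorem L130824 : sm gd N10576 = N15363 := rfl
theorem L130833 : sm gi N15363 = N10583 := ded_39_2 (flp_d L90400) (flp_i L90339) L130824
theorem L130836 : sm gf N10576 = N15364 := rfl
theorem L130838 : sm ga N15364 = N10578 := ded_14_1 (flp_f L90351) (flp_a L90332) L130836
theorem L130843 : sm gi N15364 = N10584 := ded_48_2 (flp_f L90410) (flp_i L90339) L130836
theorem L130846 : sm gc N10577 = N15365 := rfl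
theorem L130849 : sm gg N15365 = N10619 := ded_30_2 (flp_c L90746) (flp_g L90345) L130846
theorem L130852 : sm gi N15365 = N10585 := ded_33_2 (flp_c L90419) (flp_i L90348) L130846
theorem L130855 : sm gf N10577 = N15366 := rfl
theorem L130859 : sm gd N15366 = N10578 := ded_35_1 (flp_f L90351) L90341 L130855
theorem L130862 : sm gi N15366 = N10586 := ded_48_2 (flp_f L90426) (flp_i L90348) L130855
theorem L130864 : sm gh N10577 = N15367 := rfl
theorem L130869 : sm gg N15367 = N10621 := ded_50_1 (flp_h L90764) (flp_g L90345) L130864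
theorem L130872 : sm gg N10578 = N15368 := rfl
theorem L130877 : sm gi N15368 = N10588 := ded_51_2 (flp_g L90442) (flp_i L90356) L130872
theorem L130879 : sm gf N15368 = N10622 := ded_45_1 (flp_g L90771) (flp_f L62815) (flp_g L62546) L90351 L130872
theorem L130881 : sm ge N10579 = N15369 := rfl
theorem L130883 : sm ga N15369 = N11661 := ded_13_1 (flp_e L99763) (flp_a L90361) L130881
theorem L130887 : sm gi N15369 = N10589 := ded_44_2 (flp_e L90450) (flp_i L90367) L130881
theorem L130891 : sm gg N10579 = N15370 := rfl
theorem L130896 : sm gd N15370 = N10581 := ded_36_1 (flp_g L90378) (flp_d L90364) L130891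
theorem L130933 : sm gc N10583 = N15374 := rfl
theorem L130935 : sm ga N15374 = N10585 := ded_11_1 (flp_c L90419) (flp_a L90402) L130933
theorem L130938 : sm gg N15374 = N10628 := ded_30_2 (flp_c L90831) (flp_g L90406) L130933
theorem L130950 : sm gh N10583 = N15376 := rfl
theorem L130954 : sm gb N15376 = N11668 := ded_25_1 (flp_h L99821) (flp_b L90404) L130950
theorem L130957 : sm gg N15376 = N10630 := ded_50_1 (flp_h L90848) (flp_g L90406) L130950
theorem L130961 : sm gg N10584 = N15377 := rfl
theorem L130963 : sm ga N15377 = N10588 := ded_15_1 (flp_g L90442) (flp_a L90412) L130961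
theorem L130969 : sm gf N15377 = N10631 := ded_45_1 (flp_g L90858) (flp_f L62874) (flp_g L62588) L90410 L130961
theorem L130971 : sm gf N10585 = N15378 := rfl
theorem L130977 : sm gh N10585 = N15379 := rfl
theorem L130983 : sm gg N15379 = N10633 := ded_50_1 (flp_h L90874) (flp_g L90422) L130977
theorem L130986 : sm ge N10586 = N15380 := rfl
theorem L130988 : sm gb N15380 = N10589 := ded_21_1 (flp_e L90450) (flp_b L90428) L130986
theorem L131018 : sm gj N10588 = N15384 := rfl
theorem L131027 : sm gg N10589 = N15385 := rfl
theorem L131035 : sm gh N10589 = N15386 := rfl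
theorem L131040 : sm ge N15386 = N10591 := ded_43_1 (flp_h L90467) L90450 L131035
theorem L131064 : sm gi N10591 = N15389 := rfl
theorem L131070 : sm gf N15389 = N10592 := ded_48_1 (flp_i L90476) (flp_f L90472) L131064
theorem L131073 : sm gc N10594 = N15390 := rfl
theorem L131078 : sm gj N15390 = N10644 := ded_31_2 (flp_c L90969) (flp_j L90503) L131073
theorem L131081 : sm gi N15390 = N10595 := ded_33_2 (flp_c L90508) (flp_i L90505) L131073
theorem L131095 : sm gb N10595 = N15392 := rfl
theorem L131099 : sm gj N15392 = N10646 := ded_24_2 (flp_b L90989) (flp_j L90513) L131095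
theorem L131101 : sm gh N15392 = N10597 := ded_25_2 (flp_b L90528) (flp_h L90515) L131095
theorem L131136 : sm ge N10597 = N15396 := rfl
theorem L131141 : sm gj N15396 = N10650 := ded_42_2 (flp_e L91025) (flp_j L90533) L131136
theorem L131174 : sm ge N10600 = N15400 := rfl
theorem L131176 : sm ga N15400 = N10601 := ded_13_1 (flp_e L90570) L90557 L131174
theorem L131181 : sm gj N15400 = N10654 := ded_42_2 (flp_e L91060) (flp_j L90564) L131174
theorem L131185 : sm gd N10601 = N15401 := rfl
theorem L131189 : sm gj N15401 = N10655 := ded_37_2 (flp_d L91070) (flp_j L90575) L131185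
theorem L131205 : sm gf N10602 = N15403 := rfl
theorem L131209 : sm gd N15403 = N10603 := ded_35_1 (flp_f L90588) L90579 L131205
theorem L131211 : sm gj N15403 = N10657 := ded_46_2 (flp_f L91087) (flp_j L90583) L131205
theorem L131223 : sm gg N10603 = N15405 := rfl
theorem L131244 : sm ge N10605 = N15407 := rfl
theorem L131248 : sm gb N15407 = N11714 := ded_21_1 (flp_e L100214) (flp_b L90616) L131244
theorem L131250 : sm gj N15407 = N10661 := ded_42_2 (flp_e L91123) (flp_j L90612) L131244
theorem L131254 : sm gd N10606 = N15408 := rfl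
theorem L131258 : sm gj N15408 = N10662 := ded_37_2 (flp_d L91132) (flp_j L90622) L131254
theorem L131261 : sm gf N10606 = N15409 := rfl
theorem L131265 : sm gj N15409 = N10663 := ded_46_2 (flp_f L91138) (flp_j L90622) L131261
theorem L131270 : sm gf N10607 = N15410 := rfl
theorem L131272 : sm ga N15410 = N11717 := ded_14_1 (flp_f L100240) (flp_a L90628) L131270
theorem L131278 : sm gj N15410 = N10664 := ded_46_2 (flp_f L91145) (flp_j L90630) L131270
theorem L131290 : sm gg N10608 = N15412 := rfl
theorem L131292 : sm ga N15412 = N11719 := ded_15_1 (flp_g L100256) (flp_a L90637) L131290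
theorem L131294 : sm gc N15412 = N10609 := ded_30_1 (flp_g L90646) (flp_c L90639) L131290
theorem L131299 : sm gj N10609 = N15413 := rfl
theorem L131301 : sm ga N15413 = N11720 := ded_16_1 (flp_j L100263) (flp_a L90648) L131299
theorem L131306 : sm gh N15413 = N15413 := ded_52_2 (flp_j L131299) L90653 L131299
theorem L131307 : sm gi N15413 = N15413 := ded_53_2 (flp_j L131299) L90654 L131299
theorem L131308 : sm gg N15413 = N10667 := ded_49_1 (flp_j L91172) (flp_g L63094) (flp_j L62742) L90646 L131299
theorem L131310 : sm gd N10610 = N15414 := rfl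
theorem L131312 : sm ga N15414 = N10611 := ded_12_1 (flp_d L90666) (flp_a L90657) L131310
theorem L131316 : sm gj N15414 = N10668 := ded_37_2 (flp_d L91182) (flp_j L90661) L131310
theorem L131319 : sm gf N10610 = N15415 := rfl
theorem L131325 : sm gj N15415 = N10669 := ded_46_2 (flp_f L91190) (flp_j L90661) L131319
theorem L131327 : sm gh N15415 = N10618 := ded_47_2 (flp_f L90734) (flp_h L90663) L131319
theorem L131330 : sm ge N15415 = N10728 := ded_40_1 (flp_f L91688) (flp_e L63437) (flp_f L62749) L90655 L131319
theorem L131332 : sm gc N10611 = N15416 := rfl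
theorem L131334 : sm gj N15416 = N10670 := ded_31_2 (flp_c L91201) (flp_j L90670) L131332
theorem L131337 : sm gf N10611 = N15417 := rfl
theorem L131343 : sm gj N15417 = N10671 := ded_46_2 (flp_f L91205) (flp_j L90670) L131337
theorem L131354 : sm gg N10612 = N15419 := rfl
theorem L131363 : sm ge N10613 = N15420 := rfl
theorem L131367 : sm gj N15420 = N10674 := ded_42_2 (flp_e L91229) (flp_j L90690) L131363
theorem L131370 : sm gd N15420 = N10733 := ded_34_1 (flp_e L91732) L63471 (flp_e L62785) (flp_d L90688) L131363
theorem L131389 : sm gi N10614 = N15423 := rfl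
theorem L131398 : sm gj N10615 = N15424 := rfl
theorem L131406 : sm gh N15424 = N10627 := ded_52_2 (flp_j L90819) (flp_h L90709) L131398
theorem L131411 : sm gc N10617 = N15425 := rfl
theorem L131413 : sm ga N15425 = N10619 := ded_11_1 (flp_c L90746) (flp_a L90725) L131411
theorem L131416 : sm gj N15425 = N10679 := ded_31_2 (flp_c L91272) (flp_j L90729) L131411
theorem L131418 : sm gi N15425 = N10628 := ded_33_2 (flp_c L90831) (flp_i L90731) L131411
theorem L131420 : sm gf N10617 = N15426 := rfl
theorem L131422 : sm ga N15426 = N10620 := ded_14_1 (flp_f L90754) (flp_a L90725) L131420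
theorem L131441 : sm gg N10618 = N15428 := rfl
theorem L131443 : sm ga N15428 = N10622 := ded_15_1 (flp_g L90771) (flp_a L90736) L131441
theorem L131447 : sm ge N15428 = N10741 := ded_41_1 (flp_g L91815) (flp_e L90744) L131441
theorem L131449 : sm gi N15428 = N10631 := ded_51_2 (flp_g L90858) (flp_i L90742) L131441
theorem L131451 : sm gf N10619 = N15429 := rfl
theorem L131454 : sm gc N15429 = N10620 := ded_29_1 (flp_f L90754) L90746 L131451
theorem L131456 : sm gj N15429 = N10683 := ded_46_2 (flp_f L91309) (flp_j L90749) L131451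
theorem L131458 : sm gi N15429 = N10632 := ded_48_2 (flp_f L90867) (flp_i L90751) L131451
theorem L131460 : sm gh N10619 = N15430 := rfl
theorem L131468 : sm ge N10620 = N15431 := rfl
theorem L131470 : sm gb N15431 = N10623 := ded_21_1 (flp_e L90779) (flp_b L90756) L131468
theorem L131474 : sm gi N15431 = N10634 := ded_44_2 (flp_e L90882) (flp_i L90762) L131468
theorem L131476 : sm gd N15431 = N10744 := ded_34_1 (flp_e L91844) L63543 (flp_e L62823) (flp_d L90758) L131468
theorem L131479 : sm gg N10620 = N15432 := rfl
theorem L131483 : sm gd N15432 = N10622 := ded_36_1 (flp_g L90771) (flp_d L90758) L131479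
theorem L131485 : sm gi N15432 = N10635 := ded_51_2 (flp_g L90891) (flp_i L90762) L131479
theorem L131487 : sm gh N10620 = N15433 := rfl
theorem L131495 : sm gi N10621 = N15434 := rfl
theorem L131502 : sm gh N15434 = N10637 := ded_54_1 (flp_i L90906) (flp_h L62899) (flp_i L62812) L90764 L131495
theorem L131504 : sm gj N10622 = N15435 := rfl
theorem L131506 : sm gb N15435 = N10627 := ded_24_1 (flp_j L90819) (flp_b L90773) L131504
theorem L131512 : sm gg N15435 = N10689 := ded_49_1 (flp_j L91355) (flp_g L63206) (flp_j L62819) L90771 L131504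
theorem L131514 : sm gg N10623 = N15436 := rfl
theorem L131519 : sm gd N15436 = N10749 := ded_36_1 (flp_g L91889) (flp_d L90788) L131514
theorem L131523 : sm gi N15436 = N10639 := ded_51_2 (flp_g L90923) (flp_i L90786) L131514
theorem L131525 : sm gh N10623 = N15437 := rfl
theorem L131530 : sm ge N15437 = N10625 := ded_43_1 (flp_h L90800) L90779 L131525
theorem L131535 : sm gj N10624 = N15438 := rfl
theorem L131540 : sm gd N15438 = N10627 := ded_37_1 (flp_j L90819) (flp_d L90796) L131535
theorem L131564 : sm gb N10628 = N15441 := rfl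
theorem L131567 : sm gj N15441 = N10695 := ded_24_2 (flp_b L91410) (flp_j L90836) L131564
theorem L131570 : sm gc N15441 = N11748 := ded_19_2 (flp_b L100504) (flp_c L69596) (flp_b L62869) L90831 L131564
theorem L131572 : sm gf N10628 = N15442 := rfl
theorem L131574 : sm ga N15442 = N10632 := ded_14_1 (flp_f L90867) (flp_a L90833) L131572
theorem L131576 : sm gc N15442 = N10629 := ded_29_1 (flp_f L90838) L90831 L131572
theorem L131578 : sm gj N15442 = N10696 := ded_46_2 (flp_f L91417) (flp_j L90836) L131572
theorem L131580 : sm gh N10628 = N15443 := rfl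
theorem L131582 : sm ga N15443 = N10633 := ded_17_1 (flp_h L90874) (flp_a L90833) L131580
theorem L131584 : sm gc N15443 = N10630 := ded_32_1 (flp_h L90848) L90831 L131580
theorem L131587 : sm gj N15443 = N10697 := ded_52_1 (flp_h L91423) (flp_j L90836) L131580
theorem L131589 : sm ge N10629 = N15444 := rfl
theorem L131593 : sm gb N15444 = N11751 := ded_21_1 (flp_e L100529) (flp_b L90842) L131589
theorem L131595 : sm gj N15444 = N10698 := ded_42_2 (flp_e L91431) (flp_j L90846) L131589
theorem L131597 : sm gd N15444 = N10757 := ded_34_1 (flp_e L91972) L63633 (flp_e L62883) (flp_d L90844) L131589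
theorem L131608 : sm gh N10629 = N15446 := rfl
theorem L131610 : sm ga N15446 = N10636 := ded_17_1 (flp_h L90897) (flp_a L90840) L131608
theorem L131614 : sm gf N15446 = N10630 := ded_47_1 (flp_h L90848) L90838 L131608
theorem L131619 : sm gi N10630 = N15447 := rfl
theorem L131623 : sm gb N15447 = N11754 := ded_26_1 (flp_i L100553) (flp_b L90852) L131619
theorem L131629 : sm gj N10631 = N15448 := rfl
theorem L131635 : sm ge N15448 = N10761 := ded_42_1 (flp_j L92012) (flp_e L90864) L131629
theorem L131638 : sm gg N15448 = N10702 := ded_49_1 (flp_j L91467) (flp_g L63285) (flp_j L62880) L90858 L131629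
theorem L131640 : sm ge N10632 = N15449 := rfl
theorem L131643 : sm gc N15449 = N10634 := ded_28_1 (flp_e L90882) (flp_c L90870) L131640
theorem L131645 : sm gj N15449 = N10703 := ded_42_2 (flp_e L91477) (flp_j L90872) L131640
theorem L131648 : sm gg N10632 = N15450 := rfl
theorem L131651 : sm gc N15450 = N10635 := ded_30_1 (flp_g L90891) (flp_c L90870) L131648
theorem L131653 : sm gh N10632 = N15451 := rfl
theorem L131656 : sm gc N15451 = N10636 := ded_32_1 (flp_h L90897) (flp_c L90870) L131653
theorem L131658 : sm gf N15451 = N10633 := ded_47_1 (flp_h L90874) L90867 L131653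
theorem L131662 : sm gd N10633 = N15452 := rfl
theorem L131665 : sm gj N15452 = N10706 := ded_37_2 (flp_d L91496) (flp_j L90880) L131662
theorem L131668 : sm gi N10633 = N15453 := rfl
theorem L131676 : sm gg N10634 = N15454 := rfl
theorem L131680 : sm gd N15454 = N10767 := ded_36_1 (flp_g L92066) (flp_d L90888) L131676
theorem L131701 : sm gh N10635 = N15457 := rfl
theorem L131705 : sm gg N15457 = N10636 := ded_50_1 (flp_h L90897) L90891 L131701
theorem L131708 : sm gi N10636 = N15458 := rfl
theorem L131713 : sm gf N15458 = N10637 := ded_48_1 (flp_i L90906) (flp_f L90901) L131708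
theorem L131717 : sm gf N10639 = N15459 := rfl
theorem L131725 : sm gj N10639 = N15460 := rfl
theorem L131734 : sm gg N15460 = N10714 := ded_49_1 (flp_j L91554) (flp_g L63343) (flp_j L62919) L90923 L131725
theorem L131736 : sm gh N10639 = N15461 := rfl
theorem L131743 : sm gg N15461 = N10640 := ded_50_1 (flp_h L90932) L90923 L131736
theorem L131745 : sm gd N10640 = N15462 := rfl
theorem L131750 : sm gj N15462 = N10716 := ded_37_2 (flp_d L91572) (flp_j L90940) L131745
theorem L131753 : sm gh N15462 = N10775 := ded_38_2 (flp_d L92135) (flp_h L63722) (flp_d L62921) L90932 L131745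
theorem L131783 : sm gb N10644 = N15466 := rfl
theorem L131789 : sm gi N15466 = N10646 := ded_26_2 (flp_b L90989) (flp_i L90976) L131783
theorem L131822 : sm ge N10646 = N15470 := rfl
theorem L131865 : sm gd N10650 = N15475 := rfl
theorem L131871 : sm ge N15475 = N10662 := ded_34_2 (flp_d L91132) (flp_e L63070) (flp_d L62991) L91025 L131865
theorem L131917 : sm gd N10654 = N15481 := rfl
theorem L131925 : sm ge N15481 = N10668 := ded_34_2 (flp_d L91182) (flp_e L63104) (flp_d L63017) L91060 L131917
theorem L131945 : sm gf N10655 = N15484 := rfl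
theorem L131979 : sm gg N10657 = N15488 := rfl
theorem L131983 : sm gd N15488 = N10659 := ded_36_1 (flp_g L91102) (flp_d L91091) L131979
theorem L131987 : sm gh N10657 = N15489 := rfl
theorem L132003 : sm gj N10659 = N15491 := rfl
theorem L132014 : sm gd N10661 = N15492 := rfl
theorem L132016 : sm ga N15492 = N10662 := ded_12_1 (flp_d L91132) (flp_a L91125) L132014
theorem L132037 : sm gf N10662 = N15495 := rfl
theorem L132041 : sm gd N15495 = N10663 := ded_35_1 (flp_f L91138) L91132 L132037
theorem L132044 : sm gh N10662 = N15496 := rfl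
theorem L132050 : sm gg N10663 = N15497 := rfl
theorem L132052 : sm gb N15497 = N10666 := ded_23_1 (flp_g L91162) (flp_b L91140) L132050
theorem L132076 : sm gh N10664 = N15500 := rfl
theorem L132094 : sm gj N10666 = N15502 := rfl
theorem L132098 : sm gc N15502 = N10667 := ded_31_1 (flp_j L91172) (flp_c L91166) L132094
theorem L132104 : sm gc N10668 = N15503 := rfl
theorem L132110 : sm gf N10668 = N15504 := rfl
theorem L132112 : sm ga N15504 = N10671 := ded_14_1 (flp_f L91205) (flp_a L91184) L132110
theorem L132119 : sm gh N10668 = N15505 := rfl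
theorem L132128 : sm gg N10669 = N15506 := rfl
theorem L132130 : sm ga N15506 = N10673 := ded_15_1 (flp_g L91219) (flp_a L91192) L132128
theorem L132136 : sm gh N15506 = N10682 := ded_50_2 (flp_g L91298) (flp_h L91196) L132128
theorem L132140 : sm gf N10670 = N15507 := rfl
theorem L132145 : sm gh N10670 = N15508 := rfl
theorem L132150 : sm ge N10671 = N15509 := rfl
theorem L132157 : sm gg N10671 = N15510 := rfl
theorem L132181 : sm gj N10673 = N15513 := rfl
theorem L132188 : sm gh N15513 = N10689 := ded_52_2 (flp_j L91355) (flp_h L91225) L132181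
theorem L132191 : sm gg N10674 = N15514 := rfl
theorem L132197 : sm ge N15514 = N10675 := ded_41_1 (flp_g L91236) L91229 L132191
theorem L132200 : sm gh N10674 = N15515 := rfl
theorem L132214 : sm gh N10675 = N15517 := rfl
theorem L132221 : sm gd N15517 = N10693 := ded_38_1 (flp_h L91393) L63230 (flp_h L63151) (flp_d L91240) L132214
theorem L132232 : sm gb N10679 = N15519 := rfl
theorem L132236 : sm gi N15519 = N10695 := ded_26_2 (flp_b L91410) (flp_i L91278) L132232
theorem L132239 : sm gc N15519 = N11849 := ded_19_2 (flp_b L101273) (flp_c L70102) (flp_b L63169) L91272 L132232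
theorem L132241 : sm gf N10679 = N15520 := rfl
theorem L132243 : sm ga N15520 = N10683 := ded_14_1 (flp_f L91309) (flp_a L91274) L132241
theorem L132245 : sm gc N15520 = N10680 := ded_29_1 (flp_f L91280) L91272 L132241
theorem L132247 : sm gi N15520 = N10696 := ded_48_2 (flp_f L91417) (flp_i L91278) L132241
theorem L132257 : sm ge N10680 = N15522 := rfl
theorem L132263 : sm gi N15522 = N10698 := ded_44_2 (flp_e L91431) (flp_i L91288) L132257
theorem L132265 : sm gd N15522 = N10809 := ded_34_1 (flp_e L92441) L63939 (flp_e L63183) (flp_d L91286) L132257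
theorem L132268 : sm gg N10680 = N15523 := rfl
theorem L132270 : sm ga N15523 = N10686 := ded_15_1 (flp_g L91332) (flp_a L91282) L132268
theorem L132276 : sm gi N15523 = N10699 := ded_51_2 (flp_g L91440) (flp_i L91288) L132268
theorem L132297 : sm gj N10682 = N15526 := rfl
theorem L132299 : sm ga N15526 = N10689 := ded_16_1 (flp_j L91355) (flp_a L91300) L132297
theorem L132303 : sm ge N15526 = N10813 := ded_42_1 (flp_j L92481) (flp_e L91304) L132297
theorem L132306 : sm gi N15526 = N10702 := ded_53_2 (flp_j L91467) (flp_i L91306) L132297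
theorem L132308 : sm ge N10683 = N15527 := rfl
theorem L132310 : sm gb N15527 = N15527 := ded_21_1 (flp_e L132308) L91311 L132308
theorem L132311 : sm gc N15527 = N10685 := ded_28_1 (flp_e L91323) (flp_c L91312) L132308
theorem L132313 : sm gi N15527 = N10703 := ded_44_2 (flp_e L91477) (flp_i L91314) L132308
theorem L132316 : sm gg N10683 = N15528 := rfl
theorem L132321 : sm gi N15528 = N10704 := ded_51_2 (flp_g L91483) (flp_i L91314) L132316
theorem L132324 : sm gh N10683 = N15529 := rfl
theorem L132331 : sm gd N10684 = N15530 := rfl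
theorem L132344 : sm gg N10685 = N15532 := rfl
theorem L132348 : sm gd N15532 = N10819 := ded_36_1 (flp_g L92535) (flp_d L91329) L132344
theorem L132352 : sm gi N15532 = N10708 := ded_51_2 (flp_g L91508) (flp_i L91327) L132344
theorem L132354 : sm gh N10685 = N15533 := rfl
theorem L132358 : sm ge N15533 = N10687 := ded_43_1 (flp_h L91341) L91323 L132354
theorem L132361 : sm gj N10686 = N15534 := rfl
theorem L132365 : sm gd N15534 = N10689 := ded_37_1 (flp_j L91355) (flp_d L91336) L132361
theorem L132368 : sm gi N15534 = N10710 := ded_53_2 (flp_j L91523) (flp_i L91338) L132361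
theorem L132370 : sm gh N10686 = N15535 := rfl
theorem L132377 : sm gi N10687 = N15536 := rfl
theorem L132451 : sm gf N10695 = N15544 := rfl
theorem L132456 : sm gc N15544 = N11874 := ded_29_1 (flp_f L101471) (flp_c L91415) L132451
theorem L132458 : sm gh N10695 = N15545 := rfl
theorem L132467 : sm ge N10696 = N15546 := rfl
theorem L132469 : sm ga N15546 = N10703 := ded_13_1 (flp_e L91477) (flp_a L91419) L132467
theorem L132471 : sm gc N15546 = N10698 := ded_28_1 (flp_e L91431) (flp_c L91421) L132467
theorem L132474 : sm gg N10696 = N15547 := rfl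
theorem L132476 : sm ga N15547 = N10704 := ded_15_1 (flp_g L91483) (flp_a L91419) L132474
theorem L132481 : sm gh N10696 = N15548 := rfl
theorem L132483 : sm ga N15548 = N10705 := ded_17_1 (flp_h L91489) (flp_a L91419) L132481
theorem L132485 : sm gc N15548 = N10700 := ded_32_1 (flp_h L91449) (flp_c L91421) L132481
theorem L132487 : sm gf N15548 = N10697 := ded_47_1 (flp_h L91423) L91417 L132481
theorem L132489 : sm gd N10697 = N15549 := rfl
theorem L132495 : sm gi N10697 = N15550 := rfl
theorem L132497 : sm ga N15550 = N10707 := ded_18_1 (flp_i L91501) (flp_a L91425) L132495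
theorem L132503 : sm gg N10698 = N15551 := rfl
theorem L132507 : sm gb N15551 = N11881 := ded_23_1 (flp_g L101522) (flp_b L91435) L132503
theorem L132531 : sm gh N10699 = N15554 := rfl
theorem L132533 : sm ga N15554 = N10711 := ded_17_1 (flp_h L91530) (flp_a L91442) L132531
theorem L132541 : sm gi N10700 = N15555 := rfl
theorem L132545 : sm gb N15555 = N11885 := ded_26_1 (flp_i L101552) (flp_b L91453) L132541
theorem L132550 : sm gd N10703 = N15556 := rfl
theorem L132552 : sm gb N15556 = N15556 := ded_20_1 (flp_d L132550) L91479 L132550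
theorem L132553 : sm gf N15556 = N15556 := ded_35_2 (flp_d L132550) L91482 L132550
theorem L132554 : sm gc N15556 = N10843 := ded_27_1 (flp_d L92750) L64143 (flp_d L63311) (flp_c L91480) L132550
theorem L132556 : sm gg N10703 = N15557 := rfl
theorem L132559 : sm gc N15557 = N10708 := ded_30_1 (flp_g L91508) (flp_c L91480) L132556
theorem L132561 : sm ge N15557 = N10704 := ded_41_1 (flp_g L91483) L91477 L132556
theorem L132563 : sm gh N10703 = N15558 := rfl
theorem L132571 : sm gj N10704 = N15559 := rfl
theorem L132574 : sm gc N15559 = N10710 := ded_31_1 (flp_j L91523) (flp_c L91486) L132571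
theorem L132577 : sm gh N10704 = N15560 := rfl
theorem L132583 : sm gg N15560 = N10705 := ded_50_1 (flp_h L91489) L91483 L132577
theorem L132585 : sm gd N10705 = N15561 := rfl
theorem L132588 : sm gf N15561 = N10706 := ded_35_2 (flp_d L91496) (flp_f L91494) L132585
theorem L132591 : sm gi N10705 = N15562 := rfl
theorem L132598 : sm ge N10706 = N15563 := rfl
theorem L132611 : sm gf N10708 = N15565 := rfl
theorem L132615 : sm gd N15565 = N10852 := ded_35_1 (flp_f L92822) (flp_d L91512) L132611
theorem L132619 : sm gj N10708 = N15566 := rfl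
theorem L132625 : sm ge N15566 = N10710 := ded_42_1 (flp_j L91523) (flp_e L91514) L132619
theorem L132627 : sm gh N10708 = N15567 := rfl
theorem L132635 : sm gd N10709 = N15568 := rfl
theorem L132637 : sm gb N15568 = N10716 := ded_20_1 (flp_d L91572) (flp_b L91518) L132635
theorem L132641 : sm gh N15568 = N10855 := ded_38_2 (flp_d L92843) (flp_h L64184) (flp_d L63311) L91516 L132635
theorem L132643 : sm gi N10709 = N15569 := rfl
theorem L132650 : sm gh N10710 = N15570 := rfl
theorem L132655 : sm gj N15570 = N10711 := ded_52_1 (flp_h L91530) L91523 L132650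
theorem L132658 : sm gi N10711 = N15571 := rfl
theorem L132664 : sm gg N15571 = N10712 := ded_51_1 (flp_i L91538) (flp_g L91535) L132658
theorem L132666 : sm gj N10713 = N15572 := rfl
theorem L132668 : sm ga N15572 = N11902 := ded_16_1 (flp_j L101679) (flp_a L91547) L132666
theorem L132674 : sm gf N15572 = N10714 := ded_46_1 (flp_j L91554) L91545 L132666
theorem L132685 : sm gh N10714 = N15574 := rfl
theorem L132694 : sm gd N10715 = N15575 := rfl
theorem L132698 : sm gg N15575 = N10716 := ded_36_2 (flp_d L91572) (flp_g L91570) L132694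
theorem L132701 : sm gh N15575 = N10862 := ded_38_2 (flp_d L92905) (flp_h L64232) (flp_d L63348) L91563 L132694
theorem L132712 : sm gc N10716 = N15577 := rfl
theorem L132721 : sm gi N10716 = N15578 := rfl
theorem L132750 : sm gf N10720 = N15581 := rfl
theorem L132752 : sm ga N15581 = N10722 := ded_14_1 (flp_f L91628) (flp_a L91608) L132750
theorem L132757 : sm gj N15581 = N10780 := ded_46_2 (flp_f L92187) (flp_j L91614) L132750
theorem L132761 : sm gc N10721 = N15582 := rfl
theorem L132766 : sm gj N15582 = N10781 := ded_31_2 (flp_c L92196) (flp_j L91623) L132761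
theorem L132771 : sm gf N10721 = N15583 := rfl
theorem L132777 : sm gj N15583 = N10782 := ded_46_2 (flp_f L92205) (flp_j L91623) L132771
theorem L132780 : sm gh N10721 = N15584 := rfl
theorem L132782 : sm gb N15584 = N10724 := ded_25_1 (flp_h L91647) (flp_b L91620) L132780
theorem L132787 : sm gj N15584 = N10783 := ded_52_1 (flp_h L92212) (flp_j L91623) L132780
theorem L132790 : sm gg N10722 = N15585 := rfl
theorem L132798 : sm ge N10723 = N15586 := rfl
theorem L132803 : sm gj N15586 = N10785 := ded_42_2 (flp_e L92230) (flp_j L91644) L132798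
theorem L132827 : sm gi N10724 = N15589 := rfl
theorem L132836 : sm gj N15589 = N10788 := ded_53_1 (flp_i L92256) (flp_j L91655) L132827
theorem L132850 : sm gc N10727 = N15591 := rfl
theorem L132855 : sm gj N15591 = N10790 := ded_31_2 (flp_c L92277) (flp_j L91685) L132850
theorem L132858 : sm gf N10727 = N15592 := rfl
theorem L132864 : sm gd N15592 = N10728 := ded_35_1 (flp_f L91688) L91678 L132858
theorem L132866 : sm gj N15592 = N10791 := ded_46_2 (flp_f L92284) (flp_j L91685) L132858
theorem L132890 : sm gf N10729 = N15595 := rfl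
theorem L132895 : sm gj N15595 = N10794 := ded_46_2 (flp_f L92314) (flp_j L91702) L132890
theorem L132898 : sm gh N10729 = N15596 := rfl
theorem L132901 : sm gc N15596 = N10731 := ded_32_1 (flp_h L91715) L91699 L132898
theorem L132906 : sm ge N10730 = N15597 := rfl
theorem L132908 : sm gb N15597 = N10733 := ded_21_1 (flp_e L91732) (flp_b L91708) L132906
theorem L132910 : sm gj N15597 = N10796 := ded_42_2 (flp_e L92327) (flp_j L91712) L132906
theorem L132913 : sm gg N10730 = N15598 := rfl
theorem L132915 : sm gb N15598 = N10734 := ded_23_1 (flp_g L91740) (flp_b L91708) L132913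
theorem L132920 : sm gf N15598 = N15598 := ded_45_1 (flp_g L132913) (flp_f L91706) L63453 L91706 L132913
theorem L132921 : sm gh N10730 = N15599 := rfl
theorem L132927 : sm gj N15599 = N10798 := ded_52_1 (flp_h L92341) (flp_j L91712) L132921
theorem L132941 : sm gj N10732 = N15601 := rfl
theorem L132946 : sm gh N15601 = N10748 := ded_52_2 (flp_j L91880) (flp_h L91728) L132941
theorem L132951 : sm gg N10733 = N15602 := rfl
theorem L132968 : sm gj N10734 = N15604 := rfl
theorem L132970 : sm ga N15604 = N11941 := ded_16_1 (flp_j L102010) (flp_a L91742) L132968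
theorem L132977 : sm gg N15604 = N10803 := ded_49_1 (flp_j L92382) (flp_g L63884) (flp_j L63473) L91740 L132968
theorem L133001 : sm gb N10738 = N15607 := rfl
theorem L133007 : sm gi N15607 = N10754 := ded_26_2 (flp_b L91944) (flp_i L91791) L133001
theorem L133009 : sm ga N15607 = N10996 := ded_10_1 (flp_b L94072) L65041 (flp_b L63537) (flp_a L91785) L133001
theorem L133011 : sm gc N15607 = N11944 := ded_19_2 (flp_b L102037) (flp_c L70605) (flp_b L63511) L91783 L133001
theorem L133013 : sm gf N10738 = N15608 := rfl
theorem L133015 : sm ga N15608 = N10742 := ded_14_1 (flp_f L91824) (flp_a L91785) L133013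
theorem L133017 : sm gc N15608 = N10739 := ded_29_1 (flp_f L91793) L91783 L133013
theorem L133019 : sm gj N15608 = N10807 := ded_46_2 (flp_f L92424) (flp_j L91789) L133013
theorem L133021 : sm gi N15608 = N10755 := ded_48_2 (flp_f L91954) (flp_i L91791) L133013
theorem L133023 : sm gh N10738 = N15609 := rfl
theorem L133031 : sm gj N15609 = N10808 := ded_52_1 (flp_h L92432) (flp_j L91789) L133023
theorem L133033 : sm ge N10739 = N15610 := rfl
theorem L133035 : sm ga N15610 = N10744 := ded_13_1 (flp_e L91844) (flp_a L91795) L133033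
theorem L133037 : sm gb N15610 = N11947 := ded_21_1 (flp_e L102069) (flp_b L91797) L133033
theorem L133039 : sm gj N15610 = N10809 := ded_42_2 (flp_e L92441) (flp_j L91801) L133033
theorem L133041 : sm gi N15610 = N10757 := ded_44_2 (flp_e L91972) (flp_i L91803) L133033
theorem L133055 : sm gh N10739 = N15612 := rfl
theorem L133057 : sm ga N15612 = N10746 := ded_17_1 (flp_h L91862) (flp_a L91795) L133055
theorem L133088 : sm ge N10742 = N15615 := rfl
theorem L133090 : sm gb N15615 = N11004 := ded_21_1 (flp_e L94162) (flp_b L91826) L133088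
theorem L133092 : sm gc N15615 = N10744 := ded_28_1 (flp_e L91844) (flp_c L91828) L133088
theorem L133094 : sm gj N15615 = N10814 := ded_42_2 (flp_e L92491) (flp_j L91830) L133088
theorem L133096 : sm gi N15615 = N10762 := ded_44_2 (flp_e L92022) (flp_i L91832) L133088
theorem L133098 : sm gf N15615 = N15615 := ded_40_2 (flp_e L133088) (flp_f L91824) L63531 L91824 L133088
theorem L133099 : sm gg N10742 = N15616 := rfl
theorem L133101 : sm gb N15616 = N11005 := ded_23_1 (flp_g L94171) (flp_b L91826) L133099
theorem L133103 : sm gc N15616 = N10745 := ded_30_1 (flp_g L91853) (flp_c L91828) L133099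
theorem L133105 : sm gi N15616 = N10763 := ded_51_2 (flp_g L92031) (flp_i L91832) L133099
theorem L133107 : sm gf N15616 = N15616 := ded_45_1 (flp_g L133099) (flp_f L91824) L63532 L91824 L133099
theorem L133108 : sm gh N10742 = N15617 := rfl
theorem L133110 : sm gb N15617 = N11006 := ded_25_1 (flp_h L94178) (flp_b L91826) L133108
theorem L133114 : sm gf N15617 = N10743 := ded_47_1 (flp_h L91834) L91824 L133108
theorem L133118 : sm gd N10743 = N15618 := rfl
theorem L133137 : sm gg N10744 = N15620 := rfl
theorem L133139 : sm gb N15620 = N10749 := ded_23_1 (flp_g L91889) (flp_b L91846) L133137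
theorem L133141 : sm ge N15620 = N10745 := ded_41_1 (flp_g L91853) L91844 L133137
theorem L133143 : sm gi N15620 = N10767 := ded_51_2 (flp_g L92066) (flp_i L91850) L133137
theorem L133145 : sm gh N10744 = N15621 := rfl
theorem L133152 : sm gj N15621 = N10820 := ded_52_1 (flp_h L92543) (flp_j L91848) L133145
theorem L133154 : sm gj N10745 = N15622 := rfl
theorem L133158 : sm gd N15622 = N10748 := ded_37_1 (flp_j L91880) (flp_d L91857) L133154
theorem L133161 : sm gi N15622 = N10769 := ded_53_2 (flp_j L92081) (flp_i L91859) L133154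
theorem L133163 : sm gg N15622 = N10821 := ded_49_1 (flp_j L92550) (flp_g L63986) (flp_j L63545) L91853 L133154
theorem L133172 : sm gi N10746 = N15624 := rfl
theorem L133180 : sm gh N15624 = N10771 := ded_54_1 (flp_i L92098) (flp_h L63688) (flp_i L63547) L91862 L133172
theorem L133182 : sm gf N10749 = N15625 := rfl
theorem L133188 : sm gi N15625 = N10772 := ded_48_2 (flp_f L92107) (flp_i L91897) L133182
theorem L133192 : sm gj N10749 = N15626 := rfl
theorem L133200 : sm gi N15626 = N10773 := ded_53_2 (flp_j L92115) (flp_i L91897) L133192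
theorem L133221 : sm gi N10750 = N15629 := rfl
theorem L133223 : sm ga N15629 = N11966 := ded_18_1 (flp_i L102242) (flp_a L91901) L133221
theorem L133232 : sm gh N15629 = N10776 := ded_54_1 (flp_i L92143) (flp_h L63722) (flp_i L63572) L91899 L133221
theorem L133245 : sm gi N10752 = N15631 := rfl
theorem L133254 : sm gh N15631 = N10778 := ded_54_1 (flp_i L92166) (flp_h L63744) (flp_i L63583) L91923 L133245
theorem L133256 : sm gf N10754 = N15632 := rfl
theorem L133258 : sm ga N15632 = N11021 := ded_14_1 (flp_f L94318) (flp_a L91950) L133256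
theorem L133260 : sm gb N15632 = N10755 := ded_22_1 (flp_f L91954) L91944 L133256
theorem L133262 : sm gc N15632 = N11969 := ded_29_1 (flp_f L102271) (flp_c L91952) L133256
theorem L133264 : sm gj N15632 = N10831 := ded_46_2 (flp_f L92645) (flp_j L91948) L133256
theorem L133266 : sm gh N10754 = N15633 := rfl
theorem L133270 : sm gb N15633 = N10756 := ded_25_1 (flp_h L91962) L91944 L133266
theorem L133278 : sm ge N10755 = N15634 := rfl
theorem L133280 : sm ga N15634 = N10762 := ded_13_1 (flp_e L92022) (flp_a L91956) L133278
theorem L133282 : sm gc N15634 = N10757 := ded_28_1 (flp_e L91972) (flp_c L91958) L133278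
theorem L133284 : sm gj N15634 = N10833 := ded_42_2 (flp_e L92664) (flp_j L91960) L133278
theorem L133287 : sm gg N10755 = N15635 := rfl
theorem L133289 : sm ga N15635 = N10763 := ded_15_1 (flp_g L92031) (flp_a L91956) L133287
theorem L133294 : sm gh N10755 = N15636 := rfl
theorem L133296 : sm ga N15636 = N10764 := ded_17_1 (flp_h L92038) (flp_a L91956) L133294
theorem L133298 : sm gc N15636 = N10759 := ded_32_1 (flp_h L91990) (flp_c L91958) L133294
theorem L133300 : sm gf N15636 = N10756 := ded_47_1 (flp_h L91962) L91954 L133294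
theorem L133302 : sm gj N15636 = N10835 := ded_52_1 (flp_h L92679) (flp_j L91960) L133294
theorem L133304 : sm gd N10756 = N15637 := rfl
theorem L133306 : sm ga N15637 = N10765 := ded_12_1 (flp_d L92048) (flp_a L91964) L133304
theorem L133309 : sm gj N15637 = N10836 := ded_37_2 (flp_d L92687) (flp_j L91970) L133304
theorem L133312 : sm gi N10756 = N15638 := rfl
theorem L133314 : sm ga N15638 = N10766 := ded_18_1 (flp_i L92056) (flp_a L91964) L133312
theorem L133316 : sm gc N15638 = N10760 := ded_33_1 (flp_i L92001) (flp_c L91966) L133312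
theorem L133320 : sm gj N15638 = N10837 := ded_53_1 (flp_i L92694) (flp_j L91970) L133312
theorem L133322 : sm gg N10757 = N15639 := rfl
theorem L133326 : sm gb N15639 = N11976 := ded_23_1 (flp_g L102336) (flp_b L91976) L133322
theorem L133328 : sm ge N15639 = N10758 := ded_41_1 (flp_g L91981) L91972 L133322
theorem L133330 : sm gh N10757 = N15640 := rfl
theorem L133334 : sm gb N15640 = N11977 := ded_25_1 (flp_h L102342) (flp_b L91976) L133330
theorem L133339 : sm gj N15640 = N10839 := ded_52_1 (flp_h L92711) (flp_j L91978) L133330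
theorem L133341 : sm gj N10758 = N15641 := rfl
theorem L133343 : sm ga N15641 = N10769 := ded_16_1 (flp_j L92081) (flp_a L91983) L133341
theorem L133350 : sm gg N15641 = N10840 := ded_49_1 (flp_j L92720) (flp_g L64101) (flp_j L63635) L91981 L133341
theorem L133352 : sm gh N10758 = N15642 := rfl
theorem L133359 : sm gg N15642 = N10759 := ded_50_1 (flp_h L91990) L91981 L133352
theorem L133362 : sm gi N10759 = N15643 := rfl
theorem L133364 : sm ga N15643 = N10771 := ded_18_1 (flp_i L92098) (flp_a L91992) L133362
theorem L133373 : sm gd N10762 = N15644 := rfl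
theorem L133375 : sm gb N15644 = N11033 := ded_20_1 (flp_d L94435) (flp_b L92024) L133373
theorem L133377 : sm gf N15644 = N15644 := ded_35_2 (flp_d L133373) L92030 L133373
theorem L133378 : sm gj N15644 = N10843 := ded_37_2 (flp_d L92750) (flp_j L92028) L133373
theorem L133380 : sm gg N10762 = N15645 := rfl
theorem L133386 : sm ge N15645 = N10763 := ded_41_1 (flp_g L92031) L92022 L133380
theorem L133388 : sm gh N10762 = N15646 := rfl
theorem L133392 : sm gc N15646 = N10768 := ded_32_1 (flp_h L92072) (flp_c L92026) L133388
theorem L133394 : sm ge N15646 = N10764 := ded_43_1 (flp_h L92038) L92022 L133388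
theorem L133397 : sm gj N15646 = N10845 := ded_52_1 (flp_h L92763) (flp_j L92028) L133388
theorem L133399 : sm gj N10763 = N15647 := rfl
theorem L133403 : sm gc N15647 = N10769 := ded_31_1 (flp_j L92081) (flp_c L92035) L133399
theorem L133406 : sm gg N15647 = N10846 := ded_49_1 (flp_j L92772) (flp_g L64146) (flp_j L63662) L92031 L133399
theorem L133408 : sm gh N10763 = N15648 := rfl
theorem L133415 : sm gg N15648 = N10764 := ded_50_1 (flp_h L92038) L92031 L133408
theorem L133417 : sm gd N10764 = N15649 := rfl
theorem L133419 : sm gb N15649 = N11038 := ded_20_1 (flp_d L94470) (flp_b L92040) L133417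
theorem L133421 : sm gf N15649 = N10765 := ded_35_2 (flp_d L92048) (flp_f L92044) L133417
theorem L133423 : sm gj N15649 = N10848 := ded_37_2 (flp_d L92790) (flp_j L92046) L133417
theorem L133425 : sm gc N15649 = N15649 := ded_27_1 (flp_d L133417) L92042 L63696 (flp_c L92042) L133417
theorem L133426 : sm gi N10764 = N15650 := rfl
theorem L133430 : sm gc N15650 = N10771 := ded_33_1 (flp_i L92098) (flp_c L92042) L133426
theorem L133436 : sm ge N10765 = N15651 := rfl
theorem L133438 : sm gb N15651 = N11040 := ded_21_1 (flp_e L94486) (flp_b L92050) L133436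
theorem L133440 : sm gc N15651 = N15651 := ded_28_1 (flp_e L133436) L92055 L133436
theorem L133441 : sm gg N15651 = N15651 := ded_41_2 (flp_e L133436) L92052 L133436
theorem L133442 : sm gj N15651 = N10850 := ded_42_2 (flp_e L92805) (flp_j L92053) L133436
theorem L133444 : sm gd N15651 = N15651 := ded_34_1 (flp_e L133436) (flp_d L92048) L63670 L92048 L133436
theorem L133445 : sm gi N10765 = N15652 := rfl
theorem L133447 : sm gb N15652 = N11041 := ded_26_1 (flp_i L94494) (flp_b L92050) L133445
theorem L133450 : sm gd N15652 = N10766 := ded_39_1 (flp_i L92056) L92048 L133445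
theorem L133453 : sm gj N15652 = N10851 := ded_53_1 (flp_i L92813) (flp_j L92053) L133445
theorem L133469 : sm gh N10767 = N15655 := rfl
theorem L133475 : sm gg N15655 = N10768 := ded_50_1 (flp_h L92072) L92066 L133469
theorem L133477 : sm gd N10768 = N15656 := rfl
theorem L133479 : sm gb N15656 = N10775 := ded_20_1 (flp_d L92135) (flp_b L92074) L133477
theorem L133482 : sm gj N15656 = N10855 := ded_37_2 (flp_d L92843) (flp_j L92079) L133477
theorem L133485 : sm gi N10768 = N15657 := rfl
theorem L133492 : sm gj N15657 = N10856 := ded_53_1 (flp_i L92849) (flp_j L92079) L133485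
theorem L133494 : sm gh N10769 = N15658 := rfl
theorem L133504 : sm gi N10770 = N15659 := rfl
theorem L133506 : sm gb N15659 = N10778 := ded_26_1 (flp_i L92166) (flp_b L92092) L133504
theorem L133510 : sm gg N15659 = N10771 := ded_51_1 (flp_i L92098) (flp_g L92095) L133504
theorem L133512 : sm gj N10772 = N15660 := rfl
theorem L133519 : sm gf N15660 = N10773 := ded_46_1 (flp_j L92115) L92107 L133512
theorem L133521 : sm gh N10772 = N15661 := rfl
theorem L133523 : sm ga N15661 = N11998 := ded_17_1 (flp_h L102527) (flp_a L92109) L133521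
theorem L133528 : sm gf N15661 = N10774 := ded_47_1 (flp_h L92125) L92107 L133521
theorem L133531 : sm gh N10773 = N15662 := rfl
theorem L133533 : sm ga N15662 = N11999 := ded_17_1 (flp_h L102535) (flp_a L92117) L133531
theorem L133539 : sm gg N15662 = N10861 := ded_50_1 (flp_h L92895) (flp_g L92123) L133531
theorem L133541 : sm gj N15662 = N10774 := ded_52_1 (flp_h L92125) L92115 L133531
theorem L133543 : sm gd N10774 = N15663 := rfl
theorem L133547 : sm gg N15663 = N10775 := ded_36_2 (flp_d L92135) (flp_g L92133) L133543
theorem L133560 : sm gc N10775 = N15665 := rfl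
theorem L133568 : sm gd N15665 = N11054 := ded_27_2 (flp_c L94609) (flp_d L65381) (flp_c L63726) L92135 L133560
theorem L133570 : sm gi N10775 = N15666 := rfl
theorem L133574 : sm gd N15666 = N10776 := ded_39_1 (flp_i L92143) L92135 L133570
theorem L133578 : sm gj N15666 = N10865 := ded_53_1 (flp_i L92930) (flp_j L92140) L133570
theorem L133602 : sm gf N10779 = N15669 := rfl
theorem L133608 : sm gd N15669 = N10780 := ded_35_1 (flp_f L92187) L92176 L133602
theorem L133611 : sm gh N10779 = N15670 := rfl
theorem L133617 : sm ge N15670 = N10792 := ded_43_1 (flp_h L92293) (flp_e L92185) L133611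
theorem L133633 : sm gf N10781 = N15672 := rfl
theorem L133640 : sm gh N10781 = N15673 := rfl
theorem L133645 : sm ge N15673 = N10795 := ded_43_1 (flp_h L92320) (flp_e L92198) L133640
theorem L133647 : sm gg N15673 = N10872 := ded_50_1 (flp_h L92996) (flp_g L92200) L133640
theorem L133656 : sm gg N10782 = N15675 := rfl
theorem L133663 : sm gf N15675 = N10874 := ded_45_1 (flp_g L93013) (flp_f L64308) (flp_g L63780) L92205 L133656
theorem L133665 : sm gh N10782 = N15676 := rfl
theorem L133672 : sm gi N10783 = N15677 := rfl
theorem L133679 : sm gg N15677 = N10876 := ded_51_1 (flp_i L93028) (flp_g L92218) L133672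
theorem L133682 : sm gj N10784 = N15678 := rfl
theorem L133691 : sm gg N10785 = N15679 := rfl
theorem L133699 : sm gh N10785 = N15680 := rfl
theorem L133701 : sm ga N15680 = N12028 := ded_17_1 (flp_h L102771) (flp_a L92232) L133699
theorem L133706 : sm gf N15680 = N10802 := ded_47_1 (flp_h L92375) (flp_f L92236) L133699
theorem L133745 : sm gf N10790 = N15685 := rfl
theorem L133749 : sm gc N15685 = N10791 := ded_29_1 (flp_f L92284) L92277 L133745
theorem L133752 : sm gh N10790 = N15686 := rfl
theorem L133758 : sm gg N15686 = N10885 := ded_50_1 (flp_h L93107) (flp_g L92281) L133752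
theorem L133760 : sm ge N10791 = N15687 := rfl
theorem L133767 : sm gg N10791 = N15688 := rfl
theorem L133778 : sm gh N10791 = N15689 := rfl
theorem L133784 : sm gf N15689 = N10792 := ded_47_1 (flp_h L92293) L92284 L133778
theorem L133810 : sm ge N10794 = N15692 := rfl
theorem L133816 : sm gg N10794 = N15693 := rfl
theorem L133819 : sm gc N15693 = N10797 := ded_30_1 (flp_g L92332) (flp_c L92317) L133816
theorem L133822 : sm gf N15693 = N10892 := ded_45_1 (flp_g L93171) (flp_f L64414) (flp_g L63850) L92314 L133816
theorem L133824 : sm gh N10794 = N15694 := rfl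
theorem L133829 : sm gf N15694 = N10795 := ded_47_1 (flp_h L92320) L92314 L133824
theorem L133831 : sm gd N10795 = N15695 := rfl
theorem L133834 : sm gg N15695 = N10894 := ded_36_2 (flp_d L93185) (flp_g L92325) L133831
theorem L133838 : sm gi N10795 = N15696 := rfl
theorem L133843 : sm gg N15696 = N10895 := ded_51_1 (flp_i L93191) (flp_g L92325) L133838
theorem L133846 : sm gg N10796 = N15697 := rfl
theorem L133850 : sm ge N15697 = N10797 := ded_41_1 (flp_g L92332) L92327 L133846
theorem L133853 : sm gh N10796 = N15698 := rfl
theorem L133859 : sm gj N10797 = N15699 := rfl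
theorem L133865 : sm gf N15699 = N10898 := ded_46_1 (flp_j L93213) (flp_f L92339) L133859
theorem L133868 : sm gh N10797 = N15700 := rfl
theorem L133874 : sm gg N15700 = N10798 := ded_50_1 (flp_h L92341) L92332 L133868
theorem L133876 : sm gd N15700 = N10822 := ded_38_1 (flp_h L92560) L63990 (flp_h L63873) (flp_d L92336) L133868
theorem L133878 : sm gi N10798 = N15701 := rfl
theorem L133887 : sm gf N10801 = N15702 := rfl
theorem L133893 : sm ge N15702 = N10901 := ded_40_1 (flp_f L93239) L64473 (flp_f L63892) (flp_e L92372) L133887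
theorem L133912 : sm gd N10802 = N15705 := rfl
theorem L133949 : sm gf N10806 = N15709 := rfl
theorem L133951 : sm ga N15709 = N11057 := ded_14_1 (flp_f L94641) (flp_a L92420) L133949
theorem L133953 : sm gb N15709 = N10807 := ded_22_1 (flp_f L92424) L92413 L133949
theorem L133957 : sm gi N15709 = N10831 := ded_48_2 (flp_f L92645) (flp_i L92418) L133949
theorem L133970 : sm ge N10807 = N15711 := rfl
theorem L133972 : sm ga N15711 = N10814 := ded_13_1 (flp_e L92491) (flp_a L92426) L133970
theorem L133974 : sm gc N15711 = N10809 := ded_28_1 (flp_e L92441) (flp_c L92428) L133970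
theorem L133976 : sm gi N15711 = N10833 := ded_44_2 (flp_e L92664) (flp_i L92430) L133970
theorem L133979 : sm gg N10807 = N15712 := rfl
theorem L133981 : sm ga N15712 = N10815 := ded_15_1 (flp_g L92500) (flp_a L92426) L133979
theorem L133983 : sm gc N15712 = N10810 := ded_30_1 (flp_g L92450) (flp_c L92428) L133979
theorem L133985 : sm gi N15712 = N10834 := ded_51_2 (flp_g L92671) (flp_i L92430) L133979
theorem L133987 : sm gf N15712 = N10911 := ded_45_1 (flp_g L93333) (flp_f L64523) (flp_g L63929) L92424 L133979
theorem L133989 : sm gh N10807 = N15713 := rfl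
theorem L133997 : sm gd N10808 = N15714 := rfl
theorem L134001 : sm gg N15714 = N10913 := ded_36_2 (flp_d L93350) (flp_g L92439) L133997
theorem L134003 : sm gi N10808 = N15715 := rfl
theorem L134012 : sm gh N15715 = N10837 := ded_54_1 (flp_i L92694) (flp_h L64085) (flp_i L63931) L92432 L134003
theorem L134014 : sm gg N10809 = N15716 := rfl
theorem L134033 : sm gj N10810 = N15718 := rfl
theorem L134035 : sm ga N15718 = N10821 := ded_16_1 (flp_j L92550) (flp_a L92452) L134033
theorem L134045 : sm gh N10810 = N15719 := rfl
theorem L134049 : sm gb N15719 = N12067 := ded_25_1 (flp_h L103081) (flp_b L92454) L134045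
theorem L134065 : sm gd N10814 = N15721 := rfl
theorem L134067 : sm gb N15721 = N11069 := ded_20_1 (flp_d L94757) (flp_b L92493) L134065
theorem L134069 : sm gf N15721 = N15721 := ded_35_2 (flp_d L134065) L92499 L134065
theorem L134070 : sm gi N15721 = N10843 := ded_39_2 (flp_d L92750) (flp_i L92497) L134065
theorem L134072 : sm gg N10814 = N15722 := rfl
theorem L134074 : sm gb N15722 = N11070 := ded_23_1 (flp_g L94763) (flp_b L92493) L134072
theorem L134076 : sm gc N15722 = N10819 := ded_30_1 (flp_g L92535) (flp_c L92495) L134072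
theorem L134078 : sm ge N15722 = N10815 := ded_41_1 (flp_g L92500) L92491 L134072
theorem L134080 : sm gi N15722 = N10844 := ded_51_2 (flp_g L92755) (flp_i L92497) L134072
theorem L134082 : sm gh N10814 = N15723 := rfl
theorem L134084 : sm gb N15723 = N11071 := ded_25_1 (flp_h L94771) (flp_b L92493) L134082
theorem L134086 : sm gc N15723 = N10820 := ded_32_1 (flp_h L92543) (flp_c L92495) L134082
theorem L134091 : sm gj N10815 = N15724 := rfl
theorem L134093 : sm gb N15724 = N11072 := ded_24_1 (flp_j L94778) (flp_b L92502) L134091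
theorem L134095 : sm gc N15724 = N10821 := ded_31_1 (flp_j L92550) (flp_c L92504) L134091
theorem L134097 : sm gf N15724 = N10923 := ded_46_1 (flp_j L93445) (flp_f L92508) L134091
theorem L134099 : sm gi N15724 = N10846 := ded_53_2 (flp_j L92772) (flp_i L92506) L134091
theorem L134101 : sm gh N10815 = N15725 := rfl
theorem L134103 : sm gb N15725 = N11073 := ded_25_1 (flp_h L94786) (flp_b L92502) L134101
theorem L134117 : sm gi N10816 = N15727 := rfl
theorem L134123 : sm gf N15727 = N10818 := ded_48_1 (flp_i L92524) (flp_f L92516) L134117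
theorem L134125 : sm gh N15727 = N10849 := ded_54_1 (flp_i L92797) (flp_h L64154) (flp_i L63968) L92510 L134117
theorem L134127 : sm ge N10817 = N15728 := rfl
theorem L134129 : sm gb N15728 = N11076 := ded_21_1 (flp_e L94807) (flp_b L92520) L134127
theorem L134142 : sm gf N10819 = N15730 := rfl
theorem L134146 : sm gi N15730 = N10852 := ded_48_2 (flp_f L92822) (flp_i L92541) L134142
theorem L134148 : sm ge N15730 = N10929 := ded_40_1 (flp_f L93493) L64637 (flp_f L63994) (flp_e L92539) L134142
theorem L134151 : sm gj N10819 = N15731 := rfl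
theorem L134155 : sm ge N15731 = N10821 := ded_42_1 (flp_j L92550) (flp_e L92539) L134151
theorem L134157 : sm gi N15731 = N10853 := ded_53_2 (flp_j L92829) (flp_i L92541) L134151
theorem L134159 : sm gh N10819 = N15732 := rfl
theorem L134165 : sm gg N15732 = N10820 := ded_50_1 (flp_h L92543) L92535 L134159
theorem L134167 : sm gd N10820 = N15733 := rfl
theorem L134172 : sm gi N10820 = N15734 := rfl
theorem L134174 : sm gb N15734 = N10828 := ded_26_1 (flp_i L92612) (flp_b L92545) L134172
theorem L134176 : sm ge N15734 = N10823 := ded_44_1 (flp_i L92568) (flp_e L92547) L134172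
theorem L134179 : sm gh N15734 = N10856 := ded_54_1 (flp_i L92849) (flp_h L64184) (flp_i L63983) L92543 L134172
theorem L134181 : sm gh N10821 = N15735 := rfl
theorem L134183 : sm gb N15735 = N10829 := ded_25_1 (flp_h L92623) (flp_b L92552) L134181
theorem L134189 : sm gi N10822 = N15736 := rfl
theorem L134264 : sm gi N10829 = N15744 := rfl
theorem L134270 : sm gf N15744 = N10943 := ded_48_1 (flp_i L93618) (flp_f L92629) L134264
theorem L134272 : sm gj N15744 = N10830 := ded_53_1 (flp_i L92633) (flp_j L92631) L134264
theorem L134274 : sm gh N15744 = N10866 := ded_54_1 (flp_i L92938) (flp_h L64257) (flp_i L64048) L92623 L134264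
theorem L134276 : sm ge N10831 = N15745 := rfl
theorem L134278 : sm ga N15745 = N11093 := ded_13_1 (flp_e L94955) (flp_a L92647) L134276
theorem L134280 : sm gb N15745 = N10833 := ded_21_1 (flp_e L92664) (flp_b L92649) L134276
theorem L134282 : sm gc N15745 = N12093 := ded_28_1 (flp_e L103296) (flp_c L92651) L134276
theorem L134284 : sm gf N15745 = N15745 := ded_40_2 (flp_e L134276) (flp_f L92645) L64072 L92645 L134276
theorem L134285 : sm gg N10831 = N15746 := rfl
theorem L134287 : sm ga N15746 = N11094 := ded_15_1 (flp_g L94962) (flp_a L92647) L134285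
theorem L134289 : sm gb N15746 = N10834 := ded_23_1 (flp_g L92671) (flp_b L92649) L134285
theorem L134291 : sm gc N15746 = N12094 := ded_30_1 (flp_g L103303) (flp_c L92651) L134285
theorem L134293 : sm gf N15746 = N10945 := ded_45_1 (flp_g L93639) (flp_f L64743) (flp_g L64073) L92645 L134285
theorem L134295 : sm gh N10831 = N15747 := rfl
theorem L134297 : sm ga N15747 = N11095 := ded_17_1 (flp_h L94970) (flp_a L92647) L134295
theorem L134324 : sm gd N10833 = N15750 := rfl
theorem L134326 : sm ga N15750 = N10843 := ded_12_1 (flp_d L92750) (flp_a L92666) L134324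
theorem L134328 : sm gf N15750 = N15750 := ded_35_2 (flp_d L134324) L92670 L134324
theorem L134329 : sm gg N10833 = N15751 := rfl
theorem L134331 : sm ga N15751 = N10844 := ded_15_1 (flp_g L92755) (flp_a L92666) L134329
theorem L134333 : sm gc N15751 = N10838 := ded_30_1 (flp_g L92703) (flp_c L92668) L134329
theorem L134335 : sm ge N15751 = N10834 := ded_41_1 (flp_g L92671) L92664 L134329
theorem L134337 : sm gh N10833 = N15752 := rfl
theorem L134339 : sm ga N15752 = N10845 := ded_17_1 (flp_h L92763) (flp_a L92666) L134337
theorem L134341 : sm gc N15752 = N10839 := ded_32_1 (flp_h L92711) (flp_c L92668) L134337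
theorem L134343 : sm ge N15752 = N10835 := ded_43_1 (flp_h L92679) L92664 L134337
theorem L134345 : sm gf N15752 = N15752 := ded_47_1 (flp_h L134337) L92670 L134337
theorem L134346 : sm gj N10834 = N15753 := rfl
theorem L134348 : sm ga N15753 = N10846 := ded_16_1 (flp_j L92772) (flp_a L92673) L134346
theorem L134352 : sm gf N15753 = N10952 := ded_46_1 (flp_j L93700) (flp_f L92677) L134346
theorem L134354 : sm gh N10834 = N15754 := rfl
theorem L134356 : sm ga N15754 = N10847 := ded_17_1 (flp_h L92780) (flp_a L92673) L134354
theorem L134358 : sm gc N15754 = N10841 := ded_32_1 (flp_h L92730) (flp_c L92675) L134354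
theorem L134360 : sm gf N15754 = N10953 := ded_47_1 (flp_h L93707) (flp_f L92677) L134354
theorem L134362 : sm gg N15754 = N10835 := ded_50_1 (flp_h L92679) L92671 L134354
theorem L134364 : sm gd N10835 = N15755 := rfl
theorem L134366 : sm ga N15755 = N10848 := ded_12_1 (flp_d L92790) (flp_a L92681) L134364
theorem L134368 : sm gf N15755 = N10836 := ded_35_2 (flp_d L92687) (flp_f L92685) L134364
theorem L134371 : sm gi N10835 = N15756 := rfl
theorem L134375 : sm gc N15756 = N10842 := ded_33_1 (flp_i L92741) (flp_c L92683) L134371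
theorem L134379 : sm ge N10836 = N15757 := rfl
theorem L134381 : sm ga N15757 = N10850 := ded_13_1 (flp_e L92805) (flp_a L92689) L134379
theorem L134384 : sm gg N15757 = N10956 := ded_41_2 (flp_e L93732) (flp_g L92691) L134379
theorem L134387 : sm gi N10836 = N15758 := rfl
theorem L134392 : sm gd N15758 = N10837 := ded_39_1 (flp_i L92694) L92687 L134387
theorem L134396 : sm gf N10838 = N15759 := rfl
theorem L134400 : sm gb N15759 = N12107 := ded_22_1 (flp_f L103414) (flp_b L92707) L134396
theorem L134402 : sm ge N15759 = N10958 := ded_40_1 (flp_f L93747) L64806 (flp_f L64109) (flp_e L92709) L134396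
theorem L134405 : sm gj N10838 = N15760 := rfl
theorem L134409 : sm gb N15760 = N12108 := ded_24_1 (flp_j L103421) (flp_b L92707) L134405
theorem L134413 : sm gh N10838 = N15761 := rfl
theorem L134415 : sm ga N15761 = N10854 := ded_17_1 (flp_h L92835) (flp_a L92705) L134413
theorem L134419 : sm ge N15761 = N10841 := ded_43_1 (flp_h L92730) (flp_e L92709) L134413
theorem L134421 : sm gg N15761 = N10839 := ded_50_1 (flp_h L92711) L92703 L134413
theorem L134423 : sm gd N10839 = N15762 := rfl
theorem L134425 : sm ga N15762 = N10855 := ded_12_1 (flp_d L92843) (flp_a L92713) L134423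
theorem L134427 : sm gb N15762 = N12110 := ded_20_1 (flp_d L103435) (flp_b L92715) L134423
theorem L134431 : sm gi N10839 = N15763 := rfl
theorem L134433 : sm ga N15763 = N10856 := ded_18_1 (flp_i L92849) (flp_a L92713) L134431
theorem L134437 : sm ge N15763 = N10842 := ded_44_1 (flp_i L92741) (flp_e L92717) L134431
theorem L134440 : sm gh N10840 = N15764 := rfl
theorem L134448 : sm gj N15764 = N10841 := ded_52_1 (flp_h L92730) L92720 L134440
theorem L134451 : sm gi N10841 = N15765 := rfl
theorem L134453 : sm ga N15765 = N10858 := ded_18_1 (flp_i L92865) (flp_a L92732) L134451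
theorem L134458 : sm gf N15765 = N10964 := ded_48_1 (flp_i L93805) (flp_f L92736) L134451
theorem L134460 : sm gg N15765 = N10842 := ded_51_1 (flp_i L92741) (flp_g L92738) L134451
theorem L134462 : sm gg N10843 = N15766 := rfl
theorem L134464 : sm gb N15766 = N11114 := ded_23_1 (flp_g L95141) (flp_b L92752) L134462
theorem L134466 : sm gd N15766 = N10844 := ded_36_1 (flp_g L92755) L92750 L134462
theorem L134468 : sm gh N10843 = N15767 := rfl
theorem L134470 : sm gb N15767 = N11115 := ded_25_1 (flp_h L95146) (flp_b L92752) L134468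
theorem L134472 : sm gf N15767 = N15767 := ded_47_1 (flp_h L134468) L92754 L134468
theorem L134473 : sm gf N10844 = N15768 := rfl
theorem L134477 : sm gc N15768 = N10852 := ded_29_1 (flp_f L92822) (flp_c L92759) L134473
theorem L134479 : sm ge N15768 = N10967 := ded_40_1 (flp_f L93828) L64859 (flp_f L64152) (flp_e L92761) L134473
theorem L134482 : sm gj N10844 = N15769 := rfl
theorem L134488 : sm ge N15769 = N10846 := ded_42_1 (flp_j L92772) (flp_e L92761) L134482
theorem L134490 : sm gh N10844 = N15770 := rfl
theorem L134492 : sm gb N15770 = N11118 := ded_25_1 (flp_h L95163) (flp_b L92757) L134490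
theorem L134496 : sm ge N15770 = N10847 := ded_43_1 (flp_h L92780) (flp_e L92761) L134490
theorem L134500 : sm gd N10845 = N15771 := rfl
theorem L134502 : sm gb N15771 = N11119 := ded_20_1 (flp_d L95171) (flp_b L92765) L134500
theorem L134505 : sm gi N10845 = N15772 := rfl
theorem L134509 : sm gc N15772 = N10856 := ded_33_1 (flp_i L92849) (flp_c L92767) L134505
theorem L134514 : sm gh N10846 = N15773 := rfl
theorem L134516 : sm gb N15773 = N11121 := ded_25_1 (flp_h L95181) (flp_b L92774) L134514
theorem L134520 : sm gf N15773 = N10972 := ded_47_1 (flp_h L93870) (flp_f L92778) L134514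
theorem L134522 : sm gj N15773 = N10847 := ded_52_1 (flp_h L92780) L92772 L134514
theorem L134524 : sm gd N10847 = N15774 := rfl
theorem L134526 : sm gb N15774 = N11122 := ded_20_1 (flp_d L95189) (flp_b L92782) L134524
theorem L134528 : sm gf N15774 = N10973 := ded_35_2 (flp_d L93879) (flp_f L92786) L134524
theorem L134530 : sm gg N15774 = N10848 := ded_36_2 (flp_d L92790) (flp_g L92788) L134524
theorem L134532 : sm gc N15774 = N15774 := ded_27_1 (flp_d L134524) L92784 L64207 (flp_c L92784) L134524
theorem L134533 : sm gi N10847 = N15775 := rfl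
theorem L134535 : sm gb N15775 = N11123 := ded_26_1 (flp_i L95197) (flp_b L92782) L134533
theorem L134543 : sm ge N10848 = N15776 := rfl
theorem L134545 : sm gb N15776 = N11124 := ded_21_1 (flp_e L95205) (flp_b L92792) L134543
theorem L134547 : sm gc N15776 = N15776 := ded_28_1 (flp_e L134543) L92796 L134543
theorem L134548 : sm gi N10848 = N15777 := rfl
theorem L134557 : sm gf N10850 = N15778 := rfl
theorem L134559 : sm gb N15778 = N11126 := ded_22_1 (flp_f L95217) (flp_b L92807) L134557
theorem L134561 : sm gc N15778 = N15778 := ded_29_1 (flp_f L134557) L92809 L134557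
theorem L134562 : sm gd N15778 = N15778 := ded_35_1 (flp_f L134557) L92812 L134557
theorem L134563 : sm gi N10850 = N15779 := rfl
theorem L134573 : sm gh N10851 = N15780 := rfl
theorem L134578 : sm gg N15780 = N10979 := ded_50_1 (flp_h L93926) (flp_g L92820) L134573
theorem L134580 : sm gj N10852 = N15781 := rfl
theorem L134586 : sm gf N15781 = N10853 := ded_46_1 (flp_j L92829) L92822 L134580
theorem L134588 : sm gh N10852 = N15782 := rfl
theorem L134592 : sm ge N15782 = N10981 := ded_43_1 (flp_h L93939) (flp_e L92826) L134588
theorem L134594 : sm gf N15782 = N10854 := ded_47_1 (flp_h L92835) L92822 L134588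
theorem L134597 : sm gh N10853 = N15783 := rfl
theorem L134601 : sm ge N15783 = N10857 := ded_43_1 (flp_h L92856) (flp_e L92833) L134597
theorem L134603 : sm gj N15783 = N10854 := ded_52_1 (flp_h L92835) L92829 L134597
theorem L134605 : sm gd N10854 = N15784 := rfl
theorem L134607 : sm gb N15784 = N10862 := ded_20_1 (flp_d L92905) (flp_b L92837) L134605
theorem L134609 : sm gg N15784 = N10855 := ded_36_2 (flp_d L92843) (flp_g L92841) L134605
theorem L134612 : sm gi N10854 = N15785 := rfl
theorem L134618 : sm gg N15785 = N10856 := ded_51_1 (flp_i L92849) (flp_g L92841) L134612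
theorem L134620 : sm gc N10855 = N15786 := rfl
theorem L134624 : sm gi N10855 = N15787 := rfl
theorem L134626 : sm gb N15787 = N10865 := ded_26_1 (flp_i L92930) (flp_b L92845) L134624
theorem L134628 : sm gd N15787 = N10856 := ded_39_1 (flp_i L92849) L92843 L134624
theorem L134632 : sm gi N10857 = N15788 := rfl
theorem L134634 : sm gb N15788 = N10866 := ded_26_1 (flp_i L92938) (flp_b L92858) L134632
theorem L134637 : sm gf N15788 = N10987 := ded_48_1 (flp_i L93987) (flp_f L92860) L134632
theorem L134662 : sm gd N10860 = N15791 := rfl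
theorem L134664 : sm ga N15791 = N12139 := ded_12_1 (flp_d L103668) (flp_a L92886) L134662
theorem L134666 : sm gf N15791 = N10862 := ded_35_2 (flp_d L92905) (flp_f L92892) L134662
theorem L134680 : sm gd N10861 = N15793 := rfl
theorem L134682 : sm ga N15793 = N12141 := ded_12_1 (flp_d L103682) (flp_a L92897) L134680
theorem L134684 : sm gj N15793 = N10862 := ded_37_2 (flp_d L92905) (flp_j L92903) L134680
theorem L134697 : sm gc N10862 = N15795 := rfl
theorem L134706 : sm gi N10862 = N15796 := rfl
theorem L134713 : sm gg N15796 = N10865 := ded_51_1 (flp_i L92930) (flp_g L92909) L134706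
theorem L134715 : sm gb N10864 = N15797 := rfl
theorem L134717 : sm gd N15797 = N11145 := ded_20_2 (flp_b L95377) (flp_d L92928) L134715
theorem L134731 : sm gh N10865 = N15799 := rfl
theorem L134737 : sm gb N10867 = N15800 := rfl
theorem L134740 : sm ge N15800 = N10883 := ded_21_2 (flp_b L93092) (flp_e L92953) L134737
theorem L134745 : sm gc N15800 = N12164 := ded_19_2 (flp_b L103860) (flp_c L71817) (flp_b L64283) L92949 L134737
theorem L134747 : sm gf N10867 = N15801 := rfl
theorem L134749 : sm ga N15801 = N10871 := ded_14_1 (flp_f L92988) (flp_a L92951) L134747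
theorem L134765 : sm ge N10868 = N15803 := rfl
theorem L134769 : sm gb N15803 = N12167 := ded_21_1 (flp_e L103884) (flp_b L92962) L134765
theorem L134774 : sm gf N15803 = N10886 := ded_40_2 (flp_e L93114) (flp_f L64385) (flp_e L64287) L92958 L134765
theorem L134785 : sm gh N10868 = N15805 := rfl
theorem L134817 : sm ge N10871 = N15808 := rfl
theorem L134824 : sm gf N15808 = N10891 := ded_40_2 (flp_e L93164) (flp_f L64414) (flp_e L64302) L92988 L134817
theorem L134833 : sm gh N10871 = N15810 := rfl
theorem L134841 : sm gd N10872 = N15811 := rfl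
theorem L134881 : sm gh N10874 = N15816 := rfl
theorem L134888 : sm gi N10875 = N15817 := rfl
theorem L134893 : sm gf N15817 = N10876 := ded_48_1 (flp_i L93028) (flp_f L93024) L134888
theorem L134916 : sm gh N10878 = N15820 := rfl
theorem L134918 : sm ga N15820 = N12184 := ded_17_1 (flp_h L104018) (flp_a L93048) L134916
theorem L134921 : sm ge N15820 = N10881 := ded_43_1 (flp_h L93074) (flp_e L93052) L134916
theorem L134925 : sm gd N10879 = N15821 := rfl
theorem L134927 : sm ga N15821 = N12185 := ded_12_1 (flp_d L104025) (flp_a L93057) L134925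
theorem L134929 : sm gf N15821 = N10904 := ded_35_2 (flp_d L93265) (flp_f L93062) L134925
theorem L134934 : sm gi N10879 = N15822 := rfl
theorem L134954 : sm gi N10881 = N15824 := rfl
theorem L134956 : sm ga N15824 = N12188 := ded_18_1 (flp_i L104048) (flp_a L93076) L134954
theorem L134963 : sm gf N10883 = N15825 := rfl
theorem L134972 : sm gh N10883 = N15826 := rfl
theorem L134977 : sm gc N15826 = N12190 := ded_32_1 (flp_h L104063) (flp_c L93097) L134972
theorem L134988 : sm gg N10884 = N15828 := rfl
theorem L134990 : sm ga N15828 = N10892 := ded_15_1 (flp_g L93171) (flp_a L93101) L134988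
theorem L134995 : sm gh N10884 = N15829 := rfl
theorem L135004 : sm gd N10885 = N15830 := rfl
theorem L135006 : sm ga N15830 = N10894 := ded_12_1 (flp_d L93185) (flp_a L93109) L135004
theorem L135009 : sm gc N15830 = N10913 := ded_27_1 (flp_d L93350) L64536 (flp_d L64402) (flp_c L93111) L135004
theorem L135011 : sm gi N10885 = N15831 := rfl
theorem L135019 : sm gg N10886 = N15832 := rfl
theorem L135023 : sm gb N15832 = N12196 := ded_23_1 (flp_g L104110) (flp_b L93118) L135019
theorem L135029 : sm gh N10886 = N15833 := rfl
theorem L135076 : sm gg N10891 = N15838 := rfl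
theorem L135081 : sm ge N15838 = N10892 := ded_41_1 (flp_g L93171) L93164 L135076
theorem L135084 : sm gh N10891 = N15839 := rfl
theorem L135092 : sm gj N10892 = N15840 := rfl
theorem L135099 : sm gh N10892 = N15841 := rfl
theorem L135102 : sm gc N15841 = N10899 := ded_32_1 (flp_h L93221) (flp_c L93174) L135099
theorem L135106 : sm gd N10893 = N15842 := rfl
theorem L135109 : sm gf N15842 = N10894 := ded_35_2 (flp_d L93185) (flp_f L93182) L135106
theorem L135112 : sm gc N15842 = N10925 := ded_27_1 (flp_d L93462) L64612 (flp_d L64448) (flp_c L93180) L135106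
theorem L135123 : sm ge N10894 = N15844 := rfl
theorem L135126 : sm gc N15844 = N10927 := ded_28_1 (flp_e L93480) (flp_c L93189) L135123
theorem L135129 : sm gi N10894 = N15845 := rfl
theorem L135137 : sm gf N10896 = N15846 := rfl
theorem L135139 : sm gb N15846 = N10901 := ded_22_1 (flp_f L93239) (flp_b L93200) L135137
theorem L135143 : sm gj N10896 = N15847 := rfl
theorem L135148 : sm ge N15847 = N10898 := ded_42_1 (flp_j L93213) (flp_e L93203) L135143
theorem L135152 : sm gh N10896 = N15848 := rfl
theorem L135154 : sm gb N15848 = N10903 := ded_25_1 (flp_h L93256) (flp_b L93200) L135152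
theorem L135160 : sm gd N10897 = N15849 := rfl
theorem L135162 : sm gb N15849 = N10904 := ded_20_1 (flp_d L93265) (flp_b L93208) L135160
theorem L135165 : sm ge N15849 = N10932 := ded_34_2 (flp_d L93519) L64645 (flp_d L64448) (flp_e L93210) L135160
theorem L135203 : sm gh N10901 = N15854 := rfl
theorem L135210 : sm gh N10902 = N15855 := rfl
theorem L135212 : sm ga N15855 = N12219 := ded_17_1 (flp_h L104291) (flp_a L93248) L135210
theorem L135215 : sm ge N15855 = N10906 := ded_43_1 (flp_h L93282) (flp_e L93252) L135210
theorem L135218 : sm gj N15855 = N10903 := ded_52_1 (flp_h L93256) L93246 L135210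
theorem L135220 : sm gd N10903 = N15856 := rfl
theorem L135222 : sm ga N15856 = N12220 := ded_12_1 (flp_d L104299) (flp_a L93258) L135220
theorem L135224 : sm gg N15856 = N10904 := ded_36_2 (flp_d L93265) (flp_g L93263) L135220
theorem L135226 : sm ge N15856 = N10939 := ded_34_2 (flp_d L93582) L64701 (flp_d L64500) (flp_e L93261) L135220
theorem L135229 : sm gi N10903 = N15857 := rfl
theorem L135234 : sm ge N15857 = N10907 := ded_44_1 (flp_i L93292) (flp_e L93261) L135229
theorem L135239 : sm gc N10904 = N15858 := rfl
theorem L135241 : sm ga N15858 = N12222 := ded_11_1 (flp_c L104314) (flp_a L93267) L135239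
theorem L135243 : sm ge N15858 = N10941 := ded_28_2 (flp_c L93601) (flp_e L93270) L135239
theorem L135247 : sm gd N15858 = N15858 := ded_27_2 (flp_c L135239) (flp_d L93265) L64480 L93265 L135239
theorem L135257 : sm gi N10906 = N15860 := rfl
theorem L135265 : sm gj N15860 = N10907 := ded_53_1 (flp_i L93292) (flp_j L93288) L135257
theorem L135268 : sm ge N10908 = N15861 := rfl
theorem L135270 : sm ga N15861 = N11148 := ded_13_1 (flp_e L95400) (flp_a L93304) L135268
theorem L135272 : sm gb N15861 = N10910 := ded_21_1 (flp_e L93323) (flp_b L93306) L135268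
theorem L135277 : sm gi N15861 = N10944 := ded_44_2 (flp_e L93629) (flp_i L93311) L135268
theorem L135280 : sm gg N10908 = N15862 := rfl
theorem L135288 : sm gi N15862 = N10945 := ded_51_2 (flp_g L93639) (flp_i L93311) L135280
theorem L135320 : sm gd N10910 = N15866 := rfl
theorem L135322 : sm ga N15866 = N10920 := ded_12_1 (flp_d L93416) (flp_a L93325) L135320
theorem L135326 : sm gi N15866 = N10949 := ded_39_2 (flp_d L93675) (flp_i L93330) L135320
theorem L135329 : sm gg N10910 = N15867 := rfl
theorem L135331 : sm ga N15867 = N10921 := ded_15_1 (flp_g L93425) (flp_a L93325) L135329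
theorem L135333 : sm gc N15867 = N10915 := ded_30_1 (flp_g L93365) (flp_c L93327) L135329
theorem L135337 : sm gi N15867 = N10950 := ded_51_2 (flp_g L93682) (flp_i L93330) L135329
theorem L135339 : sm gh N10910 = N15868 := rfl
theorem L135341 : sm ga N15868 = N10922 := ded_17_1 (flp_h L93435) (flp_a L93325) L135339
theorem L135345 : sm ge N15868 = N10912 := ded_43_1 (flp_h L93341) L93323 L135339
theorem L135349 : sm gj N10911 = N15869 := rfl
theorem L135351 : sm ga N15869 = N10923 := ded_16_1 (flp_j L93445) (flp_a L93335) L135349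
theorem L135355 : sm gi N15869 = N10952 := ded_53_2 (flp_j L93700) (flp_i L93339) L135349
theorem L135358 : sm gh N10911 = N15870 := rfl
theorem L135364 : sm gg N15870 = N10912 := ded_50_1 (flp_h L93341) L93333 L135358
theorem L135366 : sm gd N10912 = N15871 := rfl
theorem L135368 : sm ga N15871 = N10925 := ded_12_1 (flp_d L93462) (flp_a L93343) L135366
theorem L135370 : sm gf N15871 = N10913 := ded_35_2 (flp_d L93350) (flp_f L93347) L135366
theorem L135373 : sm gi N10912 = N15872 := rfl
theorem L135379 : sm gf N15872 = N10914 := ded_48_1 (flp_i L93355) (flp_f L93347) L135373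
theorem L135384 : sm ge N10913 = N15873 := rfl
theorem L135386 : sm ga N15873 = N10927 := ded_13_1 (flp_e L93480) (flp_a L93352) L135384
theorem L135397 : sm gf N10915 = N15875 := rfl
theorem L135399 : sm ga N15875 = N10929 := ded_14_1 (flp_f L93493) (flp_a L93367) L135397
theorem L135404 : sm gi N15875 = N10958 := ded_48_2 (flp_f L93747) (flp_i L93374) L135397
theorem L135407 : sm gj N10915 = N15876 := rfl
theorem L135409 : sm ga N15876 = N10930 := ded_16_1 (flp_j L93501) (flp_a L93367) L135407
theorem L135411 : sm gb N15876 = N12240 := ded_24_1 (flp_j L104472) (flp_b L93369) L135407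
theorem L135414 : sm ge N15876 = N10917 := ded_42_1 (flp_j L93386) (flp_e L93372) L135407
theorem L135416 : sm gi N15876 = N10959 := ded_53_2 (flp_j L93755) (flp_i L93374) L135407
theorem L135419 : sm gh N10915 = N15877 := rfl
theorem L135421 : sm ga N15877 = N10931 := ded_17_1 (flp_h L93511) (flp_a L93367) L135419
theorem L135429 : sm gd N10916 = N15878 := rfl
theorem L135431 : sm ga N15878 = N10932 := ded_12_1 (flp_d L93519) (flp_a L93378) L135429
theorem L135433 : sm gb N15878 = N12242 := ded_20_1 (flp_d L104490) (flp_b L93380) L135429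
theorem L135450 : sm gh N10917 = N15880 := rfl
theorem L135452 : sm ga N15880 = N10934 := ded_17_1 (flp_h L93536) (flp_a L93388) L135450
theorem L135469 : sm gg N10920 = N15882 := rfl
theorem L135471 : sm gb N15882 = N11169 := ded_23_1 (flp_g L95601) (flp_b L93418) L135469
theorem L135473 : sm gc N15882 = N15882 := ded_30_1 (flp_g L135469) L93424 L135469
theorem L135474 : sm gd N15882 = N10921 := ded_36_1 (flp_g L93425) L93416 L135469
theorem L135476 : sm gi N15882 = N10965 := ded_51_2 (flp_g L93814) (flp_i L93422) L135469
theorem L135478 : sm gh N10920 = N15883 := rfl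
theorem L135480 : sm gb N15883 = N11170 := ded_25_1 (flp_h L95609) (flp_b L93418) L135478
theorem L135482 : sm gc N15883 = N15883 := ded_32_1 (flp_h L135478) L93424 L135478
theorem L135483 : sm gf N15883 = N15883 := ded_47_1 (flp_h L135478) L93420 L135478
theorem L135484 : sm gj N15883 = N15883 := ded_52_1 (flp_h L135478) L93421 L135478
theorem L135485 : sm gf N10921 = N15884 := rfl
theorem L135487 : sm gb N15884 = N11171 := ded_22_1 (flp_f L95615) (flp_b L93427) L135485
theorem L135489 : sm gc N15884 = N10929 := ded_29_1 (flp_f L93493) (flp_c L93429) L135485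
theorem L135491 : sm gi N15884 = N10967 := ded_48_2 (flp_f L93828) (flp_i L93433) L135485
theorem L135493 : sm gg N15884 = N15884 := ded_45_2 (flp_f L135485) (flp_g L93425) L64599 L93425 L135485
theorem L135494 : sm gj N10921 = N15885 := rfl
theorem L135496 : sm gb N15885 = N11172 := ded_24_1 (flp_j L95622) (flp_b L93427) L135494
theorem L135498 : sm gc N15885 = N10930 := ded_31_1 (flp_j L93501) (flp_c L93429) L135494
theorem L135500 : sm ge N15885 = N10923 := ded_42_1 (flp_j L93445) (flp_e L93431) L135494
theorem L135502 : sm gi N15885 = N10968 := ded_53_2 (flp_j L93835) (flp_i L93433) L135494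
theorem L135504 : sm gg N15885 = N15885 := ded_49_1 (flp_j L135494) (flp_g L93425) L64596 L93425 L135494
theorem L135505 : sm gh N10921 = N15886 := rfl
theorem L135507 : sm gb N15886 = N11173 := ded_25_1 (flp_h L95631) (flp_b L93427) L135505
theorem L135511 : sm ge N15886 = N10924 := ded_43_1 (flp_h L93454) (flp_e L93431) L135505
theorem L135513 : sm gg N15886 = N10922 := ded_50_1 (flp_h L93435) L93425 L135505
theorem L135515 : sm gd N10922 = N15887 := rfl
theorem L135517 : sm gb N15887 = N11174 := ded_20_1 (flp_d L95639) (flp_b L93437) L135515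
theorem L135521 : sm gi N10922 = N15888 := rfl
theorem L135531 : sm gh N15888 = N10971 := ded_54_1 (flp_i L93860) (flp_h L64861) (flp_i L64597) L93435 L135521
theorem L135533 : sm gh N10923 = N15889 := rfl
theorem L135535 : sm gb N15889 = N11176 := ded_25_1 (flp_h L95653) (flp_b L93447) L135533
theorem L135542 : sm gd N10924 = N15890 := rfl
theorem L135544 : sm gb N15890 = N11177 := ded_20_1 (flp_d L95660) (flp_b L93456) L135542
theorem L135546 : sm gg N15890 = N10925 := ded_36_2 (flp_d L93462) (flp_g L93460) L135542
theorem L135548 : sm gi N10924 = N15891 := rfl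
theorem L135556 : sm gh N15891 = N10974 := ded_54_1 (flp_i L93886) (flp_h L64878) (flp_i L64606) L93454 L135548
theorem L135558 : sm ge N10925 = N15892 := rfl
theorem L135560 : sm gb N15892 = N11179 := ded_21_1 (flp_e L95673) (flp_b L93464) L135558
theorem L135563 : sm gi N10925 = N15893 := rfl
theorem L135572 : sm gf N10927 = N15894 := rfl
theorem L135593 : sm gj N10929 = N15897 := rfl
theorem L135602 : sm gh N10929 = N15898 := rfl
theorem L135604 : sm gb N15898 = N10937 := ded_25_1 (flp_h L93562) (flp_b L93495) L135602
theorem L135606 : sm gf N15898 = N10931 := ded_47_1 (flp_h L93511) L93493 L135602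
theorem L135609 : sm gh N10930 = N15899 := rfl
theorem L135616 : sm gj N15899 = N10931 := ded_52_1 (flp_h L93511) L93501 L135609
theorem L135618 : sm gd N10931 = N15900 := rfl
theorem L135625 : sm gi N10931 = N15901 := rfl
theorem L135627 : sm gb N15901 = N10940 := ded_26_1 (flp_i L93589) (flp_b L93513) L135625
theorem L135633 : sm gh N15901 = N10984 := ded_54_1 (flp_i L93963) (flp_h L64932) (flp_i L64639) L93511 L135625
theorem L135635 : sm gc N10932 = N15902 := rfl
theorem L135640 : sm gi N10932 = N15903 := rfl
theorem L135644 : sm gd N15903 = N10933 := ded_39_1 (flp_i L93526) L93519 L135640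
theorem L135648 : sm gi N10934 = N15904 := rfl
theorem L135655 : sm gh N15904 = N10987 := ded_54_1 (flp_i L93987) (flp_h L64956) (flp_i L64655) L93536 L135648
theorem L135657 : sm gg N10936 = N15905 := rfl
theorem L135661 : sm gc N15905 = N11192 := ded_30_1 (flp_g L95775) (flp_c L93555) L135657
theorem L135664 : sm gi N15905 = N10988 := ded_51_2 (flp_g L93995) (flp_i L93560) L135657
theorem L135668 : sm gh N10936 = N15906 := rfl
theorem L135670 : sm ga N15906 = N12270 := ded_17_1 (flp_h L104725) (flp_a L93553) L135668
theorem L135672 : sm gc N15906 = N11193 := ded_32_1 (flp_h L95785) (flp_c L93555) L135668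
theorem L135676 : sm gj N15906 = N10937 := ded_52_1 (flp_h L93562) L93551 L135668
theorem L135678 : sm gd N10937 = N15907 := rfl
theorem L135682 : sm gf N15907 = N10939 := ded_35_2 (flp_d L93582) (flp_f L93568) L135678
theorem L135686 : sm gi N10937 = N15908 := rfl
theorem L135688 : sm ga N15908 = N12272 := ded_18_1 (flp_i L104739) (flp_a L93564) L135686
theorem L135692 : sm gf N15908 = N10940 := ded_48_1 (flp_i L93589) (flp_f L93568) L135686
theorem L135695 : sm gh N15908 = N10991 := ded_54_1 (flp_i L94023) (flp_h L64980) (flp_i L64680) L93562 L135686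
theorem L135697 : sm gd N10938 = N15909 := rfl
theorem L135699 : sm ga N15909 = N12273 := ded_12_1 (flp_d L104748) (flp_a L93573) L135697
theorem L135702 : sm gj N15909 = N10939 := ded_37_2 (flp_d L93582) (flp_j L93580) L135697
theorem L135705 : sm gi N10938 = N15910 := rfl
theorem L135716 : sm gh N15910 = N10993 := ded_54_1 (flp_i L94042) (flp_h L64989) (flp_i L64692) L93571 L135705
theorem L135718 : sm gc N10939 = N15911 := rfl
theorem L135720 : sm ga N15911 = N12275 := ded_11_1 (flp_c L104765) (flp_a L93584) L135718
theorem L135722 : sm gg N15911 = N10941 := ded_30_2 (flp_c L93601) (flp_g L93586) L135718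
theorem L135727 : sm gi N10939 = N15912 := rfl
theorem L135735 : sm gb N10941 = N15913 := rfl
theorem L135737 : sm gd N15913 = N11200 := ded_20_2 (flp_b L95851) (flp_d L93608) L135735
theorem L135742 : sm gi N10941 = N15914 := rfl
theorem L135761 : sm gd N10944 = N15916 := rfl
theorem L135763 : sm ga N15916 = N11202 := ded_12_1 (flp_d L95868) (flp_a L93631) L135761
theorem L135765 : sm gb N15916 = N10949 := ded_20_1 (flp_d L93675) (flp_b L93633) L135761
theorem L135767 : sm gf N15916 = N15916 := ded_35_2 (flp_d L135761) L93638 L135761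
theorem L135768 : sm gj N15916 = N15916 := ded_37_2 (flp_d L135761) L93637 L135761
theorem L135769 : sm gg N10944 = N15917 := rfl
theorem L135773 : sm gb N15917 = N10950 := ded_23_1 (flp_g L93682) (flp_b L93633) L135769
theorem L135777 : sm ge N15917 = N10945 := ded_41_1 (flp_g L93639) L93629 L135769
theorem L135779 : sm gh N10944 = N15918 := rfl
theorem L135781 : sm ga N15918 = N11204 := ded_17_1 (flp_h L95882) (flp_a L93631) L135779
theorem L135783 : sm gb N15918 = N10951 := ded_25_1 (flp_h L93690) (flp_b L93633) L135779
theorem L135787 : sm ge N15918 = N10946 := ded_43_1 (flp_h L93647) L93629 L135779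
theorem L135791 : sm gj N10945 = N15919 := rfl
theorem L135795 : sm gb N15919 = N10952 := ded_24_1 (flp_j L93700) (flp_b L93643) L135791
theorem L135797 : sm gc N15919 = N12283 := ded_31_1 (flp_j L104827) (flp_c L93645) L135791
theorem L135799 : sm gg N15919 = N15919 := ded_49_1 (flp_j L135791) (flp_g L93639) L64751 L93639 L135791
theorem L135800 : sm gh N10945 = N15920 := rfl
theorem L135810 : sm gd N10946 = N15921 := rfl
theorem L135812 : sm ga N15921 = N11207 := ded_12_1 (flp_d L95907) (flp_a L93649) L135810
theorem L135814 : sm gb N15921 = N10954 := ded_20_1 (flp_d L93715) (flp_b L93651) L135810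
theorem L135830 : sm gc N10947 = N15923 := rfl
theorem L135846 : sm gi N10947 = N15925 := rfl
theorem L135855 : sm gg N10949 = N15926 := rfl
theorem L135857 : sm ga N15926 = N10965 := ded_15_1 (flp_g L93814) (flp_a L93677) L135855
theorem L135859 : sm gc N15926 = N15926 := ded_30_1 (flp_g L135855) L93681 L135855
theorem L135860 : sm gd N15926 = N10950 := ded_36_1 (flp_g L93682) L93675 L135855
theorem L135862 : sm gh N10949 = N15927 := rfl
theorem L135864 : sm ga N15927 = N10966 := ded_17_1 (flp_h L93821) (flp_a L93677) L135862
theorem L135866 : sm gc N15927 = N15927 := ded_32_1 (flp_h L135862) L93681 L135862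
theorem L135867 : sm gf N15927 = N15927 := ded_47_1 (flp_h L135862) L93679 L135862
theorem L135868 : sm gj N15927 = N15927 := ded_52_1 (flp_h L135862) L93680 L135862
theorem L135869 : sm gf N10950 = N15928 := rfl
theorem L135873 : sm gc N15928 = N10958 := ded_29_1 (flp_f L93747) (flp_c L93686) L135869
theorem L135876 : sm gj N10950 = N15929 := rfl
theorem L135878 : sm ga N15929 = N10968 := ded_16_1 (flp_j L93835) (flp_a L93684) L135876
theorem L135880 : sm gc N15929 = N10959 := ded_31_1 (flp_j L93755) (flp_c L93686) L135876
theorem L135882 : sm ge N15929 = N10952 := ded_42_1 (flp_j L93700) (flp_e L93688) L135876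
theorem L135885 : sm gh N10950 = N15930 := rfl
theorem L135887 : sm ga N15930 = N10969 := ded_17_1 (flp_h L93844) (flp_a L93684) L135885
theorem L135889 : sm gc N15930 = N10960 := ded_32_1 (flp_h L93765) (flp_c L93686) L135885
theorem L135891 : sm ge N15930 = N10953 := ded_43_1 (flp_h L93707) (flp_e L93688) L135885
theorem L135893 : sm gg N15930 = N10951 := ded_50_1 (flp_h L93690) L93682 L135885
theorem L135895 : sm gd N10951 = N15931 := rfl
theorem L135897 : sm ga N15931 = N10970 := ded_12_1 (flp_d L93854) (flp_a L93692) L135895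
theorem L135899 : sm gf N15931 = N15931 := ded_35_2 (flp_d L135895) L93698 L135895
theorem L135900 : sm gj N15931 = N15931 := ded_37_2 (flp_d L135895) L93699 L135895
theorem L135901 : sm gi N10951 = N15932 := rfl
theorem L135907 : sm ge N15932 = N10955 := ded_44_1 (flp_i L93723) (flp_e L93696) L135901
theorem L135911 : sm gh N10952 = N15933 := rfl
theorem L135913 : sm ga N15933 = N10972 := ded_17_1 (flp_h L93870) (flp_a L93702) L135911
theorem L135915 : sm gc N15933 = N10963 := ded_32_1 (flp_h L93795) (flp_c L93704) L135911
theorem L135917 : sm gg N15933 = N15933 := ded_50_1 (flp_h L135911) L93706 L135911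
theorem L135918 : sm gj N15933 = N10953 := ded_52_1 (flp_h L93707) L93700 L135911
theorem L135920 : sm gd N10953 = N15934 := rfl
theorem L135922 : sm ga N15934 = N10973 := ded_12_1 (flp_d L93879) (flp_a L93709) L135920
theorem L135927 : sm gi N10953 = N15935 := rfl
theorem L135929 : sm ga N15935 = N10974 := ded_18_1 (flp_i L93886) (flp_a L93709) L135927
theorem L135931 : sm gc N15935 = N10964 := ded_33_1 (flp_i L93805) (flp_c L93711) L135927
theorem L135933 : sm gg N15935 = N10955 := ded_51_1 (flp_i L93723) (flp_g L93713) L135927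
theorem L135935 : sm ge N10954 = N15936 := rfl
theorem L135937 : sm ga N15936 = N10975 := ded_13_1 (flp_e L93894) (flp_a L93717) L135935
theorem L135941 : sm gi N10954 = N15937 := rfl
theorem L135946 : sm gd N15937 = N10955 := ded_39_1 (flp_i L93723) L93715 L135941
theorem L135951 : sm gf N10956 = N15938 := rfl
theorem L135953 : sm ga N15938 = N10977 := ded_14_1 (flp_f L93910) (flp_a L93734) L135951
theorem L135958 : sm gi N10956 = N15939 := rfl
theorem L135960 : sm ga N15939 = N10978 := ded_18_1 (flp_i L93917) (flp_a L93734) L135958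
theorem L135973 : sm gj N10958 = N15941 := rfl
theorem L135977 : sm gb N15941 = N12305 := ded_24_1 (flp_j L105011) (flp_b L93751) L135973
theorem L135980 : sm gf N15941 = N10959 := ded_46_1 (flp_j L93755) L93747 L135973
theorem L135982 : sm gh N10958 = N15942 := rfl
theorem L135984 : sm ga N15942 = N10981 := ded_17_1 (flp_h L93939) (flp_a L93749) L135982
theorem L135986 : sm gb N15942 = N12306 := ded_25_1 (flp_h L105018) (flp_b L93751) L135982
theorem L135988 : sm gf N15942 = N10960 := ded_47_1 (flp_h L93765) L93747 L135982
theorem L135991 : sm gh N10959 = N15943 := rfl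
theorem L135993 : sm ga N15943 = N10982 := ded_17_1 (flp_h L93946) (flp_a L93757) L135991
theorem L135997 : sm ge N15943 = N10963 := ded_43_1 (flp_h L93795) (flp_e L93762) L135991
theorem L136000 : sm gj N15943 = N10960 := ded_52_1 (flp_h L93765) L93755 L135991
theorem L136002 : sm gd N10960 = N15944 := rfl
theorem L136004 : sm ga N15944 = N10983 := ded_12_1 (flp_d L93955) (flp_a L93767) L136002
theorem L136008 : sm gg N15944 = N10961 := ded_36_2 (flp_d L93775) (flp_g L93773) L136002
theorem L136012 : sm gi N10960 = N15945 := rfl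
theorem L136014 : sm ga N15945 = N10984 := ded_18_1 (flp_i L93963) (flp_a L93767) L136012
theorem L136022 : sm gc N10961 = N15946 := rfl
theorem L136024 : sm ga N15946 = N10985 := ded_11_1 (flp_c L93971) (flp_a L93777) L136022
theorem L136026 : sm ge N15946 = N15946 := ded_28_2 (flp_c L136022) L93783 L136022
theorem L136027 : sm gf N15946 = N15946 := ded_29_2 (flp_c L136022) L93781 L136022
theorem L136028 : sm gj N15946 = N15946 := ded_31_2 (flp_c L136022) L93782 L136022
theorem L136029 : sm gh N15946 = N15946 := ded_32_2 (flp_c L136022) L93784 L136022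
theorem L136030 : sm gi N10961 = N15947 := rfl
theorem L136032 : sm ga N15947 = N10986 := ded_18_1 (flp_i L93978) (flp_a L93777) L136030
theorem L136036 : sm gd N15947 = N10962 := ded_39_1 (flp_i L93785) L93775 L136030
theorem L136041 : sm gi N10963 = N15948 := rfl
theorem L136043 : sm ga N15948 = N10987 := ded_18_1 (flp_i L93987) (flp_a L93797) L136041
theorem L136051 : sm gf N10965 = N15949 := rfl
theorem L136053 : sm gb N15949 = N11232 := ded_22_1 (flp_f L96124) (flp_b L93816) L136051
theorem L136055 : sm gc N15949 = N15949 := ded_29_1 (flp_f L136051) L93818 L136051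
theorem L136056 : sm gd N15949 = N10967 := ded_35_1 (flp_f L93828) (flp_d L93819) L136051
theorem L136058 : sm gg N15949 = N15949 := ded_45_2 (flp_f L136051) (flp_g L93814) L64850 L93814 L136051
theorem L136059 : sm gj N10965 = N15950 := rfl
theorem L136061 : sm gb N15950 = N11233 := ded_24_1 (flp_j L96131) (flp_b L93816) L136059
theorem L136063 : sm gc N15950 = N15950 := ded_31_1 (flp_j L136059) L93818 L136059
theorem L136064 : sm gd N15950 = N10968 := ded_37_1 (flp_j L93835) (flp_d L93819) L136059
theorem L136066 : sm gg N15950 = N15950 := ded_49_1 (flp_j L136059) (flp_g L93814) L64851 L93814 L136059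
theorem L136067 : sm gh N10965 = N15951 := rfl
theorem L136069 : sm gb N15951 = N11234 := ded_25_1 (flp_h L96138) (flp_b L93816) L136067
theorem L136071 : sm gc N15951 = N15951 := ded_32_1 (flp_h L136067) L93818 L136067
theorem L136072 : sm gg N15951 = N10966 := ded_50_1 (flp_h L93821) L93814 L136067
theorem L136074 : sm gd N10966 = N15952 := rfl
theorem L136076 : sm gb N15952 = N11235 := ded_20_1 (flp_d L96144) (flp_b L93823) L136074
theorem L136078 : sm gf N15952 = N15952 := ded_35_2 (flp_d L136074) L93826 L136074
theorem L136079 : sm gj N15952 = N15952 := ded_37_2 (flp_d L136074) L93827 L136074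
theorem L136080 : sm gh N15952 = N10970 := ded_38_2 (flp_d L93854) (flp_h L64861) L64846 L93821 L136074
theorem L136082 : sm gi N10966 = N15953 := rfl
theorem L136084 : sm gb N15953 = N11236 := ded_26_1 (flp_i L96151) (flp_b L93823) L136082
theorem L136086 : sm gc N15953 = N15953 := ded_33_1 (flp_i L136082) L93825 L136082
theorem L136087 : sm gf N15953 = N15953 := ded_48_1 (flp_i L136082) L93826 L136082
theorem L136088 : sm gj N15953 = N15953 := ded_53_1 (flp_i L136082) L93827 L136082
theorem L136089 : sm gj N10967 = N15954 := rfl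
theorem L136095 : sm gf N15954 = N10968 := ded_46_1 (flp_j L93835) L93828 L136089
theorem L136097 : sm gh N10967 = N15955 := rfl
theorem L136099 : sm gb N15955 = N11238 := ded_25_1 (flp_h L96163) (flp_b L93830) L136097
theorem L136101 : sm gc N15955 = N10981 := ded_32_1 (flp_h L93939) (flp_c L93832) L136097
theorem L136106 : sm gh N10968 = N15956 := rfl
theorem L136115 : sm gj N15956 = N10969 := ded_52_1 (flp_h L93844) L93835 L136106
theorem L136117 : sm gd N10969 = N15957 := rfl
theorem L136119 : sm gb N15957 = N11240 := ded_20_1 (flp_d L96179) (flp_b L93846) L136117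
theorem L136121 : sm gg N15957 = N10970 := ded_36_2 (flp_d L93854) (flp_g L93852) L136117
theorem L136123 : sm gi N10969 = N15958 := rfl
theorem L136127 : sm gc N15958 = N10984 := ded_33_1 (flp_i L93963) (flp_c L93848) L136123
theorem L136129 : sm ge N15958 = N10974 := ded_44_1 (flp_i L93886) (flp_e L93850) L136123
theorem L136133 : sm gc N10970 = N15959 := rfl
theorem L136135 : sm gf N15959 = N15959 := ded_29_2 (flp_c L136133) L93858 L136133
theorem L136136 : sm gj N15959 = N15959 := ded_31_2 (flp_c L136133) L93859 L136133
theorem L136137 : sm gb N15959 = N15959 := ded_19_1 (flp_c L136133) L93856 L66460 (flp_b L93856) L136133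
theorem L136138 : sm gd N15959 = N10985 := ded_27_2 (flp_c L93971) (flp_d L64940) (flp_c L64865) L93854 L136133
theorem L136140 : sm ge N10970 = N15960 := rfl
theorem L136142 : sm gb N15960 = N11242 := ded_21_1 (flp_e L96192) (flp_b L93856) L136140
theorem L136144 : sm gj N15960 = N15960 := ded_42_2 (flp_e L136140) L93859 L136140
theorem L136145 : sm gd N15960 = N10975 := ded_34_1 (flp_e L93894) (flp_d L64886) (flp_e L64867) L93854 L136140
theorem L136147 : sm gi N10970 = N15961 := rfl
theorem L136149 : sm gb N15961 = N11243 := ded_26_1 (flp_i L96198) (flp_b L93856) L136147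
theorem L136151 : sm gd N15961 = N10971 := ded_39_1 (flp_i L93860) L93854 L136147
theorem L136155 : sm gd N10972 = N15962 := rfl
theorem L136157 : sm gb N15962 = N11244 := ded_20_1 (flp_d L96205) (flp_b L93872) L136155
theorem L136159 : sm gg N15962 = N15962 := ded_36_2 (flp_d L136155) L93876 L136155
theorem L136160 : sm gj N15962 = N10973 := ded_37_2 (flp_d L93879) (flp_j L93877) L136155
theorem L136162 : sm gc N15962 = N15962 := ded_27_1 (flp_d L136155) L93874 L64963 (flp_c L93874) L136155
theorem L136163 : sm gi N10972 = N15963 := rfl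
theorem L136165 : sm gb N15963 = N11245 := ded_26_1 (flp_i L96212) (flp_b L93872) L136163
theorem L136167 : sm gc N15963 = N10987 := ded_33_1 (flp_i L93987) (flp_c L93874) L136163
theorem L136172 : sm ge N10973 = N15964 := rfl
theorem L136174 : sm gb N15964 = N11246 := ded_21_1 (flp_e L96219) (flp_b L93881) L136172
theorem L136176 : sm gc N15964 = N15964 := ded_28_1 (flp_e L136172) L93885 L136172
theorem L136177 : sm gg N15964 = N10975 := ded_41_2 (flp_e L93894) (flp_g L93883) L136172
theorem L136188 : sm gf N10975 = N15966 := rfl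
theorem L136190 : sm gb N15966 = N11248 := ded_22_1 (flp_f L96233) (flp_b L93896) L136188
theorem L136192 : sm gc N15966 = N15966 := ded_29_1 (flp_f L136188) L93898 L136188
theorem L136193 : sm gj N15966 = N15966 := ded_46_2 (flp_f L136188) L93899 L136188
theorem L136194 : sm ge N15966 = N10977 := ded_40_1 (flp_f L93910) (flp_e L64903) (flp_f L64890) L93894 L136188
theorem L136196 : sm gi N10975 = N15967 := rfl
theorem L136212 : sm gg N10977 = N15969 := rfl
theorem L136214 : sm gb N15969 = N11251 := ded_23_1 (flp_g L96254) (flp_b L93912) L136212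
theorem L136216 : sm gc N15969 = N15969 := ded_30_1 (flp_g L136212) L93914 L136212
theorem L136217 : sm gd N15969 = N15969 := ded_36_1 (flp_g L136212) L93915 L136212
theorem L136218 : sm gi N10977 = N15970 := rfl
theorem L136220 : sm gb N15970 = N11252 := ded_26_1 (flp_i L96259) (flp_b L93912) L136218
theorem L136235 : sm gg N10980 = N15972 := rfl
theorem L136237 : sm gb N15972 = N10988 := ded_23_1 (flp_g L93995) (flp_b L93934) L136235
theorem L136242 : sm gh N10980 = N15973 := rfl
theorem L136246 : sm gf N15973 = N10982 := ded_47_1 (flp_h L93946) (flp_f L93937) L136242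
theorem L136248 : sm gj N15973 = N10981 := ded_52_1 (flp_h L93939) L93932 L136242
theorem L136250 : sm gd N10981 = N15974 := rfl
theorem L136254 : sm gf N15974 = N10983 := ded_35_2 (flp_d L93955) (flp_f L93943) L136250
theorem L136258 : sm gi N10981 = N15975 := rfl
theorem L136260 : sm gb N15975 = N10991 := ded_26_1 (flp_i L94023) (flp_b L93941) L136258
theorem L136262 : sm gf N15975 = N10984 := ded_48_1 (flp_i L93963) (flp_f L93943) L136258
theorem L136265 : sm gd N10982 = N15976 := rfl
theorem L136267 : sm gb N15976 = N10992 := ded_20_1 (flp_d L94032) (flp_b L93948) L136265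
theorem L136270 : sm gj N15976 = N10983 := ded_37_2 (flp_d L93955) (flp_j L93953) L136265
theorem L136274 : sm gi N10982 = N15977 := rfl
theorem L136278 : sm ge N15977 = N10987 := ded_44_1 (flp_i L93987) (flp_e L93950) L136274
theorem L136281 : sm gj N15977 = N10984 := ded_53_1 (flp_i L93963) (flp_j L93953) L136274
theorem L136283 : sm gc N10983 = N15978 := rfl
theorem L136286 : sm gg N15978 = N10985 := ded_30_2 (flp_c L93971) (flp_g L93959) L136283
theorem L136290 : sm gi N10983 = N15979 := rfl
theorem L136294 : sm gd N15979 = N10984 := ded_39_1 (flp_i L93963) L93955 L136290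
theorem L136297 : sm gg N15979 = N10986 := ded_51_1 (flp_i L93978) (flp_g L93959) L136290
theorem L136299 : sm gi N10985 = N15980 := rfl
theorem L136301 : sm gb N15980 = N15980 := ded_26_1 (flp_i L136299) L93977 L136299
theorem L136302 : sm gc N15980 = N10986 := ded_33_1 (flp_i L93978) L93971 L136299
theorem L136304 : sm ge N15980 = N15980 := ded_44_1 (flp_i L136299) L93973 L136299
theorem L136305 : sm gf N15980 = N15980 := ded_48_1 (flp_i L136299) L93974 L136299
theorem L136306 : sm gj N15980 = N15980 := ded_53_1 (flp_i L136299) L93975 L136299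
theorem L136307 : sm gh N10986 = N15981 := rfl
theorem L136315 : sm gh N10988 = N15982 := rfl
theorem L136317 : sm ga N15982 = N12346 := ded_17_1 (flp_h L105348) (flp_a L93997) L136315
theorem L136322 : sm gg N15982 = N10989 := ded_50_1 (flp_h L94004) L93995 L136315
theorem L136325 : sm gd N10989 = N15983 := rfl
theorem L136327 : sm ga N15983 = N12347 := ded_12_1 (flp_d L105356) (flp_a L94006) L136325
theorem L136331 : sm gj N15983 = N10990 := ded_37_2 (flp_d L94014) (flp_j L94012) L136325
theorem L136335 : sm gi N10989 = N15984 := rfl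
theorem L136345 : sm ge N10990 = N15985 := rfl
theorem L136347 : sm ga N15985 = N12349 := ded_13_1 (flp_e L105372) (flp_a L94016) L136345
theorem L136353 : sm gi N10990 = N15986 := rfl
theorem L136358 : sm gd N15986 = N10991 := ded_39_1 (flp_i L94023) L94014 L136353
theorem L136360 : sm gf N15986 = N10994 := ded_48_1 (flp_i L94053) (flp_f L94018) L136353
theorem L136363 : sm gi N10992 = N15987 := rfl
theorem L136368 : sm gd N15987 = N10993 := ded_39_1 (flp_i L94042) L94032 L136363
theorem L136374 : sm gh N10994 = N15988 := rfl
theorem L136383 : sm gf N10996 = N15989 := rfl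
theorem L136385 : sm gb N15989 = N10997 := ded_22_1 (flp_f L94082) L94072 L136383
theorem L136387 : sm gc N15989 = N12353 := ded_29_1 (flp_f L105402) (flp_c L94080) L136383
theorem L136389 : sm gj N15989 = N11057 := ded_46_2 (flp_f L94641) (flp_j L94076) L136383
theorem L136391 : sm gi N15989 = N11021 := ded_48_2 (flp_f L94318) (flp_i L94078) L136383
theorem L136393 : sm gh N10996 = N15990 := rfl
theorem L136397 : sm gc N15990 = N12354 := ded_32_1 (flp_h L105411) (flp_c L94080) L136393
theorem L136401 : sm gj N15990 = N11058 := ded_52_1 (flp_h L94649) (flp_j L94076) L136393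
theorem L136403 : sm ge N10997 = N15991 := rfl
theorem L136405 : sm ga N15991 = N11004 := ded_13_1 (flp_e L94162) (flp_a L94084) L136403
theorem L136407 : sm gc N15991 = N10999 := ded_28_1 (flp_e L94102) (flp_c L94086) L136403
theorem L136409 : sm gj N15991 = N11059 := ded_42_2 (flp_e L94658) (flp_j L94088) L136403
theorem L136411 : sm gi N15991 = N11023 := ded_44_2 (flp_e L94336) (flp_i L94090) L136403
theorem L136413 : sm gf N15991 = N15991 := ded_40_2 (flp_e L136403) (flp_f L94082) L65043 L94082 L136403
theorem L136414 : sm gg N10997 = N15992 := rfl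
theorem L136416 : sm ga N15992 = N11005 := ded_15_1 (flp_g L94171) (flp_a L94084) L136414
theorem L136418 : sm gc N15992 = N11000 := ded_30_1 (flp_g L94114) (flp_c L94086) L136414
theorem L136420 : sm gi N15992 = N11024 := ded_51_2 (flp_g L94345) (flp_i L94090) L136414
theorem L136422 : sm gf N15992 = N15992 := ded_45_1 (flp_g L136414) (flp_f L94082) L65044 L94082 L136414
theorem L136423 : sm gh N10997 = N15993 := rfl
theorem L136425 : sm ga N15993 = N11006 := ded_17_1 (flp_h L94178) (flp_a L94084) L136423
theorem L136433 : sm gd N10998 = N15994 := rfl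
theorem L136438 : sm gj N15994 = N11062 := ded_37_2 (flp_d L94685) (flp_j L94100) L136433
theorem L136453 : sm gg N10999 = N15996 := rfl
theorem L136462 : sm gi N15996 = N11028 := ded_51_2 (flp_g L94381) (flp_i L94110) L136453
theorem L136475 : sm gj N11000 = N15998 := rfl
theorem L136486 : sm gg N15998 = N11066 := ded_49_1 (flp_j L94723) (flp_g L65456) (flp_j L65057) L94114 L136475
theorem L136511 : sm gd N11004 = N16001 := rfl
theorem L136513 : sm gf N16001 = N16001 := ded_35_2 (flp_d L136511) L94170 L136511
theorem L136514 : sm gj N16001 = N11069 := ded_37_2 (flp_d L94757) (flp_j L94166) L136511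
theorem L136516 : sm gi N16001 = N11033 := ded_39_2 (flp_d L94435) (flp_i L94168) L136511
theorem L136518 : sm gc N16001 = N16001 := ded_27_1 (flp_d L136511) L94164 L65107 (flp_c L94164) L136511
theorem L136519 : sm gg N11004 = N16002 := rfl
theorem L136521 : sm gc N16002 = N11009 := ded_30_1 (flp_g L94202) (flp_c L94164) L136519
theorem L136525 : sm gi N16002 = N11034 := ded_51_2 (flp_g L94441) (flp_i L94168) L136519
theorem L136527 : sm gh N11004 = N16003 := rfl
theorem L136531 : sm ge N16003 = N11006 := ded_43_1 (flp_h L94178) L94162 L136527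
theorem L136534 : sm gj N16003 = N11071 := ded_52_1 (flp_h L94771) (flp_j L94166) L136527
theorem L136536 : sm gj N11005 = N16004 := rfl
theorem L136538 : sm gc N16004 = N11011 := ded_31_1 (flp_j L94220) (flp_c L94173) L136536
theorem L136543 : sm gg N16004 = N11072 := ded_49_1 (flp_j L94778) (flp_g L65508) (flp_j L65087) L94171 L136536
theorem L136545 : sm gh N11005 = N16005 := rfl
theorem L136550 : sm gg N16005 = N11006 := ded_50_1 (flp_h L94178) L94171 L136545
theorem L136552 : sm gd N11006 = N16006 := rfl
theorem L136559 : sm gi N11006 = N16007 := rfl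
theorem L136561 : sm gc N16007 = N11013 := ded_33_1 (flp_i L94239) (flp_c L94180) L136559
theorem L136563 : sm gf N16007 = N11008 := ded_48_1 (flp_i L94192) (flp_f L94182) L136559
theorem L136569 : sm ge N11007 = N16008 := rfl
theorem L136584 : sm gf N11009 = N16010 := rfl
theorem L136586 : sm gb N16010 = N11014 := ded_22_1 (flp_f L94250) (flp_b L94204) L136584
theorem L136612 : sm gd N11010 = N16013 := rfl
theorem L136614 : sm gb N16013 = N11017 := ded_20_1 (flp_d L94278) (flp_b L94213) L136612
theorem L136617 : sm gj N16013 = N11081 := ded_37_2 (flp_d L94847) (flp_j L94218) L136612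
theorem L136620 : sm gh N16013 = N16013 := ded_38_2 (flp_d L136612) (flp_h L94211) L65107 L94211 L136612
theorem L136632 : sm gh N11011 = N16015 := rfl
theorem L136637 : sm gg N16015 = N11083 := ded_50_1 (flp_h L94863) (flp_g L94229) L136632
theorem L136639 : sm gj N16015 = N11012 := ded_52_1 (flp_h L94231) L94220 L136632
theorem L136642 : sm gi N11012 = N16016 := rfl
theorem L136652 : sm gj N11014 = N16017 := rfl
theorem L136660 : sm gi N16017 = N11049 := ded_53_2 (flp_j L94566) (flp_i L94255) L136652
theorem L136662 : sm gh N11014 = N16018 := rfl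
theorem L136664 : sm ga N16018 = N12382 := ded_17_1 (flp_h L105672) (flp_a L94252) L136662
theorem L136667 : sm gf N16018 = N11016 := ded_47_1 (flp_h L94270) L94250 L136662
theorem L136680 : sm gd N11016 = N16020 := rfl
theorem L136684 : sm gg N16020 = N11017 := ded_36_2 (flp_d L94278) (flp_g L94276) L136680
theorem L136688 : sm gi N11016 = N16021 := rfl
theorem L136696 : sm gh N16021 = N11053 := ded_54_1 (flp_i L94601) (flp_h L65373) (flp_i L65156) L94270 L136688
theorem L136707 : sm gi N11017 = N16023 := rfl
theorem L136715 : sm gj N16023 = N11091 := ded_53_1 (flp_i L94936) (flp_j L94283) L136707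
theorem L136729 : sm ge N11021 = N16025 := rfl
theorem L136731 : sm gb N16025 = N11023 := ded_21_1 (flp_e L94336) (flp_b L94320) L136729
theorem L136735 : sm gj N16025 = N11093 := ded_42_2 (flp_e L94955) (flp_j L94324) L136729
theorem L136738 : sm gg N11021 = N16026 := rfl
theorem L136740 : sm gb N16026 = N11024 := ded_23_1 (flp_g L94345) (flp_b L94320) L136738
theorem L136742 : sm gc N16026 = N12390 := ded_30_1 (flp_g L105732) (flp_c L94322) L136738
theorem L136745 : sm gh N11021 = N16027 := rfl
theorem L136749 : sm gc N16027 = N12391 := ded_32_1 (flp_h L105738) (flp_c L94322) L136745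
theorem L136751 : sm gf N16027 = N11022 := ded_47_1 (flp_h L94326) L94318 L136745
theorem L136753 : sm gj N16027 = N11095 := ded_52_1 (flp_h L94970) (flp_j L94324) L136745
theorem L136755 : sm gd N11022 = N16028 := rfl
theorem L136760 : sm gj N16028 = N11096 := ded_37_2 (flp_d L94978) (flp_j L94334) L136755
theorem L136772 : sm gd N11023 = N16030 := rfl
theorem L136774 : sm ga N16030 = N11033 := ded_12_1 (flp_d L94435) (flp_a L94338) L136772
theorem L136776 : sm gf N16030 = N16030 := ded_35_2 (flp_d L136772) L94344 L136772
theorem L136777 : sm gj N16030 = N11098 := ded_37_2 (flp_d L94993) (flp_j L94342) L136772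
theorem L136779 : sm gc N16030 = N16030 := ded_27_1 (flp_d L136772) L94340 L65231 (flp_c L94340) L136772
theorem L136780 : sm gg N11023 = N16031 := rfl
theorem L136786 : sm ge N16031 = N11024 := ded_41_1 (flp_g L94345) L94336 L136780
theorem L136788 : sm gh N11023 = N16032 := rfl
theorem L136799 : sm gj N11024 = N16033 := rfl
theorem L136801 : sm ga N16033 = N11036 := ded_16_1 (flp_j L94456) (flp_a L94347) L136799
theorem L136808 : sm gh N11024 = N16034 := rfl
theorem L136810 : sm ga N16034 = N11037 := ded_17_1 (flp_h L94463) (flp_a L94347) L136808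
theorem L136817 : sm gd N11025 = N16035 := rfl
theorem L136819 : sm ga N16035 = N11038 := ded_12_1 (flp_d L94470) (flp_a L94354) L136817
theorem L136825 : sm gc N16035 = N11338 := ded_27_1 (flp_d L97013) L67090 (flp_d L65252) (flp_c L94356) L136817
theorem L136837 : sm ge N11026 = N16037 := rfl
theorem L136839 : sm ga N16037 = N11040 := ded_13_1 (flp_e L94486) (flp_a L94364) L136837
theorem L136841 : sm gc N16037 = N11340 := ded_28_1 (flp_e L97032) (flp_c L94369) L136837
theorem L136844 : sm gj N16037 = N11105 := ded_42_2 (flp_e L95050) (flp_j L94367) L136837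
theorem L136858 : sm gf N11028 = N16039 := rfl
theorem L136860 : sm ga N16039 = N11042 := ded_14_1 (flp_f L94503) (flp_a L94383) L136858
theorem L136867 : sm gj N11028 = N16040 := rfl
theorem L136874 : sm ge N16040 = N11030 := ded_42_1 (flp_j L94401) (flp_e L94388) L136867
theorem L136876 : sm gg N16040 = N11108 := ded_49_1 (flp_j L95079) (flp_g L65698) (flp_j L65229) L94381 L136867
theorem L136878 : sm gh N11028 = N16041 := rfl
theorem L136911 : sm gh N11030 = N16044 := rfl
theorem L136922 : sm gd N16044 = N11347 := ded_38_1 (flp_h L97107) L67143 (flp_h L65274) (flp_d L94407) L136911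
theorem L136935 : sm gg N11033 = N16046 := rfl
theorem L136938 : sm gd N16046 = N11034 := ded_36_1 (flp_g L94441) L94435 L136935
theorem L136940 : sm gh N11033 = N16047 := rfl
theorem L136942 : sm gc N16047 = N16047 := ded_32_1 (flp_h L136940) L94440 L136940
theorem L136943 : sm gf N16047 = N16047 := ded_47_1 (flp_h L136940) L94437 L136940
theorem L136944 : sm gj N16047 = N11115 := ded_52_1 (flp_h L95146) (flp_j L94438) L136940
theorem L136946 : sm gf N11034 = N16048 := rfl
theorem L136952 : sm gj N11034 = N16049 := rfl
theorem L136958 : sm gg N16049 = N11117 := ded_49_1 (flp_j L95157) (flp_g L65752) (flp_j L65282) L94441 L136952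
theorem L136960 : sm gh N11034 = N16050 := rfl
theorem L136962 : sm gc N16050 = N11044 := ded_32_1 (flp_h L94519) (flp_c L94443) L136960
theorem L136966 : sm gg N16050 = N11035 := ded_50_1 (flp_h L94447) L94441 L136960
theorem L136968 : sm gd N11035 = N16051 := rfl
theorem L136971 : sm gj N16051 = N11119 := ded_37_2 (flp_d L95171) (flp_j L94454) L136968
theorem L136973 : sm gi N11035 = N16052 := rfl
theorem L136982 : sm gh N11036 = N16053 := rfl
theorem L136984 : sm gc N16053 = N11047 := ded_32_1 (flp_h L94546) (flp_c L94458) L136982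
theorem L136987 : sm gg N16053 = N11121 := ded_50_1 (flp_h L95181) (flp_g L94461) L136982
theorem L136989 : sm gj N16053 = N11037 := ded_52_1 (flp_h L94463) L94456 L136982
theorem L136991 : sm gd N11037 = N16054 := rfl
theorem L136994 : sm gg N16054 = N11038 := ded_36_2 (flp_d L94470) (flp_g L94468) L136991
theorem L136996 : sm gc N16054 = N11357 := ded_27_1 (flp_d L97200) L67209 (flp_d L65345) (flp_c L94465) L136991
theorem L137005 : sm ge N11038 = N16056 := rfl
theorem L137007 : sm gc N16056 = N11359 := ded_28_1 (flp_e L97215) (flp_c L94476) L137005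
theorem L137009 : sm gj N16056 = N11124 := ded_42_2 (flp_e L95205) (flp_j L94474) L137005
theorem L137011 : sm gi N11038 = N16057 := rfl
theorem L137021 : sm gf N11040 = N16058 := rfl
theorem L137023 : sm gc N16058 = N11361 := ded_29_1 (flp_f L97229) (flp_c L94488) L137021
theorem L137025 : sm gd N16058 = N16058 := ded_35_1 (flp_f L137021) L94493 L137021
theorem L137026 : sm gj N16058 = N11126 := ded_46_2 (flp_f L95217) (flp_j L94491) L137021
theorem L137045 : sm gj N11042 = N16061 := rfl
theorem L137047 : sm gb N16061 = N11049 := ded_24_1 (flp_j L94566) (flp_b L94505) L137045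
theorem L137051 : sm gf N16061 = N11043 := ded_46_1 (flp_j L94510) L94503 L137045
theorem L137053 : sm gh N11042 = N16062 := rfl
theorem L137055 : sm gb N16062 = N11050 := ded_25_1 (flp_h L94574) (flp_b L94505) L137053
theorem L137061 : sm gh N11043 = N16063 := rfl
theorem L137063 : sm gb N16063 = N11051 := ded_25_1 (flp_h L94582) (flp_b L94512) L137061
theorem L137067 : sm gg N16063 = N11131 := ded_50_1 (flp_h L95255) (flp_g L94517) L137061
theorem L137069 : sm gj N16063 = N11044 := ded_52_1 (flp_h L94519) L94510 L137061
theorem L137071 : sm gd N11044 = N16064 := rfl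
theorem L137077 : sm ge N16064 = N11367 := ded_34_2 (flp_d L97282) L67270 (flp_d L65345) (flp_e L94523) L137071
theorem L137088 : sm gc N11045 = N16066 := rfl
theorem L137090 : sm ge N16066 = N11369 := ded_28_2 (flp_c L97298) (flp_e L94534) L137088
theorem L137093 : sm gj N16066 = N11134 := ded_31_2 (flp_c L95280) (flp_j L94532) L137088
theorem L137127 : sm gh N11049 = N16070 := rfl
theorem L137134 : sm gj N16070 = N11050 := ded_52_1 (flp_h L94574) L94566 L137127
theorem L137136 : sm gd N11050 = N16071 := rfl
theorem L137138 : sm ga N16071 = N12435 := ded_12_1 (flp_d L106118) (flp_a L94576) L137136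
theorem L137140 : sm gf N16071 = N11052 := ded_35_2 (flp_d L94592) (flp_f L94579) L137136
theorem L137152 : sm gd N11051 = N16073 := rfl
theorem L137158 : sm gj N16073 = N11052 := ded_37_2 (flp_d L94592) (flp_j L94590) L137152
theorem L137173 : sm gc N11052 = N16075 := rfl
theorem L137177 : sm ge N16075 = N11377 := ded_28_2 (flp_c L97377) (flp_e L94598) L137173
theorem L137192 : sm gb N11054 = N16077 := rfl
theorem L137194 : sm ge N16077 = N11379 := ded_21_2 (flp_b L97393) (flp_e L94613) L137192
theorem L137197 : sm gj N16077 = N11145 := ded_24_2 (flp_b L95377) (flp_j L94616) L137192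
theorem L137211 : sm gh N11055 = N16079 := rfl
theorem L137215 : sm ge N16079 = N11381 := ded_43_1 (flp_h L97412) (flp_e L94625) L137211
theorem L137218 : sm gj N16079 = N11147 := ded_52_1 (flp_h L95392) (flp_j L94628) L137211
theorem L137221 : sm ge N11057 = N16080 := rfl
theorem L137223 : sm gb N16080 = N11059 := ded_21_1 (flp_e L94658) (flp_b L94643) L137221
theorem L137227 : sm gi N16080 = N11093 := ded_44_2 (flp_e L94955) (flp_i L94647) L137221
theorem L137230 : sm gg N11057 = N16081 := rfl
theorem L137234 : sm gc N16081 = N12445 := ded_30_1 (flp_g L106194) (flp_c L94645) L137230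
theorem L137236 : sm gi N16081 = N11094 := ded_51_2 (flp_g L94962) (flp_i L94647) L137230
theorem L137238 : sm gf N16081 = N11149 := ded_45_1 (flp_g L95410) (flp_f L65934) (flp_g L65423) L94641 L137230
theorem L137248 : sm gd N11058 = N16083 := rfl
theorem L137252 : sm gg N16083 = N11151 := ded_36_2 (flp_d L95427) (flp_g L94656) L137248
theorem L137265 : sm gd N11059 = N16085 := rfl
theorem L137267 : sm ga N16085 = N11069 := ded_12_1 (flp_d L94757) (flp_a L94660) L137265
theorem L137269 : sm gf N16085 = N16085 := ded_35_2 (flp_d L137265) L94666 L137265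
theorem L137270 : sm gi N16085 = N11098 := ded_39_2 (flp_d L94993) (flp_i L94664) L137265
theorem L137272 : sm gc N16085 = N16085 := ded_27_1 (flp_d L137265) L94662 L65454 (flp_c L94662) L137265
theorem L137273 : sm gg N11059 = N16086 := rfl
theorem L137275 : sm ga N16086 = N11070 := ded_15_1 (flp_g L94763) (flp_a L94660) L137273
theorem L137277 : sm gc N16086 = N11064 := ded_30_1 (flp_g L94703) (flp_c L94662) L137273
theorem L137279 : sm ge N16086 = N11060 := ded_41_1 (flp_g L94667) L94658 L137273
theorem L137281 : sm gi N16086 = N11099 := ded_51_2 (flp_g L94999) (flp_i L94664) L137273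
theorem L137283 : sm gh N11059 = N16087 := rfl
theorem L137285 : sm ga N16087 = N11071 := ded_17_1 (flp_h L94771) (flp_a L94660) L137283
theorem L137287 : sm gc N16087 = N11065 := ded_32_1 (flp_h L94714) (flp_c L94662) L137283
theorem L137292 : sm gj N11060 = N16088 := rfl
theorem L137294 : sm ga N16088 = N11072 := ded_16_1 (flp_j L94778) (flp_a L94669) L137292
theorem L137296 : sm gc N16088 = N11066 := ded_31_1 (flp_j L94723) (flp_c L94671) L137292
theorem L137298 : sm gf N16088 = N11156 := ded_46_1 (flp_j L95472) (flp_f L94675) L137292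
theorem L137300 : sm gi N16088 = N11101 := ded_53_2 (flp_j L95016) (flp_i L94673) L137292
theorem L137302 : sm gh N11060 = N16089 := rfl
theorem L137304 : sm ga N16089 = N11073 := ded_17_1 (flp_h L94786) (flp_a L94669) L137302
theorem L137308 : sm gf N16089 = N11157 := ded_47_1 (flp_h L95481) (flp_f L94675) L137302
theorem L137310 : sm gg N16089 = N11061 := ded_50_1 (flp_h L94677) L94667 L137302
theorem L137312 : sm gd N11061 = N16090 := rfl
theorem L137314 : sm ga N16090 = N11074 := ded_12_1 (flp_d L94794) (flp_a L94679) L137312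
theorem L137319 : sm gi N11061 = N16091 := rfl
theorem L137329 : sm ge N11062 = N16092 := rfl
theorem L137337 : sm gi N11062 = N16093 := rfl
theorem L137346 : sm gf N11064 = N16094 := rfl
theorem L137353 : sm gi N16094 = N11107 := ded_48_2 (flp_f L95069) (flp_i L94712) L137346
theorem L137355 : sm ge N16094 = N11162 := ded_40_1 (flp_f L95523) L66002 (flp_f L65466) (flp_e L94710) L137346
theorem L137358 : sm gj N11064 = N16095 := rfl
theorem L137365 : sm ge N16095 = N11066 := ded_42_1 (flp_j L94723) (flp_e L94710) L137358
theorem L137367 : sm gi N16095 = N11108 := ded_53_2 (flp_j L95079) (flp_i L94712) L137358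
theorem L137379 : sm gd N11065 = N16097 := rfl
theorem L137381 : sm ga N16097 = N11081 := ded_12_1 (flp_d L94847) (flp_a L94716) L137379
theorem L137383 : sm gb N16097 = N12461 := ded_20_1 (flp_d L106337) (flp_b L94718) L137379
theorem L137388 : sm gi N11065 = N16098 := rfl
theorem L137399 : sm gh N11066 = N16099 := rfl
theorem L137401 : sm ga N16099 = N11083 := ded_17_1 (flp_h L94863) (flp_a L94725) L137399
theorem L137403 : sm gb N16099 = N12463 := ded_25_1 (flp_h L106353) (flp_b L94727) L137399
theorem L137423 : sm gg N11069 = N16101 := rfl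
theorem L137425 : sm gc N16101 = N16101 := ded_30_1 (flp_g L137423) L94762 L137423
theorem L137426 : sm gd N16101 = N11070 := ded_36_1 (flp_g L94763) L94757 L137423
theorem L137428 : sm gi N16101 = N11114 := ded_51_2 (flp_g L95141) (flp_i L94760) L137423
theorem L137430 : sm gh N11069 = N16102 := rfl
theorem L137432 : sm gc N16102 = N16102 := ded_32_1 (flp_h L137430) L94762 L137430
theorem L137433 : sm gf N16102 = N16102 := ded_47_1 (flp_h L137430) L94759 L137430
theorem L137434 : sm gf N11070 = N16103 := rfl
theorem L137436 : sm gc N16103 = N11078 := ded_29_1 (flp_f L94820) (flp_c L94765) L137434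
theorem L137438 : sm gi N16103 = N11116 := ded_48_2 (flp_f L95150) (flp_i L94769) L137434
theorem L137440 : sm ge N16103 = N11171 := ded_40_1 (flp_f L95615) L66060 (flp_f L65514) (flp_e L94767) L137434
theorem L137443 : sm gj N11070 = N16104 := rfl
theorem L137447 : sm ge N16104 = N11072 := ded_42_1 (flp_j L94778) (flp_e L94767) L137443
theorem L137449 : sm gi N16104 = N11117 := ded_53_2 (flp_j L95157) (flp_i L94769) L137443
theorem L137451 : sm gh N11070 = N16105 := rfl
theorem L137453 : sm gc N16105 = N11080 := ded_32_1 (flp_h L94839) (flp_c L94765) L137451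
theorem L137455 : sm ge N16105 = N11073 := ded_43_1 (flp_h L94786) (flp_e L94767) L137451
theorem L137457 : sm gg N16105 = N11071 := ded_50_1 (flp_h L94771) L94763 L137451
theorem L137459 : sm gd N11071 = N16106 := rfl
theorem L137461 : sm gf N16106 = N16106 := ded_35_2 (flp_d L137459) L94777 L137459
theorem L137462 : sm gi N11071 = N16107 := rfl
theorem L137471 : sm gh N11072 = N16108 := rfl
theorem L137475 : sm gf N16108 = N11176 := ded_47_1 (flp_h L95653) (flp_f L94782) L137471
theorem L137477 : sm gj N16108 = N11073 := ded_52_1 (flp_h L94786) L94778 L137471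
theorem L137479 : sm gd N11073 = N16109 := rfl
theorem L137481 : sm gf N16109 = N11177 := ded_35_2 (flp_d L95660) (flp_f L94790) L137479
theorem L137483 : sm gg N16109 = N11074 := ded_36_2 (flp_d L94794) (flp_g L94792) L137479
theorem L137486 : sm gi N11073 = N16110 := rfl
theorem L137488 : sm gc N16110 = N11084 := ded_33_1 (flp_i L94872) (flp_c L94788) L137486
theorem L137490 : sm gf N16110 = N11178 := ded_48_1 (flp_i L95665) (flp_f L94790) L137486
theorem L137494 : sm gh N16110 = N11123 := ded_54_1 (flp_i L95197) (flp_h L65771) (flp_i L65512) L94786 L137486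
theorem L137496 : sm ge N11074 = N16111 := rfl
theorem L137499 : sm gi N11074 = N16112 := rfl
theorem L137506 : sm gf N11076 = N16113 := rfl
theorem L137525 : sm gj N11078 = N16116 := rfl
theorem L137527 : sm gb N16116 = N11085 := ded_24_1 (flp_j L94883) (flp_b L94822) L137525
theorem L137532 : sm gf N16116 = N11079 := ded_46_1 (flp_j L94830) L94820 L137525
theorem L137536 : sm gh N11078 = N16117 := rfl
theorem L137538 : sm gb N16117 = N11086 := ded_25_1 (flp_h L94894) (flp_b L94822) L137536
theorem L137542 : sm gf N16117 = N11080 := ded_47_1 (flp_h L94839) L94820 L137536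
theorem L137545 : sm gh N11079 = N16118 := rfl
theorem L137547 : sm gb N16118 = N11087 := ded_25_1 (flp_h L94903) (flp_b L94832) L137545
theorem L137551 : sm gj N16118 = N11080 := ded_52_1 (flp_h L94839) L94830 L137545
theorem L137553 : sm gd N11080 = N16119 := rfl
theorem L137557 : sm gg N16119 = N11081 := ded_36_2 (flp_d L94847) (flp_g L94845) L137553
theorem L137560 : sm gh N16119 = N16119 := ded_38_2 (flp_d L137553) (flp_h L94839) L65540 L94839 L137553
theorem L137571 : sm gc N11081 = N16121 := rfl
theorem L137584 : sm gi N11083 = N16123 := rfl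
theorem L137605 : sm gh N11085 = N16125 := rfl
theorem L137613 : sm gj N16125 = N11086 := ded_52_1 (flp_h L94894) L94883 L137605
theorem L137615 : sm gd N11086 = N16126 := rfl
theorem L137623 : sm gi N11086 = N16127 := rfl
theorem L137634 : sm gd N11087 = N16128 := rfl
theorem L137638 : sm gj N16128 = N11088 := ded_37_2 (flp_d L94911) (flp_j L94909) L137634
theorem L137641 : sm gh N16128 = N16128 := ded_38_2 (flp_d L137634) (flp_h L94903) L65594 L94903 L137634
theorem L137642 : sm gi N11087 = N16129 := rfl
theorem L137646 : sm ge N16129 = N11092 := ded_44_1 (flp_i L94944) (flp_e L94907) L137642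
theorem L137650 : sm gh N16129 = N11142 := ded_54_1 (flp_i L95350) (flp_h L65882) (flp_i L65597) L94903 L137642
theorem L137660 : sm gi N11088 = N16131 := rfl
theorem L137662 : sm ga N16131 = N12495 := ded_18_1 (flp_i L106602) (flp_a L94913) L137660
theorem L137664 : sm gd N16131 = N11089 := ded_39_1 (flp_i L94919) L94911 L137660
theorem L137667 : sm gg N16131 = N11091 := ded_51_1 (flp_i L94936) (flp_g L94915) L137660
theorem L137682 : sm gh N11091 = N16134 := rfl
theorem L137691 : sm gd N11093 = N16135 := rfl
theorem L137693 : sm gb N16135 = N11098 := ded_20_1 (flp_d L94993) (flp_b L94957) L137691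
theorem L137696 : sm gg N11093 = N16136 := rfl
theorem L137698 : sm gb N16136 = N11099 := ded_23_1 (flp_g L94999) (flp_b L94957) L137696
theorem L137700 : sm gc N16136 = N12500 := ded_30_1 (flp_g L106633) (flp_c L94959) L137696
theorem L137702 : sm ge N16136 = N11094 := ded_41_1 (flp_g L94962) L94955 L137696
theorem L137704 : sm gh N11093 = N16137 := rfl
theorem L137713 : sm gj N11094 = N16138 := rfl
theorem L137721 : sm gh N11094 = N16139 := rfl
theorem L137725 : sm gc N16139 = N12503 := ded_32_1 (flp_h L106653) (flp_c L94966) L137721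
theorem L137727 : sm gf N16139 = N11206 := ded_47_1 (flp_h L95899) (flp_f L94968) L137721
theorem L137729 : sm gg N16139 = N11095 := ded_50_1 (flp_h L94970) L94962 L137721
theorem L137731 : sm gd N11095 = N16140 := rfl
theorem L137733 : sm gb N16140 = N11103 := ded_20_1 (flp_d L95034) (flp_b L94972) L137731
theorem L137745 : sm gc N11096 = N16142 := rfl
theorem L137747 : sm gg N16142 = N11209 := ded_30_2 (flp_c L95923) (flp_g L94982) L137745
theorem L137753 : sm ge N11096 = N16143 := rfl
theorem L137757 : sm gg N16143 = N11210 := ded_41_2 (flp_e L95930) (flp_g L94982) L137753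
theorem L137760 : sm gi N11096 = N16144 := rfl
theorem L137768 : sm gg N11098 = N16145 := rfl
theorem L137770 : sm ga N16145 = N11114 := ded_15_1 (flp_g L95141) (flp_a L94995) L137768
theorem L137772 : sm gc N16145 = N16145 := ded_30_1 (flp_g L137768) L94998 L137768
theorem L137773 : sm gd N16145 = N11099 := ded_36_1 (flp_g L94999) L94993 L137768
theorem L137775 : sm gh N11098 = N16146 := rfl
theorem L137777 : sm ga N16146 = N11115 := ded_17_1 (flp_h L95146) (flp_a L94995) L137775
theorem L137779 : sm gc N16146 = N16146 := ded_32_1 (flp_h L137775) L94998 L137775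
theorem L137780 : sm gf N16146 = N16146 := ded_47_1 (flp_h L137775) L94997 L137775
theorem L137781 : sm gf N11099 = N16147 := rfl
theorem L137785 : sm gc N16147 = N11107 := ded_29_1 (flp_f L95069) (flp_c L95003) L137781
theorem L137787 : sm ge N16147 = N11214 := ded_40_1 (flp_f L95959) L66299 (flp_f L65671) (flp_e L95005) L137781
theorem L137790 : sm gj N11099 = N16148 := rfl
theorem L137794 : sm gc N16148 = N11108 := ded_31_1 (flp_j L95079) (flp_c L95003) L137790
theorem L137798 : sm gh N11099 = N16149 := rfl
theorem L137800 : sm ga N16149 = N11118 := ded_17_1 (flp_h L95163) (flp_a L95001) L137798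
theorem L137802 : sm gc N16149 = N11109 := ded_32_1 (flp_h L95088) (flp_c L95003) L137798
theorem L137806 : sm gg N16149 = N11100 := ded_50_1 (flp_h L95007) L94999 L137798
theorem L137808 : sm gd N11100 = N16150 := rfl
theorem L137810 : sm ga N16150 = N11119 := ded_12_1 (flp_d L95171) (flp_a L95009) L137808
theorem L137822 : sm gh N11101 = N16152 := rfl
theorem L137824 : sm ga N16152 = N11121 := ded_17_1 (flp_h L95181) (flp_a L95018) L137822
theorem L137826 : sm gc N16152 = N11112 := ded_32_1 (flp_h L95117) (flp_c L95020) L137822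
theorem L137832 : sm gd N11102 = N16153 := rfl
theorem L137834 : sm ga N16153 = N11122 := ded_12_1 (flp_d L95189) (flp_a L95026) L137832
theorem L137836 : sm gf N16153 = N11220 := ded_35_2 (flp_d L96011) (flp_f L95030) L137832
theorem L137838 : sm gg N16153 = N11103 := ded_36_2 (flp_d L95034) (flp_g L95032) L137832
theorem L137840 : sm gc N16153 = N11399 := ded_27_1 (flp_d L97579) L67480 (flp_d L65736) (flp_c L95028) L137832
theorem L137852 : sm ge N11103 = N16155 := rfl
theorem L137854 : sm ga N16155 = N11124 := ded_13_1 (flp_e L95205) (flp_a L95036) L137852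
theorem L137858 : sm gi N11103 = N16156 := rfl
theorem L137868 : sm gf N11105 = N16157 := rfl
theorem L137870 : sm ga N16157 = N11126 := ded_14_1 (flp_f L95217) (flp_a L95052) L137868
theorem L137875 : sm gi N11105 = N16158 := rfl
theorem L137877 : sm ga N16158 = N11127 := ded_18_1 (flp_i L95222) (flp_a L95052) L137875
theorem L137884 : sm gg N16158 = N11225 := ded_51_1 (flp_i L96053) (flp_g L95056) L137875
theorem L137894 : sm gj N11107 = N16160 := rfl
theorem L137916 : sm gh N11108 = N16162 := rfl
theorem L137924 : sm gj N16162 = N11109 := ded_52_1 (flp_h L95088) L95079 L137916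
theorem L137937 : sm gi N11109 = N16164 := rfl
theorem L137947 : sm gc N11110 = N16165 := rfl
theorem L137951 : sm ge N16165 = N11409 := ded_28_2 (flp_c L97666) (flp_e L95105) L137947
theorem L137978 : sm gf N11114 = N16168 := rfl
theorem L137981 : sm gd N16168 = N11116 := ded_35_1 (flp_f L95150) (flp_d L95144) L137978
theorem L137984 : sm gj N11114 = N16169 := rfl
theorem L137987 : sm gd N16169 = N11117 := ded_37_1 (flp_j L95157) (flp_d L95144) L137984
theorem L137989 : sm gh N11114 = N16170 := rfl
theorem L137991 : sm gc N16170 = N16170 := ded_32_1 (flp_h L137989) L95143 L137989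
theorem L137992 : sm gg N16170 = N11115 := ded_50_1 (flp_h L95146) L95141 L137989
theorem L137994 : sm gd N11115 = N16171 := rfl
theorem L137996 : sm gf N16171 = N16171 := ded_35_2 (flp_d L137994) L95149 L137994
theorem L137997 : sm gh N16171 = N11119 := ded_38_2 (flp_d L95171) (flp_h L65758) L65748 L95146 L137994
theorem L137999 : sm gi N11115 = N16172 := rfl
theorem L138001 : sm gc N16172 = N16172 := ded_33_1 (flp_i L137999) L95148 L137999
theorem L138002 : sm gf N16172 = N16172 := ded_48_1 (flp_i L137999) L95149 L137999
theorem L138003 : sm gj N11116 = N16173 := rfl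
theorem L138009 : sm gf N16173 = N11117 := ded_46_1 (flp_j L95157) L95150 L138003
theorem L138020 : sm gh N11117 = N16175 := rfl
theorem L138024 : sm ge N16175 = N11121 := ded_43_1 (flp_h L95181) (flp_e L95161) L138020
theorem L138026 : sm gj N16175 = N11118 := ded_52_1 (flp_h L95163) L95157 L138020
theorem L138028 : sm gd N11118 = N16176 := rfl
theorem L138030 : sm gg N16176 = N11119 := ded_36_2 (flp_d L95171) (flp_g L95169) L138028
theorem L138040 : sm gc N11119 = N16178 := rfl
theorem L138043 : sm gd N16178 = N11134 := ded_27_2 (flp_c L95280) (flp_d L65829) (flp_c L65760) L95171 L138040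
theorem L138045 : sm ge N11119 = N16179 := rfl
theorem L138047 : sm gd N16179 = N11124 := ded_34_1 (flp_e L95205) (flp_d L65779) (flp_e L65762) L95171 L138045
theorem L138049 : sm gi N11119 = N16180 := rfl
theorem L138054 : sm gd N11121 = N16181 := rfl
theorem L138056 : sm gf N16181 = N11244 := ded_35_2 (flp_d L96205) (flp_f L95185) L138054
theorem L138058 : sm gj N16181 = N11122 := ded_37_2 (flp_d L95189) (flp_j L95187) L138054
theorem L138060 : sm gc N16181 = N11422 := ded_27_1 (flp_d L97768) L67631 (flp_d L65852) (flp_c L95183) L138054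
theorem L138070 : sm ge N11122 = N16183 := rfl
theorem L138072 : sm gc N16183 = N11424 := ded_28_1 (flp_e L97785) (flp_c L95195) L138070
theorem L138074 : sm gg N16183 = N11124 := ded_41_2 (flp_e L95205) (flp_g L95193) L138070
theorem L138076 : sm gi N11122 = N16184 := rfl
theorem L138086 : sm gf N11124 = N16185 := rfl
theorem L138088 : sm gc N16185 = N11426 := ded_29_1 (flp_f L97799) (flp_c L95207) L138086
theorem L138090 : sm ge N16185 = N11126 := ded_40_1 (flp_f L95217) (flp_e L65791) (flp_f L65781) L95205 L138086
theorem L138092 : sm gi N11124 = N16186 := rfl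
theorem L138104 : sm gg N11126 = N16188 := rfl
theorem L138106 : sm gc N16188 = N11429 := ded_30_1 (flp_g L97815) (flp_c L95219) L138104
theorem L138108 : sm gd N16188 = N16188 := ded_36_1 (flp_g L138104) L95221 L138104
theorem L138109 : sm gf N16188 = N11251 := ded_45_1 (flp_g L96254) (flp_f L66502) (flp_g L65795) L95217 L138104
theorem L138111 : sm gi N11126 = N16189 := rfl
theorem L138118 : sm gh N11127 = N16190 := rfl
theorem L138124 : sm gg N16190 = N11253 := ded_50_1 (flp_h L96267) (flp_g L95229) L138118
theorem L138134 : sm gh N11129 = N16192 := rfl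
theorem L138136 : sm gb N16192 = N11138 := ded_25_1 (flp_h L95313) (flp_b L95239) L138134
theorem L138142 : sm gj N16192 = N11130 := ded_52_1 (flp_h L95246) L95237 L138134
theorem L138162 : sm gd N11131 = N16195 := rfl
theorem L138179 : sm gc N11132 = N16197 := rfl
theorem L138181 : sm ge N16197 = N11434 := ded_28_2 (flp_c L97854) (flp_e L95269) L138179
theorem L138186 : sm gi N11132 = N16198 := rfl
theorem L138188 : sm gb N16198 = N11144 := ded_26_1 (flp_i L95367) (flp_b L95265) L138186
theorem L138204 : sm gi N11134 = N16200 := rfl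
theorem L138206 : sm gc N16200 = N11135 := ded_33_1 (flp_i L95286) L95280 L138204
theorem L138208 : sm ge N16200 = N11437 := ded_44_1 (flp_i L97876) (flp_e L95282) L138204
theorem L138228 : sm gd N11138 = N16203 := rfl
theorem L138230 : sm ga N16203 = N12567 := ded_12_1 (flp_d L107156) (flp_a L95315) L138228
theorem L138234 : sm gj N16203 = N11139 := ded_37_2 (flp_d L95323) (flp_j L95321) L138228
theorem L138238 : sm gi N11138 = N16204 := rfl
theorem L138244 : sm gf N16204 = N11142 := ded_48_1 (flp_i L95350) (flp_f L95319) L138238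
theorem L138257 : sm gi N11139 = N16206 := rfl
theorem L138264 : sm gf N16206 = N11144 := ded_48_1 (flp_i L95367) (flp_f L95327) L138257
theorem L138267 : sm gc N11141 = N16207 := rfl
theorem L138269 : sm ga N16207 = N12571 := ded_11_1 (flp_c L107187) (flp_a L95343) L138267
theorem L138271 : sm ge N16207 = N11439 := ded_28_2 (flp_c L97890) (flp_e L95347) L138267
theorem L138273 : sm gj N16207 = N11143 := ded_31_2 (flp_c L95358) (flp_j L95345) L138267
theorem L138286 : sm gb N11143 = N16209 := rfl
theorem L138288 : sm ge N16209 = N11441 := ded_21_2 (flp_b L97908) (flp_e L95362) L138286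
theorem L138290 : sm gg N16209 = N11145 := ded_23_2 (flp_b L95377) (flp_g L95364) L138286
theorem L138293 : sm gi N11143 = N16210 := rfl
theorem L138301 : sm gg N16210 = N11146 := ded_51_1 (flp_i L95383) (flp_g L95364) L138293
theorem L138303 : sm gh N11144 = N16211 := rfl
theorem L138309 : sm gg N16211 = N11147 := ded_50_1 (flp_h L95392) (flp_g L95375) L138303
theorem L138320 : sm gi N11145 = N16213 := rfl
theorem L138327 : sm gh N11146 = N16214 := rfl
theorem L138333 : sm ge N16214 = N11446 := ded_43_1 (flp_h L97949) (flp_e L95389) L138327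
theorem L138337 : sm gd N11148 = N16215 := rfl
theorem L138339 : sm gb N16215 = N11153 := ded_20_1 (flp_d L95442) (flp_b L95402) L138337
theorem L138343 : sm gi N16215 = N11202 := ded_39_2 (flp_d L95868) (flp_i L95407) L138337
theorem L138345 : sm gg N11148 = N16216 := rfl
theorem L138347 : sm gb N16216 = N11154 := ded_23_1 (flp_g L95452) (flp_b L95402) L138345
theorem L138349 : sm gc N16216 = N12580 := ded_30_1 (flp_g L107254) (flp_c L95404) L138345
theorem L138365 : sm gj N11149 = N16218 := rfl
theorem L138382 : sm gd N11150 = N16220 := rfl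
theorem L138384 : sm gb N16220 = N11158 := ded_20_1 (flp_d L95489) (flp_b L95420) L138382
theorem L138389 : sm gi N11150 = N16221 := rfl
theorem L138398 : sm gh N16221 = N11208 := ded_54_1 (flp_i L95914) (flp_h L66263) (flp_i L65941) L95418 L138389
theorem L138406 : sm ge N11151 = N16223 := rfl
theorem L138408 : sm gb N16223 = N11160 := ded_21_1 (flp_e L95508) (flp_b L95429) L138406
theorem L138412 : sm gi N11151 = N16224 := rfl
theorem L138419 : sm gg N11153 = N16225 := rfl
theorem L138421 : sm ga N16225 = N11169 := ded_15_1 (flp_g L95601) (flp_a L95444) L138419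
theorem L138423 : sm gc N16225 = N11268 := ded_30_1 (flp_g L96408) (flp_c L95450) L138419
theorem L138425 : sm gd N16225 = N11154 := ded_36_1 (flp_g L95452) L95442 L138419
theorem L138427 : sm gi N16225 = N11212 := ded_51_2 (flp_g L95943) (flp_i L95448) L138419
theorem L138429 : sm gh N11153 = N16226 := rfl
theorem L138431 : sm ga N16226 = N11170 := ded_17_1 (flp_h L95609) (flp_a L95444) L138429
theorem L138433 : sm gc N16226 = N11269 := ded_32_1 (flp_h L96416) (flp_c L95450) L138429
theorem L138435 : sm gf N16226 = N16226 := ded_47_1 (flp_h L138429) L95446 L138429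
theorem L138436 : sm gj N16226 = N16226 := ded_52_1 (flp_h L138429) L95447 L138429
theorem L138437 : sm gf N11154 = N16227 := rfl
theorem L138439 : sm ga N16227 = N11171 := ded_14_1 (flp_f L95615) (flp_a L95454) L138437
theorem L138441 : sm gc N16227 = N11162 := ded_29_1 (flp_f L95523) (flp_c L95456) L138437
theorem L138443 : sm gi N16227 = N11214 := ded_48_2 (flp_f L95959) (flp_i L95460) L138437
theorem L138445 : sm gg N16227 = N16227 := ded_45_2 (flp_f L138437) (flp_g L95452) L65960 L95452 L138437
theorem L138446 : sm gj N11154 = N16228 := rfl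
theorem L138448 : sm ga N16228 = N11172 := ded_16_1 (flp_j L95622) (flp_a L95454) L138446
theorem L138450 : sm gc N16228 = N11163 := ded_31_1 (flp_j L95534) (flp_c L95456) L138446
theorem L138452 : sm ge N16228 = N11156 := ded_42_1 (flp_j L95472) (flp_e L95458) L138446
theorem L138454 : sm gi N16228 = N11215 := ded_53_2 (flp_j L95966) (flp_i L95460) L138446
theorem L138456 : sm gg N16228 = N16228 := ded_49_1 (flp_j L138446) (flp_g L95452) L65957 L95452 L138446
theorem L138457 : sm gh N11154 = N16229 := rfl
theorem L138459 : sm ga N16229 = N11173 := ded_17_1 (flp_h L95631) (flp_a L95454) L138457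
theorem L138465 : sm gg N16229 = N11155 := ded_50_1 (flp_h L95462) L95452 L138457
theorem L138467 : sm gd N11155 = N16230 := rfl
theorem L138469 : sm ga N16230 = N11174 := ded_12_1 (flp_d L95639) (flp_a L95464) L138467
theorem L138473 : sm gi N11155 = N16231 := rfl
theorem L138483 : sm gh N16231 = N11218 := ded_54_1 (flp_i L95992) (flp_h L66301) (flp_i L65958) L95462 L138473
theorem L138485 : sm gh N11156 = N16232 := rfl
theorem L138487 : sm ga N16232 = N11176 := ded_17_1 (flp_h L95653) (flp_a L95474) L138485
theorem L138492 : sm gj N16232 = N11157 := ded_52_1 (flp_h L95481) L95472 L138485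
theorem L138494 : sm gd N11157 = N16233 := rfl
theorem L138511 : sm ge N11158 = N16235 := rfl
theorem L138517 : sm gi N11158 = N16236 := rfl
theorem L138527 : sm gf N11160 = N16237 := rfl
theorem L138529 : sm ga N16237 = N11181 := ded_14_1 (flp_f L95685) (flp_a L95510) L138527
theorem L138551 : sm gj N11162 = N16240 := rfl
theorem L138553 : sm ga N16240 = N11184 := ded_16_1 (flp_j L95703) (flp_a L95525) L138551
theorem L138555 : sm gb N16240 = N12604 := ded_24_1 (flp_j L107458) (flp_b L95527) L138551
theorem L138559 : sm gf N16240 = N11163 := ded_46_1 (flp_j L95534) L95523 L138551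
theorem L138563 : sm gh N11162 = N16241 := rfl
theorem L138565 : sm ga N16241 = N11185 := ded_17_1 (flp_h L95713) (flp_a L95525) L138563
theorem L138569 : sm gf N16241 = N11164 := ded_47_1 (flp_h L95547) L95523 L138563
theorem L138572 : sm gh N11163 = N16242 := rfl
theorem L138574 : sm ga N16242 = N11186 := ded_17_1 (flp_h L95720) (flp_a L95536) L138572
theorem L138576 : sm gb N16242 = N12606 := ded_25_1 (flp_h L107475) (flp_b L95538) L138572
theorem L138578 : sm ge N16242 = N11167 := ded_43_1 (flp_h L95580) (flp_e L95542) L138572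
theorem L138581 : sm gj N16242 = N11164 := ded_52_1 (flp_h L95547) L95534 L138572
theorem L138583 : sm gd N11164 = N16243 := rfl
theorem L138585 : sm ga N16243 = N11187 := ded_12_1 (flp_d L95729) (flp_a L95549) L138583
theorem L138594 : sm gi N11164 = N16244 := rfl
theorem L138604 : sm gh N16244 = N11230 := ded_54_1 (flp_i L96102) (flp_h L66381) (flp_i L66004) L95547 L138594
theorem L138606 : sm gc N11165 = N16245 := rfl
theorem L138608 : sm ga N16245 = N11189 := ded_11_1 (flp_c L95748) (flp_a L95559) L138606
theorem L138613 : sm gh N16245 = N11282 := ded_32_2 (flp_c L96540) (flp_h L95566) L138606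
theorem L138615 : sm gi N11165 = N16246 := rfl
theorem L138621 : sm gd N16246 = N11166 := ded_39_1 (flp_i L95568) L95557 L138615
theorem L138627 : sm gi N11167 = N16247 := rfl
theorem L138637 : sm gh N16247 = N11231 := ded_54_1 (flp_i L96113) (flp_h L66403) (flp_i L66024) L95580 L138627
theorem L138639 : sm gf N11169 = N16248 := rfl
theorem L138641 : sm gc N16248 = N11283 := ded_29_1 (flp_f L96548) (flp_c L95603) L138639
theorem L138643 : sm gd N16248 = N11171 := ded_35_1 (flp_f L95615) (flp_d L95605) L138639
theorem L138645 : sm gi N16248 = N11232 := ded_48_2 (flp_f L96124) (flp_i L95607) L138639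
theorem L138647 : sm gg N16248 = N16248 := ded_45_2 (flp_f L138639) (flp_g L95601) L66050 L95601 L138639
theorem L138648 : sm gj N11169 = N16249 := rfl
theorem L138650 : sm gc N16249 = N11284 := ded_31_1 (flp_j L96556) (flp_c L95603) L138648
theorem L138652 : sm gd N16249 = N11172 := ded_37_1 (flp_j L95622) (flp_d L95605) L138648
theorem L138654 : sm gi N16249 = N11233 := ded_53_2 (flp_j L96131) (flp_i L95607) L138648
theorem L138656 : sm gg N16249 = N16249 := ded_49_1 (flp_j L138648) (flp_g L95601) L66051 L95601 L138648
theorem L138657 : sm gh N11169 = N16250 := rfl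
theorem L138659 : sm gc N16250 = N11285 := ded_32_1 (flp_h L96564) (flp_c L95603) L138657
theorem L138661 : sm gg N16250 = N11170 := ded_50_1 (flp_h L95609) L95601 L138657
theorem L138663 : sm gd N11170 = N16251 := rfl
theorem L138665 : sm gf N16251 = N16251 := ded_35_2 (flp_d L138663) L95613 L138663
theorem L138666 : sm gj N16251 = N16251 := ded_37_2 (flp_d L138663) L95614 L138663
theorem L138667 : sm gh N16251 = N11174 := ded_38_2 (flp_d L95639) (flp_h L66064) L66048 L95609 L138663
theorem L138669 : sm gi N11170 = N16252 := rfl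
theorem L138671 : sm gc N16252 = N11287 := ded_33_1 (flp_i L96576) (flp_c L95611) L138669
theorem L138673 : sm gf N16252 = N16252 := ded_48_1 (flp_i L138669) L95613 L138669
theorem L138674 : sm gj N16252 = N16252 := ded_53_1 (flp_i L138669) L95614 L138669
theorem L138675 : sm gh N16252 = N11236 := ded_54_1 (flp_i L96151) (flp_h L66430) (flp_i L66052) L95609 L138669
theorem L138677 : sm gj N11171 = N16253 := rfl
theorem L138679 : sm gc N16253 = N11184 := ded_31_1 (flp_j L95703) (flp_c L95617) L138677
theorem L138681 : sm gf N16253 = N11172 := ded_46_1 (flp_j L95622) L95615 L138677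
theorem L138685 : sm gh N11171 = N16254 := rfl
theorem L138687 : sm gc N16254 = N11185 := ded_32_1 (flp_h L95713) (flp_c L95617) L138685
theorem L138689 : sm gf N16254 = N11173 := ded_47_1 (flp_h L95631) L95615 L138685
theorem L138692 : sm gh N11172 = N16255 := rfl
theorem L138694 : sm gc N16255 = N11186 := ded_32_1 (flp_h L95720) (flp_c L95624) L138692
theorem L138696 : sm ge N16255 = N11176 := ded_43_1 (flp_h L95653) (flp_e L95626) L138692
theorem L138699 : sm gj N16255 = N11173 := ded_52_1 (flp_h L95631) L95622 L138692
theorem L138701 : sm gd N11173 = N16256 := rfl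
theorem L138703 : sm gg N16256 = N11174 := ded_36_2 (flp_d L95639) (flp_g L95637) L138701
theorem L138705 : sm gi N11173 = N16257 := rfl
theorem L138713 : sm gh N16257 = N11241 := ded_54_1 (flp_i L96184) (flp_h L66448) (flp_i L66062) L95631 L138705
theorem L138715 : sm gc N11174 = N16258 := rfl
theorem L138717 : sm gf N16258 = N16258 := ded_29_2 (flp_c L138715) L95641 L138715
theorem L138718 : sm gj N16258 = N16258 := ded_31_2 (flp_c L138715) L95642 L138715
theorem L138719 : sm gd N16258 = N11189 := ded_27_2 (flp_c L95748) (flp_d L66139) (flp_c L66066) L95639 L138715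
theorem L138721 : sm ge N11174 = N16259 := rfl
theorem L138724 : sm gd N16259 = N11179 := ded_34_1 (flp_e L95673) (flp_d L66085) (flp_e L66068) L95639 L138721
theorem L138726 : sm gi N11174 = N16260 := rfl
theorem L138728 : sm gd N16260 = N11175 := ded_39_1 (flp_i L95643) L95639 L138726
theorem L138732 : sm gd N11176 = N16261 := rfl
theorem L138735 : sm gj N16261 = N11177 := ded_37_2 (flp_d L95660) (flp_j L95658) L138732
theorem L138738 : sm gi N11176 = N16262 := rfl
theorem L138745 : sm gh N16262 = N11245 := ded_54_1 (flp_i L96212) (flp_h L66469) (flp_i L66076) L95653 L138738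
theorem L138747 : sm ge N11177 = N16263 := rfl
theorem L138750 : sm gg N16263 = N11179 := ded_41_2 (flp_e L95673) (flp_g L95662) L138747
theorem L138759 : sm gf N11179 = N16265 := rfl
theorem L138765 : sm gi N11179 = N16266 := rfl
theorem L138779 : sm gg N11181 = N16268 := rfl
theorem L138783 : sm gi N11181 = N16269 := rfl
theorem L138787 : sm gf N16269 = N11182 := ded_48_1 (flp_i L95690) L95685 L138783
theorem L138790 : sm gh N11182 = N16270 := rfl
theorem L138793 : sm ge N16270 = N11183 := ded_43_1 (flp_h L95697) (flp_e L95694) L138790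
theorem L138796 : sm gg N11184 = N16271 := rfl
theorem L138798 : sm gb N16271 = N11192 := ded_23_1 (flp_g L95775) (flp_b L95705) L138796
theorem L138800 : sm gd N16271 = N11298 := ded_36_1 (flp_g L96665) (flp_d L95707) L138796
theorem L138806 : sm gh N11184 = N16272 := rfl
theorem L138808 : sm gb N16272 = N11193 := ded_25_1 (flp_h L95785) (flp_b L95705) L138806
theorem L138810 : sm gf N16272 = N11186 := ded_47_1 (flp_h L95720) (flp_f L95709) L138806
theorem L138814 : sm gd N11185 = N16273 := rfl
theorem L138816 : sm gb N16273 = N11194 := ded_20_1 (flp_d L95793) (flp_b L95715) L138814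
theorem L138818 : sm gf N16273 = N11187 := ded_35_2 (flp_d L95729) (flp_f L95717) L138814
theorem L138821 : sm gh N16273 = N11300 := ded_38_2 (flp_d L96684) (flp_h L66848) (flp_d L66115) L95713 L138814
theorem L138832 : sm gd N11186 = N16275 := rfl
theorem L138837 : sm gj N16275 = N11187 := ded_37_2 (flp_d L95729) (flp_j L95727) L138832
theorem L138842 : sm gi N11186 = N16276 := rfl
theorem L138844 : sm gb N16276 = N11197 := ded_26_1 (flp_i L95821) (flp_b L95722) L138842
theorem L138853 : sm gc N11187 = N16277 := rfl
theorem L138855 : sm ge N16277 = N16277 := ded_28_2 (flp_c L138853) L95735 L138853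
theorem L138856 : sm gg N16277 = N11189 := ded_30_2 (flp_c L95748) (flp_g L95733) L138853
theorem L138858 : sm gh N16277 = N11302 := ded_32_2 (flp_c L96701) (flp_h L95736) L138853
theorem L138870 : sm gb N11189 = N16279 := rfl
theorem L138875 : sm gh N16279 = N11303 := ded_25_2 (flp_b L96707) (flp_h L95753) L138870
theorem L138877 : sm gc N16279 = N11200 := ded_19_2 (flp_b L95851) (flp_c L66220) (flp_b L66141) L95748 L138870
theorem L138879 : sm gi N11189 = N16280 := rfl
theorem L138881 : sm gc N16280 = N11190 := ded_33_1 (flp_i L95755) L95748 L138879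
theorem L138887 : sm gh N11192 = N16281 := rfl
theorem L138889 : sm ga N16281 = N12645 := ded_17_1 (flp_h L107789) (flp_a L95777) L138887
theorem L138892 : sm gg N16281 = N11193 := ded_50_1 (flp_h L95785) L95775 L138887
theorem L138895 : sm gd N11193 = N16282 := rfl
theorem L138899 : sm gf N16282 = N11196 := ded_35_2 (flp_d L95811) (flp_f L95789) L138895
theorem L138901 : sm gj N16282 = N11194 := ded_37_2 (flp_d L95793) (flp_j L95791) L138895
theorem L138903 : sm gh N16282 = N11305 := ded_38_2 (flp_d L96726) (flp_h L66891) (flp_d L66179) L95785 L138895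
theorem L138915 : sm gc N11194 = N16284 := rfl
theorem L138919 : sm gf N16284 = N11198 := ded_29_2 (flp_c L95832) (flp_f L95797) L138915
theorem L138922 : sm gh N16284 = N11306 := ded_32_2 (flp_c L96735) (flp_h L95800) L138915
theorem L138924 : sm ge N11194 = N16285 := rfl
theorem L138929 : sm gh N16285 = N11307 := ded_43_2 (flp_e L96744) (flp_h L95800) L138924
theorem L138942 : sm gc N11196 = N16287 := rfl
theorem L138944 : sm ga N16287 = N12651 := ded_11_1 (flp_c L107832) (flp_a L95813) L138942
theorem L138963 : sm gb N11198 = N16289 := rfl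
theorem L138968 : sm gh N16289 = N11309 := ded_25_2 (flp_b L96762) (flp_h L95839) L138963
theorem L138970 : sm gi N11198 = N16290 := rfl
theorem L138972 : sm ga N16290 = N12654 := ded_18_1 (flp_i L107856) (flp_a L95834) L138970
theorem L138974 : sm gc N16290 = N11199 := ded_33_1 (flp_i L95841) L95832 L138970
theorem L138977 : sm gg N16290 = N11201 := ded_51_1 (flp_i L95858) (flp_g L95837) L138970
theorem L138980 : sm ga N11200 = N16291 := rfl
theorem L138985 : sm gh N16291 = N11310 := ded_17_2 (flp_a L96769) (flp_h L95856) L138980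
theorem L138997 : sm gc N11202 = N16293 := rfl
theorem L139001 : sm gb N16293 = N11311 := ded_19_1 (flp_c L96778) L66938 (flp_c L66291) (flp_b L95870) L138997
theorem L139003 : sm gd N16293 = N12657 := ded_27_2 (flp_c L107879) (flp_d L74521) (flp_c L66253) L95868 L138997
theorem L139005 : sm gg N11202 = N16294 := rfl
theorem L139007 : sm gb N16294 = N11212 := ded_23_1 (flp_g L95943) (flp_b L95870) L139005
theorem L139011 : sm gh N11202 = N16295 := rfl
theorem L139013 : sm gb N16295 = N11213 := ded_25_1 (flp_h L95951) (flp_b L95870) L139011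
theorem L139017 : sm gf N11203 = N16296 := rfl
theorem L139019 : sm gb N16296 = N11214 := ded_22_1 (flp_f L95959) (flp_b L95876) L139017
theorem L139021 : sm gc N16296 = N12660 := ded_29_1 (flp_f L107900) (flp_c L95878) L139017
theorem L139024 : sm gj N11203 = N16297 := rfl
theorem L139026 : sm gb N16297 = N11215 := ded_24_1 (flp_j L95966) (flp_b L95876) L139024
theorem L139033 : sm gh N11203 = N16298 := rfl
theorem L139037 : sm gc N16298 = N12662 := ded_32_1 (flp_h L107912) (flp_c L95878) L139033
theorem L139039 : sm ge N16298 = N11206 := ded_43_1 (flp_h L95899) (flp_e L95880) L139033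
theorem L139041 : sm gg N16298 = N11204 := ded_50_1 (flp_h L95882) L95874 L139033
theorem L139043 : sm gd N11204 = N16299 := rfl
theorem L139059 : sm gh N11205 = N16301 := rfl
theorem L139066 : sm gj N16301 = N11206 := ded_52_1 (flp_h L95899) L95892 L139059
theorem L139068 : sm gd N11206 = N16302 := rfl
theorem L139072 : sm gg N16302 = N11207 := ded_36_2 (flp_d L95907) (flp_g L95905) L139068
theorem L139082 : sm gc N11207 = N16304 := rfl
theorem L139091 : sm ge N11207 = N16305 := rfl
theorem L139096 : sm gi N11207 = N16306 := rfl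
theorem L139105 : sm ge N11209 = N16307 := rfl
theorem L139109 : sm gc N16307 = N11210 := ded_28_1 (flp_e L95930) L95923 L139105
theorem L139121 : sm gf N11210 = N16309 := rfl
theorem L139123 : sm gb N16309 = N11224 := ded_22_1 (flp_f L96045) (flp_b L95932) L139121
theorem L139127 : sm gi N11210 = N16310 := rfl
theorem L139140 : sm gf N11212 = N16312 := rfl
theorem L139142 : sm ga N16312 = N11232 := ded_14_1 (flp_f L96124) (flp_a L95945) L139140
theorem L139144 : sm gc N16312 = N11316 := ded_29_1 (flp_f L96821) (flp_c L95947) L139140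
theorem L139146 : sm gd N16312 = N11214 := ded_35_1 (flp_f L95959) (flp_d L95949) L139140
theorem L139148 : sm gg N16312 = N16312 := ded_45_2 (flp_f L139140) (flp_g L95943) L66289 L95943 L139140
theorem L139149 : sm gj N11212 = N16313 := rfl
theorem L139151 : sm ga N16313 = N11233 := ded_16_1 (flp_j L96131) (flp_a L95945) L139149
theorem L139153 : sm gc N16313 = N11317 := ded_31_1 (flp_j L96828) (flp_c L95947) L139149
theorem L139155 : sm gd N16313 = N11215 := ded_37_1 (flp_j L95966) (flp_d L95949) L139149
theorem L139157 : sm gg N16313 = N16313 := ded_49_1 (flp_j L139149) (flp_g L95943) L66290 L95943 L139149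
theorem L139158 : sm gh N11212 = N16314 := rfl
theorem L139160 : sm ga N16314 = N11234 := ded_17_1 (flp_h L96138) (flp_a L95945) L139158
theorem L139162 : sm gc N16314 = N11318 := ded_32_1 (flp_h L96835) (flp_c L95947) L139158
theorem L139164 : sm gg N16314 = N11213 := ded_50_1 (flp_h L95951) L95943 L139158
theorem L139166 : sm gd N11213 = N16315 := rfl
theorem L139168 : sm ga N16315 = N11235 := ded_12_1 (flp_d L96144) (flp_a L95953) L139166
theorem L139173 : sm gh N16315 = N11217 := ded_38_2 (flp_d L95985) (flp_h L66301) L66285 L95951 L139166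
theorem L139175 : sm gi N11213 = N16316 := rfl
theorem L139177 : sm ga N16316 = N11236 := ded_18_1 (flp_i L96151) (flp_a L95953) L139175
theorem L139179 : sm gc N16316 = N11319 := ded_33_1 (flp_i L96842) (flp_c L95955) L139175
theorem L139181 : sm gf N16316 = N16316 := ded_48_1 (flp_i L139175) L95957 L139175
theorem L139182 : sm gj N16316 = N16316 := ded_53_1 (flp_i L139175) L95958 L139175
theorem L139183 : sm gj N11214 = N16317 := rfl
theorem L139189 : sm gf N16317 = N11215 := ded_46_1 (flp_j L95966) L95959 L139183
theorem L139191 : sm gh N11214 = N16318 := rfl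
theorem L139193 : sm ga N16318 = N11238 := ded_17_1 (flp_h L96163) (flp_a L95961) L139191
theorem L139200 : sm gh N11215 = N16319 := rfl
theorem L139202 : sm ga N16319 = N11239 := ded_17_1 (flp_h L96170) (flp_a L95968) L139200
theorem L139206 : sm ge N16319 = N11219 := ded_43_1 (flp_h L96002) (flp_e L95972) L139200
theorem L139211 : sm gd N11216 = N16320 := rfl
theorem L139213 : sm ga N16320 = N11240 := ded_12_1 (flp_d L96179) (flp_a L95977) L139211
theorem L139228 : sm ge N11217 = N16322 := rfl
theorem L139230 : sm ga N16322 = N11242 := ded_13_1 (flp_e L96192) (flp_a L95987) L139228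
theorem L139234 : sm gd N16322 = N11222 := ded_34_1 (flp_e L96027) (flp_d L66326) (flp_e L66307) L95985 L139228
theorem L139245 : sm gd N11219 = N16324 := rfl
theorem L139247 : sm ga N16324 = N11244 := ded_12_1 (flp_d L96205) (flp_a L96004) L139245
theorem L139250 : sm gj N16324 = N11220 := ded_37_2 (flp_d L96011) (flp_j L96009) L139245
theorem L139252 : sm gc N16324 = N11458 := ded_27_1 (flp_d L98051) L67859 (flp_d L66412) (flp_c L96006) L139245
theorem L139263 : sm ge N11220 = N16326 := rfl
theorem L139265 : sm ga N16326 = N11246 := ded_13_1 (flp_e L96219) (flp_a L96013) L139263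
theorem L139267 : sm gc N16326 = N11460 := ded_28_1 (flp_e L98069) (flp_c L96017) L139263
theorem L139271 : sm gi N11220 = N16327 := rfl
theorem L139273 : sm ga N16327 = N11247 := ded_18_1 (flp_i L96225) (flp_a L96013) L139271
theorem L139281 : sm gf N11222 = N16328 := rfl
theorem L139283 : sm ga N16328 = N11248 := ded_14_1 (flp_f L96233) (flp_a L96029) L139281
theorem L139288 : sm ge N16328 = N11224 := ded_40_1 (flp_f L96045) (flp_e L66344) (flp_f L66330) L96027 L139281
theorem L139290 : sm gi N11222 = N16329 := rfl
theorem L139292 : sm ga N16329 = N11249 := ded_18_1 (flp_i L96240) (flp_a L96029) L139290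
theorem L139308 : sm gg N11224 = N16331 := rfl
theorem L139310 : sm ga N16331 = N11251 := ded_15_1 (flp_g L96254) (flp_a L96047) L139308
theorem L139312 : sm gc N16331 = N11465 := ded_30_1 (flp_g L98108) (flp_c L96049) L139308
theorem L139315 : sm gi N11224 = N16332 := rfl
theorem L139319 : sm gc N16332 = N11466 := ded_33_1 (flp_i L98114) (flp_c L96049) L139315
theorem L139377 : sm ge N11232 = N16338 := rfl
theorem L139379 : sm gc N16338 = N11322 := ded_28_1 (flp_e L96869) (flp_c L96126) L139377
theorem L139381 : sm gg N16338 = N16338 := ded_41_2 (flp_e L139377) L96130 L139377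
theorem L139382 : sm gj N11232 = N16339 := rfl
theorem L139384 : sm gc N16339 = N11323 := ded_31_1 (flp_j L96874) (flp_c L96126) L139382
theorem L139388 : sm gf N16339 = N11233 := ded_46_1 (flp_j L96131) L96124 L139382
theorem L139390 : sm gh N11232 = N16340 := rfl
theorem L139392 : sm gc N16340 = N11324 := ded_32_1 (flp_h L96881) (flp_c L96126) L139390
theorem L139394 : sm gf N16340 = N11234 := ded_47_1 (flp_h L96138) L96124 L139390
theorem L139396 : sm gg N16340 = N16340 := ded_50_1 (flp_h L139390) L96130 L139390
theorem L139397 : sm gh N11233 = N16341 := rfl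
theorem L139399 : sm gc N16341 = N11325 := ded_32_1 (flp_h L96888) (flp_c L96133) L139397
theorem L139401 : sm gg N16341 = N16341 := ded_50_1 (flp_h L139397) L96137 L139397
theorem L139402 : sm gj N16341 = N11234 := ded_52_1 (flp_h L96138) L96131 L139397
theorem L139404 : sm gd N11234 = N16342 := rfl
theorem L139406 : sm gg N16342 = N11235 := ded_36_2 (flp_d L96144) (flp_g L96142) L139404
theorem L139408 : sm gc N16342 = N16342 := ded_27_1 (flp_d L139404) L96140 L67021 (flp_c L96140) L139404
theorem L139409 : sm gh N16342 = N11240 := ded_38_2 (flp_d L96179) (flp_h L66448) (flp_d L66428) L96138 L139404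
theorem L139411 : sm gi N11234 = N16343 := rfl
theorem L139413 : sm gc N16343 = N11326 := ded_33_1 (flp_i L96895) (flp_c L96140) L139411
theorem L139415 : sm gg N16343 = N11236 := ded_51_1 (flp_i L96151) (flp_g L96142) L139411
theorem L139417 : sm ge N11235 = N16344 := rfl
theorem L139419 : sm gc N16344 = N16344 := ded_28_1 (flp_e L139417) L96148 L139417
theorem L139420 : sm gj N16344 = N16344 := ded_42_2 (flp_e L139417) L96147 L139417
theorem L139421 : sm gh N16344 = N11242 := ded_43_2 (flp_e L96192) (flp_h L96149) L139417
theorem L139423 : sm gi N11235 = N16345 := rfl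
theorem L139425 : sm gc N16345 = N16345 := ded_33_1 (flp_i L139423) L96148 L139423
theorem L139426 : sm gd N16345 = N11236 := ded_39_1 (flp_i L96151) L96144 L139423
theorem L139428 : sm gf N16345 = N16345 := ded_48_1 (flp_i L139423) L96146 L139423
theorem L139429 : sm gj N16345 = N16345 := ded_53_1 (flp_i L139423) L96147 L139423
theorem L139444 : sm gd N11238 = N16348 := rfl
theorem L139446 : sm gf N16348 = N11240 := ded_35_2 (flp_d L96179) (flp_f L96167) L139444
theorem L139450 : sm gi N11238 = N16349 := rfl
theorem L139457 : sm gd N11239 = N16350 := rfl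
theorem L139460 : sm gj N16350 = N11240 := ded_37_2 (flp_d L96179) (flp_j L96177) L139457
theorem L139463 : sm gi N11239 = N16351 := rfl
theorem L139465 : sm gc N16351 = N11257 := ded_33_1 (flp_i L96299) (flp_c L96172) L139463
theorem L139467 : sm ge N16351 = N11245 := ded_44_1 (flp_i L96212) (flp_e L96174) L139463
theorem L139470 : sm gj N16351 = N11241 := ded_53_1 (flp_i L96184) (flp_j L96177) L139463
theorem L139472 : sm ge N11240 = N16352 := rfl
theorem L139474 : sm gc N16352 = N16352 := ded_28_1 (flp_e L139472) L96183 L139472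
theorem L139475 : sm gg N16352 = N11242 := ded_41_2 (flp_e L96192) (flp_g L96181) L139472
theorem L139477 : sm gd N16352 = N11246 := ded_34_1 (flp_e L96219) (flp_d L66476) (flp_e L66452) L96179 L139472
theorem L139479 : sm gi N11240 = N16353 := rfl
theorem L139482 : sm gd N16353 = N11241 := ded_39_1 (flp_i L96184) L96179 L139479
theorem L139484 : sm gg N16353 = N11243 := ded_51_1 (flp_i L96198) (flp_g L96181) L139479
theorem L139486 : sm gf N11242 = N16354 := rfl
theorem L139488 : sm gc N16354 = N16354 := ded_29_1 (flp_f L139486) L96194 L139486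
theorem L139489 : sm gd N16354 = N11248 := ded_35_1 (flp_f L96233) (flp_d L96196) L139486
theorem L139491 : sm gj N16354 = N16354 := ded_46_2 (flp_f L139486) L96195 L139486
theorem L139492 : sm ge N16354 = N16354 := ded_40_1 (flp_f L139486) (flp_e L96192) L66458 L96192 L139486
theorem L139493 : sm gi N11242 = N16355 := rfl
theorem L139498 : sm ge N16355 = N11243 := ded_44_1 (flp_i L96198) L96192 L139493
theorem L139501 : sm gh N11243 = N16356 := rfl
theorem L139506 : sm ge N11244 = N16357 := rfl
theorem L139508 : sm gc N16357 = N11468 := ded_28_1 (flp_e L98130) (flp_c L96210) L139506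
theorem L139510 : sm gg N16357 = N16357 := ded_41_2 (flp_e L139506) L96207 L139506
theorem L139511 : sm gj N16357 = N11246 := ded_42_2 (flp_e L96219) (flp_j L96208) L139506
theorem L139513 : sm gi N11244 = N16358 := rfl
theorem L139517 : sm gd N16358 = N11245 := ded_39_1 (flp_i L96212) L96205 L139513
theorem L139522 : sm gf N11246 = N16359 := rfl
theorem L139524 : sm gc N16359 = N11470 := ded_29_1 (flp_f L98145) (flp_c L96221) L139522
theorem L139540 : sm gg N11248 = N16362 := rfl
theorem L139542 : sm gc N16362 = N11473 := ded_30_1 (flp_g L98163) (flp_c L96235) L139540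
theorem L139544 : sm ge N16362 = N11251 := ded_41_1 (flp_g L96254) (flp_e L96238) L139540
theorem L139546 : sm gi N11248 = N16363 := rfl
theorem L139550 : sm ge N16363 = N11252 := ded_44_1 (flp_i L96259) (flp_e L96238) L139546
theorem L139552 : sm gf N16363 = N11249 := ded_48_1 (flp_i L96240) L96233 L139546
theorem L139555 : sm gh N11249 = N16364 := rfl
theorem L139557 : sm gc N16364 = N11475 := ded_32_1 (flp_h L98178) (flp_c L96242) L139555
theorem L139562 : sm gj N11251 = N16365 := rfl
theorem L139564 : sm gc N16365 = N11476 := ded_31_1 (flp_j L98184) (flp_c L96256) L139562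
theorem L139566 : sm gd N16365 = N16365 := ded_37_1 (flp_j L139562) L96258 L139562
theorem L139567 : sm gg N16365 = N16365 := ded_49_1 (flp_j L139562) (flp_g L96254) L66507 L96254 L139562
theorem L139575 : sm gh N11252 = N16367 := rfl
theorem L139577 : sm gc N16367 = N11478 := ded_32_1 (flp_h L98197) (flp_c L96261) L139575
theorem L139579 : sm gf N16367 = N11253 := ded_47_1 (flp_h L96267) (flp_f L96264) L139575
theorem L139582 : sm gd N11253 = N16368 := rfl
theorem L139586 : sm gh N11254 = N16369 := rfl
theorem L139591 : sm gg N16369 = N11255 := ded_50_1 (flp_h L96282) L96274 L139586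
theorem L139595 : sm gi N11255 = N16370 := rfl
theorem L139613 : sm gc N11260 = N16372 := rfl
theorem L139618 : sm gi N16372 = N11311 := ded_33_2 (flp_c L96778) (flp_i L96334) L139613
theorem L139620 : sm gd N16372 = N12736 := ded_27_2 (flp_c L108497) (flp_d L74974) (flp_c L66605) L96327 L139613
theorem L139622 : sm gg N11260 = N16373 := rfl
theorem L139625 : sm gb N16373 = N11268 := ded_23_1 (flp_g L96408) (flp_b L96330) L139622
theorem L139627 : sm gd N16373 = N11261 := ded_36_1 (flp_g L96336) L96327 L139622
theorem L139629 : sm gi N16373 = N11312 := ded_51_2 (flp_g L96785) (flp_i L96334) L139622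
theorem L139631 : sm gh N11260 = N16374 := rfl
theorem L139638 : sm gf N11261 = N16375 := rfl
theorem L139641 : sm gb N16375 = N11270 := ded_22_1 (flp_f L96422) (flp_b L96339) L139638
theorem L139643 : sm gc N16375 = N12739 := ded_29_1 (flp_f L108523) (flp_c L96341) L139638
theorem L139645 : sm gi N16375 = N11314 := ded_48_2 (flp_f L96800) (flp_i L96345) L139638
theorem L139649 : sm gj N11261 = N16376 := rfl
theorem L139652 : sm gb N16376 = N11271 := ded_24_1 (flp_j L96432) (flp_b L96339) L139649
theorem L139661 : sm gh N11261 = N16377 := rfl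
theorem L139670 : sm gg N16377 = N11262 := ded_50_1 (flp_h L96347) L96336 L139661
theorem L139673 : sm gd N11262 = N16378 := rfl
theorem L139676 : sm gb N16378 = N11273 := ded_20_1 (flp_d L96454) (flp_b L96350) L139673
theorem L139681 : sm gh N11263 = N16379 := rfl
theorem L139684 : sm gb N16379 = N11274 := ded_25_1 (flp_h L96461) (flp_b L96362) L139681
theorem L139690 : sm gj N16379 = N11264 := ded_52_1 (flp_h L96370) L96359 L139681
theorem L139693 : sm gd N11264 = N16380 := rfl
theorem L139696 : sm gb N16380 = N11275 := ded_20_1 (flp_d L96472) (flp_b L96373) L139693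
theorem L139736 : sm gf N11268 = N16385 := rfl
theorem L139738 : sm ga N16385 = N11283 := ded_14_1 (flp_f L96548) (flp_a L96410) L139736
theorem L139740 : sm gd N16385 = N11270 := ded_35_1 (flp_f L96422) (flp_d L96412) L139736
theorem L139742 : sm gi N16385 = N11316 := ded_48_2 (flp_f L96821) (flp_i L96414) L139736
theorem L139744 : sm gg N16385 = N16385 := ded_45_2 (flp_f L139736) (flp_g L96408) L66644 L96408 L139736
theorem L139745 : sm gj N11268 = N16386 := rfl
theorem L139747 : sm ga N16386 = N11284 := ded_16_1 (flp_j L96556) (flp_a L96410) L139745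
theorem L139749 : sm gd N16386 = N11271 := ded_37_1 (flp_j L96432) (flp_d L96412) L139745
theorem L139751 : sm gi N16386 = N11317 := ded_53_2 (flp_j L96828) (flp_i L96414) L139745
theorem L139753 : sm gg N16386 = N16386 := ded_49_1 (flp_j L139745) (flp_g L96408) L66645 L96408 L139745
theorem L139754 : sm gh N11268 = N16387 := rfl
theorem L139756 : sm ga N16387 = N11285 := ded_17_1 (flp_h L96564) (flp_a L96410) L139754
theorem L139758 : sm gg N16387 = N11269 := ded_50_1 (flp_h L96416) L96408 L139754
theorem L139760 : sm gd N11269 = N16388 := rfl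
theorem L139762 : sm ga N16388 = N11286 := ded_12_1 (flp_d L96569) (flp_a L96418) L139760
theorem L139768 : sm gi N11269 = N16389 := rfl
theorem L139770 : sm ga N16389 = N11287 := ded_18_1 (flp_i L96576) (flp_a L96418) L139768
theorem L139772 : sm gf N16389 = N16389 := ded_48_1 (flp_i L139768) L96420 L139768
theorem L139773 : sm gj N16389 = N16389 := ded_53_1 (flp_i L139768) L96421 L139768
theorem L139774 : sm gh N16389 = N11319 := ded_54_1 (flp_i L96842) (flp_h L66968) (flp_i L66646) L96416 L139768
theorem L139776 : sm gj N11270 = N16390 := rfl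
theorem L139778 : sm ga N16390 = N11288 := ded_16_1 (flp_j L96583) (flp_a L96424) L139776
theorem L139783 : sm gf N16390 = N11271 := ded_46_1 (flp_j L96432) L96422 L139776
theorem L139787 : sm gh N11270 = N16391 := rfl
theorem L139789 : sm ga N16391 = N11289 := ded_17_1 (flp_h L96593) (flp_a L96424) L139787
theorem L139791 : sm gc N16391 = N11279 := ded_32_1 (flp_h L96507) (flp_c L96426) L139787
theorem L139794 : sm gf N16391 = N11272 := ded_47_1 (flp_h L96443) L96422 L139787
theorem L139798 : sm gh N11271 = N16392 := rfl
theorem L139800 : sm ga N16392 = N11290 := ded_17_1 (flp_h L96603) (flp_a L96434) L139798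
theorem L139802 : sm gc N16392 = N11280 := ded_32_1 (flp_h L96518) (flp_c L96436) L139798
theorem L139804 : sm ge N16392 = N11274 := ded_43_1 (flp_h L96461) (flp_e L96438) L139798
theorem L139807 : sm gj N16392 = N11272 := ded_52_1 (flp_h L96443) L96432 L139798
theorem L139810 : sm gd N11272 = N16393 := rfl
theorem L139812 : sm ga N16393 = N11291 := ded_12_1 (flp_d L96614) (flp_a L96445) L139810
theorem L139817 : sm gc N11273 = N16394 := rfl
theorem L139824 : sm gd N16394 = N11282 := ded_27_2 (flp_c L96540) (flp_d L66739) (flp_c L66662) L96454 L139817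
theorem L139834 : sm gd N11274 = N16396 := rfl
theorem L139844 : sm ge N11275 = N16397 := rfl
theorem L139861 : sm gg N11277 = N16399 := rfl
theorem L139880 : sm gh N11278 = N16401 := rfl
theorem L139887 : sm gf N16401 = N11280 := ded_47_1 (flp_h L96518) (flp_f L96503) L139880
theorem L139892 : sm gd N11279 = N16402 := rfl
theorem L139894 : sm ga N16402 = N11300 := ded_12_1 (flp_d L96684) (flp_a L96509) L139892
theorem L139896 : sm gb N16402 = N12766 := ded_20_1 (flp_d L108775) (flp_b L96511) L139892
theorem L139898 : sm gf N16402 = N11281 := ded_35_2 (flp_d L96530) (flp_f L96514) L139892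
theorem L139902 : sm gd N11280 = N16403 := rfl
theorem L139904 : sm ga N16403 = N11301 := ded_12_1 (flp_d L96692) (flp_a L96520) L139902
theorem L139913 : sm gc N11281 = N16404 := rfl
theorem L139915 : sm ga N16404 = N11302 := ded_11_1 (flp_c L96701) (flp_a L96532) L139913
theorem L139917 : sm ge N16404 = N16404 := ded_28_2 (flp_c L139913) L96539 L139913
theorem L139918 : sm gg N16404 = N11282 := ded_30_2 (flp_c L96540) (flp_g L96536) L139913
theorem L139920 : sm gi N16404 = N16404 := ded_33_2 (flp_c L139913) L96538 L139913
theorem L139921 : sm gb N11282 = N16405 := rfl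
theorem L139929 : sm ge N11283 = N16406 := rfl
theorem L139931 : sm gb N16406 = N16406 := ded_21_1 (flp_e L139929) L96550 L139929
theorem L139932 : sm gg N16406 = N16406 := ded_41_2 (flp_e L139929) L96555 L139929
theorem L139933 : sm gi N16406 = N11322 := ded_44_2 (flp_e L96869) (flp_i L96553) L139929
theorem L139935 : sm gd N16406 = N16406 := ded_34_1 (flp_e L139929) L96551 L66780 (flp_d L96551) L139929
theorem L139936 : sm gj N11283 = N16407 := rfl
theorem L139938 : sm gb N16407 = N16407 := ded_24_1 (flp_j L139936) L96550 L139936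
theorem L139939 : sm gd N16407 = N11288 := ded_37_1 (flp_j L96583) (flp_d L96551) L139936
theorem L139941 : sm gf N16407 = N11284 := ded_46_1 (flp_j L96556) L96548 L139936
theorem L139943 : sm gi N16407 = N11323 := ded_53_2 (flp_j L96874) (flp_i L96553) L139936
theorem L139945 : sm gh N11283 = N16408 := rfl
theorem L139947 : sm gb N16408 = N16408 := ded_25_1 (flp_h L139945) L96550 L139945
theorem L139948 : sm gf N16408 = N11285 := ded_47_1 (flp_h L96564) L96548 L139945
theorem L139950 : sm gg N16408 = N16408 := ded_50_1 (flp_h L139945) L96555 L139945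
theorem L139951 : sm gh N11284 = N16409 := rfl
theorem L139953 : sm gb N16409 = N16409 := ded_25_1 (flp_h L139951) L96558 L139951
theorem L139954 : sm gg N16409 = N16409 := ded_50_1 (flp_h L139951) L96563 L139951
theorem L139955 : sm gj N16409 = N11285 := ded_52_1 (flp_h L96564) L96556 L139951
theorem L139957 : sm gd N11285 = N16410 := rfl
theorem L139959 : sm gb N16410 = N16410 := ded_20_1 (flp_d L139957) L96566 L139957
theorem L139960 : sm gg N16410 = N11286 := ded_36_2 (flp_d L96569) (flp_g L96567) L139957
theorem L139962 : sm gh N16410 = N11291 := ded_38_2 (flp_d L96614) (flp_h L66792) (flp_d L66764) L96564 L139957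
theorem L139964 : sm gi N11285 = N16411 := rfl
theorem L139966 : sm gb N16411 = N16411 := ded_26_1 (flp_i L139964) L96566 L139964
theorem L139967 : sm gg N16411 = N11287 := ded_51_1 (flp_i L96576) (flp_g L96567) L139964
theorem L139969 : sm gh N16411 = N11326 := ded_54_1 (flp_i L96895) (flp_h L67016) (flp_i L66766) L96564 L139964
theorem L139971 : sm gc N11286 = N16412 := rfl
theorem L139973 : sm gf N16412 = N16412 := ded_29_2 (flp_c L139971) L96572 L139971
theorem L139974 : sm gj N16412 = N16412 := ded_31_2 (flp_c L139971) L96573 L139971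
theorem L139975 : sm gh N16412 = N11292 := ded_32_2 (flp_c L96620) (flp_h L96574) L139971
theorem L139977 : sm ge N11286 = N16413 := rfl
theorem L139981 : sm gh N16413 = N11293 := ded_43_2 (flp_e L96627) (flp_h L96574) L139977
theorem L139983 : sm gi N11286 = N16414 := rfl
theorem L139985 : sm gb N16414 = N16414 := ded_26_1 (flp_i L139983) L96571 L139983
theorem L139986 : sm gd N16414 = N11287 := ded_39_1 (flp_i L96576) L96569 L139983
theorem L139988 : sm gf N16414 = N16414 := ded_48_1 (flp_i L139983) L96572 L139983
theorem L139989 : sm gj N16414 = N16414 := ded_53_1 (flp_i L139983) L96573 L139983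
theorem L139990 : sm gh N16414 = N16414 := ded_54_1 (flp_i L139983) L96574 L66807 (flp_h L96574) L139983
theorem L139991 : sm gg N11288 = N16415 := rfl
theorem L140001 : sm gh N11288 = N16416 := rfl
theorem L140007 : sm gf N16416 = N11290 := ded_47_1 (flp_h L96603) (flp_f L96589) L140001
theorem L140009 : sm gj N16416 = N11289 := ded_52_1 (flp_h L96593) L96583 L140001
theorem L140012 : sm gd N11289 = N16417 := rfl
theorem L140014 : sm gb N16417 = N16417 := ded_20_1 (flp_d L140012) L96595 L140012
theorem L140015 : sm gf N16417 = N11291 := ded_35_2 (flp_d L96614) (flp_f L96599) L140012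
theorem L140017 : sm gg N16417 = N16417 := ded_36_2 (flp_d L140012) L96601 L140012
theorem L140018 : sm gi N16417 = N16417 := ded_39_2 (flp_d L140012) L96602 L140012
theorem L140019 : sm gd N11290 = N16418 := rfl
theorem L140021 : sm gb N16418 = N16418 := ded_20_1 (flp_d L140019) L96605 L140019
theorem L140022 : sm gg N16418 = N16418 := ded_36_2 (flp_d L140019) L96610 L140019
theorem L140023 : sm gj N16418 = N11291 := ded_37_2 (flp_d L96614) (flp_j L96611) L140019
theorem L140025 : sm gi N16418 = N16418 := ded_39_2 (flp_d L140019) L96613 L140019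
theorem L140026 : sm gc N11291 = N16419 := rfl
theorem L140028 : sm gg N16419 = N11292 := ded_30_2 (flp_c L96620) (flp_g L96617) L140026
theorem L140030 : sm gi N16419 = N16419 := ded_33_2 (flp_c L140026) L96619 L140026
theorem L140031 : sm gd N16419 = N11302 := ded_27_2 (flp_c L96701) (flp_d L66867) (flp_c L66795) L96614 L140026
theorem L140033 : sm ge N11291 = N16420 := rfl
theorem L140039 : sm gd N16420 = N11295 := ded_34_1 (flp_e L96643) (flp_d L66818) (flp_e L66797) L96614 L140033
theorem L140041 : sm gb N11292 = N16421 := rfl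
theorem L140043 : sm gd N16421 = N11303 := ded_20_2 (flp_b L96707) (flp_d L96625) L140041
theorem L140045 : sm gf N16421 = N16421 := ded_22_2 (flp_b L140041) L96622 L140041
theorem L140046 : sm gj N16421 = N16421 := ded_24_2 (flp_b L140041) L96623 L140041
theorem L140047 : sm gi N16421 = N16421 := ded_26_2 (flp_b L140041) L96624 L140041
theorem L140048 : sm gc N16421 = N16421 := ded_19_2 (flp_b L140041) (flp_c L96620) L66804 L96620 L140041
theorem L140049 : sm ge N11292 = N16422 := rfl
theorem L140051 : sm gc N16422 = N11293 := ded_28_1 (flp_e L96627) L96620 L140049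
theorem L140056 : sm gf N11293 = N16423 := rfl
theorem L140064 : sm ge N11294 = N16424 := rfl
theorem L140069 : sm gj N16424 = N11295 := ded_42_2 (flp_e L96643) (flp_j L96639) L140064
theorem L140078 : sm gg N11296 = N16426 := rfl
theorem L140082 : sm ge N16426 = N11297 := ded_41_1 (flp_g L96658) (flp_e L96656) L140078
theorem L140085 : sm gj N11297 = N16427 := rfl
theorem L140093 : sm gh N11298 = N16428 := rfl
theorem L140099 : sm gg N16428 = N11299 := ded_50_1 (flp_h L96674) L96665 L140093
theorem L140103 : sm gd N11299 = N16429 := rfl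
theorem L140105 : sm gb N16429 = N11305 := ded_20_1 (flp_d L96726) (flp_b L96676) L140103
theorem L140107 : sm gf N16429 = N11301 := ded_35_2 (flp_d L96692) (flp_f L96679) L140103
theorem L140109 : sm gj N16429 = N11300 := ded_37_2 (flp_d L96684) (flp_j L96681) L140103
theorem L140112 : sm gc N11300 = N16430 := rfl
theorem L140114 : sm gf N16430 = N11302 := ded_29_2 (flp_c L96701) (flp_f L96688) L140112
theorem L140118 : sm ge N11300 = N16431 := rfl
theorem L140126 : sm gc N11301 = N16432 := rfl
theorem L140130 : sm gj N16432 = N11302 := ded_31_2 (flp_c L96701) (flp_j L96697) L140126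
theorem L140133 : sm gb N11302 = N16433 := rfl
theorem L140136 : sm gg N16433 = N11303 := ded_23_2 (flp_b L96707) (flp_g L96704) L140133
theorem L140139 : sm gc N16433 = N11309 := ded_19_2 (flp_b L96762) (flp_c L66919) (flp_b L66869) L96701 L140133
theorem L140141 : sm ga N11303 = N16434 := rfl
theorem L140149 : sm gd N11304 = N16435 := rfl
theorem L140154 : sm gg N16435 = N11305 := ded_36_2 (flp_d L96726) (flp_g L96722) L140149
theorem L140158 : sm gc N11305 = N16436 := rfl
theorem L140160 : sm ga N16436 = N12800 := ded_11_1 (flp_c L109041) (flp_a L96728) L140158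
theorem L140162 : sm gf N16436 = N11308 := ded_29_2 (flp_c L96752) (flp_f L96730) L140158
theorem L140164 : sm gj N16436 = N11306 := ded_31_2 (flp_c L96735) (flp_j L96732) L140158
theorem L140168 : sm ge N11305 = N16437 := rfl
theorem L140172 : sm gj N16437 = N11307 := ded_42_2 (flp_e L96744) (flp_j L96732) L140168
theorem L140177 : sm gb N11306 = N16438 := rfl
theorem L140180 : sm gf N16438 = N11309 := ded_22_2 (flp_b L96762) (flp_f L96739) L140177
theorem L140184 : sm ge N11306 = N16439 := rfl
theorem L140188 : sm gc N16439 = N11307 := ded_28_1 (flp_e L96744) L96735 L140184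
theorem L140193 : sm gb N11308 = N16440 := rfl
theorem L140198 : sm gj N16440 = N11309 := ded_24_2 (flp_b L96762) (flp_j L96758) L140193
theorem L140201 : sm ga N11309 = N16441 := rfl
theorem L140208 : sm gb N16441 = N12805 := ded_10_2 (flp_a L109078) (flp_b L75398) (flp_a L66921) L96762 L140201
theorem L140210 : sm gg N11311 = N16442 := rfl
theorem L140212 : sm ga N16442 = N16442 := ded_15_1 (flp_g L140210) L96780 L140210
theorem L140213 : sm gc N16442 = N11312 := ded_30_1 (flp_g L96785) L96778 L140210
theorem L140215 : sm gd N16442 = N12806 := ded_36_1 (flp_g L109085) (flp_d L96783) L140210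
theorem L140217 : sm gh N11311 = N16443 := rfl
theorem L140219 : sm ga N16443 = N16443 := ded_17_1 (flp_h L140217) L96780 L140217
theorem L140220 : sm gc N16443 = N11313 := ded_32_1 (flp_h L96792) L96778 L140217
theorem L140222 : sm gf N16443 = N16443 := ded_47_1 (flp_h L140217) L96781 L140217
theorem L140223 : sm gj N16443 = N16443 := ded_52_1 (flp_h L140217) L96782 L140217
theorem L140224 : sm gf N11312 = N16444 := rfl
theorem L140226 : sm ga N16444 = N16444 := ded_14_1 (flp_f L140224) L96787 L140224
theorem L140227 : sm gb N16444 = N11316 := ded_22_1 (flp_f L96821) (flp_b L96788) L140224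
theorem L140229 : sm gd N16444 = N11314 := ded_35_1 (flp_f L96800) (flp_d L96790) L140224
theorem L140231 : sm gg N16444 = N16444 := ded_45_2 (flp_f L140224) (flp_g L96785) L66940 L96785 L140224
theorem L140232 : sm gj N11312 = N16445 := rfl
theorem L140234 : sm ga N16445 = N16445 := ded_16_1 (flp_j L140232) L96787 L140232
theorem L140235 : sm gb N16445 = N11317 := ded_24_1 (flp_j L96828) (flp_b L96788) L140232
theorem L140237 : sm gd N16445 = N11315 := ded_37_1 (flp_j L96810) (flp_d L96790) L140232
theorem L140239 : sm gg N16445 = N16445 := ded_49_1 (flp_j L140232) (flp_g L96785) L66941 L96785 L140232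
theorem L140240 : sm gh N11312 = N16446 := rfl
theorem L140242 : sm ga N16446 = N16446 := ded_17_1 (flp_h L140240) L96787 L140240
theorem L140243 : sm gb N16446 = N11318 := ded_25_1 (flp_h L96835) (flp_b L96788) L140240
theorem L140245 : sm gg N16446 = N11313 := ded_50_1 (flp_h L96792) L96785 L140240
theorem L140247 : sm gd N16446 = N16446 := ded_38_1 (flp_h L140240) L96790 L66951 (flp_d L96790) L140240
theorem L140248 : sm gi N11313 = N16447 := rfl
theorem L140250 : sm ga N16447 = N16447 := ded_18_1 (flp_i L140248) L96794 L140248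
theorem L140251 : sm gb N16447 = N11319 := ded_26_1 (flp_i L96842) (flp_b L96795) L140248
theorem L140253 : sm gd N16447 = N16447 := ded_39_1 (flp_i L140248) L96799 L140248
theorem L140254 : sm gf N16447 = N16447 := ded_48_1 (flp_i L140248) L96797 L140248
theorem L140255 : sm gj N16447 = N16447 := ded_53_1 (flp_i L140248) L96798 L140248
theorem L140256 : sm gj N11314 = N16448 := rfl
theorem L140258 : sm ga N16448 = N16448 := ded_16_1 (flp_j L140256) L96802 L140256
theorem L140259 : sm gb N16448 = N11320 := ded_24_1 (flp_j L96849) (flp_b L96803) L140256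
theorem L140261 : sm gc N16448 = N12812 := ded_31_1 (flp_j L109134) (flp_c L96805) L140256
theorem L140263 : sm ge N16448 = N16448 := ded_42_1 (flp_j L140256) L96808 L140256
theorem L140264 : sm gf N16448 = N11315 := ded_46_1 (flp_j L96810) L96800 L140256
theorem L140266 : sm gh N16448 = N16448 := ded_52_2 (flp_j L140256) L96807 L140256
theorem L140267 : sm ge N11316 = N16449 := rfl
theorem L140269 : sm ga N16449 = N11322 := ded_13_1 (flp_e L96869) (flp_a L96823) L140267
theorem L140271 : sm gg N16449 = N16449 := ded_41_2 (flp_e L140267) L96827 L140267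
theorem L140272 : sm gd N16449 = N16449 := ded_34_1 (flp_e L140267) L96825 L66982 (flp_d L96825) L140267
theorem L140273 : sm gj N11316 = N16450 := rfl
theorem L140275 : sm ga N16450 = N11323 := ded_16_1 (flp_j L96874) (flp_a L96823) L140273
theorem L140277 : sm gd N16450 = N11320 := ded_37_1 (flp_j L96849) (flp_d L96825) L140273
theorem L140279 : sm gf N16450 = N11317 := ded_46_1 (flp_j L96828) L96821 L140273
theorem L140281 : sm gh N11316 = N16451 := rfl
theorem L140283 : sm ga N16451 = N11324 := ded_17_1 (flp_h L96881) (flp_a L96823) L140281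
theorem L140285 : sm gf N16451 = N11318 := ded_47_1 (flp_h L96835) L96821 L140281
theorem L140287 : sm gg N16451 = N16451 := ded_50_1 (flp_h L140281) L96827 L140281
theorem L140288 : sm gd N16451 = N16451 := ded_38_1 (flp_h L140281) L96825 L66981 (flp_d L96825) L140281
theorem L140289 : sm gh N11317 = N16452 := rfl
theorem L140291 : sm ga N16452 = N11325 := ded_17_1 (flp_h L96888) (flp_a L96830) L140289
theorem L140293 : sm gg N16452 = N16452 := ded_50_1 (flp_h L140289) L96834 L140289
theorem L140294 : sm gj N16452 = N11318 := ded_52_1 (flp_h L96835) L96828 L140289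
theorem L140296 : sm gd N16452 = N16452 := ded_38_1 (flp_h L140289) L96832 L66992 (flp_d L96832) L140289
theorem L140297 : sm gi N11318 = N16453 := rfl
theorem L140299 : sm ga N16453 = N11326 := ded_18_1 (flp_i L96895) (flp_a L96837) L140297
theorem L140301 : sm gd N16453 = N16453 := ded_39_1 (flp_i L140297) L96841 L140297
theorem L140302 : sm gg N16453 = N11319 := ded_51_1 (flp_i L96842) (flp_g L96839) L140297
theorem L140304 : sm gg N11320 = N16454 := rfl
theorem L140314 : sm gj N11322 = N16455 := rfl
theorem L140316 : sm gb N16455 = N16455 := ded_24_1 (flp_j L140314) L96871 L140314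
theorem L140317 : sm gd N16455 = N16455 := ded_37_1 (flp_j L140314) L96873 L140314
theorem L140318 : sm ge N16455 = N11323 := ded_42_1 (flp_j L96874) L96869 L140314
theorem L140320 : sm gh N11322 = N16456 := rfl
theorem L140322 : sm gb N16456 = N16456 := ded_25_1 (flp_h L140320) L96871 L140320
theorem L140323 : sm ge N16456 = N11324 := ded_43_1 (flp_h L96881) L96869 L140320
theorem L140325 : sm gg N16456 = N16456 := ded_50_1 (flp_h L140320) L96872 L140320
theorem L140326 : sm gg N11323 = N16457 := rfl
theorem L140333 : sm gh N11323 = N16458 := rfl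
theorem L140335 : sm gb N16458 = N16458 := ded_25_1 (flp_h L140333) L96876 L140333
theorem L140336 : sm gf N16458 = N11325 := ded_47_1 (flp_h L96888) (flp_f L96879) L140333
theorem L140338 : sm gj N16458 = N11324 := ded_52_1 (flp_h L96881) L96874 L140333
theorem L140340 : sm gd N16458 = N16458 := ded_38_1 (flp_h L140333) L96877 L67036 (flp_d L96877) L140333
theorem L140341 : sm gi N11324 = N16459 := rfl
theorem L140343 : sm gb N16459 = N16459 := ded_26_1 (flp_i L140341) L96883 L140341
theorem L140344 : sm gd N16459 = N16459 := ded_39_1 (flp_i L140341) L96887 L140341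
theorem L140345 : sm gf N16459 = N11326 := ded_48_1 (flp_i L96895) (flp_f L96884) L140341
theorem L140347 : sm gg N16459 = N16459 := ded_51_1 (flp_i L140341) L96886 L140341
theorem L140348 : sm gi N11325 = N16460 := rfl
theorem L140350 : sm gb N16460 = N16460 := ded_26_1 (flp_i L140348) L96890 L140348
theorem L140351 : sm gd N16460 = N16460 := ded_39_1 (flp_i L140348) L96894 L140348
theorem L140352 : sm gg N16460 = N16460 := ded_51_1 (flp_i L140348) L96891 L140348
theorem L140353 : sm gj N16460 = N11326 := ded_53_1 (flp_i L96895) (flp_j L96892) L140348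
theorem L140355 : sm gd N11328 = N16461 := rfl
theorem L140358 : sm gb N16461 = N11333 := ded_20_1 (flp_d L96963) (flp_b L96913) L140355
theorem L140365 : sm gg N11328 = N16462 := rfl
theorem L140368 : sm gb N16462 = N11334 := ded_23_1 (flp_g L96973) (flp_b L96913) L140365
theorem L140372 : sm ge N16462 = N11329 := ded_41_1 (flp_g L96922) L96910 L140365
theorem L140375 : sm gh N11328 = N16463 := rfl
theorem L140386 : sm gj N16463 = N11384 := ded_52_1 (flp_h L97441) (flp_j L96917) L140375
theorem L140388 : sm gj N11329 = N16464 := rfl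
theorem L140399 : sm gh N11329 = N16465 := rfl
theorem L140402 : sm gb N16465 = N11337 := ded_25_1 (flp_h L97004) (flp_b L96925) L140399
theorem L140409 : sm gd N11330 = N16466 := rfl
theorem L140414 : sm gf N16466 = N11331 := ded_35_2 (flp_d L96942) (flp_f L96938) L140409
theorem L140416 : sm gj N16466 = N11387 := ded_37_2 (flp_d L97473) (flp_j L96940) L140409
theorem L140430 : sm gc N11331 = N16468 := rfl
theorem L140438 : sm ge N11331 = N16469 := rfl
theorem L140458 : sm gg N11333 = N16471 := rfl
theorem L140460 : sm ga N16471 = N11349 := ded_15_1 (flp_g L97128) (flp_a L96965) L140458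
theorem L140466 : sm gh N11333 = N16472 := rfl
theorem L140468 : sm ga N16472 = N11350 := ded_17_1 (flp_h L97135) (flp_a L96965) L140466
theorem L140471 : sm gf N16472 = N11490 := ded_47_1 (flp_h L98313) (flp_f L96967) L140466
theorem L140485 : sm gj N11334 = N16474 := rfl
theorem L140494 : sm gg N16474 = N11394 := ded_49_1 (flp_j L97531) (flp_g L67447) (flp_j L67073) L96973 L140485
theorem L140496 : sm gh N11334 = N16475 := rfl
theorem L140498 : sm ga N16475 = N11353 := ded_17_1 (flp_h L97162) (flp_a L96975) L140496
theorem L140500 : sm gc N16475 = N11344 := ded_32_1 (flp_h L97073) (flp_c L96977) L140496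
theorem L140504 : sm gg N16475 = N11335 := ded_50_1 (flp_h L96982) L96973 L140496
theorem L140506 : sm gd N11335 = N16476 := rfl
theorem L140508 : sm ga N16476 = N11354 := ded_12_1 (flp_d L97171) (flp_a L96984) L140506
theorem L140510 : sm gf N16476 = N11493 := ded_35_2 (flp_d L98341) (flp_f L96990) L140506
theorem L140527 : sm gh N11336 = N16478 := rfl
theorem L140529 : sm ga N16478 = N11356 := ded_17_1 (flp_h L97190) (flp_a L96996) L140527
theorem L140538 : sm gd N11337 = N16479 := rfl
theorem L140540 : sm ga N16479 = N11357 := ded_12_1 (flp_d L97200) (flp_a L97006) L140538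
theorem L140543 : sm gg N16479 = N11338 := ded_36_2 (flp_d L97013) (flp_g L97011) L140538
theorem L140555 : sm ge N11338 = N16481 := rfl
theorem L140557 : sm ga N16481 = N11359 := ded_13_1 (flp_e L97215) (flp_a L97015) L140555
theorem L140559 : sm gj N16481 = N11401 := ded_42_2 (flp_e L97598) (flp_j L97019) L140555
theorem L140561 : sm gi N11338 = N16482 := rfl
theorem L140567 : sm gf N16482 = N11341 := ded_48_1 (flp_i L97041) (flp_f L97017) L140561
theorem L140571 : sm gf N11340 = N16483 := rfl
theorem L140573 : sm ga N16483 = N11361 := ded_14_1 (flp_f L97229) (flp_a L97034) L140571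
theorem L140577 : sm gj N16483 = N11403 := ded_46_2 (flp_f L97610) (flp_j L97037) L140571
theorem L140590 : sm gh N11341 = N16485 := rfl
theorem L140595 : sm gj N16485 = N11405 := ded_52_1 (flp_h L97626) (flp_j L97048) L140590
theorem L140598 : sm gj N11342 = N16486 := rfl
theorem L140602 : sm gb N16486 = N12850 := ded_24_1 (flp_j L109479) (flp_b L97054) L140598
theorem L140610 : sm gh N11342 = N16487 := rfl
theorem L140612 : sm ga N16487 = N11365 := ded_17_1 (flp_h L97263) (flp_a L97052) L140610
theorem L140617 : sm gf N16487 = N11344 := ded_47_1 (flp_h L97073) L97050 L140610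
theorem L140619 : sm gg N16487 = N11502 := ded_50_1 (flp_h L98426) (flp_g L97059) L140610
theorem L140621 : sm gh N11343 = N16488 := rfl
theorem L140627 : sm ge N16488 = N11347 := ded_43_1 (flp_h L97107) (flp_e L97068) L140621
theorem L140629 : sm gg N16488 = N11406 := ded_50_1 (flp_h L97633) (flp_g L97071) L140621
theorem L140633 : sm gd N11344 = N16489 := rfl
theorem L140662 : sm gi N11345 = N16492 := rfl
theorem L140672 : sm gj N16492 = N11410 := ded_53_1 (flp_i L97673) (flp_j L97091) L140662
theorem L140686 : sm gf N11349 = N16494 := rfl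
theorem L140690 : sm gd N16494 = N11351 := ded_35_1 (flp_f L97143) (flp_d L97132) L140686
theorem L140693 : sm gg N16494 = N11507 := ded_45_2 (flp_f L98478) (flp_g L68183) (flp_f L67172) L97128 L140686
theorem L140695 : sm gj N11349 = N16495 := rfl
theorem L140702 : sm gg N16495 = N11412 := ded_49_1 (flp_j L97694) (flp_g L67580) (flp_j L67174) L97128 L140695
theorem L140704 : sm gh N11349 = N16496 := rfl
theorem L140708 : sm gg N16496 = N11350 := ded_50_1 (flp_h L97135) L97128 L140704
theorem L140710 : sm gd N11350 = N16497 := rfl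
theorem L140712 : sm gb N16497 = N16497 := ded_20_1 (flp_d L140710) L97137 L140710
theorem L140713 : sm gf N16497 = N11509 := ded_35_2 (flp_d L98494) (flp_f L97139) L140710
theorem L140715 : sm gj N16497 = N11414 := ded_37_2 (flp_d L97709) (flp_j L97141) L140710
theorem L140717 : sm gh N16497 = N11354 := ded_38_2 (flp_d L97171) (flp_h L67186) L67169 L97135 L140710
theorem L140719 : sm gi N11350 = N16498 := rfl
theorem L140721 : sm gb N16498 = N16498 := ded_26_1 (flp_i L140719) L97137 L140719
theorem L140722 : sm gc N16498 = N16498 := ded_33_1 (flp_i L140719) L97138 L140719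
theorem L140723 : sm gf N16498 = N11510 := ded_48_1 (flp_i L98501) (flp_f L97139) L140719
theorem L140725 : sm gj N16498 = N11415 := ded_53_1 (flp_i L97716) (flp_j L97141) L140719
theorem L140727 : sm gh N16498 = N16498 := ded_54_1 (flp_i L140719) (flp_h L97135) L67176 L97135 L140719
theorem L140728 : sm gj N11351 = N16499 := rfl
theorem L140734 : sm gf N16499 = N11352 := ded_46_1 (flp_j L97152) L97143 L140728
theorem L140738 : sm gh N11351 = N16500 := rfl
theorem L140748 : sm gh N11352 = N16501 := rfl
theorem L140753 : sm ge N16501 = N11356 := ded_43_1 (flp_h L97190) (flp_e L97157) L140748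
theorem L140755 : sm gg N16501 = N11416 := ded_50_1 (flp_h L97723) (flp_g L97160) L140748
theorem L140757 : sm gj N16501 = N11353 := ded_52_1 (flp_h L97162) L97152 L140748
theorem L140759 : sm gd N11353 = N16502 := rfl
theorem L140762 : sm gg N16502 = N11354 := ded_36_2 (flp_d L97171) (flp_g L97169) L140759
theorem L140774 : sm gc N11354 = N16504 := rfl
theorem L140776 : sm gf N16504 = N11514 := ded_29_2 (flp_c L98535) (flp_f L97174) L140774
theorem L140778 : sm gj N16504 = N11419 := ded_31_2 (flp_c L97750) (flp_j L97176) L140774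
theorem L140780 : sm gd N16504 = N11369 := ded_27_2 (flp_c L97298) (flp_d L67274) (flp_c L67189) L97171 L140774
theorem L140782 : sm ge N11354 = N16505 := rfl
theorem L140784 : sm gb N16505 = N16505 := ded_21_1 (flp_e L140782) L97173 L140782
theorem L140785 : sm gj N16505 = N11420 := ded_42_2 (flp_e L97756) (flp_j L97176) L140782
theorem L140787 : sm gd N16505 = N11359 := ded_34_1 (flp_e L97215) (flp_d L67214) (flp_e L67191) L97171 L140782
theorem L140789 : sm gi N11354 = N16506 := rfl
theorem L140798 : sm gd N11356 = N16507 := rfl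
theorem L140802 : sm gg N16507 = N11422 := ded_36_2 (flp_d L97768) (flp_g L97196) L140798
theorem L140804 : sm gj N16507 = N11357 := ded_37_2 (flp_d L97200) (flp_j L97198) L140798
theorem L140817 : sm ge N11357 = N16509 := rfl
theorem L140819 : sm gb N16509 = N16509 := ded_21_1 (flp_e L140817) L97202 L140817
theorem L140820 : sm gg N16509 = N11359 := ded_41_2 (flp_e L97215) (flp_g L97204) L140817
theorem L140822 : sm gi N11357 = N16510 := rfl
theorem L140830 : sm gf N11359 = N16511 := rfl
theorem L140832 : sm gb N16511 = N16511 := ded_22_1 (flp_f L140830) L97217 L140830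
theorem L140833 : sm gj N16511 = N11426 := ded_46_2 (flp_f L97799) (flp_j L97218) L140830
theorem L140835 : sm ge N16511 = N11361 := ded_40_1 (flp_f L97229) (flp_e L67231) (flp_f L67217) L97215 L140830
theorem L140852 : sm gg N11361 = N16514 := rfl
theorem L140854 : sm gb N16514 = N16514 := ded_23_1 (flp_g L140852) L97231 L140852
theorem L140855 : sm gd N16514 = N11522 := ded_36_1 (flp_g L98600) (flp_d L97232) L140852
theorem L140857 : sm gf N16514 = N16514 := ded_45_1 (flp_g L140852) (flp_f L97229) L67234 L97229 L140852
theorem L140858 : sm gi N11361 = N16515 := rfl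
theorem L140867 : sm gh N11362 = N16516 := rfl
theorem L140873 : sm gj N16516 = N11431 := ded_52_1 (flp_h L97829) (flp_j L97244) L140867
theorem L140885 : sm gd N11365 = N16518 := rfl
theorem L140891 : sm gg N16518 = N11525 := ded_36_2 (flp_d L98624) (flp_g L97270) L140885
theorem L140904 : sm gd N11366 = N16520 := rfl
theorem L140908 : sm gg N16520 = N11432 := ded_36_2 (flp_d L97836) (flp_g L97278) L140904
theorem L140910 : sm gj N16520 = N11367 := ded_37_2 (flp_d L97282) (flp_j L97280) L140904
theorem L140924 : sm gc N11367 = N16522 := rfl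
theorem L140926 : sm gg N16522 = N11369 := ded_30_2 (flp_c L97298) (flp_g L97286) L140924
theorem L140937 : sm gb N11369 = N16524 := rfl
theorem L140939 : sm gf N16524 = N11529 := ded_22_2 (flp_b L98658) (flp_f L97300) L140937
theorem L140941 : sm gj N16524 = N11436 := ded_24_2 (flp_b L97869) (flp_j L97302) L140937
theorem L140946 : sm gi N11369 = N16525 := rfl
theorem L140952 : sm gj N16525 = N11437 := ded_53_1 (flp_i L97876) (flp_j L97302) L140946
theorem L140964 : sm gd N11372 = N16527 := rfl
theorem L140966 : sm ga N16527 = N12891 := ded_12_1 (flp_d L109840) (flp_a L97327) L140964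
theorem L140968 : sm gf N16527 = N11375 := ded_35_2 (flp_d L97356) (flp_f L97331) L140964
theorem L140971 : sm gj N16527 = N11373 := ded_37_2 (flp_d L97336) (flp_j L97334) L140964
theorem L140986 : sm gc N11373 = N16529 := rfl
theorem L140990 : sm gf N16529 = N11377 := ded_29_2 (flp_c L97377) (flp_f L97340) L140986
theorem L140992 : sm gg N16529 = N11532 := ded_30_2 (flp_c L98682) (flp_g L97342) L140986
theorem L140996 : sm ge N11373 = N16530 := rfl
theorem L141000 : sm gg N16530 = N11533 := ded_41_2 (flp_e L98691) (flp_g L97342) L140996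
theorem L141004 : sm gi N11373 = N16531 := rfl
theorem L141010 : sm gf N16531 = N11378 := ded_48_1 (flp_i L97385) (flp_f L97340) L141004
theorem L141012 : sm gg N16531 = N11534 := ded_51_1 (flp_i L98699) (flp_g L97342) L141004
theorem L141034 : sm gb N11377 = N16534 := rfl
theorem L141037 : sm gg N16534 = N11379 := ded_23_2 (flp_b L97393) (flp_g L97381) L141034
theorem L141040 : sm gi N11377 = N16535 := rfl
theorem L141047 : sm gg N16535 = N11380 := ded_51_1 (flp_i L97401) (flp_g L97381) L141040
theorem L141049 : sm gh N11378 = N16536 := rfl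
theorem L141053 : sm gg N16536 = N11381 := ded_50_1 (flp_h L97412) (flp_g L97391) L141049
theorem L141067 : sm gi N11379 = N16538 := rfl
theorem L141074 : sm gj N16538 = N11445 := ded_53_1 (flp_i L97942) (flp_j L97398) L141067
theorem L141076 : sm gh N11380 = N16539 := rfl
theorem L141084 : sm gj N16539 = N11446 := ded_52_1 (flp_h L97949) (flp_j L97410) L141076
theorem L141087 : sm gc N11382 = N16540 := rfl
theorem L141090 : sm gf N16540 = N11541 := ded_29_2 (flp_c L98764) (flp_f L97427) L141087
theorem L141094 : sm gd N16540 = N12904 := ded_27_2 (flp_c L109941) (flp_d L76029) (flp_c L67396) L97422 L141087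
theorem L141096 : sm gg N11382 = N16541 := rfl
theorem L141099 : sm gb N16541 = N11392 := ded_23_1 (flp_g L97515) (flp_b L97425) L141096
theorem L141101 : sm gd N16541 = N11383 := ded_36_1 (flp_g L97430) L97422 L141096
theorem L141105 : sm gh N11382 = N16542 := rfl
theorem L141108 : sm gb N16542 = N11393 := ded_25_1 (flp_h L97524) (flp_b L97425) L141105
theorem L141112 : sm gj N11383 = N16543 := rfl
theorem L141115 : sm gb N16543 = N11394 := ded_24_1 (flp_j L97531) (flp_b L97433) L141112
theorem L141119 : sm ge N16543 = N11385 := ded_42_1 (flp_j L97452) (flp_e L97437) L141112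
theorem L141123 : sm gh N11383 = N16544 := rfl
theorem L141128 : sm gc N16544 = N12908 := ded_32_1 (flp_h L109976) (flp_c L97435) L141123
theorem L141133 : sm gg N16544 = N11384 := ded_50_1 (flp_h L97441) L97430 L141123
theorem L141135 : sm gd N11384 = N16545 := rfl
theorem L141142 : sm gi N11384 = N16546 := rfl
theorem L141154 : sm gh N11385 = N16547 := rfl
theorem L141157 : sm gb N16547 = N11398 := ded_25_1 (flp_h L97569) (flp_b L97455) L141154
theorem L141161 : sm gf N16547 = N11447 := ded_47_1 (flp_h L97958) (flp_f L97459) L141154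
theorem L141165 : sm gd N11386 = N16548 := rfl
theorem L141168 : sm gb N16548 = N11399 := ded_20_1 (flp_d L97579) (flp_b L97465) L141165
theorem L141172 : sm gg N16548 = N11387 := ded_36_2 (flp_d L97473) (flp_g L97471) L141165
theorem L141186 : sm gc N11387 = N16550 := rfl
theorem L141193 : sm ge N11387 = N16551 := rfl
theorem L141198 : sm gi N11387 = N16552 := rfl
theorem L141214 : sm gi N11389 = N16554 := rfl
theorem L141221 : sm gg N16554 = N11454 := ded_51_1 (flp_i L98018) (flp_g L97493) L141214
theorem L141230 : sm gi N11390 = N16556 := rfl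
theorem L141239 : sm gg N16556 = N11456 := ded_51_1 (flp_i L98034) (flp_g L97502) L141230
theorem L141249 : sm gj N11392 = N16558 := rfl
theorem L141251 : sm ga N16558 = N11412 := ded_16_1 (flp_j L97694) (flp_a L97517) L141249
theorem L141254 : sm gd N16558 = N11394 := ded_37_1 (flp_j L97531) (flp_d L97520) L141249
theorem L141258 : sm gh N11392 = N16559 := rfl
theorem L141260 : sm ga N16559 = N11413 := ded_17_1 (flp_h L97702) (flp_a L97517) L141258
theorem L141264 : sm gg N16559 = N11393 := ded_50_1 (flp_h L97524) L97515 L141258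
theorem L141266 : sm gd N11393 = N16560 := rfl
theorem L141268 : sm ga N16560 = N11414 := ded_12_1 (flp_d L97709) (flp_a L97526) L141266
theorem L141270 : sm gf N16560 = N11553 := ded_35_2 (flp_d L98867) (flp_f L97529) L141266
theorem L141272 : sm gh N16560 = N11396 := ded_38_2 (flp_d L97552) (flp_h L67457) L67439 L97524 L141266
theorem L141274 : sm gi N11393 = N16561 := rfl
theorem L141276 : sm ga N16561 = N11415 := ded_18_1 (flp_i L97716) (flp_a L97526) L141274
theorem L141278 : sm gc N16561 = N16561 := ded_33_1 (flp_i L141274) L97528 L141274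
theorem L141279 : sm gf N16561 = N11554 := ded_48_1 (flp_i L98874) (flp_f L97529) L141274
theorem L141281 : sm gh N16561 = N16561 := ded_54_1 (flp_i L141274) (flp_h L97524) L67445 L97524 L141274
theorem L141282 : sm gh N11394 = N16562 := rfl
theorem L141284 : sm ga N16562 = N11416 := ded_17_1 (flp_h L97723) (flp_a L97533) L141282
theorem L141293 : sm gd N11395 = N16563 := rfl
theorem L141295 : sm ga N16563 = N11417 := ded_12_1 (flp_d L97733) (flp_a L97543) L141293
theorem L141298 : sm gg N16563 = N11396 := ded_36_2 (flp_d L97552) (flp_g L97550) L141293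
theorem L141312 : sm gc N11396 = N16565 := rfl
theorem L141314 : sm ga N16565 = N11419 := ded_11_1 (flp_c L97750) (flp_a L97554) L141312
theorem L141320 : sm ge N11396 = N16566 := rfl
theorem L141322 : sm ga N16566 = N11420 := ded_13_1 (flp_e L97756) (flp_a L97554) L141320
theorem L141326 : sm gi N11396 = N16567 := rfl
theorem L141334 : sm gd N11398 = N16568 := rfl
theorem L141336 : sm ga N16568 = N11422 := ded_12_1 (flp_d L97768) (flp_a L97571) L141334
theorem L141338 : sm gf N16568 = N11458 := ded_35_2 (flp_d L98051) (flp_f L97575) L141334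
theorem L141353 : sm ge N11399 = N16570 := rfl
theorem L141355 : sm ga N16570 = N11424 := ded_13_1 (flp_e L97785) (flp_a L97581) L141353
theorem L141357 : sm gg N16570 = N11401 := ded_41_2 (flp_e L97598) (flp_g L97585) L141353
theorem L141369 : sm gf N11401 = N16572 := rfl
theorem L141371 : sm ga N16572 = N11426 := ded_14_1 (flp_f L97799) (flp_a L97600) L141369
theorem L141373 : sm ge N16572 = N11403 := ded_40_1 (flp_f L97610) (flp_e L67501) (flp_f L67490) L97598 L141369
theorem L141375 : sm gi N11401 = N16573 := rfl
theorem L141377 : sm ga N16573 = N11427 := ded_18_1 (flp_i L97804) (flp_a L97600) L141375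
theorem L141388 : sm gg N11403 = N16575 := rfl
theorem L141390 : sm ga N16575 = N11429 := ded_15_1 (flp_g L97815) (flp_a L97612) L141388
theorem L141392 : sm gd N16575 = N11561 := ded_36_1 (flp_g L98929) (flp_d L97614) L141388
theorem L141394 : sm gf N16575 = N11465 := ded_45_1 (flp_g L98108) (flp_f L67896) (flp_g L67505) L97610 L141388
theorem L141396 : sm gi N11403 = N16576 := rfl
theorem L141404 : sm gh N11404 = N16577 := rfl
theorem L141412 : sm gd N11406 = N16578 := rfl
theorem L141419 : sm gj N16578 = N11407 := ded_37_2 (flp_d L97644) (flp_j L97642) L141412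
theorem L141434 : sm gc N11407 = N16580 := rfl
theorem L141439 : sm gg N16580 = N11409 := ded_30_2 (flp_c L97666) (flp_g L97651) L141434
theorem L141442 : sm gi N11407 = N16581 := rfl
theorem L141451 : sm gg N16581 = N11410 := ded_51_1 (flp_i L97673) (flp_g L97651) L141442
theorem L141453 : sm gb N11409 = N16582 := rfl
theorem L141468 : sm gh N11410 = N16584 := rfl
theorem L141478 : sm gh N11412 = N16585 := rfl
theorem L141483 : sm gj N16585 = N11413 := ded_52_1 (flp_h L97702) L97694 L141478
theorem L141485 : sm gd N11413 = N16586 := rfl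
theorem L141487 : sm gb N16586 = N16586 := ded_20_1 (flp_d L141485) L97704 L141485
theorem L141488 : sm gf N16586 = N16586 := ded_35_2 (flp_d L141485) L97706 L141485
theorem L141489 : sm gg N16586 = N11414 := ded_36_2 (flp_d L97709) (flp_g L97707) L141485
theorem L141491 : sm gh N16586 = N11417 := ded_38_2 (flp_d L97733) (flp_h L67603) (flp_d L67584) L97702 L141485
theorem L141493 : sm gi N11413 = N16587 := rfl
theorem L141495 : sm gb N16587 = N16587 := ded_26_1 (flp_i L141493) L97704 L141493
theorem L141496 : sm gc N16587 = N16587 := ded_33_1 (flp_i L141493) L97705 L141493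
theorem L141497 : sm gf N16587 = N16587 := ded_48_1 (flp_i L141493) L97706 L141493
theorem L141498 : sm gg N16587 = N11415 := ded_51_1 (flp_i L97716) (flp_g L97707) L141493
theorem L141500 : sm gh N16587 = N16587 := ded_54_1 (flp_i L141493) (flp_h L97702) L67586 L97702 L141493
theorem L141501 : sm gc N11414 = N16588 := rfl
theorem L141503 : sm gf N16588 = N11567 := ded_29_2 (flp_c L98979) (flp_f L97712) L141501
theorem L141505 : sm gh N16588 = N11419 := ded_32_2 (flp_c L97750) (flp_h L97714) L141501
theorem L141507 : sm gd N16588 = N16588 := ded_27_2 (flp_c L141501) (flp_d L97709) L67591 L97709 L141501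
theorem L141508 : sm ge N11414 = N16589 := rfl
theorem L141510 : sm gb N16589 = N16589 := ded_21_1 (flp_e L141508) L97711 L141508
theorem L141511 : sm gh N16589 = N11420 := ded_43_2 (flp_e L97756) (flp_h L97714) L141508
theorem L141513 : sm gi N11414 = N16590 := rfl
theorem L141515 : sm gb N16590 = N16590 := ded_26_1 (flp_i L141513) L97711 L141513
theorem L141516 : sm gd N16590 = N11415 := ded_39_1 (flp_i L97716) L97709 L141513
theorem L141518 : sm gf N16590 = N11569 := ded_48_1 (flp_i L98992) (flp_f L97712) L141513
theorem L141520 : sm gd N11416 = N16591 := rfl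
theorem L141524 : sm gj N16591 = N11417 := ded_37_2 (flp_d L97733) (flp_j L97731) L141520
theorem L141537 : sm gc N11417 = N16593 := rfl
theorem L141540 : sm gg N16593 = N11419 := ded_30_2 (flp_c L97750) (flp_g L97737) L141537
theorem L141542 : sm gd N16593 = N11434 := ded_27_2 (flp_c L97854) (flp_d L67693) (flp_c L67606) L97733 L141537
theorem L141544 : sm ge N11417 = N16594 := rfl
theorem L141546 : sm gb N16594 = N16594 := ded_21_1 (flp_e L141544) L97735 L141544
theorem L141547 : sm gg N16594 = N11420 := ded_41_2 (flp_e L97756) (flp_g L97737) L141544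
theorem L141549 : sm gd N16594 = N11424 := ded_34_1 (flp_e L97785) (flp_d L67637) (flp_e L67608) L97733 L141544
theorem L141551 : sm gi N11417 = N16595 := rfl
theorem L141559 : sm gb N11419 = N16596 := rfl
theorem L141563 : sm gf N16596 = N11570 := ded_22_2 (flp_b L98998) (flp_f L97752) L141559
theorem L141566 : sm ge N11419 = N16597 := rfl
theorem L141568 : sm gc N16597 = N11420 := ded_28_1 (flp_e L97756) L97750 L141566
theorem L141578 : sm gf N11420 = N16599 := rfl
theorem L141580 : sm gb N16599 = N16599 := ded_22_1 (flp_f L141578) L97758 L141578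
theorem L141581 : sm gd N16599 = N11426 := ded_35_1 (flp_f L97799) (flp_d L97759) L141578
theorem L141583 : sm ge N16599 = N11573 := ded_40_1 (flp_f L99017) (flp_e L68561) (flp_f L67616) L97756 L141578
theorem L141585 : sm gi N11420 = N16600 := rfl
theorem L141590 : sm ge N16600 = N11421 := ded_44_1 (flp_i L97761) L97756 L141585
theorem L141598 : sm ge N11422 = N16602 := rfl
theorem L141600 : sm gb N16602 = N16602 := ded_21_1 (flp_e L141598) L97770 L141598
theorem L141601 : sm gj N16602 = N11424 := ded_42_2 (flp_e L97785) (flp_j L97773) L141598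
theorem L141603 : sm gi N11422 = N16603 := rfl
theorem L141606 : sm gd N16603 = N11423 := ded_39_1 (flp_i L97775) L97768 L141603
theorem L141610 : sm gj N16603 = N11425 := ded_53_1 (flp_i L97790) (flp_j L97773) L141603
theorem L141612 : sm gf N11424 = N16604 := rfl
theorem L141614 : sm gb N16604 = N16604 := ded_22_1 (flp_f L141612) L97787 L141612
theorem L141615 : sm ge N16604 = N11470 := ded_40_1 (flp_f L98145) (flp_e L67945) (flp_f L67640) L97785 L141612
theorem L141617 : sm gi N11424 = N16605 := rfl
theorem L141624 : sm gh N11425 = N16606 := rfl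
theorem L141627 : sm gf N16606 = N11472 := ded_47_1 (flp_h L98157) (flp_f L97795) L141624
theorem L141629 : sm gg N16606 = N11428 := ded_50_1 (flp_h L97809) (flp_g L97797) L141624
theorem L141632 : sm gg N11426 = N16607 := rfl
theorem L141634 : sm gb N16607 = N16607 := ded_23_1 (flp_g L141632) L97801 L141632
theorem L141635 : sm ge N16607 = N11429 := ded_41_1 (flp_g L97815) (flp_e L97802) L141632
theorem L141637 : sm gi N11426 = N16608 := rfl
theorem L141649 : sm gj N11429 = N16610 := rfl
theorem L141651 : sm gb N16610 = N16610 := ded_24_1 (flp_j L141649) L97817 L141649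
theorem L141652 : sm gd N16610 = N11579 := ded_37_1 (flp_j L99059) (flp_d L97818) L141649
theorem L141654 : sm gf N16610 = N11476 := ded_46_1 (flp_j L98184) (flp_f L97820) L141649
theorem L141665 : sm gh N11430 = N16612 := rfl
theorem L141668 : sm gf N16612 = N11431 := ded_47_1 (flp_h L97829) (flp_f L97827) L141665
theorem L141670 : sm gd N11431 = N16613 := rfl
theorem L141673 : sm gg N16613 = N11479 := ded_36_2 (flp_d L98203) (flp_g L97834) L141670
theorem L141676 : sm gh N16613 = N11582 := ded_38_2 (flp_d L99081) (flp_h L68609) (flp_d L67672) L97829 L141670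
theorem L141678 : sm gc N11432 = N16614 := rfl
theorem L141681 : sm gj N16614 = N11434 := ded_31_2 (flp_c L97854) (flp_j L97841) L141678
theorem L141693 : sm gb N11434 = N16616 := rfl
theorem L141696 : sm gg N16616 = N11436 := ded_23_2 (flp_b L97869) (flp_g L97857) L141693
theorem L141699 : sm gc N16616 = N11441 := ded_19_2 (flp_b L97908) (flp_c L67752) (flp_b L67695) L97854 L141693
theorem L141717 : sm ga N11436 = N16619 := rfl
theorem L141732 : sm gh N11437 = N16621 := rfl
theorem L141736 : sm gf N16621 = N11585 := ded_47_1 (flp_h L99103) (flp_f L97880) L141732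
theorem L141739 : sm gb N11439 = N16622 := rfl
theorem L141743 : sm gj N16622 = N11441 := ded_24_2 (flp_b L97908) (flp_j L97895) L141739
theorem L141746 : sm gi N11439 = N16623 := rfl
theorem L141748 : sm ga N16623 = N12987 := ded_18_1 (flp_i L110603) (flp_a L97892) L141746
theorem L141754 : sm gj N16623 = N11442 := ded_53_1 (flp_i L97915) (flp_j L97895) L141746
theorem L141756 : sm gh N11440 = N16624 := rfl
theorem L141761 : sm gj N16624 = N11443 := ded_52_1 (flp_h L97925) (flp_j L97906) L141756
theorem L141774 : sm gi N11441 = N16626 := rfl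
theorem L141780 : sm gg N16626 = N11445 := ded_51_1 (flp_i L97942) (flp_g L97912) L141774
theorem L141782 : sm gh N11442 = N16627 := rfl
theorem L141789 : sm gg N16627 = N11446 := ded_50_1 (flp_h L97949) (flp_g L97923) L141782
theorem L141801 : sm gh N11445 = N16629 := rfl
theorem L141808 : sm gd N11446 = N16630 := rfl
theorem L141812 : sm gf N16630 = N11588 := ded_35_2 (flp_d L99126) (flp_f L97955) L141808
theorem L141817 : sm gd N11447 = N16631 := rfl
theorem L141823 : sm gj N16631 = N11448 := ded_37_2 (flp_d L97969) (flp_j L97967) L141817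
theorem L141837 : sm gc N11448 = N16633 := rfl
theorem L141840 : sm gg N16633 = N11450 := ded_30_2 (flp_c L97987) (flp_g L97974) L141837
theorem L141842 : sm gd N16633 = N12997 := ded_27_2 (flp_c L110681) (flp_d L76560) (flp_c L67808) L97969 L141837
theorem L141852 : sm gi N11448 = N16635 := rfl
theorem L141861 : sm ge N11450 = N16636 := rfl
theorem L141867 : sm gi N11450 = N16637 := rfl
theorem L141877 : sm gf N11451 = N16638 := rfl
theorem L141880 : sm gb N16638 = N11462 := ded_22_1 (flp_f L98084) (flp_b L97998) L141877
theorem L141884 : sm ge N16638 = N11455 := ded_40_1 (flp_f L98026) (flp_e L67839) (flp_f L67818) L97995 L141877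
theorem L141932 : sm gg N11455 = N16645 := rfl
theorem L141939 : sm gi N11455 = N16646 := rfl
theorem L141946 : sm gf N16646 = N11456 := ded_48_1 (flp_i L98034) L98026 L141939
theorem L141949 : sm gh N11456 = N16647 := rfl
theorem L141957 : sm ge N11458 = N16648 := rfl
theorem L141959 : sm ga N16648 = N11468 := ded_13_1 (flp_e L98130) (flp_a L98053) L141957
theorem L141962 : sm gj N16648 = N11460 := ded_42_2 (flp_e L98069) (flp_j L98056) L141957
theorem L141974 : sm gf N11460 = N16650 := rfl
theorem L141976 : sm ga N16650 = N11470 := ded_14_1 (flp_f L98145) (flp_a L98071) L141974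
theorem L141995 : sm gg N11462 = N16653 := rfl
theorem L141997 : sm ga N16653 = N11473 := ded_15_1 (flp_g L98163) (flp_a L98086) L141995
theorem L142000 : sm ge N16653 = N11465 := ded_41_1 (flp_g L98108) (flp_e L98090) L141995
theorem L142002 : sm gi N11462 = N16654 := rfl
theorem L142004 : sm ga N16654 = N11474 := ded_18_1 (flp_i L98169) (flp_a L98086) L142002
theorem L142019 : sm gj N11465 = N16656 := rfl
theorem L142021 : sm ga N16656 = N11476 := ded_16_1 (flp_j L98184) (flp_a L98110) L142019
theorem L142023 : sm gd N16656 = N11596 := ded_37_1 (flp_j L99193) (flp_d L98112) L142019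
theorem L142034 : sm gh N11466 = N16658 := rfl
theorem L142036 : sm ga N16658 = N11478 := ded_17_1 (flp_h L98197) (flp_a L98116) L142034
theorem L142049 : sm gf N11468 = N16660 := rfl
theorem L142051 : sm gb N16660 = N16660 := ded_22_1 (flp_f L142049) L98132 L142049
theorem L142052 : sm gd N16660 = N16660 := ded_35_1 (flp_f L142049) L98136 L142049
theorem L142053 : sm gj N16660 = N11470 := ded_46_2 (flp_f L98145) (flp_j L98134) L142049
theorem L142055 : sm gi N11468 = N16661 := rfl
theorem L142062 : sm gj N16661 = N11471 := ded_53_1 (flp_i L98149) (flp_j L98134) L142055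
theorem L142071 : sm gg N11470 = N16663 := rfl
theorem L142073 : sm gb N16663 = N16663 := ded_23_1 (flp_g L142071) L98147 L142071
theorem L142074 : sm gd N16663 = N16663 := ded_36_1 (flp_g L142071) L98148 L142071
theorem L142075 : sm gf N16663 = N11473 := ded_45_1 (flp_g L98163) (flp_f L67958) (flp_g L67948) L98145 L142071
theorem L142077 : sm gi N11470 = N16664 := rfl
theorem L142090 : sm gj N11473 = N16666 := rfl
theorem L142092 : sm gb N16666 = N16666 := ded_24_1 (flp_j L142090) L98165 L142090
theorem L142093 : sm gd N16666 = N16666 := ded_37_1 (flp_j L142090) L98166 L142090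
theorem L142094 : sm ge N16666 = N11476 := ded_42_1 (flp_j L98184) (flp_e L98167) L142090
theorem L142096 : sm gg N16666 = N16666 := ded_49_1 (flp_j L142090) (flp_g L98163) L67962 L98163 L142090
theorem L142097 : sm gi N11473 = N16667 := rfl
theorem L142101 : sm ge N16667 = N11477 := ded_44_1 (flp_i L98190) (flp_e L98167) L142097
theorem L142105 : sm gh N11474 = N16668 := rfl
theorem L142108 : sm ge N16668 = N11478 := ded_43_1 (flp_h L98197) (flp_e L98173) L142105
theorem L142110 : sm gf N16668 = N11475 := ded_47_1 (flp_h L98178) (flp_f L98175) L142105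
theorem L142113 : sm gd N11475 = N16669 := rfl
theorem L142119 : sm gi N11476 = N16670 := rfl
theorem L142125 : sm gj N16670 = N11477 := ded_53_1 (flp_i L98190) L98184 L142119
theorem L142127 : sm gh N11477 = N16671 := rfl
theorem L142130 : sm gg N16671 = N11478 := ded_50_1 (flp_h L98197) (flp_g L98195) L142127
theorem L142132 : sm gd N11478 = N16672 := rfl
theorem L142138 : sm gh N16672 = N11602 := ded_38_2 (flp_d L99242) (flp_h L68745) (flp_d L67987) L98197 L142132
theorem L142140 : sm gc N11479 = N16673 := rfl
theorem L142146 : sm gc N11480 = N16674 := rfl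
theorem L142150 : sm gj N16674 = N11541 := ded_31_2 (flp_c L98764) (flp_j L98215) L142146
theorem L142154 : sm gd N16674 = N13038 := ded_27_2 (flp_c L111011) (flp_d L76815) (flp_c L68003) L98210 L142146
theorem L142156 : sm gg N11480 = N16675 := rfl
theorem L142159 : sm gb N16675 = N11489 := ded_23_1 (flp_g L98303) (flp_b L98213) L142156
theorem L142166 : sm gh N11480 = N16676 := rfl
theorem L142169 : sm gb N16676 = N11490 := ded_25_1 (flp_h L98313) (flp_b L98213) L142166
theorem L142184 : sm gh N11481 = N16678 := rfl
theorem L142191 : sm ge N16678 = N11483 := ded_43_1 (flp_h L98241) (flp_e L98226) L142184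
theorem L142193 : sm gg N16678 = N11482 := ded_50_1 (flp_h L98230) L98219 L142184
theorem L142196 : sm gd N11482 = N16679 := rfl
theorem L142199 : sm gb N16679 = N11493 := ded_20_1 (flp_d L98341) (flp_b L98233) L142196
theorem L142201 : sm gj N16679 = N11543 := ded_37_2 (flp_d L98780) (flp_j L98239) L142196
theorem L142203 : sm gi N11482 = N16680 := rfl
theorem L142225 : sm gi N11483 = N16682 := rfl
theorem L142237 : sm gc N11484 = N16683 := rfl
theorem L142240 : sm gf N16683 = N11486 := ded_29_2 (flp_c L98274) (flp_f L98257) L142237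
theorem L142242 : sm gj N16683 = N11545 := ded_31_2 (flp_c L98797) (flp_j L98259) L142237
theorem L142246 : sm gd N16683 = N13047 := ded_27_2 (flp_c L111096) (flp_d L76852) (flp_c L68024) L98252 L142237
theorem L142248 : sm ge N11484 = N16684 := rfl
theorem L142251 : sm gb N16684 = N11497 := ded_21_1 (flp_e L98379) (flp_b L98255) L142248
theorem L142253 : sm gj N16684 = N11546 := ded_42_2 (flp_e L98807) (flp_j L98259) L142248
theorem L142267 : sm ge N11486 = N16686 := rfl
theorem L142274 : sm gj N16686 = N11548 := ded_42_2 (flp_e L98824) (flp_j L98278) L142267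
theorem L142277 : sm gi N11486 = N16687 := rfl
theorem L142286 : sm gj N16687 = N11549 := ded_53_1 (flp_i L98833) (flp_j L98278) L142277
theorem L142288 : sm gf N11487 = N16688 := rfl
theorem L142293 : sm gj N16688 = N11550 := ded_46_2 (flp_f L98843) (flp_j L98290) L142288
theorem L142296 : sm gi N11487 = N16689 := rfl
theorem L142316 : sm gf N11489 = N16691 := rfl
theorem L142318 : sm ga N16691 = N11507 := ded_14_1 (flp_f L98478) (flp_a L98305) L142316
theorem L142321 : sm gd N16691 = N11491 := ded_35_1 (flp_f L98321) (flp_d L98308) L142316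
theorem L142325 : sm gh N11489 = N16692 := rfl
theorem L142327 : sm ga N16692 = N11508 := ded_17_1 (flp_h L98486) (flp_a L98305) L142325
theorem L142331 : sm gg N16692 = N11490 := ded_50_1 (flp_h L98313) L98303 L142325
theorem L142334 : sm gd N11490 = N16693 := rfl
theorem L142336 : sm ga N16693 = N11509 := ded_12_1 (flp_d L98494) (flp_a L98315) L142334
theorem L142338 : sm gj N16693 = N11553 := ded_37_2 (flp_d L98867) (flp_j L98319) L142334
theorem L142340 : sm gh N16693 = N11493 := ded_38_2 (flp_d L98341) (flp_h L68069) L68050 L98313 L142334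
theorem L142342 : sm gi N11490 = N16694 := rfl
theorem L142344 : sm ga N16694 = N11510 := ded_18_1 (flp_i L98501) (flp_a L98315) L142342
theorem L142346 : sm gc N16694 = N16694 := ded_33_1 (flp_i L142342) L98317 L142342
theorem L142347 : sm ge N16694 = N16694 := ded_44_1 (flp_i L142342) L98318 L142342
theorem L142348 : sm gj N16694 = N11554 := ded_53_1 (flp_i L98874) (flp_j L98319) L142342
theorem L142350 : sm gh N16694 = N16694 := ded_54_1 (flp_i L142342) (flp_h L98313) L68056 L98313 L142342
theorem L142351 : sm gh N11491 = N16695 := rfl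
theorem L142353 : sm ga N16695 = N11511 := ded_17_1 (flp_h L98509) (flp_a L98323) L142351
theorem L142358 : sm gf N16695 = N11492 := ded_47_1 (flp_h L98330) L98321 L142351
theorem L142361 : sm gd N11492 = N16696 := rfl
theorem L142363 : sm ga N16696 = N11512 := ded_12_1 (flp_d L98518) (flp_a L98332) L142361
theorem L142365 : sm gg N16696 = N11493 := ded_36_2 (flp_d L98341) (flp_g L98338) L142361
theorem L142380 : sm gc N11493 = N16698 := rfl
theorem L142384 : sm gj N16698 = N11555 := ded_31_2 (flp_c L98882) (flp_j L98345) L142380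
theorem L142386 : sm gd N16698 = N11505 := ded_27_2 (flp_c L98459) (flp_d L68150) (flp_c L68073) L98341 L142380
theorem L142388 : sm ge N11493 = N16699 := rfl
theorem L142390 : sm ga N16699 = N11515 := ded_13_1 (flp_e L98541) (flp_a L98343) L142388
theorem L142394 : sm gd N16699 = N11497 := ded_34_1 (flp_e L98379) (flp_d L68089) (flp_e L68075) L98341 L142388
theorem L142396 : sm gi N11493 = N16700 := rfl
theorem L142404 : sm ge N11495 = N16701 := rfl
theorem L142406 : sm ga N16701 = N11517 := ded_13_1 (flp_e L98555) (flp_a L98360) L142404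
theorem L142424 : sm gf N11497 = N16703 := rfl
theorem L142426 : sm ga N16703 = N11519 := ded_14_1 (flp_f L98573) (flp_a L98381) L142424
theorem L142429 : sm gj N16703 = N11558 := ded_46_2 (flp_f L98903) (flp_j L98384) L142424
theorem L142443 : sm gh N11498 = N16705 := rfl
theorem L142445 : sm ga N16705 = N11521 := ded_17_1 (flp_h L98590) (flp_a L98389) L142443
theorem L142448 : sm gf N16705 = N11501 := ded_47_1 (flp_h L98416) (flp_f L98394) L142443
theorem L142470 : sm gh N11500 = N16708 := rfl
theorem L142472 : sm ga N16708 = N11524 := ded_17_1 (flp_h L98614) (flp_a L98408) L142470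
theorem L142478 : sm gj N16708 = N11563 := ded_52_1 (flp_h L98944) (flp_j L98414) L142470
theorem L142481 : sm gd N11502 = N16709 := rfl
theorem L142483 : sm ga N16709 = N11525 := ded_12_1 (flp_d L98624) (flp_a L98428) L142481
theorem L142491 : sm gi N11502 = N16710 := rfl
theorem L142523 : sm gb N11505 = N16713 := rfl
theorem L142529 : sm gc N16713 = N13077 := ded_19_2 (flp_b L111384) (flp_c L77058) (flp_b L68154) L98459 L142523
theorem L142551 : sm ge N11507 = N16716 := rfl
theorem L142559 : sm gh N11507 = N16717 := rfl
theorem L142563 : sm gf N16717 = N11508 := ded_47_1 (flp_h L98486) L98478 L142559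
theorem L142566 : sm gd N11508 = N16718 := rfl
theorem L142568 : sm gb N16718 = N16718 := ded_20_1 (flp_d L142566) L98488 L142566
theorem L142569 : sm gg N16718 = N11509 := ded_36_2 (flp_d L98494) (flp_g L98491) L142566
theorem L142571 : sm gj N16718 = N16718 := ded_37_2 (flp_d L142566) L98493 L142566
theorem L142572 : sm gh N16718 = N11512 := ded_38_2 (flp_d L98518) (flp_h L68207) (flp_d L68187) L98486 L142566
theorem L142574 : sm gi N11508 = N16719 := rfl
theorem L142576 : sm gb N16719 = N16719 := ded_26_1 (flp_i L142574) L98488 L142574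
theorem L142577 : sm gc N16719 = N16719 := ded_33_1 (flp_i L142574) L98489 L142574
theorem L142578 : sm ge N16719 = N16719 := ded_44_1 (flp_i L142574) L98490 L142574
theorem L142579 : sm gg N16719 = N11510 := ded_51_1 (flp_i L98501) (flp_g L98491) L142574
theorem L142581 : sm gj N16719 = N16719 := ded_53_1 (flp_i L142574) L98493 L142574
theorem L142582 : sm gh N16719 = N16719 := ded_54_1 (flp_i L142574) (flp_h L98486) L68190 L98486 L142574
theorem L142583 : sm gc N11509 = N16720 := rfl
theorem L142585 : sm gj N16720 = N11567 := ded_31_2 (flp_c L98979) (flp_j L98497) L142583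
theorem L142587 : sm gh N16720 = N11514 := ded_32_2 (flp_c L98535) (flp_h L98499) L142583
theorem L142589 : sm gd N16720 = N16720 := ded_27_2 (flp_c L142583) (flp_d L98494) L68195 L98494 L142583
theorem L142590 : sm ge N11509 = N16721 := rfl
theorem L142592 : sm gb N16721 = N16721 := ded_21_1 (flp_e L142590) L98496 L142590
theorem L142593 : sm gj N16721 = N11568 := ded_42_2 (flp_e L98985) (flp_j L98497) L142590
theorem L142595 : sm gh N16721 = N11515 := ded_43_2 (flp_e L98541) (flp_h L98499) L142590
theorem L142597 : sm gd N16721 = N16721 := ded_34_1 (flp_e L142590) (flp_d L98494) L68196 L98494 L142590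
theorem L142598 : sm gi N11509 = N16722 := rfl
theorem L142600 : sm gb N16722 = N16722 := ded_26_1 (flp_i L142598) L98496 L142598
theorem L142601 : sm gd N16722 = N11510 := ded_39_1 (flp_i L98501) L98494 L142598
theorem L142603 : sm gj N16722 = N11569 := ded_53_1 (flp_i L98992) (flp_j L98497) L142598
theorem L142605 : sm gd N11511 = N16723 := rfl
theorem L142608 : sm gf N16723 = N11512 := ded_35_2 (flp_d L98518) (flp_f L98515) L142605
theorem L142611 : sm gi N11511 = N16724 := rfl
theorem L142617 : sm gf N16724 = N11513 := ded_48_1 (flp_i L98524) (flp_f L98515) L142611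
theorem L142621 : sm gc N11512 = N16725 := rfl
theorem L142623 : sm gg N16725 = N11514 := ded_30_2 (flp_c L98535) (flp_g L98521) L142621
theorem L142626 : sm gd N16725 = N11527 := ded_27_2 (flp_c L98641) (flp_d L68301) (flp_c L68210) L98518 L142621
theorem L142628 : sm ge N11512 = N16726 := rfl
theorem L142630 : sm gb N16726 = N16726 := ded_21_1 (flp_e L142628) L98520 L142628
theorem L142631 : sm gg N16726 = N11515 := ded_41_2 (flp_e L98541) (flp_g L98521) L142628
theorem L142633 : sm gj N16726 = N16726 := ded_42_2 (flp_e L142628) L98523 L142628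
theorem L142634 : sm gd N16726 = N11517 := ded_34_1 (flp_e L98555) (flp_d L68232) (flp_e L68212) L98518 L142628
theorem L142636 : sm gi N11512 = N16727 := rfl
theorem L142639 : sm gd N16727 = N11513 := ded_39_1 (flp_i L98524) L98518 L142636
theorem L142644 : sm gb N11514 = N16728 := rfl
theorem L142648 : sm gj N16728 = N11570 := ded_24_2 (flp_b L98998) (flp_j L98537) L142644
theorem L142651 : sm ge N11514 = N16729 := rfl
theorem L142653 : sm gc N16729 = N11515 := ded_28_1 (flp_e L98541) L98535 L142651
theorem L142666 : sm gf N11515 = N16731 := rfl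
theorem L142668 : sm gb N16731 = N16731 := ded_22_1 (flp_f L142666) L98543 L142666
theorem L142669 : sm gd N16731 = N11519 := ded_35_1 (flp_f L98573) (flp_d L98546) L142666
theorem L142671 : sm gj N16731 = N11573 := ded_46_2 (flp_f L99017) (flp_j L98544) L142666
theorem L142673 : sm gi N11515 = N16732 := rfl
theorem L142688 : sm gf N11517 = N16734 := rfl
theorem L142695 : sm gi N11517 = N16735 := rfl
theorem L142699 : sm ge N16735 = N11518 := ded_44_1 (flp_i L98563) L98555 L142695
theorem L142701 : sm gg N16735 = N11520 := ded_51_1 (flp_i L98582) (flp_g L98559) L142695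
theorem L142714 : sm gg N11519 = N16737 := rfl
theorem L142718 : sm ge N16737 = N11522 := ded_41_1 (flp_g L98600) (flp_e L98580) L142714
theorem L142721 : sm gi N11519 = N16738 := rfl
theorem L142727 : sm gf N16738 = N11520 := ded_48_1 (flp_i L98582) L98573 L142721
theorem L142729 : sm gj N16738 = N11577 := ded_53_1 (flp_i L99043) (flp_j L98577) L142721
theorem L142731 : sm gh N11520 = N16739 := rfl
theorem L142740 : sm gj N11522 = N16740 := rfl
theorem L142746 : sm gg N16740 = N11579 := ded_49_1 (flp_j L99059) (flp_g L68596) (flp_j L68272) L98600 L142740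
theorem L142748 : sm gi N11522 = N16741 := rfl
theorem L142753 : sm gg N16741 = N11523 := ded_51_1 (flp_i L98606) L98600 L142748
theorem L142755 : sm gh N11523 = N16742 := rfl
theorem L142761 : sm gj N16742 = N11581 := ded_52_1 (flp_h L99074) (flp_j L98612) L142755
theorem L142764 : sm gd N11524 = N16743 := rfl
theorem L142772 : sm gc N11525 = N16744 := rfl
theorem L142774 : sm gf N16744 = N11527 := ded_29_2 (flp_c L98641) (flp_f L98628) L142772
theorem L142795 : sm gb N11527 = N16747 := rfl
theorem L142798 : sm gg N16747 = N11529 := ded_23_2 (flp_b L98658) (flp_g L98644) L142795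
theorem L142802 : sm gc N16747 = N11535 := ded_19_2 (flp_b L98708) (flp_c L68353) (flp_b L68303) L98641 L142795
theorem L142804 : sm gi N11527 = N16748 := rfl
theorem L142809 : sm gg N16748 = N11530 := ded_51_1 (flp_i L98666) (flp_g L98644) L142804
theorem L142822 : sm ga N11529 = N16750 := rfl
theorem L142839 : sm gh N11530 = N16752 := rfl
theorem L142844 : sm gj N16752 = N11585 := ded_52_1 (flp_h L99103) (flp_j L98671) L142839
theorem L142847 : sm gb N11532 = N16753 := rfl
theorem L142850 : sm gf N16753 = N11535 := ded_22_2 (flp_b L98708) (flp_f L98686) L142847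
theorem L142863 : sm gi N11532 = N16755 := rfl
theorem L142865 : sm ga N16755 = N13119 := ded_18_1 (flp_i L111728) (flp_a L98684) L142863
theorem L142870 : sm gf N16755 = N11536 := ded_48_1 (flp_i L98716) (flp_f L98686) L142863
theorem L142882 : sm gh N11534 = N16757 := rfl
theorem L142886 : sm gf N16757 = N11537 := ded_47_1 (flp_h L98727) (flp_f L98705) L142882
theorem L142891 : sm ga N11535 = N16758 := rfl
theorem L142895 : sm gg N16758 = N11538 := ded_15_2 (flp_a L98737) (flp_g L98712) L142891
theorem L142901 : sm gi N11535 = N16759 := rfl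
theorem L142907 : sm gg N16759 = N11539 := ded_51_1 (flp_i L98746) (flp_g L98712) L142901
theorem L142910 : sm gh N11536 = N16760 := rfl
theorem L142917 : sm gg N16760 = N11540 := ded_50_1 (flp_h L98754) (flp_g L98724) L142910
theorem L142921 : sm gi N11538 = N16761 := rfl
theorem L142923 : sm ga N16761 = N11539 := ded_18_1 (flp_i L98746) L98737 L142921
theorem L142931 : sm gh N11539 = N16762 := rfl
theorem L142936 : sm gj N16762 = N11587 := ded_52_1 (flp_h L99119) (flp_j L98752) L142931
theorem L142948 : sm gh N11541 = N16764 := rfl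
theorem L142952 : sm gc N16764 = N11542 := ded_32_1 (flp_h L98773) L98764 L142948
theorem L142956 : sm gd N11542 = N16765 := rfl
theorem L142959 : sm gb N16765 = N11553 := ded_20_1 (flp_d L98867) (flp_b L98776) L142956
theorem L142962 : sm gh N16765 = N11543 := ded_38_2 (flp_d L98780) (flp_h L68407) L68399 L98773 L142956
theorem L142964 : sm gi N11542 = N16766 := rfl
theorem L142967 : sm gb N16766 = N11554 := ded_26_1 (flp_i L98874) (flp_b L98776) L142964
theorem L142972 : sm gc N11543 = N16767 := rfl
theorem L142976 : sm gd N16767 = N13131 := ded_27_2 (flp_c L111825) (flp_d L77370) (flp_c L68412) L98780 L142972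
theorem L142978 : sm ge N11543 = N16768 := rfl
theorem L142984 : sm gd N16768 = N11546 := ded_34_1 (flp_e L98807) (flp_d L68417) (flp_e L68414) L98780 L142978
theorem L142986 : sm gi N11543 = N16769 := rfl
theorem L142994 : sm ge N11545 = N16770 := rfl
theorem L142998 : sm gc N16770 = N11546 := ded_28_1 (flp_e L98807) L98797 L142994
theorem L143013 : sm gf N11546 = N16772 := rfl
theorem L143019 : sm ge N16772 = N11550 := ded_40_1 (flp_f L98843) (flp_e L68446) (flp_f L68422) L98807 L143013
theorem L143021 : sm gi N11546 = N16773 := rfl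
theorem L143026 : sm ge N16773 = N11547 := ded_44_1 (flp_i L98814) L98807 L143021
theorem L143029 : sm gh N11547 = N16774 := rfl
theorem L143039 : sm gd N11548 = N16775 := rfl
theorem L143043 : sm gg N16775 = N11589 := ded_36_2 (flp_d L99134) (flp_g L98830) L143039
theorem L143045 : sm ge N16775 = N13139 := ded_34_2 (flp_d L111891) (flp_e L77412) (flp_d L68444) L98824 L143039
theorem L143047 : sm gf N11548 = N16776 := rfl
theorem L143051 : sm gc N16776 = N11550 := ded_29_1 (flp_f L98843) (flp_c L98828) L143047
theorem L143064 : sm gh N11549 = N16778 := rfl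
theorem L143073 : sm gg N11550 = N16779 := rfl
theorem L143081 : sm gi N11550 = N16780 := rfl
theorem L143098 : sm gc N11553 = N16782 := rfl
theorem L143106 : sm ge N11553 = N16783 := rfl
theorem L143108 : sm ga N16783 = N11568 := ded_13_1 (flp_e L98985) (flp_a L98869) L143106
theorem L143114 : sm gi N11553 = N16784 := rfl
theorem L143118 : sm gd N16784 = N11554 := ded_39_1 (flp_i L98874) L98867 L143114
theorem L143121 : sm gb N11555 = N16785 := rfl
theorem L143126 : sm ge N11555 = N16786 := rfl
theorem L143128 : sm ga N16786 = N11571 := ded_13_1 (flp_e L99004) (flp_a L98884) L143126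
theorem L143130 : sm gc N16786 = N11556 := ded_28_1 (flp_e L98889) L98882 L143126
theorem L143143 : sm gf N11556 = N16788 := rfl
theorem L143145 : sm ga N16788 = N11573 := ded_14_1 (flp_f L99017) (flp_a L98891) L143143
theorem L143147 : sm gd N16788 = N11558 := ded_35_1 (flp_f L98903) (flp_d L98894) L143143
theorem L143164 : sm gg N11558 = N16791 := rfl
theorem L143166 : sm ga N16791 = N11576 := ded_15_1 (flp_g L99035) (flp_a L98905) L143164
theorem L143173 : sm gi N11558 = N16792 := rfl
theorem L143191 : sm gj N11561 = N16794 := rfl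
theorem L143193 : sm ga N16794 = N11579 := ded_16_1 (flp_j L99059) (flp_a L98931) L143191
theorem L143216 : sm gd N11563 = N16797 := rfl
theorem L143250 : sm gb N11567 = N16801 := rfl
theorem L143254 : sm gh N16801 = N11570 := ded_25_2 (flp_b L98998) (flp_h L98982) L143250
theorem L143257 : sm ge N11567 = N16802 := rfl
theorem L143259 : sm gc N16802 = N11568 := ded_28_1 (flp_e L98985) L98979 L143257
theorem L143262 : sm gh N16802 = N11571 := ded_43_2 (flp_e L99004) (flp_h L98982) L143257
theorem L143264 : sm gi N11567 = N16803 := rfl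
theorem L143266 : sm gc N16803 = N11569 := ded_33_1 (flp_i L98992) L98979 L143264
theorem L143270 : sm gf N11568 = N16804 := rfl
theorem L143272 : sm gb N16804 = N16804 := ded_22_1 (flp_f L143270) L98987 L143270
theorem L143273 : sm gd N16804 = N16804 := ded_35_1 (flp_f L143270) L98991 L143270
theorem L143274 : sm gh N16804 = N11573 := ded_47_2 (flp_f L99017) (flp_h L98989) L143270
theorem L143276 : sm gi N11568 = N16805 := rfl
theorem L143280 : sm ge N16805 = N11569 := ded_44_1 (flp_i L98992) L98985 L143276
theorem L143290 : sm ga N11570 = N16807 := rfl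
theorem L143293 : sm gd N16807 = N11583 := ded_12_2 (flp_a L99088) (flp_d L99000) L143290
theorem L143296 : sm ge N11570 = N16808 := rfl
theorem L143298 : sm gb N16808 = N11571 := ded_21_1 (flp_e L99004) L98998 L143296
theorem L143303 : sm gi N11570 = N16809 := rfl
theorem L143305 : sm gb N16809 = N11572 := ded_26_1 (flp_i L99010) L98998 L143303
theorem L143311 : sm gf N11571 = N16810 := rfl
theorem L143313 : sm gc N16810 = N11573 := ded_29_1 (flp_f L99017) (flp_c L99006) L143311
theorem L143324 : sm gh N11572 = N16812 := rfl
theorem L143329 : sm gg N11573 = N16813 := rfl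
theorem L143331 : sm gb N16813 = N16813 := ded_23_1 (flp_g L143329) L99019 L143329
theorem L143332 : sm gd N16813 = N11576 := ded_36_1 (flp_g L99035) (flp_d L99020) L143329
theorem L143334 : sm gf N16813 = N16813 := ded_45_1 (flp_g L143329) (flp_f L99017) L68564 L99017 L143329
theorem L143335 : sm gi N11573 = N16814 := rfl
theorem L143338 : sm gd N16814 = N11577 := ded_39_1 (flp_i L99043) (flp_d L99020) L143335
theorem L143348 : sm gj N11576 = N16816 := rfl
theorem L143352 : sm ge N16816 = N11579 := ded_42_1 (flp_j L99059) (flp_e L99039) L143348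
theorem L143356 : sm gi N11576 = N16817 := rfl
theorem L143365 : sm gh N11577 = N16818 := rfl
theorem L143380 : sm gi N11579 = N16820 := rfl
theorem L143397 : sm gd N11581 = N16822 := rfl
theorem L143400 : sm gf N16822 = N11582 := ded_35_2 (flp_d L99081) (flp_f L99078) L143397
theorem L143403 : sm gc N11582 = N16823 := rfl
theorem L143406 : sm gg N16823 = N11603 := ded_30_2 (flp_c L99249) (flp_g L99084) L143403
theorem L143427 : sm gd N11585 = N16826 := rfl
theorem L143441 : sm gd N11587 = N16828 := rfl
theorem L143464 : sm gh N11589 = N16831 := rfl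
theorem L143472 : sm gi N11589 = N16832 := rfl
theorem L143527 : sm gi N11593 = N16838 := rfl
theorem L143530 : sm gb N16838 = N11597 := ded_26_1 (flp_i L99201) (flp_b L99171) L143527
theorem L143533 : sm gg N16838 = N11594 := ded_51_1 (flp_i L99175) L99168 L143527
theorem L143535 : sm gh N11594 = N16839 := rfl
theorem L143541 : sm gf N16839 = N11595 := ded_47_1 (flp_h L99184) (flp_f L99181) L143535
theorem L143571 : sm gd N11598 = N16843 := rfl
theorem L143587 : sm gh N11600 = N16845 := rfl
theorem L143593 : sm gj N16845 = N11601 := ded_52_1 (flp_h L99234) (flp_j L99232) L143587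
theorem L143596 : sm gd N11601 = N16846 := rfl
theorem L143599 : sm gg N16846 = N11602 := ded_36_2 (flp_d L99242) (flp_g L99239) L143596
theorem L143602 : sm gc N11602 = N16847 := rfl
theorem L143604 : sm gf N16847 = N11603 := ded_29_2 (flp_c L99249) (flp_f L99245) L143602
theorem L143623 : sm gd N11604 = N16850 := rfl
theorem L143625 : sm ga N16850 = N16850 := ded_12_1 (flp_d L143623) L99257 L143623
theorem L143626 : sm gb N16850 = N16850 := ded_20_1 (flp_d L143623) L99258 L143623
theorem L143627 : sm gf N16850 = N16850 := ded_35_2 (flp_d L143623) L99263 L143623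
theorem L143628 : sm gg N16850 = N16850 := ded_36_2 (flp_d L143623) L99261 L143623
theorem L143629 : sm gj N16850 = N16850 := ded_37_2 (flp_d L143623) L99262 L143623
theorem L143630 : sm gc N16850 = N16850 := ded_27_1 (flp_d L143623) L99259 L68797 (flp_c L99259) L143623
theorem L143631 : sm ge N16850 = N16850 := ded_34_2 (flp_d L143623) (flp_e L99255) L68766 L99255 L143623
theorem L143632 : sm gh N16850 = N16850 := ded_56_7 L143627 L143631 (flp_d L143623) L99259 L68793 (flp_a L62375) L90106 L90114 L90112 L62393 L62388 L62387 L62385 (flp_h L47818) (flp_f L33273) L23210 (flp_d L23204) L16227 L11367 (flp_a L14690) L14695 L21009 L21016 L21013 (flp_c L30115) L30114 L30112 L23216 (flp_f L23211) (flp_e L16225) L11364 (flp_c L11357) L7955 (flp_a L10278) L10284 L10280 L14688 L14696 (flp_c L20991) L20990 L20988 L16232 L23211 L23217 (flp_d L33276) L33275 (flp_b L47750) L47749 L68799 L68804 L47761 L47765 (flp_c L68773) L68772 L68771 (flp_h L68769) L68760 L99255 L143623 L143630 L143626 L143625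
theorem L143633 : sm gh N11604 = N16851 := rfl
theorem L143635 : sm ga N16851 = N16851 := ded_17_1 (flp_h L143633) L99257 L143633
theorem L143636 : sm gb N16851 = N16851 := ded_25_1 (flp_h L143633) L99258 L143633
theorem L143637 : sm gc N16851 = N11610 := ded_32_1 (flp_h L99314) (flp_c L99259) L143633
theorem L143639 : sm ge N16851 = N11605 := ded_43_1 (flp_h L99264) L99255 L143633
theorem L143641 : sm gf N16851 = N16851 := ded_47_1 (flp_h L143633) L99263 L143633
theorem L143642 : sm gg N16851 = N16851 := ded_50_1 (flp_h L143633) L99261 L143633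
theorem L143643 : sm gj N16851 = N16851 := ded_52_1 (flp_h L143633) L99262 L143633
theorem L143644 : sm gd N16851 = N16851 := ded_38_1 (flp_h L143633) L143623 L143632 (flp_d L143623) L143633
theorem L143645 : sm gi N11604 = N16852 := rfl
theorem L143648 : sm gb N16852 = N16852 := ded_26_1 (flp_i L143645) L99258 L143645
theorem L143651 : sm ge N16852 = N11606 := ded_44_1 (flp_i L99274) L99255 L143645
theorem L143656 : sm gd N11605 = N16853 := rfl
theorem L143658 : sm ga N16853 = N16853 := ded_12_1 (flp_d L143656) L99266 L143656
theorem L143659 : sm gb N16853 = N16853 := ded_20_1 (flp_d L143656) L99267 L143656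
theorem L143660 : sm gf N16853 = N11607 := ded_35_2 (flp_d L99285) (flp_f L99270) L143656
theorem L143662 : sm gg N16853 = N16853 := ded_36_2 (flp_d L143656) L99272 L143656
theorem L143663 : sm gj N16853 = N16853 := ded_37_2 (flp_d L143656) L99273 L143656
theorem L143664 : sm gc N16853 = N16853 := ded_27_1 (flp_d L143656) L99268 L68808 (flp_c L99268) L143656
theorem L143665 : sm ge N16853 = N16853 := ded_34_2 (flp_d L143656) (flp_e L143639) L143644 L143639 L143656
theorem L143666 : sm gh N16853 = N16853 := ded_38_2 (flp_d L143656) (flp_h L99264) L68766 L99264 L143656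
theorem L143667 : sm gi N11605 = N16854 := rfl
theorem L143671 : sm gc N16854 = N11612 := ded_33_1 (flp_i L99335) (flp_c L99268) L143667
theorem L143677 : sm gh N11606 = N16855 := rfl
theorem L143681 : sm gc N16855 = N11613 := ded_32_1 (flp_h L99345) (flp_c L99278) L143677
theorem L143683 : sm gf N16855 = N11609 := ded_47_1 (flp_h L99304) (flp_f L99281) L143677
theorem L143687 : sm ge N11607 = N16856 := rfl
theorem L143689 : sm ga N16856 = N16856 := ded_13_1 (flp_e L143687) L99287 L143687
theorem L143690 : sm gb N16856 = N16856 := ded_21_1 (flp_e L143687) L99288 L143687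
theorem L143691 : sm gc N16856 = N16856 := ded_28_1 (flp_e L143687) L99292 L143687
theorem L143692 : sm gg N16856 = N11682 := ded_41_2 (flp_e L99933) (flp_g L99289) L143687
theorem L143694 : sm gj N16856 = N16856 := ded_42_2 (flp_e L143687) L99291 L143687
theorem L143695 : sm gh N16856 = N16856 := ded_43_2 (flp_e L143687) L99293 L143687
theorem L143696 : sm gd N16856 = N16856 := ded_34_1 (flp_e L143687) (flp_d L99285) L68775 L99285 L143687
theorem L143697 : sm gf N16856 = N16856 := ded_40_2 (flp_e L143687) (flp_f L143660) L143665 L143660 L143687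
theorem L143698 : sm gi N11607 = N16857 := rfl
theorem L143705 : sm gg N16857 = N11683 := ded_51_1 (flp_i L99942) (flp_g L99289) L143698
theorem L143708 : sm gh N11608 = N16858 := rfl
theorem L143715 : sm gg N16858 = N11684 := ded_50_1 (flp_h L99952) (flp_g L99301) L143708
theorem L143718 : sm gi N16858 = N11609 := ded_54_2 (flp_h L99304) (flp_i L68779) L68769 L99294 L143708
theorem L143720 : sm gd N11609 = N16859 := rfl
theorem L143728 : sm gd N11610 = N16860 := rfl
theorem L143730 : sm ga N16860 = N16860 := ded_12_1 (flp_d L143728) L99316 L143728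
theorem L143731 : sm gb N16860 = N11622 := ded_20_1 (flp_d L99434) (flp_b L99317) L143728
theorem L143733 : sm gf N16860 = N16860 := ded_35_2 (flp_d L143728) L99321 L143728
theorem L143734 : sm gg N16860 = N16860 := ded_36_2 (flp_d L143728) L99322 L143728
theorem L143735 : sm gj N16860 = N16860 := ded_37_2 (flp_d L143728) L99323 L143728
theorem L143736 : sm gc N16860 = N16860 := ded_27_1 (flp_d L143728) (flp_c L143637) L143644 L143637 L143728
theorem L143737 : sm ge N16860 = N16860 := ded_34_2 (flp_d L143728) L99319 L68808 (flp_e L99319) L143728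
theorem L143738 : sm gh N16860 = N16860 := ded_38_2 (flp_d L143728) (flp_h L99314) L68797 L99314 L143728
theorem L143739 : sm gi N11610 = N16861 := rfl
theorem L143742 : sm gb N16861 = N11623 := ded_26_1 (flp_i L99441) (flp_b L99317) L143739
theorem L143744 : sm ge N16861 = N11612 := ded_44_1 (flp_i L99335) (flp_e L99319) L143739
theorem L143749 : sm gh N11611 = N16862 := rfl
theorem L143752 : sm gb N16862 = N11624 := ded_25_1 (flp_h L99449) (flp_b L99327) L143749
theorem L143754 : sm ge N16862 = N11613 := ded_43_1 (flp_h L99345) (flp_e L99330) L143749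
theorem L143770 : sm gd N11613 = N16864 := rfl
theorem L143781 : sm gd N11614 = N16865 := rfl
theorem L143786 : sm gg N16865 = N11686 := ded_36_2 (flp_d L99972) (flp_g L99360) L143781
theorem L143789 : sm gi N16865 = N11615 := ded_39_2 (flp_d L99365) (flp_i L99363) L143781
theorem L143792 : sm gc N11615 = N16866 := rfl
theorem L143798 : sm gh N16866 = N11617 := ded_32_2 (flp_c L99385) (flp_h L99373) L143792
theorem L143838 : sm ge N11617 = N16871 := rfl
theorem L143843 : sm gg N16871 = N11690 := ded_41_2 (flp_e L100010) (flp_g L99388) L143838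
theorem L143868 : sm ge N11619 = N16874 := rfl
theorem L143870 : sm gb N16874 = N11620 := ded_21_1 (flp_e L99415) L99404 L143868
theorem L143874 : sm gg N16874 = N11693 := ded_41_2 (flp_e L100041) (flp_g L99408) L143868
theorem L143879 : sm gd N11620 = N16875 := rfl
theorem L143882 : sm gg N16875 = N11694 := ded_36_2 (flp_d L100051) (flp_g L99420) L143879
theorem L143887 : sm gf N11620 = N16876 := rfl
theorem L143890 : sm gc N16876 = N11621 := ded_29_1 (flp_f L99425) (flp_c L99418) L143887
theorem L143896 : sm gg N11621 = N16877 := rfl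
theorem L143906 : sm gc N11622 = N16878 := rfl
theorem L143908 : sm ge N16878 = N16878 := ded_28_2 (flp_c L143906) L99439 L143906
theorem L143909 : sm gf N16878 = N16878 := ded_29_2 (flp_c L143906) L99436 L143906
theorem L143910 : sm gg N16878 = N16878 := ded_30_2 (flp_c L143906) L99437 L143906
theorem L143911 : sm gj N16878 = N16878 := ded_31_2 (flp_c L143906) L99438 L143906
theorem L143912 : sm gh N16878 = N16878 := ded_32_2 (flp_c L143906) L99440 L143906
theorem L143913 : sm gb N16878 = N16878 := ded_19_1 (flp_c L143906) (flp_b L143731) L143736 L143731 L143906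
theorem L143914 : sm gd N16878 = N16878 := ded_27_2 (flp_c L143906) (flp_d L99434) L68882 L99434 L143906
theorem L143915 : sm gi N11622 = N16879 := rfl
theorem L143917 : sm gd N16879 = N11623 := ded_39_1 (flp_i L99441) L99434 L143915
theorem L143923 : sm gh N11623 = N16880 := rfl
theorem L143931 : sm gi N16880 = N11624 := ded_54_2 (flp_h L99449) (flp_i L68888) L68880 L99441 L143923
theorem L143933 : sm gd N11624 = N16881 := rfl
theorem L143939 : sm gd N11625 = N16882 := rfl
theorem L143941 : sm gf N16882 = N11627 := ded_35_2 (flp_d L99474) (flp_f L99460) L143939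
theorem L143945 : sm gi N16882 = N11626 := ded_39_2 (flp_d L99466) (flp_i L99464) L143939
theorem L143948 : sm gc N11626 = N16883 := rfl
theorem L143954 : sm gh N16883 = N11630 := ded_32_2 (flp_c L99498) (flp_h L99472) L143948
theorem L143957 : sm ge N11626 = N16884 := rfl
theorem L143961 : sm gh N16884 = N11631 := ded_43_2 (flp_e L99507) (flp_h L99472) L143957
theorem L143963 : sm gc N11627 = N16885 := rfl
theorem L143969 : sm gi N16885 = N11628 := ded_33_2 (flp_c L99482) (flp_i L99479) L143963
theorem L143972 : sm ge N11627 = N16886 := rfl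
theorem L143974 : sm gg N16886 = N11698 := ded_41_2 (flp_e L100087) (flp_g L99476) L143972
theorem L143978 : sm gi N16886 = N11629 := ded_44_2 (flp_e L99490) (flp_i L99479) L143972
theorem L143981 : sm gb N11628 = N16887 := rfl
theorem L143987 : sm gh N16887 = N11632 := ded_25_2 (flp_b L99513) (flp_h L99487) L143981
theorem L143989 : sm ge N11628 = N16888 := rfl
theorem L143993 : sm gg N16888 = N11700 := ded_41_2 (flp_e L100103) (flp_g L99484) L143989
theorem L143996 : sm gh N16888 = N11633 := ded_43_2 (flp_e L99521) (flp_h L99487) L143989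
theorem L144013 : sm ge N11630 = N16891 := rfl
theorem L144015 : sm gc N16891 = N11631 := ded_28_1 (flp_e L99507) L99498 L144013
theorem L144020 : sm gf N11631 = N16892 := rfl
theorem L144025 : sm ge N16892 = N11634 := ded_40_1 (flp_f L99529) (flp_e L68943) (flp_f L68930) L99507 L144020
theorem L144035 : sm ge N11632 = N16894 := rfl
theorem L144039 : sm gg N16894 = N11703 := ded_41_2 (flp_e L100127) (flp_g L99517) L144035
theorem L144043 : sm gd N11633 = N16895 := rfl
theorem L144051 : sm ge N16895 = N11645 := ded_34_2 (flp_d L99621) (flp_e L69000) (flp_d L68941) L99521 L144043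
theorem L144059 : sm gg N11634 = N16897 := rfl
theorem L144061 : sm gd N16897 = N11639 := ded_36_1 (flp_g L99570) (flp_d L99531) L144059
theorem L144066 : sm ge N11635 = N16898 := rfl
theorem L144070 : sm gg N16898 = N11707 := ded_41_2 (flp_e L100157) (flp_g L99540) L144066
theorem L144075 : sm gd N11636 = N16899 := rfl
theorem L144079 : sm gg N16899 = N11708 := ded_36_2 (flp_d L100165) (flp_g L99549) L144075
theorem L144083 : sm ge N16899 = N11649 := ded_34_2 (flp_d L99656) (flp_e L69027) (flp_d L68953) L99545 L144075
theorem L144116 : sm gj N11639 = N16904 := rfl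
theorem L144119 : sm gf N16904 = N11713 := ded_46_1 (flp_j L100206) (flp_f L99575) L144116
theorem L144124 : sm ga N11640 = N16905 := rfl
theorem L144126 : sm gc N16905 = N16905 := ded_11_2 (flp_a L144124) L99585 L144124
theorem L144127 : sm gf N16905 = N11643 := ded_14_2 (flp_a L99603) (flp_f L99579) L144124
theorem L144133 : sm ge N11640 = N16906 := rfl
theorem L144135 : sm gb N16906 = N11641 := ded_21_1 (flp_e L99586) L99577 L144133
theorem L144142 : sm gd N11641 = N16907 := rfl
theorem L144147 : sm gc N16907 = N16907 := ded_27_1 (flp_d L144142) L99588 L68991 (flp_c L99588) L144142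
theorem L144148 : sm gf N11641 = N16908 := rfl
theorem L144150 : sm gc N16908 = N11642 := ded_29_1 (flp_f L99594) (flp_c L99588) L144148
theorem L144157 : sm gg N11642 = N16909 := rfl
theorem L144161 : sm ge N16909 = N11647 := ded_41_1 (flp_g L99636) (flp_e L99601) L144157
theorem L144166 : sm ge N11643 = N16910 := rfl
theorem L144170 : sm gc N16910 = N16910 := ded_28_1 (flp_e L144166) L99605 L144166
theorem L144192 : sm gf N11645 = N16913 := rfl
theorem L144194 : sm gc N16913 = N11651 := ded_29_1 (flp_f L99674) (flp_c L99627) L144192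
theorem L144196 : sm gd N16913 = N11646 := ded_35_1 (flp_f L99629) L99621 L144192
theorem L144208 : sm gg N11646 = N16915 := rfl
theorem L144210 : sm gc N16915 = N11647 := ded_30_1 (flp_g L99636) (flp_c L99631) L144208
theorem L144214 : sm gf N16915 = N11719 := ded_45_1 (flp_g L100256) (flp_f L69421) (flp_g L69004) L99629 L144208
theorem L144216 : sm gj N11647 = N16916 := rfl
theorem L144219 : sm gd N16916 = N11654 := ded_37_1 (flp_j L99697) (flp_d L99639) L144216
theorem L144221 : sm gf N16916 = N11720 := ded_46_1 (flp_j L100263) (flp_f L99643) L144216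
theorem L144244 : sm gc N11649 = N16919 := rfl
theorem L144251 : sm gf N11649 = N16920 := rfl
theorem L144253 : sm gb N16920 = N11651 := ded_22_1 (flp_f L99674) (flp_b L99658) L144251
theorem L144268 : sm gg N11650 = N16922 := rfl
theorem L144270 : sm gb N16922 = N11653 := ded_23_1 (flp_g L99687) (flp_b L99666) L144268
theorem L144273 : sm ge N16922 = N16922 := ded_41_1 (flp_g L144268) L99673 L144268
theorem L144274 : sm gh N16922 = N11660 := ded_50_2 (flp_g L99753) (flp_h L99670) L144268
theorem L144277 : sm gf N16922 = N11726 := ded_45_1 (flp_g L100315) (flp_f L69455) (flp_g L69032) L99664 L144268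
theorem L144279 : sm ge N11651 = N16923 := rfl
theorem L144291 : sm gh N11651 = N16925 := rfl
theorem L144317 : sm gc N11655 = N16928 := rfl
theorem L144322 : sm gg N16928 = N11732 := ded_30_2 (flp_c L100363) (flp_g L99711) L144317
theorem L144325 : sm gi N16928 = N11666 := ded_33_2 (flp_c L99805) (flp_i L99714) L144317
theorem L144328 : sm gf N11655 = N16929 := rfl
theorem L144330 : sm ga N16929 = N11658 := ded_14_1 (flp_f L99736) (flp_a L99709) L144328
theorem L144335 : sm gi N16929 = N11667 := ded_48_2 (flp_f L99814) (flp_i L99714) L144328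
theorem L144337 : sm gh N11655 = N16930 := rfl
theorem L144342 : sm gg N16930 = N11734 := ded_50_1 (flp_h L100383) (flp_g L99711) L144337
theorem L144355 : sm gf N11657 = N16932 := rfl
theorem L144357 : sm gb N16932 = N16932 := ded_22_1 (flp_f L144355) L99734 L144355
theorem L144362 : sm gi N16932 = N11670 := ded_48_2 (flp_f L99839) (flp_i L99732) L144355
theorem L144364 : sm gh N11657 = N16933 := rfl
theorem L144370 : sm gg N16933 = N11737 := ded_50_1 (flp_h L100409) (flp_g L99729) L144364
theorem L144373 : sm ge N11658 = N16934 := rfl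
theorem L144375 : sm gb N16934 = N11661 := ded_21_1 (flp_e L99763) (flp_b L99738) L144373
theorem L144378 : sm gi N16934 = N11672 := ded_44_2 (flp_e L99855) (flp_i L99743) L144373
theorem L144382 : sm gg N11658 = N16935 := rfl
theorem L144384 : sm gb N16935 = N11662 := ded_23_1 (flp_g L99771) (flp_b L99738) L144382
theorem L144388 : sm gi N16935 = N11673 := ded_51_2 (flp_g L99862) (flp_i L99743) L144382
theorem L144420 : sm gg N11661 = N16939 := rfl
theorem L144424 : sm ge N16939 = N11662 := ded_41_1 (flp_g L99771) L99763 L144420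
theorem L144426 : sm gi N16939 = N11677 := ded_51_2 (flp_g L99897) (flp_i L99767) L144420
theorem L144435 : sm gj N11662 = N16941 := rfl
theorem L144440 : sm gf N16941 = N11745 := ded_46_1 (flp_j L100481) (flp_f L99778) L144435
theorem L144442 : sm gi N16941 = N11679 := ded_53_2 (flp_j L99910) (flp_i L99776) L144435
theorem L144445 : sm gh N11662 = N16942 := rfl
theorem L144460 : sm gb N11666 = N16944 := rfl
theorem L144464 : sm gg N16944 = N11748 := ded_23_2 (flp_b L100504) (flp_g L99810) L144460
theorem L144476 : sm gh N11666 = N16946 := rfl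
theorem L144478 : sm ga N16946 = N11671 := ded_17_1 (flp_h L99846) (flp_a L99807) L144476
theorem L144483 : sm gg N16946 = N11750 := ded_50_1 (flp_h L100520) (flp_g L99810) L144476
theorem L144486 : sm ge N11667 = N16947 := rfl
theorem L144493 : sm gg N11667 = N16948 := rfl
theorem L144499 : sm gf N16948 = N11752 := ded_45_1 (flp_g L100538) (flp_f L69604) (flp_g L69129) L99814 L144493
theorem L144501 : sm gh N11667 = N16949 := rfl
theorem L144505 : sm gf N16949 = N11668 := ded_47_1 (flp_h L99821) L99814 L144501
theorem L144528 : sm ge N11670 = N16952 := rfl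
theorem L144531 : sm gc N16952 = N11672 := ded_28_1 (flp_e L99855) (flp_c L99842) L144528
theorem L144534 : sm gf N16952 = N16952 := ded_40_2 (flp_e L144528) (flp_f L99839) L69143 L99839 L144528
theorem L144535 : sm gg N11670 = N16953 := rfl
theorem L144541 : sm gf N16953 = N11757 := ded_45_1 (flp_g L100579) (flp_f L69628) (flp_g L69144) L99839 L144535
theorem L144543 : sm gh N11670 = N16954 := rfl
theorem L144545 : sm gb N16954 = N16954 := ded_25_1 (flp_h L144543) L99841 L144543
theorem L144546 : sm gc N16954 = N11674 := ded_32_1 (flp_h L99870) (flp_c L99842) L144543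
theorem L144548 : sm gf N16954 = N11671 := ded_47_1 (flp_h L99846) L99839 L144543
theorem L144551 : sm gd N11671 = N16955 := rfl
theorem L144554 : sm gg N16955 = N11759 := ded_36_2 (flp_d L100594) (flp_g L99852) L144551
theorem L144559 : sm gi N11671 = N16956 := rfl
theorem L144568 : sm gg N11672 = N16957 := rfl
theorem L144573 : sm ge N16957 = N11673 := ded_41_1 (flp_g L99862) L99855 L144568
theorem L144575 : sm gh N11672 = N16958 := rfl
theorem L144609 : sm gf N11677 = N16962 := rfl
theorem L144616 : sm gj N11677 = N16963 := rfl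
theorem L144620 : sm ge N16963 = N11679 := ded_42_1 (flp_j L99910) (flp_e L99901) L144616
theorem L144623 : sm gh N11677 = N16964 := rfl
theorem L144628 : sm gg N16964 = N11678 := ded_50_1 (flp_h L99903) L99897 L144623
theorem L144630 : sm gd N11678 = N16965 := rfl
theorem L144643 : sm gh N11679 = N16967 := rfl
theorem L144646 : sm gf N16967 = N11771 := ded_47_1 (flp_h L100688) (flp_f L99915) L144643
theorem L144649 : sm gj N16967 = N11680 := ded_52_1 (flp_h L99918) L99910 L144643
theorem L144652 : sm gi N11680 = N16968 := rfl
theorem L144660 : sm gf N11682 = N16969 := rfl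
theorem L144662 : sm ga N16969 = N16969 := ded_14_1 (flp_f L144660) L99935 L144660
theorem L144663 : sm gb N16969 = N16969 := ded_22_1 (flp_f L144660) L99936 L144660
theorem L144664 : sm gc N16969 = N16969 := ded_29_1 (flp_f L144660) L99937 L144660
theorem L144665 : sm gd N16969 = N16969 := ded_35_1 (flp_f L144660) L99941 L144660
theorem L144666 : sm gj N16969 = N11773 := ded_46_2 (flp_f L100702) (flp_j L99938) L144660
theorem L144668 : sm gh N16969 = N16969 := ded_47_2 (flp_f L144660) L99940 L144660
theorem L144669 : sm ge N16969 = N16969 := ded_40_1 (flp_f L144660) (flp_e L99933) L69215 L99933 L144660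
theorem L144670 : sm gg N16969 = N16969 := ded_45_2 (flp_f L144660) (flp_g L143692) L143697 L143692 L144660
theorem L144671 : sm gi N11682 = N16970 := rfl
theorem L144677 : sm ge N16970 = N11683 := ded_44_1 (flp_i L99942) L99933 L144671
theorem L144679 : sm gj N16970 = N11774 := ded_53_1 (flp_i L100710) (flp_j L99938) L144671
theorem L144681 : sm gh N11683 = N16971 := rfl
theorem L144689 : sm gi N16971 = N16971 := ded_54_2 (flp_h L144681) (flp_i L99942) L69219 L99942 L144681
theorem L144690 : sm gd N11684 = N16972 := rfl
theorem L144716 : sm gc N11686 = N16975 := rfl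
theorem L144720 : sm gj N16975 = N11779 := ded_31_2 (flp_c L100750) (flp_j L99978) L144716
theorem L144723 : sm gi N16975 = N11687 := ded_33_2 (flp_c L99983) (flp_i L99980) L144716
theorem L144736 : sm gb N11687 = N16977 := rfl
theorem L144741 : sm gh N16977 = N11689 := ded_25_2 (flp_b L100001) (flp_h L99989) L144736
theorem L144745 : sm ge N11687 = N16978 := rfl
theorem L144750 : sm gj N16978 = N11782 := ded_42_2 (flp_e L100776) (flp_j L99987) L144745
theorem L144752 : sm gh N16978 = N11690 := ded_43_2 (flp_e L100010) (flp_h L99989) L144745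
theorem L144765 : sm ga N11689 = N16980 := rfl
theorem L144769 : sm gd N16980 = N16980 := ded_12_2 (flp_a L144765) L100003 L144765
theorem L144775 : sm ge N11689 = N16981 := rfl
theorem L144777 : sm gb N16981 = N11690 := ded_21_1 (flp_e L100010) L100001 L144775
theorem L144784 : sm gd N11690 = N16982 := rfl
theorem L144787 : sm gj N16982 = N11786 := ded_37_2 (flp_d L100810) (flp_j L100015) L144784
theorem L144790 : sm gc N16982 = N11694 := ded_27_1 (flp_d L100051) L69293 (flp_d L69277) (flp_c L100013) L144784
theorem L144793 : sm gf N11690 = N16983 := rfl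
theorem L144822 : sm gd N11693 = N16986 := rfl
theorem L144824 : sm gb N16986 = N11694 := ded_20_1 (flp_d L100051) (flp_b L100043) L144822
theorem L144826 : sm gj N16986 = N11790 := ded_37_2 (flp_d L100845) (flp_j L100047) L144822
theorem L144829 : sm ge N16986 = N16986 := ded_34_2 (flp_d L144822) (flp_e L100041) L69281 L100041 L144822
theorem L144842 : sm gf N11694 = N16988 := rfl
theorem L144845 : sm gd N16988 = N11695 := ded_35_1 (flp_f L100058) L100051 L144842
theorem L144847 : sm gj N16988 = N11792 := ded_46_2 (flp_f L100862) (flp_j L100054) L144842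
theorem L144857 : sm gg N11695 = N16990 := rfl
theorem L144877 : sm gb N11697 = N16992 := rfl
theorem L144881 : sm gj N16992 = N11796 := ded_24_2 (flp_b L100894) (flp_j L100081) L144877
theorem L144884 : sm gi N16992 = N11699 := ded_26_2 (flp_b L100095) (flp_i L100084) L144877
theorem L144886 : sm ge N11697 = N16993 := rfl
theorem L144890 : sm gj N16993 = N11797 := ded_42_2 (flp_e L100902) (flp_j L100081) L144886
theorem L144893 : sm gi N16993 = N11700 := ded_44_2 (flp_e L100103) (flp_i L100084) L144886
theorem L144895 : sm gf N11698 = N16994 := rfl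
theorem L144898 : sm gj N16994 = N11798 := ded_46_2 (flp_f L100910) (flp_j L100089) L144895
theorem L144901 : sm gi N16994 = N11701 := ded_48_2 (flp_f L100111) (flp_i L100092) L144895
theorem L144904 : sm ga N11699 = N16995 := rfl
theorem L144908 : sm gj N16995 = N11799 := ded_16_2 (flp_a L100917) (flp_j L100099) L144904
theorem L144910 : sm gh N16995 = N11702 := ded_17_2 (flp_a L100119) (flp_h L100101) L144904
theorem L144920 : sm gd N11700 = N16997 := rfl
theorem L144935 : sm gg N11701 = N16999 := rfl
theorem L144941 : sm ge N11702 = N17000 := rfl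
theorem L144945 : sm gj N17000 = N11804 := ded_42_2 (flp_e L100950) (flp_j L100124) L144941
theorem L144965 : sm gf N11704 = N17003 := rfl
theorem L144971 : sm gj N17003 = N11807 := ded_46_2 (flp_f L100970) (flp_j L100136) L144965
theorem L144996 : sm gd N11707 = N17007 := rfl
theorem L145000 : sm gj N17007 = N11811 := ded_37_2 (flp_d L100998) (flp_j L100161) L144996
theorem L145003 : sm ge N17007 = N11721 := ded_34_2 (flp_d L100273) (flp_e L69438) (flp_d L69358) L100157 L144996
theorem L145005 : sm gf N11707 = N17008 := rfl
theorem L145009 : sm gj N17008 = N11812 := ded_46_2 (flp_f L101006) (flp_j L100161) L145005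
theorem L145015 : sm gc N11708 = N17009 := rfl
theorem L145019 : sm gj N17009 = N11813 := ded_31_2 (flp_c L101014) (flp_j L100169) L145015
theorem L145022 : sm gf N11708 = N17010 := rfl
theorem L145028 : sm gj N17010 = N11814 := ded_46_2 (flp_f L101020) (flp_j L100169) L145022
theorem L145087 : sm gd N11714 = N17018 := rfl
theorem L145091 : sm gj N17018 = N11822 := ded_37_2 (flp_d L101078) (flp_j L100219) L145087
theorem L145094 : sm gf N11714 = N17019 := rfl
theorem L145099 : sm gj N17019 = N11823 := ded_46_2 (flp_f L101084) (flp_j L100219) L145094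
theorem L145112 : sm gf N11715 = N17021 := rfl
theorem L145114 : sm gb N17021 = N11717 := ded_22_1 (flp_f L100240) (flp_b L100225) L145112
theorem L145118 : sm gj N17021 = N11825 := ded_46_2 (flp_f L101099) (flp_j L100227) L145112
theorem L145144 : sm gg N11717 = N17025 := rfl
theorem L145151 : sm gh N11717 = N17026 := rfl
theorem L145155 : sm gf N17026 = N11718 := ded_47_1 (flp_h L100249) L100240 L145151
theorem L145160 : sm gi N11718 = N17027 := rfl
theorem L145168 : sm gj N11719 = N17028 := rfl
theorem L145170 : sm gc N17028 = N11720 := ded_31_1 (flp_j L100263) (flp_c L100258) L145168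
theorem L145175 : sm gg N17028 = N11832 := ded_49_1 (flp_j L101149) (flp_g L70006) (flp_j L69425) L100256 L145168
theorem L145177 : sm gc N11721 = N17029 := rfl
theorem L145179 : sm ga N17029 = N11723 := ded_11_1 (flp_c L100292) (flp_a L100275) L145177
theorem L145185 : sm gf N11721 = N17030 := rfl
theorem L145191 : sm gj N17030 = N11834 := ded_46_2 (flp_f L101164) (flp_j L100277) L145185
theorem L145202 : sm gg N11722 = N17032 := rfl
theorem L145212 : sm gf N11723 = N17033 := rfl
theorem L145214 : sm gc N17033 = N11724 := ded_29_1 (flp_f L100298) L100292 L145212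
theorem L145217 : sm gj N17033 = N11837 := ded_46_2 (flp_f L101189) (flp_j L100294) L145212
theorem L145220 : sm gh N11723 = N17034 := rfl
theorem L145224 : sm gj N17034 = N11838 := ded_52_1 (flp_h L101195) (flp_j L100294) L145220
theorem L145226 : sm ge N11724 = N17035 := rfl
theorem L145230 : sm gj N17035 = N11839 := ded_42_2 (flp_e L101200) (flp_j L100304) L145226
theorem L145235 : sm gg N11724 = N17036 := rfl
theorem L145237 : sm gb N17036 = N11728 := ded_23_1 (flp_g L100332) (flp_b L100300) L145235
theorem L145261 : sm gj N11726 = N17039 := rfl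
theorem L145263 : sm gb N17039 = N11731 := ded_24_1 (flp_j L100352) (flp_b L100317) L145261
theorem L145268 : sm gh N17039 = N11742 := ded_52_2 (flp_j L100453) (flp_h L100322) L145261
theorem L145286 : sm gj N11728 = N17042 := rfl
theorem L145293 : sm gh N11728 = N17043 := rfl
theorem L145308 : sm gb N11732 = N17045 := rfl
theorem L145312 : sm gj N17045 = N11849 := ded_24_2 (flp_b L101273) (flp_j L100368) L145308
theorem L145314 : sm gi N17045 = N11748 := ded_26_2 (flp_b L100504) (flp_i L100370) L145308
theorem L145317 : sm gf N11732 = N17046 := rfl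
theorem L145323 : sm gd N17046 = N17046 := ded_35_1 (flp_f L145317) L100372 L145317
theorem L145324 : sm gj N17046 = N11850 := ded_46_2 (flp_f L101281) (flp_j L100368) L145317
theorem L145328 : sm gh N11732 = N17047 := rfl
theorem L145335 : sm gj N17047 = N11851 := ded_52_1 (flp_h L101290) (flp_j L100368) L145328
theorem L145337 : sm ge N11733 = N17048 := rfl
theorem L145341 : sm gj N17048 = N11852 := ded_42_2 (flp_e L101298) (flp_j L100379) L145337
theorem L145343 : sm gi N17048 = N11751 := ded_44_2 (flp_e L100529) (flp_i L100381) L145337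
theorem L145345 : sm gd N17048 = N11947 := ded_34_1 (flp_e L102069) L70620 (flp_e L69517) (flp_d L100377) L145337
theorem L145348 : sm gg N11733 = N17049 := rfl
theorem L145354 : sm gi N17049 = N11752 := ded_51_2 (flp_g L100538) (flp_i L100381) L145348
theorem L145364 : sm gi N11734 = N17051 := rfl
theorem L145371 : sm gh N17051 = N11754 := ded_54_1 (flp_i L100553) (flp_h L69612) (flp_i L69505) L100383 L145364
theorem L145384 : sm ge N11736 = N17053 := rfl
theorem L145387 : sm gc N17053 = N11738 := ded_28_1 (flp_e L100417) (flp_c L100402) L145384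
theorem L145389 : sm gj N17053 = N11857 := ded_42_2 (flp_e L101340) (flp_j L100405) L145384
theorem L145391 : sm gi N17053 = N11756 := ded_44_2 (flp_e L100571) (flp_i L100407) L145384
theorem L145394 : sm gg N11736 = N17054 := rfl
theorem L145400 : sm gi N17054 = N11757 := ded_51_2 (flp_g L100579) (flp_i L100407) L145394
theorem L145427 : sm gg N11738 = N17058 := rfl
theorem L145435 : sm gi N17058 = N11761 := ded_51_2 (flp_g L100609) (flp_i L100423) L145427
theorem L145437 : sm gh N11738 = N17059 := rfl
theorem L145444 : sm gj N17059 = N11863 := ded_52_1 (flp_h L101388) (flp_j L100421) L145437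
theorem L145462 : sm gi N11740 = N17062 := rfl
theorem L145470 : sm gh N17062 = N11765 := ded_54_1 (flp_i L100641) (flp_h L69659) (flp_i L69536) L100436 L145462
theorem L145472 : sm gf N11743 = N17063 := rfl
theorem L145474 : sm gc N17063 = N17063 := ded_29_1 (flp_f L145472) L100466 L145472
theorem L145480 : sm gj N11743 = N17064 := rfl
theorem L145483 : sm gd N17064 = N11963 := ded_37_1 (flp_j L102219) (flp_d L100467) L145480
theorem L145489 : sm gg N17064 = N11868 := ded_49_1 (flp_j L101428) (flp_g L70192) (flp_j L69557) L100464 L145480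
theorem L145498 : sm gd N11744 = N17066 := rfl
theorem L145503 : sm gh N17066 = N11965 := ded_38_2 (flp_d L102237) (flp_h L70717) (flp_d L69561) L100473 L145498
theorem L145529 : sm gf N11748 = N17070 := rfl
theorem L145535 : sm gj N17070 = N11874 := ded_46_2 (flp_f L101471) (flp_j L100508) L145529
theorem L145537 : sm gh N11748 = N17071 := rfl
theorem L145539 : sm ga N17071 = N17071 := ded_17_1 (flp_h L145537) L100510 L145537
theorem L145543 : sm gj N17071 = N11875 := ded_52_1 (flp_h L101477) (flp_j L100508) L145537
theorem L145545 : sm ge N11749 = N17072 := rfl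
theorem L145549 : sm gc N17072 = N11751 := ded_28_1 (flp_e L100529) (flp_c L100515) L145545
theorem L145554 : sm gg N11749 = N17073 := rfl
theorem L145561 : sm gh N11749 = N17074 := rfl
theorem L145563 : sm ga N17074 = N11758 := ded_17_1 (flp_h L100585) (flp_a L100513) L145561
theorem L145569 : sm gj N17074 = N11878 := ded_52_1 (flp_h L101499) (flp_j L100518) L145561
theorem L145588 : sm gg N11751 = N17077 := rfl
theorem L145594 : sm ge N17077 = N11752 := ded_41_1 (flp_g L100538) L100529 L145588
theorem L145596 : sm gh N11751 = N17078 := rfl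
theorem L145598 : sm ga N17078 = N11762 := ded_17_1 (flp_h L100617) (flp_a L100531) L145596
theorem L145600 : sm ge N17078 = N11753 := ded_43_1 (flp_h L100544) L100529 L145596
theorem L145603 : sm gj N17078 = N11882 := ded_52_1 (flp_h L101530) (flp_j L100533) L145596
theorem L145613 : sm gh N11752 = N17080 := rfl
theorem L145629 : sm gd N11756 = N17082 := rfl
theorem L145633 : sm gj N17082 = N11886 := ded_37_2 (flp_d L101559) (flp_j L100576) L145629
theorem L145638 : sm gg N11756 = N17083 := rfl
theorem L145641 : sm gc N17083 = N11761 := ded_30_1 (flp_g L100609) (flp_c L100574) L145638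
theorem L145645 : sm gh N11756 = N17084 := rfl
theorem L145650 : sm ge N17084 = N11758 := ded_43_1 (flp_h L100585) L100571 L145645
theorem L145653 : sm gj N17084 = N11888 := ded_52_1 (flp_h L101573) (flp_j L100576) L145645
theorem L145655 : sm gj N11757 = N17085 := rfl
theorem L145663 : sm gh N11757 = N17086 := rfl
theorem L145670 : sm gd N11758 = N17087 := rfl
theorem L145673 : sm gf N17087 = N11759 := ded_35_2 (flp_d L100594) (flp_f L100590) L145670
theorem L145675 : sm gj N17087 = N11891 := ded_37_2 (flp_d L101596) (flp_j L100592) L145670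
theorem L145679 : sm gi N11758 = N17088 := rfl
theorem L145682 : sm gc N17088 = N11765 := ded_33_1 (flp_i L100641) (flp_c L100588) L145679
theorem L145686 : sm gj N17088 = N11892 := ded_53_1 (flp_i L101603) (flp_j L100592) L145679
theorem L145696 : sm gi N11759 = N17090 := rfl
theorem L145702 : sm gj N17090 = N11894 := ded_53_1 (flp_i L101617) (flp_j L100597) L145696
theorem L145704 : sm gf N11761 = N17091 := rfl
theorem L145708 : sm gd N17091 = N11990 := ded_35_1 (flp_f L102463) (flp_d L100613) L145704
theorem L145711 : sm gj N11761 = N17092 := rfl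
theorem L145715 : sm gd N17092 = N11991 := ded_37_1 (flp_j L102469) (flp_d L100613) L145711
theorem L145717 : sm ge N17092 = N11763 := ded_42_1 (flp_j L100626) (flp_e L100615) L145711
theorem L145719 : sm gg N17092 = N11896 := ded_49_1 (flp_j L101632) (flp_g L70319) (flp_j L69648) L100609 L145711
theorem L145721 : sm gh N11761 = N17093 := rfl
theorem L145729 : sm gd N11762 = N17094 := rfl
theorem L145734 : sm gj N17094 = N11898 := ded_37_2 (flp_d L101648) (flp_j L100624) L145729
theorem L145737 : sm gh N17094 = N11993 := ded_38_2 (flp_d L102485) (flp_h L70875) (flp_d L69650) L100617 L145729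
theorem L145739 : sm gi N11762 = N17095 := rfl
theorem L145748 : sm gh N11763 = N17096 := rfl
theorem L145750 : sm gb N17096 = N11771 := ded_25_1 (flp_h L100688) (flp_b L100628) L145748
theorem L145764 : sm gj N11766 = N17098 := rfl
theorem L145767 : sm gd N17098 = N11997 := ded_37_1 (flp_j L102520) (flp_d L100653) L145764
theorem L145771 : sm gh N11766 = N17099 := rfl
theorem L145786 : sm gd N11768 = N17101 := rfl
theorem L145788 : sm gg N17101 = N11769 := ded_36_2 (flp_d L100672) (flp_g L100670) L145786
theorem L145791 : sm gh N17101 = N12000 := ded_38_2 (flp_d L102545) (flp_h L70924) (flp_d L69689) L100665 L145786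
theorem L145800 : sm gc N11769 = N17103 := rfl
theorem L145804 : sm gj N17103 = N11907 := ded_31_2 (flp_c L101715) (flp_j L100675) L145800
theorem L145806 : sm gh N17103 = N12002 := ded_32_2 (flp_c L102558) (flp_h L100678) L145800
theorem L145809 : sm gi N11769 = N17104 := rfl
theorem L145817 : sm gi N11771 = N17105 := rfl
theorem L145825 : sm gg N11773 = N17106 := rfl
theorem L145827 : sm ga N17106 = N17106 := ded_15_1 (flp_g L145825) L100704 L145825
theorem L145828 : sm gb N17106 = N17106 := ded_23_1 (flp_g L145825) L100705 L145825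
theorem L145829 : sm gc N17106 = N17106 := ded_30_1 (flp_g L145825) L100706 L145825
theorem L145830 : sm gd N17106 = N17106 := ded_36_1 (flp_g L145825) L100707 L145825
theorem L145831 : sm ge N17106 = N17106 := ded_41_1 (flp_g L145825) L100709 L145825
theorem L145832 : sm gh N17106 = N17106 := ded_50_2 (flp_g L145825) L100708 L145825
theorem L145833 : sm gf N17106 = N17106 := ded_45_1 (flp_g L145825) (flp_f L100702) L69727 L100702 L145825
theorem L145834 : sm gj N17106 = N17106 := ded_49_2 (flp_g L145825) (flp_j L144666) L144670 L144666 L145825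
theorem L145835 : sm gi N11773 = N17107 := rfl
theorem L145844 : sm gh N11774 = N17108 := rfl
theorem L145849 : sm ge N17108 = N11775 := ded_43_1 (flp_h L100719) (flp_e L100716) L145844
theorem L145853 : sm gd N11775 = N17109 := rfl
theorem L145859 : sm gi N17109 = N17109 := ded_39_2 (flp_d L145853) L100726 L145853
theorem L145860 : sm gh N17109 = N11776 := ded_38_2 (flp_d L100727) (flp_h L69739) (flp_d L69735) L100719 L145853
theorem L145862 : sm gc N11776 = N17110 := rfl
theorem L145867 : sm gi N17110 = N11777 := ded_33_2 (flp_c L100735) (flp_i L100733) L145862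
theorem L145879 : sm gb N11777 = N17112 := rfl
theorem L145881 : sm gd N17112 = N11781 := ded_20_2 (flp_b L100768) (flp_d L100741) L145879
theorem L145885 : sm gh N17112 = N17112 := ded_25_2 (flp_b L145879) L100740 L145879
theorem L145901 : sm gb N11779 = N17115 := rfl
theorem L145908 : sm gc N17115 = N11796 := ded_19_2 (flp_b L100894) (flp_c L69852) (flp_b L69760) L100750 L145901
theorem L145910 : sm ge N11779 = N17116 := rfl
theorem L145917 : sm gi N17116 = N11782 := ded_44_2 (flp_e L100776) (flp_i L100756) L145910
theorem L145929 : sm ga N11781 = N17118 := rfl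
theorem L145935 : sm gh N17118 = N11784 := ded_17_2 (flp_a L100793) (flp_h L100772) L145929
theorem L145938 : sm ge N11781 = N17119 := rfl
theorem L145940 : sm gb N17119 = N11782 := ded_21_1 (flp_e L100776) L100768 L145938
theorem L145942 : sm gc N17119 = N11800 := ded_28_1 (flp_e L100924) (flp_c L100774) L145938
theorem L145945 : sm gh N17119 = N11785 := ded_43_2 (flp_e L100802) (flp_h L100772) L145938
theorem L145947 : sm gd N11782 = N17120 := rfl
theorem L145952 : sm gf N11782 = N17121 := rfl
theorem L145957 : sm gh N17121 = N11787 := ded_47_2 (flp_f L100818) (flp_h L100782) L145952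
theorem L145970 : sm ge N11784 = N17123 := rfl
theorem L145972 : sm ga N17123 = N11785 := ded_13_1 (flp_e L100802) L100793 L145970
theorem L145986 : sm gf N11785 = N17125 := rfl
theorem L145994 : sm gf N11786 = N17126 := rfl
theorem L145999 : sm gd N17126 = N11787 := ded_35_1 (flp_f L100818) L100810 L145994
theorem L146002 : sm gh N11786 = N17127 := rfl
theorem L146009 : sm gg N11787 = N17128 := rfl
theorem L146046 : sm gc N11790 = N17132 := rfl
theorem L146051 : sm gd N17132 = N11813 := ded_27_2 (flp_c L101014) (flp_d L69928) (flp_c L69822) L100845 L146046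
theorem L146053 : sm gf N11790 = N17133 := rfl
theorem L146057 : sm gd N17133 = N11791 := ded_35_1 (flp_f L100852) L100845 L146053
theorem L146060 : sm gh N11790 = N17134 := rfl
theorem L146078 : sm ge N11792 = N17136 := rfl
theorem L146082 : sm gd N17136 = N12011 := ded_34_1 (flp_e L102636) L70996 (flp_e L69840) (flp_d L100865) L146078
theorem L146092 : sm gh N11792 = N17138 := rfl
theorem L146105 : sm gj N11794 = N17140 := rfl
theorem L146115 : sm ga N11796 = N17141 := rfl
theorem L146121 : sm gi N17141 = N11799 := ded_18_2 (flp_a L100917) (flp_i L100900) L146115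
theorem L146123 : sm ge N11796 = N17142 := rfl
theorem L146125 : sm gb N17142 = N11797 := ded_21_1 (flp_e L100902) L100894 L146123
theorem L146129 : sm gi N17142 = N11800 := ded_44_2 (flp_e L100924) (flp_i L100900) L146123
theorem L146131 : sm gd N11797 = N17143 := rfl
theorem L146146 : sm gg N11798 = N17145 := rfl
theorem L146151 : sm gi N17145 = N11803 := ded_51_2 (flp_g L100943) (flp_i L100914) L146146
theorem L146154 : sm ge N11799 = N17146 := rfl
theorem L146161 : sm gd N11800 = N17147 := rfl
theorem L146194 : sm gj N11803 = N17152 := rfl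
theorem L146199 : sm gh N17152 = N11810 := ded_52_2 (flp_j L100991) (flp_h L100947) L146194
theorem L146201 : sm gd N11804 = N17153 := rfl
theorem L146207 : sm ge N17153 = N11822 := ded_34_2 (flp_d L101078) (flp_e L69971) (flp_d L69889) L100950 L146201
theorem L146244 : sm ge N11807 = N17159 := rfl
theorem L146250 : sm gf N17159 = N11828 := ded_40_2 (flp_e L101121) (flp_f L69993) (flp_e L69906) L100970 L146244
theorem L146252 : sm gg N11807 = N17160 := rfl
theorem L146260 : sm gh N11807 = N17161 := rfl
theorem L146264 : sm gf N17161 = N11808 := ded_47_1 (flp_h L100977) L100970 L146260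
theorem L146266 : sm gi N11808 = N17162 := rfl
theorem L146281 : sm gc N11811 = N17164 := rfl
theorem L146296 : sm gh N11811 = N17166 := rfl
theorem L146304 : sm gg N11812 = N17167 := rfl
theorem L146308 : sm ge N17167 = N12019 := ded_41_1 (flp_g L102701) (flp_e L101012) L146304
theorem L146313 : sm gf N11813 = N17168 := rfl
theorem L146318 : sm gh N11813 = N17169 := rfl
theorem L146325 : sm ge N11814 = N17170 := rfl
theorem L146327 : sm gb N17170 = N11817 := ded_21_1 (flp_e L101044) (flp_b L101022) L146325
theorem L146330 : sm gd N17170 = N12022 := ded_34_1 (flp_e L102724) L71053 (flp_e L69942) (flp_d L101024) L146325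
theorem L146332 : sm gf N17170 = N11839 := ded_40_2 (flp_e L101200) (flp_f L70044) (flp_e L69934) L101020 L146325
theorem L146334 : sm gg N11814 = N17171 := rfl
theorem L146342 : sm gh N11814 = N17172 := rfl
theorem L146367 : sm gg N11817 = N17175 := rfl
theorem L146405 : sm gf N11822 = N17181 := rfl
theorem L146407 : sm ga N17181 = N11825 := ded_14_1 (flp_f L101099) (flp_a L101080) L146405
theorem L146409 : sm gd N17181 = N11823 := ded_35_1 (flp_f L101084) L101078 L146405
theorem L146412 : sm gh N11822 = N17182 := rfl
theorem L146418 : sm gg N11823 = N17183 := rfl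
theorem L146427 : sm gf N11824 = N17184 := rfl
theorem L146429 : sm gb N17184 = N11837 := ded_22_1 (flp_f L101189) (flp_b L101096) L146427
theorem L146431 : sm gc N17184 = N11825 := ded_29_1 (flp_f L101099) L101092 L146427
theorem L146442 : sm ge N11825 = N17186 := rfl
theorem L146444 : sm gb N17186 = N11828 := ded_21_1 (flp_e L101121) (flp_b L101101) L146442
theorem L146456 : sm gh N11825 = N17188 := rfl
theorem L146479 : sm gg N11828 = N17191 := rfl
theorem L146481 : sm gc N17191 = N11844 := ded_30_1 (flp_g L101242) (flp_c L101123) L146479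
theorem L146484 : sm ge N17191 = N11829 := ded_41_1 (flp_g L101127) L101121 L146479
theorem L146487 : sm gh N11828 = N17192 := rfl
theorem L146493 : sm gj N11829 = N17193 := rfl
theorem L146501 : sm gh N11829 = N17194 := rfl
theorem L146517 : sm gb N11833 = N17196 := rfl
theorem L146522 : sm gf N11833 = N17197 := rfl
theorem L146524 : sm ga N17197 = N11837 := ded_14_1 (flp_f L101189) (flp_a L101159) L146522
theorem L146537 : sm ge N11834 = N17199 := rfl
theorem L146539 : sm ga N17199 = N11839 := ded_13_1 (flp_e L101200) (flp_a L101166) L146537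
theorem L146544 : sm gg N11834 = N17200 := rfl
theorem L146552 : sm gh N11834 = N17201 := rfl
theorem L146558 : sm gd N17201 = N11854 := ded_38_1 (flp_h L101316) L70115 (flp_h L70034) (flp_d L101168) L146552
theorem L146568 : sm gj N11836 = N17203 := rfl
theorem L146573 : sm ge N17203 = N12039 := ded_42_1 (flp_j L102855) (flp_e L101183) L146568
theorem L146579 : sm ge N11837 = N17204 := rfl
theorem L146603 : sm gi N11838 = N17208 := rfl
theorem L146609 : sm gg N11839 = N17209 := rfl
theorem L146613 : sm gd N17209 = N12045 := ded_36_1 (flp_g L102903) (flp_d L101205) L146609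
theorem L146618 : sm gh N11839 = N17210 := rfl
theorem L146650 : sm gf N11844 = N17214 := rfl
theorem L146663 : sm gh N11844 = N17216 := rfl
theorem L146667 : sm gg N17216 = N11845 := ded_50_1 (flp_h L101249) L101242 L146663
theorem L146669 : sm gd N11845 = N17217 := rfl
theorem L146673 : sm gh N17217 = N12053 := ded_38_2 (flp_d L102963) (flp_h L71204) (flp_d L70072) L101249 L146669
theorem L146687 : sm gi N11847 = N17220 := rfl
theorem L146689 : sm gd N17220 = N11873 := ded_39_1 (flp_i L101463) (flp_d L101264) L146687
theorem L146692 : sm gg N17220 = N11848 := ded_51_1 (flp_i L101266) (flp_g L101262) L146687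
theorem L146695 : sm gf N11849 = N17221 := rfl
theorem L146698 : sm gb N17221 = N11850 := ded_22_1 (flp_f L101281) L101273 L146695
theorem L146701 : sm gi N17221 = N11874 := ded_48_2 (flp_f L101471) (flp_i L101278) L146695
theorem L146703 : sm gh N11849 = N17222 := rfl
theorem L146719 : sm gg N11850 = N17224 := rfl
theorem L146721 : sm ga N17224 = N11858 := ded_15_1 (flp_g L101348) (flp_a L101283) L146719
theorem L146726 : sm gi N17224 = N11877 := ded_51_2 (flp_g L101491) (flp_i L101288) L146719
theorem L146729 : sm gh N11850 = N17225 := rfl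
theorem L146737 : sm gd N11851 = N17226 := rfl
theorem L146743 : sm gi N11851 = N17227 := rfl
theorem L146751 : sm gh N17227 = N11880 := ded_54_1 (flp_i L101514) (flp_h L70241) (flp_i L70108) L101290 L146743
theorem L146753 : sm gg N11852 = N17228 := rfl
theorem L146759 : sm ge N17228 = N11853 := ded_41_1 (flp_g L101307) L101298 L146753
theorem L146761 : sm gi N17228 = N11881 := ded_51_2 (flp_g L101522) (flp_i L101302) L146753
theorem L146763 : sm gh N11852 = N17229 := rfl
theorem L146770 : sm gj N11853 = N17230 := rfl
theorem L146777 : sm gi N17230 = N11883 := ded_53_2 (flp_j L101537) (flp_i L101313) L146770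
theorem L146786 : sm gi N11854 = N17232 := rfl
theorem L146792 : sm gh N17232 = N11885 := ded_54_1 (flp_i L101552) (flp_h L70263) (flp_i L70117) L101316 L146786
theorem L146794 : sm gd N11857 = N17233 := rfl
theorem L146798 : sm gi N17233 = N11886 := ded_39_2 (flp_d L101559) (flp_i L101345) L146794
theorem L146803 : sm gg N11857 = N17234 := rfl
theorem L146806 : sm gc N17234 = N11862 := ded_30_1 (flp_g L101378) (flp_c L101343) L146803
theorem L146810 : sm gi N17234 = N11887 := ded_51_2 (flp_g L101566) (flp_i L101345) L146803
theorem L146820 : sm gj N11858 = N17236 := rfl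
theorem L146827 : sm gi N17236 = N11889 := ded_53_2 (flp_j L101581) (flp_i L101354) L146820
theorem L146843 : sm gi N11859 = N17239 := rfl
theorem L146848 : sm gf N17239 = N11861 := ded_48_1 (flp_i L101369) (flp_f L101362) L146843
theorem L146850 : sm gh N17239 = N11892 := ded_54_1 (flp_i L101603) (flp_h L70299) (flp_i L70141) L101357 L146843
theorem L146864 : sm gf N11862 = N17242 := rfl
theorem L146866 : sm gb N17242 = N11867 := ded_22_1 (flp_f L101419) (flp_b L101380) L146864
theorem L146868 : sm gd N17242 = N12078 := ded_35_1 (flp_f L103178) (flp_d L101382) L146864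
theorem L146870 : sm gi N17242 = N11895 := ded_48_2 (flp_f L101624) (flp_i L101386) L146864
theorem L146874 : sm gj N11862 = N17243 := rfl
theorem L146882 : sm gi N17243 = N11896 := ded_53_2 (flp_j L101632) (flp_i L101386) L146874
theorem L146884 : sm gh N11862 = N17244 := rfl
theorem L146890 : sm gg N17244 = N11863 := ded_50_1 (flp_h L101388) L101378 L146884
theorem L146892 : sm gd N11863 = N17245 := rfl
theorem L146915 : sm gi N11865 = N17248 := rfl
theorem L146917 : sm gb N17248 = N11873 := ded_26_1 (flp_i L101463) (flp_b L101406) L146915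
theorem L146924 : sm gj N11867 = N17249 := rfl
theorem L146930 : sm gf N17249 = N11868 := ded_46_1 (flp_j L101428) L101419 L146924
theorem L146932 : sm gi N17249 = N11902 := ded_53_2 (flp_j L101679) (flp_i L101424) L146924
theorem L146934 : sm gh N11867 = N17250 := rfl
theorem L146938 : sm gf N17250 = N11869 := ded_47_1 (flp_h L101437) L101419 L146934
theorem L146941 : sm gh N11868 = N17251 := rfl
theorem L146948 : sm gd N11869 = N17252 := rfl
theorem L146950 : sm gg N17252 = N11870 := ded_36_2 (flp_d L101444) (flp_g L101442) L146948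
theorem L146952 : sm gh N17252 = N12088 := ded_38_2 (flp_d L103262) (flp_h L71407) (flp_d L70195) L101437 L146948
theorem L146963 : sm gc N11870 = N17254 := rfl
theorem L146966 : sm gh N17254 = N12090 := ded_32_2 (flp_c L103276) (flp_h L101447) L146963
theorem L146982 : sm ge N11874 = N17257 := rfl
theorem L146985 : sm gb N17257 = N11876 := ded_21_1 (flp_e L101484) (flp_b L101474) L146982
theorem L146988 : sm gg N11874 = N17258 := rfl
theorem L146991 : sm gb N17258 = N11877 := ded_23_1 (flp_g L101491) (flp_b L101474) L146988
theorem L146995 : sm gh N11874 = N17259 := rfl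
theorem L147002 : sm gd N11875 = N17260 := rfl
theorem L147016 : sm gd N11876 = N17262 := rfl
theorem L147021 : sm gc N17262 = N12098 := ded_27_1 (flp_d L103338) L71465 (flp_d L70253) (flp_c L101488) L147016
theorem L147041 : sm gj N11877 = N17265 := rfl
theorem L147043 : sm ga N17265 = N11889 := ded_16_1 (flp_j L101581) (flp_a L101493) L147041
theorem L147049 : sm gh N11877 = N17266 := rfl
theorem L147056 : sm gg N17266 = N11878 := ded_50_1 (flp_h L101499) L101491 L147049
theorem L147058 : sm gd N11878 = N17267 := rfl
theorem L147060 : sm ga N17267 = N11891 := ded_12_1 (flp_d L101596) (flp_a L101501) L147058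
theorem L147074 : sm ge N11879 = N17269 := rfl
theorem L147076 : sm ga N17269 = N11893 := ded_13_1 (flp_e L101610) (flp_a L101509) L147074
theorem L147082 : sm gi N11879 = N17270 := rfl
theorem L147087 : sm gd N17270 = N11880 := ded_39_1 (flp_i L101514) L101507 L147082
theorem L147098 : sm gj N11881 = N17272 := rfl
theorem L147104 : sm ge N17272 = N11883 := ded_42_1 (flp_j L101537) (flp_e L101528) L147098
theorem L147106 : sm gh N11881 = N17273 := rfl
theorem L147108 : sm ga N17273 = N11897 := ded_17_1 (flp_h L101640) (flp_a L101524) L147106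
theorem L147112 : sm gg N17273 = N11882 := ded_50_1 (flp_h L101530) L101522 L147106
theorem L147114 : sm gd N11882 = N17274 := rfl
theorem L147120 : sm gh N17274 = N12110 := ded_38_2 (flp_d L103435) (flp_h L71508) (flp_d L70253) L101530 L147114
theorem L147129 : sm gh N11883 = N17276 := rfl
theorem L147145 : sm gg N11886 = N17278 := rfl
theorem L147148 : sm gc N17278 = N12114 := ded_30_1 (flp_g L103466) (flp_c L101563) L147145
theorem L147153 : sm gh N11886 = N17279 := rfl
theorem L147160 : sm gf N11887 = N17280 := rfl
theorem L147162 : sm gb N17280 = N17280 := ded_22_1 (flp_f L147160) L101568 L147160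
theorem L147163 : sm gc N17280 = N11895 := ded_29_1 (flp_f L101624) (flp_c L101569) L147160
theorem L147167 : sm gj N11887 = N17281 := rfl
theorem L147170 : sm gc N17281 = N11896 := ded_31_1 (flp_j L101632) (flp_c L101569) L147167
theorem L147172 : sm ge N17281 = N11889 := ded_42_1 (flp_j L101581) (flp_e L101571) L147167
theorem L147174 : sm gh N11887 = N17282 := rfl
theorem L147181 : sm gg N17282 = N11888 := ded_50_1 (flp_h L101573) L101566 L147174
theorem L147183 : sm gd N11888 = N17283 := rfl
theorem L147195 : sm gh N11889 = N17285 := rfl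
theorem L147201 : sm gj N17285 = N11890 := ded_52_1 (flp_h L101588) L101581 L147195
theorem L147203 : sm gd N11890 = N17286 := rfl
theorem L147207 : sm gg N17286 = N11891 := ded_36_2 (flp_d L101596) (flp_g L101594) L147203
theorem L147210 : sm gh N17286 = N17286 := ded_38_2 (flp_d L147203) (flp_h L101588) L70297 L101588 L147203
theorem L147219 : sm ge N11891 = N17288 := rfl
theorem L147224 : sm gi N11891 = N17289 := rfl
theorem L147238 : sm gi N11893 = N17291 := rfl
theorem L147243 : sm ge N17291 = N11894 := ded_44_1 (flp_i L101617) L101610 L147238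
theorem L147252 : sm gj N11895 = N17293 := rfl
theorem L147256 : sm gd N17293 = N12129 := ded_37_1 (flp_j L103590) (flp_d L101628) L147252
theorem L147259 : sm gf N17293 = N11896 := ded_46_1 (flp_j L101632) L101624 L147252
theorem L147261 : sm gh N11895 = N17294 := rfl
theorem L147266 : sm gf N17294 = N11897 := ded_47_1 (flp_h L101640) L101624 L147261
theorem L147269 : sm gh N11896 = N17295 := rfl
theorem L147275 : sm gj N17295 = N11897 := ded_52_1 (flp_h L101640) L101632 L147269
theorem L147277 : sm gd N11897 = N17296 := rfl
theorem L147284 : sm gh N17296 = N12132 := ded_38_2 (flp_d L103615) (flp_h L71628) (flp_d L70323) L101640 L147277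
theorem L147294 : sm gc N11898 = N17298 := rfl
theorem L147298 : sm gh N17298 = N12134 := ded_32_2 (flp_c L103630) (flp_h L101654) L147294
theorem L147316 : sm gg N11902 = N17301 := rfl
theorem L147323 : sm gh N11902 = N17302 := rfl
theorem L147329 : sm gj N17302 = N11903 := ded_52_1 (flp_h L101687) L101679 L147323
theorem L147331 : sm gd N11903 = N17303 := rfl
theorem L147336 : sm gh N17303 = N12139 := ded_38_2 (flp_d L103668) (flp_h L71675) (flp_d L70359) L101687 L147331
theorem L147352 : sm gi N11904 = N17306 := rfl
theorem L147357 : sm gj N17306 = N11906 := ded_53_1 (flp_i L101708) (flp_j L101699) L147352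
theorem L147359 : sm gc N11905 = N17307 := rfl
theorem L147362 : sm gg N17307 = N11907 := ded_30_2 (flp_c L101715) (flp_g L101703) L147359
theorem L147364 : sm gh N17307 = N12143 := ded_32_2 (flp_c L103695) (flp_h L101706) L147359
theorem L147374 : sm gb N11907 = N17309 := rfl
theorem L147381 : sm gi N11907 = N17310 := rfl
theorem L147394 : sm gd N11910 = N17312 := rfl
theorem L147396 : sm ga N17312 = N11911 := ded_12_1 (flp_d L101747) (flp_a L101737) L147394
theorem L147400 : sm gj N17312 = N12005 := ded_37_2 (flp_d L102584) (flp_j L101743) L147394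
theorem L147404 : sm gf N11910 = N17313 := rfl
theorem L147411 : sm gj N17313 = N12006 := ded_46_2 (flp_f L102593) (flp_j L101743) L147404
theorem L147415 : sm gc N11911 = N17314 := rfl
theorem L147419 : sm gj N17314 = N12007 := ded_31_2 (flp_c L102602) (flp_j L101752) L147415
theorem L147423 : sm gd N17314 = N11919 := ded_27_2 (flp_c L101821) (flp_d L70461) (flp_c L70418) L101747 L147415
theorem L147425 : sm gf N11911 = N17315 := rfl
theorem L147427 : sm gb N17315 = N11913 := ded_22_1 (flp_f L101766) (flp_b L101749) L147425
theorem L147431 : sm gj N17315 = N12008 := ded_46_2 (flp_f L102611) (flp_j L101752) L147425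
theorem L147434 : sm gh N11911 = N17316 := rfl
theorem L147436 : sm gb N17316 = N11914 := ded_25_1 (flp_h L101775) (flp_b L101749) L147434
theorem L147440 : sm gj N17316 = N12009 := ded_52_1 (flp_h L102618) (flp_j L101752) L147434
theorem L147452 : sm ge N11913 = N17318 := rfl
theorem L147460 : sm gg N11913 = N17319 := rfl
theorem L147464 : sm gd N17319 = N11915 := ded_36_1 (flp_g L101784) (flp_d L101770) L147460
theorem L147467 : sm gf N17319 = N17319 := ded_45_1 (flp_g L147460) (flp_f L101766) L70428 L101766 L147460
theorem L147468 : sm gh N11913 = N17320 := rfl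
theorem L147472 : sm gf N17320 = N11914 := ded_47_1 (flp_h L101775) L101766 L147468
theorem L147474 : sm gj N17320 = N12013 := ded_52_1 (flp_h L102651) (flp_j L101772) L147468
theorem L147477 : sm gi N11914 = N17321 := rfl
theorem L147484 : sm gj N17321 = N12014 := ded_53_1 (flp_i L102658) (flp_j L101781) L147477
theorem L147497 : sm gc N11917 = N17323 := rfl
theorem L147501 : sm ge N17323 = N11928 := ded_28_2 (flp_c L101898) (flp_e L101811) L147497
theorem L147504 : sm gj N17323 = N12016 := ded_31_2 (flp_c L102676) (flp_j L101808) L147497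
theorem L147507 : sm gf N11917 = N17324 := rfl
theorem L147511 : sm gd N17324 = N11918 := ded_35_1 (flp_f L101813) L101803 L147507
theorem L147513 : sm gj N17324 = N12017 := ded_46_2 (flp_f L102685) (flp_j L101808) L147507
theorem L147516 : sm gh N11917 = N17325 := rfl
theorem L147523 : sm gj N17325 = N12018 := ded_52_1 (flp_h L102692) (flp_j L101808) L147516
theorem L147526 : sm gg N11918 = N17326 := rfl
theorem L147533 : sm gf N11919 = N17327 := rfl
theorem L147536 : sm gc N17327 = N11920 := ded_29_1 (flp_f L101830) L101821 L147533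
theorem L147538 : sm gj N17327 = N12020 := ded_46_2 (flp_f L102709) (flp_j L101826) L147533
theorem L147541 : sm gh N11919 = N17328 := rfl
theorem L147549 : sm gj N17328 = N12021 := ded_52_1 (flp_h L102715) (flp_j L101826) L147541
theorem L147551 : sm ge N11920 = N17329 := rfl
theorem L147555 : sm gj N17329 = N12022 := ded_42_2 (flp_e L102724) (flp_j L101836) L147551
theorem L147597 : sm gg N11923 = N17334 := rfl
theorem L147600 : sm ge N17334 = N11924 := ded_41_1 (flp_g L101864) L101856 L147597
theorem L147612 : sm gj N11924 = N17336 := rfl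
theorem L147619 : sm gg N17336 = N12029 := ded_49_1 (flp_j L102778) (flp_g L71079) (flp_j L70484) L101864 L147612
theorem L147621 : sm gh N11924 = N17337 := rfl
theorem L147625 : sm gg N17337 = N11925 := ded_50_1 (flp_h L101871) L101864 L147621
theorem L147628 : sm gi N11925 = N17338 := rfl
theorem L147637 : sm gb N11928 = N17339 := rfl
theorem L147645 : sm gf N11928 = N17340 := rfl
theorem L147647 : sm ga N17340 = N11932 := ded_14_1 (flp_f L101934) (flp_a L101900) L147645
theorem L147651 : sm gd N17340 = N17340 := ded_35_1 (flp_f L147645) L101906 L147645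
theorem L147652 : sm gj N17340 = N12033 := ded_46_2 (flp_f L102808) (flp_j L101903) L147645
theorem L147655 : sm gh N11928 = N17341 := rfl
theorem L147662 : sm gj N17341 = N12034 := ded_52_1 (flp_h L102816) (flp_j L101903) L147655
theorem L147699 : sm gj N11931 = N17346 := rfl
theorem L147705 : sm gh N17346 = N11951 := ded_52_2 (flp_j L102105) (flp_h L101930) L147699
theorem L147710 : sm ge N11932 = N17347 := rfl
theorem L147715 : sm gj N17347 = N12040 := ded_42_2 (flp_e L102865) (flp_j L101940) L147710
theorem L147718 : sm gg N11932 = N17348 := rfl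
theorem L147726 : sm gh N11932 = N17349 := rfl
theorem L147733 : sm gj N17349 = N12042 := ded_52_1 (flp_h L102880) (flp_j L101940) L147726
theorem L147735 : sm gd N11933 = N17350 := rfl
theorem L147739 : sm gj N17350 = N12043 := ded_37_2 (flp_d L102887) (flp_j L101949) L147735
theorem L147760 : sm gh N11934 = N17353 := rfl
theorem L147764 : sm ge N17353 = N11936 := ded_43_1 (flp_h L101966) L101951 L147760
theorem L147766 : sm gj N17353 = N12046 := ded_52_1 (flp_h L102910) (flp_j L101955) L147760
theorem L147803 : sm gj N11939 = N17358 := rfl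
theorem L147809 : sm gg N17358 = N12051 := ded_49_1 (flp_j L102950) (flp_g L71198) (flp_j L70567) L101997 L147803
theorem L147811 : sm gh N11939 = N17359 := rfl
theorem L147816 : sm gg N17359 = N11940 := ded_50_1 (flp_h L102003) L101997 L147811
theorem L147818 : sm gd N11940 = N17360 := rfl
theorem L147820 : sm gj N17360 = N12053 := ded_37_2 (flp_d L102963) (flp_j L102008) L147818
theorem L147822 : sm ge N17360 = N11965 := ded_34_2 (flp_d L102237) L70721 (flp_d L70584) (flp_e L102006) L147818
theorem L147824 : sm gi N11940 = N17361 := rfl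
theorem L147829 : sm gj N17361 = N12054 := ded_53_1 (flp_i L102967) (flp_j L102008) L147824
theorem L147832 : sm gh N11941 = N17362 := rfl
theorem L147838 : sm gj N17362 = N11942 := ded_52_1 (flp_h L102019) L102010 L147832
theorem L147842 : sm gi N11942 = N17363 := rfl
theorem L147848 : sm gg N17363 = N11943 := ded_51_1 (flp_i L102027) (flp_g L102023) L147842
theorem L147851 : sm gf N11944 = N17364 := rfl
theorem L147860 : sm gi N17364 = N11969 := ded_48_2 (flp_f L102271) (flp_i L102044) L147851
theorem L147862 : sm gh N11944 = N17365 := rfl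
theorem L147864 : sm ga N17365 = N12354 := ded_17_1 (flp_h L105411) (flp_a L102046) L147862
theorem L147866 : sm gb N17365 = N11946 := ded_25_1 (flp_h L102059) L102037 L147862
theorem L147883 : sm gg N11945 = N17367 := rfl
theorem L147890 : sm gi N17367 = N11972 := ded_51_2 (flp_g L102299) (flp_i L102057) L147883
theorem L147893 : sm gh N11945 = N17368 := rfl
theorem L147899 : sm gf N17368 = N11946 := ded_47_1 (flp_h L102059) L102048 L147893
theorem L147901 : sm gj N17368 = N12061 := ded_52_1 (flp_h L103030) (flp_j L102055) L147893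
theorem L147903 : sm gd N11946 = N17369 := rfl
theorem L147905 : sm ga N17369 = N11955 := ded_12_1 (flp_d L102146) (flp_a L102061) L147903
theorem L147908 : sm gj N17369 = N12062 := ded_37_2 (flp_d L103038) (flp_j L102067) L147903
theorem L147911 : sm gi N11946 = N17370 := rfl
theorem L147921 : sm gh N17370 = N11975 := ded_54_1 (flp_i L102326) (flp_h L70772) (flp_i L70613) L102059 L147911
theorem L147923 : sm gg N11947 = N17371 := rfl
theorem L147925 : sm ga N17371 = N11957 := ded_15_1 (flp_g L102166) (flp_a L102071) L147923
theorem L147929 : sm gi N17371 = N11976 := ded_51_2 (flp_g L102336) (flp_i L102075) L147923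
theorem L147931 : sm gh N11947 = N17372 := rfl
theorem L147938 : sm gj N17372 = N12065 := ded_52_1 (flp_h L103064) (flp_j L102073) L147931
theorem L147940 : sm gj N11948 = N17373 := rfl
theorem L147942 : sm ga N17373 = N11959 := ded_16_1 (flp_j L102183) (flp_a L102080) L147940
theorem L147949 : sm gg N17373 = N12066 := ded_49_1 (flp_j L103071) (flp_g L71269) (flp_j L70622) L102078 L147940

end Cfsg.Agent.Helper28.FicA
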