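import Cfsg.Agent.Helper28.FicB17

/-! # The Fi₂₃ presentation, cosets of the subgroup generated by a, …, i: the coset enumeration, part 18 (helper28; generated) -/

set_option autoImplicit false

noncomputable section

namespace Cfsg.Agent.Helper28.FicA

open Cfsg.Agent.Helper28.CosetTable

theorem L147968 : sm gd N11952 = N17376 := rfl
theorem L147970 : sm gb N17376 = N12365 := ded_20_1 (flp_d L105519) (flp_b L102117) L147968
theorem L147975 : sm gi N17376 = N11981 := ded_39_2 (flp_d L102377) (flp_i L102123) L147968
theorem L147978 : sm gg N11952 = N17377 := rfl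
theorem L147986 : sm gi N17377 = N11982 := ded_51_2 (flp_g L102385) (flp_i L102123) L147978
theorem L147988 : sm gh N11952 = N17378 := rfl
theorem L147992 : sm gc N17378 = N11958 := ded_32_1 (flp_h L102174) (flp_c L102119) L147988
theorem L147999 : sm gj N11953 = N17379 := rfl
theorem L148001 : sm gb N17379 = N12368 := ded_24_1 (flp_j L105545) (flp_b L102128) L147999
theorem L148007 : sm gi N17379 = N11984 := ded_53_2 (flp_j L102404) (flp_i L102133) L147999
theorem L148029 : sm gi N11954 = N17382 := rfl
theorem L148031 : sm gb N17382 = N12371 := ded_26_1 (flp_i L105570) (flp_b L102138) L148029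
theorem L148033 : sm gc N17382 = N11961 := ded_33_1 (flp_i L102201) (flp_c L102140) L148029
theorem L148041 : sm ge N11955 = N17383 := rfl
theorem L148046 : sm gj N17383 = N12076 := ded_42_2 (flp_e L103162) (flp_j L102151) L148041
theorem L148050 : sm gi N11955 = N17384 := rfl
theorem L148052 : sm gb N17384 = N12373 := ded_26_1 (flp_i L105588) (flp_b L102148) L148050
theorem L148067 : sm gj N11957 = N17386 := rfl
theorem L148071 : sm ge N17386 = N11959 := ded_42_1 (flp_j L102183) (flp_e L102170) L148067
theorem L148073 : sm gi N17386 = N11991 := ded_53_2 (flp_j L102469) (flp_i L102172) L148067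
theorem L148085 : sm gd N11958 = N17388 := rfl
theorem L148092 : sm gi N11958 = N17389 := rfl
theorem L148096 : sm ge N17389 = N11961 := ded_44_1 (flp_i L102201) (flp_e L102178) L148092
theorem L148103 : sm gh N11959 = N17390 := rfl
theorem L148105 : sm gb N17390 = N11967 := ded_25_1 (flp_h L102253) (flp_b L102185) L148103
theorem L148130 : sm gh N11962 = N17393 := rfl
theorem L148132 : sm gc N17393 = N12382 := ded_32_1 (flp_h L105672) (flp_c L102213) L148130
theorem L148135 : sm gf N17393 = N11964 := ded_47_1 (flp_h L102229) L102211 L148130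
theorem L148138 : sm gh N11963 = N17394 := rfl
theorem L148146 : sm gj N17394 = N11964 := ded_52_1 (flp_h L102229) L102219 L148138
theorem L148148 : sm gd N11964 = N17395 := rfl
theorem L148152 : sm gi N11964 = N17396 := rfl
theorem L148154 : sm gc N17396 = N12385 := ded_33_1 (flp_i L105692) (flp_c L102231) L148152
theorem L148169 : sm gi N11965 = N17398 := rfl
theorem L148176 : sm gi N11967 = N17399 := rfl
theorem L148187 : sm ge N11969 = N17400 := rfl
theorem L148193 : sm gj N17400 = N12093 := ded_42_2 (flp_e L103296) (flp_j L102278) L148187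
theorem L148196 : sm gg N11969 = N17401 := rfl
theorem L148198 : sm ga N17401 = N12390 := ded_15_1 (flp_g L105732) (flp_a L102273) L148196
theorem L148204 : sm gh N11969 = N17402 := rfl
theorem L148206 : sm ga N17402 = N12391 := ded_17_1 (flp_h L105738) (flp_a L102273) L148204
theorem L148234 : sm gd N11971 = N17405 := rfl
theorem L148236 : sm ga N17405 = N11981 := ded_12_1 (flp_d L102377) (flp_a L102292) L148234
theorem L148239 : sm gj N17405 = N12098 := ded_37_2 (flp_d L103338) (flp_j L102296) L148234
theorem L148271 : sm gh N11972 = N17409 := rfl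
theorem L148278 : sm gg N17409 = N11973 := ded_50_1 (flp_h L102307) L102299 L148271
theorem L148280 : sm gd N11973 = N17410 := rfl
theorem L148286 : sm gj N17410 = N12103 := ded_37_2 (flp_d L103380) (flp_j L102315) L148280
theorem L148290 : sm gi N11973 = N17411 := rfl
theorem L148300 : sm ge N11974 = N17412 := rfl
theorem L148306 : sm gj N17412 = N12105 := ded_42_2 (flp_e L103396) (flp_j L102322) L148300
theorem L148310 : sm gi N11974 = N17413 := rfl
theorem L148315 : sm gd N17413 = N11975 := ded_39_1 (flp_i L102326) L102317 L148310
theorem L148320 : sm gf N11976 = N17414 := rfl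
theorem L148322 : sm ga N17414 = N11990 := ded_14_1 (flp_f L102463) (flp_a L102338) L148320
theorem L148334 : sm gh N11976 = N17416 := rfl
theorem L148342 : sm gd N11977 = N17417 := rfl
theorem L148344 : sm ga N17417 = N11993 := ded_12_1 (flp_d L102485) (flp_a L102344) L148342
theorem L148347 : sm gj N17417 = N12110 := ded_37_2 (flp_d L103435) (flp_j L102349) L148342
theorem L148350 : sm gi N11977 = N17418 := rfl
theorem L148354 : sm ge N17418 = N11980 := ded_44_1 (flp_i L102368) (flp_e L102346) L148350
theorem L148377 : sm gg N11981 = N17421 := rfl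
theorem L148381 : sm gd N17421 = N11982 := ded_36_1 (flp_g L102385) L102377 L148377
theorem L148384 : sm gh N11981 = N17422 := rfl
theorem L148390 : sm gj N17422 = N12115 := ded_52_1 (flp_h L103473) (flp_j L102382) L148384
theorem L148392 : sm gf N11982 = N17423 := rfl
theorem L148394 : sm gb N17423 = N12412 := ded_22_1 (flp_f L105928) (flp_b L102387) L148392
theorem L148396 : sm gc N17423 = N11990 := ded_29_1 (flp_f L102463) (flp_c L102389) L148392
theorem L148410 : sm gh N11982 = N17425 := rfl
theorem L148420 : sm gd N11983 = N17426 := rfl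
theorem L148425 : sm gj N17426 = N12119 := ded_37_2 (flp_d L103506) (flp_j L102402) L148420
theorem L148438 : sm gh N11984 = N17428 := rfl
theorem L148440 : sm gb N17428 = N12417 := ded_25_1 (flp_h L105964) (flp_b L102406) L148438
theorem L148442 : sm gc N17428 = N11995 := ded_32_1 (flp_h L102502) (flp_c L102408) L148438
theorem L148515 : sm gj N11990 = N17436 := rfl
theorem L148517 : sm gb N17436 = N11997 := ded_24_1 (flp_j L102520) (flp_b L102465) L148515
theorem L148520 : sm gf N17436 = N11991 := ded_46_1 (flp_j L102469) L102463 L148515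
theorem L148522 : sm gh N11990 = N17437 := rfl
theorem L148524 : sm gb N17437 = N11998 := ded_25_1 (flp_h L102527) (flp_b L102465) L148522
theorem L148527 : sm gf N17437 = N11992 := ded_47_1 (flp_h L102477) L102463 L148522
theorem L148530 : sm gh N11991 = N17438 := rfl
theorem L148532 : sm gb N17438 = N11999 := ded_25_1 (flp_h L102535) (flp_b L102471) L148530
theorem L148540 : sm gd N11992 = N17439 := rfl
theorem L148544 : sm gg N17439 = N11993 := ded_36_2 (flp_d L102485) (flp_g L102483) L148540
theorem L148547 : sm gi N11992 = N17440 := rfl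
theorem L148551 : sm ge N17440 = N11996 := ded_44_1 (flp_i L102512) (flp_e L102481) L148547
theorem L148555 : sm gc N11993 = N17441 := rfl
theorem L148559 : sm gj N17441 = N12134 := ded_31_2 (flp_c L103630) (flp_j L102490) L148555
theorem L148561 : sm gi N11993 = N17442 := rfl
theorem L148569 : sm gj N17442 = N12135 := ded_53_1 (flp_i L103634) (flp_j L102490) L148561
theorem L148589 : sm gh N11997 = N17445 := rfl
theorem L148594 : sm gf N17445 = N11999 := ded_47_1 (flp_h L102535) (flp_f L102525) L148589
theorem L148596 : sm gj N17445 = N11998 := ded_52_1 (flp_h L102527) L102520 L148589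
theorem L148598 : sm gd N11998 = N17446 := rfl
theorem L148603 : sm gi N11998 = N17447 := rfl
theorem L148611 : sm gd N11999 = N17448 := rfl
theorem L148613 : sm gg N17448 = N12141 := ded_36_2 (flp_d L103682) (flp_g L102541) L148611
theorem L148615 : sm gj N17448 = N12000 := ded_37_2 (flp_d L102545) (flp_j L102543) L148611
theorem L148635 : sm gi N12000 = N17451 := rfl
theorem L148650 : sm gi N12002 = N17453 := rfl
theorem L148658 : sm gj N17453 = N12146 := ded_53_1 (flp_i L103715) (flp_j L102562) L148650
theorem L148676 : sm gf N12005 = N17456 := rfl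
theorem L148684 : sm gh N12005 = N17457 := rfl
theorem L148690 : sm gg N17457 = N12150 := ded_50_1 (flp_h L103745) (flp_g L102589) L148684
theorem L148712 : sm gh N12007 = N17460 := rfl
theorem L148718 : sm gg N17460 = N12153 := ded_50_1 (flp_h L103772) (flp_g L102605) L148712
theorem L148720 : sm ge N12008 = N17461 := rfl
theorem L148751 : sm gj N12010 = N17465 := rfl
theorem L148757 : sm gf N17465 = N12158 := ded_46_1 (flp_j L103810) (flp_f L102634) L148751
theorem L148761 : sm gg N12011 = N17466 := rfl
theorem L148765 : sm ge N17466 = N12012 := ded_41_1 (flp_g L102642) L102636 L148761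
theorem L148768 : sm gh N12011 = N17467 := rfl
theorem L148775 : sm gj N12012 = N17468 := rfl
theorem L148781 : sm gf N17468 = N12161 := ded_46_1 (flp_j L103836) (flp_f L102649) L148775
theorem L148793 : sm gi N12013 = N17470 := rfl
theorem L148801 : sm gb N12016 = N17471 := rfl
theorem L148805 : sm gg N17471 = N12164 := ded_23_2 (flp_b L103860) (flp_g L102682) L148801
theorem L148833 : sm gg N12017 = N17475 := rfl
theorem L148840 : sm gf N17475 = N12168 := ded_45_1 (flp_g L103893) (flp_f L71825) (flp_g L71030) L102685 L148833
theorem L148842 : sm gh N12017 = N17476 := rfl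
theorem L148849 : sm gi N12018 = N17477 := rfl
theorem L148856 : sm gg N17477 = N12170 := ded_51_1 (flp_i L103908) (flp_g L102698) L148849
theorem L148859 : sm gj N12019 = N17478 := rfl
theorem L148875 : sm gg N12020 = N17480 := rfl
theorem L148881 : sm gf N17480 = N12173 := ded_45_1 (flp_g L103934) (flp_f L71848) (flp_g L71045) L102709 L148875
theorem L148883 : sm gh N12020 = N17481 := rfl
theorem L148896 : sm gi N12021 = N17483 := rfl
theorem L148903 : sm gg N17483 = N12176 := ded_51_1 (flp_i L103953) (flp_g L102722) L148896
theorem L148906 : sm gg N12022 = N17484 := rfl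
theorem L148913 : sm gh N12022 = N17485 := rfl
theorem L148915 : sm gb N17485 = N12028 := ded_25_1 (flp_h L102771) (flp_b L102726) L148913
theorem L148919 : sm gf N17485 = N12046 := ded_47_1 (flp_h L102910) (flp_f L102729) L148913
theorem L148968 : sm gd N12028 = N17492 := rfl
theorem L148981 : sm gh N12029 = N17494 := rfl
theorem L148986 : sm gj N17494 = N12030 := ded_52_1 (flp_h L102786) L102778 L148981
theorem L148989 : sm gi N12030 = N17495 := rfl
theorem L148993 : sm gf N17495 = N12188 := ded_48_1 (flp_i L104048) (flp_f L102789) L148989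
theorem L148998 : sm gf N12032 = N17496 := rfl
theorem L149001 : sm gb N17496 = N12033 := ded_22_1 (flp_f L102808) L102801 L148998
theorem L149005 : sm gh N12032 = N17497 := rfl
theorem L149010 : sm gg N17497 = N12190 := ded_50_1 (flp_h L104063) (flp_g L102804) L149005
theorem L149012 : sm ge N12033 = N17498 := rfl
theorem L149016 : sm gc N17498 = N12035 := ded_28_1 (flp_e L102824) (flp_c L102812) L149012
theorem L149019 : sm gg N12033 = N17499 := rfl
theorem L149027 : sm gf N17499 = N12192 := ded_45_1 (flp_g L104077) (flp_f L71946) (flp_g L71114) L102808 L149019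
theorem L149029 : sm gh N12033 = N17500 := rfl
theorem L149033 : sm gc N17500 = N12037 := ded_32_1 (flp_h L102838) (flp_c L102812) L149029
theorem L149046 : sm gi N12034 = N17502 := rfl
theorem L149062 : sm gh N12035 = N17504 := rfl
theorem L149066 : sm ge N17504 = N12037 := ded_43_1 (flp_h L102838) L102824 L149062
theorem L149068 : sm gj N12036 = N17505 := rfl
theorem L149072 : sm gd N17505 = N12039 := ded_37_1 (flp_j L102855) (flp_d L102833) L149068
theorem L149074 : sm gf N17505 = N12198 := ded_46_1 (flp_j L104125) (flp_f L102836) L149068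
theorem L149087 : sm gi N12037 = N17507 := rfl
theorem L149091 : sm gd N17507 = N12068 := ded_39_1 (flp_i L103089) (flp_d L102844) L149087
theorem L149096 : sm gd N12040 = N17508 := rfl
theorem L149101 : sm gg N12040 = N17509 := rfl
theorem L149104 : sm gc N17509 = N12045 := ded_30_1 (flp_g L102903) (flp_c L102868) L149101
theorem L149109 : sm gh N12040 = N17510 := rfl
theorem L149116 : sm gj N12041 = N17511 := rfl
theorem L149122 : sm gf N17511 = N12204 := ded_46_1 (flp_j L104174) (flp_f L102878) L149116
theorem L149125 : sm gh N12041 = N17512 := rfl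
theorem L149128 : sm gc N17512 = N12048 := ded_32_1 (flp_h L102925) (flp_c L102874) L149125
theorem L149134 : sm gd N12042 = N17513 := rfl
theorem L149141 : sm gh N17513 = N17513 := ded_38_2 (flp_d L149134) (flp_h L102880) L71148 L102880 L149134
theorem L149142 : sm gi N12042 = N17514 := rfl
theorem L149150 : sm ge N12043 = N17515 := rfl
theorem L149153 : sm gc N17515 = N12076 := ded_28_1 (flp_e L103162) (flp_c L102892) L149150
theorem L149167 : sm gf N12045 = N17517 := rfl
theorem L149181 : sm gh N12045 = N17519 := rfl
theorem L149189 : sm gd N12046 = N17520 := rfl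
theorem L149212 : sm gi N12048 = N17523 := rfl
theorem L149216 : sm gd N17523 = N12084 := ded_39_1 (flp_i L103225) (flp_d L102933) L149212
theorem L149218 : sm gf N17523 = N12216 := ded_48_1 (flp_i L104270) (flp_f L102929) L149212
theorem L149238 : sm gh N12051 = N17526 := rfl
theorem L149243 : sm gj N17526 = N12052 := ded_52_1 (flp_h L102956) L102950 L149238
theorem L149245 : sm gd N12052 = N17527 := rfl
theorem L149264 : sm gi N12053 = N17530 := rfl
theorem L149270 : sm gi N12055 = N17531 := rfl
theorem L149273 : sm gd N17531 = N12092 := ded_39_1 (flp_i L103286) (flp_d L102980) L149270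
theorem L149280 : sm ge N12057 = N17532 := rfl
theorem L149284 : sm gb N17532 = N12059 := ded_21_1 (flp_e L103010) (flp_b L102996) L149280
theorem L149286 : sm gi N17532 = N12093 := ded_44_2 (flp_e L103296) (flp_i L102999) L149280
theorem L149308 : sm gd N12058 = N17535 := rfl
theorem L149312 : sm gb N17535 = N12062 := ded_20_1 (flp_d L103038) (flp_b L103005) L149308
theorem L149314 : sm gg N17535 = N12228 := ded_36_2 (flp_d L104365) (flp_g L103008) L149308
theorem L149328 : sm gd N12059 = N17537 := rfl
theorem L149333 : sm gi N17537 = N12098 := ded_39_2 (flp_d L103338) (flp_i L103016) L149328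
theorem L149366 : sm gh N12060 = N17541 := rfl
theorem L149372 : sm gf N17541 = N12234 := ded_47_1 (flp_h L104423) (flp_f L103028) L149366
theorem L149376 : sm gd N12061 = N17542 := rfl
theorem L149380 : sm gf N17542 = N12062 := ded_35_2 (flp_d L103038) (flp_f L103036) L149376
theorem L149393 : sm ge N12062 = N17544 := rfl
theorem L149397 : sm gg N17544 = N12237 := ded_41_2 (flp_e L104450) (flp_g L103042) L149393
theorem L149401 : sm gi N12062 = N17545 := rfl
theorem L149409 : sm gf N12064 = N17546 := rfl
theorem L149413 : sm gi N17546 = N12107 := ded_48_2 (flp_f L103414) (flp_i L103062) L149409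
theorem L149418 : sm gj N12064 = N17547 := rfl
theorem L149422 : sm ge N17547 = N12066 := ded_42_1 (flp_j L103071) (flp_e L103060) L149418
theorem L149424 : sm gi N17547 = N12108 := ded_53_2 (flp_j L103421) (flp_i L103062) L149418
theorem L149426 : sm gh N12064 = N17548 := rfl
theorem L149432 : sm gg N17548 = N12065 := ded_50_1 (flp_h L103064) L103056 L149426
theorem L149434 : sm gd N12065 = N17549 := rfl
theorem L149439 : sm gi N12065 = N17550 := rfl
theorem L149443 : sm ge N17550 = N12068 := ded_44_1 (flp_i L103089) (flp_e L103068) L149439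
theorem L149448 : sm gh N12066 = N17551 := rfl
theorem L149456 : sm gi N12067 = N17552 := rfl
theorem L149462 : sm gg N17552 = N12068 := ded_51_1 (flp_i L103089) (flp_g L103087) L149456
theorem L149466 : sm gg N12069 = N17553 := rfl
theorem L149470 : sm gd N17553 = N12070 := ded_36_1 (flp_g L103105) L103097 L149466
theorem L149473 : sm gi N17553 = N12114 := ded_51_2 (flp_g L103466) (flp_i L103102) L149466
theorem L149492 : sm gj N12070 = N17556 := rfl
theorem L149500 : sm gi N17556 = N12117 := ded_53_2 (flp_j L103488) (flp_i L103113) L149492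
theorem L149502 : sm gh N12070 = N17557 := rfl
theorem L149506 : sm gc N17557 = N12080 := ded_32_1 (flp_h L103195) (flp_c L103109) L149502
theorem L149517 : sm gi N12071 = N17559 := rfl
theorem L149519 : sm gb N17559 = N12471 := ded_26_1 (flp_i L106414) (flp_b L103117) L149517
theorem L149526 : sm gh N17559 = N12120 := ded_54_1 (flp_i L103511) (flp_h L71553) (flp_i L71309) L103115 L149517
theorem L149547 : sm gi N12073 = N17562 := rfl
theorem L149549 : sm gb N17562 = N12474 := ded_26_1 (flp_i L106439) (flp_b L103137) L149547
theorem L149551 : sm gc N17562 = N12084 := ded_33_1 (flp_i L103225) (flp_c L103139) L149547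
theorem L149578 : sm gi N12076 = N17566 := rfl
theorem L149585 : sm gg N17566 = N12259 := ded_51_1 (flp_i L104636) (flp_g L103166) L149578
theorem L149596 : sm gj N12078 = N17568 := rfl
theorem L149598 : sm gb N17568 = N12085 := ded_24_1 (flp_j L103235) (flp_b L103180) L149596
theorem L149602 : sm gf N17568 = N12079 := ded_46_1 (flp_j L103187) L103178 L149596
theorem L149606 : sm gh N12078 = N17569 := rfl
theorem L149608 : sm gb N17569 = N12086 := ded_25_1 (flp_h L103245) (flp_b L103180) L149606
theorem L149610 : sm ge N17569 = N12262 := ded_43_1 (flp_h L104661) (flp_e L103184) L149606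
theorem L149615 : sm gh N12079 = N17570 := rfl
theorem L149621 : sm gj N17570 = N12080 := ded_52_1 (flp_h L103195) L103187 L149615
theorem L149623 : sm gd N12080 = N17571 := rfl
theorem L149629 : sm gi N12080 = N17572 := rfl
theorem L149659 : sm gg N12085 = N17576 := rfl
theorem L149661 : sm gc N17576 = N12488 := ded_30_1 (flp_g L106551) (flp_c L103237) L149659
theorem L149665 : sm gi N17576 = N12137 := ded_51_2 (flp_g L103651) (flp_i L103243) L149659
theorem L149668 : sm gh N12085 = N17577 := rfl
theorem L149676 : sm gj N17577 = N12086 := ded_52_1 (flp_h L103245) L103235 L149668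
theorem L149678 : sm gd N12086 = N17578 := rfl
theorem L149683 : sm gi N12086 = N17579 := rfl
theorem L149692 : sm gh N17579 = N12140 := ded_54_1 (flp_i L103673) (flp_h L71675) (flp_i L71394) L103245 L149683
theorem L149694 : sm gd N12087 = N17580 := rfl
theorem L149696 : sm gj N17580 = N12088 := ded_37_2 (flp_d L103262) (flp_j L103260) L149694
theorem L149698 : sm gi N12087 = N17581 := rfl
theorem L149706 : sm gh N17581 = N12142 := ded_54_1 (flp_i L103687) (flp_h L71684) (flp_i L71405) L103254 L149698
theorem L149708 : sm gc N12088 = N17582 := rfl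
theorem L149725 : sm gi N12090 = N17585 := rfl
theorem L149727 : sm gc N17585 = N12091 := ded_33_1 (flp_i L103281) L103276 L149725
theorem L149737 : sm gd N12093 = N17587 := rfl
theorem L149739 : sm ga N17587 = N12499 := ded_12_1 (flp_d L106627) (flp_a L103298) L149737
theorem L149741 : sm gb N17587 = N12098 := ded_20_1 (flp_d L103338) (flp_b L103300) L149737
theorem L149745 : sm gg N12093 = N17588 := rfl
theorem L149751 : sm ge N17588 = N12094 := ded_41_1 (flp_g L103303) L103296 L149745
theorem L149753 : sm gh N12093 = N17589 := rfl
theorem L149762 : sm gj N12094 = N17590 := rfl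
theorem L149764 : sm ga N17590 = N12502 := ded_16_1 (flp_j L106646) (flp_a L103305) L149762
theorem L149826 : sm gg N12098 = N17597 := rfl
theorem L149830 : sm gd N17597 = N12099 := ded_36_1 (flp_g L103344) L103338 L149826
theorem L149833 : sm gh N12098 = N17598 := rfl
theorem L149839 : sm gf N12099 = N17599 := rfl
theorem L149845 : sm ge N17599 = N12292 := ded_40_1 (flp_f L104903) L72487 (flp_f L71475) (flp_e L103350) L149839
theorem L149856 : sm gh N12099 = N17601 := rfl
theorem L149864 : sm gg N17601 = N12100 := ded_50_1 (flp_h L103352) L103344 L149856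
theorem L149866 : sm gd N12100 = N17602 := rfl
theorem L149890 : sm gd N12102 = N17605 := rfl
theorem L149896 : sm gg N17605 = N12103 := ded_36_2 (flp_d L103380) (flp_g L103378) L149890
theorem L149900 : sm gi N12102 = N17606 := rfl
theorem L149910 : sm ge N12103 = N17607 := rfl
theorem L149916 : sm gi N12103 = N17608 := rfl
theorem L149925 : sm gf N12105 = N17609 := rfl
theorem L149932 : sm gi N12105 = N17610 := rfl
theorem L149940 : sm gg N17610 = N12303 := ded_51_1 (flp_i L104995) (flp_g L103401) L149932
theorem L149950 : sm gj N12107 = N17612 := rfl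
theorem L149958 : sm gh N12107 = N17613 := rfl
theorem L149964 : sm gf N17613 = N12109 := ded_47_1 (flp_h L103427) L103414 L149958
theorem L149967 : sm gh N12108 = N17614 := rfl
theorem L149973 : sm gj N17614 = N12109 := ded_52_1 (flp_h L103427) L103421 L149967
theorem L149982 : sm gi N12109 = N17616 := rfl
theorem L149990 : sm gc N12110 = N17617 := rfl
theorem L149996 : sm gi N12110 = N17618 := rfl
theorem L150013 : sm gf N12114 = N17620 := rfl
theorem L150015 : sm gb N17620 = N12532 := ded_22_1 (flp_f L106899) (flp_b L103468) L150013
theorem L150017 : sm gd N17620 = N12116 := ded_35_1 (flp_f L103479) (flp_d L103470) L150013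
theorem L150020 : sm gj N12114 = N17621 := rfl
theorem L150024 : sm gd N17621 = N12117 := ded_37_1 (flp_j L103488) (flp_d L103470) L150020
theorem L150027 : sm gh N12114 = N17622 := rfl
theorem L150032 : sm gg N17622 = N12115 := ded_50_1 (flp_h L103473) L103466 L150027
theorem L150034 : sm gd N12115 = N17623 := rfl
theorem L150036 : sm gb N17623 = N12535 := ded_20_1 (flp_d L106917) (flp_b L103475) L150034
theorem L150039 : sm gh N17623 = N12119 := ded_38_2 (flp_d L103506) (flp_h L71553) L71539 L103473 L150034
theorem L150047 : sm gj N12116 = N17625 := rfl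
theorem L150049 : sm gb N17625 = N12537 := ded_24_1 (flp_j L106927) (flp_b L103481) L150047
theorem L150051 : sm gc N17625 = N12129 := ded_31_1 (flp_j L103590) (flp_c L103483) L150047
theorem L150055 : sm gf N17625 = N12117 := ded_46_1 (flp_j L103488) L103479 L150047
theorem L150057 : sm gh N12116 = N17626 := rfl
theorem L150059 : sm gb N17626 = N12538 := ded_25_1 (flp_h L106935) (flp_b L103481) L150057
theorem L150061 : sm gc N17626 = N12130 := ded_32_1 (flp_h L103598) (flp_c L103483) L150057
theorem L150068 : sm gh N12117 = N17627 := rfl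
theorem L150078 : sm gd N12118 = N17628 := rfl
theorem L150082 : sm gg N17628 = N12119 := ded_36_2 (flp_d L103506) (flp_g L103504) L150078
theorem L150094 : sm gc N12119 = N17630 := rfl
theorem L150097 : sm gd N17630 = N12134 := ded_27_2 (flp_c L103630) (flp_d L71636) (flp_c L71557) L103506 L150094
theorem L150105 : sm gi N12119 = N17632 := rfl
theorem L150112 : sm gd N12121 = N17633 := rfl
theorem L150116 : sm gf N17633 = N12326 := ded_35_2 (flp_d L105182) (flp_f L103526) L150112
theorem L150201 : sm gg N12129 = N17643 := rfl
theorem L150203 : sm gb N17643 = N12137 := ded_23_1 (flp_g L103651) (flp_b L103592) L150201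
theorem L150208 : sm gh N12129 = N17644 := rfl
theorem L150216 : sm gj N17644 = N12130 := ded_52_1 (flp_h L103598) L103590 L150208
theorem L150218 : sm gd N12130 = N17645 := rfl
theorem L150220 : sm gb N17645 = N12139 := ded_20_1 (flp_d L103668) (flp_b L103600) L150218
theorem L150222 : sm gf N17645 = N12132 := ded_35_2 (flp_d L103615) (flp_f L103604) L150218
theorem L150225 : sm gi N12130 = N17646 := rfl
theorem L150234 : sm gd N12131 = N17647 := rfl
theorem L150236 : sm gb N17647 = N12141 := ded_20_1 (flp_d L103682) (flp_b L103609) L150234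
theorem L150238 : sm gj N17647 = N12132 := ded_37_2 (flp_d L103615) (flp_j L103613) L150234
theorem L150249 : sm gc N12132 = N17649 := rfl
theorem L150254 : sm gi N12132 = N17650 := rfl
theorem L150263 : sm gb N12134 = N17651 := rfl
theorem L150267 : sm gc N17651 = N12145 := ded_19_2 (flp_b L103709) (flp_c L71705) (flp_b L71638) L103630 L150263
theorem L150269 : sm gi N12134 = N17652 := rfl
theorem L150281 : sm gh N12137 = N17654 := rfl
theorem L150283 : sm gc N17654 = N12566 := ded_32_1 (flp_h L107149) (flp_c L103653) L150281
theorem L150287 : sm gg N17654 = N12138 := ded_50_1 (flp_h L103658) L103651 L150281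
theorem L150290 : sm gd N12138 = N17655 := rfl
theorem L150296 : sm gi N12138 = N17656 := rfl
theorem L150319 : sm gi N12139 = N17659 := rfl
theorem L150321 : sm gd N17659 = N12140 := ded_39_1 (flp_i L103673) L103668 L150319
theorem L150326 : sm gc N12141 = N17660 := rfl
theorem L150329 : sm gj N17660 = N12143 := ded_31_2 (flp_c L103695) (flp_j L103684) L150326
theorem L150333 : sm gi N12141 = N17661 := rfl
theorem L150335 : sm gd N17661 = N12142 := ded_39_1 (flp_i L103687) L103682 L150333
theorem L150347 : sm gi N12143 = N17663 := rfl
theorem L150354 : sm gg N17663 = N12146 := ded_51_1 (flp_i L103715) (flp_g L103698) L150347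
theorem L150367 : sm gi N12145 = N17666 := rfl
theorem L150371 : sm gd N17666 = N12577 := ded_39_1 (flp_i L107230) (flp_d L103711) L150367
theorem L150375 : sm gh N12146 = N17667 := rfl
theorem L150390 : sm gf N12148 = N17669 := rfl
theorem L150396 : sm gd N17669 = N12165 := ded_35_1 (flp_f L103867) (flp_d L103734) L150390
theorem L150400 : sm gh N12148 = N17670 := rfl
theorem L150402 : sm ga N17670 = N12153 := ded_17_1 (flp_h L103772) (flp_a L103729) L150400
theorem L150408 : sm ge N12149 = N17671 := rfl
theorem L150410 : sm ga N17671 = N12154 := ded_13_1 (flp_e L103779) (flp_a L103738) L150408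
theorem L150417 : sm gg N12149 = N17672 := rfl
theorem L150419 : sm ga N17672 = N12155 := ded_15_1 (flp_g L103787) (flp_a L103738) L150417
theorem L150425 : sm gh N12149 = N17673 := rfl
theorem L150427 : sm ga N17673 = N12156 := ded_17_1 (flp_h L103794) (flp_a L103738) L150425
theorem L150454 : sm ge N12152 = N17676 := rfl
theorem L150457 : sm gc N17676 = N12154 := ded_28_1 (flp_e L103779) (flp_c L103766) L150454
theorem L150462 : sm gg N12152 = N17677 := rfl
theorem L150465 : sm gc N17677 = N12155 := ded_30_1 (flp_g L103787) (flp_c L103766) L150462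
theorem L150470 : sm gh N12152 = N17678 := rfl
theorem L150473 : sm gc N17678 = N12156 := ded_32_1 (flp_h L103794) (flp_c L103766) L150470
theorem L150478 : sm gd N12153 = N17679 := rfl
theorem L150483 : sm gh N17679 = N12175 := ded_38_2 (flp_d L103948) (flp_h L71855) (flp_d L71751) L103772 L150478
theorem L150501 : sm gh N12154 = N17682 := rfl
theorem L150509 : sm gj N12155 = N17683 := rfl
theorem L150533 : sm gf N12159 = N17686 := rfl
theorem L150540 : sm gj N12159 = N17687 := rfl
theorem L150549 : sm gh N12159 = N17688 := rfl
theorem L150553 : sm ge N17688 = N12162 := ded_43_1 (flp_h L103844) (flp_e L103825) L150549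
theorem L150573 : sm gh N12161 = N17691 := rfl
theorem L150577 : sm gg N17691 = N17691 := ded_50_1 (flp_h L150573) L103843 L150573
theorem L150581 : sm gi N12162 = N17692 := rfl
theorem L150586 : sm gg N17692 = N12163 := ded_51_1 (flp_i L103851) (flp_g L103848) L150581
theorem L150589 : sm gf N12164 = N17693 := rfl
theorem L150592 : sm gb N17693 = N12165 := ded_22_1 (flp_f L103867) L103860 L150589
theorem L150596 : sm gh N12164 = N17694 := rfl
theorem L150604 : sm ge N12165 = N17695 := rfl
theorem L150608 : sm gc N17695 = N12167 := ded_28_1 (flp_e L103884) (flp_c L103871) L150604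
theorem L150621 : sm gh N12165 = N17697 := rfl
theorem L150654 : sm gh N12167 = N17701 := rfl
theorem L150663 : sm gj N12168 = N17702 := rfl
theorem L150665 : sm ga N17702 = N12179 := ded_16_1 (flp_j L103979) (flp_a L103895) L150663
theorem L150670 : sm gg N17702 = N17702 := ded_49_1 (flp_j L150663) (flp_g L103893) L71831 L103893 L150663
theorem L150678 : sm gi N12169 = N17704 := rfl
theorem L150680 : sm ga N17704 = N12181 := ded_18_1 (flp_i L103994) (flp_a L103902) L150678
theorem L150687 : sm gd N12172 = N17705 := rfl
theorem L150690 : sm gf N17705 = N12201 := ded_35_2 (flp_d L104151) (flp_f L103932) L150687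
theorem L150695 : sm gg N12172 = N17706 := rfl
theorem L150698 : sm gc N17706 = N12177 := ded_30_1 (flp_g L103962) (flp_c L103928) L150695
theorem L150703 : sm gh N12172 = N17707 := rfl
theorem L150706 : sm gc N17707 = N12178 := ded_32_1 (flp_h L103970) (flp_c L103928) L150703
theorem L150708 : sm ge N17707 = N12174 := ded_43_1 (flp_h L103940) L103925 L150703
theorem L150710 : sm gf N17707 = N12203 := ded_47_1 (flp_h L104166) (flp_f L103932) L150703
theorem L150713 : sm gj N12173 = N17708 := rfl
theorem L150716 : sm gc N17708 = N12179 := ded_31_1 (flp_j L103979) (flp_c L103937) L150713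
theorem L150734 : sm gi N12174 = N17711 := rfl
theorem L150737 : sm gc N17711 = N12181 := ded_33_1 (flp_i L103994) (flp_c L103943) L150734
theorem L150743 : sm ge N12175 = N17712 := rfl
theorem L150750 : sm gi N12175 = N17713 := rfl
theorem L150774 : sm gh N12177 = N17716 := rfl
theorem L150776 : sm gb N17716 = N12184 := ded_25_1 (flp_h L104018) (flp_b L103964) L150774
theorem L150782 : sm gd N12178 = N17717 := rfl
theorem L150784 : sm gb N17717 = N12185 := ded_20_1 (flp_d L104025) (flp_b L103972) L150782
theorem L150791 : sm gi N12178 = N17718 := rfl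
theorem L150801 : sm gh N12179 = N17719 := rfl
theorem L150817 : sm gj N12182 = N17721 := rfl
theorem L150821 : sm gf N17721 = N12183 := ded_46_1 (flp_j L104010) L104003 L150817
theorem L150824 : sm gh N12182 = N17722 := rfl
theorem L150831 : sm gh N12183 = N17723 := rfl
theorem L150839 : sm gd N12184 = N17724 := rfl
theorem L150853 : sm gc N12185 = N17726 := rfl
theorem L150861 : sm gi N12185 = N17727 := rfl
theorem L150866 : sm gf N17727 = N12223 := ded_48_1 (flp_i L104321) (flp_f L104027) L150861
theorem L150877 : sm ge N12189 = N17729 := rfl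
theorem L150880 : sm gb N17729 = N12191 := ded_21_1 (flp_e L104069) (flp_b L104058) L150877
theorem L150899 : sm gd N12190 = N17732 := rfl
theorem L150913 : sm gd N12191 = N17734 := rfl
theorem L150915 : sm ga N17734 = N12201 := ded_12_1 (flp_d L104151) (flp_a L104071) L150913
theorem L150921 : sm gg N12191 = N17735 := rfl
theorem L150925 : sm gc N17735 = N12196 := ded_30_1 (flp_g L104110) (flp_c L104073) L150921
theorem L150927 : sm ge N17735 = N12192 := ded_41_1 (flp_g L104077) L104069 L150921
theorem L150939 : sm gj N12192 = N17737 := rfl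
theorem L150948 : sm gh N12192 = N17738 := rfl
theorem L150954 : sm gg N17738 = N12193 := ded_50_1 (flp_h L104085) L104077 L150948
theorem L150956 : sm gd N12193 = N17739 := rfl
theorem L150966 : sm gi N12193 = N17740 := rfl
theorem L150970 : sm gc N17740 = N12200 := ded_33_1 (flp_i L104141) (flp_c L104089) L150966
theorem L150999 : sm gj N12196 = N17744 := rfl
theorem L151004 : sm ge N17744 = N12198 := ded_42_1 (flp_j L104125) (flp_e L104115) L150999
theorem L151008 : sm gh N12196 = N17745 := rfl
theorem L151014 : sm gg N17745 = N12197 := ded_50_1 (flp_h L104118) L104110 L151008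
theorem L151016 : sm gd N12197 = N17746 := rfl
theorem L151021 : sm ge N17746 = N12242 := ded_34_2 (flp_d L104490) L72204 (flp_d L71983) (flp_e L104122) L151016
theorem L151032 : sm gh N12198 = N17748 := rfl
theorem L151050 : sm gg N12201 = N17750 := rfl
theorem L151054 : sm gd N17750 = N12202 := ded_36_1 (flp_g L104158) L104151 L151050
theorem L151064 : sm gf N12202 = N17752 := rfl
theorem L151070 : sm gj N12202 = N17753 := rfl
theorem L151079 : sm gh N12202 = N17754 := rfl
theorem L151086 : sm gg N17754 = N12203 := ded_50_1 (flp_h L104166) L104158 L151079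
theorem L151092 : sm gi N12203 = N17756 := rfl
theorem L151101 : sm gh N12204 = N17757 := rfl
theorem L151107 : sm gj N17757 = N12205 := ded_52_1 (flp_h L104182) L104174 L151101
theorem L151117 : sm gi N12205 = N17759 := rfl
theorem L151132 : sm gi N12206 = N17761 := rfl
theorem L151135 : sm gc N17761 = N12257 := ded_33_1 (flp_i L104620) (flp_c L104195) L151132
theorem L151139 : sm gf N17761 = N12209 := ded_48_1 (flp_i L104214) (flp_f L104192) L151132
theorem L151157 : sm gh N12209 = N17764 := rfl
theorem L151237 : sm gh N12217 = N17774 := rfl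
theorem L151240 : sm gf N17774 = N12219 := ded_47_1 (flp_h L104291) (flp_f L104283) L151237
theorem L151242 : sm gj N17774 = N12218 := ded_52_1 (flp_h L104286) L104279 L151237
theorem L151244 : sm gd N12218 = N17775 := rfl
theorem L151255 : sm gd N12219 = N17777 := rfl
theorem L151258 : sm gj N17777 = N12220 := ded_37_2 (flp_d L104299) (flp_j L104297) L151255
theorem L151260 : sm ge N17777 = N12273 := ded_34_2 (flp_d L104748) L72391 (flp_d L72119) (flp_e L104294) L151255
theorem L151263 : sm gi N12219 = N17778 := rfl
theorem L151272 : sm gc N12220 = N17779 := rfl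
theorem L151274 : sm ge N17779 = N12275 := ded_28_2 (flp_c L104765) (flp_e L104303) L151272
theorem L151276 : sm gg N17779 = N12222 := ded_30_2 (flp_c L104314) (flp_g L104301) L151272
theorem L151280 : sm gi N12220 = N17780 := rfl
theorem L151284 : sm ge N17780 = N12276 := ded_44_1 (flp_i L104772) (flp_e L104303) L151280
theorem L151288 : sm gb N12222 = N17781 := rfl
theorem L151303 : sm gh N12223 = N17783 := rfl
theorem L151331 : sm gh N12225 = N17786 := rfl
theorem L151333 : sm ga N17786 = N12581 := ded_17_1 (flp_h L107262) (flp_a L104339) L151331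
theorem L151335 : sm gb N17786 = N12232 := ded_25_1 (flp_h L104403) (flp_b L104341) L151331
theorem L151341 : sm gj N12226 = N17787 := rfl
theorem L151348 : sm gi N17787 = N12283 := ded_53_2 (flp_j L104827) (flp_i L104354) L151341
theorem L151351 : sm gh N12226 = N17788 := rfl
theorem L151357 : sm gg N17788 = N12227 := ded_50_1 (flp_h L104356) L104347 L151351
theorem L151359 : sm gd N12227 = N17789 := rfl
theorem L151365 : sm gf N17789 = N12228 := ded_35_2 (flp_d L104365) (flp_f L104362) L151359
theorem L151386 : sm ge N12228 = N17792 := rfl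
theorem L151395 : sm gi N12228 = N17793 := rfl
theorem L151404 : sm gg N12230 = N17794 := rfl
theorem L151406 : sm ga N17794 = N12246 := ded_15_1 (flp_g L104522) (flp_a L104385) L151404
theorem L151409 : sm gd N17794 = N12231 := ded_36_1 (flp_g L104393) L104383 L151404
theorem L151412 : sm gi N17794 = N12290 := ded_51_2 (flp_g L104887) (flp_i L104389) L151404
theorem L151422 : sm gf N12231 = N17796 := rfl
theorem L151424 : sm ga N17796 = N12248 := ded_14_1 (flp_f L104540) (flp_a L104395) L151422
theorem L151428 : sm gi N17796 = N12292 := ded_48_2 (flp_f L104903) (flp_i L104401) L151422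
theorem L151431 : sm gj N12231 = N17797 := rfl
theorem L151437 : sm ge N17797 = N12233 := ded_42_1 (flp_j L104413) (flp_e L104399) L151431
theorem L151439 : sm gi N17797 = N12293 := ded_53_2 (flp_j L104910) (flp_i L104401) L151431
theorem L151442 : sm gh N12231 = N17798 := rfl
theorem L151450 : sm gg N17798 = N12232 := ded_50_1 (flp_h L104403) L104393 L151442
theorem L151452 : sm gd N12232 = N17799 := rfl
theorem L151458 : sm gi N12232 = N17800 := rfl
theorem L151468 : sm gh N17800 = N12296 := ded_54_1 (flp_i L104935) (flp_h L72489) (flp_i L72154) L104403 L151458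
theorem L151486 : sm gi N12234 = N17803 := rfl
theorem L151490 : sm gc N17803 = N12245 := ded_33_1 (flp_i L104514) (flp_c L104427) L151486
theorem L151550 : sm gh N12240 = N17811 := rfl
theorem L151552 : sm ga N17811 = N12263 := ded_17_1 (flp_h L104668) (flp_a L104474) L151550
theorem L151557 : sm gj N17811 = N12241 := ded_52_1 (flp_h L104482) L104472 L151550
theorem L151559 : sm gd N12241 = N17812 := rfl
theorem L151563 : sm gg N17812 = N12242 := ded_36_2 (flp_d L104490) (flp_g L104488) L151559
theorem L151566 : sm gi N12241 = N17813 := rfl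
theorem L151570 : sm ge N17813 = N12245 := ded_44_1 (flp_i L104514) (flp_e L104486) L151566
theorem L151583 : sm gi N12242 = N17815 := rfl
theorem L151600 : sm gf N12246 = N17817 := rfl
theorem L151605 : sm gd N17817 = N12248 := ded_35_1 (flp_f L104540) (flp_d L104527) L151600
theorem L151607 : sm gi N17817 = N12313 := ded_48_2 (flp_f L105075) (flp_i L104530) L151600
theorem L151610 : sm gj N12246 = N17818 := rfl
theorem L151612 : sm gb N17818 = N12613 := ded_24_1 (flp_j L107541) (flp_b L104524) L151610
theorem L151629 : sm gd N12247 = N17820 := rfl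
theorem L151635 : sm gh N17820 = N12251 := ded_38_2 (flp_d L104570) (flp_h L72252) L72232 L104532 L151629
theorem L151647 : sm gj N12248 = N17822 := rfl
theorem L151657 : sm gh N12248 = N17823 := rfl
theorem L151661 : sm gc N17823 = N12262 := ded_32_1 (flp_h L104661) (flp_c L104544) L151657
theorem L151663 : sm gf N17823 = N12250 := ded_47_1 (flp_h L104560) L104540 L151657
theorem L151677 : sm gd N12250 = N17825 := rfl
theorem L151681 : sm gg N17825 = N12251 := ded_36_2 (flp_d L104570) (flp_g L104568) L151677
theorem L151683 : sm gi N12250 = N17826 := rfl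
theorem L151693 : sm gh N17826 = N12322 := ded_54_1 (flp_i L105150) (flp_h L72634) (flp_i L72250) L104560 L151683
theorem L151695 : sm gc N12251 = N17827 := rfl
theorem L151701 : sm ge N12251 = N17828 := rfl
theorem L151706 : sm gd N17828 = N12256 := ded_34_1 (flp_e L104614) (flp_d L72280) (flp_e L72258) L104570 L151701
theorem L151708 : sm gi N12251 = N17829 := rfl
theorem L151716 : sm gd N12253 = N17830 := rfl
theorem L151721 : sm gj N17830 = N12254 := ded_37_2 (flp_d L104597) (flp_j L104595) L151716
theorem L151724 : sm gi N12253 = N17831 := rfl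
theorem L151733 : sm gh N17831 = N12327 := ded_54_1 (flp_i L105191) (flp_h L72660) (flp_i L72269) L104588 L151724
theorem L151750 : sm gf N12256 = N17834 := rfl
theorem L151756 : sm ge N17834 = N12258 := ded_40_1 (flp_f L104629) (flp_e L72299) (flp_f L72284) L104614 L151750
theorem L151765 : sm gh N12257 = N17836 := rfl
theorem L151775 : sm gg N12258 = N17837 := rfl
theorem L151781 : sm gi N12258 = N17838 := rfl
theorem L151783 : sm gb N17838 = N12633 := ded_26_1 (flp_i L107684) (flp_b L104631) L151781
theorem L151789 : sm gh N12259 = N17839 := rfl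
theorem L151791 : sm gb N17839 = N12634 := ded_25_1 (flp_h L107691) (flp_b L104638) L151789
theorem L151806 : sm gh N12261 = N17841 := rfl
theorem L151810 : sm gf N17841 = N12263 := ded_47_1 (flp_h L104668) (flp_f L104657) L151806
theorem L151812 : sm gj N17841 = N12262 := ded_52_1 (flp_h L104661) L104652 L151806
theorem L151814 : sm gd N12262 = N17842 := rfl
theorem L151818 : sm gf N17842 = N12264 := ded_35_2 (flp_d L104677) (flp_f L104665) L151814
theorem L151822 : sm gi N12262 = N17843 := rfl
theorem L151824 : sm gb N17843 = N12272 := ded_26_1 (flp_i L104739) (flp_b L104663) L151822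
theorem L151831 : sm gd N12263 = N17844 := rfl
theorem L151836 : sm gj N17844 = N12264 := ded_37_2 (flp_d L104677) (flp_j L104675) L151831
theorem L151855 : sm gi N12264 = N17847 := rfl
theorem L151861 : sm gg N17847 = N12267 := ded_51_1 (flp_i L104699) (flp_g L104681) L151855
theorem L151876 : sm gh N12267 = N17850 := rfl
theorem L151893 : sm gd N12270 = N17852 := rfl
theorem L151895 : sm gf N17852 = N12273 := ded_35_2 (flp_d L104748) (flp_f L104729) L151893
theorem L151897 : sm gj N17852 = N12271 := ded_37_2 (flp_d L104733) (flp_j L104731) L151893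
theorem L151910 : sm gc N12271 = N17854 := rfl
theorem L151916 : sm gd N17854 = N12648 := ded_27_2 (flp_c L107811) (flp_d L74460) (flp_c L72382) L104733 L151910
theorem L151929 : sm gc N12273 = N17857 := rfl
theorem L151932 : sm gj N17857 = N12275 := ded_31_2 (flp_c L104765) (flp_j L104751) L151929
theorem L151944 : sm gb N12275 = N17859 := rfl
theorem L151948 : sm gg N17859 = N12277 := ded_23_2 (flp_b L104778) (flp_g L104767) L151944
theorem L151951 : sm gi N12275 = N17860 := rfl
theorem L151973 : sm gi N12277 = N17863 := rfl
theorem L151975 : sm gb N17863 = N12278 := ded_26_1 (flp_i L104785) L104778 L151973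
theorem L151981 : sm gh N12278 = N17864 := rfl
theorem L151989 : sm gc N12280 = N17865 := rfl
theorem L151991 : sm ga N17865 = N12657 := ded_11_1 (flp_c L107879) (flp_a L104802) L151989
theorem L152006 : sm gh N12280 = N17867 := rfl
theorem L152010 : sm gb N17867 = N12291 := ded_25_1 (flp_h L104895) (flp_b L104804) L152006
theorem L152015 : sm gf N12281 = N17868 := rfl
theorem L152017 : sm ga N17868 = N12660 := ded_14_1 (flp_f L107900) (flp_a L104811) L152015
theorem L152019 : sm gb N17868 = N12292 := ded_22_1 (flp_f L104903) (flp_b L104813) L152015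
theorem L152041 : sm gd N12282 = N17871 := rfl
theorem L152043 : sm ga N17871 = N12663 := ded_12_1 (flp_d L107920) (flp_a L104819) L152041
theorem L152045 : sm gb N17871 = N12295 := ded_20_1 (flp_d L104929) (flp_b L104821) L152041
theorem L152059 : sm gh N12283 = N17873 := rfl
theorem L152157 : sm gf N12290 = N17884 := rfl
theorem L152159 : sm ga N17884 = N12313 := ded_14_1 (flp_f L105075) (flp_a L104889) L152157
theorem L152162 : sm gd N17884 = N12292 := ded_35_1 (flp_f L104903) (flp_d L104892) L152157
theorem L152174 : sm gh N12290 = N17886 := rfl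
theorem L152180 : sm gg N17886 = N12291 := ded_50_1 (flp_h L104895) L104887 L152174
theorem L152182 : sm gd N12291 = N17887 := rfl
theorem L152188 : sm gh N17887 = N12295 := ded_38_2 (flp_d L104929) (flp_h L72489) L72473 L104895 L152182
theorem L152190 : sm gi N12291 = N17888 := rfl
theorem L152198 : sm gj N12292 = N17889 := rfl
theorem L152206 : sm gh N12292 = N17890 := rfl
theorem L152208 : sm ga N17890 = N12319 := ded_17_1 (flp_h L105124) (flp_a L104905) L152206
theorem L152215 : sm gh N12293 = N17891 := rfl
theorem L152217 : sm ga N17891 = N12320 := ded_17_1 (flp_h L105133) (flp_a L104912) L152215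
theorem L152224 : sm gj N17891 = N12294 := ded_52_1 (flp_h L104919) L104910 L152215
theorem L152242 : sm gc N12295 = N17894 := rfl
theorem L152248 : sm gd N17894 = N12310 := ded_27_2 (flp_c L105050) (flp_d L72571) (flp_c L72493) L104929 L152242
theorem L152326 : sm gg N12302 = N17904 := rfl
theorem L152328 : sm ga N17904 = N12333 := ded_15_1 (flp_g L105243) (flp_a L104989) L152326
theorem L152342 : sm gh N12303 = N17906 := rfl
theorem L152351 : sm gg N12305 = N17907 := rfl
theorem L152358 : sm gh N12305 = N17908 := rfl
theorem L152360 : sm ga N17908 = N12337 := ded_17_1 (flp_h L105275) (flp_a L105013) L152358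
theorem L152366 : sm gd N12306 = N17909 := rfl
theorem L152368 : sm ga N17909 = N12338 := ded_12_1 (flp_d L105283) (flp_a L105020) L152366
theorem L152381 : sm gd N12307 = N17911 := rfl
theorem L152383 : sm ga N17911 = N12340 := ded_12_1 (flp_d L105298) (flp_a L105027) L152381
theorem L152386 : sm gj N17911 = N12308 := ded_37_2 (flp_d L105034) (flp_j L105032) L152381
theorem L152399 : sm gc N12308 = N17913 := rfl
theorem L152404 : sm gg N17913 = N12310 := ded_30_2 (flp_c L105050) (flp_g L105038) L152399
theorem L152407 : sm gi N12308 = N17914 := rfl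
theorem L152416 : sm gb N12310 = N17915 := rfl
theorem L152423 : sm gi N12310 = N17916 := rfl
theorem L152440 : sm ge N12313 = N17918 := rfl
theorem L152447 : sm gj N12313 = N17919 := rfl
theorem L152464 : sm gh N12314 = N17921 := rfl
theorem L152471 : sm gj N17921 = N12315 := ded_52_1 (flp_h L105092) L105083 L152464
theorem L152473 : sm gd N12315 = N17922 := rfl
theorem L152475 : sm gb N17922 = N12706 := ded_20_1 (flp_d L108280) (flp_b L105094) L152473
theorem L152479 : sm gh N17922 = N12321 := ded_38_2 (flp_d L105144) (flp_h L72634) (flp_d L72607) L105092 L152473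
theorem L152489 : sm gc N12316 = N17924 := rfl
theorem L152493 : sm gh N17924 = N12323 := ded_32_2 (flp_c L105160) (flp_h L105106) L152489
theorem L152497 : sm ge N12316 = N17925 := rfl
theorem L152499 : sm gb N17925 = N12708 := ded_21_1 (flp_e L108294) (flp_b L105102) L152497
theorem L152502 : sm gh N17925 = N12324 := ded_43_2 (flp_e L105167) (flp_h L105106) L152497
theorem L152505 : sm gi N12316 = N17926 := rfl
theorem L152521 : sm gh N12318 = N17928 := rfl
theorem L152527 : sm gf N17928 = N12320 := ded_47_1 (flp_h L105133) (flp_f L105122) L152521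
theorem L152529 : sm gj N17928 = N12319 := ded_52_1 (flp_h L105124) L105116 L152521
theorem L152531 : sm gd N12319 = N17929 := rfl
theorem L152547 : sm gd N12320 = N17931 := rfl
theorem L152549 : sm gb N17931 = N12714 := ded_20_1 (flp_d L108335) (flp_b L105135) L152547
theorem L152552 : sm gj N17931 = N12321 := ded_37_2 (flp_d L105144) (flp_j L105142) L152547
theorem L152554 : sm gi N12320 = N17932 := rfl
theorem L152556 : sm gb N17932 = N12715 := ded_26_1 (flp_i L108341) (flp_b L105135) L152554
theorem L152565 : sm gc N12321 = N17933 := rfl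
theorem L152567 : sm gg N17933 = N12323 := ded_30_2 (flp_c L105160) (flp_g L105148) L152565
theorem L152572 : sm ge N12321 = N17934 := rfl
theorem L152580 : sm gi N12321 = N17935 := rfl
theorem L152595 : sm gi N12323 = N17937 := rfl
theorem L152598 : sm gc N17937 = N12325 := ded_33_1 (flp_i L105174) L105160 L152595
theorem L152604 : sm gf N12324 = N17938 := rfl
theorem L152608 : sm gd N17938 = N12330 := ded_35_1 (flp_f L105217) (flp_d L105172) L152604
theorem L152636 : sm gi N12326 = N17942 := rfl
theorem L152641 : sm gd N17942 = N12327 := ded_39_1 (flp_i L105191) L105182 L152636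
theorem L152669 : sm gg N12330 = N17946 := rfl
theorem L152674 : sm ge N17946 = N12333 := ded_41_1 (flp_g L105243) (flp_e L105224) L152669
theorem L152696 : sm gj N12333 = N17949 := rfl
theorem L152704 : sm gi N12333 = N17950 := rfl
theorem L152710 : sm gg N17950 = N12334 := ded_51_1 (flp_i L105250) L105243 L152704
theorem L152712 : sm gh N12334 = N17951 := rfl
theorem L152736 : sm gd N12337 = N17954 := rfl
theorem L152738 : sm gb N17954 = N12347 := ded_20_1 (flp_d L105356) (flp_b L105277) L152736
theorem L152742 : sm gj N17954 = N12338 := ded_37_2 (flp_d L105283) (flp_j L105281) L152736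
theorem L152745 : sm gi N12337 = N17955 := rfl
theorem L152753 : sm gc N12338 = N17956 := rfl
theorem L152760 : sm ge N12338 = N17957 := rfl
theorem L152767 : sm gi N12338 = N17958 := rfl
theorem L152769 : sm gb N17958 = N12350 := ded_26_1 (flp_i L105378) (flp_b L105285) L152767
theorem L152776 : sm gc N12340 = N17959 := rfl
theorem L152784 : sm gi N12340 = N17960 := rfl
theorem L152819 : sm gd N12346 = N17964 := rfl
theorem L152822 : sm gg N17964 = N12347 := ded_36_2 (flp_d L105356) (flp_g L105353) L152819
theorem L152835 : sm ge N12347 = N17966 := rfl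
theorem L152838 : sm gj N17966 = N12349 := ded_42_2 (flp_e L105372) (flp_j L105360) L152835
theorem L152842 : sm gi N12347 = N17967 := rfl
theorem L152851 : sm gi N12349 = N17968 := rfl
theorem L152873 : sm ge N12353 = N17971 := rfl
theorem L152875 : sm gb N17971 = N12355 := ded_21_1 (flp_e L105419) (flp_b L105404) L152873
theorem L152879 : sm gi N17971 = N12389 := ded_44_2 (flp_e L105725) (flp_i L105409) L152873
theorem L152882 : sm gg N12353 = N17972 := rfl
theorem L152884 : sm gb N17972 = N12356 := ded_23_1 (flp_g L105430) (flp_b L105404) L152882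
theorem L152887 : sm gi N17972 = N12390 := ded_51_2 (flp_g L105732) (flp_i L105409) L152882
theorem L152890 : sm gh N12353 = N17973 := rfl
theorem L152894 : sm gf N17973 = N12354 := ded_47_1 (flp_h L105411) L105402 L152890
theorem L152898 : sm gd N12354 = N17974 := rfl
theorem L152903 : sm gj N17974 = N12447 := ded_37_2 (flp_d L106209) (flp_j L105417) L152898
theorem L152906 : sm gi N12354 = N17975 := rfl
theorem L152916 : sm gd N12355 = N17976 := rfl
theorem L152918 : sm ga N17976 = N12365 := ded_12_1 (flp_d L105519) (flp_a L105421) L152916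
theorem L152923 : sm gi N17976 = N12394 := ded_39_2 (flp_d L105762) (flp_i L105427) L152916
theorem L152927 : sm gg N12355 = N17977 := rfl
theorem L152929 : sm ga N17977 = N12366 := ded_15_1 (flp_g L105528) (flp_a L105421) L152927
theorem L152935 : sm gi N17977 = N12395 := ded_51_2 (flp_g L105771) (flp_i L105427) L152927
theorem L152960 : sm gh N12356 = N17980 := rfl
theorem L152967 : sm gg N17980 = N12357 := ded_50_1 (flp_h L105440) L105430 L152960
theorem L152969 : sm gd N12357 = N17981 := rfl
theorem L152973 : sm gf N17981 = N12358 := ded_35_2 (flp_d L105450) (flp_f L105446) L152969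
theorem L152975 : sm gj N17981 = N12454 := ded_37_2 (flp_d L106274) (flp_j L105448) L152969
theorem L152991 : sm ge N12358 = N17983 := rfl
theorem L152997 : sm gj N17983 = N12456 := ded_42_2 (flp_e L106292) (flp_j L105455) L152991
theorem L153020 : sm gj N12360 = N17986 := rfl
theorem L153027 : sm gi N17986 = N12404 := ded_53_2 (flp_j L105859) (flp_i L105478) L153020
theorem L153029 : sm gg N17986 = N12459 := ded_49_1 (flp_j L106320) (flp_g L73436) (flp_j L72884) L105471 L153020
theorem L153039 : sm gd N12361 = N17988 := rfl
theorem L153044 : sm gj N17988 = N12461 := ded_37_2 (flp_d L106337) (flp_j L105487) L153039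
theorem L153059 : sm gh N12362 = N17990 := rfl
theorem L153066 : sm gj N17990 = N12363 := ded_52_1 (flp_h L105500) L105489 L153059
theorem L153069 : sm gi N12363 = N17991 := rfl
theorem L153079 : sm gg N12365 = N17992 := rfl
theorem L153087 : sm gh N12365 = N17993 := rfl
theorem L153092 : sm gj N17993 = N12466 := ded_52_1 (flp_h L106381) (flp_j L105522) L153087
theorem L153094 : sm gf N12366 = N17994 := rfl
theorem L153096 : sm gc N17994 = N12374 := ded_29_1 (flp_f L105596) (flp_c L105530) L153094
theorem L153098 : sm gi N17994 = N12412 := ded_48_2 (flp_f L105928) (flp_i L105534) L153094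
theorem L153112 : sm gh N12366 = N17996 := rfl
theorem L153114 : sm gc N17996 = N12376 := ded_32_1 (flp_h L105616) (flp_c L105530) L153112
theorem L153120 : sm gd N12367 = N17997 := rfl
theorem L153123 : sm gj N17997 = N12470 := ded_37_2 (flp_d L106411) (flp_j L105543) L153120
theorem L153136 : sm gh N12368 = N17999 := rfl
theorem L153145 : sm gd N12369 = N18000 := rfl
theorem L153148 : sm gg N18000 = N12370 := ded_36_2 (flp_d L105562) (flp_g L105560) L153145
theorem L153152 : sm gi N12369 = N18001 := rfl
theorem L153159 : sm gh N18001 = N12419 := ded_54_1 (flp_i L105981) (flp_h L73211) (flp_i L72945) L105555 L153152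
theorem L153161 : sm ge N12370 = N18002 := rfl
theorem L153164 : sm gj N18002 = N12475 := ded_42_2 (flp_e L106449) (flp_j L105566) L153161
theorem L153183 : sm gi N12372 = N18005 := rfl
theorem L153187 : sm ge N18005 = N12373 := ded_44_1 (flp_i L105588) L105580 L153183
theorem L153192 : sm gh N12373 = N18006 := rfl
theorem L153196 : sm gj N18006 = N12479 := ded_52_1 (flp_h L106473) (flp_j L105594) L153192
theorem L153201 : sm gj N12374 = N18007 := rfl
theorem L153203 : sm gb N18007 = N12381 := ded_24_1 (flp_j L105664) (flp_b L105598) L153201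
theorem L153209 : sm gi N18007 = N12425 := ded_53_2 (flp_j L106031) (flp_i L105601) L153201
theorem L153211 : sm gh N12374 = N18008 := rfl
theorem L153213 : sm gb N18008 = N12382 := ded_25_1 (flp_h L105672) (flp_b L105598) L153211
theorem L153216 : sm gf N18008 = N12376 := ded_47_1 (flp_h L105616) L105596 L153211
theorem L153219 : sm gh N12375 = N18009 := rfl
theorem L153225 : sm gg N18009 = N12482 := ded_50_1 (flp_h L106501) (flp_g L105614) L153219
theorem L153227 : sm gj N18009 = N12376 := ded_52_1 (flp_h L105616) L105605 L153219
theorem L153229 : sm gd N12376 = N18010 := rfl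
theorem L153237 : sm gi N12376 = N18011 := rfl
theorem L153243 : sm gg N18011 = N12378 := ded_51_1 (flp_i L105633) (flp_g L105622) L153237
theorem L153276 : sm gg N12381 = N18015 := rfl
theorem L153282 : sm gf N18015 = N12488 := ded_45_1 (flp_g L106551) L73615 (flp_g L73035) (flp_f L105668) L153276
theorem L153285 : sm gh N12381 = N18016 := rfl
theorem L153288 : sm gf N18016 = N12383 := ded_47_1 (flp_h L105678) (flp_f L105668) L153285
theorem L153292 : sm gd N12382 = N18017 := rfl
theorem L153294 : sm gf N18017 = N12384 := ded_35_2 (flp_d L105686) (flp_f L105675) L153292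
theorem L153306 : sm gd N12383 = N18019 := rfl
theorem L153308 : sm gg N18019 = N12492 := ded_36_2 (flp_d L106582) (flp_g L105682) L153306
theorem L153310 : sm gj N18019 = N12384 := ded_37_2 (flp_d L105686) (flp_j L105684) L153306
theorem L153314 : sm gi N12383 = N18020 := rfl
theorem L153322 : sm gh N18020 = N12438 := ded_54_1 (flp_i L106139) (flp_h L73328) (flp_i L73033) L105678 L153314
theorem L153324 : sm gc N12384 = N18021 := rfl
theorem L153330 : sm gi N12384 = N18022 := rfl
theorem L153344 : sm gi N12386 = N18024 := rfl
theorem L153346 : sm gc N18024 = N12387 := ded_33_1 (flp_i L105707) L105700 L153344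
theorem L153350 : sm gj N18024 = N12497 := ded_53_1 (flp_i L106614) (flp_j L105704) L153344
theorem L153352 : sm gh N12387 = N18025 := rfl
theorem L153356 : sm gj N18025 = N12498 := ded_52_1 (flp_h L106620) (flp_j L105713) L153352
theorem L153361 : sm gd N12389 = N18026 := rfl
theorem L153366 : sm gj N18026 = N12499 := ded_37_2 (flp_d L106627) (flp_j L105729) L153361
theorem L153369 : sm gg N12389 = N18027 := rfl
theorem L153373 : sm ge N18027 = N12390 := ded_41_1 (flp_g L105732) L105725 L153369
theorem L153375 : sm gh N12389 = N18028 := rfl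
theorem L153377 : sm gb N18028 = N12396 := ded_25_1 (flp_h L105779) (flp_b L105727) L153375
theorem L153384 : sm gj N12390 = N18029 := rfl
theorem L153392 : sm gh N12390 = N18030 := rfl
theorem L153399 : sm gd N12391 = N18031 := rfl
theorem L153405 : sm gj N18031 = N12504 := ded_37_2 (flp_d L106661) (flp_j L105744) L153399
theorem L153408 : sm gi N12391 = N18032 := rfl
theorem L153416 : sm gc N12392 = N18033 := rfl
theorem L153419 : sm gj N18033 = N12506 := ded_31_2 (flp_c L106674) (flp_j L105751) L153416
theorem L153433 : sm gi N12392 = N18035 := rfl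
theorem L153440 : sm gj N18035 = N12508 := ded_53_1 (flp_i L106689) (flp_j L105751) L153433
theorem L153442 : sm gg N12394 = N18036 := rfl
theorem L153450 : sm gh N12394 = N18037 := rfl
theorem L153477 : sm gh N12395 = N18040 := rfl
theorem L153485 : sm gg N18040 = N12396 := ded_50_1 (flp_h L105779) L105771 L153477
theorem L153487 : sm gd N12396 = N18041 := rfl
theorem L153492 : sm gj N18041 = N12514 := ded_37_2 (flp_d L106739) (flp_j L105788) L153487
theorem L153494 : sm gi N12396 = N18042 := rfl
theorem L153505 : sm gh N12397 = N18043 := rfl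
theorem L153507 : sm ga N18043 = N12417 := ded_17_1 (flp_h L105964) (flp_a L105792) L153505
theorem L153512 : sm gg N18043 = N12516 := ded_50_1 (flp_h L106753) (flp_g L105798) L153505
theorem L153556 : sm gf N12401 = N18048 := rfl
theorem L153563 : sm gj N18048 = N12521 := ded_46_2 (flp_f L106801) (flp_j L105837) L153556
theorem L153566 : sm gi N12401 = N18049 := rfl
theorem L153568 : sm ga N18049 = N12423 := ded_18_1 (flp_i L106013) (flp_a L105832) L153566
theorem L153576 : sm gj N18049 = N12522 := ded_53_1 (flp_i L106809) (flp_j L105837) L153566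
theorem L153652 : sm gi N12408 = N18058 := rfl
theorem L153659 : sm gg N18058 = N12531 := ded_51_1 (flp_i L106889) (flp_g L105900) L153652
theorem L153677 : sm gh N12410 = N18061 := rfl
theorem L153681 : sm gg N18061 = N12411 := ded_50_1 (flp_h L105921) L105915 L153677
theorem L153683 : sm gd N12411 = N18062 := rfl
theorem L153686 : sm gj N18062 = N12535 := ded_37_2 (flp_d L106917) (flp_j L105926) L153683
theorem L153688 : sm gh N18062 = N12415 := ded_38_2 (flp_d L105950) (flp_h L73194) L73181 L105921 L153683
theorem L153697 : sm gj N12412 = N18064 := rfl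
theorem L153712 : sm gh N12413 = N18066 := rfl
theorem L153718 : sm gg N18066 = N12539 := ded_50_1 (flp_h L106944) (flp_g L105940) L153712
theorem L153720 : sm gj N18066 = N12414 := ded_52_1 (flp_h L105942) L105934 L153712
theorem L153722 : sm gd N12414 = N18067 := rfl
theorem L153741 : sm ge N12415 = N18070 := rfl
theorem L153743 : sm gj N18070 = N12543 := ded_42_2 (flp_e L106969) (flp_j L105953) L153741
theorem L153764 : sm gi N12417 = N18073 := rfl
theorem L153773 : sm ge N12418 = N18074 := rfl
theorem L153775 : sm gc N18074 = N12873 := ded_28_1 (flp_e L109688) (flp_c L105978) L153773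
theorem L153780 : sm gi N12418 = N18075 := rfl
theorem L153784 : sm gd N18075 = N12419 := ded_39_1 (flp_i L105981) L105973 L153780
theorem L153789 : sm gf N12420 = N18076 := rfl
theorem L153793 : sm gj N18076 = N12549 := ded_46_2 (flp_f L107012) (flp_j L105992) L153789
theorem L153831 : sm gh N12423 = N18081 := rfl
theorem L153838 : sm gj N18081 = N12554 := ded_52_1 (flp_h L107047) (flp_j L106021) L153831
theorem L153841 : sm gg N12425 = N18082 := rfl
theorem L153843 : sm gb N18082 = N12433 := ded_23_1 (flp_g L106104) (flp_b L106033) L153841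
theorem L153850 : sm gh N12425 = N18083 := rfl
theorem L153852 : sm gb N18083 = N12434 := ded_25_1 (flp_h L106111) (flp_b L106033) L153850
theorem L153857 : sm gj N18083 = N12426 := ded_52_1 (flp_h L106039) L106031 L153850
theorem L153859 : sm gd N12426 = N18084 := rfl
theorem L153863 : sm gf N18084 = N12428 := ded_35_2 (flp_d L106057) (flp_f L106044) L153859
theorem L153867 : sm gi N12426 = N18085 := rfl
theorem L153896 : sm gc N12428 = N18088 := rfl
theorem L153900 : sm gg N18088 = N12430 := ded_30_2 (flp_c L106074) (flp_g L106061) L153896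
theorem L153923 : sm gi N12430 = N18091 := rfl
theorem L153930 : sm gj N18091 = N12564 := ded_53_1 (flp_i L107134) (flp_j L106079) L153923
theorem L153932 : sm gh N12431 = N18092 := rfl
theorem L153936 : sm ge N18092 = N12890 := ded_43_1 (flp_h L109830) (flp_e L106088) L153932
theorem L153939 : sm gj N18092 = N12565 := ded_52_1 (flp_h L107141) (flp_j L106091) L153932
theorem L153942 : sm gh N12433 = N18093 := rfl
theorem L153945 : sm gf N18093 = N12566 := ded_47_1 (flp_h L107149) (flp_f L106108) L153942
theorem L153947 : sm gg N18093 = N12434 := ded_50_1 (flp_h L106111) L106104 L153942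
theorem L153950 : sm gd N12434 = N18094 := rfl
theorem L153952 : sm gf N18094 = N12437 := ded_35_2 (flp_d L106130) (flp_f L106114) L153950
theorem L153954 : sm gj N18094 = N12435 := ded_37_2 (flp_d L106118) (flp_j L106116) L153950
theorem L153957 : sm gi N12434 = N18095 := rfl
theorem L153964 : sm gc N12435 = N18096 := rfl
theorem L153977 : sm gi N12435 = N18098 := rfl
theorem L153981 : sm gf N18098 = N12440 := ded_48_1 (flp_i L106154) (flp_f L106120) L153977
theorem L153993 : sm gi N12437 = N18100 := rfl
theorem L153999 : sm gg N18100 = N12572 := ded_51_1 (flp_i L107194) (flp_g L106132) L153993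
theorem L154001 : sm gj N18100 = N12440 := ded_53_1 (flp_i L106154) (flp_j L106134) L153993
theorem L154003 : sm gb N12439 = N18101 := rfl
theorem L154007 : sm gg N18101 = N12441 := ded_23_2 (flp_b L106162) (flp_g L106151) L154003
theorem L154010 : sm gi N12439 = N18102 := rfl
theorem L154012 : sm gc N18102 = N12440 := ded_33_1 (flp_i L106154) L106147 L154010
theorem L154018 : sm gh N12440 = N18103 := rfl
theorem L154033 : sm gi N12441 = N18105 := rfl
theorem L154037 : sm ge N18105 = N12902 := ded_44_1 (flp_i L109923) (flp_e L106164) L154033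
theorem L154060 : sm gg N12444 = N18108 := rfl
theorem L154064 : sm ge N18108 = N12445 := ded_41_1 (flp_g L106194) L106187 L154060
theorem L154066 : sm gi N18108 = N12500 := ded_51_2 (flp_g L106633) (flp_i L106191) L154060
theorem L154075 : sm gj N12445 = N18110 := rfl
theorem L154084 : sm gh N12445 = N18111 := rfl
theorem L154092 : sm gd N12446 = N18112 := rfl
theorem L154094 : sm gb N18112 = N12454 := ded_20_1 (flp_d L106274) (flp_b L106205) L154092
theorem L154096 : sm gf N18112 = N12447 := ded_35_2 (flp_d L106209) (flp_f L106207) L154092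
theorem L154107 : sm gc N12447 = N18114 := rfl
theorem L154109 : sm gg N18114 = N12586 := ded_30_2 (flp_c L107301) (flp_g L106213) L154107
theorem L154129 : sm gg N12449 = N18117 := rfl
theorem L154134 : sm gd N18117 = N12450 := ded_36_1 (flp_g L106234) L106225 L154129
theorem L154137 : sm gi N18117 = N12509 := ded_51_2 (flp_g L106697) (flp_i L106230) L154129
theorem L154157 : sm gj N12450 = N18120 := rfl
theorem L154163 : sm ge N18120 = N12452 := ded_42_1 (flp_j L106253) (flp_e L106240) L154157
theorem L154165 : sm gi N18120 = N12512 := ded_53_2 (flp_j L106721) (flp_i L106242) L154157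
theorem L154167 : sm gh N12450 = N18121 := rfl
theorem L154169 : sm ga N18121 = N12469 := ded_17_1 (flp_h L106403) (flp_a L106236) L154167
theorem L154177 : sm gd N12451 = N18122 := rfl
theorem L154182 : sm gi N12451 = N18123 := rfl
theorem L154184 : sm ga N18123 = N12471 := ded_18_1 (flp_i L106414) (flp_a L106246) L154182
theorem L154188 : sm ge N18123 = N12455 := ded_44_1 (flp_i L106282) (flp_e L106250) L154182
theorem L154191 : sm gh N18123 = N12515 := ded_54_1 (flp_i L106744) (flp_h L73713) (flp_i L73395) L106244 L154182
theorem L154193 : sm gh N12452 = N18124 := rfl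
theorem L154203 : sm gd N12453 = N18125 := rfl
theorem L154207 : sm gf N18125 = N12597 := ded_35_2 (flp_d L107397) (flp_f L106270) L154203
theorem L154209 : sm gg N18125 = N12454 := ded_36_2 (flp_d L106274) (flp_g L106272) L154203
theorem L154225 : sm ge N12454 = N18127 := rfl
theorem L154231 : sm gi N12454 = N18128 := rfl
theorem L154247 : sm gi N12456 = N18130 := rfl
theorem L154255 : sm gg N18130 = N12602 := ded_51_1 (flp_i L107440) (flp_g L106297) L154247
theorem L154287 : sm gh N12459 = N18134 := rfl
theorem L154289 : sm ga N18134 = N12482 := ded_17_1 (flp_h L106501) (flp_a L106322) L154287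
theorem L154293 : sm gj N18134 = N12460 := ded_52_1 (flp_h L106329) L106320 L154287
theorem L154295 : sm gd N12460 = N18135 := rfl
theorem L154299 : sm gg N18135 = N12461 := ded_36_2 (flp_d L106337) (flp_g L106335) L154295
theorem L154313 : sm gc N12461 = N18137 := rfl
theorem L154320 : sm gi N12461 = N18138 := rfl
theorem L154339 : sm gf N12465 = N18140 := rfl
theorem L154342 : sm gd N18140 = N12467 := ded_35_1 (flp_f L106386) (flp_d L106376) L154339
theorem L154344 : sm gi N18140 = N12532 := ded_48_2 (flp_f L106899) (flp_i L106379) L154339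
theorem L154355 : sm gh N12465 = N18142 := rfl
theorem L154359 : sm gg N18142 = N12466 := ded_50_1 (flp_h L106381) L106373 L154355
theorem L154361 : sm gd N12466 = N18143 := rfl
theorem L154373 : sm gj N12467 = N18145 := rfl
theorem L154375 : sm gc N18145 = N12480 := ded_31_1 (flp_j L106481) (flp_c L106388) L154373
theorem L154381 : sm gi N18145 = N12537 := ded_53_2 (flp_j L106927) (flp_i L106390) L154373
theorem L154383 : sm gh N12467 = N18146 := rfl
theorem L154392 : sm gh N12468 = N18147 := rfl
theorem L154398 : sm gj N18147 = N12469 := ded_52_1 (flp_h L106403) L106395 L154392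
theorem L154400 : sm gd N12469 = N18148 := rfl
theorem L154402 : sm gg N18148 = N12470 := ded_36_2 (flp_d L106411) (flp_g L106409) L154400
theorem L154423 : sm gi N12470 = N18152 := rfl
theorem L154461 : sm gf N12475 = N18157 := rfl
theorem L154465 : sm ge N18157 = N12477 := ded_40_1 (flp_f L106460) (flp_e L73533) (flp_f L73521) L106449 L154461
theorem L154467 : sm gi N12475 = N18158 := rfl
theorem L154487 : sm gi N12477 = N18161 := rfl
theorem L154501 : sm gg N12480 = N18163 := rfl
theorem L154508 : sm gi N18163 = N12555 := ded_51_2 (flp_g L107056) (flp_i L106490) L154501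
theorem L154511 : sm gh N12480 = N18164 := rfl
theorem L154517 : sm gf N18164 = N12482 := ded_47_1 (flp_h L106501) (flp_f L106488) L154511
theorem L154519 : sm gj N18164 = N12481 := ded_52_1 (flp_h L106492) L106481 L154511
theorem L154521 : sm gd N12481 = N18165 := rfl
theorem L154525 : sm gf N18165 = N12483 := ded_35_2 (flp_d L106509) (flp_f L106498) L154521
theorem L154540 : sm gd N12482 = N18167 := rfl
theorem L154548 : sm gi N12482 = N18168 := rfl
theorem L154556 : sm gh N18168 = N12560 := ded_54_1 (flp_i L107101) (flp_h L73956) (flp_i L73564) L106501 L154548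
theorem L154564 : sm gi N12483 = N18170 := rfl
theorem L154571 : sm gg N18170 = N12486 := ded_51_1 (flp_i L106532) (flp_g L106513) L154564
theorem L154595 : sm gh N12488 = N18174 := rfl
theorem L154602 : sm gd N12489 = N18175 := rfl
theorem L154604 : sm gf N18175 = N12492 := ded_35_2 (flp_d L106582) (flp_f L106563) L154602
theorem L154606 : sm gj N18175 = N12490 := ded_37_2 (flp_d L106567) (flp_j L106565) L154602
theorem L154619 : sm gc N12490 = N18177 := rfl
theorem L154621 : sm gf N18177 = N12494 := ded_29_2 (flp_c L106596) (flp_f L106569) L154619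
theorem L154632 : sm gi N12490 = N18179 := rfl
theorem L154634 : sm gd N18179 = N12491 := ded_39_1 (flp_i L106573) L106567 L154632
theorem L154636 : sm gf N18179 = N12495 := ded_48_1 (flp_i L106602) (flp_f L106569) L154632
theorem L154639 : sm gc N12492 = N18180 := rfl
theorem L154642 : sm gj N18180 = N12494 := ded_31_2 (flp_c L106596) (flp_j L106584) L154639
theorem L154645 : sm gi N12492 = N18181 := rfl
theorem L154647 : sm gd N18181 = N12493 := ded_39_1 (flp_i L106588) L106582 L154645
theorem L154650 : sm gj N18181 = N12495 := ded_53_1 (flp_i L106602) (flp_j L106584) L154645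
theorem L154652 : sm gb N12494 = N18182 := rfl
theorem L154655 : sm gg N18182 = N12496 := ded_23_2 (flp_b L106609) (flp_g L106599) L154652
theorem L154658 : sm gi N12494 = N18183 := rfl
theorem L154663 : sm gg N18183 = N12497 := ded_51_1 (flp_i L106614) (flp_g L106599) L154658
theorem L154665 : sm gh N12495 = N18184 := rfl
theorem L154668 : sm gg N18184 = N12498 := ded_50_1 (flp_h L106620) (flp_g L106607) L154665
theorem L154678 : sm gi N12496 = N18186 := rfl
theorem L154684 : sm gh N12497 = N18187 := rfl
theorem L154691 : sm gc N12499 = N18188 := rfl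
theorem L154696 : sm gg N12499 = N18189 := rfl
theorem L154703 : sm gh N12499 = N18190 := rfl
theorem L154709 : sm gf N12500 = N18191 := rfl
theorem L154711 : sm gb N18191 = N12511 := ded_22_1 (flp_f L106712) (flp_b L106635) L154709
theorem L154742 : sm gh N12502 = N18196 := rfl
theorem L154746 : sm gf N18196 = N12665 := ded_47_1 (flp_h L107934) (flp_f L106651) L154742
theorem L154748 : sm gj N18196 = N12503 := ded_52_1 (flp_h L106653) L106646 L154742
theorem L154750 : sm gd N12503 = N18197 := rfl
theorem L154752 : sm gb N18197 = N12517 := ded_20_1 (flp_d L106763) (flp_b L106655) L154750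
theorem L154756 : sm gg N18197 = N12504 := ded_36_2 (flp_d L106661) (flp_g L106659) L154750
theorem L154759 : sm gi N12503 = N18198 := rfl
theorem L154767 : sm gc N12504 = N18199 := rfl
theorem L154769 : sm gf N18199 = N12506 := ded_29_2 (flp_c L106674) (flp_f L106665) L154767
theorem L154779 : sm gi N12504 = N18201 := rfl
theorem L154785 : sm gf N18201 = N12508 := ded_48_1 (flp_i L106689) (flp_f L106665) L154779
theorem L154787 : sm ge N12506 = N18202 := rfl
theorem L154793 : sm gg N18202 = N12671 := ded_41_2 (flp_e L107977) (flp_g L106676) L154787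
theorem L154819 : sm gh N12508 = N18206 := rfl
theorem L154826 : sm gf N12509 = N18207 := rfl
theorem L154831 : sm gd N18207 = N12511 := ded_35_1 (flp_f L106712) (flp_d L106702) L154826
theorem L154834 : sm gj N12509 = N18208 := rfl
theorem L154839 : sm gd N18208 = N12512 := ded_37_1 (flp_j L106721) (flp_d L106702) L154834
theorem L154842 : sm gh N12509 = N18209 := rfl
theorem L154848 : sm gg N18209 = N12510 := ded_50_1 (flp_h L106705) L106697 L154842
theorem L154850 : sm gd N12510 = N18210 := rfl
theorem L154855 : sm gh N18210 = N12514 := ded_38_2 (flp_d L106739) (flp_h L73713) L73698 L106705 L154850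
theorem L154874 : sm gh N12511 = N18213 := rfl
theorem L154880 : sm ge N18213 = N12682 := ded_43_1 (flp_h L108067) (flp_e L106718) L154874
theorem L154901 : sm gi N12513 = N18216 := rfl
theorem L154909 : sm gg N18216 = N12515 := ded_51_1 (flp_i L106744) (flp_g L106737) L154901
theorem L154911 : sm gc N12514 = N18217 := rfl
theorem L154918 : sm ge N12514 = N18218 := rfl
theorem L154924 : sm gi N12514 = N18219 := rfl
theorem L154931 : sm gd N12516 = N18220 := rfl
theorem L154942 : sm gi N12516 = N18221 := rfl
theorem L154973 : sm gf N12519 = N18224 := rfl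
theorem L154977 : sm gc N18224 = N12936 := ded_29_1 (flp_f L110221) (flp_c L106788) L154973
theorem L154980 : sm ge N18224 = N12521 := ded_40_1 (flp_f L106801) (flp_e L73758) (flp_f L73745) L106784 L154973
theorem L154999 : sm gg N12521 = N18227 := rfl
theorem L155009 : sm gi N12521 = N18228 := rfl
theorem L155018 : sm gh N12522 = N18229 := rfl
theorem L155022 : sm gc N18229 = N12941 := ded_32_1 (flp_h L110259) (flp_c L106813) L155018
theorem L155026 : sm gg N18229 = N12697 := ded_50_1 (flp_h L108206) (flp_g L106818) L155018
theorem L155101 : sm gb N12529 = N18238 := rfl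
theorem L155103 : sm ge N18238 = N12946 := ded_21_2 (flp_b L110303) (flp_e L106876) L155101
theorem L155131 : sm gj N12532 = N18242 := rfl
theorem L155138 : sm gh N12532 = N18243 := rfl
theorem L155144 : sm gh N12533 = N18244 := rfl
theorem L155148 : sm gj N18244 = N12534 := ded_52_1 (flp_h L106911) L106905 L155144
theorem L155150 : sm gd N12534 = N18245 := rfl
theorem L155152 : sm gg N18245 = N12535 := ded_36_2 (flp_d L106917) (flp_g L106915) L155150
theorem L155154 : sm gh N18245 = N12540 := ded_38_2 (flp_d L106952) (flp_h L73860) (flp_d L73839) L106911 L155150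
theorem L155162 : sm gc N12535 = N18247 := rfl
theorem L155165 : sm gh N18247 = N12542 := ded_32_2 (flp_c L106964) (flp_h L106920) L155162
theorem L155168 : sm ge N12535 = N18248 := rfl
theorem L155170 : sm gh N18248 = N12543 := ded_43_2 (flp_e L106969) (flp_h L106920) L155168
theorem L155173 : sm gi N12535 = N18249 := rfl
theorem L155178 : sm gg N12537 = N18250 := rfl
theorem L155180 : sm gc N18250 = N12555 := ded_30_1 (flp_g L107056) (flp_c L106929) L155178
theorem L155200 : sm gi N12538 = N18253 := rfl
theorem L155204 : sm ge N18253 = N12713 := ded_44_1 (flp_i L108328) (flp_e L106939) L155200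
theorem L155209 : sm gd N12539 = N18254 := rfl
theorem L155211 : sm gj N18254 = N12540 := ded_37_2 (flp_d L106952) (flp_j L106950) L155209
theorem L155221 : sm gc N12540 = N18256 := rfl
theorem L155227 : sm ge N12540 = N18257 := rfl
theorem L155229 : sm gg N18257 = N12543 := ded_41_2 (flp_e L106969) (flp_g L106954) L155227
theorem L155244 : sm ge N12542 = N18260 := rfl
theorem L155248 : sm gd N18260 = N12961 := ded_34_1 (flp_e L110415) L76353 (flp_e L73983) (flp_d L106967) L155244
theorem L155257 : sm gf N12543 = N18262 := rfl
theorem L155259 : sm gd N18262 = N12549 := ded_35_1 (flp_f L107012) (flp_d L106971) L155257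
theorem L155262 : sm gi N12543 = N18263 := rfl
theorem L155303 : sm gh N12548 = N18269 := rfl
theorem L155307 : sm gf N18269 = N12725 := ded_47_1 (flp_h L108414) (flp_f L107008) L155303
theorem L155312 : sm gg N12549 = N18270 := rfl
theorem L155319 : sm gi N12549 = N18271 := rfl
theorem L155325 : sm gf N18271 = N12550 := ded_48_1 (flp_i L107019) L107012 L155319
theorem L155327 : sm gh N12550 = N18272 := rfl
theorem L155358 : sm gd N12554 = N18276 := rfl
theorem L155360 : sm gg N18276 = N12732 := ded_36_2 (flp_d L108467) (flp_g L107053) L155358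
theorem L155364 : sm gh N12555 = N18277 := rfl
theorem L155373 : sm gd N12556 = N18278 := rfl
theorem L155377 : sm gf N18278 = N12559 := ded_35_2 (flp_d L107092) (flp_f L107070) L155373
theorem L155379 : sm gj N18278 = N12557 := ded_37_2 (flp_d L107074) (flp_j L107072) L155373
theorem L155393 : sm gc N12557 = N18280 := rfl
theorem L155396 : sm gf N18280 = N12561 := ded_29_2 (flp_c L107109) (flp_f L107078) L155393
theorem L155410 : sm gc N12559 = N18282 := rfl
theorem L155412 : sm ge N18282 = N12978 := ded_28_2 (flp_c L110535) (flp_e L107098) L155410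
theorem L155414 : sm gj N18282 = N12561 := ded_31_2 (flp_c L107109) (flp_j L107096) L155410
theorem L155427 : sm gb N12561 = N18284 := rfl
theorem L155431 : sm gg N18284 = N12563 := ded_23_2 (flp_b L107126) (flp_g L107113) L155427
theorem L155436 : sm gi N12561 = N18285 := rfl
theorem L155442 : sm gg N18285 = N12564 := ded_51_1 (flp_i L107134) (flp_g L107113) L155436
theorem L155444 : sm gh N12562 = N18286 := rfl
theorem L155448 : sm ge N18286 = N12982 := ded_43_1 (flp_h L110565) (flp_e L107122) L155444
theorem L155450 : sm gg N18286 = N12565 := ded_50_1 (flp_h L107141) (flp_g L107124) L155444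
theorem L155453 : sm ga N12563 = N18287 := rfl
theorem L155478 : sm gd N12566 = N18290 := rfl
theorem L155480 : sm gg N18290 = N12567 := ded_36_2 (flp_d L107156) (flp_g L107153) L155478
theorem L155485 : sm gi N12566 = N18291 := rfl
theorem L155492 : sm gc N12567 = N18292 := rfl
theorem L155497 : sm gj N18292 = N12569 := ded_31_2 (flp_c L107172) (flp_j L107160) L155492
theorem L155500 : sm gi N12567 = N18293 := rfl
theorem L155505 : sm gf N18293 = N12572 := ded_48_1 (flp_i L107194) (flp_f L107158) L155500
theorem L155509 : sm gb N12569 = N18294 := rfl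
theorem L155524 : sm gh N12570 = N18296 := rfl
theorem L155531 : sm gb N12571 = N18297 := rfl
theorem L155535 : sm gj N18297 = N12573 := ded_24_2 (flp_b L107202) (flp_j L107191) L155531
theorem L155546 : sm gh N12572 = N18299 := rfl
theorem L155553 : sm ga N12573 = N18300 := rfl
theorem L155557 : sm gg N18300 = N12576 := ded_15_2 (flp_a L107224) (flp_g L107206) L155553
theorem L155577 : sm gi N12576 = N18303 := rfl
theorem L155581 : sm ge N18303 = N12992 := ded_44_1 (flp_i L110641) (flp_e L107226) L155577
theorem L155596 : sm gc N12579 = N18306 := rfl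
theorem L155601 : sm gi N18306 = N12657 := ded_33_2 (flp_c L107879) (flp_i L107251) L155596
theorem L155603 : sm gb N18306 = N12736 := ded_19_1 (flp_c L108497) L74977 (flp_c L74125) (flp_b L107247) L155596
theorem L155605 : sm gg N12579 = N18307 := rfl
theorem L155612 : sm gi N18307 = N12658 := ded_51_2 (flp_g L107886) (flp_i L107251) L155605
theorem L155614 : sm gh N12579 = N18308 := rfl
theorem L155621 : sm gf N12580 = N18309 := rfl
theorem L155625 : sm gi N18309 = N12660 := ded_48_2 (flp_f L107900) (flp_i L107260) L155621
theorem L155628 : sm gj N12580 = N18310 := rfl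
theorem L155634 : sm gi N18310 = N12661 := ded_53_2 (flp_j L107905) (flp_i L107260) L155628
theorem L155645 : sm gd N12581 = N18312 := rfl
theorem L155651 : sm gi N12581 = N18313 := rfl
theorem L155683 : sm gc N12584 = N18317 := rfl
theorem L155685 : sm gf N18317 = N12586 := ded_29_2 (flp_c L107301) (flp_f L107288) L155683
theorem L155705 : sm ge N12586 = N18320 := rfl
theorem L155712 : sm gi N12586 = N18321 := rfl
theorem L155764 : sm gh N12589 = N18327 := rfl
theorem L155771 : sm gg N18327 = N12590 := ded_50_1 (flp_h L107331) L107320 L155764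
theorem L155773 : sm gd N12590 = N18328 := rfl
theorem L155775 : sm ga N18328 = N12615 := ded_12_1 (flp_d L107558) (flp_a L107333) L155773
theorem L155779 : sm gh N18328 = N12594 := ded_38_2 (flp_d L107370) (flp_h L74138) L74117 L107331 L155773
theorem L155822 : sm gd N12593 = N18333 := rfl
theorem L155828 : sm gi N12593 = N18334 := rfl
theorem L155832 : sm gc N18334 = N12608 := ded_33_1 (flp_i L107493) (flp_c L107364) L155828
theorem L155840 : sm gc N12594 = N18335 := rfl
theorem L155846 : sm gd N18335 = N12609 := ded_27_2 (flp_c L107503) (flp_d L74230) (flp_c L74142) L107370 L155840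
theorem L155848 : sm ge N12594 = N18336 := rfl
theorem L155855 : sm gi N12594 = N18337 := rfl
theorem L155891 : sm gi N12597 = N18341 := rfl
theorem L155944 : sm gh N12602 = N18347 := rfl
theorem L155949 : sm ge N18347 = N12603 := ded_43_1 (flp_h L107449) (flp_e L107446) L155944
theorem L155953 : sm gg N12604 = N18348 := rfl
theorem L155959 : sm gi N18348 = N12698 := ded_51_2 (flp_g L108216) (flp_i L107466) L155953
theorem L155963 : sm gh N12604 = N18349 := rfl
theorem L155967 : sm gf N18349 = N12606 := ded_47_1 (flp_h L107475) (flp_f L107464) L155963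
theorem L155969 : sm gj N18349 = N12605 := ded_52_1 (flp_h L107468) L107458 L155963
theorem L155971 : sm gd N12605 = N18350 := rfl
theorem L155973 : sm ga N18350 = N12637 := ded_12_1 (flp_d L107716) (flp_a L107470) L155971
theorem L155975 : sm gf N18350 = N12607 := ded_35_2 (flp_d L107484) (flp_f L107472) L155971
theorem L155978 : sm gh N18350 = N12766 := ded_38_2 (flp_d L108775) (flp_h L75152) (flp_d L74206) L107468 L155971
theorem L155980 : sm gi N12605 = N18351 := rfl
theorem L155987 : sm gh N18351 = N12700 := ded_54_1 (flp_i L108233) (flp_h L74730) (flp_i L74208) L107468 L155980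
theorem L155989 : sm gd N12606 = N18352 := rfl
theorem L155991 : sm ga N18352 = N12639 := ded_12_1 (flp_d L107734) (flp_a L107477) L155989
theorem L155999 : sm gi N12606 = N18353 := rfl
theorem L156008 : sm gh N18353 = N12701 := ded_54_1 (flp_i L108241) (flp_h L74738) (flp_i L74219) L107475 L155999
theorem L156010 : sm gc N12607 = N18354 := rfl
theorem L156015 : sm gg N18354 = N12609 := ded_30_2 (flp_c L107503) (flp_g L107488) L156010
theorem L156017 : sm gh N18354 = N12768 := ded_32_2 (flp_c L108792) (flp_h L107491) L156010
theorem L156019 : sm gi N12607 = N18355 := rfl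
theorem L156023 : sm gd N18355 = N12608 := ded_39_1 (flp_i L107493) L107484 L156019
theorem L156029 : sm gb N12609 = N18356 := rfl
theorem L156046 : sm ge N12612 = N18358 := rfl
theorem L156051 : sm gi N18358 = N12702 := ded_44_2 (flp_e L108251) (flp_i L107538) L156046
theorem L156054 : sm gj N12612 = N18359 := rfl
theorem L156058 : sm gd N18359 = N12617 := ded_37_1 (flp_j L107573) (flp_d L107536) L156054
theorem L156060 : sm gf N18359 = N12613 := ded_46_1 (flp_j L107541) L107532 L156054
theorem L156062 : sm gi N18359 = N12703 := ded_53_2 (flp_j L108257) (flp_i L107538) L156054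
theorem L156064 : sm gh N12612 = N18360 := rfl
theorem L156068 : sm gf N18360 = N12614 := ded_47_1 (flp_h L107551) L107532 L156064
theorem L156079 : sm gd N12614 = N18362 := rfl
theorem L156081 : sm gg N18362 = N12615 := ded_36_2 (flp_d L107558) (flp_g L107556) L156079
theorem L156083 : sm gh N18362 = N12620 := ded_38_2 (flp_d L107597) (flp_h L74298) (flp_d L74270) L107551 L156079
theorem L156085 : sm gi N12614 = N18363 := rfl
theorem L156090 : sm gg N18363 = N12616 := ded_51_1 (flp_i L107564) (flp_g L107556) L156085
theorem L156092 : sm gh N18363 = N12707 := ded_54_1 (flp_i L108287) (flp_h L74781) (flp_i L74273) L107551 L156085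
theorem L156094 : sm gc N12615 = N18364 := rfl
theorem L156098 : sm gh N18364 = N12622 := ded_32_2 (flp_c L107611) (flp_h L107562) L156094
theorem L156102 : sm ge N12615 = N18365 := rfl
theorem L156122 : sm gh N12617 = N18368 := rfl
theorem L156126 : sm gf N18368 = N12619 := ded_47_1 (flp_h L107588) (flp_f L107577) L156122
theorem L156130 : sm gd N12618 = N18369 := rfl
theorem L156132 : sm gf N18369 = N12620 := ded_35_2 (flp_d L107597) (flp_f L107585) L156130
theorem L156149 : sm gi N12619 = N18372 := rfl
theorem L156158 : sm gh N18372 = N12715 := ded_54_1 (flp_i L108341) (flp_h L74815) (flp_i L74295) L107588 L156149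
theorem L156160 : sm gc N12620 = N18373 := rfl
theorem L156166 : sm ge N12620 = N18374 := rfl
theorem L156172 : sm gi N12620 = N18375 := rfl
theorem L156190 : sm gi N12622 = N18378 := rfl
theorem L156194 : sm gd N18378 = N12644 := ded_39_1 (flp_i L107781) (flp_d L107615) L156190
theorem L156284 : sm gh N12633 = N18392 := rfl
theorem L156287 : sm gf N18392 = N12634 := ded_47_1 (flp_h L107691) (flp_f L107688) L156284
theorem L156291 : sm gd N12634 = N18393 := rfl
theorem L156295 : sm ge N18393 = N12732 := ded_34_2 (flp_d L108467) L74921 (flp_d L74371) (flp_e L107694) L156291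
theorem L156306 : sm gd N12636 = N18395 := rfl
theorem L156308 : sm gb N18395 = N12646 := ded_20_1 (flp_d L107795) (flp_b L107710) L156306
theorem L156312 : sm gj N18395 = N12637 := ded_37_2 (flp_d L107716) (flp_j L107714) L156306
theorem L156314 : sm gh N18395 = N12793 := ded_38_2 (flp_d L108988) (flp_h L75320) (flp_d L74378) L107708 L156306
theorem L156326 : sm gc N12637 = N18397 := rfl
theorem L156328 : sm gf N18397 = N12641 := ded_29_2 (flp_c L107755) (flp_f L107720) L156326
theorem L156331 : sm gh N18397 = N12794 := ded_32_2 (flp_c L108997) (flp_h L107723) L156326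
theorem L156333 : sm ge N12637 = N18398 := rfl
theorem L156338 : sm gh N18398 = N12795 := ded_43_2 (flp_e L109003) (flp_h L107723) L156333
theorem L156341 : sm gi N12637 = N18399 := rfl
theorem L156345 : sm gd N18399 = N12638 := ded_39_1 (flp_i L107725) L107716 L156341
theorem L156347 : sm gf N18399 = N12642 := ded_48_1 (flp_i L107762) (flp_f L107720) L156341
theorem L156351 : sm gc N12639 = N18400 := rfl
theorem L156355 : sm gj N18400 = N12641 := ded_31_2 (flp_c L107755) (flp_j L107739) L156351
theorem L156357 : sm gh N18400 = N12796 := ded_32_2 (flp_c L109011) (flp_h L107742) L156351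
theorem L156359 : sm gi N12639 = N18401 := rfl
theorem L156361 : sm gb N18401 = N12652 := ded_26_1 (flp_i L107840) (flp_b L107736) L156359
theorem L156370 : sm gb N12641 = N18402 := rfl
theorem L156387 : sm ga N12643 = N18404 := rfl
theorem L156389 : sm gc N18404 = N12655 := ded_11_2 (flp_a L107864) (flp_c L107779) L156387
theorem L156406 : sm gd N12645 = N18406 := rfl
theorem L156409 : sm gg N18406 = N12646 := ded_36_2 (flp_d L107795) (flp_g L107792) L156406
theorem L156412 : sm gh N18406 = N12799 := ded_38_2 (flp_d L109034) (flp_h L75361) (flp_d L74448) L107789 L156406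
theorem L156422 : sm gc N12646 = N18408 := rfl
theorem L156426 : sm gj N18408 = N12648 := ded_31_2 (flp_c L107811) (flp_j L107799) L156422
theorem L156430 : sm ge N12646 = N18409 := rfl
theorem L156432 : sm gj N18409 = N12649 := ded_42_2 (flp_e L107818) (flp_j L107799) L156430
theorem L156437 : sm gi N12646 = N18410 := rfl
theorem L156441 : sm gf N18410 = N12652 := ded_48_1 (flp_i L107840) (flp_f L107797) L156437
theorem L156443 : sm gj N18410 = N12650 := ded_53_1 (flp_i L107824) (flp_j L107799) L156437
theorem L156446 : sm gb N12648 = N18411 := rfl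
theorem L156451 : sm gh N18411 = N12802 := ded_25_2 (flp_b L109056) (flp_h L107816) L156446
theorem L156453 : sm ge N12648 = N18412 := rfl
theorem L156458 : sm gh N18412 = N12803 := ded_43_2 (flp_e L109063) (flp_h L107816) L156453
theorem L156461 : sm gi N12648 = N18413 := rfl
theorem L156463 : sm gc N18413 = N12650 := ded_33_1 (flp_i L107824) L107811 L156461
theorem L156465 : sm gf N18413 = N12654 := ded_48_1 (flp_i L107856) (flp_f L107813) L156461
theorem L156493 : sm ga N12653 = N18417 := rfl
theorem L156496 : sm gg N18417 = N12655 := ded_15_2 (flp_a L107864) (flp_g L107852) L156493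
theorem L156498 : sm gh N18417 = N12805 := ded_17_2 (flp_a L109078) (flp_h L107854) L156493
theorem L156508 : sm gi N12655 = N18419 := rfl
theorem L156516 : sm gg N12657 = N18420 := rfl
theorem L156518 : sm gb N18420 = N12806 := ded_23_1 (flp_g L109085) (flp_b L107884) L156516
theorem L156520 : sm gc N18420 = N12658 := ded_30_1 (flp_g L107886) L107879 L156516
theorem L156523 : sm gh N12657 = N18421 := rfl
theorem L156532 : sm gf N12658 = N18422 := rfl
theorem L156536 : sm gd N18422 = N12660 := ded_35_1 (flp_f L107900) (flp_d L107890) L156532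
theorem L156539 : sm gj N12658 = N18423 := rfl
theorem L156543 : sm gd N18423 = N12661 := ded_37_1 (flp_j L107905) (flp_d L107890) L156539
theorem L156547 : sm gh N12658 = N18424 := rfl
theorem L156552 : sm gg N18424 = N12659 := ded_50_1 (flp_h L107893) L107886 L156547
theorem L156554 : sm gd N12659 = N18425 := rfl
theorem L156560 : sm gh N18425 = N12663 := ded_38_2 (flp_d L107920) (flp_h L74534) L74521 L107893 L156554
theorem L156569 : sm gj N12660 = N18427 := rfl
theorem L156575 : sm gh N12660 = N18428 := rfl
theorem L156577 : sm gb N18428 = N12682 := ded_25_1 (flp_h L108067) (flp_b L107902) L156575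
theorem L156582 : sm gh N12661 = N18429 := rfl
theorem L156591 : sm gd N12662 = N18430 := rfl
theorem L156595 : sm gg N18430 = N12663 := ded_36_2 (flp_d L107920) (flp_g L107918) L156591
theorem L156605 : sm gc N12663 = N18432 := rfl
theorem L156610 : sm ge N12663 = N18433 := rfl
theorem L156612 : sm gb N18433 = N12686 := ded_21_1 (flp_e L108104) (flp_b L107922) L156610
theorem L156617 : sm gi N12663 = N18434 := rfl
theorem L156625 : sm gd N12665 = N18435 := rfl
theorem L156630 : sm gj N18435 = N12666 := ded_37_2 (flp_d L107941) (flp_j L107939) L156625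
theorem L156640 : sm gc N12666 = N18437 := rfl
theorem L156642 : sm gg N18437 = N12668 := ded_30_2 (flp_c L107954) (flp_g L107945) L156640
theorem L156647 : sm ge N12666 = N18438 := rfl
theorem L156651 : sm gg N18438 = N12669 := ded_41_2 (flp_e L107962) (flp_g L107945) L156647
theorem L156670 : sm gi N12668 = N18441 := rfl
theorem L156676 : sm gf N18441 = N12672 := ded_48_1 (flp_i L107985) (flp_f L107956) L156670
theorem L156679 : sm gf N12669 = N18442 := rfl
theorem L156685 : sm ge N18442 = N12673 := ded_40_1 (flp_f L107992) (flp_e L74575) (flp_f L74558) L107962 L156679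
theorem L156687 : sm gi N12669 = N18443 := rfl
theorem L156716 : sm gi N12671 = N18447 := rfl
theorem L156722 : sm ge N18447 = N12672 := ded_44_1 (flp_i L107985) L107977 L156716
theorem L156725 : sm gh N12672 = N18448 := rfl
theorem L156733 : sm gg N12673 = N18449 := rfl
theorem L156735 : sm gb N18449 = N12695 := ded_23_1 (flp_g L108188) (flp_b L107994) L156733
theorem L156739 : sm gi N12673 = N18450 := rfl
theorem L156755 : sm ge N12676 = N18452 := rfl
theorem L156757 : sm ga N18452 = N12702 := ded_13_1 (flp_e L108251) (flp_a L108015) L156755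
theorem L156759 : sm gc N18452 = N12813 := ded_28_1 (flp_e L109143) (flp_c L108017) L156755
theorem L156782 : sm gh N12677 = N18455 := rfl
theorem L156790 : sm gj N18455 = N12678 := ded_52_1 (flp_h L108032) L108022 L156782
theorem L156792 : sm gd N12678 = N18456 := rfl
theorem L156796 : sm gg N18456 = N12679 := ded_36_2 (flp_d L108041) (flp_g L108039) L156792
theorem L156810 : sm ge N12679 = N18458 := rfl
theorem L156816 : sm gh N18458 = N12686 := ded_43_2 (flp_e L108104) (flp_h L108048) L156810
theorem L156828 : sm gg N12681 = N18460 := rfl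
theorem L156832 : sm gc N18460 = N12698 := ded_30_1 (flp_g L108216) (flp_c L108063) L156828
theorem L156836 : sm gh N12681 = N18461 := rfl
theorem L156846 : sm gd N12682 = N18462 := rfl
theorem L156848 : sm ga N18462 = N12712 := ded_12_1 (flp_d L108322) (flp_a L108069) L156846
theorem L156850 : sm gf N18462 = N12684 := ded_35_2 (flp_d L108087) (flp_f L108073) L156846
theorem L156863 : sm gd N12683 = N18464 := rfl
theorem L156868 : sm gj N18464 = N12684 := ded_37_2 (flp_d L108087) (flp_j L108085) L156863
theorem L156882 : sm ge N12684 = N18466 := rfl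
theorem L156887 : sm gg N18466 = N12686 := ded_41_2 (flp_e L108104) (flp_g L108091) L156882
theorem L156889 : sm gd N18466 = N12690 := ded_34_1 (flp_e L108140) (flp_d L74659) (flp_e L74629) L108087 L156882
theorem L156891 : sm gi N12684 = N18467 := rfl
theorem L156900 : sm gf N12686 = N18468 := rfl
theorem L156909 : sm gi N12686 = N18469 := rfl
theorem L156947 : sm gf N12690 = N18473 := rfl
theorem L156951 : sm gc N18473 = N13014 := ded_29_1 (flp_f L110822) (flp_c L108144) L156947
theorem L157003 : sm gj N12695 = N18479 := rfl
theorem L157012 : sm gi N12695 = N18480 := rfl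
theorem L157014 : sm ga N18480 = N12730 := ded_18_1 (flp_i L108452) (flp_a L108190) L157012
theorem L157031 : sm gd N12697 = N18482 := rfl
theorem L157038 : sm gh N12698 = N18483 := rfl
theorem L157056 : sm gj N12702 = N18485 := rfl
theorem L157058 : sm gc N18485 = N12819 := ded_31_1 (flp_j L109193) (flp_c L108253) L157056
theorem L157063 : sm gh N12702 = N18486 := rfl
theorem L157071 : sm gg N12703 = N18487 := rfl
theorem L157075 : sm gd N18487 = N12710 := ded_36_1 (flp_g L108308) (flp_d L108261) L157071
theorem L157079 : sm gh N12703 = N18488 := rfl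
theorem L157083 : sm gf N18488 = N12705 := ded_47_1 (flp_h L108272) (flp_f L108263) L157079
theorem L157085 : sm gj N18488 = N12704 := ded_52_1 (flp_h L108265) L108257 L157079
theorem L157087 : sm gd N12704 = N18489 := rfl
theorem L157089 : sm gf N18489 = N12706 := ded_35_2 (flp_d L108280) (flp_f L108269) L157087
theorem L157093 : sm gh N18489 = N12712 := ded_38_2 (flp_d L108322) (flp_h L74808) (flp_d L74770) L108265 L157087
theorem L157102 : sm gd N12705 = N18491 := rfl
theorem L157105 : sm gj N18491 = N12706 := ded_37_2 (flp_d L108280) (flp_j L108278) L157102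
theorem L157118 : sm ge N12706 = N18493 := rfl
theorem L157126 : sm gi N12706 = N18494 := rfl
theorem L157129 : sm gd N18494 = N12707 := ded_39_1 (flp_i L108287) L108280 L157126
theorem L157133 : sm gf N12708 = N18495 := rfl
theorem L157138 : sm gh N18495 = N12718 := ded_47_2 (flp_f L108364) (flp_h L108298) L157133
theorem L157141 : sm gi N12708 = N18496 := rfl
theorem L157155 : sm gh N12710 = N18498 := rfl
theorem L157160 : sm gg N18498 = N12711 := ded_50_1 (flp_h L108314) L108308 L157155
theorem L157163 : sm gd N12711 = N18499 := rfl
theorem L157165 : sm gf N18499 = N12714 := ded_35_2 (flp_d L108335) (flp_f L108318) L157163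
theorem L157167 : sm gj N18499 = N12712 := ded_37_2 (flp_d L108322) (flp_j L108320) L157163
theorem L157178 : sm ge N12712 = N18501 := rfl
theorem L157182 : sm gi N12712 = N18502 := rfl
theorem L157198 : sm gi N12714 = N18504 := rfl
theorem L157225 : sm gg N12718 = N18508 := rfl
theorem L157228 : sm gd N18508 = N12726 := ded_36_1 (flp_g L108421) (flp_d L108367) L157225
theorem L157231 : sm gi N12718 = N18509 := rfl
theorem L157234 : sm gd N18509 = N12727 := ded_39_1 (flp_i L108428) (flp_d L108367) L157231
theorem L157237 : sm gf N18509 = N12719 := ded_48_1 (flp_i L108371) L108364 L157231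
theorem L157240 : sm gh N12719 = N18510 := rfl
theorem L157246 : sm gf N12721 = N18511 := rfl
theorem L157248 : sm gc N18511 = N13024 := ded_29_1 (flp_f L110904) (flp_c L108386) L157246
theorem L157250 : sm gj N18511 = N12723 := ded_46_2 (flp_f L108401) (flp_j L108389) L157246
theorem L157253 : sm gi N12721 = N18512 := rfl
theorem L157257 : sm ge N18512 = N12722 := ded_44_1 (flp_i L108392) L108384 L157253
theorem L157277 : sm gi N12723 = N18515 := rfl
theorem L157292 : sm gj N12726 = N18517 := rfl
theorem L157300 : sm gi N12726 = N18518 := rfl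
theorem L157306 : sm gg N18518 = N12727 := ded_51_1 (flp_i L108428) L108421 L157300
theorem L157308 : sm gh N12727 = N18519 := rfl
theorem L157312 : sm ge N18519 = N12731 := ded_43_1 (flp_h L108459) (flp_e L108432) L157308
theorem L157330 : sm gh N12730 = N18522 := rfl
theorem L157334 : sm gg N18522 = N12731 := ded_50_1 (flp_h L108459) (flp_g L108457) L157330
theorem L157337 : sm gd N12731 = N18523 := rfl
theorem L157339 : sm gf N18523 = N12732 := ded_35_2 (flp_d L108467) (flp_f L108463) L157337
theorem L157360 : sm gg N12736 = N18526 := rfl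
theorem L157363 : sm gc N18526 = N12737 := ded_30_1 (flp_g L108505) L108497 L157360
theorem L157366 : sm gi N18526 = N12806 := ded_51_2 (flp_g L109085) (flp_i L108503) L157360
theorem L157368 : sm gh N12736 = N18527 := rfl
theorem L157371 : sm gc N18527 = N12738 := ded_32_1 (flp_h L108515) L108497 L157368
theorem L157376 : sm gf N12737 = N18528 := rfl
theorem L157379 : sm gb N18528 = N12749 := ded_22_1 (flp_f L108616) (flp_b L108508) L157376
theorem L157381 : sm gd N18528 = N12739 := ded_35_1 (flp_f L108523) (flp_d L108510) L157376
theorem L157383 : sm gi N18528 = N12808 := ded_48_2 (flp_f L109099) (flp_i L108513) L157376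
theorem L157386 : sm gj N12737 = N18529 := rfl
theorem L157394 : sm gi N18529 = N12809 := ded_53_2 (flp_j L109107) (flp_i L108513) L157386
theorem L157397 : sm gh N12737 = N18530 := rfl
theorem L157400 : sm gb N18530 = N12751 := ded_25_1 (flp_h L108635) (flp_b L108508) L157397
theorem L157424 : sm gj N12739 = N18533 := rfl
theorem L157430 : sm gf N18533 = N12740 := ded_46_1 (flp_j L108532) L108523 L157424
theorem L157432 : sm gi N18533 = N12812 := ded_53_2 (flp_j L109134) (flp_i L108528) L157424
theorem L157444 : sm gh N12740 = N18535 := rfl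
theorem L157449 : sm ge N18535 = N12743 := ded_43_1 (flp_h L108560) (flp_e L108537) L157444
theorem L157452 : sm gj N18535 = N12741 := ded_52_1 (flp_h L108542) L108532 L157444
theorem L157455 : sm gd N12741 = N18536 := rfl
theorem L157478 : sm gd N12743 = N18539 := rfl
theorem L157485 : sm gj N18539 = N12744 := ded_37_2 (flp_d L108570) (flp_j L108567) L157478
theorem L157498 : sm ge N12744 = N18541 := rfl
theorem L157503 : sm gg N18541 = N12746 := ded_41_2 (flp_e L108589) (flp_g L108576) L157498
theorem L157516 : sm gf N12746 = N18543 := rfl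
theorem L157524 : sm ge N18543 = N12748 := ded_40_1 (flp_f L108607) (flp_e L75040) (flp_f L75027) L108589 L157516
theorem L157543 : sm gg N12748 = N18546 := rfl
theorem L157546 : sm gb N18546 = N12763 := ded_23_1 (flp_g L108747) (flp_b L108610) L157543
theorem L157552 : sm ge N12749 = N18547 := rfl
theorem L157554 : sm ga N18547 = N12770 := ded_13_1 (flp_e L108806) (flp_a L108618) L157552
theorem L157557 : sm gi N18547 = N12813 := ded_44_2 (flp_e L109143) (flp_i L108622) L157552
theorem L157561 : sm gj N12749 = N18548 := rfl
theorem L157565 : sm gd N18548 = N12754 := ded_37_1 (flp_j L108659) (flp_d L108620) L157561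
theorem L157569 : sm gi N18548 = N12814 := ded_53_2 (flp_j L109150) (flp_i L108622) L157561
theorem L157571 : sm gh N12749 = N18549 := rfl
theorem L157575 : sm gf N18549 = N12751 := ded_47_1 (flp_h L108635) L108616 L157571
theorem L157586 : sm gd N12751 = N18551 := rfl
theorem L157590 : sm gg N18551 = N12752 := ded_36_2 (flp_d L108642) (flp_g L108640) L157586
theorem L157594 : sm gi N12751 = N18552 := rfl
theorem L157603 : sm gc N12752 = N18553 := rfl
theorem L157609 : sm gh N18553 = N12758 := ded_32_2 (flp_c L108700) (flp_h L108648) L157603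
theorem L157639 : sm gh N12754 = N18557 := rfl
theorem L157648 : sm gj N18557 = N12755 := ded_52_1 (flp_h L108670) L108659 L157639
theorem L157651 : sm gd N12755 = N18558 := rfl
theorem L157659 : sm gd N12756 = N18559 := rfl
theorem L157664 : sm gj N18559 = N12757 := ded_37_2 (flp_d L108693) (flp_j L108690) L157659
theorem L157667 : sm gc N12757 = N18560 := rfl
theorem L157671 : sm gg N18560 = N12758 := ded_30_2 (flp_c L108700) (flp_g L108697) L157667
theorem L157685 : sm gb N12758 = N18562 := rfl
theorem L157692 : sm ge N12758 = N18563 := rfl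
theorem L157737 : sm gj N12763 = N18568 := rfl
theorem L157747 : sm gh N12764 = N18569 := rfl
theorem L157753 : sm gg N18569 = N12765 := ded_50_1 (flp_h L108765) L108756 L157747
theorem L157757 : sm gd N12765 = N18570 := rfl
theorem L157759 : sm ga N18570 = N12793 := ded_12_1 (flp_d L108988) (flp_a L108767) L157757
theorem L157766 : sm gc N12766 = N18571 := rfl
theorem L157770 : sm gf N18571 = N12768 := ded_29_2 (flp_c L108792) (flp_f L108779) L157766
theorem L157774 : sm ge N12766 = N18572 := rfl
theorem L157776 : sm ga N18572 = N12795 := ded_13_1 (flp_e L109003) (flp_a L108777) L157774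
theorem L157791 : sm gb N12768 = N18574 := rfl
theorem L157805 : sm gj N12770 = N18576 := rfl
theorem L157812 : sm gi N18576 = N12819 := ded_53_2 (flp_j L109193) (flp_i L108810) L157805
theorem L157814 : sm gh N12770 = N18577 := rfl
theorem L157821 : sm gg N12771 = N18578 := rfl
theorem L157824 : sm gd N18578 = N12779 := ded_36_1 (flp_g L108872) (flp_d L108817) L157821
theorem L157826 : sm gi N18578 = N12821 := ded_51_2 (flp_g L109207) (flp_i L108821) L157821
theorem L157837 : sm gd N12772 = N18580 := rfl
theorem L157840 : sm gf N18580 = N12774 := ded_35_2 (flp_d L108836) (flp_f L108826) L157837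
theorem L157843 : sm gh N18580 = N12781 := ded_38_2 (flp_d L108893) (flp_h L75235) (flp_d L75190) L108823 L157837
theorem L157853 : sm gd N12773 = N18582 := rfl
theorem L157859 : sm gh N18582 = N12782 := ded_38_2 (flp_d L108900) (flp_h L75245) (flp_d L75198) L108829 L157853
theorem L157861 : sm gi N12773 = N18583 := rfl
theorem L157868 : sm gh N18583 = N12824 := ded_54_1 (flp_i L109229) (flp_h L75521) (flp_i L75201) L108829 L157861
theorem L157884 : sm gi N12774 = N18586 := rfl
theorem L157889 : sm gg N18586 = N12778 := ded_51_1 (flp_i L108864) (flp_g L108839) L157884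
theorem L157929 : sm gh N12779 = N18592 := rfl
theorem L157934 : sm ge N18592 = N18592 := ded_43_1 (flp_h L157929) L108877 L157929
theorem L157936 : sm gg N18592 = N12780 := ded_50_1 (flp_h L108882) L108872 L157929
theorem L157940 : sm gd N12780 = N18593 := rfl
theorem L157945 : sm gj N18593 = N12781 := ded_37_2 (flp_d L108893) (flp_j L108890) L157940
theorem L157956 : sm ge N12781 = N18595 := rfl
theorem L158059 : sm gd N12792 = N18608 := rfl
theorem L158061 : sm gb N18608 = N12799 := ded_20_1 (flp_d L109034) (flp_b L108980) L158059
theorem L158064 : sm gg N18608 = N12793 := ded_36_2 (flp_d L108988) (flp_g L108984) L158059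
theorem L158068 : sm gc N12793 = N18609 := rfl
theorem L158072 : sm gj N18609 = N12794 := ded_31_2 (flp_c L108997) (flp_j L108994) L158068
theorem L158075 : sm ge N12793 = N18610 := rfl
theorem L158079 : sm gj N18610 = N12795 := ded_42_2 (flp_e L109003) (flp_j L108994) L158075
theorem L158084 : sm gb N12794 = N18611 := rfl
theorem L158092 : sm ge N12794 = N18612 := rfl
theorem L158116 : sm gc N12799 = N18615 := rfl
theorem L158119 : sm gg N18615 = N12800 := ded_30_2 (flp_c L109041) (flp_g L109037) L158116
theorem L158124 : sm ge N12799 = N18616 := rfl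
theorem L158126 : sm gg N18616 = N12801 := ded_41_2 (flp_e L109049) (flp_g L109037) L158124
theorem L158131 : sm gb N12800 = N18617 := rfl
theorem L158134 : sm gf N18617 = N12804 := ded_22_2 (flp_b L109070) (flp_f L109043) L158131
theorem L158136 : sm gj N18617 = N12802 := ded_24_2 (flp_b L109056) (flp_j L109045) L158131
theorem L158139 : sm ge N12800 = N18618 := rfl
theorem L158141 : sm gc N18618 = N12801 := ded_28_1 (flp_e L109049) L109041 L158139
theorem L158143 : sm gj N18618 = N12803 := ded_42_2 (flp_e L109063) (flp_j L109045) L158139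
theorem L158154 : sm ge N12802 = N18620 := rfl
theorem L158168 : sm ga N12804 = N18622 := rfl
theorem L158173 : sm gj N18622 = N12805 := ded_16_2 (flp_a L109078) (flp_j L109075) L158168
theorem L158176 : sm gf N12806 = N18623 := rfl
theorem L158179 : sm gc N18623 = N12808 := ded_29_1 (flp_f L109099) (flp_c L109088) L158176
theorem L158182 : sm gj N12806 = N18624 := rfl
theorem L158185 : sm gc N18624 = N12809 := ded_31_1 (flp_j L109107) (flp_c L109088) L158182
theorem L158189 : sm gh N12806 = N18625 := rfl
theorem L158219 : sm gj N12808 = N18629 := rfl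
theorem L158237 : sm gh N12809 = N18631 := rfl
theorem L158265 : sm gj N12813 = N18634 := rfl
theorem L158273 : sm gh N12813 = N18635 := rfl
theorem L158277 : sm ge N18635 = N12815 := ded_43_1 (flp_h L109158) L109143 L158273
theorem L158289 : sm gh N12814 = N18637 := rfl
theorem L158295 : sm gj N18637 = N12815 := ded_52_1 (flp_h L109158) L109150 L158289
theorem L158298 : sm gi N12815 = N18638 := rfl
theorem L158315 : sm gg N12819 = N18640 := rfl
theorem L158319 : sm ge N18640 = N12821 := ded_41_1 (flp_g L109207) (flp_e L109197) L158315
theorem L158322 : sm gh N12819 = N18641 := rfl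
theorem L158344 : sm gh N12821 = N18644 := rfl
theorem L158360 : sm gc N12825 = N18646 := rfl
theorem L158364 : sm gf N18646 = N13038 := ded_29_2 (flp_c L111011) (flp_f L109242) L158360
theorem L158366 : sm gj N18646 = N12904 := ded_31_2 (flp_c L109941) (flp_j L109244) L158360
theorem L158370 : sm gg N12825 = N18647 := rfl
theorem L158375 : sm gd N18647 = N12826 := ded_36_1 (flp_g L109248) L109237 L158370
theorem L158408 : sm gh N12826 = N18651 := rfl
theorem L158415 : sm gg N18651 = N12827 := ded_50_1 (flp_h L109256) L109248 L158408
theorem L158417 : sm gd N12827 = N18652 := rfl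
theorem L158422 : sm gf N18652 = N13043 := ded_35_2 (flp_d L111058) (flp_f L109263) L158417
theorem L158424 : sm gj N18652 = N12909 := ded_37_2 (flp_d L109986) (flp_j L109265) L158417
theorem L158474 : sm ge N12830 = N18658 := rfl
theorem L158477 : sm gb N18658 = N12845 := ded_21_1 (flp_e L109433) (flp_b L109288) L158474
theorem L158479 : sm gj N18658 = N12915 := ded_42_2 (flp_e L110038) (flp_j L109292) L158474
theorem L158510 : sm gf N12833 = N18662 := rfl
theorem L158517 : sm gj N18662 = N12919 := ded_46_2 (flp_f L110068) (flp_j L109318) L158510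
theorem L158520 : sm gi N12833 = N18663 := rfl
theorem L158527 : sm ge N18663 = N12834 := ded_44_1 (flp_i L109323) L109312 L158520
theorem L158530 : sm gj N18663 = N12920 := ded_53_1 (flp_i L110076) (flp_j L109318) L158520
theorem L158532 : sm gh N12834 = N18664 := rfl
theorem L158542 : sm gf N12835 = N18665 := rfl
theorem L158550 : sm gg N18665 = N13055 := ded_45_2 (flp_f L111176) (flp_g L76902) (flp_f L75596) L109333 L158542
theorem L158552 : sm gj N12835 = N18666 := rfl
theorem L158561 : sm gg N18666 = N12922 := ded_49_1 (flp_j L110096) (flp_g L76115) (flp_j L75598) L109333 L158552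
theorem L158563 : sm gh N12835 = N18667 := rfl
theorem L158569 : sm gg N18667 = N12836 := ded_50_1 (flp_h L109342) L109333 L158563
theorem L158571 : sm gd N12836 = N18668 := rfl
theorem L158573 : sm ga N18668 = N12861 := ded_12_1 (flp_d L109579) (flp_a L109344) L158571
theorem L158575 : sm gf N18668 = N13057 := ded_35_2 (flp_d L111195) (flp_f L109348) L158571
theorem L158577 : sm gj N18668 = N12924 := ded_37_2 (flp_d L110115) (flp_j L109350) L158571
theorem L158579 : sm gh N18668 = N12840 := ded_38_2 (flp_d L109383) (flp_h L75612) L75592 L109342 L158571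
theorem L158581 : sm gi N12836 = N18669 := rfl
theorem L158587 : sm gf N18669 = N13058 := ded_48_1 (flp_i L111203) (flp_f L109348) L158581
theorem L158603 : sm gh N12837 = N18671 := rfl
theorem L158605 : sm ga N18671 = N12864 := ded_17_1 (flp_h L109608) (flp_a L109354) L158603
theorem L158614 : sm gh N12838 = N18672 := rfl
theorem L158618 : sm gc N18672 = N12852 := ded_32_1 (flp_h L109498) (flp_c L109366) L158614
theorem L158622 : sm gg N18672 = N12926 := ded_50_1 (flp_h L110132) (flp_g L109371) L158614
theorem L158626 : sm gd N12839 = N18673 := rfl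
theorem L158643 : sm gc N12840 = N18675 := rfl
theorem L158649 : sm gj N18675 = N12929 := ded_31_2 (flp_c L110162) (flp_j L109389) L158643
theorem L158671 : sm gd N12842 = N18678 := rfl
theorem L158678 : sm gj N18678 = N12843 := ded_37_2 (flp_d L109415) (flp_j L109413) L158671
theorem L158693 : sm ge N12843 = N18680 := rfl
theorem L158695 : sm ga N18680 = N12873 := ded_13_1 (flp_e L109688) (flp_a L109417) L158693
theorem L158700 : sm gi N12843 = N18681 := rfl
theorem L158707 : sm gg N18681 = N12846 := ded_51_1 (flp_i L109440) (flp_g L109420) L158700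
theorem L158709 : sm gf N12845 = N18682 := rfl
theorem L158713 : sm gj N18682 = N12936 := ded_46_2 (flp_f L110221) (flp_j L109437) L158709
theorem L158726 : sm gh N12846 = N18684 := rfl
theorem L158744 : sm gi N12847 = N18686 := rfl
theorem L158750 : sm gf N18686 = N12848 := ded_48_1 (flp_i L109459) L109450 L158744
theorem L158752 : sm gj N18686 = N12940 := ded_53_1 (flp_i L110251) (flp_j L109456) L158744
theorem L158793 : sm gd N12852 = N18691 := rfl
theorem L158799 : sm gj N18691 = N12853 := ded_37_2 (flp_d L109508) (flp_j L109506) L158793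
theorem L158802 : sm gi N12852 = N18692 := rfl
theorem L158810 : sm gj N18692 = N12854 := ded_53_1 (flp_i L109515) (flp_j L109506) L158802
theorem L158813 : sm gc N12853 = N18693 := rfl
theorem L158817 : sm gg N18693 = N12855 := ded_30_2 (flp_c L109524) (flp_g L109512) L158813
theorem L158828 : sm gb N12855 = N18695 := rfl
theorem L158830 : sm gf N18695 = N13077 := ded_22_2 (flp_b L111384) (flp_f L109528) L158828
theorem L158835 : sm gi N12855 = N18696 := rfl
theorem L158841 : sm gf N18696 = N13078 := ded_48_1 (flp_i L111390) (flp_f L109528) L158835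
theorem L158843 : sm gj N18696 = N12947 := ded_53_1 (flp_i L110308) (flp_j L109530) L158835
theorem L158891 : sm gd N12860 = N18702 := rfl
theorem L158894 : sm gg N18702 = N12861 := ded_36_2 (flp_d L109579) (flp_g L109577) L158891
theorem L158896 : sm gh N18702 = N12866 := ded_38_2 (flp_d L109629) (flp_h L75783) (flp_d L75751) L109572 L158891
theorem L158906 : sm gc N12861 = N18704 := rfl
theorem L158908 : sm gf N18704 = N13084 := ded_29_2 (flp_c L111442) (flp_f L109582) L158906
theorem L158910 : sm gj N18704 = N12952 := ded_31_2 (flp_c L110349) (flp_j L109584) L158906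
theorem L158912 : sm gh N18704 = N12868 := ded_32_2 (flp_c L109644) (flp_h L109586) L158906
theorem L158932 : sm gh N12863 = N18707 := rfl
theorem L158941 : sm gj N18707 = N12864 := ded_52_1 (flp_h L109608) L109598 L158932
theorem L158950 : sm gi N12864 = N18709 := rfl
theorem L158961 : sm gd N12865 = N18710 := rfl
theorem L158964 : sm gg N18710 = N12955 := ded_36_2 (flp_d L110369) (flp_g L109625) L158961
theorem L158966 : sm gj N18710 = N12866 := ded_37_2 (flp_d L109629) (flp_j L109627) L158961
theorem L158993 : sm gi N12866 = N18714 := rfl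
theorem L159000 : sm gb N12868 = N18715 := rfl
theorem L159004 : sm gf N18715 = N13092 := ded_22_2 (flp_b L111504) (flp_f L109646) L159000
theorem L159009 : sm ge N12868 = N18716 := rfl
theorem L159013 : sm gj N18716 = N12961 := ded_42_2 (flp_e L110415) (flp_j L109648) L159009
theorem L159015 : sm gi N12868 = N18717 := rfl
theorem L159051 : sm ge N12871 = N18721 := rfl
theorem L159054 : sm gg N18721 = N12966 := ded_41_2 (flp_e L110447) (flp_g L109672) L159051
theorem L159056 : sm gj N18721 = N12873 := ded_42_2 (flp_e L109688) (flp_j L109674) L159051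
theorem L159069 : sm gf N12873 = N18723 := rfl
theorem L159074 : sm gi N12873 = N18724 := rfl
theorem L159079 : sm gg N18724 = N12876 := ded_51_1 (flp_i L109710) (flp_g L109691) L159074
theorem L159104 : sm gh N12876 = N18728 := rfl
theorem L159112 : sm gj N12878 = N18729 := rfl
theorem L159119 : sm gg N18729 = N12974 := ded_49_1 (flp_j L110503) (flp_g L76418) (flp_j L75857) L109726 L159112
theorem L159121 : sm gi N12878 = N18730 := rfl
theorem L159124 : sm gd N18730 = N13105 := ded_39_1 (flp_i L111613) (flp_d L109729) L159121
theorem L159129 : sm gh N12879 = N18731 := rfl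
theorem L159134 : sm gj N18731 = N12976 := ded_52_1 (flp_h L110520) (flp_j L109740) L159129
theorem L159137 : sm gd N12880 = N18732 := rfl
theorem L159141 : sm gj N18732 = N12977 := ded_37_2 (flp_d L110526) (flp_j L109748) L159137
theorem L159145 : sm gh N18732 = N13107 := ded_38_2 (flp_d L111630) (flp_h L77217) (flp_d L75863) L109742 L159137
theorem L159147 : sm gd N12881 = N18733 := rfl
theorem L159151 : sm gf N18733 = N12884 := ded_35_2 (flp_d L109780) (flp_f L109756) L159147
theorem L159154 : sm gj N18733 = N12882 := ded_37_2 (flp_d L109761) (flp_j L109759) L159147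
theorem L159168 : sm gc N12882 = N18735 := rfl
theorem L159172 : sm gg N18735 = N13108 := ded_30_2 (flp_c L111639) (flp_g L109767) L159168
theorem L159175 : sm ge N12882 = N18736 := rfl
theorem L159183 : sm gi N12882 = N18737 := rfl
theorem L159191 : sm gg N18737 = N13110 := ded_51_1 (flp_i L111653) (flp_g L109767) L159183
theorem L159193 : sm gc N12884 = N18738 := rfl
theorem L159195 : sm gg N18738 = N12978 := ded_30_2 (flp_c L110535) (flp_g L109784) L159193
theorem L159197 : sm gj N18738 = N12886 := ded_31_2 (flp_c L109800) (flp_j L109786) L159193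
theorem L159210 : sm gb N12886 = N18740 := rfl
theorem L159217 : sm gi N12886 = N18741 := rfl
theorem L159231 : sm ga N12888 = N18743 := rfl
theorem L159233 : sm gc N18743 = N12901 := ded_11_2 (flp_a L109915) (flp_c L109820) L159231
theorem L159235 : sm gf N18743 = N13114 := ded_14_2 (flp_a L111689) (flp_f L109815) L159231
theorem L159259 : sm gc N12891 = N18746 := rfl
theorem L159261 : sm gf N18746 = N12896 := ded_29_2 (flp_c L109880) (flp_f L109842) L159259
theorem L159264 : sm gj N18746 = N12893 := ded_31_2 (flp_c L109858) (flp_j L109845) L159259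
theorem L159268 : sm ge N12891 = N18747 := rfl
theorem L159284 : sm gb N12893 = N18749 := rfl
theorem L159289 : sm gg N18749 = N13117 := ded_23_2 (flp_b L111714) (flp_g L109862) L159284
theorem L159292 : sm ge N12893 = N18750 := rfl
theorem L159296 : sm gg N18750 = N13118 := ded_41_2 (flp_e L111721) (flp_g L109862) L159292
theorem L159299 : sm gi N12893 = N18751 := rfl
theorem L159306 : sm gg N18751 = N13119 := ded_51_1 (flp_i L111728) (flp_g L109862) L159299
theorem L159331 : sm gi N12896 = N18755 := rfl
theorem L159338 : sm gj N18755 = N12899 := ded_53_1 (flp_i L109902) (flp_j L109884) L159331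
theorem L159377 : sm gh N12902 = N18761 := rfl
theorem L159395 : sm gg N12904 = N18763 := rfl
theorem L159404 : sm gh N12904 = N18764 := rfl
theorem L159432 : sm gd N12906 = N18767 := rfl
theorem L159439 : sm gh N18767 = N12909 := ded_38_2 (flp_d L109986) (flp_h L76047) L76029 L109959 L159432
theorem L159460 : sm gd N12908 = N18770 := rfl
theorem L159466 : sm gg N18770 = N12909 := ded_36_2 (flp_d L109986) (flp_g L109984) L159460
theorem L159479 : sm gc N12909 = N18772 := rfl
theorem L159484 : sm ge N12909 = N18773 := rfl
theorem L159489 : sm gd N18773 = N12915 := ded_34_1 (flp_e L110038) (flp_d L76074) (flp_e L76052) L109986 L159484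
theorem L159491 : sm gi N12909 = N18774 := rfl
theorem L159500 : sm gd N12911 = N18775 := rfl
theorem L159507 : sm gj N18775 = N12912 := ded_37_2 (flp_d L110012) (flp_j L110010) L159500
theorem L159520 : sm gc N12912 = N18777 := rfl
theorem L159525 : sm gg N18777 = N12914 := ded_30_2 (flp_c L110032) (flp_g L110019) L159520
theorem L159536 : sm gi N12912 = N18779 := rfl
theorem L159545 : sm gg N18779 = N12916 := ded_51_1 (flp_i L110044) (flp_g L110019) L159536
theorem L159547 : sm ge N12914 = N18780 := rfl
theorem L159550 : sm gc N18780 = N12915 := ded_28_1 (flp_e L110038) L110032 L159547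
theorem L159560 : sm gf N12915 = N18782 := rfl
theorem L159566 : sm ge N18782 = N12919 := ded_40_1 (flp_f L110068) (flp_e L76096) (flp_f L76079) L110038 L159560
theorem L159575 : sm gh N12916 = N18784 := rfl
theorem L159614 : sm gg N12919 = N18789 := rfl
theorem L159622 : sm gf N18789 = N13009 := ded_45_1 (flp_g L110777) (flp_f L76615) (flp_g L76101) L110068 L159614
theorem L159633 : sm gh N12920 = N18791 := rfl
theorem L159643 : sm gh N12922 = N18792 := rfl
theorem L159650 : sm gj N18792 = N12923 := ded_52_1 (flp_h L110106) L110096 L159643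
theorem L159661 : sm gi N12923 = N18794 := rfl
theorem L159671 : sm gc N12924 = N18795 := rfl
theorem L159677 : sm gh N18795 = N12929 := ded_32_2 (flp_c L110162) (flp_h L110121) L159671
theorem L159680 : sm ge N12924 = N18796 := rfl
theorem L159684 : sm gh N18796 = N12930 := ded_43_2 (flp_e L110170) (flp_h L110121) L159680
theorem L159695 : sm gd N12926 = N18798 := rfl
theorem L159700 : sm gj N18798 = N12927 := ded_37_2 (flp_d L110143) (flp_j L110141) L159695
theorem L159702 : sm gi N12926 = N18799 := rfl
theorem L159708 : sm ge N18799 = N12933 := ded_44_1 (flp_i L110193) (flp_e L110138) L159702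
theorem L159714 : sm gc N12927 = N18800 := rfl
theorem L159721 : sm gd N18800 = N12944 := ded_27_2 (flp_c L110286) (flp_d L76248) (flp_c L76147) L110143 L159714
theorem L159746 : sm ge N12929 = N18804 := rfl
theorem L159748 : sm ga N18804 = N12961 := ded_13_1 (flp_e L110415) (flp_a L110164) L159746
theorem L159750 : sm gc N18804 = N12930 := ded_28_1 (flp_e L110170) L110162 L159746
theorem L159752 : sm gi N12929 = N18805 := rfl
theorem L159770 : sm gi N12930 = N18807 := rfl
theorem L159802 : sm gf N12934 = N18811 := rfl
theorem L159807 : sm ge N18811 = N13014 := ded_40_1 (flp_f L110822) (flp_e L76661) (flp_f L76185) L110204 L159802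
theorem L159809 : sm gi N12934 = N18812 := rfl
theorem L159811 : sm ga N18812 = N12969 := ded_18_1 (flp_i L110468) (flp_a L110206) L159809
theorem L159868 : sm gh N12940 = N18819 := rfl
theorem L159870 : sm ga N18819 = N12976 := ded_17_1 (flp_h L110520) (flp_a L110253) L159868
theorem L159875 : sm gd N12941 = N18820 := rfl
theorem L159883 : sm gh N18820 = N13161 := ded_38_2 (flp_d L112075) (flp_h L77537) (flp_d L76225) L110259 L159875
theorem L159902 : sm gb N12944 = N18823 := rfl
theorem L159905 : sm gg N18823 = N12946 := ded_23_2 (flp_b L110303) (flp_g L110291) L159902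
theorem L159908 : sm gi N12944 = N18824 := rfl
theorem L159915 : sm gg N18824 = N12947 := ded_51_1 (flp_i L110308) (flp_g L110291) L159908
theorem L159926 : sm ga N12946 = N18826 := rfl
theorem L159939 : sm gh N12947 = N18828 := rfl
theorem L159948 : sm gd N12949 = N18829 := rfl
theorem L159952 : sm gj N18829 = N12950 := ded_37_2 (flp_d L110332) (flp_j L110330) L159948
theorem L159954 : sm gh N18829 = N12955 := ded_38_2 (flp_d L110369) (flp_h L76322) (flp_d L76294) L110324 L159948
theorem L159965 : sm gc N12950 = N18831 := rfl
theorem L159968 : sm gg N18831 = N12952 := ded_30_2 (flp_c L110349) (flp_g L110336) L159965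
theorem L159970 : sm gh N18831 = N12957 := ded_32_2 (flp_c L110386) (flp_h L110338) L159965
theorem L159973 : sm ge N12950 = N18832 := rfl
theorem L159978 : sm gh N18832 = N12958 := ded_43_2 (flp_e L110393) (flp_h L110338) L159973
theorem L159989 : sm gb N12952 = N18834 := rfl
theorem L159994 : sm gh N18834 = N12960 := ded_25_2 (flp_b L110408) (flp_h L110353) L159989
theorem L159997 : sm ge N12952 = N18835 := rfl
theorem L160001 : sm gh N18835 = N12961 := ded_43_2 (flp_e L110415) (flp_h L110353) L159997
theorem L160010 : sm gf N12953 = N18837 := rfl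
theorem L160014 : sm gh N18837 = N12963 := ded_47_2 (flp_f L110427) (flp_h L110359) L160010
theorem L160016 : sm ge N18837 = N13168 := ded_40_1 (flp_f L112126) (flp_e L77575) (flp_f L76310) L110356 L160010
theorem L160024 : sm gh N12954 = N18839 := rfl
theorem L160030 : sm gi N18839 = N12965 := ded_54_2 (flp_h L110441) (flp_i L76360) (flp_h L76312) L110362 L160024
theorem L160032 : sm gc N12955 = N18840 := rfl
theorem L160039 : sm ge N12955 = N18841 := rfl
theorem L160042 : sm gj N18841 = N12958 := ded_42_2 (flp_e L110393) (flp_j L110373) L160039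
theorem L160046 : sm gi N12955 = N18842 := rfl
theorem L160062 : sm ge N12957 = N18844 := rfl
theorem L160066 : sm gg N18844 = N12961 := ded_41_2 (flp_e L110415) (flp_g L110389) L160062
theorem L160083 : sm gi N12958 = N18847 := rfl
theorem L160099 : sm ga N12960 = N18849 := rfl
theorem L160104 : sm gf N18849 = N13171 := ded_14_2 (flp_a L112148) (flp_f L110412) L160099
theorem L160106 : sm ge N12960 = N18850 := rfl
theorem L160120 : sm gf N12961 = N18852 := rfl
theorem L160126 : sm gi N12961 = N18853 := rfl
theorem L160145 : sm gi N12963 = N18856 := rfl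
theorem L160148 : sm gd N18856 = N12972 := ded_39_1 (flp_i L110490) (flp_d L110430) L160145
theorem L160159 : sm gf N12966 = N18858 := rfl
theorem L160162 : sm gj N18858 = N12968 := ded_46_2 (flp_f L110462) (flp_j L110450) L160159
theorem L160165 : sm ge N18858 = N13024 := ded_40_1 (flp_f L110904) (flp_e L76727) (flp_f L76370) L110447 L160159
theorem L160174 : sm gh N12967 = N18860 := rfl
theorem L160177 : sm gf N18860 = N13026 := ded_47_1 (flp_h L110920) (flp_f L110458) L160174
theorem L160183 : sm gg N12968 = N18861 := rfl
theorem L160191 : sm gi N12968 = N18862 := rfl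
theorem L160198 : sm gh N12969 = N18863 := rfl
theorem L160203 : sm gg N18863 = N12973 := ded_50_1 (flp_h L110497) (flp_g L110473) L160198
theorem L160219 : sm gh N12972 = N18866 := rfl
theorem L160224 : sm gf N18866 = N12973 := ded_47_1 (flp_h L110497) (flp_f L110495) L160219
theorem L160227 : sm gd N12973 = N18867 := rfl
theorem L160232 : sm gi N12974 = N18868 := rfl
theorem L160235 : sm gd N18868 = N13184 := ded_39_1 (flp_i L112241) (flp_d L110506) L160232
theorem L160237 : sm gf N18868 = N13034 := ded_48_1 (flp_i L110981) (flp_f L110508) L160232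
theorem L160239 : sm gj N18868 = N12975 := ded_53_1 (flp_i L110511) L110503 L160232
theorem L160241 : sm gh N12975 = N18869 := rfl
theorem L160246 : sm gg N18869 = N12976 := ded_50_1 (flp_h L110520) (flp_g L110518) L160241
theorem L160249 : sm gd N12976 = N18870 := rfl
theorem L160273 : sm gi N12978 = N18873 := rfl
theorem L160297 : sm gi N12980 = N18876 := rfl
theorem L160304 : sm gg N18876 = N12984 := ded_51_1 (flp_i L110581) (flp_g L110553) L160297
theorem L160322 : sm gh N12984 = N18879 := rfl
theorem L160328 : sm gf N18879 = N13189 := ded_47_1 (flp_h L112282) (flp_f L110587) L160322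
theorem L160344 : sm gi N12986 = N18882 := rfl
theorem L160350 : sm gj N18882 = N12990 := ded_53_1 (flp_i L110625) (flp_j L110600) L160344
theorem L160368 : sm gh N12990 = N18885 := rfl
theorem L160373 : sm gg N18885 = N12993 := ded_50_1 (flp_h L110648) (flp_g L110631) L160368
theorem L160384 : sm gh N12992 = N18887 := rfl
theorem L160391 : sm gd N12993 = N18888 := rfl
theorem L160395 : sm gf N18888 = N13192 := ded_35_2 (flp_d L112303) (flp_f L110652) L160391
theorem L160404 : sm gc N12995 = N18890 := rfl
theorem L160408 : sm gj N18890 = N12997 := ded_31_2 (flp_c L110681) (flp_j L110668) L160404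
theorem L160411 : sm ge N12995 = N18891 := rfl
theorem L160417 : sm gj N18891 = N12998 := ded_42_2 (flp_e L110687) (flp_j L110668) L160411
theorem L160431 : sm ge N12997 = N18893 := rfl
theorem L160436 : sm gg N18893 = N13000 := ded_41_2 (flp_e L110705) (flp_g L110684) L160431
theorem L160453 : sm gi N12998 = N18896 := rfl
theorem L160456 : sm gb N18896 = N13015 := ded_26_1 (flp_i L110828) (flp_b L110690) L160453
theorem L160472 : sm gd N13000 = N18898 := rfl
theorem L160477 : sm gf N13000 = N18899 := rfl
theorem L160486 : sm gi N13000 = N18900 := rfl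
theorem L160584 : sm gj N13009 = N18912 := rfl
theorem L160593 : sm gi N13009 = N18913 := rfl
theorem L160600 : sm gg N18913 = N13010 := ded_51_1 (flp_i L110785) L110777 L160593
theorem L160602 : sm gh N13010 = N18914 := rfl
theorem L160605 : sm gb N18914 = N13022 := ded_25_1 (flp_h L110887) (flp_b L110788) L160602
theorem L160607 : sm gf N18914 = N13011 := ded_47_1 (flp_h L110795) (flp_f L110792) L160602
theorem L160639 : sm gh N13013 = N18918 := rfl
theorem L160641 : sm ga N18918 = N13026 := ded_17_1 (flp_h L110920) (flp_a L110815) L160639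
theorem L160648 : sm gg N13014 = N18919 := rfl
theorem L160654 : sm gf N18919 = N13017 := ded_45_1 (flp_g L110845) (flp_f L76677) (flp_g L76665) L110822 L160648
theorem L160656 : sm gi N13014 = N18920 := rfl
theorem L160663 : sm gh N13015 = N18921 := rfl
theorem L160669 : sm gg N18921 = N13019 := ded_50_1 (flp_h L110863) (flp_g L110835) L160663
theorem L160672 : sm gj N13017 = N18922 := rfl
theorem L160681 : sm gi N13017 = N18923 := rfl
theorem L160690 : sm gh N13018 = N18924 := rfl
theorem L160694 : sm ge N18924 = N13022 := ded_43_1 (flp_h L110887) (flp_e L110858) L160690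
theorem L160696 : sm gf N18924 = N13019 := ded_47_1 (flp_h L110863) (flp_f L110860) L160690
theorem L160700 : sm gd N13019 = N18925 := rfl
theorem L160724 : sm gd N13022 = N18928 := rfl
theorem L160743 : sm gg N13024 = N18930 := rfl
theorem L160826 : sm gh N13034 = N18941 := rfl
theorem L160830 : sm gj N18941 = N13035 := ded_52_1 (flp_h L110989) (flp_j L110987) L160826
theorem L160833 : sm gd N13035 = N18942 := rfl
theorem L160839 : sm gh N18942 = N13210 := ded_38_2 (flp_d L112461) (flp_h L77831) (flp_d L76796) L110989 L160833
theorem L160865 : sm gg N13038 = N18946 := rfl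
theorem L160869 : sm gc N18946 = N13039 := ded_30_1 (flp_g L111020) L111011 L160865
theorem L160875 : sm gh N13038 = N18947 := rfl
theorem L160885 : sm gf N13039 = N18948 := rfl
theorem L160894 : sm gh N13039 = N18949 := rfl
theorem L160901 : sm gg N18949 = N13040 := ded_50_1 (flp_h L111031) L111020 L160894
theorem L160904 : sm gd N13040 = N18950 := rfl
theorem L160911 : sm gh N18950 = N13043 := ded_38_2 (flp_d L111058) (flp_h L76834) L76815 L111031 L160904
theorem L160923 : sm gh N13041 = N18952 := rfl
theorem L160929 : sm gf N18952 = N13042 := ded_47_1 (flp_h L111048) L111040 L160923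
theorem L160932 : sm gd N13042 = N18953 := rfl
theorem L160937 : sm gg N18953 = N13043 := ded_36_2 (flp_d L111058) (flp_g L111055) L160932
theorem L160951 : sm gc N13043 = N18955 := rfl
theorem L160954 : sm gj N18955 = N13131 := ded_31_2 (flp_c L111825) (flp_j L111063) L160951
theorem L160956 : sm ge N13043 = N18956 := rfl
theorem L160965 : sm gi N13043 = N18957 := rfl
theorem L160974 : sm gc N13045 = N18958 := rfl
theorem L160978 : sm gg N18958 = N13047 := ded_30_2 (flp_c L111096) (flp_g L111081) L160974
theorem L160981 : sm gh N18958 = N13226 := ded_32_2 (flp_c L112604) (flp_h L111084) L160974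
theorem L160984 : sm ge N13045 = N18959 := rfl
theorem L160989 : sm gg N18959 = N13048 := ded_41_2 (flp_e L111106) (flp_g L111081) L160984
theorem L160992 : sm gh N18959 = N13227 := ded_43_2 (flp_e L112613) (flp_h L111084) L160984
theorem L160994 : sm gi N13045 = N18960 := rfl
theorem L161002 : sm gg N18960 = N13049 := ded_51_1 (flp_i L111115) (flp_g L111081) L160994
theorem L161005 : sm ge N13047 = N18961 := rfl
theorem L161011 : sm gj N18961 = N13134 := ded_42_2 (flp_e L111845) (flp_j L111101) L161005
theorem L161013 : sm gh N18961 = N13229 := ded_43_2 (flp_e L112632) (flp_h L111103) L161005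
theorem L161036 : sm gi N13048 = N18964 := rfl
theorem L161043 : sm gj N18964 = N13137 := ded_53_1 (flp_i L111872) (flp_j L111111) L161036
theorem L161045 : sm gh N13049 = N18965 := rfl
theorem L161052 : sm gj N18965 = N13138 := ded_52_1 (flp_h L111880) (flp_j L111124) L161045
theorem L161057 : sm gd N13050 = N18966 := rfl
theorem L161062 : sm gj N18966 = N13139 := ded_37_2 (flp_d L111891) (flp_j L111133) L161057
theorem L161064 : sm gf N13050 = N18967 := rfl
theorem L161072 : sm gh N18967 = N13235 := ded_47_2 (flp_f L112688) (flp_h L111135) L161064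
theorem L161085 : sm gh N13051 = N18969 := rfl
theorem L161094 : sm gi N18969 = N13237 := ded_54_2 (flp_h L112707) (flp_i L77978) (flp_h L76879) L111137 L161085
theorem L161125 : sm ge N13055 = N18973 := rfl
theorem L161133 : sm gf N18973 = N13241 := ded_40_2 (flp_e L112743) (flp_f L78016) (flp_e L76909) L111176 L161125
theorem L161135 : sm gh N13055 = N18974 := rfl
theorem L161143 : sm gd N13056 = N18975 := rfl
theorem L161147 : sm gg N18975 = N13057 := ded_36_2 (flp_d L111195) (flp_g L111192) L161143
theorem L161150 : sm gh N18975 = N13060 := ded_38_2 (flp_d L111223) (flp_h L76931) (flp_d L76907) L111185 L161143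
theorem L161163 : sm gc N13057 = N18977 := rfl
theorem L161167 : sm gj N18977 = N13146 := ded_31_2 (flp_c L111952) (flp_j L111199) L161163
theorem L161172 : sm ge N13057 = N18978 := rfl
theorem L161176 : sm gj N18978 = N13147 := ded_42_2 (flp_e L111960) (flp_j L111199) L161172
theorem L161182 : sm gi N13057 = N18979 := rfl
theorem L161188 : sm gj N18979 = N13148 := ded_53_1 (flp_i L111969) (flp_j L111199) L161182
theorem L161190 : sm gd N13059 = N18980 := rfl
theorem L161194 : sm gf N18980 = N13060 := ded_35_2 (flp_d L111223) (flp_f L111220) L161190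
theorem L161208 : sm gc N13060 = N18982 := rfl
theorem L161212 : sm gg N18982 = N13062 := ded_30_2 (flp_c L111242) (flp_g L111227) L161208
theorem L161217 : sm ge N13060 = N18983 := rfl
theorem L161221 : sm gg N18983 = N13063 := ded_41_2 (flp_e L111250) (flp_g L111227) L161217
theorem L161226 : sm gi N13060 = N18984 := rfl
theorem L161235 : sm gb N13062 = N18985 := rfl
theorem L161237 : sm gd N18985 = N13077 := ded_20_2 (flp_b L111384) (flp_d L111248) L161235
theorem L161239 : sm gj N18985 = N13149 := ded_24_2 (flp_b L111976) (flp_j L111246) L161235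
theorem L161250 : sm gi N13062 = N18987 := rfl
theorem L161256 : sm gd N18987 = N13078 := ded_39_1 (flp_i L111390) (flp_d L111248) L161250
theorem L161258 : sm gj N18987 = N13151 := ded_53_1 (flp_i L111989) (flp_j L111246) L161250
theorem L161260 : sm gf N13063 = N18988 := rfl
theorem L161266 : sm gj N18988 = N13152 := ded_46_2 (flp_f L111998) (flp_j L111254) L161260
theorem L161268 : sm gi N13063 = N18989 := rfl
theorem L161285 : sm gf N13065 = N18991 := rfl
theorem L161291 : sm gh N18991 = N13259 := ded_47_2 (flp_f L112907) (flp_h L111274) L161285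
theorem L161294 : sm gi N13065 = N18992 := rfl
theorem L161301 : sm gg N18992 = N13068 := ded_51_1 (flp_i L111298) (flp_g L111271) L161294
theorem L161316 : sm gg N13067 = N18994 := rfl
theorem L161323 : sm gh N18994 = N13262 := ded_50_2 (flp_g L112934) (flp_h L111294) L161316
theorem L161336 : sm gh N13068 = N18996 := rfl
theorem L161343 : sm gj N18996 = N13157 := ded_52_1 (flp_h L112038) (flp_j L111305) L161336
theorem L161345 : sm gi N18996 = N13264 := ded_54_2 (flp_h L112952) (flp_i L78136) (flp_h L76988) L111298 L161336
theorem L161347 : sm gj N13070 = N18997 := rfl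
theorem L161353 : sm gh N18997 = N13265 := ded_52_2 (flp_j L112961) (flp_h L111324) L161347
theorem L161357 : sm gi N13070 = N18998 := rfl
theorem L161365 : sm gh N13071 = N18999 := rfl
theorem L161367 : sm ga N18999 = N13106 := ded_17_1 (flp_h L111620) (flp_a L111329) L161365
theorem L161372 : sm gj N18999 = N13160 := ded_52_1 (flp_h L112066) (flp_j L111334) L161365
theorem L161374 : sm gi N18999 = N13267 := ded_54_2 (flp_h L112979) (flp_i L78162) (flp_h L77008) L111327 L161365
theorem L161386 : sm gc N13073 = N19001 := rfl
theorem L161388 : sm ga N19001 = N13108 := ded_11_1 (flp_c L111639) (flp_a L111350) L161386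
theorem L161390 : sm gf N19001 = N13075 := ded_29_2 (flp_c L111365) (flp_f L111352) L161386
theorem L161411 : sm gb N13075 = N19004 := rfl
theorem L161414 : sm gg N19004 = N13077 := ded_23_2 (flp_b L111384) (flp_g L111370) L161411
theorem L161438 : sm ga N13077 = N19007 := rfl
theorem L161446 : sm gi N13077 = N19008 := rfl
theorem L161451 : sm gj N19008 = N13163 := ded_53_1 (flp_i L112091) (flp_j L111387) L161446
theorem L161453 : sm gh N13078 = N19009 := rfl
theorem L161463 : sm gh N13080 = N19010 := rfl
theorem L161467 : sm ge N19010 = N13081 := ded_43_1 (flp_h L111417) L111408 L161463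
theorem L161469 : sm gf N19010 = N13278 := ded_47_1 (flp_h L113086) (flp_f L111415) L161463
theorem L161472 : sm gd N13081 = N19011 := rfl
theorem L161475 : sm gf N19011 = N13082 := ded_35_2 (flp_d L111424) (flp_f L111421) L161472
theorem L161478 : sm gh N19011 = N13087 := ded_38_2 (flp_d L111465) (flp_h L77108) (flp_d L77079) L111417 L161472
theorem L161488 : sm gc N13082 = N19013 := rfl
theorem L161493 : sm gh N19013 = N13089 := ded_32_2 (flp_c L111481) (flp_h L111430) L161488
theorem L161496 : sm ge N13082 = N19014 := rfl
theorem L161499 : sm gg N19014 = N13085 := ded_41_2 (flp_e L111449) (flp_g L111427) L161496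
theorem L161502 : sm gh N19014 = N13090 := ded_43_2 (flp_e L111488) (flp_h L111430) L161496
theorem L161514 : sm gb N13084 = N19016 := rfl
theorem L161517 : sm gj N19016 = N13165 := ded_24_2 (flp_b L112106) (flp_j L111444) L161514
theorem L161519 : sm gh N19016 = N13092 := ded_25_2 (flp_b L111504) (flp_h L111446) L161514
theorem L161522 : sm ge N13084 = N19017 := rfl
theorem L161524 : sm gc N19017 = N13085 := ded_28_1 (flp_e L111449) L111442 L161522
theorem L161526 : sm gj N19017 = N13166 := ded_42_2 (flp_e L112113) (flp_j L111444) L161522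
theorem L161537 : sm gf N13085 = N19019 := rfl
theorem L161544 : sm gh N19019 = N13095 := ded_47_2 (flp_f L111526) (flp_h L111454) L161537
theorem L161546 : sm gi N13085 = N19020 := rfl
theorem L161563 : sm gc N13087 = N19022 := rfl
theorem L161565 : sm gf N19022 = N13089 := ded_29_2 (flp_c L111481) (flp_f L111468) L161563
theorem L161570 : sm ge N13087 = N19023 := rfl
theorem L161591 : sm ge N13089 = N19026 := rfl
theorem L161593 : sm gc N19026 = N13090 := ded_28_1 (flp_e L111488) L111481 L161591
theorem L161595 : sm gg N19026 = N13093 := ded_41_2 (flp_e L111511) (flp_g L111483) L161591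
theorem L161599 : sm gi N13089 = N19027 := rfl
theorem L161608 : sm gf N13090 = N19028 := rfl
theorem L161611 : sm gd N19028 = N13098 := ded_35_1 (flp_f L111548) (flp_d L111494) L161608
theorem L161614 : sm gi N13090 = N19029 := rfl
theorem L161631 : sm ga N13092 = N19031 := rfl
theorem L161636 : sm gj N19031 = N13171 := ded_16_2 (flp_a L112148) (flp_j L111508) L161631
theorem L161638 : sm ge N13092 = N19032 := rfl
theorem L161646 : sm gi N13092 = N19033 := rfl
theorem L161653 : sm gj N19033 = N13173 := ded_53_1 (flp_i L112161) (flp_j L111508) L161646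
theorem L161655 : sm gf N13093 = N19034 := rfl
theorem L161662 : sm gi N13093 = N19035 := rfl
theorem L161669 : sm gj N19035 = N13175 := ded_53_1 (flp_i L112174) (flp_j L111515) L161662
theorem L161677 : sm gg N13095 = N19037 := rfl
theorem L161682 : sm gi N13095 = N19038 := rfl
theorem L161687 : sm gf N19038 = N13096 := ded_48_1 (flp_i L111533) L111526 L161682
theorem L161689 : sm gj N19038 = N13178 := ded_53_1 (flp_i L112193) (flp_j L111531) L161682
theorem L161691 : sm gh N13096 = N19039 := rfl
theorem L161698 : sm gg N13098 = N19040 := rfl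
theorem L161703 : sm gh N19040 = N13308 := ded_50_2 (flp_g L113329) (flp_h L111553) L161698
theorem L161705 : sm gf N19040 = N13101 := ded_45_1 (flp_g L111576) (flp_f L77173) (flp_g L77158) L111548 L161698
theorem L161736 : sm gi N13101 = N19044 := rfl
theorem L161756 : sm gd N13103 = N19046 := rfl
theorem L161759 : sm gj N19046 = N13183 := ded_37_2 (flp_d L112234) (flp_j L111600) L161756
theorem L161761 : sm gi N19046 = N13314 := ded_39_2 (flp_d L113379) (flp_i L111602) L161756
theorem L161773 : sm gh N13105 = N19048 := rfl
theorem L161780 : sm gi N19048 = N13316 := ded_54_2 (flp_h L113395) (flp_i L78452) (flp_h L77206) L111613 L161773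
theorem L161782 : sm gd N13106 = N19049 := rfl
theorem L161787 : sm gj N19049 = N13186 := ded_37_2 (flp_d L112259) (flp_j L111626) L161782
theorem L161789 : sm gi N19049 = N13317 := ded_39_2 (flp_d L113402) (flp_i L111628) L161782
theorem L161800 : sm gb N13108 = N19051 := rfl
theorem L161802 : sm gf N19051 = N13111 := ded_22_2 (flp_b L111662) (flp_f L111641) L161800
theorem L161806 : sm gc N19051 = N13117 := ded_19_2 (flp_b L111714) (flp_c L77286) (flp_b L77230) L111639 L161800
theorem L161808 : sm ge N13108 = N19052 := rfl
theorem L161831 : sm gh N13110 = N19055 := rfl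
theorem L161840 : sm ga N13111 = N19056 := rfl
theorem L161845 : sm gg N19056 = N13114 := ded_15_2 (flp_a L111689) (flp_g L111665) L161840
theorem L161868 : sm gi N13114 = N19059 := rfl
theorem L161893 : sm ga N13117 = N19062 := rfl
theorem L161896 : sm gf N19062 = N13122 := ded_14_2 (flp_a L111750) (flp_f L111717) L161893
theorem L161900 : sm ge N13117 = N19063 := rfl
theorem L161921 : sm gi N13118 = N19066 := rfl
theorem L161923 : sm gc N19066 = N13120 := ded_33_1 (flp_i L111736) (flp_c L111723) L161921
theorem L161925 : sm ge N19066 = N13119 := ded_44_1 (flp_i L111728) L111721 L161921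
theorem L161929 : sm gh N13119 = N19067 := rfl
theorem L161944 : sm gi N13122 = N19069 := rfl
theorem L161946 : sm ga N19069 = N13123 := ded_18_1 (flp_i L111758) L111750 L161944
theorem L161953 : sm gh N13123 = N19070 := rfl
theorem L161958 : sm gg N19070 = N13126 := ded_50_1 (flp_h L111784) (flp_g L111764) L161953
theorem L161978 : sm gd N13126 = N19073 := rfl
theorem L161982 : sm gj N19073 = N13192 := ded_37_2 (flp_d L112303) (flp_j L111789) L161978
theorem L162015 : sm ge N13129 = N19078 := rfl
theorem L162021 : sm gh N19078 = N13132 := ded_43_2 (flp_e L111829) (flp_h L111814) L162015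
theorem L162023 : sm gd N19078 = N13346 := ded_34_1 (flp_e L113661) (flp_d L78666) (flp_e L77367) L111808 L162015
theorem L162038 : sm ge N13131 = N19081 := rfl
theorem L162041 : sm gc N19081 = N13132 := ded_28_1 (flp_e L111829) L111825 L162038
theorem L162044 : sm gi N13131 = N19082 := rfl
theorem L162057 : sm gi N13132 = N19084 := rfl
theorem L162079 : sm gf N13134 = N19087 := rfl
theorem L162085 : sm gh N19087 = N13355 := ded_47_2 (flp_f L113731) (flp_h L111852) L162079
theorem L162089 : sm gi N13134 = N19088 := rfl
theorem L162119 : sm gi N13136 = N19091 := rfl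
theorem L162126 : sm gf N19091 = N13137 := ded_48_1 (flp_i L111872) L111863 L162119
theorem L162128 : sm gh N13137 = N19092 := rfl
theorem L162138 : sm gf N13139 = N19093 := rfl
theorem L162144 : sm gh N13139 = N19094 := rfl
theorem L162160 : sm gg N13140 = N19096 := rfl
theorem L162166 : sm gh N19096 = N13364 := ded_50_2 (flp_g L113807) (flp_h L111903) L162160
theorem L162170 : sm gi N13140 = N19097 := rfl
theorem L162208 : sm gi N13143 = N19101 := rfl
theorem L162213 : sm gf N19101 = N13202 := ded_48_1 (flp_i L112386) (flp_f L111932) L162208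
theorem L162226 : sm gd N13145 = N19103 := rfl
theorem L162236 : sm gb N13146 = N19104 := rfl
theorem L162240 : sm gh N19104 = N13149 := ded_25_2 (flp_b L111976) (flp_h L111957) L162236
theorem L162259 : sm gf N13147 = N19107 := rfl
theorem L162265 : sm gh N19107 = N13152 := ded_47_2 (flp_f L111998) (flp_h L111965) L162259
theorem L162267 : sm gi N13147 = N19108 := rfl
theorem L162269 : sm ga N19108 = N13169 := ded_18_1 (flp_i L112133) (flp_a L111962) L162267
theorem L162276 : sm gh N13148 = N19109 := rfl
theorem L162282 : sm gi N19109 = N13154 := ded_54_2 (flp_h L112013) (flp_i L77486) (flp_h L77461) L111969 L162276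
theorem L162291 : sm ge N13149 = N19111 := rfl
theorem L162293 : sm gb N19111 = N13150 := ded_21_1 (flp_e L111981) L111976 L162291
theorem L162297 : sm gi N13149 = N19112 := rfl
theorem L162299 : sm gb N19112 = N13151 := ded_26_1 (flp_i L111989) L111976 L162297
theorem L162304 : sm gf N13150 = N19113 := rfl
theorem L162321 : sm gh N13151 = N19115 := rfl
theorem L162335 : sm gi N13152 = N19117 := rfl
theorem L162343 : sm gh N13153 = N19118 := rfl
theorem L162350 : sm gj N13155 = N19119 := rfl
theorem L162358 : sm gh N19119 = N13387 := ded_52_2 (flp_j L113995) (flp_h L112026) L162350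
theorem L162381 : sm gd N13157 = N19122 := rfl
theorem L162417 : sm gc N13161 = N19126 := rfl
theorem L162424 : sm gi N19126 = N13394 := ded_33_2 (flp_c L114054) (flp_i L112081) L162417
theorem L162435 : sm gh N13163 = N19128 := rfl
theorem L162456 : sm ge N13165 = N19131 := rfl
theorem L162462 : sm gh N19131 = N13172 := ded_43_2 (flp_e L112154) (flp_h L112110) L162456
theorem L162464 : sm gi N13165 = N19132 := rfl
theorem L162471 : sm gd N13166 = N19133 := rfl
theorem L162484 : sm gi N13166 = N19135 := rfl
theorem L162498 : sm gg N13168 = N19137 := rfl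
theorem L162503 : sm gh N19137 = N13177 := ded_50_2 (flp_g L112187) (flp_h L112131) L162498
theorem L162513 : sm gh N13169 = N19139 := rfl
theorem L162521 : sm ge N13171 = N19140 := rfl
theorem L162528 : sm gi N13171 = N19141 := rfl
theorem L162536 : sm gf N13172 = N19142 := rfl
theorem L162551 : sm gh N13173 = N19144 := rfl
theorem L162570 : sm gh N13175 = N19147 := rfl
theorem L162583 : sm gj N13177 = N19149 := rfl
theorem L162589 : sm gi N13177 = N19150 := rfl
theorem L162597 : sm gh N13178 = N19151 := rfl
theorem L162618 : sm gh N13181 = N19154 := rfl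
theorem L162625 : sm gg N19154 = N13182 := ded_50_1 (flp_h L112224) (flp_g L112222) L162618
theorem L162627 : sm gi N19154 = N13422 := ded_54_2 (flp_h L114268) (flp_i L79073) (flp_h L77632) L112215 L162618
theorem L162629 : sm gd N13182 = N19155 := rfl
theorem L162636 : sm gc N13183 = N19156 := rfl
theorem L162640 : sm gi N19156 = N13424 := ded_33_2 (flp_c L114282) (flp_i L112238) L162636
theorem L162643 : sm gh N13184 = N19157 := rfl
theorem L162651 : sm gi N19157 = N13425 := ded_54_2 (flp_h L114287) (flp_i L79095) (flp_h L77658) L112241 L162643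
theorem L162653 : sm gd N13185 = N19158 := rfl
theorem L162660 : sm gi N19158 = N13426 := ded_39_2 (flp_d L114295) (flp_i L112257) L162653
theorem L162662 : sm gc N13186 = N19159 := rfl
theorem L162666 : sm gi N19159 = N13427 := ded_33_2 (flp_c L114303) (flp_i L112264) L162662
theorem L162669 : sm ge N13186 = N19160 := rfl
theorem L162774 : sm gj N13197 = N19175 := rfl
theorem L162781 : sm gh N19175 = N13443 := ded_52_2 (flp_j L114424) (flp_h L112345) L162774
theorem L162820 : sm gi N13201 = N19180 := rfl
theorem L162827 : sm gj N19180 = N13202 := ded_53_1 (flp_i L112386) L112377 L162820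
theorem L162829 : sm gh N13202 = N19181 := rfl
theorem L162839 : sm gd N13203 = N19182 := rfl
theorem L162847 : sm gi N19182 = N13450 := ded_39_2 (flp_d L114481) (flp_i L112403) L162839
theorem L162856 : sm gh N13205 = N19184 := rfl
theorem L162863 : sm gj N19184 = N13206 := ded_52_1 (flp_h L112423) (flp_j L112421) L162856
theorem L162959 : sm gh N13214 = N19196 := rfl
theorem L162965 : sm gg N19196 = N13215 := ded_50_1 (flp_h L112501) L112492 L162959
theorem L162968 : sm gd N13215 = N19197 := rfl
theorem L162973 : sm gj N19197 = N13343 := ded_37_2 (flp_d L113638) (flp_j L112508) L162968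
theorem L162995 : sm gh N13216 = N19200 := rfl
theorem L162998 : sm gb N19200 = N13242 := ded_25_1 (flp_h L112752) (flp_b L112513) L162995
theorem L163004 : sm gd N13217 = N19201 := rfl
theorem L163009 : sm gg N19201 = N13218 := ded_36_2 (flp_d L112528) (flp_g L112525) L163004
theorem L163012 : sm gh N19201 = N13221 := ded_38_2 (flp_d L112558) (flp_h L77891) (flp_d L77869) L112520 L163004
theorem L163023 : sm gc N13218 = N19203 := rfl
theorem L163027 : sm gj N19203 = N13345 := ded_31_2 (flp_c L113654) (flp_j L112534) L163023
theorem L163029 : sm gh N19203 = N13223 := ded_32_2 (flp_c L112578) (flp_h L112536) L163023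
theorem L163031 : sm ge N13218 = N19204 := rfl
theorem L163036 : sm gj N19204 = N13346 := ded_42_2 (flp_e L113661) (flp_j L112534) L163031
theorem L163038 : sm gh N19204 = N13224 := ded_43_2 (flp_e L112585) (flp_h L112536) L163031
theorem L163050 : sm gd N13220 = N19206 := rfl
theorem L163055 : sm gf N19206 = N13221 := ded_35_2 (flp_d L112558) (flp_f L112554) L163050
theorem L163071 : sm gc N13221 = N19208 := rfl
theorem L163088 : sm gi N13221 = N19210 := rfl
theorem L163098 : sm gb N13223 = N19211 := rfl
theorem L163113 : sm gi N13223 = N19213 := rfl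
theorem L163120 : sm gj N19213 = N13350 := ded_53_1 (flp_i L113691) (flp_j L112582) L163113
theorem L163122 : sm gf N13224 = N19214 := rfl
theorem L163129 : sm gj N19214 = N13351 := ded_46_2 (flp_f L113699) (flp_j L112590) L163122
theorem L163132 : sm gi N13224 = N19215 := rfl
theorem L163139 : sm ge N19215 = N13225 := ded_44_1 (flp_i L112594) L112585 L163132
theorem L163152 : sm ge N13226 = N19217 := rfl
theorem L163158 : sm gg N19217 = N13229 := ded_41_2 (flp_e L112632) (flp_g L112608) L163152
theorem L163172 : sm gf N13227 = N19219 := rfl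
theorem L163175 : sm gb N19219 = N13259 := ded_22_1 (flp_f L112907) (flp_b L112616) L163172
theorem L163179 : sm gi N13227 = N19220 := rfl
theorem L163182 : sm gb N19220 = N13260 := ded_26_1 (flp_i L112914) (flp_b L112616) L163179
theorem L163186 : sm gg N19220 = N13232 := ded_51_1 (flp_i L112660) (flp_g L112618) L163179
theorem L163189 : sm gh N13228 = N19221 := rfl
theorem L163199 : sm gd N13229 = N19222 := rfl
theorem L163203 : sm gj N19222 = N13354 := ded_37_2 (flp_d L113725) (flp_j L112638) L163199
theorem L163206 : sm gf N13229 = N19223 := rfl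
theorem L163210 : sm gc N19223 = N13231 := ded_29_1 (flp_f L112651) (flp_c L112636) L163206
theorem L163214 : sm ge N19223 = N13235 := ded_40_1 (flp_f L112688) (flp_e L77969) (flp_f L77945) L112632 L163206
theorem L163216 : sm gi N13229 = N19224 := rfl
theorem L163222 : sm ge N19224 = N13230 := ded_44_1 (flp_i L112640) L112632 L163216
theorem L163236 : sm gg N13231 = N19226 := rfl
theorem L163241 : sm ge N19226 = N13238 := ded_41_1 (flp_g L112716) (flp_e L112658) L163236
theorem L163254 : sm gh N13232 = N19228 := rfl
theorem L163263 : sm gf N13234 = N19229 := rfl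
theorem L163268 : sm gd N19229 = N13235 := ded_35_1 (flp_f L112688) L112679 L163263
theorem L163292 : sm gg N13235 = N19232 := rfl
theorem L163299 : sm gi N13235 = N19233 := rfl
theorem L163307 : sm gj N19233 = N13365 := ded_53_1 (flp_i L113815) (flp_j L112694) L163299
theorem L163338 : sm gi N13238 = N19237 := rfl
theorem L163345 : sm gg N19237 = N13239 := ded_51_1 (flp_i L112723) L112716 L163338
theorem L163347 : sm gh N13239 = N19238 := rfl
theorem L163354 : sm gj N19238 = N13370 := ded_52_1 (flp_h L113859) (flp_j L112731) L163347
theorem L163366 : sm gh N13241 = N19240 := rfl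
theorem L163371 : sm ge N19240 = N13242 := ded_43_1 (flp_h L112752) L112743 L163366
theorem L163375 : sm gd N13242 = N19241 := rfl
theorem L163377 : sm ga N19241 = N13279 := ded_12_1 (flp_d L113094) (flp_a L112754) L163375
theorem L163383 : sm gh N19241 = N13248 := ded_38_2 (flp_d L112806) (flp_h L78052) (flp_d L78021) L112752 L163375
theorem L163385 : sm gi N13242 = N19242 := rfl
theorem L163390 : sm gf N19242 = N13244 := ded_48_1 (flp_i L112770) (flp_f L112757) L163385
theorem L163395 : sm gc N13243 = N19243 := rfl
theorem L163399 : sm gg N19243 = N13245 := ded_30_2 (flp_c L112779) (flp_g L112765) L163395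
theorem L163402 : sm gh N19243 = N13250 := ded_32_2 (flp_c L112826) (flp_h L112768) L163395
theorem L163405 : sm ge N13243 = N19244 := rfl
theorem L163412 : sm gh N19244 = N13251 := ded_43_2 (flp_e L112835) (flp_h L112768) L163405
theorem L163423 : sm gb N13245 = N19246 := rfl
theorem L163427 : sm gj N19246 = N13372 := ded_24_2 (flp_b L113875) (flp_j L112784) L163423
theorem L163429 : sm gh N19246 = N13253 := ded_25_2 (flp_b L112853) (flp_h L112786) L163423
theorem L163431 : sm ge N13245 = N19247 := rfl
theorem L163437 : sm gj N19247 = N13373 := ded_42_2 (flp_e L113882) (flp_j L112784) L163431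
theorem L163451 : sm gf N13246 = N19249 := rfl
theorem L163453 : sm ga N19249 = N13287 := ded_14_1 (flp_f L113161) (flp_a L112791) L163451
theorem L163455 : sm gj N19249 = N13375 := ded_46_2 (flp_f L113900) (flp_j L112793) L163451
theorem L163457 : sm gh N19249 = N13256 := ded_47_2 (flp_f L112880) (flp_h L112795) L163451
theorem L163478 : sm gc N13248 = N19252 := rfl
theorem L163482 : sm gf N19252 = N13250 := ded_29_2 (flp_c L112826) (flp_f L112810) L163478
theorem L163486 : sm gd N19252 = N13269 := ded_27_2 (flp_c L112997) (flp_d L78182) (flp_c L78056) L112806 L163478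
theorem L163505 : sm gb N13250 = N19255 := rfl
theorem L163509 : sm gg N19255 = N13253 := ded_23_2 (flp_b L112853) (flp_g L112830) L163505
theorem L163512 : sm ge N13250 = N19256 := rfl
theorem L163522 : sm gi N13250 = N19257 := rfl
theorem L163530 : sm gg N19257 = N13255 := ded_51_1 (flp_i L112869) (flp_g L112830) L163522
theorem L163540 : sm gi N13251 = N19259 := rfl
theorem L163568 : sm ge N13253 = N19262 := rfl
theorem L163572 : sm gj N19262 = N13379 := ded_42_2 (flp_e L113931) (flp_j L112858) L163568
theorem L163605 : sm gh N13255 = N19266 := rfl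
theorem L163612 : sm gj N19266 = N13383 := ded_52_1 (flp_h L113963) (flp_j L112878) L163605
theorem L163614 : sm gg N13256 = N19267 := rfl
theorem L163621 : sm gi N13256 = N19268 := rfl
theorem L163648 : sm gi N13259 = N19271 := rfl
theorem L163657 : sm gh N13260 = N19272 := rfl
theorem L163664 : sm gg N19272 = N13264 := ded_50_1 (flp_h L112952) (flp_g L112921) L163657
theorem L163667 : sm gj N13262 = N19273 := rfl
theorem L163672 : sm ge N19273 = N13265 := ded_42_1 (flp_j L112961) (flp_e L112939) L163667
theorem L163696 : sm gd N13264 = N19276 := rfl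
theorem L163703 : sm gi N13265 = N19277 := rfl
theorem L163722 : sm gd N13267 = N19279 := rfl
theorem L163726 : sm gf N19279 = N13268 := ded_35_2 (flp_d L112988) (flp_f L112984) L163722
theorem L163731 : sm gc N13268 = N19280 := rfl
theorem L163737 : sm gj N19280 = N13394 := ded_31_2 (flp_c L114054) (flp_j L112993) L163731
theorem L163741 : sm gb N13269 = N19281 := rfl
theorem L163749 : sm ge N13269 = N19282 := rfl
theorem L163751 : sm ga N19282 = N13320 := ded_13_1 (flp_e L113427) (flp_a L112999) L163749
theorem L163759 : sm gi N13269 = N19283 := rfl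
theorem L163765 : sm gf N19283 = N13273 := ded_48_1 (flp_i L113035) (flp_f L113001) L163759
theorem L163810 : sm gh N13273 = N19288 := rfl
theorem L163812 : sm ga N19288 = N13326 := ded_17_1 (flp_h L113482) (flp_a L113037) L163810
theorem L163817 : sm gg N19288 = N13277 := ded_50_1 (flp_h L113075) (flp_g L113042) L163810
theorem L163821 : sm gi N13275 = N19289 := rfl
theorem L163825 : sm gb N19289 = N13327 := ded_26_1 (flp_i L113491) (flp_b L113064) L163821
theorem L163830 : sm gj N19289 = N13395 := ded_53_1 (flp_i L114063) (flp_j L113061) L163821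
theorem L163842 : sm gd N13277 = N19291 := rfl
theorem L163851 : sm gd N13278 = N19292 := rfl
theorem L163875 : sm ge N13279 = N19295 := rfl
theorem L163880 : sm gh N19295 = N13291 := ded_43_2 (flp_e L113193) (flp_h L113101) L163875
theorem L163891 : sm gb N13281 = N19297 := rfl
theorem L163894 : sm gg N19297 = N13284 := ded_23_2 (flp_b L113136) (flp_g L113114) L163891
theorem L163897 : sm gh N19297 = N13293 := ded_25_2 (flp_b L113208) (flp_h L113117) L163891
theorem L163900 : sm ge N13281 = N19298 := rfl
theorem L163907 : sm gh N19298 = N13294 := ded_43_2 (flp_e L113216) (flp_h L113117) L163900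
theorem L163909 : sm gi N13281 = N19299 := rfl
theorem L163911 : sm gc N19299 = N13283 := ded_33_1 (flp_i L113128) L113112 L163909
theorem L163931 : sm gh N13283 = N19302 := rfl
theorem L163938 : sm gi N19302 = N13298 := ded_54_2 (flp_h L113249) (flp_i L78340) (flp_h L78274) L113128 L163931
theorem L163940 : sm ga N13284 = N19303 := rfl
theorem L163945 : sm gj N19303 = N13398 := ded_16_2 (flp_a L114090) (flp_j L113140) L163940
theorem L163949 : sm ge N13284 = N19304 := rfl
theorem L163954 : sm gj N19304 = N13399 := ded_42_2 (flp_e L114098) (flp_j L113140) L163949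
theorem L163958 : sm gi N13284 = N19305 := rfl
theorem L163960 : sm gb N19305 = N13286 := ded_26_1 (flp_i L113153) L113136 L163958
theorem L163967 : sm gd N13285 = N19306 := rfl
theorem L163969 : sm gj N19306 = N13401 := ded_37_2 (flp_d L114114) (flp_j L113149) L163967
theorem L163973 : sm gf N13285 = N19307 := rfl
theorem L163979 : sm gh N19307 = N13302 := ded_47_2 (flp_f L113282) (flp_h L113151) L163973
theorem L163982 : sm gi N13285 = N19308 := rfl
theorem L163988 : sm gj N19308 = N13403 := ded_53_1 (flp_i L114126) (flp_j L113149) L163982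
theorem L163990 : sm gh N13286 = N19309 := rfl
theorem L163995 : sm gj N19309 = N13404 := ded_52_1 (flp_h L114133) (flp_j L113159) L163990
theorem L163997 : sm gi N19309 = N13304 := ded_54_2 (flp_h L113299) (flp_i L78363) (flp_h L78289) L113153 L163990
theorem L163999 : sm gg N13287 = N19310 := rfl
theorem L164003 : sm gh N19310 = N13305 := ded_50_2 (flp_g L113306) (flp_h L113166) L163999
theorem L164022 : sm gb N13290 = N19313 := rfl
theorem L164026 : sm gf N19313 = N13293 := ded_22_2 (flp_b L113208) (flp_f L113187) L164022
theorem L164031 : sm ge N13290 = N19314 := rfl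
theorem L164033 : sm gc N19314 = N13291 := ded_28_1 (flp_e L113193) L113185 L164031
theorem L164047 : sm gf N13291 = N19316 := rfl
theorem L164054 : sm gi N13291 = N19317 := rfl
theorem L164070 : sm ga N13293 = N19319 := rfl
theorem L164075 : sm gg N19319 = N13299 := ded_15_2 (flp_a L113256) (flp_g L113212) L164070
theorem L164078 : sm ge N13293 = N19320 := rfl
theorem L164080 : sm gb N19320 = N13294 := ded_21_1 (flp_e L113216) L113208 L164078
theorem L164087 : sm gi N13293 = N19321 := rfl
theorem L164094 : sm gg N19321 = N13301 := ded_51_1 (flp_i L113272) (flp_g L113212) L164087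
theorem L164097 : sm gf N13294 = N19322 := rfl
theorem L164103 : sm gi N13294 = N19323 := rfl
theorem L164143 : sm ge N13299 = N19328 := rfl
theorem L164145 : sm ga N19328 = N13300 := ded_13_1 (flp_e L113264) L113256 L164143
theorem L164161 : sm gf N13300 = N19330 := rfl
theorem L164167 : sm gj N19330 = N13410 := ded_46_2 (flp_f L114178) (flp_j L113269) L164161
theorem L164180 : sm gh N13301 = N19332 := rfl
theorem L164188 : sm gg N13302 = N19333 := rfl
theorem L164194 : sm gi N13302 = N19334 := rfl
theorem L164204 : sm gh N13303 = N19335 := rfl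
theorem L164210 : sm gj N19335 = N13415 := ded_52_1 (flp_h L114216) (flp_j L113297) L164204
theorem L164212 : sm gd N13304 = N19336 := rfl
theorem L164218 : sm gh N19336 = N13329 := ded_38_2 (flp_d L113512) (flp_h L78548) (flp_d L78367) L113299 L164212
theorem L164220 : sm gj N13305 = N19337 := rfl
theorem L164228 : sm gi N13305 = N19338 := rfl
theorem L164236 : sm gh N13306 = N19339 := rfl
theorem L164242 : sm gj N19339 = N13419 := ded_52_1 (flp_h L114246) (flp_j L113320) L164236
theorem L164244 : sm gd N13307 = N19340 := rfl
theorem L164247 : sm gj N19340 = N13420 := ded_37_2 (flp_d L114252) (flp_j L113327) L164244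
theorem L164250 : sm gh N19340 = N13314 := ded_38_2 (flp_d L113379) (flp_h L78436) (flp_d L78383) L113322 L164244
theorem L164260 : sm gi N13308 = N19342 := rfl
theorem L164284 : sm gi N13311 = N19345 := rfl
theorem L164290 : sm gg N19345 = N13421 := ded_51_1 (flp_i L114259) (flp_g L113359) L164284
theorem L164292 : sm gj N19345 = N13312 := ded_53_1 (flp_i L113361) L113353 L164284
theorem L164294 : sm gh N13312 = N19346 := rfl
theorem L164302 : sm gd N13313 = N19347 := rfl
theorem L164305 : sm gf N19347 = N13314 := ded_35_2 (flp_d L113379) (flp_f L113375) L164302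
theorem L164307 : sm gj N19347 = N13423 := ded_37_2 (flp_d L114277) (flp_j L113377) L164302
theorem L164309 : sm gc N13314 = N19348 := rfl
theorem L164315 : sm gh N13315 = N19349 := rfl
theorem L164320 : sm gg N19349 = N13425 := ded_50_1 (flp_h L114287) (flp_g L113391) L164315
theorem L164322 : sm gj N19349 = N13316 := ded_52_1 (flp_h L113395) (flp_j L113393) L164315
theorem L164324 : sm gd N13316 = N19350 := rfl
theorem L164339 : sm ge N13317 = N19352 := rfl
theorem L164355 : sm ga N13319 = N19354 := rfl
theorem L164364 : sm ge N13319 = N19355 := rfl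
theorem L164366 : sm gb N19355 = N13320 := ded_21_1 (flp_e L113427) L113418 L164364
theorem L164368 : sm gc N19355 = N13331 := ded_28_1 (flp_e L113528) (flp_c L113425) L164364
theorem L164374 : sm gi N13319 = N19356 := rfl
theorem L164380 : sm gf N19356 = N13325 := ded_48_1 (flp_i L113472) (flp_f L113420) L164374
theorem L164384 : sm gd N13320 = N19357 := rfl
theorem L164390 : sm gi N13320 = N19358 := rfl
theorem L164392 : sm gc N19358 = N13322 := ded_33_1 (flp_i L113443) (flp_c L113429) L164390
theorem L164408 : sm gh N13322 = N19360 := rfl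
theorem L164410 : sm gb N19360 = N13336 := ded_25_1 (flp_h L113573) (flp_b L113445) L164408
theorem L164428 : sm gh N13325 = N19362 := rfl
theorem L164430 : sm gb N19362 = N13326 := ded_25_1 (flp_h L113482) (flp_b L113474) L164428
theorem L164439 : sm gd N13326 = N19363 := rfl
theorem L164472 : sm ge N13330 = N19367 := rfl
theorem L164474 : sm ga N19367 = N13331 := ded_13_1 (flp_e L113528) L113519 L164472
theorem L164491 : sm gd N13331 = N19369 := rfl
theorem L164493 : sm gb N19369 = N13333 := ded_20_1 (flp_d L113545) (flp_b L113530) L164491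
theorem L164517 : sm gh N13333 = N19372 := rfl
theorem L164519 : sm ga N19372 = N19372 := ded_17_1 (flp_h L164517) L113547 L164517
theorem L164520 : sm gc N19372 = N19372 := ded_32_1 (flp_h L164517) L113551 L164517
theorem L164521 : sm ge N19372 = N19372 := ded_43_1 (flp_h L164517) L113552 L164517
theorem L164522 : sm gf N19372 = N19372 := ded_47_1 (flp_h L164517) L113548 L164517
theorem L164523 : sm gg N19372 = N19372 := ded_50_1 (flp_h L164517) L113549 L164517
theorem L164524 : sm gj N19372 = N19372 := ded_52_1 (flp_h L164517) L113550 L164517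
theorem L164525 : sm gd N19372 = N19372 := ded_38_1 (flp_h L164517) (flp_d L113545) L78572 L113545 L164517
theorem L164526 : sm gi N13333 = N19373 := rfl
theorem L164530 : sm gd N19373 = N13334 := ded_39_1 (flp_i L113553) L113545 L164526
theorem L164536 : sm gh N13334 = N19374 := rfl
theorem L164539 : sm gc N19374 = N13336 := ded_32_1 (flp_h L113573) (flp_c L113556) L164536
theorem L164557 : sm gd N13336 = N19376 := rfl
theorem L164566 : sm gh N13337 = N19377 := rfl
theorem L164572 : sm gg N19377 = N13340 := ded_50_1 (flp_h L113610) (flp_g L113589) L164566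
theorem L164632 : sm gc N13343 = N19384 := rfl
theorem L164638 : sm gd N19384 = N13345 := ded_27_2 (flp_c L113654) (flp_d L78666) (flp_c L78662) L113638 L164632
theorem L164640 : sm ge N13343 = N19385 := rfl
theorem L164646 : sm gi N13343 = N19386 := rfl
theorem L164662 : sm ge N13345 = N19388 := rfl
theorem L164668 : sm gh N19388 = N13349 := ded_43_2 (flp_e L113685) (flp_h L113659) L164662
theorem L164670 : sm gi N13345 = N19389 := rfl
theorem L164685 : sm gi N13346 = N19391 := rfl
theorem L164727 : sm gd N13349 = N19396 := rfl
theorem L164731 : sm gc N19396 = N13354 := ded_27_1 (flp_d L113725) L78710 (flp_d L78695) (flp_c L113688) L164727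
theorem L164734 : sm gf N13349 = N19397 := rfl
theorem L164748 : sm gh N13350 = N19399 := rfl
theorem L164764 : sm gi N13351 = N19401 := rfl
theorem L164769 : sm gd N19401 = N13359 := ded_39_1 (flp_i L113765) (flp_d L113704) L164764
theorem L164782 : sm gf N13354 = N19403 := rfl
theorem L164786 : sm gd N19403 = N13355 := ded_35_1 (flp_f L113731) L113725 L164782
theorem L164788 : sm gh N13354 = N19404 := rfl
theorem L164794 : sm gi N13354 = N19405 := rfl
theorem L164811 : sm gi N13355 = N19407 := rfl
theorem L164857 : sm gh N13359 = N19412 := rfl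
theorem L164879 : sm gg N13361 = N19415 := rfl
theorem L164886 : sm gf N19415 = N13438 := ded_45_1 (flp_g L114385) (flp_f L79175) (flp_g L78751) L113782 L164879
theorem L164888 : sm gh N13361 = N19416 := rfl
theorem L164895 : sm gi N13361 = N19417 := rfl
theorem L164902 : sm gf N19417 = N13363 := ded_48_1 (flp_i L113797) L113782 L164895
theorem L164920 : sm gj N13364 = N19420 := rfl
theorem L164926 : sm gf N19420 = N13443 := ded_46_1 (flp_j L114424) (flp_f L113813) L164920
theorem L164928 : sm gi N13364 = N19421 := rfl
theorem L164938 : sm gh N13365 = N19422 := rfl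
theorem L164970 : sm gh N13369 = N19426 := rfl
theorem L164977 : sm gg N19426 = N13370 := ded_50_1 (flp_h L113859) (flp_g L113857) L164970
theorem L164979 : sm gd N13370 = N19427 := rfl
theorem L165010 : sm gi N13372 = N19431 := rfl
theorem L165024 : sm gf N13373 = N19433 := rfl
theorem L165030 : sm gh N19433 = N13381 := ded_47_2 (flp_f L113945) (flp_h L113889) L165024
theorem L165033 : sm gi N13373 = N19434 := rfl
theorem L165060 : sm gi N13375 = N19437 := rfl
theorem L165065 : sm gf N19437 = N13376 := ded_48_1 (flp_i L113907) L113900 L165060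
theorem L165067 : sm gh N13376 = N19438 := rfl
theorem L165074 : sm gi N19438 = N13386 := ded_54_2 (flp_h L113988) (flp_i L78859) (flp_h L78818) L113907 L165067
theorem L165100 : sm gi N13379 = N19442 := rfl
theorem L165105 : sm ge N19442 = N13380 := ded_44_1 (flp_i L113937) L113931 L165100
theorem L165108 : sm gh N13380 = N19443 := rfl
theorem L165110 : sm gb N19443 = N13383 := ded_25_1 (flp_h L113963) (flp_b L113939) L165108
theorem L165114 : sm gg N13381 = N19444 := rfl
theorem L165118 : sm gc N19444 = N13384 := ded_30_1 (flp_g L113971) (flp_c L113949) L165114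
theorem L165142 : sm gd N13383 = N19447 := rfl
theorem L165151 : sm gj N13384 = N19448 := rfl
theorem L165155 : sm gd N19448 = N13387 := ded_37_1 (flp_j L113995) (flp_d L113975) L165151
theorem L165184 : sm gi N13387 = N19452 := rfl
theorem L165256 : sm gh N13395 = N19461 := rfl
theorem L165258 : sm ga N19461 = N13396 := ded_17_1 (flp_h L114073) (flp_a L114065) L165256
theorem L165267 : sm gd N13396 = N19462 := rfl
theorem L165290 : sm gi N13398 = N19465 := rfl
theorem L165292 : sm ga N19465 = N13400 := ded_18_1 (flp_i L114106) L114090 L165290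
theorem L165305 : sm gf N13399 = N19467 := rfl
theorem L165307 : sm gb N19467 = N13402 := ded_22_1 (flp_f L114119) (flp_b L114100) L165305
theorem L165310 : sm gh N19467 = N13410 := ded_47_2 (flp_f L114178) (flp_h L114104) L165305
theorem L165321 : sm gh N13400 = N19469 := rfl
theorem L165328 : sm gi N19469 = N13412 := ded_54_2 (flp_h L114194) (flp_i L79016) (flp_h L78965) L114106 L165321
theorem L165330 : sm gf N13401 = N19470 := rfl
theorem L165335 : sm gi N13401 = N19471 := rfl
theorem L165341 : sm gg N13402 = N19472 := rfl
theorem L165343 : sm gc N19472 = N13405 := ded_30_1 (flp_g L114141) (flp_c L114121) L165341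
theorem L165356 : sm gh N13403 = N19474 := rfl
theorem L165363 : sm gi N19474 = N13415 := ded_54_2 (flp_h L114216) (flp_i L79031) (flp_h L78973) L114126 L165356
theorem L165365 : sm gd N13404 = N19475 := rfl
theorem L165369 : sm gi N19475 = N13416 := ded_39_2 (flp_d L114223) (flp_i L114139) L165365
theorem L165373 : sm gj N13405 = N19476 := rfl
theorem L165380 : sm gi N13405 = N19477 := rfl
theorem L165395 : sm gd N13407 = N19479 := rfl
theorem L165399 : sm gi N19479 = N13420 := ded_39_2 (flp_d L114252) (flp_i L114160) L165395
theorem L165418 : sm gh N13409 = N19482 := rfl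
theorem L165425 : sm gg N13410 = N19483 := rfl
theorem L165433 : sm gi N13410 = N19484 := rfl
theorem L165450 : sm gd N13412 = N19486 := rfl
theorem L165456 : sm gh N19486 = N13431 := ded_38_2 (flp_d L114332) (flp_h L79134) (flp_d L79021) L114194 L165450
theorem L165481 : sm gd N13415 = N19490 := rfl
theorem L165485 : sm ge N13416 = N19491 := rfl
theorem L165500 : sm gh N13418 = N19493 := rfl
theorem L165507 : sm gd N13419 = N19494 := rfl
theorem L165512 : sm gh N19494 = N13423 := ded_38_2 (flp_d L114277) (flp_h L79082) (flp_d L79055) L114246 L165507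
theorem L165514 : sm gc N13420 = N19495 := rfl
theorem L165518 : sm gh N19495 = N13424 := ded_32_2 (flp_c L114282) (flp_h L114257) L165514
theorem L165520 : sm gh N13421 = N19496 := rfl
theorem L165527 : sm gj N19496 = N13422 := ded_52_1 (flp_h L114268) (flp_j L114266) L165520
theorem L165529 : sm gd N13422 = N19497 := rfl
theorem L165535 : sm gc N13423 = N19498 := rfl
theorem L165546 : sm gb N13424 = N19500 := rfl
theorem L165552 : sm gd N13425 = N19501 := rfl
theorem L165560 : sm gc N13426 = N19502 := rfl
theorem L165564 : sm gg N19502 = N13427 := ded_30_2 (flp_c L114303) (flp_g L114300) L165560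
theorem L165581 : sm ge N13427 = N19505 := rfl
theorem L165610 : sm ge N13431 = N19509 := rfl
theorem L165612 : sm gb N19509 = N13432 := ded_21_1 (flp_e L114339) (flp_b L114334) L165610
theorem L165692 : sm gj N13438 = N19519 := rfl
theorem L165697 : sm gd N19519 = N13443 := ded_37_1 (flp_j L114424) (flp_d L114390) L165692
theorem L165700 : sm gh N13438 = N19520 := rfl
theorem L165705 : sm gg N19520 = N13439 := ded_50_1 (flp_h L114392) L114385 L165700
theorem L165707 : sm gi N13438 = N19521 := rfl
theorem L165714 : sm gg N19521 = N13440 := ded_51_1 (flp_i L114400) L114385 L165707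
theorem L165748 : sm gi N13443 = N19526 := rfl
theorem L165795 : sm gh N13448 = N19532 := rfl
theorem L165802 : sm gj N19532 = N13449 := ded_52_1 (flp_h L114473) (flp_j L114471) L165795
theorem L165804 : sm gd N13449 = N19533 := rfl
theorem L165809 : sm gg N19533 = N13450 := ded_36_2 (flp_d L114481) (flp_g L114479) L165804
theorem L165819 : sm ge N13450 = N19535 := rfl
theorem L165940 : sm gb N13463 = N19551 := rfl
theorem L165943 : sm gf N19551 = N13465 := ded_22_2 (flp_b L114596) (flp_f L114580) L165940
theorem L165950 : sm ge N13463 = N19552 := rfl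
theorem L165953 : sm gc N19552 = N13464 := ded_28_1 (flp_e L114587) L114577 L165950
theorem L165959 : sm gf N13464 = N19553 := rfl
theorem L165967 : sm ge N19553 = N13467 := ded_40_1 (flp_f L114615) (flp_e L79355) (flp_f L79340) L114587 L165959
theorem L165969 : sm ga N13465 = N19554 := rfl
theorem L165973 : sm gg N19554 = N13468 := ded_15_2 (flp_a L114624) (flp_g L114599) L165969
theorem L165979 : sm ge N13465 = N19555 := rfl
theorem L165981 : sm gb N19555 = N13466 := ded_21_1 (flp_e L114605) L114596 L165979
theorem L165984 : sm gg N19555 = N13469 := ded_41_2 (flp_e L114634) (flp_g L114599) L165979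
theorem L165989 : sm gd N13466 = N19556 := rfl
theorem L165999 : sm gf N13466 = N19557 := rfl
theorem L166002 : sm gc N19557 = N13467 := ded_29_1 (flp_f L114615) (flp_c L114608) L165999
theorem L166007 : sm gg N13467 = N19558 := rfl
theorem L166011 : sm gd N19558 = N13484 := ded_36_1 (flp_g L114771) (flp_d L114619) L166007
theorem L166015 : sm gf N19558 = N13472 := ded_45_1 (flp_g L114662) (flp_f L79384) (flp_g L79359) L114615 L166007
theorem L166017 : sm ge N13468 = N19559 := rfl
theorem L166027 : sm gd N13469 = N19560 := rfl
theorem L166029 : sm gb N19560 = N13470 := ded_20_1 (flp_d L114643) (flp_b L114636) L166027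
theorem L166031 : sm gj N19560 = N13474 := ded_37_2 (flp_d L114680) (flp_j L114639) L166027
theorem L166035 : sm gf N13469 = N19561 := rfl
theorem L166040 : sm gj N19561 = N13475 := ded_46_2 (flp_f L114687) (flp_j L114639) L166035
theorem L166045 : sm gf N13470 = N19562 := rfl
theorem L166048 : sm gc N19562 = N13488 := ded_29_1 (flp_f L114812) (flp_c L114649) L166045
theorem L166052 : sm gj N19562 = N13476 := ded_46_2 (flp_f L114695) (flp_j L114646) L166045
theorem L166055 : sm gh N13470 = N19563 := rfl
theorem L166064 : sm gg N13471 = N19564 := rfl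
theorem L166067 : sm gc N19564 = N13472 := ded_30_1 (flp_g L114662) (flp_c L114655) L166064
theorem L166072 : sm gj N13472 = N19565 := rfl
theorem L166081 : sm gg N19565 = N13479 := ded_49_1 (flp_j L114720) (flp_g L79428) (flp_j L79390) L114662 L166072
theorem L166091 : sm gf N13473 = N19567 := rfl
theorem L166093 : sm ga N19567 = N13475 := ded_14_1 (flp_f L114687) (flp_a L114673) L166091
theorem L166108 : sm gf N13474 = N19569 := rfl
theorem L166110 : sm gb N19569 = N13476 := ded_22_1 (flp_f L114695) (flp_b L114682) L166108
theorem L166112 : sm gd N19569 = N13475 := ded_35_1 (flp_f L114687) L114680 L166108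
theorem L166115 : sm gh N13474 = N19570 := rfl
theorem L166122 : sm gg N13475 = N19571 := rfl
theorem L166131 : sm ge N13476 = N19572 := rfl
theorem L166134 : sm gc N19572 = N13498 := ded_28_1 (flp_e L114900) (flp_c L114698) L166131
theorem L166148 : sm gh N13476 = N19574 := rfl
theorem L166151 : sm gc N19574 = N13500 := ded_32_1 (flp_h L114914) (flp_c L114698) L166148
theorem L166174 : sm ge N13480 = N19577 := rfl
theorem L166180 : sm gg N19577 = N13485 := ded_41_2 (flp_e L114781) (flp_g L114735) L166174
theorem L166183 : sm gh N19577 = N13560 := ded_43_2 (flp_e L115452) (flp_h L114738) L166174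
theorem L166186 : sm gd N13481 = N19578 := rfl
theorem L166190 : sm gg N19578 = N13486 := ded_36_2 (flp_d L114792) (flp_g L114747) L166186
theorem L166195 : sm gf N13481 = N19579 := rfl
theorem L166197 : sm gb N19579 = N13483 := ded_22_1 (flp_f L114761) (flp_b L114744) L166195
theorem L166201 : sm gh N19579 = N13562 := ded_47_2 (flp_f L115470) (flp_h L114750) L166195
theorem L166205 : sm gf N13482 = N19580 := rfl
theorem L166208 : sm gd N19580 = N13483 := ded_35_1 (flp_f L114761) L114753 L166205
theorem L166212 : sm gh N13482 = N19581 := rfl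
theorem L166216 : sm gg N19581 = N13489 := ded_50_1 (flp_h L114820) (flp_g L114756) L166212
theorem L166219 : sm gd N19581 = N13564 := ded_38_1 (flp_h L115484) (flp_d L79932) (flp_h L79457) L114753 L166212
theorem L166221 : sm gg N13483 = N19582 := rfl
theorem L166224 : sm gc N19582 = N13484 := ded_30_1 (flp_g L114771) (flp_c L114764) L166221
theorem L166232 : sm gj N13484 = N19583 := rfl
theorem L166243 : sm gd N13485 = N19584 := rfl
theorem L166245 : sm ga N19584 = N13486 := ded_12_1 (flp_d L114792) (flp_a L114783) L166243
theorem L166248 : sm gj N19584 = N13492 := ded_37_2 (flp_d L114849) (flp_j L114787) L166243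
theorem L166252 : sm gf N13485 = N19585 := rfl
theorem L166254 : sm ga N19585 = N13487 := ded_14_1 (flp_f L114800) (flp_a L114783) L166252
theorem L166258 : sm gj N19585 = N13493 := ded_46_2 (flp_f L114857) (flp_j L114787) L166252
theorem L166260 : sm gh N19585 = N13575 := ded_47_2 (flp_f L115593) (flp_h L114789) L166252
theorem L166265 : sm gc N13486 = N19586 := rfl
theorem L166268 : sm gj N19586 = N13494 := ded_31_2 (flp_c L114868) (flp_j L114796) L166265
theorem L166272 : sm gf N13486 = N19587 := rfl
theorem L166274 : sm gb N19587 = N13488 := ded_22_1 (flp_f L114812) (flp_b L114794) L166272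
theorem L166276 : sm gd N19587 = N13487 := ded_35_1 (flp_f L114800) L114792 L166272
theorem L166278 : sm gj N19587 = N13495 := ded_46_2 (flp_f L114874) (flp_j L114796) L166272
theorem L166281 : sm gh N13486 = N19588 := rfl
theorem L166286 : sm gj N19588 = N13496 := ded_52_1 (flp_h L114881) (flp_j L114796) L166281
theorem L166288 : sm gd N19588 = N13578 := ded_38_1 (flp_h L115619) (flp_d L80019) (flp_h L79488) L114792 L166281
theorem L166290 : sm gg N13487 = N19589 := rfl
theorem L166297 : sm gh N19589 = N13579 := ded_50_2 (flp_g L115627) (flp_h L114807) L166290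
theorem L166300 : sm ge N13488 = N19590 := rfl
theorem L166303 : sm gj N19590 = N13498 := ded_42_2 (flp_e L114900) (flp_j L114817) L166300
theorem L166306 : sm gd N19590 = N13509 := ded_34_1 (flp_e L114998) L79615 (flp_e L79508) (flp_d L114815) L166300
theorem L166309 : sm gg N13488 = N19591 := rfl
theorem L166315 : sm gh N13488 = N19592 := rfl
theorem L166318 : sm gf N19592 = N13489 := ded_47_1 (flp_h L114820) L114812 L166315
theorem L166320 : sm gj N19592 = N13500 := ded_52_1 (flp_h L114914) (flp_j L114817) L166315
theorem L166322 : sm gd N19592 = N13582 := ded_38_1 (flp_h L115650) L80040 (flp_h L79505) (flp_d L114815) L166315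
theorem L166333 : sm gj N13490 = N19594 := rfl
theorem L166336 : sm gc N19594 = N13491 := ded_31_1 (flp_j L114838) (flp_c L114831) L166333
theorem L166338 : sm ge N19594 = N13513 := ded_42_1 (flp_j L115035) (flp_e L114833) L166333
theorem L166340 : sm gh N19594 = N13584 := ded_52_2 (flp_j L115666) (flp_h L114835) L166333
theorem L166343 : sm gg N19594 = N13502 := ded_49_1 (flp_j L114929) (flp_g L79559) (flp_j L79503) L114828 L166333
theorem L166353 : sm gf N13492 = N19596 := rfl
theorem L166355 : sm ga N19596 = N13495 := ded_14_1 (flp_f L114874) (flp_a L114851) L166353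
theorem L166358 : sm gd N19596 = N13493 := ded_35_1 (flp_f L114857) L114849 L166353
theorem L166361 : sm gh N13492 = N19597 := rfl
theorem L166368 : sm gd N19597 = N13598 := ded_38_1 (flp_h L115794) (flp_d L80135) (flp_h L79526) L114849 L166361
theorem L166370 : sm gg N13493 = N19598 := rfl
theorem L166372 : sm ga N19598 = N13497 := ded_15_1 (flp_g L114889) (flp_a L114859) L166370
theorem L166376 : sm ge N19598 = N13517 := ded_41_1 (flp_g L115073) (flp_e L114866) L166370
theorem L166378 : sm gh N19598 = N13599 := ded_50_2 (flp_g L115802) (flp_h L114863) L166370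
theorem L166382 : sm gf N13494 = N19599 := rfl
theorem L166384 : sm gc N19599 = N13495 := ded_29_1 (flp_f L114874) L114868 L166382
theorem L166388 : sm gh N13494 = N19600 := rfl
theorem L166390 : sm gc N19600 = N13496 := ded_32_1 (flp_h L114881) L114868 L166388
theorem L166394 : sm ge N13495 = N19601 := rfl
theorem L166396 : sm gb N19601 = N13498 := ded_21_1 (flp_e L114900) (flp_b L114876) L166394
theorem L166402 : sm gg N13495 = N19602 := rfl
theorem L166406 : sm gd N19602 = N13497 := ded_36_1 (flp_g L114889) (flp_d L114878) L166402
theorem L166410 : sm gh N13495 = N19603 := rfl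
theorem L166412 : sm gb N19603 = N13500 := ded_25_1 (flp_h L114914) (flp_b L114876) L166410
theorem L166416 : sm gd N19603 = N13604 := ded_38_1 (flp_h L115840) L80162 (flp_h L79541) (flp_d L114878) L166410
theorem L166418 : sm gi N13496 = N19604 := rfl
theorem L166427 : sm gj N13497 = N19605 := rfl
theorem L166435 : sm gh N19605 = N13606 := ded_52_2 (flp_j L115853) (flp_h L114896) L166427
theorem L166438 : sm gg N13498 = N19606 := rfl
theorem L166441 : sm gd N19606 = N13525 := ded_36_1 (flp_g L115142) (flp_d L114904) L166438
theorem L166443 : sm ge N19606 = N13499 := ded_41_1 (flp_g L114907) L114900 L166438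
theorem L166446 : sm gh N13498 = N19607 := rfl
theorem L166449 : sm ge N19607 = N13500 := ded_43_1 (flp_h L114914) L114900 L166446
theorem L166452 : sm gj N13499 = N19608 := rfl
theorem L166459 : sm gh N13499 = N19609 := rfl
theorem L166463 : sm gg N19609 = N13500 := ded_50_1 (flp_h L114914) L114907 L166459
theorem L166467 : sm gi N13500 = N19610 := rfl
theorem L166470 : sm gd N19610 = N13611 := ded_39_1 (flp_i L115891) (flp_d L114919) L166467
theorem L166475 : sm gc N13503 = N19611 := rfl
theorem L166477 : sm ga N19611 = N13505 := ded_11_1 (flp_c L114961) (flp_a L114942) L166475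
theorem L166481 : sm gj N19611 = N13514 := ded_31_2 (flp_c L115046) (flp_j L114946) L166475
theorem L166485 : sm gf N13503 = N19612 := rfl
theorem L166487 : sm ga N19612 = N13506 := ded_14_1 (flp_f L114970) (flp_a L114942) L166485
theorem L166490 : sm gd N19612 = N13504 := ded_35_1 (flp_f L114950) L114940 L166485
theorem L166492 : sm gj N19612 = N13515 := ded_46_2 (flp_f L115055) (flp_j L114946) L166485
theorem L166495 : sm gh N13503 = N19613 := rfl
theorem L166497 : sm ga N19613 = N13507 := ded_17_1 (flp_h L114979) (flp_a L114942) L166495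
theorem L166499 : sm gb N19613 = N19613 := ded_25_1 (flp_h L166495) L114944 L166495
theorem L166500 : sm ge N19613 = N19613 := ded_43_1 (flp_h L166495) L114949 L166495
theorem L166501 : sm gg N19613 = N19613 := ded_50_1 (flp_h L166495) L114945 L166495
theorem L166502 : sm gj N19613 = N13516 := ded_52_1 (flp_h L115063) (flp_j L114946) L166495
theorem L166504 : sm gd N19613 = N13625 := ded_38_1 (flp_h L116035) (flp_d L80291) (flp_h L79589) L114940 L166495
theorem L166506 : sm gg N13504 = N19614 := rfl
theorem L166512 : sm gh N19614 = N13626 := ded_50_2 (flp_g L116045) (flp_h L114958) L166506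
theorem L166516 : sm gf N13505 = N19615 := rfl
theorem L166519 : sm gc N19615 = N13506 := ded_29_1 (flp_f L114970) L114961 L166516
theorem L166522 : sm gj N19615 = N13518 := ded_46_2 (flp_f L115084) (flp_j L114965) L166516
theorem L166525 : sm gh N13505 = N19616 := rfl
theorem L166527 : sm gb N19616 = N19616 := ded_25_1 (flp_h L166525) L114968 L166525
theorem L166528 : sm gc N19616 = N13507 := ded_32_1 (flp_h L114979) L114961 L166525
theorem L166530 : sm ge N19616 = N19616 := ded_43_1 (flp_h L166525) L114963 L166525
theorem L166531 : sm gg N19616 = N19616 := ded_50_1 (flp_h L166525) L114964 L166525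
theorem L166532 : sm gj N19616 = N13519 := ded_52_1 (flp_h L115091) (flp_j L114965) L166525
theorem L166534 : sm ge N13506 = N19617 := rfl
theorem L166536 : sm gb N19617 = N13509 := ded_21_1 (flp_e L114998) (flp_b L114972) L166534
theorem L166538 : sm gj N19617 = N13520 := ded_42_2 (flp_e L115099) (flp_j L114976) L166534
theorem L166542 : sm gg N13506 = N19618 := rfl
theorem L166544 : sm gb N19618 = N13510 := ded_23_1 (flp_g L115006) (flp_b L114972) L166542
theorem L166546 : sm gd N19618 = N13508 := ded_36_1 (flp_g L114989) (flp_d L114974) L166542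
theorem L166550 : sm gh N13506 = N19619 := rfl
theorem L166552 : sm gb N19619 = N13511 := ded_25_1 (flp_h L115014) (flp_b L114972) L166550
theorem L166554 : sm gf N19619 = N13507 := ded_47_1 (flp_h L114979) L114970 L166550
theorem L166556 : sm gj N19619 = N13522 := ded_52_1 (flp_h L115114) (flp_j L114976) L166550
theorem L166558 : sm gd N19619 = N13631 := ded_38_1 (flp_h L116087) L80323 (flp_h L79608) (flp_d L114974) L166550
theorem L166560 : sm gi N13507 = N19620 := rfl
theorem L166562 : sm gb N19620 = N13512 := ded_26_1 (flp_i L115024) (flp_b L114981) L166560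
theorem L166564 : sm gd N19620 = N13632 := ded_39_1 (flp_i L116095) (flp_d L114987) L166560
theorem L166566 : sm ge N19620 = N19620 := ded_44_1 (flp_i L166560) L114983 L166560
theorem L166567 : sm gg N19620 = N19620 := ded_51_1 (flp_i L166560) L114984 L166560
theorem L166568 : sm gj N19620 = N13523 := ded_53_1 (flp_i L115122) (flp_j L114985) L166560
theorem L166570 : sm gh N19620 = N19620 := ded_54_1 (flp_i L166560) (flp_h L114979) L79599 L114979 L166560
theorem L166571 : sm gj N13508 = N19621 := rfl
theorem L166573 : sm gb N19621 = N13513 := ded_24_1 (flp_j L115035) (flp_b L114991) L166571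
theorem L166577 : sm gh N19621 = N13633 := ded_52_2 (flp_j L116104) (flp_h L114994) L166571
theorem L166580 : sm gg N19621 = N13524 := ded_49_1 (flp_j L115132) (flp_g L79692) (flp_j L79606) L114989 L166571
theorem L166582 : sm gg N13509 = N19622 := rfl
theorem L166586 : sm ge N19622 = N13510 := ded_41_1 (flp_g L115006) L114998 L166582
theorem L166589 : sm gh N13509 = N19623 := rfl
theorem L166591 : sm ga N19623 = N19623 := ded_17_1 (flp_h L166589) L115000 L166589
theorem L166592 : sm gc N19623 = N19623 := ded_32_1 (flp_h L166589) L115001 L166589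
theorem L166593 : sm ge N19623 = N13511 := ded_43_1 (flp_h L115014) L114998 L166589
theorem L166595 : sm gf N19623 = N19623 := ded_47_1 (flp_h L166589) L115005 L166589
theorem L166596 : sm gj N19623 = N13526 := ded_52_1 (flp_h L115149) (flp_j L115002) L166589
theorem L166598 : sm gj N13510 = N19624 := rfl
theorem L166602 : sm gd N19624 = N13513 := ded_37_1 (flp_j L115035) (flp_d L115010) L166598
theorem L166606 : sm gg N19624 = N13527 := ded_49_1 (flp_j L115156) (flp_g L79708) (flp_j L79617) L115006 L166598
theorem L166608 : sm gh N13510 = N19625 := rfl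
theorem L166610 : sm ga N19625 = N19625 := ded_17_1 (flp_h L166608) L115008 L166608
theorem L166611 : sm gc N19625 = N19625 := ded_32_1 (flp_h L166608) L115009 L166608
theorem L166612 : sm gf N19625 = N19625 := ded_47_1 (flp_h L166608) L115013 L166608
theorem L166613 : sm gg N19625 = N13511 := ded_50_1 (flp_h L115014) L115006 L166608
theorem L166615 : sm gd N19625 = N13637 := ded_38_1 (flp_h L116140) L80356 (flp_h L79635) (flp_d L115010) L166608
theorem L166617 : sm gi N13511 = N19626 := rfl
theorem L166619 : sm ga N19626 = N19626 := ded_18_1 (flp_i L166617) L115016 L166617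
theorem L166620 : sm gc N19626 = N19626 := ded_33_1 (flp_i L166617) L115017 L166617
theorem L166621 : sm gd N19626 = N13638 := ded_39_1 (flp_i L116148) (flp_d L115022) L166617
theorem L166623 : sm gf N19626 = N13512 := ded_48_1 (flp_i L115024) (flp_f L115018) L166617
theorem L166625 : sm gj N19626 = N13529 := ded_53_1 (flp_i L115175) (flp_j L115020) L166617
theorem L166627 : sm gh N19626 = N19626 := ded_54_1 (flp_i L166617) (flp_h L115014) L79619 L115014 L166617
theorem L166628 : sm gb N13514 = N19627 := rfl
theorem L166632 : sm gg N19627 = N13530 := ded_23_2 (flp_b L115184) (flp_g L115051) L166628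
theorem L166637 : sm gf N13514 = N19628 := rfl
theorem L166639 : sm ga N19628 = N13518 := ded_14_1 (flp_f L115084) (flp_a L115048) L166637
theorem L166641 : sm gc N19628 = N13515 := ded_29_1 (flp_f L115055) L115046 L166637
theorem L166645 : sm gh N13514 = N19629 := rfl
theorem L166647 : sm ga N19629 = N13519 := ded_17_1 (flp_h L115091) (flp_a L115048) L166645
theorem L166649 : sm gc N19629 = N13516 := ded_32_1 (flp_h L115063) L115046 L166645
theorem L166651 : sm ge N19629 = N19629 := ded_43_1 (flp_h L166645) L115050 L166645
theorem L166652 : sm gg N19629 = N13532 := ded_50_1 (flp_h L115201) (flp_g L115051) L166645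
theorem L166654 : sm ge N13515 = N19630 := rfl
theorem L166656 : sm ga N19630 = N13520 := ded_13_1 (flp_e L115099) (flp_a L115057) L166654
theorem L166661 : sm gg N13515 = N19631 := rfl
theorem L166663 : sm ga N19631 = N13521 := ded_15_1 (flp_g L115105) (flp_a L115057) L166661
theorem L166666 : sm gd N19631 = N13517 := ded_36_1 (flp_g L115073) (flp_d L115060) L166661
theorem L166669 : sm gf N19631 = N13534 := ded_45_1 (flp_g L115218) (flp_f L79753) (flp_g L79655) L115055 L166661
theorem L166671 : sm gh N13515 = N19632 := rfl
theorem L166673 : sm ga N19632 = N13522 := ded_17_1 (flp_h L115114) (flp_a L115057) L166671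
theorem L166675 : sm gb N19632 = N19632 := ded_25_1 (flp_h L166671) L115059 L166671
theorem L166676 : sm gf N19632 = N13516 := ded_47_1 (flp_h L115063) L115055 L166671
theorem L166678 : sm gd N19632 = N13660 := ded_38_1 (flp_h L116355) L80508 (flp_h L79665) (flp_d L115060) L166671
theorem L166680 : sm gi N13516 = N19633 := rfl
theorem L166682 : sm ga N19633 = N13523 := ded_18_1 (flp_i L115122) (flp_a L115065) L166680
theorem L166684 : sm gb N19633 = N19633 := ded_26_1 (flp_i L166680) L115067 L166680
theorem L166685 : sm gd N19633 = N13661 := ded_39_1 (flp_i L116362) (flp_d L115071) L166680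
theorem L166687 : sm ge N19633 = N19633 := ded_44_1 (flp_i L166680) L115068 L166680
theorem L166688 : sm gg N19633 = N13536 := ded_51_1 (flp_i L115236) (flp_g L115069) L166680
theorem L166690 : sm gh N19633 = N19633 := ded_54_1 (flp_i L166680) (flp_h L115063) L79657 L115063 L166680
theorem L166691 : sm gj N13517 = N19634 := rfl
theorem L166697 : sm gf N19634 = N13537 := ded_46_1 (flp_j L115246) (flp_f L115082) L166691
theorem L166702 : sm ge N13518 = N19635 := rfl
theorem L166705 : sm gc N19635 = N13520 := ded_28_1 (flp_e L115099) (flp_c L115087) L166702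
theorem L166709 : sm gg N13518 = N19636 := rfl
theorem L166712 : sm gc N19636 = N13521 := ded_30_1 (flp_g L115105) (flp_c L115087) L166709
theorem L166716 : sm gf N19636 = N13539 := ded_45_1 (flp_g L115265) (flp_f L79781) (flp_g L79671) L115084 L166709
theorem L166718 : sm gh N13518 = N19637 := rfl
theorem L166720 : sm gb N19637 = N19637 := ded_25_1 (flp_h L166718) L115086 L166718
theorem L166721 : sm gc N19637 = N13522 := ded_32_1 (flp_h L115114) (flp_c L115087) L166718
theorem L166723 : sm gf N19637 = N13519 := ded_47_1 (flp_h L115091) L115084 L166718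
theorem L166725 : sm gd N13519 = N19638 := rfl
theorem L166727 : sm gb N19638 = N19638 := ded_20_1 (flp_d L166725) L115093 L166725
theorem L166728 : sm gg N19638 = N13541 := ded_36_2 (flp_d L115280) (flp_g L115097) L166725
theorem L166730 : sm gc N19638 = N13666 := ded_27_1 (flp_d L116404) L80538 (flp_d L79690) (flp_c L115094) L166725
theorem L166732 : sm gh N19638 = N19638 := ded_38_2 (flp_d L166725) (flp_h L115091) L79675 L115091 L166725
theorem L166733 : sm gi N13519 = N19639 := rfl
theorem L166735 : sm gb N19639 = N19639 := ded_26_1 (flp_i L166733) L115093 L166733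
theorem L166736 : sm gc N19639 = N13523 := ded_33_1 (flp_i L115122) (flp_c L115094) L166733
theorem L166738 : sm ge N19639 = N19639 := ded_44_1 (flp_i L166733) L115096 L166733
theorem L166739 : sm gg N19639 = N13542 := ded_51_1 (flp_i L115287) (flp_g L115097) L166733
theorem L166741 : sm gh N19639 = N19639 := ded_54_1 (flp_i L166733) (flp_h L115091) L79673 L115091 L166733
theorem L166742 : sm gg N13520 = N19640 := rfl
theorem L166744 : sm gb N19640 = N13525 := ded_23_1 (flp_g L115142) (flp_b L115101) L166742
theorem L166746 : sm ge N19640 = N13521 := ded_41_1 (flp_g L115105) L115099 L166742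
theorem L166749 : sm gh N13520 = N19641 := rfl
theorem L166751 : sm gb N19641 = N13526 := ded_25_1 (flp_h L115149) (flp_b L115101) L166749
theorem L166753 : sm ge N19641 = N13522 := ded_43_1 (flp_h L115114) L115099 L166749
theorem L166755 : sm gf N19641 = N19641 := ded_47_1 (flp_h L166749) L115104 L166749
theorem L166756 : sm gj N13521 = N19642 := rfl
theorem L166760 : sm gd N19642 = N13524 := ded_37_1 (flp_j L115132) (flp_d L115109) L166756
theorem L166765 : sm gh N13521 = N19643 := rfl
theorem L166767 : sm gb N19643 = N13528 := ded_25_1 (flp_h L115165) (flp_b L115107) L166765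
theorem L166769 : sm gf N19643 = N13546 := ded_47_1 (flp_h L115319) (flp_f L115112) L166765
theorem L166771 : sm gg N19643 = N13522 := ded_50_1 (flp_h L115114) L115105 L166765
theorem L166773 : sm gd N19643 = N13671 := ded_38_1 (flp_h L116443) L80554 (flp_h L79697) (flp_d L115109) L166765
theorem L166775 : sm gi N13522 = N19644 := rfl
theorem L166777 : sm gb N19644 = N13529 := ded_26_1 (flp_i L115175) (flp_b L115116) L166775
theorem L166779 : sm gd N19644 = N13672 := ded_39_1 (flp_i L116451) (flp_d L115120) L166775
theorem L166781 : sm gf N19644 = N13523 := ded_48_1 (flp_i L115122) (flp_f L115118) L166775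
theorem L166783 : sm gh N19644 = N19644 := ded_54_1 (flp_i L166775) (flp_h L115114) L79682 L115114 L166775
theorem L166784 : sm gf N13525 = N19645 := rfl
theorem L166789 : sm ge N19645 = N13548 := ded_40_1 (flp_f L115337) L79844 (flp_f L79715) (flp_e L115146) L166784
theorem L166792 : sm gj N13525 = N19646 := rfl
theorem L166796 : sm ge N19646 = N13527 := ded_42_1 (flp_j L115156) (flp_e L115146) L166792
theorem L166799 : sm gh N13525 = N19647 := rfl
theorem L166801 : sm ga N19647 = N19647 := ded_17_1 (flp_h L166799) L115144 L166799
theorem L166802 : sm gc N19647 = N19647 := ded_32_1 (flp_h L166799) L115145 L166799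
theorem L166803 : sm ge N19647 = N13528 := ded_43_1 (flp_h L115165) (flp_e L115146) L166799
theorem L166805 : sm gg N19647 = N13526 := ded_50_1 (flp_h L115149) L115142 L166799
theorem L166807 : sm gd N13526 = N19648 := rfl
theorem L166809 : sm ga N19648 = N19648 := ded_12_1 (flp_d L166807) L115151 L166807
theorem L166810 : sm gf N19648 = N19648 := ded_35_2 (flp_d L166807) L115155 L166807
theorem L166811 : sm ge N19648 = N13676 := ded_34_2 (flp_d L116482) L80591 (flp_d L79723) (flp_e L115153) L166807
theorem L166813 : sm gi N13526 = N19649 := rfl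
theorem L166815 : sm ga N19649 = N19649 := ded_18_1 (flp_i L166813) L115151 L166813
theorem L166816 : sm gc N19649 = N19649 := ded_33_1 (flp_i L166813) L115152 L166813
theorem L166817 : sm ge N19649 = N13529 := ded_44_1 (flp_i L115175) (flp_e L115153) L166813
theorem L166819 : sm gf N19649 = N19649 := ded_48_1 (flp_i L166813) L115155 L166813
theorem L166820 : sm gh N19649 = N19649 := ded_54_1 (flp_i L166813) (flp_h L115149) L79706 L115149 L166813
theorem L166821 : sm gh N13527 = N19650 := rfl
theorem L166823 : sm ga N19650 = N19650 := ded_17_1 (flp_h L166821) L115158 L166821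
theorem L166824 : sm gc N19650 = N19650 := ded_32_1 (flp_h L166821) L115159 L166821
theorem L166825 : sm gf N19650 = N13553 := ded_47_1 (flp_h L115378) (flp_f L115162) L166821
theorem L166827 : sm gj N19650 = N13528 := ded_52_1 (flp_h L115165) L115156 L166821
theorem L166829 : sm gd N19650 = N13678 := ded_38_1 (flp_h L116496) L80600 (flp_h L79742) (flp_d L115160) L166821
theorem L166831 : sm gi N13528 = N19651 := rfl
theorem L166833 : sm ga N19651 = N19651 := ded_18_1 (flp_i L166831) L115167 L166831
theorem L166834 : sm gc N19651 = N19651 := ded_33_1 (flp_i L166831) L115168 L166831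
theorem L166835 : sm gd N19651 = N13679 := ded_39_1 (flp_i L116505) (flp_d L115173) L166831
theorem L166837 : sm gf N19651 = N13554 := ded_48_1 (flp_i L115387) (flp_f L115169) L166831
theorem L166839 : sm gg N19651 = N13529 := ded_51_1 (flp_i L115175) (flp_g L115171) L166831
theorem L166841 : sm gh N19651 = N19651 := ded_54_1 (flp_i L166831) (flp_h L115165) L79714 L115165 L166831
theorem L166842 : sm gf N13530 = N19652 := rfl
theorem L166845 : sm gb N19652 = N13531 := ded_22_1 (flp_f L115192) L115184 L166842
theorem L166851 : sm gh N13530 = N19653 := rfl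
theorem L166853 : sm ga N19653 = N19653 := ded_17_1 (flp_h L166851) L115190 L166851
theorem L166854 : sm gb N19653 = N13532 := ded_25_1 (flp_h L115201) L115184 L166851
theorem L166856 : sm gc N19653 = N19653 := ded_32_1 (flp_h L166851) L115191 L166851
theorem L166857 : sm ge N19653 = N19653 := ded_43_1 (flp_h L166851) L115187 L166851
theorem L166858 : sm gj N19653 = N19653 := ded_52_1 (flp_h L166851) L115188 L166851
theorem L166859 : sm ge N13531 = N19654 := rfl
theorem L166861 : sm ga N19654 = N13538 := ded_13_1 (flp_e L115257) (flp_a L115194) L166859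
theorem L166863 : sm gc N19654 = N13533 := ded_28_1 (flp_e L115209) (flp_c L115196) L166859
theorem L166868 : sm gg N13531 = N19655 := rfl
theorem L166870 : sm ga N19655 = N13539 := ded_15_1 (flp_g L115265) (flp_a L115194) L166868
theorem L166872 : sm gc N19655 = N13534 := ded_30_1 (flp_g L115218) (flp_c L115196) L166868
theorem L166876 : sm gh N13531 = N19656 := rfl
theorem L166878 : sm ga N19656 = N13540 := ded_17_1 (flp_h L115272) (flp_a L115194) L166876
theorem L166880 : sm gc N19656 = N13535 := ded_32_1 (flp_h L115226) (flp_c L115196) L166876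
theorem L166882 : sm gf N19656 = N13532 := ded_47_1 (flp_h L115201) L115192 L166876
theorem L166884 : sm gj N19656 = N19656 := ded_52_1 (flp_h L166876) L115199 L166876
theorem L166885 : sm gd N13532 = N19657 := rfl
theorem L166887 : sm ga N19657 = N13541 := ded_12_1 (flp_d L115280) (flp_a L115203) L166885
theorem L166889 : sm gj N19657 = N19657 := ded_37_2 (flp_d L166885) L115208 L166885
theorem L166890 : sm gc N19657 = N13710 := ded_27_1 (flp_d L116799) L80794 (flp_d L79769) (flp_c L115205) L166885
theorem L166892 : sm gh N19657 = N19657 := ded_38_2 (flp_d L166885) (flp_h L115201) L79752 L115201 L166885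
theorem L166893 : sm gi N13532 = N19658 := rfl
theorem L166895 : sm ga N19658 = N13542 := ded_18_1 (flp_i L115287) (flp_a L115203) L166893
theorem L166897 : sm gc N19658 = N13536 := ded_33_1 (flp_i L115236) (flp_c L115205) L166893
theorem L166899 : sm ge N19658 = N19658 := ded_44_1 (flp_i L166893) L115207 L166893
theorem L166900 : sm gj N19658 = N19658 := ded_53_1 (flp_i L166893) L115208 L166893
theorem L166901 : sm gh N19658 = N19658 := ded_54_1 (flp_i L166893) (flp_h L115201) L79751 L115201 L166893
theorem L166902 : sm gg N13533 = N19659 := rfl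
theorem L166904 : sm ga N19659 = N13543 := ded_15_1 (flp_g L115295) (flp_a L115211) L166902
theorem L166908 : sm ge N19659 = N13534 := ded_41_1 (flp_g L115218) L115209 L166902
theorem L166911 : sm gh N13533 = N19660 := rfl
theorem L166913 : sm ga N19660 = N13544 := ded_17_1 (flp_h L115303) (flp_a L115211) L166911
theorem L166915 : sm gb N19660 = N19660 := ded_25_1 (flp_h L166911) L115213 L166911
theorem L166916 : sm ge N19660 = N13535 := ded_43_1 (flp_h L115226) L115209 L166911
theorem L166918 : sm gf N19660 = N19660 := ded_47_1 (flp_h L166911) L115217 L166911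
theorem L166919 : sm gj N19660 = N19660 := ded_52_1 (flp_h L166911) L115214 L166911
theorem L166920 : sm gj N13534 = N19661 := rfl
theorem L166922 : sm ga N19661 = N13545 := ded_16_1 (flp_j L115311) (flp_a L115220) L166920
theorem L166925 : sm gd N19661 = N13537 := ded_37_1 (flp_j L115246) (flp_d L115223) L166920
theorem L166929 : sm gh N13534 = N19662 := rfl
theorem L166931 : sm ga N19662 = N13546 := ded_17_1 (flp_h L115319) (flp_a L115220) L166929
theorem L166933 : sm gb N19662 = N19662 := ded_25_1 (flp_h L166929) L115222 L166929
theorem L166934 : sm gg N19662 = N13535 := ded_50_1 (flp_h L115226) L115218 L166929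
theorem L166936 : sm gd N19662 = N13715 := ded_38_1 (flp_h L116840) L80813 (flp_h L79778) (flp_d L115223) L166929
theorem L166938 : sm gi N13535 = N19663 := rfl
theorem L166940 : sm ga N19663 = N13547 := ded_18_1 (flp_i L115327) (flp_a L115228) L166938
theorem L166942 : sm gb N19663 = N19663 := ded_26_1 (flp_i L166938) L115230 L166938
theorem L166943 : sm gd N19663 = N13716 := ded_39_1 (flp_i L116847) (flp_d L115234) L166938
theorem L166945 : sm gf N19663 = N13536 := ded_48_1 (flp_i L115236) (flp_f L115231) L166938
theorem L166947 : sm gj N19663 = N19663 := ded_53_1 (flp_i L166938) L115233 L166938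
theorem L166948 : sm gh N19663 = N19663 := ded_54_1 (flp_i L166938) (flp_h L115226) L79761 L115226 L166938
theorem L166957 : sm gg N13538 = N19665 := rfl
theorem L166960 : sm gc N19665 = N13543 := ded_30_1 (flp_g L115295) (flp_c L115260) L166957
theorem L166962 : sm ge N19665 = N13539 := ded_41_1 (flp_g L115265) L115257 L166957
theorem L166965 : sm gh N13538 = N19666 := rfl
theorem L166967 : sm gb N19666 = N19666 := ded_25_1 (flp_h L166965) L115259 L166965
theorem L166968 : sm gc N19666 = N13544 := ded_32_1 (flp_h L115303) (flp_c L115260) L166965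
theorem L166970 : sm ge N19666 = N13540 := ded_43_1 (flp_h L115272) L115257 L166965
theorem L166972 : sm gf N19666 = N19666 := ded_47_1 (flp_h L166965) L115264 L166965
theorem L166973 : sm gj N19666 = N19666 := ded_52_1 (flp_h L166965) L115262 L166965
theorem L166974 : sm gj N13539 = N19667 := rfl
theorem L166977 : sm gc N19667 = N13545 := ded_31_1 (flp_j L115311) (flp_c L115268) L166974
theorem L166982 : sm gh N13539 = N19668 := rfl
theorem L166984 : sm gb N19668 = N19668 := ded_25_1 (flp_h L166982) L115267 L166982
theorem L166985 : sm gc N19668 = N13546 := ded_32_1 (flp_h L115319) (flp_c L115268) L166982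
theorem L166987 : sm gg N19668 = N13540 := ded_50_1 (flp_h L115272) L115265 L166982
theorem L166989 : sm gd N13540 = N19669 := rfl
theorem L166991 : sm gb N19669 = N19669 := ded_20_1 (flp_d L166989) L115274 L166989
theorem L166992 : sm gf N19669 = N13541 := ded_35_2 (flp_d L115280) (flp_f L115277) L166989
theorem L166994 : sm gj N19669 = N19669 := ded_37_2 (flp_d L166989) L115279 L166989
theorem L166995 : sm gc N19669 = N13722 := ded_27_1 (flp_d L116899) L80859 (flp_d L79818) (flp_c L115275) L166989
theorem L166997 : sm gh N19669 = N19669 := ded_38_2 (flp_d L166989) (flp_h L115272) L79786 L115272 L166989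
theorem L166998 : sm gi N13540 = N19670 := rfl
theorem L167000 : sm gb N19670 = N19670 := ded_26_1 (flp_i L166998) L115274 L166998
theorem L167001 : sm gc N19670 = N13547 := ded_33_1 (flp_i L115327) (flp_c L115275) L166998
theorem L167003 : sm gf N19670 = N13542 := ded_48_1 (flp_i L115287) (flp_f L115277) L166998
theorem L167005 : sm gj N19670 = N19670 := ded_53_1 (flp_i L166998) L115279 L166998
theorem L167006 : sm gh N19670 = N19670 := ded_54_1 (flp_i L166998) (flp_h L115272) L79788 L115272 L166998
theorem L167007 : sm ge N13541 = N19671 := rfl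
theorem L167009 : sm gb N19671 = N19671 := ded_21_1 (flp_e L167007) L115282 L167007
theorem L167010 : sm gc N19671 = N13724 := ded_28_1 (flp_e L116916) (flp_c L115284) L167007
theorem L167012 : sm gj N19671 = N19671 := ded_42_2 (flp_e L167007) L115283 L167007
theorem L167013 : sm gh N19671 = N19671 := ded_43_2 (flp_e L167007) L115286 L167007
theorem L167014 : sm gd N19671 = N19671 := ded_34_1 (flp_e L167007) (flp_d L115280) L79794 L115280 L167007
theorem L167015 : sm gi N13541 = N19672 := rfl
theorem L167017 : sm gb N19672 = N19672 := ded_26_1 (flp_i L167015) L115282 L167015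
theorem L167018 : sm gc N19672 = N13725 := ded_33_1 (flp_i L116924) (flp_c L115284) L167015
theorem L167020 : sm gd N19672 = N13542 := ded_39_1 (flp_i L115287) L115280 L167015
theorem L167022 : sm gj N19672 = N19672 := ded_53_1 (flp_i L167015) L115283 L167015
theorem L167023 : sm gf N13543 = N19673 := rfl
theorem L167025 : sm gb N19673 = N13548 := ded_22_1 (flp_f L115337) (flp_b L115297) L167023
theorem L167030 : sm gj N13543 = N19674 := rfl
theorem L167032 : sm gb N19674 = N13549 := ded_24_1 (flp_j L115344) (flp_b L115297) L167030
theorem L167035 : sm ge N19674 = N13545 := ded_42_1 (flp_j L115311) (flp_e L115300) L167030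
theorem L167039 : sm gh N13543 = N19675 := rfl
theorem L167041 : sm gb N19675 = N13550 := ded_25_1 (flp_h L115353) (flp_b L115297) L167039
theorem L167043 : sm ge N19675 = N13546 := ded_43_1 (flp_h L115319) (flp_e L115300) L167039
theorem L167045 : sm gg N19675 = N13544 := ded_50_1 (flp_h L115303) L115295 L167039
theorem L167047 : sm gd N13544 = N19676 := rfl
theorem L167049 : sm gb N19676 = N13551 := ded_20_1 (flp_d L115361) (flp_b L115305) L167047
theorem L167051 : sm gf N19676 = N19676 := ded_35_2 (flp_d L167047) L115309 L167047
theorem L167052 : sm gj N19676 = N19676 := ded_37_2 (flp_d L167047) L115310 L167047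
theorem L167053 : sm ge N19676 = N13729 := ded_34_2 (flp_d L116954) L80890 (flp_d L79818) (flp_e L115307) L167047
theorem L167055 : sm gh N19676 = N19676 := ded_38_2 (flp_d L167047) (flp_h L115303) L79802 L115303 L167047
theorem L167056 : sm gi N13544 = N19677 := rfl
theorem L167058 : sm gb N19677 = N13552 := ded_26_1 (flp_i L115369) (flp_b L115305) L167056
theorem L167060 : sm ge N19677 = N13547 := ded_44_1 (flp_i L115327) (flp_e L115307) L167056
theorem L167062 : sm gf N19677 = N19677 := ded_48_1 (flp_i L167056) L115309 L167056
theorem L167063 : sm gj N19677 = N19677 := ded_53_1 (flp_i L167056) L115310 L167056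
theorem L167064 : sm gh N19677 = N19677 := ded_54_1 (flp_i L167056) (flp_h L115303) L79801 L115303 L167056
theorem L167065 : sm gh N13545 = N19678 := rfl
theorem L167067 : sm gb N19678 = N13553 := ded_25_1 (flp_h L115378) (flp_b L115313) L167065
theorem L167069 : sm gg N19678 = N19678 := ded_50_1 (flp_h L167065) L115318 L167065
theorem L167070 : sm gj N19678 = N13546 := ded_52_1 (flp_h L115319) L115311 L167065
theorem L167072 : sm gd N19678 = N13731 := ded_38_1 (flp_h L116971) L80899 (flp_h L79835) (flp_d L115315) L167065
theorem L167074 : sm gi N13546 = N19679 := rfl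
theorem L167076 : sm gb N19679 = N13554 := ded_26_1 (flp_i L115387) (flp_b L115321) L167074
theorem L167078 : sm gd N19679 = N13732 := ded_39_1 (flp_i L116978) (flp_d L115325) L167074
theorem L167080 : sm gg N19679 = N13547 := ded_51_1 (flp_i L115327) (flp_g L115323) L167074
theorem L167082 : sm gh N19679 = N19679 := ded_54_1 (flp_i L167074) (flp_h L115319) L79810 L115319 L167074
theorem L167083 : sm gj N13548 = N19680 := rfl
theorem L167088 : sm gf N19680 = N13549 := ded_46_1 (flp_j L115344) L115337 L167083
theorem L167091 : sm gh N13548 = N19681 := rfl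
theorem L167093 : sm ga N19681 = N19681 := ded_17_1 (flp_h L167091) L115339 L167091
theorem L167094 : sm gc N19681 = N19681 := ded_32_1 (flp_h L167091) L115340 L167091
theorem L167095 : sm gf N19681 = N13550 := ded_47_1 (flp_h L115353) L115337 L167091
theorem L167097 : sm gg N19681 = N19681 := ded_50_1 (flp_h L167091) L115343 L167091
theorem L167098 : sm gh N13549 = N19682 := rfl
theorem L167100 : sm ga N19682 = N19682 := ded_17_1 (flp_h L167098) L115346 L167098
theorem L167101 : sm gc N19682 = N19682 := ded_32_1 (flp_h L167098) L115347 L167098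
theorem L167102 : sm ge N19682 = N13553 := ded_43_1 (flp_h L115378) (flp_e L115349) L167098
theorem L167104 : sm gg N19682 = N19682 := ded_50_1 (flp_h L167098) L115352 L167098
theorem L167105 : sm gj N19682 = N13550 := ded_52_1 (flp_h L115353) L115344 L167098
theorem L167107 : sm gd N13550 = N19683 := rfl
theorem L167109 : sm ga N19683 = N19683 := ded_12_1 (flp_d L167107) L115355 L167107
theorem L167110 : sm gg N19683 = N13551 := ded_36_2 (flp_d L115361) (flp_g L115359) L167107
theorem L167112 : sm ge N19683 = N13736 := ded_34_2 (flp_d L117011) L80937 (flp_d L79869) (flp_e L115357) L167107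
theorem L167114 : sm gh N19683 = N19683 := ded_38_2 (flp_d L167107) (flp_h L115353) L79843 L115353 L167107
theorem L167115 : sm gi N13550 = N19684 := rfl
theorem L167117 : sm ga N19684 = N19684 := ded_18_1 (flp_i L167115) L115355 L167115
theorem L167118 : sm gc N19684 = N19684 := ded_33_1 (flp_i L167115) L115356 L167115
theorem L167119 : sm ge N19684 = N13554 := ded_44_1 (flp_i L115387) (flp_e L115357) L167115
theorem L167121 : sm gg N19684 = N13552 := ded_51_1 (flp_i L115369) (flp_g L115359) L167115
theorem L167123 : sm gh N19684 = N19684 := ded_54_1 (flp_i L167115) (flp_h L115353) L79846 L115353 L167115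
theorem L167124 : sm gc N13551 = N19685 := rfl
theorem L167126 : sm ga N19685 = N19685 := ded_11_1 (flp_c L167124) L115363 L167124
theorem L167127 : sm ge N19685 = N13738 := ded_28_2 (flp_c L117026) (flp_e L115366) L167124
theorem L167129 : sm gf N19685 = N19685 := ded_29_2 (flp_c L167124) L115364 L167124
theorem L167130 : sm gj N19685 = N19685 := ded_31_2 (flp_c L167124) L115365 L167124
theorem L167131 : sm gh N19685 = N19685 := ded_32_2 (flp_c L167124) L115368 L167124
theorem L167132 : sm gd N19685 = N19685 := ded_27_2 (flp_c L167124) (flp_d L115361) L79850 L115361 L167124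
theorem L167133 : sm gi N13551 = N19686 := rfl
theorem L167135 : sm ga N19686 = N19686 := ded_18_1 (flp_i L167133) L115363 L167133
theorem L167136 : sm gd N19686 = N13552 := ded_39_1 (flp_i L115369) L115361 L167133
theorem L167138 : sm ge N19686 = N13739 := ded_44_1 (flp_i L117035) (flp_e L115366) L167133
theorem L167140 : sm gf N19686 = N19686 := ded_48_1 (flp_i L167133) L115364 L167133
theorem L167141 : sm gj N19686 = N19686 := ded_53_1 (flp_i L167133) L115365 L167133
theorem L167142 : sm gi N13553 = N19687 := rfl
theorem L167144 : sm ga N19687 = N19687 := ded_18_1 (flp_i L167142) L115380 L167142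
theorem L167145 : sm gc N19687 = N19687 := ded_33_1 (flp_i L167142) L115381 L167142
theorem L167146 : sm gd N19687 = N13740 := ded_39_1 (flp_i L117043) (flp_d L115385) L167142
theorem L167148 : sm gg N19687 = N19687 := ded_51_1 (flp_i L167142) L115382 L167142
theorem L167149 : sm gj N19687 = N13554 := ded_53_1 (flp_i L115387) (flp_j L115383) L167142
theorem L167151 : sm gh N19687 = N19687 := ded_54_1 (flp_i L167142) (flp_h L115378) L79861 L115378 L167142
theorem L167152 : sm ge N13555 = N19688 := rfl
theorem L167154 : sm ga N19688 = N13556 := ded_13_1 (flp_e L115409) L115396 L167152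
theorem L167158 : sm gg N19688 = N13567 := ded_41_2 (flp_e L115510) (flp_g L115402) L167152
theorem L167162 : sm gi N19688 = N13560 := ded_44_2 (flp_e L115452) (flp_i L115406) L167152
theorem L167164 : sm gd N13556 = N19689 := rfl
theorem L167166 : sm gb N19689 = N13557 := ded_20_1 (flp_d L115420) (flp_b L115411) L167164
theorem L167168 : sm gg N19689 = N13568 := ded_36_2 (flp_d L115521) (flp_g L115414) L167164
theorem L167170 : sm gj N19689 = N19689 := ded_37_2 (flp_d L167164) L115416 L167164
theorem L167171 : sm gi N19689 = N13561 := ded_39_2 (flp_d L115461) (flp_i L115418) L167164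
theorem L167173 : sm ge N19689 = N14187 := ded_34_2 (flp_d L120894) (flp_e L83546) (flp_d L79883) L115409 L167164
theorem L167175 : sm gf N13556 = N19690 := rfl
theorem L167177 : sm gb N19690 = N13558 := ded_22_1 (flp_f L115431) (flp_b L115411) L167175
theorem L167179 : sm gc N19690 = N19690 := ded_29_1 (flp_f L167175) L115413 L167175
theorem L167180 : sm gj N19690 = N19690 := ded_46_2 (flp_f L167175) L115416 L167175
theorem L167181 : sm gh N19690 = N19690 := ded_47_2 (flp_f L167175) L115417 L167175
theorem L167182 : sm gi N19690 = N13562 := ded_48_2 (flp_f L115470) (flp_i L115418) L167175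
theorem L167184 : sm ge N19690 = N19690 := ded_40_1 (flp_f L167175) (flp_e L115409) L79885 L115409 L167175
theorem L167185 : sm gf N13557 = N19691 := rfl
theorem L167187 : sm ga N19691 = N19691 := ded_14_1 (flp_f L167185) L115422 L167185
theorem L167188 : sm gc N19691 = N19691 := ded_29_1 (flp_f L167185) L115428 L167185
theorem L167189 : sm gd N19691 = N13558 := ded_35_1 (flp_f L115431) L115420 L167185
theorem L167191 : sm gj N19691 = N19691 := ded_46_2 (flp_f L167185) L115425 L167185
theorem L167192 : sm gi N19691 = N13563 := ded_48_2 (flp_f L115477) (flp_i L115426) L167185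
theorem L167194 : sm gh N13557 = N19692 := rfl
theorem L167196 : sm ga N19692 = N19692 := ded_17_1 (flp_h L167194) L115422 L167194
theorem L167197 : sm gc N19692 = N19692 := ded_32_1 (flp_h L167194) L115428 L167194
theorem L167198 : sm ge N19692 = N14190 := ded_43_1 (flp_h L120922) (flp_e L115429) L167194
theorem L167200 : sm gg N19692 = N13571 := ded_50_1 (flp_h L115553) (flp_g L115423) L167194
theorem L167202 : sm gj N19692 = N19692 := ded_52_1 (flp_h L167194) L115425 L167194
theorem L167203 : sm gd N19692 = N19692 := ded_38_1 (flp_h L167194) (flp_d L115420) L79901 L115420 L167194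
theorem L167204 : sm gg N13558 = N19693 := rfl
theorem L167206 : sm ga N19693 = N19693 := ded_15_1 (flp_g L167204) L115433 L167204
theorem L167207 : sm gc N19693 = N13559 := ded_30_1 (flp_g L115441) (flp_c L115434) L167204
theorem L167209 : sm ge N19693 = N19693 := ded_41_1 (flp_g L167204) L115440 L167204
theorem L167210 : sm gh N19693 = N19693 := ded_50_2 (flp_g L167204) L115437 L167204
theorem L167211 : sm gi N19693 = N13565 := ded_51_2 (flp_g L115493) (flp_i L115438) L167204
theorem L167213 : sm gf N19693 = N13572 := ded_45_1 (flp_g L115562) (flp_f L79989) (flp_g L79898) L115431 L167204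
theorem L167215 : sm gj N13559 = N19694 := rfl
theorem L167217 : sm ga N19694 = N19694 := ded_16_1 (flp_j L167215) L115443 L167215
theorem L167218 : sm gb N19694 = N19694 := ded_24_1 (flp_j L167215) L115444 L167215
theorem L167219 : sm gd N19694 = N19694 := ded_37_1 (flp_j L167215) L115445 L167215
theorem L167220 : sm ge N19694 = N19694 := ded_42_1 (flp_j L167215) L115446 L167215
theorem L167221 : sm gf N19694 = N13573 := ded_46_1 (flp_j L115572) (flp_f L115450) L167215
theorem L167223 : sm gh N19694 = N19694 := ded_52_2 (flp_j L167215) L115447 L167215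
theorem L167224 : sm gi N19694 = N13566 := ded_53_2 (flp_j L115501) (flp_i L115448) L167215
theorem L167226 : sm gg N19694 = N19694 := ded_49_1 (flp_j L167215) (flp_g L115441) L79909 L115441 L167215
theorem L167227 : sm gd N13560 = N19695 := rfl
theorem L167229 : sm ga N19695 = N13561 := ded_12_1 (flp_d L115461) (flp_a L115454) L167227
theorem L167231 : sm gb N19695 = N19695 := ded_20_1 (flp_d L167227) L115456 L167227
theorem L167232 : sm gg N19695 = N13574 := ded_36_2 (flp_d L115584) (flp_g L115458) L167227
theorem L167234 : sm gj N19695 = N19695 := ded_37_2 (flp_d L167227) L115460 L167227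
theorem L167235 : sm ge N19695 = N14193 := ded_34_2 (flp_d L120951) (flp_e L83586) (flp_d L79917) L115452 L167227
theorem L167237 : sm gf N13560 = N19696 := rfl
theorem L167239 : sm ga N19696 = N13562 := ded_14_1 (flp_f L115470) (flp_a L115454) L167237
theorem L167245 : sm gc N13561 = N19697 := rfl
theorem L167247 : sm ge N19697 = N14195 := ded_28_2 (flp_c L120969) (flp_e L115468) L167245
theorem L167249 : sm gg N19697 = N13576 := ded_30_2 (flp_c L115603) (flp_g L115465) L167245
theorem L167251 : sm gj N19697 = N19697 := ded_31_2 (flp_c L167245) L115467 L167245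
theorem L167252 : sm gb N19697 = N19697 := ded_19_1 (flp_c L167245) L115463 L79938 (flp_b L115463) L167245
theorem L167253 : sm gd N19697 = N19697 := ded_27_2 (flp_c L167245) (flp_d L115461) L79928 L115461 L167245
theorem L167254 : sm gf N13561 = N19698 := rfl
theorem L167256 : sm gb N19698 = N13563 := ded_22_1 (flp_f L115477) (flp_b L115463) L167254
theorem L167258 : sm gd N19698 = N13562 := ded_35_1 (flp_f L115470) L115461 L167254
theorem L167260 : sm gj N19698 = N19698 := ded_46_2 (flp_f L167254) L115467 L167254
theorem L167261 : sm gh N13561 = N19699 := rfl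
theorem L167263 : sm gb N19699 = N13564 := ded_25_1 (flp_h L115484) (flp_b L115463) L167261
theorem L167265 : sm ge N19699 = N14197 := ded_43_1 (flp_h L120984) (flp_e L115468) L167261
theorem L167267 : sm gg N19699 = N13578 := ded_50_1 (flp_h L115619) (flp_g L115465) L167261
theorem L167269 : sm gj N19699 = N19699 := ded_52_1 (flp_h L167261) L115467 L167261
theorem L167270 : sm gg N13562 = N19700 := rfl
theorem L167276 : sm gf N19700 = N13579 := ded_45_1 (flp_g L115627) (flp_f L80027) (flp_g L79929) L115470 L167270
theorem L167278 : sm ge N13563 = N19701 := rfl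
theorem L167284 : sm gf N19701 = N14199 := ded_40_2 (flp_e L121002) (flp_f L83613) (flp_e L79939) L115477 L167278
theorem L167286 : sm gg N13563 = N19702 := rfl
theorem L167292 : sm gf N19702 = N13581 := ded_45_1 (flp_g L115644) (flp_f L80036) (flp_g L79935) L115477 L167286
theorem L167294 : sm gh N13563 = N19703 := rfl
theorem L167298 : sm gf N19703 = N13564 := ded_47_1 (flp_h L115484) L115477 L167294
theorem L167301 : sm gi N13564 = N19704 := rfl
theorem L167305 : sm ge N19704 = N14202 := ded_44_1 (flp_i L121024) (flp_e L115488) L167301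
theorem L167307 : sm gg N19704 = N13583 := ded_51_1 (flp_i L115658) (flp_g L115490) L167301
theorem L167319 : sm gd N13567 = N19706 := rfl
theorem L167321 : sm ga N19706 = N13568 := ded_12_1 (flp_d L115521) (flp_a L115512) L167319
theorem L167324 : sm gj N19706 = N13585 := ded_37_2 (flp_d L115675) (flp_j L115516) L167319
theorem L167326 : sm gi N19706 = N13574 := ded_39_2 (flp_d L115584) (flp_i L115519) L167319
theorem L167328 : sm ge N19706 = N14216 := ded_34_2 (flp_d L121163) (flp_e L83732) (flp_d L79959) L115510 L167319
theorem L167330 : sm gf N13567 = N19707 := rfl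
theorem L167332 : sm ga N19707 = N13569 := ded_14_1 (flp_f L115531) (flp_a L115512) L167330
theorem L167339 : sm gi N19707 = N13575 := ded_48_2 (flp_f L115593) (flp_i L115519) L167330
theorem L167341 : sm ge N19707 = N13613 := ded_40_1 (flp_f L115909) (flp_e L80215) (flp_f L79961) L115510 L167330
theorem L167343 : sm gc N13568 = N19708 := rfl
theorem L167345 : sm ge N19708 = N14218 := ded_28_2 (flp_c L121185) (flp_e L115529) L167343
theorem L167347 : sm gj N19708 = N13587 := ded_31_2 (flp_c L115696) (flp_j L115525) L167343
theorem L167349 : sm gi N19708 = N13576 := ded_33_2 (flp_c L115603) (flp_i L115527) L167343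
theorem L167351 : sm gb N19708 = N19708 := ded_19_1 (flp_c L167343) L115523 L79986 (flp_b L115523) L167343
theorem L167352 : sm gd N19708 = N19708 := ded_27_2 (flp_c L167343) (flp_d L115521) L79973 L115521 L167343
theorem L167353 : sm gf N13568 = N19709 := rfl
theorem L167355 : sm gb N19709 = N13570 := ded_22_1 (flp_f L115543) (flp_b L115523) L167353
theorem L167357 : sm gd N19709 = N13569 := ded_35_1 (flp_f L115531) L115521 L167353
theorem L167359 : sm gj N19709 = N13588 := ded_46_2 (flp_f L115705) (flp_j L115525) L167353
theorem L167361 : sm gi N19709 = N13577 := ded_48_2 (flp_f L115611) (flp_i L115527) L167353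
theorem L167363 : sm gh N13568 = N19710 := rfl
theorem L167365 : sm gb N19710 = N13571 := ded_25_1 (flp_h L115553) (flp_b L115523) L167363
theorem L167367 : sm ge N19710 = N14220 := ded_43_1 (flp_h L121204) (flp_e L115529) L167363
theorem L167369 : sm gj N19710 = N13589 := ded_52_1 (flp_h L115713) (flp_j L115525) L167363
theorem L167371 : sm gd N19710 = N19710 := ded_38_1 (flp_h L167363) (flp_d L115521) L79976 L115521 L167363
theorem L167372 : sm gg N13569 = N19711 := rfl
theorem L167374 : sm gb N19711 = N13572 := ded_23_1 (flp_g L115562) (flp_b L115533) L167372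
theorem L167376 : sm gc N19711 = N19711 := ded_30_1 (flp_g L167372) L115535 L167372
theorem L167377 : sm ge N19711 = N13617 := ded_41_1 (flp_g L115952) (flp_e L115541) L167372
theorem L167379 : sm gh N19711 = N19711 := ded_50_2 (flp_g L167372) L115538 L167372
theorem L167380 : sm gi N19711 = N13579 := ded_51_2 (flp_g L115627) (flp_i L115539) L167372
theorem L167382 : sm ge N13570 = N19712 := rfl
theorem L167384 : sm ga N19712 = N19712 := ded_13_1 (flp_e L167382) L115545 L167382
theorem L167385 : sm gc N19712 = N19712 := ded_28_1 (flp_e L167382) L115546 L167382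
theorem L167386 : sm gj N19712 = N13591 := ded_42_2 (flp_e L115732) (flp_j L115549) L167382
theorem L167388 : sm gi N19712 = N13580 := ded_44_2 (flp_e L115634) (flp_i L115551) L167382
theorem L167390 : sm gd N19712 = N13618 := ded_34_1 (flp_e L115961) L80253 (flp_e L79999) (flp_d L115547) L167382
theorem L167392 : sm gf N19712 = N14222 := ded_40_2 (flp_e L121220) (flp_f L83763) (flp_e L79987) L115543 L167382
theorem L167394 : sm gg N13570 = N19713 := rfl
theorem L167396 : sm ga N19713 = N19713 := ded_15_1 (flp_g L167394) L115545 L167394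
theorem L167397 : sm gc N19713 = N19713 := ded_30_1 (flp_g L167394) L115546 L167394
theorem L167398 : sm gd N19713 = N13572 := ded_36_1 (flp_g L115562) (flp_d L115547) L167394
theorem L167400 : sm gi N19713 = N13581 := ded_51_2 (flp_g L115644) (flp_i L115551) L167394
theorem L167402 : sm gh N13570 = N19714 := rfl
theorem L167404 : sm ga N19714 = N19714 := ded_17_1 (flp_h L167402) L115545 L167402
theorem L167405 : sm gc N19714 = N19714 := ded_32_1 (flp_h L167402) L115546 L167402
theorem L167406 : sm gf N19714 = N13571 := ded_47_1 (flp_h L115553) L115543 L167402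
theorem L167408 : sm gj N19714 = N13593 := ded_52_1 (flp_h L115751) (flp_j L115549) L167402
theorem L167410 : sm gd N19714 = N19714 := ded_38_1 (flp_h L167402) L115547 L79996 (flp_d L115547) L167402
theorem L167411 : sm gi N13571 = N19715 := rfl
theorem L167413 : sm ga N19715 = N19715 := ded_18_1 (flp_i L167411) L115555 L167411
theorem L167414 : sm gc N19715 = N19715 := ded_33_1 (flp_i L167411) L115556 L167411
theorem L167415 : sm gd N19715 = N19715 := ded_39_1 (flp_i L167411) L115561 L167411
theorem L167416 : sm ge N19715 = N14225 := ded_44_1 (flp_i L121246) (flp_e L115557) L167411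
theorem L167418 : sm gj N19715 = N13594 := ded_53_1 (flp_i L115758) (flp_j L115559) L167411
theorem L167420 : sm gh N19715 = N13583 := ded_54_1 (flp_i L115658) (flp_h L80044) (flp_i L79984) L115553 L167411
theorem L167422 : sm gj N13572 = N19716 := rfl
theorem L167424 : sm ga N19716 = N19716 := ded_16_1 (flp_j L167422) L115564 L167422
theorem L167425 : sm gc N19716 = N13573 := ded_31_1 (flp_j L115572) (flp_c L115565) L167422
theorem L167427 : sm ge N19716 = N13622 := ded_42_1 (flp_j L116005) (flp_e L115567) L167422
theorem L167429 : sm gh N19716 = N19716 := ded_52_2 (flp_j L167422) L115569 L167422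
theorem L167430 : sm gi N19716 = N13584 := ded_53_2 (flp_j L115666) (flp_i L115570) L167422
theorem L167432 : sm gg N19716 = N13595 := ded_49_1 (flp_j L115768) (flp_g L80113) (flp_j L79994) L115562 L167422
theorem L167434 : sm gc N13574 = N19717 := rfl
theorem L167436 : sm ga N19717 = N13576 := ded_11_1 (flp_c L115603) (flp_a L115586) L167434
theorem L167438 : sm ge N19717 = N14227 := ded_28_2 (flp_c L121265) (flp_e L115591) L167434
theorem L167440 : sm gj N19717 = N13596 := ded_31_2 (flp_c L115779) (flp_j L115589) L167434
theorem L167443 : sm gf N13574 = N19718 := rfl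
theorem L167445 : sm ga N19718 = N13577 := ded_14_1 (flp_f L115611) (flp_a L115586) L167443
theorem L167447 : sm gb N19718 = N19718 := ded_22_1 (flp_f L167443) L115588 L167443
theorem L167448 : sm gd N19718 = N13575 := ded_35_1 (flp_f L115593) L115584 L167443
theorem L167450 : sm gj N19718 = N13597 := ded_46_2 (flp_f L115787) (flp_j L115589) L167443
theorem L167452 : sm gh N13574 = N19719 := rfl
theorem L167459 : sm gj N19719 = N13598 := ded_52_1 (flp_h L115794) (flp_j L115589) L167452
theorem L167461 : sm gg N13575 = N19720 := rfl
theorem L167463 : sm ga N19720 = N13579 := ded_15_1 (flp_g L115627) (flp_a L115595) L167461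
theorem L167467 : sm ge N19720 = N13626 := ded_41_1 (flp_g L116045) (flp_e L115601) L167461
theorem L167469 : sm gf N13576 = N19721 := rfl
theorem L167471 : sm gb N19721 = N19721 := ded_22_1 (flp_f L167469) L115609 L167469
theorem L167472 : sm gc N19721 = N13577 := ded_29_1 (flp_f L115611) L115603 L167469
theorem L167474 : sm gd N19721 = N19721 := ded_35_1 (flp_f L167469) L115610 L167469
theorem L167475 : sm gj N19721 = N13600 := ded_46_2 (flp_f L115811) (flp_j L115607) L167469
theorem L167477 : sm gh N13576 = N19722 := rfl
theorem L167480 : sm gc N19722 = N13578 := ded_32_1 (flp_h L115619) L115603 L167477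
theorem L167484 : sm gj N19722 = N13601 := ded_52_1 (flp_h L115817) (flp_j L115607) L167477
theorem L167486 : sm ge N13577 = N19723 := rfl
theorem L167488 : sm gb N19723 = N13580 := ded_21_1 (flp_e L115634) (flp_b L115613) L167486
theorem L167490 : sm gj N19723 = N13602 := ded_42_2 (flp_e L115825) (flp_j L115617) L167486
theorem L167492 : sm gd N19723 = N13629 := ded_34_1 (flp_e L116072) L80323 (flp_e L80034) (flp_d L115615) L167486
theorem L167494 : sm gf N19723 = N14233 := ded_40_2 (flp_e L121316) (flp_f L83826) (flp_e L80025) L115611 L167486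
theorem L167496 : sm gg N13577 = N19724 := rfl
theorem L167498 : sm gb N19724 = N13581 := ded_23_1 (flp_g L115644) (flp_b L115613) L167496
theorem L167500 : sm gd N19724 = N13579 := ded_36_1 (flp_g L115627) (flp_d L115615) L167496
theorem L167502 : sm gh N13577 = N19725 := rfl
theorem L167504 : sm gb N19725 = N13582 := ded_25_1 (flp_h L115650) (flp_b L115613) L167502
theorem L167506 : sm gf N19725 = N13578 := ded_47_1 (flp_h L115619) L115611 L167502
theorem L167508 : sm gj N19725 = N13604 := ded_52_1 (flp_h L115840) (flp_j L115617) L167502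
theorem L167510 : sm gi N13578 = N19726 := rfl
theorem L167512 : sm gb N19726 = N13583 := ded_26_1 (flp_i L115658) (flp_b L115621) L167510
theorem L167514 : sm ge N19726 = N14236 := ded_44_1 (flp_i L121339) (flp_e L115623) L167510
theorem L167518 : sm gj N13579 = N19727 := rfl
theorem L167523 : sm ge N19727 = N13633 := ded_42_1 (flp_j L116104) (flp_e L115632) L167518
theorem L167525 : sm gg N19727 = N13606 := ded_49_1 (flp_j L115853) (flp_g L80171) (flp_j L80032) L115627 L167518
theorem L167527 : sm gg N13580 = N19728 := rfl
theorem L167529 : sm ga N19728 = N19728 := ded_15_1 (flp_g L167527) L115636 L167527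
theorem L167530 : sm gc N19728 = N19728 := ded_30_1 (flp_g L167527) L115637 L167527
theorem L167531 : sm gd N19728 = N13634 := ded_36_1 (flp_g L116112) (flp_d L115640) L167527
theorem L167533 : sm ge N19728 = N13581 := ded_41_1 (flp_g L115644) L115634 L167527
theorem L167535 : sm gh N13580 = N19729 := rfl
theorem L167537 : sm ga N19729 = N19729 := ded_17_1 (flp_h L167535) L115636 L167535
theorem L167538 : sm gc N19729 = N19729 := ded_32_1 (flp_h L167535) L115637 L167535
theorem L167539 : sm ge N19729 = N13582 := ded_43_1 (flp_h L115650) L115634 L167535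
theorem L167541 : sm gf N19729 = N14239 := ded_47_1 (flp_h L121365) (flp_f L115642) L167535
theorem L167543 : sm gj N19729 = N13608 := ded_52_1 (flp_h L115869) (flp_j L115638) L167535
theorem L167545 : sm gj N13581 = N19730 := rfl
theorem L167549 : sm gd N19730 = N13584 := ded_37_1 (flp_j L115666) (flp_d L115648) L167545
theorem L167551 : sm gg N19730 = N13609 := ded_49_1 (flp_j L115877) (flp_g L80187) (flp_j L80042) L115644 L167545
theorem L167553 : sm gh N13581 = N19731 := rfl
theorem L167557 : sm gg N19731 = N13582 := ded_50_1 (flp_h L115650) L115644 L167553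
theorem L167559 : sm gi N13582 = N19732 := rfl
theorem L167563 : sm gf N19732 = N13583 := ded_48_1 (flp_i L115658) (flp_f L115654) L167559
theorem L167565 : sm gj N19732 = N13611 := ded_53_1 (flp_i L115891) (flp_j L115656) L167559
theorem L167567 : sm gc N13585 = N19733 := rfl
theorem L167569 : sm ga N19733 = N13587 := ded_11_1 (flp_c L115696) (flp_a L115677) L167567
theorem L167571 : sm ge N19733 = N14261 := ded_28_2 (flp_c L121553) (flp_e L115683) L167567
theorem L167574 : sm gi N19733 = N13596 := ded_33_2 (flp_c L115779) (flp_i L115681) L167567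
theorem L167577 : sm gf N13585 = N19734 := rfl
theorem L167579 : sm ga N19734 = N13588 := ded_14_1 (flp_f L115705) (flp_a L115677) L167577
theorem L167584 : sm gi N19734 = N13597 := ded_48_2 (flp_f L115787) (flp_i L115681) L167577
theorem L167586 : sm gh N13585 = N19735 := rfl
theorem L167588 : sm ga N19735 = N13589 := ded_17_1 (flp_h L115713) (flp_a L115677) L167586
theorem L167591 : sm ge N19735 = N14263 := ded_43_1 (flp_h L121571) (flp_e L115683) L167586
theorem L167595 : sm gg N13586 = N19736 := rfl
theorem L167597 : sm ga N19736 = N13590 := ded_15_1 (flp_g L115721) (flp_a L115687) L167595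
theorem L167601 : sm ge N19736 = N13642 := ded_41_1 (flp_g L116187) (flp_e L115694) L167595
theorem L167607 : sm gf N13587 = N19737 := rfl
theorem L167609 : sm gb N19737 = N19737 := ded_22_1 (flp_f L167607) L115703 L167607
theorem L167610 : sm gc N19737 = N13588 := ded_29_1 (flp_f L115705) L115696 L167607
theorem L167612 : sm gd N19737 = N19737 := ded_35_1 (flp_f L167607) L115704 L167607
theorem L167613 : sm gi N19737 = N13600 := ded_48_2 (flp_f L115811) (flp_i L115701) L167607
theorem L167615 : sm gh N13587 = N19738 := rfl
theorem L167618 : sm gc N19738 = N13589 := ded_32_1 (flp_h L115713) L115696 L167615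
theorem L167620 : sm ge N19738 = N14266 := ded_43_1 (flp_h L121598) (flp_e L115698) L167615
theorem L167623 : sm ge N13588 = N19739 := rfl
theorem L167625 : sm gb N19739 = N13591 := ded_21_1 (flp_e L115732) (flp_b L115707) L167623
theorem L167627 : sm gi N19739 = N13602 := ded_44_2 (flp_e L115825) (flp_i L115711) L167623
theorem L167629 : sm gd N19739 = N13645 := ded_34_1 (flp_e L116217) L80421 (flp_e L80095) (flp_d L115709) L167623
theorem L167631 : sm gf N19739 = N14267 := ded_40_2 (flp_e L121604) (flp_f L84027) (flp_e L80085) L115705 L167623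
theorem L167633 : sm gg N13588 = N19740 := rfl
theorem L167635 : sm gb N19740 = N13592 := ded_23_1 (flp_g L115742) (flp_b L115707) L167633
theorem L167637 : sm gd N19740 = N13590 := ded_36_1 (flp_g L115721) (flp_d L115709) L167633
theorem L167639 : sm gi N19740 = N13603 := ded_51_2 (flp_g L115833) (flp_i L115711) L167633
theorem L167641 : sm gf N19740 = N19740 := ded_45_1 (flp_g L167633) (flp_f L115705) L80082 L115705 L167633
theorem L167642 : sm gh N13588 = N19741 := rfl
theorem L167644 : sm gb N19741 = N13593 := ded_25_1 (flp_h L115751) (flp_b L115707) L167642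
theorem L167646 : sm gf N19741 = N13589 := ded_47_1 (flp_h L115713) L115705 L167642
theorem L167648 : sm gd N19741 = N19741 := ded_38_1 (flp_h L167642) L115709 L80092 (flp_d L115709) L167642
theorem L167649 : sm gi N13589 = N19742 := rfl
theorem L167654 : sm ge N19742 = N14270 := ded_44_1 (flp_i L121627) (flp_e L115717) L167649
theorem L167659 : sm gj N13590 = N19743 := rfl
theorem L167661 : sm gb N19743 = N13595 := ded_24_1 (flp_j L115768) (flp_b L115723) L167659
theorem L167663 : sm gc N19743 = N19743 := ded_31_1 (flp_j L167659) L115725 L167659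
theorem L167664 : sm ge N19743 = N13649 := ded_42_1 (flp_j L116253) (flp_e L115726) L167659
theorem L167666 : sm gf N19743 = N19743 := ded_46_1 (flp_j L167659) L115731 L167659
theorem L167667 : sm gh N19743 = N19743 := ded_52_2 (flp_j L167659) L115728 L167659
theorem L167668 : sm gi N19743 = N13606 := ded_53_2 (flp_j L115853) (flp_i L115729) L167659
theorem L167670 : sm gg N13591 = N19744 := rfl
theorem L167672 : sm ga N19744 = N19744 := ded_15_1 (flp_g L167670) L115734 L167670
theorem L167673 : sm gc N19744 = N19744 := ded_30_1 (flp_g L167670) L115735 L167670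
theorem L167674 : sm gd N19744 = N13650 := ded_36_1 (flp_g L116263) (flp_d L115738) L167670
theorem L167676 : sm ge N19744 = N13592 := ded_41_1 (flp_g L115742) L115732 L167670
theorem L167678 : sm gi N19744 = N13607 := ded_51_2 (flp_g L115861) (flp_i L115736) L167670
theorem L167680 : sm gh N13591 = N19745 := rfl
theorem L167682 : sm ga N19745 = N19745 := ded_17_1 (flp_h L167680) L115734 L167680
theorem L167683 : sm gc N19745 = N19745 := ded_32_1 (flp_h L167680) L115735 L167680
theorem L167684 : sm ge N19745 = N13593 := ded_43_1 (flp_h L115751) L115732 L167680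
theorem L167686 : sm gf N19745 = N14273 := ded_47_1 (flp_h L121655) (flp_f L115740) L167680
theorem L167688 : sm gj N13592 = N19746 := rfl
theorem L167690 : sm ga N19746 = N19746 := ded_16_1 (flp_j L167688) L115744 L167688
theorem L167691 : sm gc N19746 = N19746 := ded_31_1 (flp_j L167688) L115745 L167688
theorem L167692 : sm gd N19746 = N13595 := ded_37_1 (flp_j L115768) (flp_d L115746) L167688
theorem L167694 : sm gf N19746 = N19746 := ded_46_1 (flp_j L167688) L115750 L167688
theorem L167695 : sm gi N19746 = N13609 := ded_53_2 (flp_j L115877) (flp_i L115748) L167688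
theorem L167697 : sm gh N13592 = N19747 := rfl
theorem L167699 : sm ga N19747 = N19747 := ded_17_1 (flp_h L167697) L115744 L167697
theorem L167700 : sm gc N19747 = N19747 := ded_32_1 (flp_h L167697) L115745 L167697
theorem L167701 : sm gf N19747 = N19747 := ded_47_1 (flp_h L167697) L115750 L167697
theorem L167702 : sm gg N19747 = N13593 := ded_50_1 (flp_h L115751) L115742 L167697
theorem L167704 : sm gd N19747 = N19747 := ded_38_1 (flp_h L167697) L115746 L80120 (flp_d L115746) L167697
theorem L167705 : sm gi N13593 = N19748 := rfl
theorem L167707 : sm ga N19748 = N19748 := ded_18_1 (flp_i L167705) L115753 L167705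
theorem L167708 : sm gc N19748 = N19748 := ded_33_1 (flp_i L167705) L115754 L167705
theorem L167709 : sm gd N19748 = N19748 := ded_39_1 (flp_i L167705) L115757 L167705
theorem L167710 : sm gf N19748 = N13594 := ded_48_1 (flp_i L115758) (flp_f L115755) L167705
theorem L167712 : sm gh N19748 = N13611 := ded_54_1 (flp_i L115891) (flp_h L80194) (flp_i L80103) L115751 L167705
theorem L167714 : sm gb N13596 = N19749 := rfl
theorem L167722 : sm gf N13596 = N19750 := rfl
theorem L167724 : sm ga N19750 = N13600 := ded_14_1 (flp_f L115811) (flp_a L115781) L167722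
theorem L167726 : sm gc N19750 = N13597 := ded_29_1 (flp_f L115787) L115779 L167722
theorem L167738 : sm ge N13597 = N19752 := rfl
theorem L167740 : sm ga N19752 = N13602 := ded_13_1 (flp_e L115825) (flp_a L115789) L167738
theorem L167742 : sm gb N19752 = N19752 := ded_21_1 (flp_e L167738) L115791 L167738
theorem L167743 : sm gd N19752 = N13658 := ded_34_1 (flp_e L116339) L80508 (flp_e L80149) (flp_d L115792) L167738
theorem L167745 : sm gf N19752 = N14280 := ded_40_2 (flp_e L121707) (flp_f L84098) (flp_e L80141) L115787 L167738
theorem L167747 : sm gg N13597 = N19753 := rfl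
theorem L167749 : sm ga N19753 = N13603 := ded_15_1 (flp_g L115833) (flp_a L115789) L167747
theorem L167751 : sm gb N19753 = N19753 := ded_23_1 (flp_g L167747) L115791 L167747
theorem L167752 : sm gd N19753 = N13599 := ded_36_1 (flp_g L115802) (flp_d L115792) L167747
theorem L167754 : sm gf N19753 = N19753 := ded_45_1 (flp_g L167747) (flp_f L115787) L80140 L115787 L167747
theorem L167755 : sm gh N13597 = N19754 := rfl
theorem L167757 : sm ga N19754 = N13604 := ded_17_1 (flp_h L115840) (flp_a L115789) L167755
theorem L167762 : sm gi N13598 = N19755 := rfl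
theorem L167770 : sm gj N13599 = N19756 := rfl
theorem L167772 : sm ga N19756 = N13606 := ded_16_1 (flp_j L115853) (flp_a L115804) L167770
theorem L167779 : sm ge N13600 = N19757 := rfl
theorem L167781 : sm gb N19757 = N19757 := ded_21_1 (flp_e L167779) L115813 L167779
theorem L167782 : sm gc N19757 = N13602 := ded_28_1 (flp_e L115825) (flp_c L115814) L167779
theorem L167784 : sm gf N19757 = N14285 := ded_40_2 (flp_e L121748) (flp_f L84123) (flp_e L80153) L115811 L167779
theorem L167786 : sm gg N13600 = N19758 := rfl
theorem L167788 : sm gb N19758 = N19758 := ded_23_1 (flp_g L167786) L115813 L167786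
theorem L167789 : sm gc N19758 = N13603 := ded_30_1 (flp_g L115833) (flp_c L115814) L167786
theorem L167791 : sm gd N19758 = N19758 := ded_36_1 (flp_g L167786) L115816 L167786
theorem L167792 : sm gf N19758 = N19758 := ded_45_1 (flp_g L167786) (flp_f L115811) L80155 L115811 L167786
theorem L167793 : sm gh N13600 = N19759 := rfl
theorem L167796 : sm gc N19759 = N13604 := ded_32_1 (flp_h L115840) (flp_c L115814) L167793
theorem L167800 : sm gd N13601 = N19760 := rfl
theorem L167813 : sm gg N13602 = N19762 := rfl
theorem L167815 : sm gb N19762 = N13607 := ded_23_1 (flp_g L115861) (flp_b L115827) L167813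
theorem L167817 : sm gd N19762 = N13668 := ded_36_1 (flp_g L116421) (flp_d L115829) L167813
theorem L167819 : sm ge N19762 = N13603 := ded_41_1 (flp_g L115833) L115825 L167813
theorem L167821 : sm gh N13602 = N19763 := rfl
theorem L167823 : sm gb N19763 = N13608 := ded_25_1 (flp_h L115869) (flp_b L115827) L167821
theorem L167825 : sm ge N19763 = N13604 := ded_43_1 (flp_h L115840) L115825 L167821
theorem L167827 : sm gf N19763 = N14291 := ded_47_1 (flp_h L121789) (flp_f L115831) L167821
theorem L167829 : sm gj N13603 = N19764 := rfl
theorem L167831 : sm gb N19764 = N13609 := ded_24_1 (flp_j L115877) (flp_b L115835) L167829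
theorem L167833 : sm gd N19764 = N13606 := ded_37_1 (flp_j L115853) (flp_d L115837) L167829
theorem L167835 : sm gf N19764 = N19764 := ded_46_1 (flp_j L167829) L115839 L167829
theorem L167836 : sm gh N13603 = N19765 := rfl
theorem L167838 : sm gb N19765 = N13610 := ded_25_1 (flp_h L115884) (flp_b L115835) L167836
theorem L167840 : sm gf N19765 = N19765 := ded_47_1 (flp_h L167836) L115839 L167836
theorem L167841 : sm gg N19765 = N13604 := ded_50_1 (flp_h L115840) L115833 L167836
theorem L167843 : sm gi N13604 = N19766 := rfl
theorem L167845 : sm gb N19766 = N13611 := ded_26_1 (flp_i L115891) (flp_b L115842) L167843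
theorem L167849 : sm gf N13607 = N19767 := rfl
theorem L167851 : sm ga N19767 = N19767 := ded_14_1 (flp_f L167849) L115863 L167849
theorem L167852 : sm gc N19767 = N19767 := ded_29_1 (flp_f L167849) L115864 L167849
theorem L167853 : sm gd N19767 = N13673 := ded_35_1 (flp_f L116457) (flp_d L115865) L167849
theorem L167855 : sm ge N19767 = N19767 := ded_40_1 (flp_f L167849) L115867 L80193 (flp_e L115867) L167849
theorem L167856 : sm gg N19767 = N14295 := ded_45_2 (flp_f L121817) (flp_g L84172) (flp_f L80185) L115861 L167849
theorem L167858 : sm gj N13607 = N19768 := rfl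
theorem L167860 : sm ga N19768 = N19768 := ded_16_1 (flp_j L167858) L115863 L167858
theorem L167861 : sm gc N19768 = N19768 := ded_31_1 (flp_j L167858) L115864 L167858
theorem L167862 : sm gd N19768 = N13674 := ded_37_1 (flp_j L116466) (flp_d L115865) L167858
theorem L167864 : sm ge N19768 = N13609 := ded_42_1 (flp_j L115877) (flp_e L115867) L167858
theorem L167866 : sm gh N13607 = N19769 := rfl
theorem L167868 : sm ga N19769 = N19769 := ded_17_1 (flp_h L167866) L115863 L167866
theorem L167869 : sm gc N19769 = N19769 := ded_32_1 (flp_h L167866) L115864 L167866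
theorem L167870 : sm ge N19769 = N13610 := ded_43_1 (flp_h L115884) (flp_e L115867) L167866
theorem L167872 : sm gg N19769 = N13608 := ded_50_1 (flp_h L115869) L115861 L167866
theorem L167874 : sm gd N13608 = N19770 := rfl
theorem L167876 : sm ga N19770 = N19770 := ded_12_1 (flp_d L167874) L115871 L167874
theorem L167877 : sm gf N19770 = N14298 := ded_35_2 (flp_d L121840) (flp_f L115875) L167874
theorem L167879 : sm gh N19770 = N13676 := ded_38_2 (flp_d L116482) (flp_h L80586) (flp_d L80183) L115869 L167874
theorem L167881 : sm gi N13608 = N19771 := rfl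
theorem L167883 : sm ga N19771 = N19771 := ded_18_1 (flp_i L167881) L115871 L167881
theorem L167884 : sm gc N19771 = N19771 := ded_33_1 (flp_i L167881) L115872 L167881
theorem L167885 : sm ge N19771 = N13611 := ded_44_1 (flp_i L115891) (flp_e L115873) L167881
theorem L167887 : sm gf N19771 = N14299 := ded_48_1 (flp_i L121846) (flp_f L115875) L167881
theorem L167889 : sm gh N13609 = N19772 := rfl
theorem L167896 : sm gi N13610 = N19773 := rfl
theorem L167901 : sm gg N19773 = N13611 := ded_51_1 (flp_i L115891) (flp_g L115889) L167896
theorem L167903 : sm gc N13612 = N19774 := rfl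
theorem L167905 : sm ga N19774 = N13614 := ded_11_1 (flp_c L115920) (flp_a L115899) L167903
theorem L167907 : sm ge N19774 = N14313 := ded_28_2 (flp_c L121977) (flp_e L115907) L167903
theorem L167910 : sm gj N19774 = N13639 := ded_31_2 (flp_c L116157) (flp_j L115903) L167903
theorem L167912 : sm gi N19774 = N13623 := ded_33_2 (flp_c L116016) (flp_i L115905) L167903
theorem L167915 : sm gf N13612 = N19775 := rfl
theorem L167917 : sm ga N19775 = N13615 := ded_14_1 (flp_f L115932) (flp_a L115899) L167915
theorem L167920 : sm gd N19775 = N13613 := ded_35_1 (flp_f L115909) L115897 L167915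
theorem L167924 : sm gi N19775 = N13624 := ded_48_2 (flp_f L116026) (flp_i L115905) L167915
theorem L167926 : sm gh N13612 = N19776 := rfl
theorem L167931 : sm ge N19776 = N14315 := ded_43_1 (flp_h L121999) (flp_e L115907) L167926
theorem L167934 : sm gj N19776 = N13641 := ded_52_1 (flp_h L116177) (flp_j L115903) L167926
theorem L167937 : sm gg N13613 = N19777 := rfl
theorem L167939 : sm ga N19777 = N13617 := ded_15_1 (flp_g L115952) (flp_a L115911) L167937
theorem L167944 : sm gi N19777 = N13626 := ded_51_2 (flp_g L116045) (flp_i L115918) L167937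
theorem L167947 : sm gf N13614 = N19778 := rfl
theorem L167949 : sm gb N19778 = N13756 := ded_22_1 (flp_f L117204) (flp_b L115929) L167947
theorem L167951 : sm gc N19778 = N13615 := ded_29_1 (flp_f L115932) L115920 L167947
theorem L167953 : sm gd N19778 = N19778 := ded_35_1 (flp_f L167947) L115931 L167947
theorem L167954 : sm gj N19778 = N13643 := ded_46_2 (flp_f L116198) (flp_j L115925) L167947
theorem L167956 : sm gi N19778 = N13627 := ded_48_2 (flp_f L116052) (flp_i L115927) L167947
theorem L167958 : sm gh N13614 = N19779 := rfl
theorem L167960 : sm gb N19779 = N13757 := ded_25_1 (flp_h L117213) (flp_b L115929) L167958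
theorem L167962 : sm gc N19779 = N13616 := ded_32_1 (flp_h L115942) L115920 L167958
theorem L167964 : sm ge N19779 = N14318 := ded_43_1 (flp_h L122029) (flp_e L115922) L167958
theorem L167966 : sm gg N19779 = N19779 := ded_50_1 (flp_h L167958) L115924 L167958
theorem L167967 : sm gj N19779 = N13644 := ded_52_1 (flp_h L116207) (flp_j L115925) L167958
theorem L167969 : sm ge N13615 = N19780 := rfl
theorem L167971 : sm gb N19780 = N13618 := ded_21_1 (flp_e L115961) (flp_b L115934) L167969
theorem L167973 : sm gj N19780 = N13645 := ded_42_2 (flp_e L116217) (flp_j L115938) L167969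
theorem L167975 : sm gi N19780 = N13629 := ded_44_2 (flp_e L116072) (flp_i L115940) L167969
theorem L167977 : sm gf N19780 = N14319 := ded_40_2 (flp_e L122038) (flp_f L84313) (flp_e L80236) L115932 L167969
theorem L167979 : sm gg N13615 = N19781 := rfl
theorem L167981 : sm gb N19781 = N13619 := ded_23_1 (flp_g L115972) (flp_b L115934) L167979
theorem L167983 : sm gd N19781 = N13617 := ded_36_1 (flp_g L115952) (flp_d L115936) L167979
theorem L167985 : sm gi N19781 = N13630 := ded_51_2 (flp_g L116080) (flp_i L115940) L167979
theorem L167987 : sm gf N19781 = N19781 := ded_45_1 (flp_g L167979) (flp_f L115932) L80231 L115932 L167979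
theorem L167988 : sm gh N13615 = N19782 := rfl
theorem L167990 : sm gb N19782 = N13620 := ded_25_1 (flp_h L115982) (flp_b L115934) L167988
theorem L167992 : sm gf N19782 = N13616 := ded_47_1 (flp_h L115942) L115932 L167988
theorem L167994 : sm gj N19782 = N13647 := ded_52_1 (flp_h L116235) (flp_j L115938) L167988
theorem L167996 : sm gd N19782 = N19782 := ded_38_1 (flp_h L167988) L115936 L80245 (flp_d L115936) L167988
theorem L167997 : sm gi N13616 = N19783 := rfl
theorem L167999 : sm gb N19783 = N13621 := ded_26_1 (flp_i L115992) (flp_b L115944) L167997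
theorem L168001 : sm gd N19783 = N19783 := ded_39_1 (flp_i L167997) L115951 L167997
theorem L168002 : sm ge N19783 = N14322 := ded_44_1 (flp_i L122063) (flp_e L115946) L167997
theorem L168004 : sm gg N19783 = N19783 := ded_51_1 (flp_i L167997) L115948 L167997
theorem L168005 : sm gj N19783 = N13648 := ded_53_1 (flp_i L116242) (flp_j L115949) L167997
theorem L168007 : sm gh N19783 = N13632 := ded_54_1 (flp_i L116095) (flp_h L80327) (flp_i L80234) L115942 L167997
theorem L168009 : sm gj N13617 = N19784 := rfl
theorem L168011 : sm gb N19784 = N13622 := ded_24_1 (flp_j L116005) (flp_b L115954) L168009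
theorem L168013 : sm gc N19784 = N19784 := ded_31_1 (flp_j L168009) L115956 L168009
theorem L168014 : sm gf N19784 = N19784 := ded_46_1 (flp_j L168009) L115960 L168009
theorem L168015 : sm gh N19784 = N19784 := ded_52_2 (flp_j L168009) L115957 L168009
theorem L168016 : sm gi N19784 = N13633 := ded_53_2 (flp_j L116104) (flp_i L115958) L168009
theorem L168018 : sm gg N19784 = N13649 := ded_49_1 (flp_j L116253) (flp_g L80434) (flp_j L80243) L115952 L168009
theorem L168020 : sm gg N13618 = N19785 := rfl
theorem L168022 : sm ga N19785 = N19785 := ded_15_1 (flp_g L168020) L115963 L168020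
theorem L168023 : sm gc N19785 = N13763 := ded_30_1 (flp_g L117272) (flp_c L115964) L168020
theorem L168025 : sm ge N19785 = N13619 := ded_41_1 (flp_g L115972) L115961 L168020
theorem L168027 : sm gi N19785 = N13634 := ded_51_2 (flp_g L116112) (flp_i L115968) L168020
theorem L168029 : sm gh N13618 = N19786 := rfl
theorem L168031 : sm ga N19786 = N19786 := ded_17_1 (flp_h L168029) L115963 L168029
theorem L168032 : sm gc N19786 = N13764 := ded_32_1 (flp_h L117280) (flp_c L115964) L168029
theorem L168034 : sm ge N19786 = N13620 := ded_43_1 (flp_h L115982) L115961 L168029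
theorem L168036 : sm gf N19786 = N14325 := ded_47_1 (flp_h L122092) (flp_f L115970) L168029
theorem L168038 : sm gj N19786 = N13651 := ded_52_1 (flp_h L116272) (flp_j L115966) L168029
theorem L168040 : sm gj N13619 = N19787 := rfl
theorem L168042 : sm ga N19787 = N19787 := ded_16_1 (flp_j L168040) L115974 L168040
theorem L168043 : sm gc N19787 = N13765 := ded_31_1 (flp_j L117289) (flp_c L115975) L168040
theorem L168045 : sm gd N19787 = N13622 := ded_37_1 (flp_j L116005) (flp_d L115977) L168040
theorem L168047 : sm gf N19787 = N19787 := ded_46_1 (flp_j L168040) L115981 L168040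
theorem L168048 : sm gi N19787 = N13636 := ded_53_2 (flp_j L116130) (flp_i L115979) L168040
theorem L168050 : sm gg N19787 = N13652 := ded_49_1 (flp_j L116281) (flp_g L80453) (flp_j L80255) L115972 L168040
theorem L168052 : sm gh N13619 = N19788 := rfl
theorem L168054 : sm ga N19788 = N19788 := ded_17_1 (flp_h L168052) L115974 L168052
theorem L168055 : sm gc N19788 = N13766 := ded_32_1 (flp_h L117299) (flp_c L115975) L168052
theorem L168057 : sm gf N19788 = N19788 := ded_47_1 (flp_h L168052) L115981 L168052
theorem L168058 : sm gg N19788 = N13620 := ded_50_1 (flp_h L115982) L115972 L168052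
theorem L168060 : sm gd N19788 = N19788 := ded_38_1 (flp_h L168052) L115977 L80275 (flp_d L115977) L168052
theorem L168061 : sm gi N13620 = N19789 := rfl
theorem L168063 : sm ga N19789 = N19789 := ded_18_1 (flp_i L168061) L115984 L168061
theorem L168064 : sm gc N19789 = N13767 := ded_33_1 (flp_i L117305) (flp_c L115985) L168061
theorem L168066 : sm gd N19789 = N19789 := ded_39_1 (flp_i L168061) L115991 L168061
theorem L168067 : sm gf N19789 = N13621 := ded_48_1 (flp_i L115992) (flp_f L115987) L168061
theorem L168069 : sm gj N19789 = N13654 := ded_53_1 (flp_i L116302) (flp_j L115989) L168061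
theorem L168071 : sm gh N19789 = N13638 := ded_54_1 (flp_i L116148) (flp_h L80359) (flp_i L80257) L115982 L168061
theorem L168073 : sm gb N13623 = N19790 := rfl
theorem L168075 : sm gd N19790 = N19790 := ded_20_2 (flp_b L168073) L116025 L168073
theorem L168076 : sm ge N19790 = N14329 := ded_21_2 (flp_b L122132) (flp_e L116020) L168073
theorem L168078 : sm gg N19790 = N19790 := ded_23_2 (flp_b L168073) L116022 L168073
theorem L168079 : sm gj N19790 = N13655 := ded_24_2 (flp_b L116312) (flp_j L116023) L168073
theorem L168081 : sm ga N19790 = N13768 := ded_10_1 (flp_b L117314) L81155 (flp_b L80316) (flp_a L116018) L168073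
theorem L168083 : sm gc N19790 = N19790 := ded_19_2 (flp_b L168073) (flp_c L116016) L80295 L116016 L168073
theorem L168084 : sm gf N13623 = N19791 := rfl
theorem L168086 : sm ga N19791 = N13627 := ded_14_1 (flp_f L116052) (flp_a L116018) L168084
theorem L168088 : sm gc N19791 = N13624 := ded_29_1 (flp_f L116026) L116016 L168084
theorem L168090 : sm gd N19791 = N19791 := ded_35_1 (flp_f L168084) L116025 L168084
theorem L168091 : sm gj N19791 = N13656 := ded_46_2 (flp_f L116322) (flp_j L116023) L168084
theorem L168093 : sm gh N13623 = N19792 := rfl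
theorem L168095 : sm ga N19792 = N13628 := ded_17_1 (flp_h L116061) (flp_a L116018) L168093
theorem L168097 : sm gc N19792 = N13625 := ded_32_1 (flp_h L116035) L116016 L168093
theorem L168099 : sm ge N19792 = N14331 := ded_43_1 (flp_h L122152) (flp_e L116020) L168093
theorem L168101 : sm gg N19792 = N19792 := ded_50_1 (flp_h L168093) L116022 L168093
theorem L168102 : sm gj N19792 = N13657 := ded_52_1 (flp_h L116329) (flp_j L116023) L168093
theorem L168104 : sm ge N13624 = N19793 := rfl
theorem L168106 : sm ga N19793 = N13629 := ded_13_1 (flp_e L116072) (flp_a L116028) L168104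
theorem L168108 : sm gb N19793 = N19793 := ded_21_1 (flp_e L168104) L116030 L168104
theorem L168109 : sm gj N19793 = N13658 := ded_42_2 (flp_e L116339) (flp_j L116033) L168104
theorem L168111 : sm gf N19793 = N14332 := ded_40_2 (flp_e L122161) (flp_f L84396) (flp_e L80299) L116026 L168104
theorem L168113 : sm gg N13624 = N19794 := rfl
theorem L168115 : sm ga N19794 = N13630 := ded_15_1 (flp_g L116080) (flp_a L116028) L168113
theorem L168117 : sm gb N19794 = N19794 := ded_23_1 (flp_g L168113) L116030 L168113
theorem L168118 : sm gd N19794 = N13626 := ded_36_1 (flp_g L116045) (flp_d L116031) L168113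
theorem L168120 : sm gf N19794 = N19794 := ded_45_1 (flp_g L168113) (flp_f L116026) L80296 L116026 L168113
theorem L168121 : sm gh N13624 = N19795 := rfl
theorem L168123 : sm ga N19795 = N13631 := ded_17_1 (flp_h L116087) (flp_a L116028) L168121
theorem L168125 : sm gb N19795 = N19795 := ded_25_1 (flp_h L168121) L116030 L168121
theorem L168126 : sm gf N19795 = N13625 := ded_47_1 (flp_h L116035) L116026 L168121
theorem L168128 : sm gj N19795 = N13660 := ded_52_1 (flp_h L116355) (flp_j L116033) L168121
theorem L168130 : sm gi N13625 = N19796 := rfl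
theorem L168132 : sm ga N19796 = N13632 := ded_18_1 (flp_i L116095) (flp_a L116037) L168130
theorem L168134 : sm gb N19796 = N19796 := ded_26_1 (flp_i L168130) L116039 L168130
theorem L168135 : sm ge N19796 = N14335 := ded_44_1 (flp_i L122186) (flp_e L116040) L168130
theorem L168137 : sm gg N19796 = N19796 := ded_51_1 (flp_i L168130) L116042 L168130
theorem L168138 : sm gj N19796 = N13661 := ded_53_1 (flp_i L116362) (flp_j L116043) L168130
theorem L168140 : sm gj N13626 = N19797 := rfl
theorem L168142 : sm ga N19797 = N13633 := ded_16_1 (flp_j L116104) (flp_a L116047) L168140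
theorem L168147 : sm gg N19797 = N13662 := ded_49_1 (flp_j L116371) (flp_g L80519) (flp_j L80307) L116045 L168140
theorem L168149 : sm ge N13627 = N19798 := rfl
theorem L168151 : sm gb N19798 = N13776 := ded_21_1 (flp_e L117393) (flp_b L116054) L168149
theorem L168153 : sm gc N19798 = N13629 := ded_28_1 (flp_e L116072) (flp_c L116056) L168149
theorem L168155 : sm gj N19798 = N13663 := ded_42_2 (flp_e L116379) (flp_j L116059) L168149
theorem L168157 : sm gf N19798 = N14337 := ded_40_2 (flp_e L122206) (flp_f L84423) (flp_e L80311) L116052 L168149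
theorem L168159 : sm gg N13627 = N19799 := rfl
theorem L168161 : sm gb N19799 = N13777 := ded_23_1 (flp_g L117401) (flp_b L116054) L168159
theorem L168163 : sm gc N19799 = N13630 := ded_30_1 (flp_g L116080) (flp_c L116056) L168159
theorem L168165 : sm gd N19799 = N19799 := ded_36_1 (flp_g L168159) L116058 L168159
theorem L168166 : sm gf N19799 = N19799 := ded_45_1 (flp_g L168159) (flp_f L116052) L80313 L116052 L168159
theorem L168167 : sm gh N13627 = N19800 := rfl
theorem L168169 : sm gb N19800 = N13778 := ded_25_1 (flp_h L117407) (flp_b L116054) L168167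
theorem L168171 : sm gc N19800 = N13631 := ded_32_1 (flp_h L116087) (flp_c L116056) L168167
theorem L168173 : sm gf N19800 = N13628 := ded_47_1 (flp_h L116061) L116052 L168167
theorem L168175 : sm gj N19800 = N13665 := ded_52_1 (flp_h L116396) (flp_j L116059) L168167
theorem L168177 : sm gd N13628 = N19801 := rfl
theorem L168179 : sm gb N19801 = N13779 := ded_20_1 (flp_d L117415) (flp_b L116063) L168177
theorem L168181 : sm gg N19801 = N19801 := ded_36_2 (flp_d L168177) L116069 L168177
theorem L168182 : sm gj N19801 = N13666 := ded_37_2 (flp_d L116404) (flp_j L116070) L168177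
theorem L168184 : sm gh N19801 = N19801 := ded_38_2 (flp_d L168177) (flp_h L116061) L80318 L116061 L168177
theorem L168185 : sm gi N13628 = N19802 := rfl
theorem L168187 : sm gb N19802 = N13780 := ded_26_1 (flp_i L117422) (flp_b L116063) L168185
theorem L168189 : sm gc N19802 = N13632 := ded_33_1 (flp_i L116095) (flp_c L116065) L168185
theorem L168191 : sm ge N19802 = N14341 := ded_44_1 (flp_i L122243) (flp_e L116067) L168185
theorem L168193 : sm gg N19802 = N19802 := ded_51_1 (flp_i L168185) L116069 L168185
theorem L168194 : sm gj N19802 = N13667 := ded_53_1 (flp_i L116411) (flp_j L116070) L168185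
theorem L168196 : sm gg N13629 = N19803 := rfl
theorem L168198 : sm gb N19803 = N13634 := ded_23_1 (flp_g L116112) (flp_b L116074) L168196
theorem L168200 : sm ge N19803 = N13630 := ded_41_1 (flp_g L116080) L116072 L168196
theorem L168202 : sm gh N13629 = N19804 := rfl
theorem L168204 : sm gb N19804 = N13635 := ded_25_1 (flp_h L116119) (flp_b L116074) L168202
theorem L168206 : sm ge N19804 = N13631 := ded_43_1 (flp_h L116087) L116072 L168202
theorem L168208 : sm gf N19804 = N14343 := ded_47_1 (flp_h L122258) (flp_f L116078) L168202
theorem L168210 : sm gj N19804 = N13669 := ded_52_1 (flp_h L116427) (flp_j L116076) L168202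
theorem L168212 : sm gj N13630 = N19805 := rfl
theorem L168214 : sm gb N19805 = N13636 := ded_24_1 (flp_j L116130) (flp_b L116082) L168212
theorem L168216 : sm gd N19805 = N13633 := ded_37_1 (flp_j L116104) (flp_d L116084) L168212
theorem L168218 : sm gf N19805 = N19805 := ded_46_1 (flp_j L168212) L116086 L168212
theorem L168219 : sm gg N19805 = N13670 := ded_49_1 (flp_j L116435) (flp_g L80550) (flp_j L80325) L116080 L168212
theorem L168221 : sm gh N13630 = N19806 := rfl
theorem L168223 : sm gb N19806 = N13637 := ded_25_1 (flp_h L116140) (flp_b L116082) L168221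
theorem L168225 : sm gf N19806 = N19806 := ded_47_1 (flp_h L168221) L116086 L168221
theorem L168226 : sm gg N19806 = N13631 := ded_50_1 (flp_h L116087) L116080 L168221
theorem L168228 : sm gi N13631 = N19807 := rfl
theorem L168230 : sm gb N19807 = N13638 := ded_26_1 (flp_i L116148) (flp_b L116089) L168228
theorem L168232 : sm gf N19807 = N13632 := ded_48_1 (flp_i L116095) (flp_f L116091) L168228
theorem L168234 : sm gj N19807 = N13672 := ded_53_1 (flp_i L116451) (flp_j L116093) L168228
theorem L168236 : sm gf N13634 = N19808 := rfl
theorem L168238 : sm ga N19808 = N19808 := ded_14_1 (flp_f L168236) L116114 L168236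
theorem L168239 : sm gc N19808 = N13786 := ded_29_1 (flp_f L117474) (flp_c L116115) L168236
theorem L168241 : sm ge N19808 = N19808 := ded_40_1 (flp_f L168236) L116117 L80358 (flp_e L116117) L168236
theorem L168242 : sm gg N19808 = N14347 := ded_45_2 (flp_f L122292) (flp_g L84482) (flp_f L80349) L116112 L168236
theorem L168244 : sm gj N13634 = N19809 := rfl
theorem L168246 : sm ga N19809 = N19809 := ded_16_1 (flp_j L168244) L116114 L168244
theorem L168247 : sm gc N19809 = N13787 := ded_31_1 (flp_j L117481) (flp_c L116115) L168244
theorem L168249 : sm ge N19809 = N13636 := ded_42_1 (flp_j L116130) (flp_e L116117) L168244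
theorem L168251 : sm gg N19809 = N13674 := ded_49_1 (flp_j L116466) (flp_g L80579) (flp_j L80347) L116112 L168244
theorem L168253 : sm gh N13634 = N19810 := rfl
theorem L168255 : sm ga N19810 = N19810 := ded_17_1 (flp_h L168253) L116114 L168253
theorem L168256 : sm gc N19810 = N13788 := ded_32_1 (flp_h L117489) (flp_c L116115) L168253
theorem L168258 : sm ge N19810 = N13637 := ded_43_1 (flp_h L116140) (flp_e L116117) L168253
theorem L168260 : sm gg N19810 = N13635 := ded_50_1 (flp_h L116119) L116112 L168253
theorem L168262 : sm gd N13635 = N19811 := rfl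
theorem L168264 : sm ga N19811 = N19811 := ded_12_1 (flp_d L168262) L116121 L168262
theorem L168265 : sm gf N19811 = N14350 := ded_35_2 (flp_d L122316) (flp_f L116126) L168262
theorem L168267 : sm gj N19811 = N13676 := ded_37_2 (flp_d L116482) (flp_j L116128) L168262
theorem L168269 : sm gi N13635 = N19812 := rfl
theorem L168271 : sm ga N19812 = N19812 := ded_18_1 (flp_i L168269) L116121 L168269
theorem L168272 : sm gc N19812 = N13790 := ded_33_1 (flp_i L117505) (flp_c L116122) L168269
theorem L168274 : sm ge N19812 = N13638 := ded_44_1 (flp_i L116148) (flp_e L116124) L168269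
theorem L168276 : sm gf N19812 = N14351 := ded_48_1 (flp_i L122322) (flp_f L116126) L168269
theorem L168278 : sm gj N19812 = N13677 := ded_53_1 (flp_i L116487) (flp_j L116128) L168269
theorem L168280 : sm gh N13636 = N19813 := rfl
theorem L168282 : sm ga N19813 = N19813 := ded_17_1 (flp_h L168280) L116132 L168280
theorem L168283 : sm gc N19813 = N13791 := ded_32_1 (flp_h L117514) (flp_c L116133) L168280
theorem L168285 : sm gf N19813 = N19813 := ded_47_1 (flp_h L168280) L116137 L168280
theorem L168286 : sm gg N19813 = N13678 := ded_50_1 (flp_h L116496) (flp_g L116138) L168280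
theorem L168288 : sm gj N19813 = N13637 := ded_52_1 (flp_h L116140) L116130 L168280
theorem L168290 : sm gi N13637 = N19814 := rfl
theorem L168292 : sm ga N19814 = N19814 := ded_18_1 (flp_i L168290) L116142 L168290
theorem L168293 : sm gc N19814 = N13792 := ded_33_1 (flp_i L117523) (flp_c L116143) L168290
theorem L168295 : sm gf N19814 = N19814 := ded_48_1 (flp_i L168290) L116145 L168290
theorem L168296 : sm gg N19814 = N13638 := ded_51_1 (flp_i L116148) (flp_g L116146) L168290
theorem L168298 : sm gb N13639 = N19815 := rfl
theorem L168303 : sm gg N19815 = N13680 := ded_23_2 (flp_b L116514) (flp_g L116163) L168298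
theorem L168305 : sm gi N19815 = N13655 := ded_26_2 (flp_b L116312) (flp_i L116165) L168298
theorem L168307 : sm ga N19815 = N13809 := ded_10_1 (flp_b L117672) L81392 (flp_b L80414) (flp_a L116159) L168298
theorem L168310 : sm gf N13639 = N19816 := rfl
theorem L168312 : sm ga N19816 = N13643 := ded_14_1 (flp_f L116198) (flp_a L116159) L168310
theorem L168317 : sm gi N19816 = N13656 := ded_48_2 (flp_f L116322) (flp_i L116165) L168310
theorem L168319 : sm gh N13639 = N19817 := rfl
theorem L168323 : sm gc N19817 = N13641 := ded_32_1 (flp_h L116177) L116157 L168319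
theorem L168325 : sm ge N19817 = N14372 := ded_43_1 (flp_h L122514) (flp_e L116161) L168319
theorem L168327 : sm gg N19817 = N13682 := ded_50_1 (flp_h L116535) (flp_g L116163) L168319
theorem L168329 : sm ge N13640 = N19818 := rfl
theorem L168331 : sm ga N19818 = N13645 := ded_13_1 (flp_e L116217) (flp_a L116170) L168329
theorem L168334 : sm gi N19818 = N13658 := ded_44_2 (flp_e L116339) (flp_i L116175) L168329
theorem L168338 : sm gg N13640 = N19819 := rfl
theorem L168340 : sm ga N19819 = N13646 := ded_15_1 (flp_g L116225) (flp_a L116170) L168338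
theorem L168345 : sm gi N19819 = N13659 := ded_51_2 (flp_g L116346) (flp_i L116175) L168338
theorem L168347 : sm gf N19819 = N13684 := ded_45_1 (flp_g L116555) (flp_f L80630) (flp_g L80391) L116168 L168338
theorem L168349 : sm gh N13640 = N19820 := rfl
theorem L168351 : sm ga N19820 = N13647 := ded_17_1 (flp_h L116235) (flp_a L116170) L168349
theorem L168357 : sm gi N13641 = N19821 := rfl
theorem L168369 : sm gj N13642 = N19822 := rfl
theorem L168371 : sm ga N19822 = N13649 := ded_16_1 (flp_j L116253) (flp_a L116189) L168369
theorem L168375 : sm gf N19822 = N13687 := ded_46_1 (flp_j L116584) (flp_f L116196) L168369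
theorem L168380 : sm ge N13643 = N19823 := rfl
theorem L168382 : sm gb N19823 = N13817 := ded_21_1 (flp_e L117751) (flp_b L116200) L168380
theorem L168384 : sm gc N19823 = N13645 := ded_28_1 (flp_e L116217) (flp_c L116202) L168380
theorem L168386 : sm gi N19823 = N13663 := ded_44_2 (flp_e L116379) (flp_i L116205) L168380
theorem L168388 : sm gf N19823 = N14378 := ded_40_2 (flp_e L122567) (flp_f L84662) (flp_e L80408) L116198 L168380
theorem L168390 : sm gg N13643 = N19824 := rfl
theorem L168392 : sm gb N19824 = N13818 := ded_23_1 (flp_g L117759) (flp_b L116200) L168390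
theorem L168394 : sm gc N19824 = N13646 := ded_30_1 (flp_g L116225) (flp_c L116202) L168390
theorem L168396 : sm gd N19824 = N19824 := ded_36_1 (flp_g L168390) L116204 L168390
theorem L168397 : sm gi N19824 = N13664 := ded_51_2 (flp_g L116387) (flp_i L116205) L168390
theorem L168399 : sm gf N19824 = N13689 := ded_45_1 (flp_g L116606) (flp_f L80659) (flp_g L80410) L116198 L168390
theorem L168401 : sm gh N13643 = N19825 := rfl
theorem L168403 : sm gb N19825 = N13819 := ded_25_1 (flp_h L117768) (flp_b L116200) L168401
theorem L168405 : sm gc N19825 = N13647 := ded_32_1 (flp_h L116235) (flp_c L116202) L168401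
theorem L168407 : sm gf N19825 = N13644 := ded_47_1 (flp_h L116207) L116198 L168401
theorem L168409 : sm gd N13644 = N19826 := rfl
theorem L168411 : sm gb N19826 = N13820 := ded_20_1 (flp_d L117774) (flp_b L116209) L168409
theorem L168413 : sm gg N19826 = N13691 := ded_36_2 (flp_d L116624) (flp_g L116215) L168409
theorem L168415 : sm gc N19826 = N19826 := ded_27_1 (flp_d L168409) L116211 L80433 (flp_c L116211) L168409
theorem L168416 : sm gh N19826 = N19826 := ded_38_2 (flp_d L168409) (flp_h L116207) L80416 L116207 L168409
theorem L168417 : sm gi N13644 = N19827 := rfl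
theorem L168419 : sm gb N19827 = N13821 := ded_26_1 (flp_i L117779) (flp_b L116209) L168417
theorem L168421 : sm gc N19827 = N13648 := ded_33_1 (flp_i L116242) (flp_c L116211) L168417
theorem L168423 : sm ge N19827 = N14382 := ded_44_1 (flp_i L122603) (flp_e L116213) L168417
theorem L168425 : sm gg N19827 = N13692 := ded_51_1 (flp_i L116631) (flp_g L116215) L168417
theorem L168427 : sm gh N19827 = N13667 := ded_54_1 (flp_i L116411) (flp_h L80534) (flp_i L80412) L116207 L168417
theorem L168429 : sm gg N13645 = N19828 := rfl
theorem L168431 : sm gb N19828 = N13650 := ded_23_1 (flp_g L116263) (flp_b L116219) L168429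
theorem L168433 : sm ge N19828 = N13646 := ded_41_1 (flp_g L116225) L116217 L168429
theorem L168435 : sm gi N19828 = N13668 := ded_51_2 (flp_g L116421) (flp_i L116221) L168429
theorem L168437 : sm gh N13645 = N19829 := rfl
theorem L168439 : sm gb N19829 = N13651 := ded_25_1 (flp_h L116272) (flp_b L116219) L168437
theorem L168441 : sm ge N19829 = N13647 := ded_43_1 (flp_h L116235) L116217 L168437
theorem L168443 : sm gf N19829 = N14384 := ded_47_1 (flp_h L122621) (flp_f L116223) L168437
theorem L168445 : sm gj N13646 = N19830 := rfl
theorem L168447 : sm gb N19830 = N13652 := ded_24_1 (flp_j L116281) (flp_b L116227) L168445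
theorem L168449 : sm gd N19830 = N13649 := ded_37_1 (flp_j L116253) (flp_d L116229) L168445
theorem L168451 : sm gf N19830 = N13695 := ded_46_1 (flp_j L116660) (flp_f L116233) L168445
theorem L168453 : sm gi N19830 = N13670 := ded_53_2 (flp_j L116435) (flp_i L116231) L168445
theorem L168455 : sm gh N13646 = N19831 := rfl
theorem L168457 : sm gb N19831 = N13653 := ded_25_1 (flp_h L116292) (flp_b L116227) L168455
theorem L168459 : sm gf N19831 = N13696 := ded_47_1 (flp_h L116669) (flp_f L116233) L168455
theorem L168461 : sm gg N19831 = N13647 := ded_50_1 (flp_h L116235) L116225 L168455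
theorem L168463 : sm gd N19831 = N19831 := ded_38_1 (flp_h L168455) L116229 L80439 (flp_d L116229) L168455
theorem L168464 : sm gi N13647 = N19832 := rfl
theorem L168466 : sm gb N19832 = N13654 := ded_26_1 (flp_i L116302) (flp_b L116237) L168464
theorem L168468 : sm gd N19832 = N19832 := ded_39_1 (flp_i L168464) L116241 L168464
theorem L168469 : sm gf N19832 = N13648 := ded_48_1 (flp_i L116242) (flp_f L116239) L168464
theorem L168471 : sm gh N19832 = N13672 := ded_54_1 (flp_i L116451) (flp_h L80558) (flp_i L80423) L116235 L168464
theorem L168473 : sm gf N13650 = N19833 := rfl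
theorem L168475 : sm ga N19833 = N19833 := ded_14_1 (flp_f L168473) L116265 L168473
theorem L168476 : sm gc N19833 = N13827 := ded_29_1 (flp_f L117832) (flp_c L116266) L168473
theorem L168478 : sm gi N19833 = N13673 := ded_48_2 (flp_f L116457) (flp_i L116270) L168473
theorem L168480 : sm ge N19833 = N13698 := ded_40_1 (flp_f L116686) L80730 (flp_f L80462) (flp_e L116268) L168473
theorem L168482 : sm gg N19833 = N14388 := ded_45_2 (flp_f L122653) (flp_g L84720) (flp_f L80451) L116263 L168473
theorem L168484 : sm gj N13650 = N19834 := rfl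
theorem L168486 : sm ga N19834 = N19834 := ded_16_1 (flp_j L168484) L116265 L168484
theorem L168487 : sm gc N19834 = N13828 := ded_31_1 (flp_j L117842) (flp_c L116266) L168484
theorem L168489 : sm ge N19834 = N13652 := ded_42_1 (flp_j L116281) (flp_e L116268) L168484
theorem L168491 : sm gi N19834 = N13674 := ded_53_2 (flp_j L116466) (flp_i L116270) L168484
theorem L168493 : sm gh N13650 = N19835 := rfl
theorem L168495 : sm ga N19835 = N19835 := ded_17_1 (flp_h L168493) L116265 L168493
theorem L168496 : sm gc N19835 = N13829 := ded_32_1 (flp_h L117850) (flp_c L116266) L168493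
theorem L168498 : sm ge N19835 = N13653 := ded_43_1 (flp_h L116292) (flp_e L116268) L168493
theorem L168500 : sm gg N19835 = N13651 := ded_50_1 (flp_h L116272) L116263 L168493
theorem L168502 : sm gd N13651 = N19836 := rfl
theorem L168504 : sm ga N19836 = N19836 := ded_12_1 (flp_d L168502) L116274 L168502
theorem L168505 : sm gf N19836 = N14391 := ded_35_2 (flp_d L122680) (flp_f L116279) L168502
theorem L168507 : sm ge N19836 = N19836 := ded_34_2 (flp_d L168502) L116277 L80471 (flp_e L116277) L168502
theorem L168508 : sm gi N13651 = N19837 := rfl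
theorem L168510 : sm ga N19837 = N19837 := ded_18_1 (flp_i L168508) L116274 L168508
theorem L168511 : sm gc N19837 = N13831 := ded_33_1 (flp_i L117863) (flp_c L116275) L168508
theorem L168513 : sm ge N19837 = N13654 := ded_44_1 (flp_i L116302) (flp_e L116277) L168508
theorem L168515 : sm gf N19837 = N14392 := ded_48_1 (flp_i L122683) (flp_f L116279) L168508
theorem L168517 : sm gh N19837 = N13677 := ded_54_1 (flp_i L116487) (flp_h L80586) (flp_i L80449) L116272 L168508
theorem L168519 : sm gh N13652 = N19838 := rfl
theorem L168521 : sm ga N19838 = N19838 := ded_17_1 (flp_h L168519) L116283 L168519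
theorem L168522 : sm gc N19838 = N13832 := ded_32_1 (flp_h L117872) (flp_c L116284) L168519
theorem L168524 : sm gf N19838 = N13703 := ded_47_1 (flp_h L116736) (flp_f L116288) L168519
theorem L168526 : sm gj N19838 = N13653 := ded_52_1 (flp_h L116292) L116281 L168519
theorem L168528 : sm gd N19838 = N19838 := ded_38_1 (flp_h L168519) L116286 L80491 (flp_d L116286) L168519
theorem L168529 : sm gi N13653 = N19839 := rfl
theorem L168531 : sm ga N19839 = N19839 := ded_18_1 (flp_i L168529) L116294 L168529
theorem L168532 : sm gc N19839 = N13833 := ded_33_1 (flp_i L117879) (flp_c L116295) L168529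
theorem L168534 : sm gd N19839 = N19839 := ded_39_1 (flp_i L168529) L116301 L168529
theorem L168535 : sm gf N19839 = N13704 := ded_48_1 (flp_i L116745) (flp_f L116297) L168529
theorem L168537 : sm gg N19839 = N13654 := ded_51_1 (flp_i L116302) (flp_g L116299) L168529
theorem L168539 : sm gh N19839 = N13679 := ded_54_1 (flp_i L116505) (flp_h L80604) (flp_i L80460) L116292 L168529
theorem L168541 : sm gf N13655 = N19840 := rfl
theorem L168543 : sm ga N19840 = N13834 := ded_14_1 (flp_f L117888) (flp_a L116319) L168541
theorem L168545 : sm gb N19840 = N13656 := ded_22_1 (flp_f L116322) L116312 L168541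
theorem L168547 : sm gc N19840 = N19840 := ded_29_1 (flp_f L168541) L116321 L168541
theorem L168548 : sm gd N19840 = N19840 := ded_35_1 (flp_f L168541) L116314 L168541
theorem L168549 : sm gh N13655 = N19841 := rfl
theorem L168551 : sm ga N19841 = N13835 := ded_17_1 (flp_h L117894) (flp_a L116319) L168549
theorem L168553 : sm gb N19841 = N13657 := ded_25_1 (flp_h L116329) L116312 L168549
theorem L168555 : sm gc N19841 = N19841 := ded_32_1 (flp_h L168549) L116321 L168549
theorem L168556 : sm ge N19841 = N14396 := ded_43_1 (flp_h L122721) (flp_e L116315) L168549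
theorem L168558 : sm gg N19841 = N13706 := ded_50_1 (flp_h L116764) (flp_g L116317) L168549
theorem L168560 : sm ge N13656 = N19842 := rfl
theorem L168562 : sm ga N19842 = N13663 := ded_13_1 (flp_e L116379) (flp_a L116324) L168560
theorem L168564 : sm gc N19842 = N13658 := ded_28_1 (flp_e L116339) (flp_c L116326) L168560
theorem L168566 : sm gf N19842 = N14397 := ded_40_2 (flp_e L122730) (flp_f L84774) (flp_e L80498) L116322 L168560
theorem L168568 : sm gg N13656 = N19843 := rfl
theorem L168570 : sm ga N19843 = N13664 := ded_15_1 (flp_g L116387) (flp_a L116324) L168568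
theorem L168572 : sm gc N19843 = N13659 := ded_30_1 (flp_g L116346) (flp_c L116326) L168568
theorem L168574 : sm gd N19843 = N19843 := ded_36_1 (flp_g L168568) L116328 L168568
theorem L168575 : sm gf N19843 = N13708 := ded_45_1 (flp_g L116783) (flp_f L80782) (flp_g L80500) L116322 L168568
theorem L168577 : sm gh N13656 = N19844 := rfl
theorem L168579 : sm ga N19844 = N13665 := ded_17_1 (flp_h L116396) (flp_a L116324) L168577
theorem L168581 : sm gc N19844 = N13660 := ded_32_1 (flp_h L116355) (flp_c L116326) L168577
theorem L168583 : sm gf N19844 = N13657 := ded_47_1 (flp_h L116329) L116322 L168577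
theorem L168585 : sm gd N13657 = N19845 := rfl
theorem L168587 : sm ga N19845 = N13666 := ded_12_1 (flp_d L116404) (flp_a L116331) L168585
theorem L168589 : sm gg N19845 = N13710 := ded_36_2 (flp_d L116799) (flp_g L116337) L168585
theorem L168591 : sm gh N19845 = N19845 := ded_38_2 (flp_d L168585) (flp_h L116329) L80502 L116329 L168585
theorem L168592 : sm gi N13657 = N19846 := rfl
theorem L168594 : sm ga N19846 = N13667 := ded_18_1 (flp_i L116411) (flp_a L116331) L168592
theorem L168596 : sm gc N19846 = N13661 := ded_33_1 (flp_i L116362) (flp_c L116333) L168592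
theorem L168598 : sm ge N19846 = N14401 := ded_44_1 (flp_i L122763) (flp_e L116335) L168592
theorem L168600 : sm gg N19846 = N13711 := ded_51_1 (flp_i L116805) (flp_g L116337) L168592
theorem L168602 : sm gg N13658 = N19847 := rfl
theorem L168604 : sm ga N19847 = N13668 := ded_15_1 (flp_g L116421) (flp_a L116341) L168602
theorem L168606 : sm gb N19847 = N19847 := ded_23_1 (flp_g L168602) L116343 L168602
theorem L168607 : sm ge N19847 = N13659 := ded_41_1 (flp_g L116346) L116339 L168602
theorem L168609 : sm gh N13658 = N19848 := rfl
theorem L168611 : sm ga N19848 = N13669 := ded_17_1 (flp_h L116427) (flp_a L116341) L168609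
theorem L168613 : sm gb N19848 = N19848 := ded_25_1 (flp_h L168609) L116343 L168609
theorem L168614 : sm ge N19848 = N13660 := ded_43_1 (flp_h L116355) L116339 L168609
theorem L168616 : sm gf N19848 = N14403 := ded_47_1 (flp_h L122778) (flp_f L116344) L168609
theorem L168618 : sm gj N13659 = N19849 := rfl
theorem L168620 : sm ga N19849 = N13670 := ded_16_1 (flp_j L116435) (flp_a L116348) L168618
theorem L168622 : sm gb N19849 = N19849 := ded_24_1 (flp_j L168618) L116350 L168618
theorem L168623 : sm gd N19849 = N13662 := ded_37_1 (flp_j L116371) (flp_d L116351) L168618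
theorem L168625 : sm gf N19849 = N13714 := ded_46_1 (flp_j L116832) (flp_f L116353) L168618
theorem L168627 : sm gh N13659 = N19850 := rfl
theorem L168629 : sm ga N19850 = N13671 := ded_17_1 (flp_h L116443) (flp_a L116348) L168627
theorem L168631 : sm gb N19850 = N19850 := ded_25_1 (flp_h L168627) L116350 L168627
theorem L168632 : sm gf N19850 = N13715 := ded_47_1 (flp_h L116840) (flp_f L116353) L168627
theorem L168634 : sm gg N19850 = N13660 := ded_50_1 (flp_h L116355) L116346 L168627
theorem L168636 : sm gi N13660 = N19851 := rfl
theorem L168638 : sm ga N19851 = N13672 := ded_18_1 (flp_i L116451) (flp_a L116357) L168636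
theorem L168640 : sm gb N19851 = N19851 := ded_26_1 (flp_i L168636) L116359 L168636
theorem L168641 : sm gf N19851 = N13661 := ded_48_1 (flp_i L116362) (flp_f L116360) L168636
theorem L168643 : sm gd N13663 = N19852 := rfl
theorem L168645 : sm gb N19852 = N13846 := ded_20_1 (flp_d L117990) (flp_b L116381) L168643
theorem L168647 : sm gf N19852 = N14407 := ded_35_2 (flp_d L122812) (flp_f L116385) L168643
theorem L168649 : sm ge N19852 = N19852 := ded_34_2 (flp_d L168643) (flp_e L116379) L80533 L116379 L168643
theorem L168650 : sm gg N13663 = N19853 := rfl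
theorem L168652 : sm gb N19853 = N13847 := ded_23_1 (flp_g L117996) (flp_b L116381) L168650
theorem L168654 : sm gc N19853 = N13668 := ded_30_1 (flp_g L116421) (flp_c L116383) L168650
theorem L168656 : sm ge N19853 = N13664 := ded_41_1 (flp_g L116387) L116379 L168650
theorem L168658 : sm gh N13663 = N19854 := rfl
theorem L168660 : sm gb N19854 = N13848 := ded_25_1 (flp_h L118002) (flp_b L116381) L168658
theorem L168662 : sm gc N19854 = N13669 := ded_32_1 (flp_h L116427) (flp_c L116383) L168658
theorem L168664 : sm ge N19854 = N13665 := ded_43_1 (flp_h L116396) L116379 L168658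
theorem L168666 : sm gf N19854 = N14409 := ded_47_1 (flp_h L122826) (flp_f L116385) L168658
theorem L168668 : sm gj N13664 = N19855 := rfl
theorem L168670 : sm gb N19855 = N13849 := ded_24_1 (flp_j L118010) (flp_b L116389) L168668
theorem L168672 : sm gc N19855 = N13670 := ded_31_1 (flp_j L116435) (flp_c L116391) L168668
theorem L168674 : sm gd N19855 = N19855 := ded_37_1 (flp_j L168668) L116393 L168668
theorem L168675 : sm gf N19855 = N13720 := ded_46_1 (flp_j L116883) (flp_f L116394) L168668
theorem L168677 : sm gh N13664 = N19856 := rfl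
theorem L168679 : sm gb N19856 = N13850 := ded_25_1 (flp_h L118017) (flp_b L116389) L168677
theorem L168681 : sm gc N19856 = N13671 := ded_32_1 (flp_h L116443) (flp_c L116391) L168677
theorem L168683 : sm gf N19856 = N13721 := ded_47_1 (flp_h L116891) (flp_f L116394) L168677
theorem L168685 : sm gg N19856 = N13665 := ded_50_1 (flp_h L116396) L116387 L168677
theorem L168687 : sm gd N13665 = N19857 := rfl
theorem L168689 : sm gb N19857 = N13851 := ded_20_1 (flp_d L118025) (flp_b L116398) L168687
theorem L168691 : sm gf N19857 = N13666 := ded_35_2 (flp_d L116404) (flp_f L116402) L168687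
theorem L168693 : sm gh N19857 = N19857 := ded_38_2 (flp_d L168687) (flp_h L116396) L80533 L116396 L168687
theorem L168694 : sm gi N13665 = N19858 := rfl
theorem L168696 : sm gb N19858 = N13852 := ded_26_1 (flp_i L118031) (flp_b L116398) L168694
theorem L168698 : sm gc N19858 = N13672 := ded_33_1 (flp_i L116451) (flp_c L116400) L168694
theorem L168700 : sm gf N19858 = N13667 := ded_48_1 (flp_i L116411) (flp_f L116402) L168694
theorem L168702 : sm ge N13666 = N19859 := rfl
theorem L168704 : sm gb N19859 = N13853 := ded_21_1 (flp_e L118037) (flp_b L116406) L168702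
theorem L168706 : sm gg N19859 = N13724 := ded_41_2 (flp_e L116916) (flp_g L116408) L168702
theorem L168708 : sm gh N19859 = N19859 := ded_43_2 (flp_e L168702) L116410 L168702
theorem L168709 : sm gd N19859 = N14414 := ded_34_1 (flp_e L122871) (flp_d L84854) (flp_e L80540) L116404 L168702
theorem L168711 : sm gi N13666 = N19860 := rfl
theorem L168713 : sm gb N19860 = N13854 := ded_26_1 (flp_i L118045) (flp_b L116406) L168711
theorem L168715 : sm gd N19860 = N13667 := ded_39_1 (flp_i L116411) L116404 L168711
theorem L168717 : sm gg N19860 = N13725 := ded_51_1 (flp_i L116924) (flp_g L116408) L168711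
theorem L168719 : sm gf N13668 = N19861 := rfl
theorem L168721 : sm gb N19861 = N13673 := ded_22_1 (flp_f L116457) (flp_b L116423) L168719
theorem L168723 : sm ge N19861 = N13726 := ded_40_1 (flp_f L116931) L80884 (flp_f L80556) (flp_e L116425) L168719
theorem L168725 : sm gg N19861 = N14416 := ded_45_2 (flp_f L122889) (flp_g L84871) (flp_f L80548) L116421 L168719
theorem L168727 : sm gj N13668 = N19862 := rfl
theorem L168729 : sm gb N19862 = N13674 := ded_24_1 (flp_j L116466) (flp_b L116423) L168727
theorem L168731 : sm ge N19862 = N13670 := ded_42_1 (flp_j L116435) (flp_e L116425) L168727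
theorem L168733 : sm gh N13668 = N19863 := rfl
theorem L168735 : sm gb N19863 = N13675 := ded_25_1 (flp_h L116473) (flp_b L116423) L168733
theorem L168737 : sm ge N19863 = N13671 := ded_43_1 (flp_h L116443) (flp_e L116425) L168733
theorem L168739 : sm gg N19863 = N13669 := ded_50_1 (flp_h L116427) L116421 L168733
theorem L168741 : sm gd N13669 = N19864 := rfl
theorem L168743 : sm gb N19864 = N13676 := ded_20_1 (flp_d L116482) (flp_b L116429) L168741
theorem L168745 : sm gf N19864 = N14419 := ded_35_2 (flp_d L122909) (flp_f L116433) L168741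
theorem L168747 : sm gi N13669 = N19865 := rfl
theorem L168749 : sm gb N19865 = N13677 := ded_26_1 (flp_i L116487) (flp_b L116429) L168747
theorem L168751 : sm ge N19865 = N13672 := ded_44_1 (flp_i L116451) (flp_e L116431) L168747
theorem L168753 : sm gf N19865 = N14420 := ded_48_1 (flp_i L122914) (flp_f L116433) L168747
theorem L168755 : sm gh N13670 = N19866 := rfl
theorem L168757 : sm gb N19866 = N13678 := ded_25_1 (flp_h L116496) (flp_b L116437) L168755
theorem L168759 : sm gf N19866 = N13731 := ded_47_1 (flp_h L116971) (flp_f L116441) L168755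
theorem L168761 : sm gj N19866 = N13671 := ded_52_1 (flp_h L116443) L116435 L168755
theorem L168763 : sm gi N13671 = N19867 := rfl
theorem L168765 : sm gb N19867 = N13679 := ded_26_1 (flp_i L116505) (flp_b L116445) L168763
theorem L168767 : sm gf N19867 = N13732 := ded_48_1 (flp_i L116978) (flp_f L116447) L168763
theorem L168769 : sm gg N19867 = N13672 := ded_51_1 (flp_i L116451) (flp_g L116449) L168763
theorem L168771 : sm gj N13673 = N19868 := rfl
theorem L168773 : sm ga N19868 = N19868 := ded_16_1 (flp_j L168771) L116459 L168771
theorem L168774 : sm gc N19868 = N13862 := ded_31_1 (flp_j L118110) (flp_c L116460) L168771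
theorem L168776 : sm ge N19868 = N13733 := ded_42_1 (flp_j L116984) (flp_e L116462) L168771
theorem L168778 : sm gf N19868 = N13674 := ded_46_1 (flp_j L116466) L116457 L168771
theorem L168780 : sm gh N13673 = N19869 := rfl
theorem L168782 : sm ga N19869 = N19869 := ded_17_1 (flp_h L168780) L116459 L168780
theorem L168783 : sm gc N19869 = N13863 := ded_32_1 (flp_h L118118) (flp_c L116460) L168780
theorem L168785 : sm ge N19869 = N13734 := ded_43_1 (flp_h L116992) (flp_e L116462) L168780
theorem L168787 : sm gf N19869 = N13675 := ded_47_1 (flp_h L116473) L116457 L168780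
theorem L168789 : sm gg N19869 = N14424 := ded_50_1 (flp_h L122947) (flp_g L116464) L168780
theorem L168791 : sm gh N13674 = N19870 := rfl
theorem L168793 : sm ga N19870 = N19870 := ded_17_1 (flp_h L168791) L116468 L168791
theorem L168794 : sm gc N19870 = N13864 := ded_32_1 (flp_h L118127) (flp_c L116469) L168791
theorem L168796 : sm ge N19870 = N13678 := ded_43_1 (flp_h L116496) (flp_e L116471) L168791
theorem L168798 : sm gj N19870 = N13675 := ded_52_1 (flp_h L116473) L116466 L168791
theorem L168800 : sm gd N13675 = N19871 := rfl
theorem L168802 : sm ga N19871 = N19871 := ded_12_1 (flp_d L168800) L116475 L168800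
theorem L168803 : sm gg N19871 = N13676 := ded_36_2 (flp_d L116482) (flp_g L116480) L168800
theorem L168805 : sm gi N13675 = N19872 := rfl
theorem L168807 : sm ga N19872 = N19872 := ded_18_1 (flp_i L168805) L116475 L168805
theorem L168808 : sm gc N19872 = N13866 := ded_33_1 (flp_i L118141) (flp_c L116476) L168805
theorem L168810 : sm ge N19872 = N13679 := ded_44_1 (flp_i L116505) (flp_e L116478) L168805
theorem L168812 : sm gg N19872 = N13677 := ded_51_1 (flp_i L116487) (flp_g L116480) L168805
theorem L168814 : sm gc N13676 = N19873 := rfl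
theorem L168816 : sm ga N19873 = N19873 := ded_11_1 (flp_c L168814) L116484 L168814
theorem L168817 : sm gf N19873 = N14428 := ded_29_2 (flp_c L122980) (flp_f L116485) L168814
theorem L168819 : sm gd N19873 = N13867 := ded_27_2 (flp_c L118148) (flp_d L81691) (flp_c L80589) L116482 L168814
theorem L168821 : sm gi N13676 = N19874 := rfl
theorem L168823 : sm ga N19874 = N19874 := ded_18_1 (flp_i L168821) L116484 L168821
theorem L168824 : sm gd N19874 = N13677 := ded_39_1 (flp_i L116487) L116482 L168821
theorem L168826 : sm gf N19874 = N14429 := ded_48_1 (flp_i L122986) (flp_f L116485) L168821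
theorem L168828 : sm gi N13678 = N19875 := rfl
theorem L168830 : sm ga N19875 = N19875 := ded_18_1 (flp_i L168828) L116498 L168828
theorem L168831 : sm gc N19875 = N13869 := ded_33_1 (flp_i L118163) (flp_c L116499) L168828
theorem L168833 : sm gf N19875 = N13740 := ded_48_1 (flp_i L117043) (flp_f L116501) L168828
theorem L168835 : sm gj N19875 = N13679 := ded_53_1 (flp_i L116505) (flp_j L116503) L168828
theorem L168837 : sm gf N13680 = N19876 := rfl
theorem L168839 : sm ga N19876 = N13895 := ded_14_1 (flp_f L118389) (flp_a L116522) L168837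
theorem L168841 : sm gb N19876 = N13681 := ded_22_1 (flp_f L116525) L116514 L168837
theorem L168846 : sm gi N19876 = N13705 := ded_48_2 (flp_f L116755) (flp_i L116520) L168837
theorem L168848 : sm gh N13680 = N19877 := rfl
theorem L168850 : sm ga N19877 = N13896 := ded_17_1 (flp_h L118398) (flp_a L116522) L168848
theorem L168858 : sm ge N13681 = N19878 := rfl
theorem L168860 : sm ga N19878 = N13688 := ded_13_1 (flp_e L116595) (flp_a L116527) L168858
theorem L168862 : sm gc N19878 = N13683 := ded_28_1 (flp_e L116544) (flp_c L116529) L168858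
theorem L168865 : sm gi N19878 = N13707 := ded_44_2 (flp_e L116774) (flp_i L116533) L168858
theorem L168869 : sm gg N13681 = N19879 := rfl
theorem L168871 : sm ga N19879 = N13689 := ded_15_1 (flp_g L116606) (flp_a L116527) L168869
theorem L168876 : sm gi N19879 = N13708 := ded_51_2 (flp_g L116783) (flp_i L116533) L168869
theorem L168878 : sm gh N13681 = N19880 := rfl
theorem L168884 : sm gf N19880 = N13682 := ded_47_1 (flp_h L116535) L116525 L168878
theorem L168887 : sm gd N13682 = N19881 := rfl
theorem L168889 : sm ga N19881 = N13691 := ded_12_1 (flp_d L116624) (flp_a L116537) L168887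
theorem L168894 : sm gi N13682 = N19882 := rfl
theorem L168896 : sm ga N19882 = N13692 := ded_18_1 (flp_i L116631) (flp_a L116537) L168894
theorem L168903 : sm gh N19882 = N13711 := ded_54_1 (flp_i L116805) (flp_h L80790) (flp_i L80627) L116535 L168894
theorem L168905 : sm gg N13683 = N19883 := rfl
theorem L168907 : sm ga N19883 = N13693 := ded_15_1 (flp_g L116642) (flp_a L116546) L168905
theorem L168911 : sm ge N19883 = N13684 := ded_41_1 (flp_g L116555) L116544 L168905
theorem L168913 : sm gi N19883 = N13712 := ded_51_2 (flp_g L116814) (flp_i L116550) L168905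
theorem L168915 : sm gh N13683 = N19884 := rfl
theorem L168917 : sm ga N19884 = N13694 := ded_17_1 (flp_h L116651) (flp_a L116546) L168915
theorem L168920 : sm ge N19884 = N13685 := ded_43_1 (flp_h L116564) L116544 L168915
theorem L168922 : sm gf N19884 = N14464 := ded_47_1 (flp_h L123293) (flp_f L116553) L168915
theorem L168925 : sm gj N13684 = N19885 := rfl
theorem L168927 : sm ga N19885 = N13695 := ded_16_1 (flp_j L116660) (flp_a L116557) L168925
theorem L168932 : sm gi N19885 = N13714 := ded_53_2 (flp_j L116832) (flp_i L116562) L168925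
theorem L168935 : sm gh N13684 = N19886 := rfl
theorem L168940 : sm gg N19886 = N13685 := ded_50_1 (flp_h L116564) L116555 L168935
theorem L168943 : sm gi N13685 = N19887 := rfl
theorem L168945 : sm ga N19887 = N13697 := ded_18_1 (flp_i L116676) (flp_a L116566) L168943
theorem L168949 : sm gf N19887 = N13686 := ded_48_1 (flp_i L116573) (flp_f L116569) L168943
theorem L168952 : sm gh N19887 = N13716 := ded_54_1 (flp_i L116847) (flp_h L80815) (flp_i L80638) L116564 L168943
theorem L168954 : sm gd N13688 = N19888 := rfl
theorem L168956 : sm gb N19888 = N13907 := ded_20_1 (flp_d L118500) (flp_b L116597) L168954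
theorem L168958 : sm gf N19888 = N14468 := ded_35_2 (flp_d L123328) (flp_f L116604) L168954
theorem L168960 : sm gj N19888 = N19888 := ded_37_2 (flp_d L168954) L116601 L168954
theorem L168961 : sm gi N19888 = N13717 := ded_39_2 (flp_d L116855) (flp_i L116602) L168954
theorem L168963 : sm gc N19888 = N19888 := ded_27_1 (flp_d L168954) L116599 L80685 (flp_c L116599) L168954
theorem L168964 : sm ge N19888 = N19888 := ded_34_2 (flp_d L168954) (flp_e L116595) L80665 L116595 L168954
theorem L168965 : sm gg N13688 = N19889 := rfl
theorem L168967 : sm gb N19889 = N13908 := ded_23_1 (flp_g L118510) (flp_b L116597) L168965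
theorem L168969 : sm gc N19889 = N13693 := ded_30_1 (flp_g L116642) (flp_c L116599) L168965
theorem L168971 : sm ge N19889 = N13689 := ded_41_1 (flp_g L116606) L116595 L168965
theorem L168973 : sm gi N19889 = N13718 := ded_51_2 (flp_g L116864) (flp_i L116602) L168965
theorem L168975 : sm gh N13688 = N19890 := rfl
theorem L168977 : sm gb N19890 = N13909 := ded_25_1 (flp_h L118518) (flp_b L116597) L168975
theorem L168979 : sm gc N19890 = N13694 := ded_32_1 (flp_h L116651) (flp_c L116599) L168975
theorem L168981 : sm ge N19890 = N13690 := ded_43_1 (flp_h L116615) L116595 L168975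
theorem L168983 : sm gf N19890 = N14470 := ded_47_1 (flp_h L123348) (flp_f L116604) L168975
theorem L168985 : sm gj N19890 = N19890 := ded_52_1 (flp_h L168975) L116601 L168975
theorem L168986 : sm gj N13689 = N19891 := rfl
theorem L168988 : sm gb N19891 = N13910 := ded_24_1 (flp_j L118527) (flp_b L116608) L168986
theorem L168990 : sm gc N19891 = N13695 := ded_31_1 (flp_j L116660) (flp_c L116610) L168986
theorem L168992 : sm gd N19891 = N19891 := ded_37_1 (flp_j L168986) L116612 L168986
theorem L168993 : sm gi N19891 = N13720 := ded_53_2 (flp_j L116883) (flp_i L116613) L168986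
theorem L168995 : sm gg N19891 = N19891 := ded_49_1 (flp_j L168986) (flp_g L116606) L80666 L116606 L168986
theorem L168996 : sm gh N13689 = N19892 := rfl
theorem L168998 : sm gb N19892 = N13911 := ded_25_1 (flp_h L118535) (flp_b L116608) L168996
theorem L169000 : sm gc N19892 = N13696 := ded_32_1 (flp_h L116669) (flp_c L116610) L168996
theorem L169002 : sm gg N19892 = N13690 := ded_50_1 (flp_h L116615) L116606 L168996
theorem L169004 : sm gd N13690 = N19893 := rfl
theorem L169006 : sm gb N19893 = N13912 := ded_20_1 (flp_d L118541) (flp_b L116617) L169004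
theorem L169008 : sm gf N19893 = N13691 := ded_35_2 (flp_d L116624) (flp_f L116621) L169004
theorem L169010 : sm gj N19893 = N19893 := ded_37_2 (flp_d L169004) L116623 L169004
theorem L169011 : sm gc N19893 = N19893 := ded_27_1 (flp_d L169004) L116619 L80703 (flp_c L116619) L169004
theorem L169012 : sm gh N19893 = N19893 := ded_38_2 (flp_d L169004) (flp_h L116615) L80665 L116615 L169004
theorem L169013 : sm gi N13690 = N19894 := rfl
theorem L169015 : sm gb N19894 = N13913 := ded_26_1 (flp_i L118547) (flp_b L116617) L169013
theorem L169017 : sm gc N19894 = N13697 := ded_33_1 (flp_i L116676) (flp_c L116619) L169013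
theorem L169019 : sm gf N19894 = N13692 := ded_48_1 (flp_i L116631) (flp_f L116621) L169013
theorem L169021 : sm gj N19894 = N19894 := ded_53_1 (flp_i L169013) L116623 L169013
theorem L169022 : sm gh N19894 = N13723 := ded_54_1 (flp_i L116907) (flp_h L80855) (flp_i L80667) L116615 L169013
theorem L169024 : sm ge N13691 = N19895 := rfl
theorem L169026 : sm gb N19895 = N13914 := ded_21_1 (flp_e L118556) (flp_b L116626) L169024
theorem L169031 : sm gd N19895 = N14475 := ded_34_1 (flp_e L123396) (flp_d L85202) (flp_e L80675) L116624 L169024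
theorem L169033 : sm gi N13691 = N19896 := rfl
theorem L169035 : sm gb N19896 = N13915 := ded_26_1 (flp_i L118562) (flp_b L116626) L169033
theorem L169037 : sm gc N19896 = N19896 := ded_33_1 (flp_i L169033) L116629 L169033
theorem L169038 : sm gd N19896 = N13692 := ded_39_1 (flp_i L116631) L116624 L169033
theorem L169040 : sm gj N19896 = N19896 := ded_53_1 (flp_i L169033) L116628 L169033
theorem L169041 : sm gf N13693 = N19897 := rfl
theorem L169043 : sm gb N19897 = N13698 := ded_22_1 (flp_f L116686) (flp_b L116644) L169041
theorem L169045 : sm gd N19897 = N19897 := ded_35_1 (flp_f L169041) L116646 L169041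
theorem L169046 : sm gi N19897 = N13726 := ded_48_2 (flp_f L116931) (flp_i L116649) L169041
theorem L169048 : sm gg N19897 = N14477 := ded_45_2 (flp_f L123410) (flp_g L85218) (flp_f L80686) L116642 L169041
theorem L169050 : sm gj N13693 = N19898 := rfl
theorem L169052 : sm gb N19898 = N13699 := ded_24_1 (flp_j L116696) (flp_b L116644) L169050
theorem L169054 : sm gd N19898 = N19898 := ded_37_1 (flp_j L169050) L116646 L169050
theorem L169055 : sm ge N19898 = N13695 := ded_42_1 (flp_j L116660) (flp_e L116647) L169050
theorem L169057 : sm gi N19898 = N13727 := ded_53_2 (flp_j L116938) (flp_i L116649) L169050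
theorem L169059 : sm gg N19898 = N19898 := ded_49_1 (flp_j L169050) (flp_g L116642) L80682 L116642 L169050
theorem L169060 : sm gh N13693 = N19899 := rfl
theorem L169062 : sm gb N19899 = N13700 := ded_25_1 (flp_h L116707) (flp_b L116644) L169060
theorem L169064 : sm ge N19899 = N13696 := ded_43_1 (flp_h L116669) (flp_e L116647) L169060
theorem L169066 : sm gg N19899 = N13694 := ded_50_1 (flp_h L116651) L116642 L169060
theorem L169068 : sm gd N13694 = N19900 := rfl
theorem L169070 : sm gb N19900 = N13701 := ded_20_1 (flp_d L116716) (flp_b L116653) L169068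
theorem L169072 : sm gf N19900 = N14480 := ded_35_2 (flp_d L123435) (flp_f L116657) L169068
theorem L169074 : sm gj N19900 = N19900 := ded_37_2 (flp_d L169068) L116659 L169068
theorem L169075 : sm ge N19900 = N19900 := ded_34_2 (flp_d L169068) L116655 L80703 (flp_e L116655) L169068
theorem L169076 : sm gh N19900 = N19900 := ded_38_2 (flp_d L169068) (flp_h L116651) L80685 L116651 L169068
theorem L169077 : sm gi N13694 = N19901 := rfl
theorem L169079 : sm gb N19901 = N13702 := ded_26_1 (flp_i L116724) (flp_b L116653) L169077
theorem L169081 : sm ge N19901 = N13697 := ded_44_1 (flp_i L116676) (flp_e L116655) L169077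
theorem L169083 : sm gf N19901 = N14481 := ded_48_1 (flp_i L123441) (flp_f L116657) L169077
theorem L169085 : sm gj N19901 = N19901 := ded_53_1 (flp_i L169077) L116659 L169077
theorem L169086 : sm gh N19901 = N13730 := ded_54_1 (flp_i L116962) (flp_h L80886) (flp_i L80683) L116651 L169077
theorem L169088 : sm gh N13695 = N19902 := rfl
theorem L169090 : sm gb N19902 = N13703 := ded_25_1 (flp_h L116736) (flp_b L116662) L169088
theorem L169092 : sm gg N19902 = N19902 := ded_50_1 (flp_h L169088) L116668 L169088
theorem L169093 : sm gj N19902 = N13696 := ded_52_1 (flp_h L116669) L116660 L169088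
theorem L169095 : sm gd N19902 = N19902 := ded_38_1 (flp_h L169088) L116664 L80720 (flp_d L116664) L169088
theorem L169096 : sm gi N13696 = N19903 := rfl
theorem L169098 : sm gb N19903 = N13704 := ded_26_1 (flp_i L116745) (flp_b L116671) L169096
theorem L169100 : sm gd N19903 = N19903 := ded_39_1 (flp_i L169096) L116675 L169096
theorem L169101 : sm gg N19903 = N13697 := ded_51_1 (flp_i L116676) (flp_g L116673) L169096
theorem L169103 : sm gh N19903 = N13732 := ded_54_1 (flp_i L116978) (flp_h L80902) (flp_i L80694) L116669 L169096
theorem L169105 : sm gj N13698 = N19904 := rfl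
theorem L169107 : sm ga N19904 = N19904 := ded_16_1 (flp_j L169105) L116688 L169105
theorem L169108 : sm gc N19904 = N13923 := ded_31_1 (flp_j L118631) (flp_c L116689) L169105
theorem L169110 : sm gd N19904 = N19904 := ded_37_1 (flp_j L169105) L116691 L169105
theorem L169111 : sm gf N19904 = N13699 := ded_46_1 (flp_j L116696) L116686 L169105
theorem L169113 : sm gi N19904 = N13733 := ded_53_2 (flp_j L116984) (flp_i L116692) L169105
theorem L169115 : sm gh N13698 = N19905 := rfl
theorem L169117 : sm ga N19905 = N19905 := ded_17_1 (flp_h L169115) L116688 L169115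
theorem L169118 : sm gc N19905 = N13924 := ded_32_1 (flp_h L118640) (flp_c L116689) L169115
theorem L169120 : sm gf N19905 = N13700 := ded_47_1 (flp_h L116707) L116686 L169115
theorem L169122 : sm gg N19905 = N14485 := ded_50_1 (flp_h L123475) (flp_g L116694) L169115
theorem L169124 : sm gh N13699 = N19906 := rfl
theorem L169126 : sm ga N19906 = N19906 := ded_17_1 (flp_h L169124) L116698 L169124
theorem L169127 : sm gc N19906 = N13925 := ded_32_1 (flp_h L118647) (flp_c L116699) L169124
theorem L169129 : sm ge N19906 = N13703 := ded_43_1 (flp_h L116736) (flp_e L116702) L169124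
theorem L169131 : sm gg N19906 = N19906 := ded_50_1 (flp_h L169124) L116706 L169124
theorem L169132 : sm gj N19906 = N13700 := ded_52_1 (flp_h L116707) L116696 L169124
theorem L169134 : sm gd N13700 = N19907 := rfl
theorem L169136 : sm ga N19907 = N19907 := ded_12_1 (flp_d L169134) L116709 L169134
theorem L169137 : sm gg N19907 = N13701 := ded_36_2 (flp_d L116716) (flp_g L116714) L169134
theorem L169139 : sm ge N19907 = N19907 := ded_34_2 (flp_d L169134) L116712 L80761 (flp_e L116712) L169134
theorem L169140 : sm gh N19907 = N19907 := ded_38_2 (flp_d L169134) (flp_h L116707) L80729 L116707 L169134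
theorem L169141 : sm gi N13700 = N19908 := rfl
theorem L169143 : sm ga N19908 = N19908 := ded_18_1 (flp_i L169141) L116709 L169141
theorem L169144 : sm gc N19908 = N13927 := ded_33_1 (flp_i L118662) (flp_c L116710) L169141
theorem L169146 : sm ge N19908 = N13704 := ded_44_1 (flp_i L116745) (flp_e L116712) L169141
theorem L169148 : sm gg N19908 = N13702 := ded_51_1 (flp_i L116724) (flp_g L116714) L169141
theorem L169150 : sm gh N19908 = N13737 := ded_54_1 (flp_i L117017) (flp_h L80932) (flp_i L80732) L116707 L169141
theorem L169152 : sm gc N13701 = N19909 := rfl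
theorem L169154 : sm ga N19909 = N19909 := ded_11_1 (flp_c L169152) L116718 L169152
theorem L169155 : sm ge N19909 = N19909 := ded_28_2 (flp_c L169152) L116722 L169152
theorem L169156 : sm gf N19909 = N14489 := ded_29_2 (flp_c L123509) (flp_f L116719) L169152
theorem L169158 : sm gj N19909 = N19909 := ded_31_2 (flp_c L169152) L116721 L169152
theorem L169159 : sm gh N19909 = N19909 := ded_32_2 (flp_c L169152) L116723 L169152
theorem L169160 : sm gd N19909 = N13928 := ded_27_2 (flp_c L118671) (flp_d L82044) (flp_c L80737) L116716 L169152
theorem L169162 : sm gi N13701 = N19910 := rfl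
theorem L169164 : sm ga N19910 = N19910 := ded_18_1 (flp_i L169162) L116718 L169162
theorem L169165 : sm gd N19910 = N13702 := ded_39_1 (flp_i L116724) L116716 L169162
theorem L169167 : sm ge N19910 = N19910 := ded_44_1 (flp_i L169162) L116722 L169162
theorem L169168 : sm gf N19910 = N14490 := ded_48_1 (flp_i L123516) (flp_f L116719) L169162
theorem L169170 : sm gj N19910 = N19910 := ded_53_1 (flp_i L169162) L116721 L169162
theorem L169171 : sm gi N13703 = N19911 := rfl
theorem L169173 : sm ga N19911 = N19911 := ded_18_1 (flp_i L169171) L116738 L169171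
theorem L169174 : sm gc N19911 = N13930 := ded_33_1 (flp_i L118687) (flp_c L116739) L169171
theorem L169176 : sm gd N19911 = N19911 := ded_39_1 (flp_i L169171) L116744 L169171
theorem L169177 : sm gg N19911 = N19911 := ded_51_1 (flp_i L169171) L116741 L169171
theorem L169178 : sm gj N19911 = N13704 := ded_53_1 (flp_i L116745) (flp_j L116742) L169171
theorem L169180 : sm gh N19911 = N13740 := ded_54_1 (flp_i L117043) (flp_h L80958) (flp_i L80751) L116736 L169171
theorem L169182 : sm ge N13705 = N19912 := rfl
theorem L169184 : sm ga N19912 = N13931 := ded_13_1 (flp_e L118695) (flp_a L116757) L169182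
theorem L169186 : sm gb N19912 = N13707 := ded_21_1 (flp_e L116774) (flp_b L116759) L169182
theorem L169188 : sm gc N19912 = N19912 := ded_28_1 (flp_e L169182) L116761 L169182
theorem L169189 : sm gj N19912 = N19912 := ded_42_2 (flp_e L169182) L116763 L169182
theorem L169190 : sm gf N19912 = N14492 := ded_40_2 (flp_e L123532) (flp_f L85318) (flp_e L80776) L116755 L169182
theorem L169192 : sm gg N13705 = N19913 := rfl
theorem L169194 : sm ga N19913 = N13932 := ded_15_1 (flp_g L118703) (flp_a L116757) L169192
theorem L169196 : sm gb N19913 = N13708 := ded_23_1 (flp_g L116783) (flp_b L116759) L169192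
theorem L169198 : sm gc N19913 = N19913 := ded_30_1 (flp_g L169192) L116761 L169192
theorem L169199 : sm gd N19913 = N19913 := ded_36_1 (flp_g L169192) L116762 L169192
theorem L169200 : sm gh N13705 = N19914 := rfl
theorem L169202 : sm ga N19914 = N13933 := ded_17_1 (flp_h L118709) (flp_a L116757) L169200
theorem L169204 : sm gb N19914 = N13709 := ded_25_1 (flp_h L116790) (flp_b L116759) L169200
theorem L169206 : sm gc N19914 = N19914 := ded_32_1 (flp_h L169200) L116761 L169200
theorem L169207 : sm gf N19914 = N13706 := ded_47_1 (flp_h L116764) L116755 L169200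
theorem L169209 : sm gj N19914 = N19914 := ded_52_1 (flp_h L169200) L116763 L169200
theorem L169210 : sm gd N13706 = N19915 := rfl
theorem L169212 : sm ga N19915 = N13934 := ded_12_1 (flp_d L118717) (flp_a L116766) L169210
theorem L169214 : sm gb N19915 = N13710 := ded_20_1 (flp_d L116799) (flp_b L116768) L169210
theorem L169216 : sm gj N19915 = N19915 := ded_37_2 (flp_d L169210) L116773 L169210
theorem L169217 : sm gh N19915 = N19915 := ded_38_2 (flp_d L169210) (flp_h L116764) L80775 L116764 L169210
theorem L169218 : sm gi N13706 = N19916 := rfl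
theorem L169220 : sm ga N19916 = N13935 := ded_18_1 (flp_i L118723) (flp_a L116766) L169218
theorem L169222 : sm gb N19916 = N13711 := ded_26_1 (flp_i L116805) (flp_b L116768) L169218
theorem L169224 : sm gc N19916 = N19916 := ded_33_1 (flp_i L169218) L116770 L169218
theorem L169225 : sm ge N19916 = N14496 := ded_44_1 (flp_i L123568) (flp_e L116771) L169218
theorem L169227 : sm gj N19916 = N19916 := ded_53_1 (flp_i L169218) L116773 L169218
theorem L169228 : sm gd N13707 = N19917 := rfl
theorem L169230 : sm ga N19917 = N13717 := ded_12_1 (flp_d L116855) (flp_a L116776) L169228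
theorem L169232 : sm gf N19917 = N14497 := ded_35_2 (flp_d L123576) (flp_f L116781) L169228
theorem L169234 : sm gj N19917 = N19917 := ded_37_2 (flp_d L169228) L116780 L169228
theorem L169235 : sm gc N19917 = N19917 := ded_27_1 (flp_d L169228) L116778 L80805 (flp_c L116778) L169228
theorem L169236 : sm ge N19917 = N19917 := ded_34_2 (flp_d L169228) (flp_e L116774) L80788 L116774 L169228
theorem L169237 : sm gg N13707 = N19918 := rfl
theorem L169239 : sm ga N19918 = N13718 := ded_15_1 (flp_g L116864) (flp_a L116776) L169237
theorem L169241 : sm gc N19918 = N13712 := ded_30_1 (flp_g L116814) (flp_c L116778) L169237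
theorem L169243 : sm ge N19918 = N13708 := ded_41_1 (flp_g L116783) L116774 L169237
theorem L169245 : sm gh N13707 = N19919 := rfl
theorem L169247 : sm ga N19919 = N13719 := ded_17_1 (flp_h L116872) (flp_a L116776) L169245
theorem L169249 : sm gc N19919 = N13713 := ded_32_1 (flp_h L116822) (flp_c L116778) L169245
theorem L169251 : sm ge N19919 = N13709 := ded_43_1 (flp_h L116790) L116774 L169245
theorem L169253 : sm gf N19919 = N14499 := ded_47_1 (flp_h L123592) (flp_f L116781) L169245
theorem L169255 : sm gj N19919 = N19919 := ded_52_1 (flp_h L169245) L116780 L169245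
theorem L169256 : sm gj N13708 = N19920 := rfl
theorem L169258 : sm ga N19920 = N13720 := ded_16_1 (flp_j L116883) (flp_a L116785) L169256
theorem L169260 : sm gc N19920 = N13714 := ded_31_1 (flp_j L116832) (flp_c L116787) L169256
theorem L169262 : sm gd N19920 = N19920 := ded_37_1 (flp_j L169256) L116789 L169256
theorem L169263 : sm gg N19920 = N19920 := ded_49_1 (flp_j L169256) (flp_g L116783) L80789 L116783 L169256
theorem L169264 : sm gh N13708 = N19921 := rfl
theorem L169266 : sm ga N19921 = N13721 := ded_17_1 (flp_h L116891) (flp_a L116785) L169264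
theorem L169268 : sm gc N19921 = N13715 := ded_32_1 (flp_h L116840) (flp_c L116787) L169264
theorem L169270 : sm gg N19921 = N13709 := ded_50_1 (flp_h L116790) L116783 L169264
theorem L169272 : sm gd N13709 = N19922 := rfl
theorem L169274 : sm ga N19922 = N13722 := ded_12_1 (flp_d L116899) (flp_a L116792) L169272
theorem L169276 : sm gf N19922 = N13710 := ded_35_2 (flp_d L116799) (flp_f L116796) L169272
theorem L169278 : sm gj N19922 = N19922 := ded_37_2 (flp_d L169272) L116798 L169272
theorem L169279 : sm gh N19922 = N19922 := ded_38_2 (flp_d L169272) (flp_h L116790) L80788 L116790 L169272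
theorem L169280 : sm gi N13709 = N19923 := rfl
theorem L169282 : sm ga N19923 = N13723 := ded_18_1 (flp_i L116907) (flp_a L116792) L169280
theorem L169284 : sm gc N19923 = N13716 := ded_33_1 (flp_i L116847) (flp_c L116794) L169280
theorem L169286 : sm gf N19923 = N13711 := ded_48_1 (flp_i L116805) (flp_f L116796) L169280
theorem L169288 : sm gj N19923 = N19923 := ded_53_1 (flp_i L169280) L116798 L169280
theorem L169289 : sm ge N13710 = N19924 := rfl
theorem L169291 : sm ga N19924 = N13724 := ded_13_1 (flp_e L116916) (flp_a L116801) L169289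
theorem L169293 : sm gj N19924 = N19924 := ded_42_2 (flp_e L169289) L116803 L169289
theorem L169294 : sm gh N19924 = N19924 := ded_43_2 (flp_e L169289) L116804 L169289
theorem L169295 : sm gd N19924 = N14504 := ded_34_1 (flp_e L123637) (flp_d L85360) (flp_e L80796) L116799 L169289
theorem L169297 : sm gi N13710 = N19925 := rfl
theorem L169299 : sm ga N19925 = N13725 := ded_18_1 (flp_i L116924) (flp_a L116801) L169297
theorem L169301 : sm gd N19925 = N13711 := ded_39_1 (flp_i L116805) L116799 L169297
theorem L169303 : sm gj N19925 = N19925 := ded_53_1 (flp_i L169297) L116803 L169297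
theorem L169304 : sm gf N13712 = N19926 := rfl
theorem L169306 : sm ga N19926 = N13726 := ded_14_1 (flp_f L116931) (flp_a L116816) L169304
theorem L169308 : sm gb N19926 = N19926 := ded_22_1 (flp_f L169304) L116818 L169304
theorem L169309 : sm gd N19926 = N19926 := ded_35_1 (flp_f L169304) L116819 L169304
theorem L169310 : sm gg N19926 = N14506 := ded_45_2 (flp_f L123653) (flp_g L85375) (flp_f L80806) L116814 L169304
theorem L169312 : sm gj N13712 = N19927 := rfl
theorem L169314 : sm ga N19927 = N13727 := ded_16_1 (flp_j L116938) (flp_a L116816) L169312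
theorem L169316 : sm gb N19927 = N19927 := ded_24_1 (flp_j L169312) L116818 L169312
theorem L169317 : sm gd N19927 = N19927 := ded_37_1 (flp_j L169312) L116819 L169312
theorem L169318 : sm ge N19927 = N13714 := ded_42_1 (flp_j L116832) (flp_e L116820) L169312
theorem L169320 : sm gg N19927 = N19927 := ded_49_1 (flp_j L169312) (flp_g L116814) L80804 L116814 L169312
theorem L169321 : sm gh N13712 = N19928 := rfl
theorem L169323 : sm ga N19928 = N13728 := ded_17_1 (flp_h L116946) (flp_a L116816) L169321
theorem L169325 : sm gb N19928 = N19928 := ded_25_1 (flp_h L169321) L116818 L169321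
theorem L169326 : sm ge N19928 = N13715 := ded_43_1 (flp_h L116840) (flp_e L116820) L169321
theorem L169328 : sm gg N19928 = N13713 := ded_50_1 (flp_h L116822) L116814 L169321
theorem L169330 : sm gd N13713 = N19929 := rfl
theorem L169332 : sm ga N19929 = N13729 := ded_12_1 (flp_d L116954) (flp_a L116824) L169330
theorem L169334 : sm gb N19929 = N19929 := ded_20_1 (flp_d L169330) L116826 L169330
theorem L169335 : sm gf N19929 = N14509 := ded_35_2 (flp_d L123677) (flp_f L116829) L169330
theorem L169337 : sm gj N19929 = N19929 := ded_37_2 (flp_d L169330) L116831 L169330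
theorem L169338 : sm gh N19929 = N19929 := ded_38_2 (flp_d L169330) (flp_h L116822) L80805 L116822 L169330
theorem L169339 : sm gi N13713 = N19930 := rfl
theorem L169341 : sm ga N19930 = N13730 := ded_18_1 (flp_i L116962) (flp_a L116824) L169339
theorem L169343 : sm gb N19930 = N19930 := ded_26_1 (flp_i L169339) L116826 L169339
theorem L169344 : sm ge N19930 = N13716 := ded_44_1 (flp_i L116847) (flp_e L116827) L169339
theorem L169346 : sm gf N19930 = N14510 := ded_48_1 (flp_i L123685) (flp_f L116829) L169339
theorem L169348 : sm gj N19930 = N19930 := ded_53_1 (flp_i L169339) L116831 L169339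
theorem L169349 : sm gh N13714 = N19931 := rfl
theorem L169351 : sm ga N19931 = N13731 := ded_17_1 (flp_h L116971) (flp_a L116834) L169349
theorem L169353 : sm gb N19931 = N19931 := ded_25_1 (flp_h L169349) L116836 L169349
theorem L169354 : sm gg N19931 = N19931 := ded_50_1 (flp_h L169349) L116839 L169349
theorem L169355 : sm gj N19931 = N13715 := ded_52_1 (flp_h L116840) L116832 L169349
theorem L169357 : sm gi N13715 = N19932 := rfl
theorem L169359 : sm ga N19932 = N13732 := ded_18_1 (flp_i L116978) (flp_a L116842) L169357
theorem L169361 : sm gb N19932 = N19932 := ded_26_1 (flp_i L169357) L116844 L169357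
theorem L169362 : sm gg N19932 = N13716 := ded_51_1 (flp_i L116847) (flp_g L116845) L169357
theorem L169364 : sm gg N13717 = N19933 := rfl
theorem L169366 : sm gb N19933 = N13952 := ded_23_1 (flp_g L118877) (flp_b L116857) L169364
theorem L169368 : sm gc N19933 = N19933 := ded_30_1 (flp_g L169364) L116862 L169364
theorem L169369 : sm gd N19933 = N13718 := ded_36_1 (flp_g L116864) L116855 L169364
theorem L169371 : sm ge N19933 = N19933 := ded_41_1 (flp_g L169364) L116863 L169364
theorem L169372 : sm gh N13717 = N19934 := rfl
theorem L169374 : sm gb N19934 = N13953 := ded_25_1 (flp_h L118884) (flp_b L116857) L169372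
theorem L169376 : sm gc N19934 = N19934 := ded_32_1 (flp_h L169372) L116862 L169372
theorem L169377 : sm ge N19934 = N19934 := ded_43_1 (flp_h L169372) L116863 L169372
theorem L169378 : sm gf N19934 = N14514 := ded_47_1 (flp_h L123719) (flp_f L116859) L169372
theorem L169380 : sm gj N19934 = N19934 := ded_52_1 (flp_h L169372) L116861 L169372
theorem L169381 : sm gf N13718 = N19935 := rfl
theorem L169383 : sm gb N19935 = N13954 := ded_22_1 (flp_f L118892) (flp_b L116866) L169381
theorem L169385 : sm gc N19935 = N13726 := ded_29_1 (flp_f L116931) (flp_c L116868) L169381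
theorem L169387 : sm gg N19935 = N14515 := ded_45_2 (flp_f L123727) (flp_g L85424) (flp_f L80846) L116864 L169381
theorem L169389 : sm gj N13718 = N19936 := rfl
theorem L169391 : sm gb N19936 = N13955 := ded_24_1 (flp_j L118898) (flp_b L116866) L169389
theorem L169393 : sm gc N19936 = N13727 := ded_31_1 (flp_j L116938) (flp_c L116868) L169389
theorem L169395 : sm ge N19936 = N13720 := ded_42_1 (flp_j L116883) (flp_e L116870) L169389
theorem L169397 : sm gg N19936 = N19936 := ded_49_1 (flp_j L169389) (flp_g L116864) L80845 L116864 L169389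
theorem L169398 : sm gh N13718 = N19937 := rfl
theorem L169400 : sm gb N19937 = N13956 := ded_25_1 (flp_h L118905) (flp_b L116866) L169398
theorem L169402 : sm gc N19937 = N13728 := ded_32_1 (flp_h L116946) (flp_c L116868) L169398
theorem L169404 : sm ge N19937 = N13721 := ded_43_1 (flp_h L116891) (flp_e L116870) L169398
theorem L169406 : sm gg N19937 = N13719 := ded_50_1 (flp_h L116872) L116864 L169398
theorem L169408 : sm gd N13719 = N19938 := rfl
theorem L169410 : sm gb N19938 = N13957 := ded_20_1 (flp_d L118913) (flp_b L116874) L169408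
theorem L169412 : sm gf N19938 = N14518 := ded_35_2 (flp_d L123752) (flp_f L116880) L169408
theorem L169414 : sm gj N19938 = N19938 := ded_37_2 (flp_d L169408) L116882 L169408
theorem L169415 : sm gi N13719 = N19939 := rfl
theorem L169417 : sm gb N19939 = N13958 := ded_26_1 (flp_i L118918) (flp_b L116874) L169415
theorem L169419 : sm gc N19939 = N13730 := ded_33_1 (flp_i L116962) (flp_c L116876) L169415
theorem L169421 : sm ge N19939 = N13723 := ded_44_1 (flp_i L116907) (flp_e L116878) L169415
theorem L169423 : sm gf N19939 = N14519 := ded_48_1 (flp_i L123757) (flp_f L116880) L169415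
theorem L169425 : sm gj N19939 = N19939 := ded_53_1 (flp_i L169415) L116882 L169415
theorem L169426 : sm gh N13720 = N19940 := rfl
theorem L169428 : sm gb N19940 = N13959 := ded_25_1 (flp_h L118927) (flp_b L116885) L169426
theorem L169430 : sm gc N19940 = N13731 := ded_32_1 (flp_h L116971) (flp_c L116887) L169426
theorem L169432 : sm gg N19940 = N19940 := ded_50_1 (flp_h L169426) L116890 L169426
theorem L169433 : sm gj N19940 = N13721 := ded_52_1 (flp_h L116891) L116883 L169426
theorem L169435 : sm gd N13721 = N19941 := rfl
theorem L169437 : sm gb N19941 = N13960 := ded_20_1 (flp_d L118934) (flp_b L116893) L169435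
theorem L169439 : sm gg N19941 = N13722 := ded_36_2 (flp_d L116899) (flp_g L116897) L169435
theorem L169441 : sm gh N19941 = N19941 := ded_38_2 (flp_d L169435) (flp_h L116891) L80854 L116891 L169435
theorem L169442 : sm gi N13721 = N19942 := rfl
theorem L169444 : sm gb N19942 = N13961 := ded_26_1 (flp_i L118940) (flp_b L116893) L169442
theorem L169446 : sm gc N19942 = N13732 := ded_33_1 (flp_i L116978) (flp_c L116895) L169442
theorem L169448 : sm gg N19942 = N13723 := ded_51_1 (flp_i L116907) (flp_g L116897) L169442
theorem L169450 : sm ge N13722 = N19943 := rfl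
theorem L169452 : sm gb N19943 = N13962 := ded_21_1 (flp_e L118946) (flp_b L116901) L169450
theorem L169454 : sm gj N19943 = N19943 := ded_42_2 (flp_e L169450) L116905 L169450
theorem L169455 : sm gh N19943 = N19943 := ded_43_2 (flp_e L169450) L116906 L169450
theorem L169456 : sm gi N13722 = N19944 := rfl
theorem L169458 : sm gb N19944 = N13963 := ded_26_1 (flp_i L118951) (flp_b L116901) L169456
theorem L169460 : sm gd N19944 = N13723 := ded_39_1 (flp_i L116907) L116899 L169456
theorem L169462 : sm gf N19944 = N13725 := ded_48_1 (flp_i L116924) (flp_f L116903) L169456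
theorem L169464 : sm gj N19944 = N19944 := ded_53_1 (flp_i L169456) L116905 L169456
theorem L169465 : sm gf N13724 = N19945 := rfl
theorem L169467 : sm gb N19945 = N13964 := ded_22_1 (flp_f L118959) (flp_b L116918) L169465
theorem L169469 : sm gd N19945 = N14525 := ded_35_1 (flp_f L123810) (flp_d L116922) L169465
theorem L169471 : sm gj N19945 = N19945 := ded_46_2 (flp_f L169465) L116920 L169465
theorem L169472 : sm gh N19945 = N19945 := ded_47_2 (flp_f L169465) L116921 L169465
theorem L169473 : sm gi N13724 = N19946 := rfl
theorem L169475 : sm gb N19946 = N13965 := ded_26_1 (flp_i L118966) (flp_b L116918) L169473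
theorem L169477 : sm gd N19946 = N14526 := ded_39_1 (flp_i L123818) (flp_d L116922) L169473
theorem L169479 : sm ge N19946 = N13725 := ded_44_1 (flp_i L116924) L116916 L169473
theorem L169481 : sm gj N19946 = N19946 := ded_53_1 (flp_i L169473) L116920 L169473
theorem L169482 : sm gh N13725 = N19947 := rfl
theorem L169484 : sm gb N19947 = N13966 := ded_25_1 (flp_h L118974) (flp_b L116926) L169482
theorem L169486 : sm gj N19947 = N19947 := ded_52_1 (flp_h L169482) L116930 L169482
theorem L169487 : sm gi N19947 = N19947 := ded_54_2 (flp_h L169482) (flp_i L116924) L80869 L116924 L169482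
theorem L169488 : sm gj N13726 = N19948 := rfl
theorem L169490 : sm gb N19948 = N13733 := ded_24_1 (flp_j L116984) (flp_b L116933) L169488
theorem L169492 : sm gd N19948 = N19948 := ded_37_1 (flp_j L169488) L116935 L169488
theorem L169493 : sm gf N19948 = N13727 := ded_46_1 (flp_j L116938) L116931 L169488
theorem L169495 : sm gh N13726 = N19949 := rfl
theorem L169497 : sm gb N19949 = N13734 := ded_25_1 (flp_h L116992) (flp_b L116933) L169495
theorem L169499 : sm gf N19949 = N13728 := ded_47_1 (flp_h L116946) L116931 L169495
theorem L169501 : sm gg N19949 = N14529 := ded_50_1 (flp_h L123841) (flp_g L116936) L169495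
theorem L169503 : sm gh N13727 = N19950 := rfl
theorem L169505 : sm gb N19950 = N13735 := ded_25_1 (flp_h L117001) (flp_b L116940) L169503
theorem L169507 : sm ge N19950 = N13731 := ded_43_1 (flp_h L116971) (flp_e L116943) L169503
theorem L169509 : sm gg N19950 = N19950 := ded_50_1 (flp_h L169503) L116945 L169503
theorem L169510 : sm gj N19950 = N13728 := ded_52_1 (flp_h L116946) L116938 L169503
theorem L169512 : sm gd N13728 = N19951 := rfl
theorem L169514 : sm gb N19951 = N13736 := ded_20_1 (flp_d L117011) (flp_b L116948) L169512
theorem L169516 : sm gg N19951 = N13729 := ded_36_2 (flp_d L116954) (flp_g L116952) L169512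
theorem L169518 : sm gh N19951 = N19951 := ded_38_2 (flp_d L169512) (flp_h L116946) L80883 L116946 L169512
theorem L169519 : sm gi N13728 = N19952 := rfl
theorem L169521 : sm gb N19952 = N13737 := ded_26_1 (flp_i L117017) (flp_b L116948) L169519
theorem L169523 : sm ge N19952 = N13732 := ded_44_1 (flp_i L116978) (flp_e L116950) L169519
theorem L169525 : sm gg N19952 = N13730 := ded_51_1 (flp_i L116962) (flp_g L116952) L169519
theorem L169527 : sm gc N13729 = N19953 := rfl
theorem L169529 : sm gf N19953 = N14533 := ded_29_2 (flp_c L123872) (flp_f L116958) L169527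
theorem L169531 : sm gj N19953 = N19953 := ded_31_2 (flp_c L169527) L116960 L169527
theorem L169532 : sm gh N19953 = N19953 := ded_32_2 (flp_c L169527) L116961 L169527
theorem L169533 : sm gi N13729 = N19954 := rfl
theorem L169535 : sm gb N19954 = N13739 := ded_26_1 (flp_i L117035) (flp_b L116956) L169533
theorem L169537 : sm gd N19954 = N13730 := ded_39_1 (flp_i L116962) L116954 L169533
theorem L169539 : sm gf N19954 = N14534 := ded_48_1 (flp_i L123877) (flp_f L116958) L169533
theorem L169541 : sm gj N19954 = N19954 := ded_53_1 (flp_i L169533) L116960 L169533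
theorem L169542 : sm gi N13731 = N19955 := rfl
theorem L169544 : sm gb N19955 = N13740 := ded_26_1 (flp_i L117043) (flp_b L116973) L169542
theorem L169546 : sm gg N19955 = N19955 := ded_51_1 (flp_i L169542) L116975 L169542
theorem L169547 : sm gj N19955 = N13732 := ded_53_1 (flp_i L116978) (flp_j L116976) L169542
theorem L169549 : sm gg N13733 = N19956 := rfl
theorem L169551 : sm ga N19956 = N19956 := ded_15_1 (flp_g L169549) L116986 L169549
theorem L169552 : sm gc N19956 = N13975 := ded_30_1 (flp_g L119047) (flp_c L116987) L169549
theorem L169554 : sm gd N19956 = N19956 := ded_36_1 (flp_g L169549) L116989 L169549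
theorem L169555 : sm gf N19956 = N19956 := ded_45_1 (flp_g L169549) L116990 L80931 (flp_f L116990) L169549
theorem L169556 : sm gj N19956 = N14536 := ded_49_2 (flp_g L123893) (flp_j L85543) (flp_g L80921) L116984 L169549
theorem L169558 : sm gh N13733 = N19957 := rfl
theorem L169560 : sm ga N19957 = N19957 := ded_17_1 (flp_h L169558) L116986 L169558
theorem L169561 : sm gc N19957 = N13976 := ded_32_1 (flp_h L119055) (flp_c L116987) L169558
theorem L169563 : sm gf N19957 = N13735 := ded_47_1 (flp_h L117001) (flp_f L116990) L169558
theorem L169565 : sm gj N19957 = N13734 := ded_52_1 (flp_h L116992) L116984 L169558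
theorem L169567 : sm gd N13734 = N19958 := rfl
theorem L169569 : sm ga N19958 = N19958 := ded_12_1 (flp_d L169567) L116994 L169567
theorem L169570 : sm gf N19958 = N13736 := ded_35_2 (flp_d L117011) (flp_f L116997) L169567
theorem L169572 : sm gg N19958 = N14538 := ded_36_2 (flp_d L123909) (flp_g L116999) L169567
theorem L169574 : sm gh N19958 = N19958 := ded_38_2 (flp_d L169567) (flp_h L116992) L80920 L116992 L169567
theorem L169575 : sm gi N13734 = N19959 := rfl
theorem L169577 : sm ga N19959 = N19959 := ded_18_1 (flp_i L169575) L116994 L169575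
theorem L169578 : sm gc N19959 = N13978 := ded_33_1 (flp_i L119071) (flp_c L116995) L169575
theorem L169580 : sm gf N19959 = N13737 := ded_48_1 (flp_i L117017) (flp_f L116997) L169575
theorem L169582 : sm gg N19959 = N14539 := ded_51_1 (flp_i L123915) (flp_g L116999) L169575
theorem L169584 : sm gd N13735 = N19960 := rfl
theorem L169586 : sm ga N19960 = N19960 := ded_12_1 (flp_d L169584) L117003 L169584
theorem L169587 : sm gg N19960 = N19960 := ded_36_2 (flp_d L169584) L117008 L169584
theorem L169588 : sm gj N19960 = N13736 := ded_37_2 (flp_d L117011) (flp_j L117009) L169584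
theorem L169590 : sm gh N19960 = N19960 := ded_38_2 (flp_d L169584) (flp_h L117001) L80928 L117001 L169584
theorem L169591 : sm gi N13735 = N19961 := rfl
theorem L169593 : sm ga N19961 = N19961 := ded_18_1 (flp_i L169591) L117003 L169591
theorem L169594 : sm gc N19961 = N13980 := ded_33_1 (flp_i L119087) (flp_c L117004) L169591
theorem L169596 : sm ge N19961 = N13740 := ded_44_1 (flp_i L117043) (flp_e L117006) L169591
theorem L169598 : sm gg N19961 = N19961 := ded_51_1 (flp_i L169591) L117008 L169591
theorem L169599 : sm gj N19961 = N13737 := ded_53_1 (flp_i L117017) (flp_j L117009) L169591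
theorem L169601 : sm gc N13736 = N19962 := rfl
theorem L169603 : sm ga N19962 = N19962 := ded_11_1 (flp_c L169601) L117013 L169601
theorem L169604 : sm gg N19962 = N13738 := ded_30_2 (flp_c L117026) (flp_g L117014) L169601
theorem L169606 : sm gh N19962 = N19962 := ded_32_2 (flp_c L169601) L117016 L169601
theorem L169607 : sm gd N19962 = N13981 := ded_27_2 (flp_c L119095) (flp_d L82318) (flp_c L80935) L117011 L169601
theorem L169609 : sm gi N13736 = N19963 := rfl
theorem L169611 : sm ga N19963 = N19963 := ded_18_1 (flp_i L169609) L117013 L169609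
theorem L169612 : sm gd N19963 = N13737 := ded_39_1 (flp_i L117017) L117011 L169609
theorem L169614 : sm gg N19963 = N13739 := ded_51_1 (flp_i L117035) (flp_g L117014) L169609
theorem L169616 : sm gb N13738 = N19964 := rfl
theorem L169618 : sm gd N19964 = N13983 := ded_20_2 (flp_b L119111) (flp_d L117033) L169616
theorem L169620 : sm gf N19964 = N14544 := ded_22_2 (flp_b L123957) (flp_f L117029) L169616
theorem L169622 : sm gj N19964 = N19964 := ded_24_2 (flp_b L169616) L117031 L169616
theorem L169623 : sm gh N19964 = N19964 := ded_25_2 (flp_b L169616) L117032 L169616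
theorem L169624 : sm gi N13738 = N19965 := rfl
theorem L169626 : sm ga N19965 = N19965 := ded_18_1 (flp_i L169624) L117028 L169624
theorem L169627 : sm gc N19965 = N13739 := ded_33_1 (flp_i L117035) L117026 L169624
theorem L169629 : sm gd N19965 = N13984 := ded_39_1 (flp_i L119119) (flp_d L117033) L169624
theorem L169631 : sm gf N19965 = N14545 := ded_48_1 (flp_i L123964) (flp_f L117029) L169624
theorem L169633 : sm gj N19965 = N19965 := ded_53_1 (flp_i L169624) L117031 L169624
theorem L169634 : sm gh N13739 = N19966 := rfl
theorem L169636 : sm ga N19966 = N19966 := ded_17_1 (flp_h L169634) L117037 L169634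
theorem L169637 : sm gf N19966 = N14546 := ded_47_1 (flp_h L123973) (flp_f L117040) L169634
theorem L169639 : sm gj N19966 = N19966 := ded_52_1 (flp_h L169634) L117042 L169634
theorem L169640 : sm gi N19966 = N19966 := ded_54_2 (flp_h L169634) (flp_i L117035) L80947 L117035 L169634
theorem L169641 : sm gc N13741 = N19967 := rfl
theorem L169643 : sm ga N19967 = N13743 := ded_11_1 (flp_c L117073) (flp_a L117053) L169641
theorem L169645 : sm ge N19967 = N19967 := ded_28_2 (flp_c L169641) L117060 L169641
theorem L169646 : sm gg N19967 = N19967 := ded_30_2 (flp_c L169641) L117056 L169641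
theorem L169647 : sm gj N19967 = N13793 := ded_31_2 (flp_c L117530) (flp_j L117057) L169641
theorem L169649 : sm gi N19967 = N19967 := ded_33_2 (flp_c L169641) L117059 L169641
theorem L169650 : sm gd N19967 = N19967 := ded_27_2 (flp_c L169641) (flp_d L117051) L80978 L117051 L169641
theorem L169651 : sm gf N13741 = N19968 := rfl
theorem L169653 : sm ga N19968 = N13744 := ded_14_1 (flp_f L117082) (flp_a L117053) L169651
theorem L169655 : sm gb N19968 = N19968 := ded_22_1 (flp_f L169651) L117055 L169651
theorem L169656 : sm gd N19968 = N13742 := ded_35_1 (flp_f L117061) L117051 L169651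
theorem L169658 : sm gj N19968 = N13794 := ded_46_2 (flp_f L117539) (flp_j L117057) L169651
theorem L169660 : sm gi N19968 = N19968 := ded_48_2 (flp_f L169651) L117059 L169651
theorem L169661 : sm gh N13741 = N19969 := rfl
theorem L169663 : sm ga N19969 = N13745 := ded_17_1 (flp_h L117091) (flp_a L117053) L169661
theorem L169665 : sm gb N19969 = N19969 := ded_25_1 (flp_h L169661) L117055 L169661
theorem L169666 : sm ge N19969 = N19969 := ded_43_1 (flp_h L169661) L117060 L169661
theorem L169667 : sm gg N19969 = N19969 := ded_50_1 (flp_h L169661) L117056 L169661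
theorem L169668 : sm gj N19969 = N13795 := ded_52_1 (flp_h L117547) (flp_j L117057) L169661
theorem L169670 : sm gd N19969 = N13754 := ded_38_1 (flp_h L117184) (flp_d L81046) (flp_h L80982) L117051 L169661
theorem L169672 : sm gg N13742 = N19970 := rfl
theorem L169674 : sm ga N19970 = N13746 := ded_15_1 (flp_g L117101) (flp_a L117063) L169672
theorem L169676 : sm gb N19970 = N19970 := ded_23_1 (flp_g L169672) L117065 L169672
theorem L169677 : sm gc N19970 = N19970 := ded_30_1 (flp_g L169672) L117066 L169672
theorem L169678 : sm ge N19970 = N19970 := ded_41_1 (flp_g L169672) L117072 L169672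
theorem L169679 : sm gh N19970 = N13755 := ded_50_2 (flp_g L117194) (flp_h L117069) L169672
theorem L169681 : sm gi N19970 = N19970 := ded_51_2 (flp_g L169672) L117071 L169672
theorem L169682 : sm gf N19970 = N19970 := ded_45_1 (flp_g L169672) (flp_f L117061) L80979 L117061 L169672
theorem L169683 : sm gf N13743 = N19971 := rfl
theorem L169685 : sm gb N19971 = N19971 := ded_22_1 (flp_f L169683) L117080 L169683
theorem L169686 : sm gc N19971 = N13744 := ded_29_1 (flp_f L117082) L117073 L169683
theorem L169688 : sm gd N19971 = N19971 := ded_35_1 (flp_f L169683) L117081 L169683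
theorem L169689 : sm gj N19971 = N13797 := ded_46_2 (flp_f L117569) (flp_j L117077) L169683
theorem L169691 : sm gi N19971 = N19971 := ded_48_2 (flp_f L169683) L117079 L169683
theorem L169692 : sm gh N13743 = N19972 := rfl
theorem L169694 : sm gb N19972 = N19972 := ded_25_1 (flp_h L169692) L117080 L169692
theorem L169695 : sm gc N19972 = N13745 := ded_32_1 (flp_h L117091) L117073 L169692
theorem L169697 : sm ge N19972 = N19972 := ded_43_1 (flp_h L169692) L117075 L169692
theorem L169698 : sm gg N19972 = N19972 := ded_50_1 (flp_h L169692) L117076 L169692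
theorem L169699 : sm gj N19972 = N13798 := ded_52_1 (flp_h L117576) (flp_j L117077) L169692
theorem L169701 : sm ge N13744 = N19973 := rfl
theorem L169703 : sm gb N19973 = N13747 := ded_21_1 (flp_e L117111) (flp_b L117084) L169701
theorem L169705 : sm gj N19973 = N13799 := ded_42_2 (flp_e L117584) (flp_j L117088) L169701
theorem L169707 : sm gi N19973 = N19973 := ded_44_2 (flp_e L169701) L117090 L169701
theorem L169708 : sm gd N19973 = N19973 := ded_34_1 (flp_e L169701) L117086 L81004 (flp_d L117086) L169701
theorem L169709 : sm gf N19973 = N19973 := ded_40_2 (flp_e L169701) (flp_f L117082) L80993 L117082 L169701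
theorem L169710 : sm gg N13744 = N19974 := rfl
theorem L169712 : sm gb N19974 = N13748 := ded_23_1 (flp_g L117120) (flp_b L117084) L169710
theorem L169714 : sm gd N19974 = N13746 := ded_36_1 (flp_g L117101) (flp_d L117086) L169710
theorem L169716 : sm gi N19974 = N19974 := ded_51_2 (flp_g L169710) L117090 L169710
theorem L169717 : sm gf N19974 = N19974 := ded_45_1 (flp_g L169710) (flp_f L117082) L80989 L117082 L169710
theorem L169718 : sm gh N13744 = N19975 := rfl
theorem L169720 : sm gb N19975 = N13749 := ded_25_1 (flp_h L117128) (flp_b L117084) L169718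
theorem L169722 : sm gf N19975 = N13745 := ded_47_1 (flp_h L117091) L117082 L169718
theorem L169724 : sm gj N19975 = N13801 := ded_52_1 (flp_h L117600) (flp_j L117088) L169718
theorem L169726 : sm gd N19975 = N13760 := ded_38_1 (flp_h L117242) L81083 (flp_h L81001) (flp_d L117086) L169718
theorem L169728 : sm gi N13745 = N19976 := rfl
theorem L169730 : sm gb N19976 = N13750 := ded_26_1 (flp_i L117138) (flp_b L117093) L169728
theorem L169732 : sm gd N19976 = N13761 := ded_39_1 (flp_i L117250) (flp_d L117099) L169728
theorem L169734 : sm ge N19976 = N19976 := ded_44_1 (flp_i L169728) L117095 L169728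
theorem L169735 : sm gg N19976 = N19976 := ded_51_1 (flp_i L169728) L117096 L169728
theorem L169736 : sm gj N19976 = N13802 := ded_53_1 (flp_i L117608) (flp_j L117097) L169728
theorem L169738 : sm gh N19976 = N19976 := ded_54_1 (flp_i L169728) (flp_h L117091) L80992 L117091 L169728
theorem L169739 : sm gj N13746 = N19977 := rfl
theorem L169741 : sm gb N19977 = N13751 := ded_24_1 (flp_j L117149) (flp_b L117103) L169739
theorem L169743 : sm gc N19977 = N19977 := ded_31_1 (flp_j L169739) L117105 L169739
theorem L169744 : sm ge N19977 = N19977 := ded_42_1 (flp_j L169739) L117106 L169739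
theorem L169745 : sm gf N19977 = N19977 := ded_46_1 (flp_j L169739) L117110 L169739
theorem L169746 : sm gh N19977 = N13762 := ded_52_2 (flp_j L117261) (flp_h L117107) L169739
theorem L169748 : sm gi N19977 = N19977 := ded_53_2 (flp_j L169739) L117109 L169739
theorem L169749 : sm gg N19977 = N13803 := ded_49_1 (flp_j L117618) (flp_g L81334) (flp_j L80999) L117101 L169739
theorem L169751 : sm gg N13747 = N19978 := rfl
theorem L169753 : sm ga N19978 = N19978 := ded_15_1 (flp_g L169751) L117113 L169751
theorem L169754 : sm gc N19978 = N19978 := ded_30_1 (flp_g L169751) L117114 L169751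
theorem L169755 : sm gd N19978 = N19978 := ded_36_1 (flp_g L169751) L117118 L169751
theorem L169756 : sm ge N19978 = N13748 := ded_41_1 (flp_g L117120) L117111 L169751
theorem L169758 : sm gi N19978 = N19978 := ded_51_2 (flp_g L169751) L117117 L169751
theorem L169759 : sm gh N13747 = N19979 := rfl
theorem L169761 : sm ga N19979 = N19979 := ded_17_1 (flp_h L169759) L117113 L169759
theorem L169762 : sm gc N19979 = N19979 := ded_32_1 (flp_h L169759) L117114 L169759
theorem L169763 : sm ge N19979 = N13749 := ded_43_1 (flp_h L117128) L117111 L169759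
theorem L169765 : sm gf N19979 = N19979 := ded_47_1 (flp_h L169759) L117119 L169759
theorem L169766 : sm gj N19979 = N13805 := ded_52_1 (flp_h L117637) (flp_j L117115) L169759
theorem L169768 : sm gj N13748 = N19980 := rfl
theorem L169770 : sm ga N19980 = N19980 := ded_16_1 (flp_j L169768) L117122 L169768
theorem L169771 : sm gc N19980 = N19980 := ded_31_1 (flp_j L169768) L117123 L169768
theorem L169772 : sm gd N19980 = N13751 := ded_37_1 (flp_j L117149) (flp_d L117124) L169768
theorem L169774 : sm gf N19980 = N19980 := ded_46_1 (flp_j L169768) L117127 L169768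
theorem L169775 : sm gi N19980 = N19980 := ded_53_2 (flp_j L169768) L117126 L169768
theorem L169776 : sm gg N19980 = N13806 := ded_49_1 (flp_j L117644) (flp_g L81352) (flp_j L81011) L117120 L169768
theorem L169778 : sm gh N13748 = N19981 := rfl
theorem L169780 : sm ga N19981 = N19981 := ded_17_1 (flp_h L169778) L117122 L169778
theorem L169781 : sm gc N19981 = N19981 := ded_32_1 (flp_h L169778) L117123 L169778
theorem L169782 : sm gf N19981 = N19981 := ded_47_1 (flp_h L169778) L117127 L169778
theorem L169783 : sm gg N19981 = N13749 := ded_50_1 (flp_h L117128) L117120 L169778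
theorem L169785 : sm gd N19981 = N13766 := ded_38_1 (flp_h L117299) L81120 (flp_h L81030) (flp_d L117124) L169778
theorem L169787 : sm gi N13749 = N19982 := rfl
theorem L169789 : sm ga N19982 = N19982 := ded_18_1 (flp_i L169787) L117130 L169787
theorem L169790 : sm gc N19982 = N19982 := ded_33_1 (flp_i L169787) L117131 L169787
theorem L169791 : sm gd N19982 = N13767 := ded_39_1 (flp_i L117305) (flp_d L117136) L169787
theorem L169793 : sm gf N19982 = N13750 := ded_48_1 (flp_i L117138) (flp_f L117132) L169787
theorem L169795 : sm gj N19982 = N13808 := ded_53_1 (flp_i L117663) (flp_j L117134) L169787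
theorem L169797 : sm gh N19982 = N19982 := ded_54_1 (flp_i L169787) (flp_h L117128) L81013 L117128 L169787
theorem L169798 : sm gb N13752 = N19983 := rfl
theorem L169800 : sm gd N19983 = N19983 := ded_20_2 (flp_b L169798) L117172 L169798
theorem L169801 : sm ge N19983 = N14547 := ded_21_2 (flp_b L123979) (flp_e L117165) L169798
theorem L169803 : sm gg N19983 = N19983 := ded_23_2 (flp_b L169798) L117167 L169798
theorem L169804 : sm gj N19983 = N13809 := ded_24_2 (flp_b L117672) (flp_j L117168) L169798
theorem L169806 : sm gi N19983 = N13768 := ded_26_2 (flp_b L117314) (flp_i L117170) L169798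
theorem L169808 : sm gc N19983 = N19983 := ded_19_2 (flp_b L169798) (flp_c L117161) L81050 L117161 L169798
theorem L169809 : sm gf N13752 = N19984 := rfl
theorem L169811 : sm ga N19984 = N13756 := ded_14_1 (flp_f L117204) (flp_a L117163) L169809
theorem L169813 : sm gc N19984 = N13753 := ded_29_1 (flp_f L117173) L117161 L169809
theorem L169815 : sm gd N19984 = N19984 := ded_35_1 (flp_f L169809) L117172 L169809
theorem L169816 : sm gj N19984 = N13810 := ded_46_2 (flp_f L117682) (flp_j L117168) L169809
theorem L169818 : sm gi N19984 = N13769 := ded_48_2 (flp_f L117323) (flp_i L117170) L169809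
theorem L169820 : sm gh N13752 = N19985 := rfl
theorem L169822 : sm ga N19985 = N13757 := ded_17_1 (flp_h L117213) (flp_a L117163) L169820
theorem L169824 : sm gc N19985 = N13754 := ded_32_1 (flp_h L117184) L117161 L169820
theorem L169826 : sm ge N19985 = N14549 := ded_43_1 (flp_h L124001) (flp_e L117165) L169820
theorem L169828 : sm gg N19985 = N19985 := ded_50_1 (flp_h L169820) L117167 L169820
theorem L169829 : sm gj N19985 = N13811 := ded_52_1 (flp_h L117691) (flp_j L117168) L169820
theorem L169831 : sm ge N13753 = N19986 := rfl
theorem L169833 : sm ga N19986 = N13758 := ded_13_1 (flp_e L117222) (flp_a L117175) L169831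
theorem L169835 : sm gb N19986 = N19986 := ded_21_1 (flp_e L169831) L117177 L169831
theorem L169836 : sm gj N19986 = N13812 := ded_42_2 (flp_e L117701) (flp_j L117180) L169831
theorem L169838 : sm gi N19986 = N13771 := ded_44_2 (flp_e L117343) (flp_i L117182) L169831
theorem L169840 : sm gd N19986 = N19986 := ded_34_1 (flp_e L169831) L117178 L81068 (flp_d L117178) L169831
theorem L169841 : sm gf N19986 = N14550 := ded_40_2 (flp_e L124010) (flp_f L85619) (flp_e L81056) L117173 L169831
theorem L169843 : sm gg N13753 = N19987 := rfl
theorem L169845 : sm ga N19987 = N13759 := ded_15_1 (flp_g L117233) (flp_a L117175) L169843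
theorem L169847 : sm gb N19987 = N19987 := ded_23_1 (flp_g L169843) L117177 L169843
theorem L169848 : sm gd N19987 = N13755 := ded_36_1 (flp_g L117194) (flp_d L117178) L169843
theorem L169850 : sm gi N19987 = N13772 := ded_51_2 (flp_g L117353) (flp_i L117182) L169843
theorem L169852 : sm gf N19987 = N19987 := ded_45_1 (flp_g L169843) (flp_f L117173) L81051 L117173 L169843
theorem L169853 : sm gh N13753 = N19988 := rfl
theorem L169855 : sm ga N19988 = N13760 := ded_17_1 (flp_h L117242) (flp_a L117175) L169853
theorem L169857 : sm gb N19988 = N19988 := ded_25_1 (flp_h L169853) L117177 L169853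
theorem L169858 : sm gf N19988 = N13754 := ded_47_1 (flp_h L117184) L117173 L169853
theorem L169860 : sm gj N19988 = N13814 := ded_52_1 (flp_h L117722) (flp_j L117180) L169853
theorem L169862 : sm gi N13754 = N19989 := rfl
theorem L169864 : sm ga N19989 = N13761 := ded_18_1 (flp_i L117250) (flp_a L117186) L169862
theorem L169866 : sm gb N19989 = N19989 := ded_26_1 (flp_i L169862) L117188 L169862
theorem L169867 : sm ge N19989 = N14553 := ded_44_1 (flp_i L124040) (flp_e L117189) L169862
theorem L169869 : sm gg N19989 = N19989 := ded_51_1 (flp_i L169862) L117191 L169862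
theorem L169870 : sm gj N19989 = N13815 := ded_53_1 (flp_i L117729) (flp_j L117192) L169862
theorem L169872 : sm gh N19989 = N13774 := ded_54_1 (flp_i L117371) (flp_h L81172) (flp_i L81054) L117184 L169862
theorem L169874 : sm gj N13755 = N19990 := rfl
theorem L169876 : sm ga N19990 = N13762 := ded_16_1 (flp_j L117261) (flp_a L117196) L169874
theorem L169878 : sm gb N19990 = N19990 := ded_24_1 (flp_j L169874) L117198 L169874
theorem L169879 : sm gc N19990 = N19990 := ded_31_1 (flp_j L169874) L117199 L169874
theorem L169880 : sm ge N19990 = N19990 := ded_42_1 (flp_j L169874) L117200 L169874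
theorem L169881 : sm gf N19990 = N19990 := ded_46_1 (flp_j L169874) L117203 L169874
theorem L169882 : sm gi N19990 = N13775 := ded_53_2 (flp_j L117382) (flp_i L117201) L169874
theorem L169884 : sm gg N19990 = N13816 := ded_49_1 (flp_j L117740) (flp_g L81419) (flp_j L81064) L117194 L169874
theorem L169886 : sm ge N13756 = N19991 := rfl
theorem L169888 : sm gc N19991 = N13758 := ded_28_1 (flp_e L117222) (flp_c L117206) L169886
theorem L169890 : sm gj N19991 = N13817 := ded_42_2 (flp_e L117751) (flp_j L117209) L169886
theorem L169892 : sm gi N19991 = N13776 := ded_44_2 (flp_e L117393) (flp_i L117211) L169886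
theorem L169894 : sm gf N19991 = N14555 := ded_40_2 (flp_e L124065) (flp_f L85651) (flp_e L81071) L117204 L169886
theorem L169896 : sm gg N13756 = N19992 := rfl
theorem L169898 : sm gc N19992 = N13759 := ded_30_1 (flp_g L117233) (flp_c L117206) L169896
theorem L169900 : sm gd N19992 = N19992 := ded_36_1 (flp_g L169896) L117208 L169896
theorem L169901 : sm gi N19992 = N13777 := ded_51_2 (flp_g L117401) (flp_i L117211) L169896
theorem L169903 : sm gf N19992 = N19992 := ded_45_1 (flp_g L169896) (flp_f L117204) L81073 L117204 L169896
theorem L169904 : sm gh N13756 = N19993 := rfl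
theorem L169906 : sm gc N19993 = N13760 := ded_32_1 (flp_h L117242) (flp_c L117206) L169904
theorem L169908 : sm gf N19993 = N13757 := ded_47_1 (flp_h L117213) L117204 L169904
theorem L169910 : sm gj N19993 = N13819 := ded_52_1 (flp_h L117768) (flp_j L117209) L169904
theorem L169912 : sm gd N13757 = N19994 := rfl
theorem L169914 : sm gg N19994 = N19994 := ded_36_2 (flp_d L169912) L117219 L169912
theorem L169915 : sm gj N19994 = N13820 := ded_37_2 (flp_d L117774) (flp_j L117220) L169912
theorem L169917 : sm gh N19994 = N19994 := ded_38_2 (flp_d L169912) (flp_h L117213) L81078 L117213 L169912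
theorem L169918 : sm gi N13757 = N19995 := rfl
theorem L169920 : sm gc N19995 = N13761 := ded_33_1 (flp_i L117250) (flp_c L117215) L169918
theorem L169922 : sm ge N19995 = N14559 := ded_44_1 (flp_i L124098) (flp_e L117217) L169918
theorem L169924 : sm gg N19995 = N19995 := ded_51_1 (flp_i L169918) L117219 L169918
theorem L169925 : sm gj N19995 = N13821 := ded_53_1 (flp_i L117779) (flp_j L117220) L169918
theorem L169927 : sm gh N19995 = N13780 := ded_54_1 (flp_i L117422) (flp_h L81199) (flp_i L81076) L117213 L169918
theorem L169929 : sm gg N13758 = N19996 := rfl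
theorem L169931 : sm gb N19996 = N13763 := ded_23_1 (flp_g L117272) (flp_b L117224) L169929
theorem L169933 : sm gd N19996 = N19996 := ded_36_1 (flp_g L169929) L117230 L169929
theorem L169934 : sm ge N19996 = N13759 := ded_41_1 (flp_g L117233) L117222 L169929
theorem L169936 : sm gi N19996 = N13781 := ded_51_2 (flp_g L117431) (flp_i L117228) L169929
theorem L169938 : sm gh N13758 = N19997 := rfl
theorem L169940 : sm gb N19997 = N13764 := ded_25_1 (flp_h L117280) (flp_b L117224) L169938
theorem L169942 : sm ge N19997 = N13760 := ded_43_1 (flp_h L117242) L117222 L169938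
theorem L169944 : sm gf N19997 = N14561 := ded_47_1 (flp_h L124116) (flp_f L117231) L169938
theorem L169946 : sm gj N19997 = N13823 := ded_52_1 (flp_h L117798) (flp_j L117226) L169938
theorem L169948 : sm gj N13759 = N19998 := rfl
theorem L169950 : sm gb N19998 = N13765 := ded_24_1 (flp_j L117289) (flp_b L117235) L169948
theorem L169952 : sm gd N19998 = N13762 := ded_37_1 (flp_j L117261) (flp_d L117237) L169948
theorem L169954 : sm gf N19998 = N19998 := ded_46_1 (flp_j L169948) L117241 L169948
theorem L169955 : sm gi N19998 = N13783 := ded_53_2 (flp_j L117448) (flp_i L117239) L169948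
theorem L169957 : sm gg N19998 = N13824 := ded_49_1 (flp_j L117806) (flp_g L81454) (flp_j L81085) L117233 L169948
theorem L169959 : sm gh N13759 = N19999 := rfl
theorem L169961 : sm gb N19999 = N13766 := ded_25_1 (flp_h L117299) (flp_b L117235) L169959
theorem L169963 : sm gf N19999 = N19999 := ded_47_1 (flp_h L169959) L117241 L169959
theorem L169964 : sm gg N19999 = N13760 := ded_50_1 (flp_h L117242) L117233 L169959
theorem L169966 : sm gi N13760 = N20000 := rfl
theorem L169968 : sm gb N20000 = N13767 := ded_26_1 (flp_i L117305) (flp_b L117244) L169966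
theorem L169970 : sm gf N20000 = N13761 := ded_48_1 (flp_i L117250) (flp_f L117246) L169966
theorem L169972 : sm gj N20000 = N13826 := ded_53_1 (flp_i L117824) (flp_j L117248) L169966
theorem L169974 : sm gh N20000 = N13785 := ded_54_1 (flp_i L117465) (flp_h L81224) (flp_i L81087) L117242 L169966
theorem L169976 : sm gf N13763 = N20001 := rfl
theorem L169978 : sm ga N20001 = N20001 := ded_14_1 (flp_f L169976) L117274 L169976
theorem L169979 : sm gd N20001 = N20001 := ded_35_1 (flp_f L169976) L117275 L169976
theorem L169980 : sm gi N20001 = N13786 := ded_48_2 (flp_f L117474) (flp_i L117278) L169976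
theorem L169982 : sm ge N20001 = N20001 := ded_40_1 (flp_f L169976) L117276 L81124 (flp_e L117276) L169976
theorem L169983 : sm gg N20001 = N14565 := ded_45_2 (flp_f L124154) (flp_g L85718) (flp_f L81115) L117272 L169976
theorem L169985 : sm gj N13763 = N20002 := rfl
theorem L169987 : sm ga N20002 = N20002 := ded_16_1 (flp_j L169985) L117274 L169985
theorem L169988 : sm gd N20002 = N20002 := ded_37_1 (flp_j L169985) L117275 L169985
theorem L169989 : sm ge N20002 = N13765 := ded_42_1 (flp_j L117289) (flp_e L117276) L169985
theorem L169991 : sm gi N20002 = N13787 := ded_53_2 (flp_j L117481) (flp_i L117278) L169985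
theorem L169993 : sm gg N20002 = N13828 := ded_49_1 (flp_j L117842) (flp_g L81490) (flp_j L81110) L117272 L169985
theorem L169995 : sm gh N13763 = N20003 := rfl
theorem L169997 : sm ga N20003 = N20003 := ded_17_1 (flp_h L169995) L117274 L169995
theorem L169998 : sm ge N20003 = N13766 := ded_43_1 (flp_h L117299) (flp_e L117276) L169995
theorem L170000 : sm gg N20003 = N13764 := ded_50_1 (flp_h L117280) L117272 L169995
theorem L170002 : sm gd N13764 = N20004 := rfl
theorem L170004 : sm ga N20004 = N20004 := ded_12_1 (flp_d L170002) L117282 L170002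
theorem L170005 : sm gf N20004 = N14568 := ded_35_2 (flp_d L124178) (flp_f L117285) L170002
theorem L170007 : sm gj N20004 = N13830 := ded_37_2 (flp_d L117857) (flp_j L117287) L170002
theorem L170009 : sm gh N20004 = N20004 := ded_38_2 (flp_d L170002) (flp_h L117280) L81114 L117280 L170002
theorem L170010 : sm gi N13764 = N20005 := rfl
theorem L170012 : sm ga N20005 = N20005 := ded_18_1 (flp_i L170010) L117282 L170010
theorem L170013 : sm ge N20005 = N13767 := ded_44_1 (flp_i L117305) (flp_e L117283) L170010
theorem L170015 : sm gf N20005 = N14569 := ded_48_1 (flp_i L124185) (flp_f L117285) L170010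
theorem L170017 : sm gj N20005 = N13831 := ded_53_1 (flp_i L117863) (flp_j L117287) L170010
theorem L170019 : sm gh N20005 = N13790 := ded_54_1 (flp_i L117505) (flp_h L81259) (flp_i L81112) L117280 L170010
theorem L170021 : sm gh N13765 = N20006 := rfl
theorem L170023 : sm ga N20006 = N20006 := ded_17_1 (flp_h L170021) L117291 L170021
theorem L170024 : sm gf N20006 = N20006 := ded_47_1 (flp_h L170021) L117294 L170021
theorem L170025 : sm gg N20006 = N13832 := ded_50_1 (flp_h L117872) (flp_g L117297) L170021
theorem L170027 : sm gj N20006 = N13766 := ded_52_1 (flp_h L117299) L117289 L170021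
theorem L170029 : sm gi N13766 = N20007 := rfl
theorem L170031 : sm ga N20007 = N20007 := ded_18_1 (flp_i L170029) L117301 L170029
theorem L170032 : sm gf N20007 = N20007 := ded_48_1 (flp_i L170029) L117302 L170029
theorem L170033 : sm gg N20007 = N13767 := ded_51_1 (flp_i L117305) (flp_g L117303) L170029
theorem L170035 : sm gh N20007 = N13792 := ded_54_1 (flp_i L117523) (flp_h L81276) (flp_i L81122) L117299 L170029
theorem L170037 : sm gf N13768 = N20008 := rfl
theorem L170039 : sm gb N20008 = N13769 := ded_22_1 (flp_f L117323) L117314 L170037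
theorem L170041 : sm gc N20008 = N20008 := ded_29_1 (flp_f L170037) L117322 L170037
theorem L170042 : sm gd N20008 = N20008 := ded_35_1 (flp_f L170037) L117316 L170037
theorem L170043 : sm gj N20008 = N13834 := ded_46_2 (flp_f L117888) (flp_j L117320) L170037
theorem L170045 : sm gh N13768 = N20009 := rfl
theorem L170047 : sm gb N20009 = N13770 := ded_25_1 (flp_h L117332) L117314 L170045
theorem L170049 : sm gc N20009 = N20009 := ded_32_1 (flp_h L170045) L117322 L170045
theorem L170050 : sm ge N20009 = N14573 := ded_43_1 (flp_h L124221) (flp_e L117317) L170045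
theorem L170052 : sm gg N20009 = N20009 := ded_50_1 (flp_h L170045) L117319 L170045
theorem L170053 : sm gj N20009 = N13835 := ded_52_1 (flp_h L117894) (flp_j L117320) L170045
theorem L170055 : sm ge N13769 = N20010 := rfl
theorem L170057 : sm ga N20010 = N13776 := ded_13_1 (flp_e L117393) (flp_a L117325) L170055
theorem L170059 : sm gc N20010 = N13771 := ded_28_1 (flp_e L117343) (flp_c L117327) L170055
theorem L170061 : sm gj N20010 = N13836 := ded_42_2 (flp_e L117903) (flp_j L117330) L170055
theorem L170063 : sm gf N20010 = N14574 := ded_40_2 (flp_e L124229) (flp_f L85768) (flp_e L81157) L117323 L170055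
theorem L170065 : sm gg N13769 = N20011 := rfl
theorem L170067 : sm ga N20011 = N13777 := ded_15_1 (flp_g L117401) (flp_a L117325) L170065
theorem L170069 : sm gc N20011 = N13772 := ded_30_1 (flp_g L117353) (flp_c L117327) L170065
theorem L170071 : sm gd N20011 = N20011 := ded_36_1 (flp_g L170065) L117329 L170065
theorem L170072 : sm gf N20011 = N20011 := ded_45_1 (flp_g L170065) (flp_f L117323) L81159 L117323 L170065
theorem L170073 : sm gh N13769 = N20012 := rfl
theorem L170075 : sm ga N20012 = N13778 := ded_17_1 (flp_h L117407) (flp_a L117325) L170073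
theorem L170077 : sm gc N20012 = N13773 := ded_32_1 (flp_h L117361) (flp_c L117327) L170073
theorem L170079 : sm gf N20012 = N13770 := ded_47_1 (flp_h L117332) L117323 L170073
theorem L170081 : sm gj N20012 = N13838 := ded_52_1 (flp_h L117920) (flp_j L117330) L170073
theorem L170083 : sm gd N13770 = N20013 := rfl
theorem L170085 : sm ga N20013 = N13779 := ded_12_1 (flp_d L117415) (flp_a L117334) L170083
theorem L170087 : sm gg N20013 = N20013 := ded_36_2 (flp_d L170083) L117340 L170083
theorem L170088 : sm gj N20013 = N13839 := ded_37_2 (flp_d L117928) (flp_j L117341) L170083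
theorem L170090 : sm gc N20013 = N20013 := ded_27_1 (flp_d L170083) L117336 L81182 (flp_c L117336) L170083
theorem L170091 : sm gh N20013 = N20013 := ded_38_2 (flp_d L170083) (flp_h L117332) L81162 L117332 L170083
theorem L170092 : sm gi N13770 = N20014 := rfl
theorem L170094 : sm ga N20014 = N13780 := ded_18_1 (flp_i L117422) (flp_a L117334) L170092
theorem L170096 : sm gc N20014 = N13774 := ded_33_1 (flp_i L117371) (flp_c L117336) L170092
theorem L170098 : sm ge N20014 = N14578 := ded_44_1 (flp_i L124267) (flp_e L117338) L170092
theorem L170100 : sm gg N20014 = N20014 := ded_51_1 (flp_i L170092) L117340 L170092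
theorem L170101 : sm gj N20014 = N13840 := ded_53_1 (flp_i L117936) (flp_j L117341) L170092
theorem L170103 : sm gg N13771 = N20015 := rfl
theorem L170105 : sm ga N20015 = N13781 := ded_15_1 (flp_g L117431) (flp_a L117345) L170103
theorem L170107 : sm gb N20015 = N20015 := ded_23_1 (flp_g L170103) L117347 L170103
theorem L170108 : sm gd N20015 = N20015 := ded_36_1 (flp_g L170103) L117350 L170103
theorem L170109 : sm ge N20015 = N13772 := ded_41_1 (flp_g L117353) L117343 L170103
theorem L170111 : sm gh N13771 = N20016 := rfl
theorem L170113 : sm ga N20016 = N13782 := ded_17_1 (flp_h L117438) (flp_a L117345) L170111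
theorem L170115 : sm gb N20016 = N20016 := ded_25_1 (flp_h L170111) L117347 L170111
theorem L170116 : sm ge N20016 = N13773 := ded_43_1 (flp_h L117361) L117343 L170111
theorem L170118 : sm gf N20016 = N14580 := ded_47_1 (flp_h L124284) (flp_f L117351) L170111
theorem L170120 : sm gj N20016 = N13842 := ded_52_1 (flp_h L117954) (flp_j L117348) L170111
theorem L170122 : sm gj N13772 = N20017 := rfl
theorem L170124 : sm ga N20017 = N13783 := ded_16_1 (flp_j L117448) (flp_a L117355) L170122
theorem L170126 : sm gb N20017 = N20017 := ded_24_1 (flp_j L170122) L117357 L170122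
theorem L170127 : sm gd N20017 = N13775 := ded_37_1 (flp_j L117382) (flp_d L117358) L170122
theorem L170129 : sm gf N20017 = N20017 := ded_46_1 (flp_j L170122) L117360 L170122
theorem L170130 : sm gg N20017 = N13843 := ded_49_1 (flp_j L117963) (flp_g L81561) (flp_j L81170) L117353 L170122
theorem L170132 : sm gh N13772 = N20018 := rfl
theorem L170134 : sm ga N20018 = N13784 := ded_17_1 (flp_h L117457) (flp_a L117355) L170132
theorem L170136 : sm gb N20018 = N20018 := ded_25_1 (flp_h L170132) L117357 L170132
theorem L170137 : sm gf N20018 = N20018 := ded_47_1 (flp_h L170132) L117360 L170132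
theorem L170138 : sm gg N20018 = N13773 := ded_50_1 (flp_h L117361) L117353 L170132
theorem L170140 : sm gd N20018 = N20018 := ded_38_1 (flp_h L170132) L117358 L81190 (flp_d L117358) L170132
theorem L170141 : sm gi N13773 = N20019 := rfl
theorem L170143 : sm ga N20019 = N13785 := ded_18_1 (flp_i L117465) (flp_a L117363) L170141
theorem L170145 : sm gb N20019 = N20019 := ded_26_1 (flp_i L170141) L117365 L170141
theorem L170146 : sm gd N20019 = N20019 := ded_39_1 (flp_i L170141) L117370 L170141
theorem L170147 : sm gf N20019 = N13774 := ded_48_1 (flp_i L117371) (flp_f L117366) L170141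
theorem L170149 : sm gj N20019 = N13845 := ded_53_1 (flp_i L117982) (flp_j L117368) L170141
theorem L170151 : sm gd N13776 = N20020 := rfl
theorem L170153 : sm gf N20020 = N14584 := ded_35_2 (flp_d L124324) (flp_f L117399) L170151
theorem L170155 : sm gj N20020 = N13846 := ded_37_2 (flp_d L117990) (flp_j L117397) L170151
theorem L170157 : sm gc N20020 = N20020 := ded_27_1 (flp_d L170151) L117395 L81214 (flp_c L117395) L170151
theorem L170158 : sm ge N20020 = N20020 := ded_34_2 (flp_d L170151) (flp_e L117393) L81196 L117393 L170151
theorem L170159 : sm gg N13776 = N20021 := rfl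
theorem L170161 : sm gc N20021 = N13781 := ded_30_1 (flp_g L117431) (flp_c L117395) L170159
theorem L170163 : sm ge N20021 = N13777 := ded_41_1 (flp_g L117401) L117393 L170159
theorem L170165 : sm gh N13776 = N20022 := rfl
theorem L170167 : sm gc N20022 = N13782 := ded_32_1 (flp_h L117438) (flp_c L117395) L170165
theorem L170169 : sm ge N20022 = N13778 := ded_43_1 (flp_h L117407) L117393 L170165
theorem L170171 : sm gf N20022 = N14586 := ded_47_1 (flp_h L124337) (flp_f L117399) L170165
theorem L170173 : sm gj N20022 = N13848 := ded_52_1 (flp_h L118002) (flp_j L117397) L170165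
theorem L170175 : sm gj N13777 = N20023 := rfl
theorem L170177 : sm gc N20023 = N13783 := ded_31_1 (flp_j L117448) (flp_c L117403) L170175
theorem L170179 : sm gd N20023 = N20023 := ded_37_1 (flp_j L170175) L117405 L170175
theorem L170180 : sm gf N20023 = N20023 := ded_46_1 (flp_j L170175) L117406 L170175
theorem L170181 : sm gg N20023 = N13849 := ded_49_1 (flp_j L118010) (flp_g L81604) (flp_j L81197) L117401 L170175
theorem L170183 : sm gh N13777 = N20024 := rfl
theorem L170185 : sm gc N20024 = N13784 := ded_32_1 (flp_h L117457) (flp_c L117403) L170183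
theorem L170187 : sm gf N20024 = N20024 := ded_47_1 (flp_h L170183) L117406 L170183
theorem L170188 : sm gg N20024 = N13778 := ded_50_1 (flp_h L117407) L117401 L170183
theorem L170190 : sm gd N13778 = N20025 := rfl
theorem L170192 : sm gf N20025 = N13779 := ded_35_2 (flp_d L117415) (flp_f L117411) L170190
theorem L170194 : sm gj N20025 = N13851 := ded_37_2 (flp_d L118025) (flp_j L117413) L170190
theorem L170196 : sm gc N20025 = N20025 := ded_27_1 (flp_d L170190) L117409 L81232 (flp_c L117409) L170190
theorem L170197 : sm gh N20025 = N20025 := ded_38_2 (flp_d L170190) (flp_h L117407) L81196 L117407 L170190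
theorem L170198 : sm gi N13778 = N20026 := rfl
theorem L170200 : sm gc N20026 = N13785 := ded_33_1 (flp_i L117465) (flp_c L117409) L170198
theorem L170202 : sm gf N20026 = N13780 := ded_48_1 (flp_i L117422) (flp_f L117411) L170198
theorem L170204 : sm gj N20026 = N13852 := ded_53_1 (flp_i L118031) (flp_j L117413) L170198
theorem L170206 : sm ge N13779 = N20027 := rfl
theorem L170208 : sm gc N20027 = N20027 := ded_28_1 (flp_e L170206) L117420 L170206
theorem L170209 : sm gg N20027 = N20027 := ded_41_2 (flp_e L170206) L117417 L170206
theorem L170210 : sm gj N20027 = N13853 := ded_42_2 (flp_e L118037) (flp_j L117418) L170206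
theorem L170212 : sm gh N20027 = N20027 := ded_43_2 (flp_e L170206) L117421 L170206
theorem L170213 : sm gd N20027 = N14591 := ded_34_1 (flp_e L124379) (flp_d L85858) (flp_e L81203) L117415 L170206
theorem L170215 : sm gi N13779 = N20028 := rfl
theorem L170217 : sm gc N20028 = N20028 := ded_33_1 (flp_i L170215) L117420 L170215
theorem L170218 : sm gd N20028 = N13780 := ded_39_1 (flp_i L117422) L117415 L170215
theorem L170220 : sm gg N20028 = N20028 := ded_51_1 (flp_i L170215) L117417 L170215
theorem L170221 : sm gj N20028 = N13854 := ded_53_1 (flp_i L118045) (flp_j L117418) L170215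
theorem L170223 : sm gf N13781 = N20029 := rfl
theorem L170225 : sm gb N20029 = N13786 := ded_22_1 (flp_f L117474) (flp_b L117433) L170223
theorem L170227 : sm gd N20029 = N20029 := ded_35_1 (flp_f L170223) L117435 L170223
theorem L170228 : sm ge N20029 = N20029 := ded_40_1 (flp_f L170223) L117436 L81223 (flp_e L117436) L170223
theorem L170229 : sm gg N20029 = N14593 := ded_45_2 (flp_f L124397) (flp_g L85874) (flp_f L81215) L117431 L170223
theorem L170231 : sm gj N13781 = N20030 := rfl
theorem L170233 : sm gb N20030 = N13787 := ded_24_1 (flp_j L117481) (flp_b L117433) L170231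
theorem L170235 : sm gd N20030 = N20030 := ded_37_1 (flp_j L170231) L117435 L170231
theorem L170236 : sm ge N20030 = N13783 := ded_42_1 (flp_j L117448) (flp_e L117436) L170231
theorem L170238 : sm gg N20030 = N13856 := ded_49_1 (flp_j L118061) (flp_g L81631) (flp_j L81212) L117431 L170231
theorem L170240 : sm gh N13781 = N20031 := rfl
theorem L170242 : sm gb N20031 = N13788 := ded_25_1 (flp_h L117489) (flp_b L117433) L170240
theorem L170244 : sm ge N20031 = N13784 := ded_43_1 (flp_h L117457) (flp_e L117436) L170240
theorem L170246 : sm gg N20031 = N13782 := ded_50_1 (flp_h L117438) L117431 L170240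
theorem L170248 : sm gd N13782 = N20032 := rfl
theorem L170250 : sm gb N20032 = N13789 := ded_20_1 (flp_d L117496) (flp_b L117440) L170248
theorem L170252 : sm gf N20032 = N14596 := ded_35_2 (flp_d L124420) (flp_f L117444) L170248
theorem L170254 : sm gj N20032 = N13858 := ded_37_2 (flp_d L118076) (flp_j L117446) L170248
theorem L170256 : sm ge N20032 = N20032 := ded_34_2 (flp_d L170248) L117442 L81232 (flp_e L117442) L170248
theorem L170257 : sm gh N20032 = N20032 := ded_38_2 (flp_d L170248) (flp_h L117438) L81214 L117438 L170248
theorem L170258 : sm gi N13782 = N20033 := rfl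
theorem L170260 : sm gb N20033 = N13790 := ded_26_1 (flp_i L117505) (flp_b L117440) L170258
theorem L170262 : sm ge N20033 = N13785 := ded_44_1 (flp_i L117465) (flp_e L117442) L170258
theorem L170264 : sm gf N20033 = N14597 := ded_48_1 (flp_i L124429) (flp_f L117444) L170258
theorem L170266 : sm gj N20033 = N13859 := ded_53_1 (flp_i L118084) (flp_j L117446) L170258
theorem L170268 : sm gh N13783 = N20034 := rfl
theorem L170270 : sm gb N20034 = N13791 := ded_25_1 (flp_h L117514) (flp_b L117450) L170268
theorem L170272 : sm gf N20034 = N20034 := ded_47_1 (flp_h L170268) L117454 L170268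
theorem L170273 : sm gg N20034 = N13860 := ded_50_1 (flp_h L118092) (flp_g L117455) L170268
theorem L170275 : sm gj N20034 = N13784 := ded_52_1 (flp_h L117457) L117448 L170268
theorem L170277 : sm gd N20034 = N20034 := ded_38_1 (flp_h L170268) L117452 L81250 (flp_d L117452) L170268
theorem L170278 : sm gi N13784 = N20035 := rfl
theorem L170280 : sm gb N20035 = N13792 := ded_26_1 (flp_i L117523) (flp_b L117459) L170278
theorem L170282 : sm gd N20035 = N20035 := ded_39_1 (flp_i L170278) L117464 L170278
theorem L170283 : sm gf N20035 = N20035 := ded_48_1 (flp_i L170278) L117461 L170278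
theorem L170284 : sm gg N20035 = N13785 := ded_51_1 (flp_i L117465) (flp_g L117462) L170278
theorem L170286 : sm gj N13786 = N20036 := rfl
theorem L170288 : sm ga N20036 = N20036 := ded_16_1 (flp_j L170286) L117476 L170286
theorem L170289 : sm gd N20036 = N20036 := ded_37_1 (flp_j L170286) L117477 L170286
theorem L170290 : sm ge N20036 = N20036 := ded_42_1 (flp_j L170286) L117478 L170286
theorem L170291 : sm gf N20036 = N13787 := ded_46_1 (flp_j L117481) L117474 L170286
theorem L170293 : sm gh N13786 = N20037 := rfl
theorem L170295 : sm ga N20037 = N20037 := ded_17_1 (flp_h L170293) L117476 L170293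
theorem L170296 : sm ge N20037 = N20037 := ded_43_1 (flp_h L170293) L117478 L170293
theorem L170297 : sm gf N20037 = N13788 := ded_47_1 (flp_h L117489) L117474 L170293
theorem L170299 : sm gg N20037 = N14601 := ded_50_1 (flp_h L124464) (flp_g L117479) L170293
theorem L170301 : sm gh N13787 = N20038 := rfl
theorem L170303 : sm ga N20038 = N20038 := ded_17_1 (flp_h L170301) L117483 L170301
theorem L170304 : sm ge N20038 = N13791 := ded_43_1 (flp_h L117514) (flp_e L117485) L170301
theorem L170306 : sm gg N20038 = N13864 := ded_50_1 (flp_h L118127) (flp_g L117487) L170301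
theorem L170308 : sm gj N20038 = N13788 := ded_52_1 (flp_h L117489) L117481 L170301
theorem L170310 : sm gd N13788 = N20039 := rfl
theorem L170312 : sm ga N20039 = N20039 := ded_12_1 (flp_d L170310) L117491 L170310
theorem L170313 : sm gg N20039 = N13789 := ded_36_2 (flp_d L117496) (flp_g L117494) L170310
theorem L170315 : sm ge N20039 = N20039 := ded_34_2 (flp_d L170310) L117492 L81282 (flp_e L117492) L170310
theorem L170316 : sm gh N20039 = N20039 := ded_38_2 (flp_d L170310) (flp_h L117489) L81256 L117489 L170310
theorem L170317 : sm gi N13788 = N20040 := rfl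
theorem L170319 : sm ga N20040 = N20040 := ded_18_1 (flp_i L170317) L117491 L170317
theorem L170320 : sm ge N20040 = N13792 := ded_44_1 (flp_i L117523) (flp_e L117492) L170317
theorem L170322 : sm gg N20040 = N13790 := ded_51_1 (flp_i L117505) (flp_g L117494) L170317
theorem L170324 : sm gc N13789 = N20041 := rfl
theorem L170326 : sm ga N20041 = N20041 := ded_11_1 (flp_c L170324) L117498 L170324
theorem L170327 : sm ge N20041 = N20041 := ded_28_2 (flp_c L170324) L117503 L170324
theorem L170328 : sm gf N20041 = N14605 := ded_29_2 (flp_c L124494) (flp_f L117499) L170324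
theorem L170330 : sm gj N20041 = N13867 := ded_31_2 (flp_c L118148) (flp_j L117501) L170324
theorem L170332 : sm gh N20041 = N20041 := ded_32_2 (flp_c L170324) L117504 L170324
theorem L170333 : sm gi N13789 = N20042 := rfl
theorem L170335 : sm ga N20042 = N20042 := ded_18_1 (flp_i L170333) L117498 L170333
theorem L170336 : sm gd N20042 = N13790 := ded_39_1 (flp_i L117505) L117496 L170333
theorem L170338 : sm ge N20042 = N20042 := ded_44_1 (flp_i L170333) L117503 L170333
theorem L170339 : sm gf N20042 = N14606 := ded_48_1 (flp_i L124502) (flp_f L117499) L170333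
theorem L170341 : sm gj N20042 = N13868 := ded_53_1 (flp_i L118155) (flp_j L117501) L170333
theorem L170343 : sm gi N13791 = N20043 := rfl
theorem L170345 : sm ga N20043 = N20043 := ded_18_1 (flp_i L170343) L117516 L170343
theorem L170346 : sm gd N20043 = N20043 := ded_39_1 (flp_i L170343) L117522 L170343
theorem L170347 : sm gf N20043 = N20043 := ded_48_1 (flp_i L170343) L117517 L170343
theorem L170348 : sm gg N20043 = N13869 := ded_51_1 (flp_i L118163) (flp_g L117518) L170343
theorem L170350 : sm gj N20043 = N13792 := ded_53_1 (flp_i L117523) (flp_j L117520) L170343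
theorem L170352 : sm gb N13793 = N20044 := rfl
theorem L170354 : sm gd N20044 = N20044 := ded_20_2 (flp_b L170352) L117538 L170352
theorem L170355 : sm ge N20044 = N20044 := ded_21_2 (flp_b L170352) L117534 L170352
theorem L170356 : sm gg N20044 = N13870 := ded_23_2 (flp_b L118171) (flp_g L117535) L170352
theorem L170358 : sm gi N20044 = N20044 := ded_26_2 (flp_b L170352) L117537 L170352
theorem L170359 : sm ga N20044 = N20044 := ded_10_1 (flp_b L170352) L117532 L81316 (flp_a L117532) L170352
theorem L170360 : sm gc N20044 = N20044 := ded_19_2 (flp_b L170352) (flp_c L117530) L81295 L117530 L170352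
theorem L170361 : sm gf N13793 = N20045 := rfl
theorem L170363 : sm ga N20045 = N13797 := ded_14_1 (flp_f L117569) (flp_a L117532) L170361
theorem L170365 : sm gc N20045 = N13794 := ded_29_1 (flp_f L117539) L117530 L170361
theorem L170367 : sm gd N20045 = N20045 := ded_35_1 (flp_f L170361) L117538 L170361
theorem L170368 : sm gi N20045 = N20045 := ded_48_2 (flp_f L170361) L117537 L170361
theorem L170369 : sm gh N13793 = N20046 := rfl
theorem L170371 : sm ga N20046 = N13798 := ded_17_1 (flp_h L117576) (flp_a L117532) L170369
theorem L170373 : sm gc N20046 = N13795 := ded_32_1 (flp_h L117547) L117530 L170369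
theorem L170375 : sm ge N20046 = N20046 := ded_43_1 (flp_h L170369) L117534 L170369
theorem L170376 : sm gg N20046 = N13872 := ded_50_1 (flp_h L118188) (flp_g L117535) L170369
theorem L170378 : sm ge N13794 = N20047 := rfl
theorem L170380 : sm ga N20047 = N13799 := ded_13_1 (flp_e L117584) (flp_a L117541) L170378
theorem L170382 : sm gb N20047 = N20047 := ded_21_1 (flp_e L170378) L117543 L170378
theorem L170383 : sm gi N20047 = N20047 := ded_44_2 (flp_e L170378) L117546 L170378
theorem L170384 : sm gd N20047 = N20047 := ded_34_1 (flp_e L170378) L117544 L81309 (flp_d L117544) L170378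
theorem L170385 : sm gf N20047 = N20047 := ded_40_2 (flp_e L170378) (flp_f L117539) L81299 L117539 L170378
theorem L170386 : sm gg N13794 = N20048 := rfl
theorem L170388 : sm ga N20048 = N13800 := ded_15_1 (flp_g L117591) (flp_a L117541) L170386
theorem L170390 : sm gb N20048 = N20048 := ded_23_1 (flp_g L170386) L117543 L170386
theorem L170391 : sm gd N20048 = N13796 := ded_36_1 (flp_g L117557) (flp_d L117544) L170386
theorem L170393 : sm gi N20048 = N20048 := ded_51_2 (flp_g L170386) L117546 L170386
theorem L170394 : sm gf N20048 = N13874 := ded_45_1 (flp_g L118206) (flp_f L81729) (flp_g L81296) L117539 L170386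
theorem L170396 : sm gh N13794 = N20049 := rfl
theorem L170398 : sm ga N20049 = N13801 := ded_17_1 (flp_h L117600) (flp_a L117541) L170396
theorem L170400 : sm gb N20049 = N20049 := ded_25_1 (flp_h L170396) L117543 L170396
theorem L170401 : sm gf N20049 = N13795 := ded_47_1 (flp_h L117547) L117539 L170396
theorem L170403 : sm gd N20049 = N13814 := ded_38_1 (flp_h L117722) L81406 (flp_h L81306) (flp_d L117544) L170396
theorem L170405 : sm gi N13795 = N20050 := rfl
theorem L170407 : sm ga N20050 = N13802 := ded_18_1 (flp_i L117608) (flp_a L117549) L170405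
theorem L170409 : sm gb N20050 = N20050 := ded_26_1 (flp_i L170405) L117551 L170405
theorem L170410 : sm gd N20050 = N13815 := ded_39_1 (flp_i L117729) (flp_d L117555) L170405
theorem L170412 : sm ge N20050 = N20050 := ded_44_1 (flp_i L170405) L117552 L170405
theorem L170413 : sm gg N20050 = N13876 := ded_51_1 (flp_i L118224) (flp_g L117553) L170405
theorem L170415 : sm gh N20050 = N20050 := ded_54_1 (flp_i L170405) (flp_h L117547) L81298 L117547 L170405
theorem L170416 : sm gj N13796 = N20051 := rfl
theorem L170418 : sm ga N20051 = N13803 := ded_16_1 (flp_j L117618) (flp_a L117559) L170416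
theorem L170420 : sm gb N20051 = N20051 := ded_24_1 (flp_j L170416) L117561 L170416
theorem L170421 : sm gc N20051 = N20051 := ded_31_1 (flp_j L170416) L117562 L170416
theorem L170422 : sm ge N20051 = N20051 := ded_42_1 (flp_j L170416) L117563 L170416
theorem L170423 : sm gf N20051 = N13877 := ded_46_1 (flp_j L118234) (flp_f L117567) L170416
theorem L170425 : sm gh N20051 = N13816 := ded_52_2 (flp_j L117740) (flp_h L117564) L170416
theorem L170427 : sm gi N20051 = N20051 := ded_53_2 (flp_j L170416) L117566 L170416
theorem L170428 : sm ge N13797 = N20052 := rfl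
theorem L170430 : sm gb N20052 = N20052 := ded_21_1 (flp_e L170428) L117571 L170428
theorem L170431 : sm gc N20052 = N13799 := ded_28_1 (flp_e L117584) (flp_c L117572) L170428
theorem L170433 : sm gi N20052 = N20052 := ded_44_2 (flp_e L170428) L117575 L170428
theorem L170434 : sm gf N20052 = N20052 := ded_40_2 (flp_e L170428) (flp_f L117569) L81312 L117569 L170428
theorem L170435 : sm gg N13797 = N20053 := rfl
theorem L170437 : sm gb N20053 = N20053 := ded_23_1 (flp_g L170435) L117571 L170435
theorem L170438 : sm gc N20053 = N13800 := ded_30_1 (flp_g L117591) (flp_c L117572) L170435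
theorem L170440 : sm gd N20053 = N20053 := ded_36_1 (flp_g L170435) L117574 L170435
theorem L170441 : sm gi N20053 = N20053 := ded_51_2 (flp_g L170435) L117575 L170435
theorem L170442 : sm gf N20053 = N13879 := ded_45_1 (flp_g L118254) (flp_f L81758) (flp_g L81313) L117569 L170435
theorem L170444 : sm gh N13797 = N20054 := rfl
theorem L170446 : sm gb N20054 = N20054 := ded_25_1 (flp_h L170444) L117571 L170444
theorem L170447 : sm gc N20054 = N13801 := ded_32_1 (flp_h L117600) (flp_c L117572) L170444
theorem L170449 : sm gf N20054 = N13798 := ded_47_1 (flp_h L117576) L117569 L170444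
theorem L170451 : sm gd N13798 = N20055 := rfl
theorem L170453 : sm gb N20055 = N20055 := ded_20_1 (flp_d L170451) L117578 L170451
theorem L170454 : sm gg N20055 = N13881 := ded_36_2 (flp_d L118269) (flp_g L117582) L170451
theorem L170456 : sm gc N20055 = N13820 := ded_27_1 (flp_d L117774) L81439 (flp_d L81332) (flp_c L117579) L170451
theorem L170458 : sm gh N20055 = N20055 := ded_38_2 (flp_d L170451) (flp_h L117576) L81317 L117576 L170451
theorem L170459 : sm gi N13798 = N20056 := rfl
theorem L170461 : sm gb N20056 = N20056 := ded_26_1 (flp_i L170459) L117578 L170459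
theorem L170462 : sm gc N20056 = N13802 := ded_33_1 (flp_i L117608) (flp_c L117579) L170459
theorem L170464 : sm ge N20056 = N20056 := ded_44_1 (flp_i L170459) L117581 L170459
theorem L170465 : sm gg N20056 = N13882 := ded_51_1 (flp_i L118276) (flp_g L117582) L170459
theorem L170467 : sm gh N20056 = N20056 := ded_54_1 (flp_i L170459) (flp_h L117576) L81315 L117576 L170459
theorem L170468 : sm gg N13799 = N20057 := rfl
theorem L170470 : sm gb N20057 = N13804 := ded_23_1 (flp_g L117629) (flp_b L117586) L170468
theorem L170472 : sm gd N20057 = N20057 := ded_36_1 (flp_g L170468) L117589 L170468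
theorem L170473 : sm ge N20057 = N13800 := ded_41_1 (flp_g L117591) L117584 L170468
theorem L170475 : sm gi N20057 = N20057 := ded_51_2 (flp_g L170468) L117588 L170468
theorem L170476 : sm gh N13799 = N20058 := rfl
theorem L170478 : sm gb N20058 = N13805 := ded_25_1 (flp_h L117637) (flp_b L117586) L170476
theorem L170480 : sm ge N20058 = N13801 := ded_43_1 (flp_h L117600) L117584 L170476
theorem L170482 : sm gf N20058 = N20058 := ded_47_1 (flp_h L170476) L117590 L170476
theorem L170483 : sm gj N13800 = N20059 := rfl
theorem L170485 : sm gb N20059 = N13806 := ded_24_1 (flp_j L117644) (flp_b L117593) L170483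
theorem L170487 : sm gd N20059 = N13803 := ded_37_1 (flp_j L117618) (flp_d L117595) L170483
theorem L170489 : sm gf N20059 = N13885 := ded_46_1 (flp_j L118301) (flp_f L117598) L170483
theorem L170491 : sm gi N20059 = N20059 := ded_53_2 (flp_j L170483) L117597 L170483
theorem L170492 : sm gh N13800 = N20060 := rfl
theorem L170494 : sm gb N20060 = N13807 := ded_25_1 (flp_h L117653) (flp_b L117593) L170492
theorem L170496 : sm gf N20060 = N13886 := ded_47_1 (flp_h L118309) (flp_f L117598) L170492
theorem L170498 : sm gg N20060 = N13801 := ded_50_1 (flp_h L117600) L117591 L170492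
theorem L170500 : sm gd N20060 = N13825 := ded_38_1 (flp_h L117816) L81458 (flp_h L81340) (flp_d L117595) L170492
theorem L170502 : sm gi N13801 = N20061 := rfl
theorem L170504 : sm gb N20061 = N13808 := ded_26_1 (flp_i L117663) (flp_b L117602) L170502
theorem L170506 : sm gd N20061 = N13826 := ded_39_1 (flp_i L117824) (flp_d L117606) L170502
theorem L170508 : sm gf N20061 = N13802 := ded_48_1 (flp_i L117608) (flp_f L117604) L170502
theorem L170510 : sm gh N20061 = N20061 := ded_54_1 (flp_i L170502) (flp_h L117600) L81324 L117600 L170502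
theorem L170511 : sm gf N13804 = N20062 := rfl
theorem L170513 : sm ga N20062 = N20062 := ded_14_1 (flp_f L170511) L117631 L170511
theorem L170514 : sm gc N20062 = N20062 := ded_29_1 (flp_f L170511) L117632 L170511
theorem L170515 : sm gd N20062 = N20062 := ded_35_1 (flp_f L170511) L117633 L170511
theorem L170516 : sm gi N20062 = N20062 := ded_48_2 (flp_f L170511) L117636 L170511
theorem L170517 : sm ge N20062 = N13888 := ded_40_1 (flp_f L118327) L81824 (flp_f L81359) (flp_e L117634) L170511
theorem L170519 : sm gg N20062 = N20062 := ded_45_2 (flp_f L170511) (flp_g L117629) L81351 L117629 L170511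
theorem L170520 : sm gj N13804 = N20063 := rfl
theorem L170522 : sm ga N20063 = N20063 := ded_16_1 (flp_j L170520) L117631 L170520
theorem L170523 : sm gc N20063 = N20063 := ded_31_1 (flp_j L170520) L117632 L170520
theorem L170524 : sm gd N20063 = N20063 := ded_37_1 (flp_j L170520) L117633 L170520
theorem L170525 : sm ge N20063 = N13806 := ded_42_1 (flp_j L117644) (flp_e L117634) L170520
theorem L170527 : sm gi N20063 = N20063 := ded_53_2 (flp_j L170520) L117636 L170520
theorem L170528 : sm gh N13804 = N20064 := rfl
theorem L170530 : sm ga N20064 = N20064 := ded_17_1 (flp_h L170528) L117631 L170528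
theorem L170531 : sm gc N20064 = N20064 := ded_32_1 (flp_h L170528) L117632 L170528
theorem L170532 : sm ge N20064 = N13807 := ded_43_1 (flp_h L117653) (flp_e L117634) L170528
theorem L170534 : sm gg N20064 = N13805 := ded_50_1 (flp_h L117637) L117629 L170528
theorem L170536 : sm gd N13805 = N20065 := rfl
theorem L170538 : sm ga N20065 = N20065 := ded_12_1 (flp_d L170536) L117639 L170536
theorem L170539 : sm gf N20065 = N20065 := ded_35_2 (flp_d L170536) L117643 L170536
theorem L170540 : sm ge N20065 = N13830 := ded_34_2 (flp_d L117857) L81501 (flp_d L81367) (flp_e L117641) L170536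
theorem L170542 : sm gh N20065 = N20065 := ded_38_2 (flp_d L170536) (flp_h L117637) L81350 L117637 L170536
theorem L170543 : sm gi N13805 = N20066 := rfl
theorem L170545 : sm ga N20066 = N20066 := ded_18_1 (flp_i L170543) L117639 L170543
theorem L170546 : sm gc N20066 = N20066 := ded_33_1 (flp_i L170543) L117640 L170543
theorem L170547 : sm ge N20066 = N13808 := ded_44_1 (flp_i L117663) (flp_e L117641) L170543
theorem L170549 : sm gf N20066 = N20066 := ded_48_1 (flp_i L170543) L117643 L170543
theorem L170550 : sm gh N20066 = N20066 := ded_54_1 (flp_i L170543) (flp_h L117637) L81349 L117637 L170543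
theorem L170551 : sm gh N13806 = N20067 := rfl
theorem L170553 : sm ga N20067 = N20067 := ded_17_1 (flp_h L170551) L117646 L170551
theorem L170554 : sm gc N20067 = N20067 := ded_32_1 (flp_h L170551) L117647 L170551
theorem L170555 : sm gf N20067 = N13893 := ded_47_1 (flp_h L118371) (flp_f L117650) L170551
theorem L170557 : sm gj N20067 = N13807 := ded_52_1 (flp_h L117653) L117644 L170551
theorem L170559 : sm gd N20067 = N13832 := ded_38_1 (flp_h L117872) L81508 (flp_h L81387) (flp_d L117648) L170551
theorem L170561 : sm gi N13807 = N20068 := rfl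
theorem L170563 : sm ga N20068 = N20068 := ded_18_1 (flp_i L170561) L117655 L170561
theorem L170564 : sm gc N20068 = N20068 := ded_33_1 (flp_i L170561) L117656 L170561
theorem L170565 : sm gd N20068 = N13833 := ded_39_1 (flp_i L117879) (flp_d L117661) L170561
theorem L170567 : sm gf N20068 = N13894 := ded_48_1 (flp_i L118380) (flp_f L117657) L170561
theorem L170569 : sm gg N20068 = N13808 := ded_51_1 (flp_i L117663) (flp_g L117659) L170561
theorem L170571 : sm gh N20068 = N20068 := ded_54_1 (flp_i L170561) (flp_h L117653) L81358 L117653 L170561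
theorem L170572 : sm gf N13809 = N20069 := rfl
theorem L170574 : sm gb N20069 = N13810 := ded_22_1 (flp_f L117682) L117672 L170572
theorem L170576 : sm gc N20069 = N20069 := ded_29_1 (flp_f L170572) L117681 L170572
theorem L170577 : sm gd N20069 = N20069 := ded_35_1 (flp_f L170572) L117674 L170572
theorem L170578 : sm gi N20069 = N13834 := ded_48_2 (flp_f L117888) (flp_i L117679) L170572
theorem L170580 : sm gh N13809 = N20070 := rfl
theorem L170582 : sm gb N20070 = N13811 := ded_25_1 (flp_h L117691) L117672 L170580
theorem L170584 : sm gc N20070 = N20070 := ded_32_1 (flp_h L170580) L117681 L170580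
theorem L170585 : sm ge N20070 = N14609 := ded_43_1 (flp_h L124530) (flp_e L117675) L170580
theorem L170587 : sm gg N20070 = N13896 := ded_50_1 (flp_h L118398) (flp_g L117677) L170580
theorem L170589 : sm ge N13810 = N20071 := rfl
theorem L170591 : sm ga N20071 = N13817 := ded_13_1 (flp_e L117751) (flp_a L117684) L170589
theorem L170593 : sm gc N20071 = N13812 := ded_28_1 (flp_e L117701) (flp_c L117686) L170589
theorem L170595 : sm gi N20071 = N13836 := ded_44_2 (flp_e L117903) (flp_i L117689) L170589
theorem L170597 : sm gf N20071 = N14610 := ded_40_2 (flp_e L124537) (flp_f L85979) (flp_e L81394) L117682 L170589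
theorem L170599 : sm gg N13810 = N20072 := rfl
theorem L170601 : sm ga N20072 = N13818 := ded_15_1 (flp_g L117759) (flp_a L117684) L170599
theorem L170603 : sm gc N20072 = N13813 := ded_30_1 (flp_g L117711) (flp_c L117686) L170599
theorem L170605 : sm gd N20072 = N20072 := ded_36_1 (flp_g L170599) L117688 L170599
theorem L170606 : sm gi N20072 = N13837 := ded_51_2 (flp_g L117911) (flp_i L117689) L170599
theorem L170608 : sm gf N20072 = N13898 := ded_45_1 (flp_g L118417) (flp_f L81870) (flp_g L81396) L117682 L170599
theorem L170610 : sm gh N13810 = N20073 := rfl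
theorem L170612 : sm ga N20073 = N13819 := ded_17_1 (flp_h L117768) (flp_a L117684) L170610
theorem L170614 : sm gc N20073 = N13814 := ded_32_1 (flp_h L117722) (flp_c L117686) L170610
theorem L170616 : sm gf N20073 = N13811 := ded_47_1 (flp_h L117691) L117682 L170610
theorem L170618 : sm gd N13811 = N20074 := rfl
theorem L170620 : sm ga N20074 = N13820 := ded_12_1 (flp_d L117774) (flp_a L117693) L170618
theorem L170622 : sm gg N20074 = N13900 := ded_36_2 (flp_d L118435) (flp_g L117699) L170618
theorem L170624 : sm gh N20074 = N20074 := ded_38_2 (flp_d L170618) (flp_h L117691) L81400 L117691 L170618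
theorem L170625 : sm gi N13811 = N20075 := rfl
theorem L170627 : sm ga N20075 = N13821 := ded_18_1 (flp_i L117779) (flp_a L117693) L170625
theorem L170629 : sm gc N20075 = N13815 := ded_33_1 (flp_i L117729) (flp_c L117695) L170625
theorem L170631 : sm ge N20075 = N14614 := ded_44_1 (flp_i L124574) (flp_e L117697) L170625
theorem L170633 : sm gg N20075 = N13901 := ded_51_1 (flp_i L118441) (flp_g L117699) L170625
theorem L170635 : sm gh N20075 = N13840 := ded_54_1 (flp_i L117936) (flp_h L81543) (flp_i L81398) L117691 L170625
theorem L170637 : sm gg N13812 = N20076 := rfl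
theorem L170639 : sm ga N20076 = N13822 := ded_15_1 (flp_g L117789) (flp_a L117703) L170637
theorem L170641 : sm gb N20076 = N20076 := ded_23_1 (flp_g L170637) L117705 L170637
theorem L170642 : sm gd N20076 = N20076 := ded_36_1 (flp_g L170637) L117708 L170637
theorem L170643 : sm ge N20076 = N13813 := ded_41_1 (flp_g L117711) L117701 L170637
theorem L170645 : sm gi N20076 = N13841 := ded_51_2 (flp_g L117946) (flp_i L117706) L170637
theorem L170647 : sm gh N13812 = N20077 := rfl
theorem L170649 : sm ga N20077 = N13823 := ded_17_1 (flp_h L117798) (flp_a L117703) L170647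
theorem L170651 : sm gb N20077 = N20077 := ded_25_1 (flp_h L170647) L117705 L170647
theorem L170652 : sm ge N20077 = N13814 := ded_43_1 (flp_h L117722) L117701 L170647
theorem L170654 : sm gf N20077 = N14616 := ded_47_1 (flp_h L124594) (flp_f L117709) L170647
theorem L170656 : sm gj N13813 = N20078 := rfl
theorem L170658 : sm ga N20078 = N13824 := ded_16_1 (flp_j L117806) (flp_a L117713) L170656
theorem L170660 : sm gb N20078 = N20078 := ded_24_1 (flp_j L170656) L117715 L170656
theorem L170661 : sm gd N20078 = N13816 := ded_37_1 (flp_j L117740) (flp_d L117716) L170656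
theorem L170663 : sm gf N20078 = N13904 := ded_46_1 (flp_j L118473) (flp_f L117720) L170656
theorem L170665 : sm gi N20078 = N13843 := ded_53_2 (flp_j L117963) (flp_i L117718) L170656
theorem L170667 : sm gh N13813 = N20079 := rfl
theorem L170669 : sm ga N20079 = N13825 := ded_17_1 (flp_h L117816) (flp_a L117713) L170667
theorem L170671 : sm gb N20079 = N20079 := ded_25_1 (flp_h L170667) L117715 L170667
theorem L170672 : sm gf N20079 = N13905 := ded_47_1 (flp_h L118483) (flp_f L117720) L170667
theorem L170674 : sm gg N20079 = N13814 := ded_50_1 (flp_h L117722) L117711 L170667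
theorem L170676 : sm gi N13814 = N20080 := rfl
theorem L170678 : sm ga N20080 = N13826 := ded_18_1 (flp_i L117824) (flp_a L117724) L170676
theorem L170680 : sm gb N20080 = N20080 := ded_26_1 (flp_i L170676) L117726 L170676
theorem L170681 : sm gf N20080 = N13815 := ded_48_1 (flp_i L117729) (flp_f L117727) L170676
theorem L170683 : sm gh N20080 = N13845 := ded_54_1 (flp_i L117982) (flp_h L81570) (flp_i L81408) L117722 L170676
theorem L170685 : sm gd N13817 = N20081 := rfl
theorem L170687 : sm gf N20081 = N14620 := ded_35_2 (flp_d L124632) (flp_f L117757) L170685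
theorem L170689 : sm gi N20081 = N13846 := ded_39_2 (flp_d L117990) (flp_i L117755) L170685
theorem L170691 : sm gc N20081 = N20081 := ded_27_1 (flp_d L170685) L117753 L81451 (flp_c L117753) L170685
theorem L170692 : sm ge N20081 = N20081 := ded_34_2 (flp_d L170685) (flp_e L117751) L81434 L117751 L170685
theorem L170693 : sm gg N13817 = N20082 := rfl
theorem L170695 : sm gc N20082 = N13822 := ded_30_1 (flp_g L117789) (flp_c L117753) L170693
theorem L170697 : sm ge N20082 = N13818 := ded_41_1 (flp_g L117759) L117751 L170693
theorem L170699 : sm gi N20082 = N13847 := ded_51_2 (flp_g L117996) (flp_i L117755) L170693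
theorem L170701 : sm gh N13817 = N20083 := rfl
theorem L170703 : sm gc N20083 = N13823 := ded_32_1 (flp_h L117798) (flp_c L117753) L170701
theorem L170705 : sm ge N20083 = N13819 := ded_43_1 (flp_h L117768) L117751 L170701
theorem L170707 : sm gf N20083 = N14622 := ded_47_1 (flp_h L124647) (flp_f L117757) L170701
theorem L170709 : sm gj N13818 = N20084 := rfl
theorem L170711 : sm gc N20084 = N13824 := ded_31_1 (flp_j L117806) (flp_c L117761) L170709
theorem L170713 : sm gd N20084 = N20084 := ded_37_1 (flp_j L170709) L117763 L170709
theorem L170714 : sm gf N20084 = N13910 := ded_46_1 (flp_j L118527) (flp_f L117766) L170709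
theorem L170716 : sm gi N20084 = N13849 := ded_53_2 (flp_j L118010) (flp_i L117764) L170709
theorem L170718 : sm gh N13818 = N20085 := rfl
theorem L170720 : sm gc N20085 = N13825 := ded_32_1 (flp_h L117816) (flp_c L117761) L170718
theorem L170722 : sm gf N20085 = N13911 := ded_47_1 (flp_h L118535) (flp_f L117766) L170718
theorem L170724 : sm gg N20085 = N13819 := ded_50_1 (flp_h L117768) L117759 L170718
theorem L170726 : sm gd N13819 = N20086 := rfl
theorem L170728 : sm gf N20086 = N13820 := ded_35_2 (flp_d L117774) (flp_f L117772) L170726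
theorem L170730 : sm gh N20086 = N20086 := ded_38_2 (flp_d L170726) (flp_h L117768) L81434 L117768 L170726
theorem L170731 : sm gi N13819 = N20087 := rfl
theorem L170733 : sm gc N20087 = N13826 := ded_33_1 (flp_i L117824) (flp_c L117770) L170731
theorem L170735 : sm gf N20087 = N13821 := ded_48_1 (flp_i L117779) (flp_f L117772) L170731
theorem L170737 : sm gh N20087 = N13852 := ded_54_1 (flp_i L118031) (flp_h L81611) (flp_i L81435) L117768 L170731
theorem L170739 : sm ge N13820 = N20088 := rfl
theorem L170741 : sm gg N20088 = N13914 := ded_41_2 (flp_e L118556) (flp_g L117776) L170739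
theorem L170743 : sm gh N20088 = N20088 := ded_43_2 (flp_e L170739) L117778 L170739
theorem L170744 : sm gd N20088 = N14627 := ded_34_1 (flp_e L124686) (flp_d L86069) (flp_e L81441) L117774 L170739
theorem L170746 : sm gi N13820 = N20089 := rfl
theorem L170748 : sm gd N20089 = N13821 := ded_39_1 (flp_i L117779) L117774 L170746
theorem L170750 : sm gg N20089 = N13915 := ded_51_1 (flp_i L118562) (flp_g L117776) L170746
theorem L170752 : sm gf N13822 = N20090 := rfl
theorem L170754 : sm gb N20090 = N13827 := ded_22_1 (flp_f L117832) (flp_b L117791) L170752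
theorem L170756 : sm gd N20090 = N20090 := ded_35_1 (flp_f L170752) L117793 L170752
theorem L170757 : sm gi N20090 = N13855 := ded_48_2 (flp_f L118052) (flp_i L117796) L170752
theorem L170759 : sm ge N20090 = N13916 := ded_40_1 (flp_f L118567) L81981 (flp_f L81462) (flp_e L117794) L170752
theorem L170761 : sm gg N20090 = N14629 := ded_45_2 (flp_f L124700) (flp_g L86084) (flp_f L81452) L117789 L170752
theorem L170763 : sm gj N13822 = N20091 := rfl
theorem L170765 : sm gb N20091 = N13828 := ded_24_1 (flp_j L117842) (flp_b L117791) L170763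
theorem L170767 : sm gd N20091 = N20091 := ded_37_1 (flp_j L170763) L117793 L170763
theorem L170768 : sm ge N20091 = N13824 := ded_42_1 (flp_j L117806) (flp_e L117794) L170763
theorem L170770 : sm gi N20091 = N13856 := ded_53_2 (flp_j L118061) (flp_i L117796) L170763
theorem L170772 : sm gh N13822 = N20092 := rfl
theorem L170774 : sm gb N20092 = N13829 := ded_25_1 (flp_h L117850) (flp_b L117791) L170772
theorem L170776 : sm ge N20092 = N13825 := ded_43_1 (flp_h L117816) (flp_e L117794) L170772
theorem L170778 : sm gg N20092 = N13823 := ded_50_1 (flp_h L117798) L117789 L170772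
theorem L170780 : sm gd N13823 = N20093 := rfl
theorem L170782 : sm gb N20093 = N13830 := ded_20_1 (flp_d L117857) (flp_b L117800) L170780
theorem L170784 : sm gf N20093 = N14632 := ded_35_2 (flp_d L124726) (flp_f L117804) L170780
theorem L170786 : sm gh N20093 = N20093 := ded_38_2 (flp_d L170780) (flp_h L117798) L81451 L117798 L170780
theorem L170787 : sm gi N13823 = N20094 := rfl
theorem L170789 : sm gb N20094 = N13831 := ded_26_1 (flp_i L117863) (flp_b L117800) L170787
theorem L170791 : sm ge N20094 = N13826 := ded_44_1 (flp_i L117824) (flp_e L117802) L170787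
theorem L170793 : sm gf N20094 = N14633 := ded_48_1 (flp_i L124732) (flp_f L117804) L170787
theorem L170795 : sm gh N20094 = N13859 := ded_54_1 (flp_i L118084) (flp_h L81638) (flp_i L81449) L117798 L170787
theorem L170797 : sm gh N13824 = N20095 := rfl
theorem L170799 : sm gb N20095 = N13832 := ded_25_1 (flp_h L117872) (flp_b L117808) L170797
theorem L170801 : sm gf N20095 = N13921 := ded_47_1 (flp_h L118616) (flp_f L117812) L170797
theorem L170803 : sm gj N20095 = N13825 := ded_52_1 (flp_h L117816) L117806 L170797
theorem L170805 : sm gi N13825 = N20096 := rfl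
theorem L170807 : sm gb N20096 = N13833 := ded_26_1 (flp_i L117879) (flp_b L117818) L170805
theorem L170809 : sm gf N20096 = N13922 := ded_48_1 (flp_i L118623) (flp_f L117820) L170805
theorem L170811 : sm gg N20096 = N13826 := ded_51_1 (flp_i L117824) (flp_g L117822) L170805
theorem L170813 : sm gh N20096 = N13861 := ded_54_1 (flp_i L118101) (flp_h L81654) (flp_i L81460) L117816 L170805
theorem L170815 : sm gj N13827 = N20097 := rfl
theorem L170817 : sm ga N20097 = N20097 := ded_16_1 (flp_j L170815) L117834 L170815
theorem L170818 : sm gd N20097 = N20097 := ded_37_1 (flp_j L170815) L117835 L170815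
theorem L170819 : sm ge N20097 = N13923 := ded_42_1 (flp_j L118631) (flp_e L117838) L170815
theorem L170821 : sm gf N20097 = N13828 := ded_46_1 (flp_j L117842) L117832 L170815
theorem L170823 : sm gi N20097 = N13862 := ded_53_2 (flp_j L118110) (flp_i L117836) L170815
theorem L170825 : sm gh N13827 = N20098 := rfl
theorem L170827 : sm ga N20098 = N20098 := ded_17_1 (flp_h L170825) L117834 L170825
theorem L170828 : sm ge N20098 = N13924 := ded_43_1 (flp_h L118640) (flp_e L117838) L170825
theorem L170830 : sm gf N20098 = N13829 := ded_47_1 (flp_h L117850) L117832 L170825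
theorem L170832 : sm gg N20098 = N14637 := ded_50_1 (flp_h L124770) (flp_g L117840) L170825
theorem L170834 : sm gh N13828 = N20099 := rfl
theorem L170836 : sm ga N20099 = N20099 := ded_17_1 (flp_h L170834) L117844 L170834
theorem L170837 : sm ge N20099 = N13832 := ded_43_1 (flp_h L117872) (flp_e L117846) L170834
theorem L170839 : sm gj N20099 = N13829 := ded_52_1 (flp_h L117850) L117842 L170834
theorem L170841 : sm gd N13829 = N20100 := rfl
theorem L170843 : sm ga N20100 = N20100 := ded_12_1 (flp_d L170841) L117852 L170841
theorem L170844 : sm gg N20100 = N13830 := ded_36_2 (flp_d L117857) (flp_g L117855) L170841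
theorem L170846 : sm gh N20100 = N20100 := ded_38_2 (flp_d L170841) (flp_h L117850) L81493 L117850 L170841
theorem L170847 : sm gi N13829 = N20101 := rfl
theorem L170849 : sm ga N20101 = N20101 := ded_18_1 (flp_i L170847) L117852 L170847
theorem L170850 : sm ge N20101 = N13833 := ded_44_1 (flp_i L117879) (flp_e L117853) L170847
theorem L170852 : sm gg N20101 = N13831 := ded_51_1 (flp_i L117863) (flp_g L117855) L170847
theorem L170854 : sm gh N20101 = N13866 := ded_54_1 (flp_i L118141) (flp_h L81684) (flp_i L81496) L117850 L170847
theorem L170856 : sm gc N13830 = N20102 := rfl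
theorem L170858 : sm ga N20102 = N20102 := ded_11_1 (flp_c L170856) L117859 L170856
theorem L170859 : sm gf N20102 = N14641 := ded_29_2 (flp_c L124800) (flp_f L117860) L170856
theorem L170861 : sm gh N20102 = N20102 := ded_32_2 (flp_c L170856) L117862 L170856
theorem L170862 : sm gi N13830 = N20103 := rfl
theorem L170864 : sm ga N20103 = N20103 := ded_18_1 (flp_i L170862) L117859 L170862
theorem L170865 : sm gd N20103 = N13831 := ded_39_1 (flp_i L117863) L117857 L170862
theorem L170867 : sm gf N20103 = N14642 := ded_48_1 (flp_i L124805) (flp_f L117860) L170862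
theorem L170869 : sm gi N13832 = N20104 := rfl
theorem L170871 : sm ga N20104 = N20104 := ded_18_1 (flp_i L170869) L117874 L170869
theorem L170872 : sm gf N20104 = N13930 := ded_48_1 (flp_i L118687) (flp_f L117875) L170869
theorem L170874 : sm gj N20104 = N13833 := ded_53_1 (flp_i L117879) (flp_j L117877) L170869
theorem L170876 : sm gh N20104 = N13869 := ded_54_1 (flp_i L118163) (flp_h L81705) (flp_i L81512) L117872 L170869
theorem L170878 : sm ge N13834 = N20105 := rfl
theorem L170880 : sm gb N20105 = N13836 := ded_21_1 (flp_e L117903) (flp_b L117890) L170878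
theorem L170882 : sm gc N20105 = N20105 := ded_28_1 (flp_e L170878) L117892 L170878
theorem L170883 : sm gf N20105 = N14644 := ded_40_2 (flp_e L124821) (flp_f L86180) (flp_e L81531) L117888 L170878
theorem L170885 : sm gg N13834 = N20106 := rfl
theorem L170887 : sm gb N20106 = N13837 := ded_23_1 (flp_g L117911) (flp_b L117890) L170885
theorem L170889 : sm gc N20106 = N20106 := ded_30_1 (flp_g L170885) L117892 L170885
theorem L170890 : sm gd N20106 = N20106 := ded_36_1 (flp_g L170885) L117893 L170885
theorem L170891 : sm gf N20106 = N13932 := ded_45_1 (flp_g L118703) (flp_f L82075) (flp_g L81533) L117888 L170885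
theorem L170893 : sm gh N13834 = N20107 := rfl
theorem L170895 : sm gb N20107 = N13838 := ded_25_1 (flp_h L117920) (flp_b L117890) L170893
theorem L170897 : sm gc N20107 = N20107 := ded_32_1 (flp_h L170893) L117892 L170893
theorem L170898 : sm gf N20107 = N13835 := ded_47_1 (flp_h L117894) L117888 L170893
theorem L170900 : sm gd N13835 = N20108 := rfl
theorem L170902 : sm gb N20108 = N13839 := ded_20_1 (flp_d L117928) (flp_b L117896) L170900
theorem L170904 : sm gg N20108 = N13934 := ded_36_2 (flp_d L118717) (flp_g L117901) L170900
theorem L170907 : sm gi N13835 = N20109 := rfl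
theorem L170909 : sm gb N20109 = N13840 := ded_26_1 (flp_i L117936) (flp_b L117896) L170907
theorem L170911 : sm gc N20109 = N20109 := ded_33_1 (flp_i L170907) L117898 L170907
theorem L170912 : sm ge N20109 = N14648 := ded_44_1 (flp_i L124850) (flp_e L117899) L170907
theorem L170914 : sm gg N20109 = N13935 := ded_51_1 (flp_i L118723) (flp_g L117901) L170907
theorem L170916 : sm gd N13836 = N20110 := rfl
theorem L170918 : sm ga N20110 = N13846 := ded_12_1 (flp_d L117990) (flp_a L117905) L170916
theorem L170920 : sm gf N20110 = N14649 := ded_35_2 (flp_d L124857) (flp_f L117909) L170916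
theorem L170922 : sm gc N20110 = N20110 := ded_27_1 (flp_d L170916) L117907 L81558 (flp_c L117907) L170916
theorem L170923 : sm ge N20110 = N20110 := ded_34_2 (flp_d L170916) (flp_e L117903) L81542 L117903 L170916
theorem L170924 : sm gg N13836 = N20111 := rfl
theorem L170926 : sm ga N20111 = N13847 := ded_15_1 (flp_g L117996) (flp_a L117905) L170924
theorem L170928 : sm gc N20111 = N13841 := ded_30_1 (flp_g L117946) (flp_c L117907) L170924
theorem L170930 : sm ge N20111 = N13837 := ded_41_1 (flp_g L117911) L117903 L170924
theorem L170932 : sm gh N13836 = N20112 := rfl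
theorem L170934 : sm ga N20112 = N13848 := ded_17_1 (flp_h L118002) (flp_a L117905) L170932
theorem L170936 : sm gc N20112 = N13842 := ded_32_1 (flp_h L117954) (flp_c L117907) L170932
theorem L170938 : sm ge N20112 = N13838 := ded_43_1 (flp_h L117920) L117903 L170932
theorem L170940 : sm gf N20112 = N14651 := ded_47_1 (flp_h L124872) (flp_f L117909) L170932
theorem L170942 : sm gj N13837 = N20113 := rfl
theorem L170944 : sm ga N20113 = N13849 := ded_16_1 (flp_j L118010) (flp_a L117913) L170942
theorem L170946 : sm gc N20113 = N13843 := ded_31_1 (flp_j L117963) (flp_c L117915) L170942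
theorem L170948 : sm gd N20113 = N20113 := ded_37_1 (flp_j L170942) L117917 L170942
theorem L170949 : sm gf N20113 = N13939 := ded_46_1 (flp_j L118760) (flp_f L117918) L170942
theorem L170951 : sm gh N13837 = N20114 := rfl
theorem L170953 : sm ga N20114 = N13850 := ded_17_1 (flp_h L118017) (flp_a L117913) L170951
theorem L170955 : sm gc N20114 = N13844 := ded_32_1 (flp_h L117972) (flp_c L117915) L170951
theorem L170957 : sm gf N20114 = N13940 := ded_47_1 (flp_h L118768) (flp_f L117918) L170951
theorem L170959 : sm gg N20114 = N13838 := ded_50_1 (flp_h L117920) L117911 L170951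
theorem L170961 : sm gd N13838 = N20115 := rfl
theorem L170963 : sm ga N20115 = N13851 := ded_12_1 (flp_d L118025) (flp_a L117922) L170961
theorem L170965 : sm gf N20115 = N13839 := ded_35_2 (flp_d L117928) (flp_f L117926) L170961
theorem L170967 : sm gc N20115 = N20115 := ded_27_1 (flp_d L170961) L117924 L81577 (flp_c L117924) L170961
theorem L170968 : sm gh N20115 = N20115 := ded_38_2 (flp_d L170961) (flp_h L117920) L81542 L117920 L170961
theorem L170969 : sm gi N13838 = N20116 := rfl
theorem L170971 : sm ga N20116 = N13852 := ded_18_1 (flp_i L118031) (flp_a L117922) L170969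
theorem L170973 : sm gc N20116 = N13845 := ded_33_1 (flp_i L117982) (flp_c L117924) L170969
theorem L170975 : sm gf N20116 = N13840 := ded_48_1 (flp_i L117936) (flp_f L117926) L170969
theorem L170977 : sm ge N13839 = N20117 := rfl
theorem L170979 : sm ga N20117 = N13853 := ded_13_1 (flp_e L118037) (flp_a L117930) L170977
theorem L170982 : sm gg N20117 = N13943 := ded_41_2 (flp_e L118794) (flp_g L117932) L170977
theorem L170987 : sm gi N13839 = N20118 := rfl
theorem L170989 : sm ga N20118 = N13854 := ded_18_1 (flp_i L118045) (flp_a L117930) L170987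
theorem L170991 : sm gc N20118 = N20118 := ded_33_1 (flp_i L170987) L117934 L170987
theorem L170992 : sm gd N20118 = N13840 := ded_39_1 (flp_i L117936) L117928 L170987
theorem L170994 : sm gg N20118 = N13944 := ded_51_1 (flp_i L118803) (flp_g L117932) L170987
theorem L170996 : sm gf N13841 = N20119 := rfl
theorem L170998 : sm ga N20119 = N13855 := ded_14_1 (flp_f L118052) (flp_a L117948) L170996
theorem L171000 : sm gb N20119 = N20119 := ded_22_1 (flp_f L170996) L117950 L170996
theorem L171001 : sm gd N20119 = N20119 := ded_35_1 (flp_f L170996) L117951 L170996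
theorem L171002 : sm ge N20119 = N13945 := ded_40_1 (flp_f L118811) L82138 (flp_f L81568) (flp_e L117952) L170996
theorem L171004 : sm gg N20119 = N14658 := ded_45_2 (flp_f L124938) (flp_g L86236) (flp_f L81559) L117946 L170996
theorem L171006 : sm gj N13841 = N20120 := rfl
theorem L171008 : sm ga N20120 = N13856 := ded_16_1 (flp_j L118061) (flp_a L117948) L171006
theorem L171010 : sm gb N20120 = N20120 := ded_24_1 (flp_j L171006) L117950 L171006
theorem L171011 : sm gd N20120 = N20120 := ded_37_1 (flp_j L171006) L117951 L171006
theorem L171012 : sm ge N20120 = N13843 := ded_42_1 (flp_j L117963) (flp_e L117952) L171006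
theorem L171014 : sm gh N13841 = N20121 := rfl
theorem L171016 : sm ga N20121 = N13857 := ded_17_1 (flp_h L118068) (flp_a L117948) L171014
theorem L171018 : sm gb N20121 = N20121 := ded_25_1 (flp_h L171014) L117950 L171014
theorem L171019 : sm ge N20121 = N13844 := ded_43_1 (flp_h L117972) (flp_e L117952) L171014
theorem L171021 : sm gg N20121 = N13842 := ded_50_1 (flp_h L117954) L117946 L171014
theorem L171023 : sm gd N13842 = N20122 := rfl
theorem L171025 : sm ga N20122 = N13858 := ded_12_1 (flp_d L118076) (flp_a L117956) L171023
theorem L171027 : sm gb N20122 = N20122 := ded_20_1 (flp_d L171023) L117958 L171023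
theorem L171028 : sm gf N20122 = N14661 := ded_35_2 (flp_d L124963) (flp_f L117961) L171023
theorem L171030 : sm ge N20122 = N20122 := ded_34_2 (flp_d L171023) L117959 L81577 (flp_e L117959) L171023
theorem L171031 : sm gh N20122 = N20122 := ded_38_2 (flp_d L171023) (flp_h L117954) L81558 L117954 L171023
theorem L171032 : sm gi N13842 = N20123 := rfl
theorem L171034 : sm ga N20123 = N13859 := ded_18_1 (flp_i L118084) (flp_a L117956) L171032
theorem L171036 : sm gb N20123 = N20123 := ded_26_1 (flp_i L171032) L117958 L171032
theorem L171037 : sm ge N20123 = N13845 := ded_44_1 (flp_i L117982) (flp_e L117959) L171032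
theorem L171039 : sm gf N20123 = N14662 := ded_48_1 (flp_i L124971) (flp_f L117961) L171032
theorem L171041 : sm gh N13843 = N20124 := rfl
theorem L171043 : sm ga N20124 = N13860 := ded_17_1 (flp_h L118092) (flp_a L117965) L171041
theorem L171045 : sm gb N20124 = N20124 := ded_25_1 (flp_h L171041) L117967 L171041
theorem L171046 : sm gf N20124 = N13950 := ded_47_1 (flp_h L118860) (flp_f L117970) L171041
theorem L171048 : sm gj N20124 = N13844 := ded_52_1 (flp_h L117972) L117963 L171041
theorem L171050 : sm gd N20124 = N20124 := ded_38_1 (flp_h L171041) L117968 L81597 (flp_d L117968) L171041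
theorem L171051 : sm gi N13844 = N20125 := rfl
theorem L171053 : sm ga N20125 = N13861 := ded_18_1 (flp_i L118101) (flp_a L117974) L171051
theorem L171055 : sm gb N20125 = N20125 := ded_26_1 (flp_i L171051) L117976 L171051
theorem L171056 : sm gd N20125 = N20125 := ded_39_1 (flp_i L171051) L117981 L171051
theorem L171057 : sm gf N20125 = N13951 := ded_48_1 (flp_i L118869) (flp_f L117977) L171051
theorem L171059 : sm gg N20125 = N13845 := ded_51_1 (flp_i L117982) (flp_g L117979) L171051
theorem L171061 : sm gg N13846 = N20126 := rfl
theorem L171063 : sm gc N20126 = N20126 := ded_30_1 (flp_g L171061) L117994 L171061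
theorem L171064 : sm gd N20126 = N13847 := ded_36_1 (flp_g L117996) L117990 L171061
theorem L171066 : sm ge N20126 = N20126 := ded_41_1 (flp_g L171061) L117995 L171061
theorem L171067 : sm gh N13846 = N20127 := rfl
theorem L171069 : sm gc N20127 = N20127 := ded_32_1 (flp_h L171067) L117994 L171067
theorem L171070 : sm ge N20127 = N20127 := ded_43_1 (flp_h L171067) L117995 L171067
theorem L171071 : sm gf N20127 = N14666 := ded_47_1 (flp_h L125007) (flp_f L117992) L171067
theorem L171073 : sm gf N13847 = N20128 := rfl
theorem L171075 : sm gc N20128 = N13855 := ded_29_1 (flp_f L118052) (flp_c L117998) L171073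
theorem L171077 : sm ge N20128 = N13954 := ded_40_1 (flp_f L118892) L82187 (flp_f L81609) (flp_e L118000) L171073
theorem L171079 : sm gg N20128 = N14667 := ded_45_2 (flp_f L125012) (flp_g L86285) (flp_f L81602) L117996 L171073
theorem L171081 : sm gj N13847 = N20129 := rfl
theorem L171083 : sm gc N20129 = N13856 := ded_31_1 (flp_j L118061) (flp_c L117998) L171081
theorem L171085 : sm ge N20129 = N13849 := ded_42_1 (flp_j L118010) (flp_e L118000) L171081
theorem L171087 : sm gh N13847 = N20130 := rfl
theorem L171089 : sm gc N20130 = N13857 := ded_32_1 (flp_h L118068) (flp_c L117998) L171087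
theorem L171091 : sm ge N20130 = N13850 := ded_43_1 (flp_h L118017) (flp_e L118000) L171087
theorem L171093 : sm gg N20130 = N13848 := ded_50_1 (flp_h L118002) L117996 L171087
theorem L171095 : sm gd N13848 = N20131 := rfl
theorem L171097 : sm gf N20131 = N14670 := ded_35_2 (flp_d L125032) (flp_f L118008) L171095
theorem L171099 : sm gi N13848 = N20132 := rfl
theorem L171101 : sm gc N20132 = N13859 := ded_33_1 (flp_i L118084) (flp_c L118004) L171099
theorem L171103 : sm ge N20132 = N13852 := ded_44_1 (flp_i L118031) (flp_e L118006) L171099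
theorem L171105 : sm gf N20132 = N14671 := ded_48_1 (flp_i L125034) (flp_f L118008) L171099
theorem L171107 : sm gh N13849 = N20133 := rfl
theorem L171109 : sm gc N20133 = N13860 := ded_32_1 (flp_h L118092) (flp_c L118012) L171107
theorem L171111 : sm gf N20133 = N13959 := ded_47_1 (flp_h L118927) (flp_f L118015) L171107
theorem L171113 : sm gj N20133 = N13850 := ded_52_1 (flp_h L118017) L118010 L171107
theorem L171115 : sm gd N13850 = N20134 := rfl
theorem L171117 : sm gf N20134 = N13960 := ded_35_2 (flp_d L118934) (flp_f L118021) L171115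
theorem L171119 : sm gg N20134 = N13851 := ded_36_2 (flp_d L118025) (flp_g L118023) L171115
theorem L171121 : sm gc N20134 = N20134 := ded_27_1 (flp_d L171115) L118019 L81662 (flp_c L118019) L171115
theorem L171122 : sm gh N20134 = N20134 := ded_38_2 (flp_d L171115) (flp_h L118017) L81608 L118017 L171115
theorem L171123 : sm gi N13850 = N20135 := rfl
theorem L171125 : sm gc N20135 = N13861 := ded_33_1 (flp_i L118101) (flp_c L118019) L171123
theorem L171127 : sm gf N20135 = N13961 := ded_48_1 (flp_i L118940) (flp_f L118021) L171123
theorem L171129 : sm gg N20135 = N13852 := ded_51_1 (flp_i L118031) (flp_g L118023) L171123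
theorem L171131 : sm ge N13851 = N20136 := rfl
theorem L171133 : sm gc N20136 = N20136 := ded_28_1 (flp_e L171131) L118029 L171131
theorem L171134 : sm gh N20136 = N20136 := ded_43_2 (flp_e L171131) L118030 L171131
theorem L171135 : sm gi N13851 = N20137 := rfl
theorem L171137 : sm gc N20137 = N20137 := ded_33_1 (flp_i L171135) L118029 L171135
theorem L171138 : sm gd N20137 = N13852 := ded_39_1 (flp_i L118031) L118025 L171135
theorem L171140 : sm gf N20137 = N13854 := ded_48_1 (flp_i L118045) (flp_f L118027) L171135
theorem L171142 : sm gf N13853 = N20138 := rfl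
theorem L171144 : sm gc N20138 = N20138 := ded_29_1 (flp_f L171142) L118039 L171142
theorem L171145 : sm gd N20138 = N14677 := ded_35_1 (flp_f L125080) (flp_d L118043) L171142
theorem L171147 : sm gh N20138 = N20138 := ded_47_2 (flp_f L171142) L118042 L171142
theorem L171148 : sm gi N13853 = N20139 := rfl
theorem L171150 : sm gc N20139 = N20139 := ded_33_1 (flp_i L171148) L118039 L171148
theorem L171151 : sm gd N20139 = N14678 := ded_39_1 (flp_i L125086) (flp_d L118043) L171148
theorem L171153 : sm ge N20139 = N13854 := ded_44_1 (flp_i L118045) L118037 L171148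
theorem L171155 : sm gg N20139 = N13965 := ded_51_1 (flp_i L118966) (flp_g L118040) L171148
theorem L171157 : sm gh N13854 = N20140 := rfl
theorem L171159 : sm gc N20140 = N20140 := ded_32_1 (flp_h L171157) L118047 L171157
theorem L171160 : sm gg N20140 = N13966 := ded_50_1 (flp_h L118974) (flp_g L118050) L171157
theorem L171162 : sm gi N20140 = N20140 := ded_54_2 (flp_h L171157) (flp_i L118045) L81622 L118045 L171157
theorem L171163 : sm gj N13855 = N20141 := rfl
theorem L171165 : sm gb N20141 = N13862 := ded_24_1 (flp_j L118110) (flp_b L118054) L171163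
theorem L171167 : sm gd N20141 = N20141 := ded_37_1 (flp_j L171163) L118056 L171163
theorem L171168 : sm ge N20141 = N13967 := ded_42_1 (flp_j L118979) (flp_e L118057) L171163
theorem L171170 : sm gf N20141 = N13856 := ded_46_1 (flp_j L118061) L118052 L171163
theorem L171172 : sm gh N13855 = N20142 := rfl
theorem L171174 : sm gb N20142 = N13863 := ded_25_1 (flp_h L118118) (flp_b L118054) L171172
theorem L171176 : sm ge N20142 = N13968 := ded_43_1 (flp_h L118987) (flp_e L118057) L171172
theorem L171178 : sm gf N20142 = N13857 := ded_47_1 (flp_h L118068) L118052 L171172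
theorem L171180 : sm gg N20142 = N14681 := ded_50_1 (flp_h L125111) (flp_g L118059) L171172
theorem L171182 : sm gh N13856 = N20143 := rfl
theorem L171184 : sm gb N20143 = N13864 := ded_25_1 (flp_h L118127) (flp_b L118063) L171182
theorem L171186 : sm ge N20143 = N13860 := ded_43_1 (flp_h L118092) (flp_e L118066) L171182
theorem L171188 : sm gj N20143 = N13857 := ded_52_1 (flp_h L118068) L118061 L171182
theorem L171190 : sm gd N13857 = N20144 := rfl
theorem L171192 : sm gb N20144 = N13865 := ded_20_1 (flp_d L118134) (flp_b L118070) L171190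
theorem L171194 : sm gg N20144 = N13858 := ded_36_2 (flp_d L118076) (flp_g L118074) L171190
theorem L171196 : sm ge N20144 = N20144 := ded_34_2 (flp_d L171190) L118072 L81662 (flp_e L118072) L171190
theorem L171197 : sm gh N20144 = N20144 := ded_38_2 (flp_d L171190) (flp_h L118068) L81635 L118068 L171190
theorem L171198 : sm gi N13857 = N20145 := rfl
theorem L171200 : sm gb N20145 = N13866 := ded_26_1 (flp_i L118141) (flp_b L118070) L171198
theorem L171202 : sm ge N20145 = N13861 := ded_44_1 (flp_i L118101) (flp_e L118072) L171198
theorem L171204 : sm gg N20145 = N13859 := ded_51_1 (flp_i L118084) (flp_g L118074) L171198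
theorem L171206 : sm gc N13858 = N20146 := rfl
theorem L171208 : sm ge N20146 = N20146 := ded_28_2 (flp_c L171206) L118082 L171206
theorem L171209 : sm gf N20146 = N14685 := ded_29_2 (flp_c L125144) (flp_f L118080) L171206
theorem L171211 : sm gh N20146 = N20146 := ded_32_2 (flp_c L171206) L118083 L171206
theorem L171212 : sm gi N13858 = N20147 := rfl
theorem L171214 : sm gb N20147 = N13868 := ded_26_1 (flp_i L118155) (flp_b L118078) L171212
theorem L171216 : sm gd N20147 = N13859 := ded_39_1 (flp_i L118084) L118076 L171212
theorem L171218 : sm ge N20147 = N20147 := ded_44_1 (flp_i L171212) L118082 L171212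
theorem L171219 : sm gf N20147 = N14686 := ded_48_1 (flp_i L125149) (flp_f L118080) L171212
theorem L171221 : sm gi N13860 = N20148 := rfl
theorem L171223 : sm gb N20148 = N13869 := ded_26_1 (flp_i L118163) (flp_b L118094) L171221
theorem L171225 : sm gd N20148 = N20148 := ded_39_1 (flp_i L171221) L118100 L171221
theorem L171226 : sm gf N20148 = N13974 := ded_48_1 (flp_i L119039) (flp_f L118096) L171221
theorem L171228 : sm gj N20148 = N13861 := ded_53_1 (flp_i L118101) (flp_j L118098) L171221
theorem L171230 : sm gg N13862 = N20149 := rfl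
theorem L171232 : sm ga N20149 = N20149 := ded_15_1 (flp_g L171230) L118112 L171230
theorem L171233 : sm gd N20149 = N20149 := ded_36_1 (flp_g L171230) L118113 L171230
theorem L171234 : sm ge N20149 = N13975 := ded_41_1 (flp_g L119047) (flp_e L118114) L171230
theorem L171236 : sm gj N20149 = N14688 := ded_49_2 (flp_g L125167) (flp_j L86398) (flp_g L81676) L118110 L171230
theorem L171238 : sm gh N13862 = N20150 := rfl
theorem L171240 : sm ga N20150 = N20150 := ded_17_1 (flp_h L171238) L118112 L171238
theorem L171241 : sm ge N20150 = N13976 := ded_43_1 (flp_h L119055) (flp_e L118114) L171238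
theorem L171243 : sm gf N20150 = N13864 := ded_47_1 (flp_h L118127) (flp_f L118116) L171238
theorem L171245 : sm gj N20150 = N13863 := ded_52_1 (flp_h L118118) L118110 L171238
theorem L171247 : sm gd N13863 = N20151 := rfl
theorem L171249 : sm ga N20151 = N20151 := ded_12_1 (flp_d L171247) L118120 L171247
theorem L171250 : sm gf N20151 = N13865 := ded_35_2 (flp_d L118134) (flp_f L118123) L171247
theorem L171252 : sm gg N20151 = N14690 := ded_36_2 (flp_d L125182) (flp_g L118125) L171247
theorem L171254 : sm gh N20151 = N20151 := ded_38_2 (flp_d L171247) (flp_h L118118) L81673 L118118 L171247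
theorem L171255 : sm gi N13863 = N20152 := rfl
theorem L171257 : sm ga N20152 = N20152 := ded_18_1 (flp_i L171255) L118120 L171255
theorem L171258 : sm ge N20152 = N13978 := ded_44_1 (flp_i L119071) (flp_e L118121) L171255
theorem L171260 : sm gf N20152 = N13866 := ded_48_1 (flp_i L118141) (flp_f L118123) L171255
theorem L171262 : sm gg N20152 = N14691 := ded_51_1 (flp_i L125188) (flp_g L118125) L171255
theorem L171264 : sm gd N13864 = N20153 := rfl
theorem L171266 : sm ga N20153 = N20153 := ded_12_1 (flp_d L171264) L118129 L171264
theorem L171267 : sm gj N20153 = N13865 := ded_37_2 (flp_d L118134) (flp_j L118132) L171264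
theorem L171269 : sm ge N20153 = N20153 := ded_34_2 (flp_d L171264) L118130 L81712 (flp_e L118130) L171264
theorem L171270 : sm gh N20153 = N20153 := ded_38_2 (flp_d L171264) (flp_h L118127) L81681 L118127 L171264
theorem L171271 : sm gi N13864 = N20154 := rfl
theorem L171273 : sm ga N20154 = N20154 := ded_18_1 (flp_i L171271) L118129 L171271
theorem L171274 : sm ge N20154 = N13869 := ded_44_1 (flp_i L118163) (flp_e L118130) L171271
theorem L171276 : sm gj N20154 = N13866 := ded_53_1 (flp_i L118141) (flp_j L118132) L171271
theorem L171278 : sm gc N13865 = N20155 := rfl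
theorem L171280 : sm ga N20155 = N20155 := ded_11_1 (flp_c L171278) L118136 L171278
theorem L171281 : sm ge N20155 = N20155 := ded_28_2 (flp_c L171278) L118139 L171278
theorem L171282 : sm gg N20155 = N13867 := ded_30_2 (flp_c L118148) (flp_g L118137) L171278
theorem L171284 : sm gh N20155 = N20155 := ded_32_2 (flp_c L171278) L118140 L171278
theorem L171285 : sm gi N13865 = N20156 := rfl
theorem L171287 : sm ga N20156 = N20156 := ded_18_1 (flp_i L171285) L118136 L171285
theorem L171288 : sm gd N20156 = N13866 := ded_39_1 (flp_i L118141) L118134 L171285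
theorem L171290 : sm ge N20156 = N20156 := ded_44_1 (flp_i L171285) L118139 L171285
theorem L171291 : sm gg N20156 = N13868 := ded_51_1 (flp_i L118155) (flp_g L118137) L171285
theorem L171293 : sm gb N13867 = N20157 := rfl
theorem L171295 : sm ge N20157 = N20157 := ded_21_2 (flp_b L171293) L118151 L171293
theorem L171296 : sm gf N20157 = N14696 := ded_22_2 (flp_b L125227) (flp_f L118152) L171293
theorem L171298 : sm gh N20157 = N20157 := ded_25_2 (flp_b L171293) L118154 L171293
theorem L171299 : sm gi N13867 = N20158 := rfl
theorem L171301 : sm ga N20158 = N20158 := ded_18_1 (flp_i L171299) L118150 L171299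
theorem L171302 : sm gc N20158 = N13868 := ded_33_1 (flp_i L118155) L118148 L171299
theorem L171304 : sm ge N20158 = N20158 := ded_44_1 (flp_i L171299) L118151 L171299
theorem L171305 : sm gf N20158 = N14697 := ded_48_1 (flp_i L125232) (flp_f L118152) L171299
theorem L171307 : sm gh N13868 = N20159 := rfl
theorem L171309 : sm ga N20159 = N20159 := ded_17_1 (flp_h L171307) L118157 L171307
theorem L171310 : sm ge N20159 = N20159 := ded_43_1 (flp_h L171307) L118160 L171307
theorem L171311 : sm gf N20159 = N14698 := ded_47_1 (flp_h L125239) (flp_f L118161) L171307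
theorem L171313 : sm gi N20159 = N20159 := ded_54_2 (flp_h L171307) (flp_i L118155) L81697 L118155 L171307
theorem L171314 : sm gf N13870 = N20160 := rfl
theorem L171316 : sm ga N20160 = N20160 := ded_14_1 (flp_f L171314) L118177 L171314
theorem L171317 : sm gb N20160 = N13871 := ded_22_1 (flp_f L118179) L118171 L171314
theorem L171319 : sm gc N20160 = N20160 := ded_29_1 (flp_f L171314) L118178 L171314
theorem L171320 : sm gd N20160 = N20160 := ded_35_1 (flp_f L171314) L118173 L171314
theorem L171321 : sm gj N20160 = N20160 := ded_46_2 (flp_f L171314) L118175 L171314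
theorem L171322 : sm gi N20160 = N20160 := ded_48_2 (flp_f L171314) L118176 L171314
theorem L171323 : sm gh N13870 = N20161 := rfl
theorem L171325 : sm ga N20161 = N20161 := ded_17_1 (flp_h L171323) L118177 L171323
theorem L171326 : sm gb N20161 = N13872 := ded_25_1 (flp_h L118188) L118171 L171323
theorem L171328 : sm gc N20161 = N20161 := ded_32_1 (flp_h L171323) L118178 L171323
theorem L171329 : sm ge N20161 = N20161 := ded_43_1 (flp_h L171323) L118174 L171323
theorem L171330 : sm gj N20161 = N20161 := ded_52_1 (flp_h L171323) L118175 L171323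
theorem L171331 : sm ge N13871 = N20162 := rfl
theorem L171333 : sm ga N20162 = N13878 := ded_13_1 (flp_e L118246) (flp_a L118181) L171331
theorem L171335 : sm gc N20162 = N13873 := ded_28_1 (flp_e L118196) (flp_c L118183) L171331
theorem L171340 : sm gg N13871 = N20163 := rfl
theorem L171342 : sm ga N20163 = N13879 := ded_15_1 (flp_g L118254) (flp_a L118181) L171340
theorem L171344 : sm gc N20163 = N13874 := ded_30_1 (flp_g L118206) (flp_c L118183) L171340
theorem L171346 : sm gd N20163 = N20163 := ded_36_1 (flp_g L171340) L118185 L171340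
theorem L171347 : sm gi N20163 = N20163 := ded_51_2 (flp_g L171340) L118187 L171340
theorem L171348 : sm gh N13871 = N20164 := rfl
theorem L171350 : sm ga N20164 = N13880 := ded_17_1 (flp_h L118261) (flp_a L118181) L171348
theorem L171352 : sm gc N20164 = N13875 := ded_32_1 (flp_h L118214) (flp_c L118183) L171348
theorem L171354 : sm gf N20164 = N13872 := ded_47_1 (flp_h L118188) L118179 L171348
theorem L171356 : sm gj N20164 = N20164 := ded_52_1 (flp_h L171348) L118186 L171348
theorem L171357 : sm gd N13872 = N20165 := rfl
theorem L171359 : sm ga N20165 = N13881 := ded_12_1 (flp_d L118269) (flp_a L118190) L171357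
theorem L171361 : sm gj N20165 = N20165 := ded_37_2 (flp_d L171357) L118195 L171357
theorem L171362 : sm gc N20165 = N13900 := ded_27_1 (flp_d L118435) L81884 (flp_d L81745) (flp_c L118192) L171357
theorem L171364 : sm gh N20165 = N20165 := ded_38_2 (flp_d L171357) (flp_h L118188) L81728 L118188 L171357
theorem L171365 : sm gi N13872 = N20166 := rfl
theorem L171367 : sm ga N20166 = N13882 := ded_18_1 (flp_i L118276) (flp_a L118190) L171365
theorem L171369 : sm gc N20166 = N13876 := ded_33_1 (flp_i L118224) (flp_c L118192) L171365
theorem L171371 : sm ge N20166 = N20166 := ded_44_1 (flp_i L171365) L118194 L171365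
theorem L171372 : sm gj N20166 = N20166 := ded_53_1 (flp_i L171365) L118195 L171365
theorem L171373 : sm gh N20166 = N20166 := ded_54_1 (flp_i L171365) (flp_h L118188) L81727 L118188 L171365
theorem L171374 : sm gg N13873 = N20167 := rfl
theorem L171376 : sm ga N20167 = N13883 := ded_15_1 (flp_g L118284) (flp_a L118198) L171374
theorem L171379 : sm gd N20167 = N14018 := ded_36_1 (flp_g L119427) (flp_d L118203) L171374
theorem L171381 : sm ge N20167 = N13874 := ded_41_1 (flp_g L118206) L118196 L171374
theorem L171384 : sm gh N13873 = N20168 := rfl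
theorem L171386 : sm ga N20168 = N13884 := ded_17_1 (flp_h L118293) (flp_a L118198) L171384
theorem L171389 : sm ge N20168 = N13875 := ded_43_1 (flp_h L118214) L118196 L171384
theorem L171393 : sm gj N13874 = N20169 := rfl
theorem L171395 : sm ga N20169 = N13885 := ded_16_1 (flp_j L118301) (flp_a L118208) L171393
theorem L171397 : sm gb N20169 = N20169 := ded_24_1 (flp_j L171393) L118210 L171393
theorem L171398 : sm gd N20169 = N13877 := ded_37_1 (flp_j L118234) (flp_d L118211) L171393
theorem L171400 : sm gi N20169 = N20169 := ded_53_2 (flp_j L171393) L118213 L171393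
theorem L171401 : sm gg N20169 = N20169 := ded_49_1 (flp_j L171393) (flp_g L118206) L81736 L118206 L171393
theorem L171402 : sm gh N13874 = N20170 := rfl
theorem L171404 : sm ga N20170 = N13886 := ded_17_1 (flp_h L118309) (flp_a L118208) L171402
theorem L171406 : sm gb N20170 = N20170 := ded_25_1 (flp_h L171402) L118210 L171402
theorem L171407 : sm gg N20170 = N13875 := ded_50_1 (flp_h L118214) L118206 L171402
theorem L171409 : sm gd N20170 = N13905 := ded_38_1 (flp_h L118483) L81906 (flp_h L81755) (flp_d L118211) L171402
theorem L171411 : sm gi N13875 = N20171 := rfl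
theorem L171413 : sm ga N20171 = N13887 := ded_18_1 (flp_i L118317) (flp_a L118216) L171411
theorem L171415 : sm gb N20171 = N20171 := ded_26_1 (flp_i L171411) L118218 L171411
theorem L171416 : sm gd N20171 = N13906 := ded_39_1 (flp_i L118490) (flp_d L118222) L171411
theorem L171418 : sm gf N20171 = N13876 := ded_48_1 (flp_i L118224) (flp_f L118219) L171411
theorem L171420 : sm gj N20171 = N20171 := ded_53_1 (flp_i L171411) L118221 L171411
theorem L171421 : sm gh N20171 = N20171 := ded_54_1 (flp_i L171411) (flp_h L118214) L81737 L118214 L171411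
theorem L171422 : sm gd N13878 = N20172 := rfl
theorem L171428 : sm gc N20172 = N14023 := ded_27_1 (flp_d L119475) L82580 (flp_d L81779) (flp_c L118249) L171422
theorem L171431 : sm gg N13878 = N20173 := rfl
theorem L171433 : sm gb N20173 = N20173 := ded_23_1 (flp_g L171431) L118248 L171431
theorem L171434 : sm gc N20173 = N13883 := ded_30_1 (flp_g L118284) (flp_c L118249) L171431
theorem L171436 : sm ge N20173 = N13879 := ded_41_1 (flp_g L118254) L118246 L171431
theorem L171438 : sm gi N20173 = N20173 := ded_51_2 (flp_g L171431) L118252 L171431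
theorem L171439 : sm gh N13878 = N20174 := rfl
theorem L171441 : sm gb N20174 = N20174 := ded_25_1 (flp_h L171439) L118248 L171439
theorem L171442 : sm gc N20174 = N13884 := ded_32_1 (flp_h L118293) (flp_c L118249) L171439
theorem L171444 : sm ge N20174 = N13880 := ded_43_1 (flp_h L118261) L118246 L171439
theorem L171446 : sm gf N20174 = N20174 := ded_47_1 (flp_h L171439) L118253 L171439
theorem L171447 : sm gj N20174 = N20174 := ded_52_1 (flp_h L171439) L118251 L171439
theorem L171448 : sm gj N13879 = N20175 := rfl
theorem L171450 : sm gb N20175 = N20175 := ded_24_1 (flp_j L171448) L118256 L171448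
theorem L171451 : sm gc N20175 = N13885 := ded_31_1 (flp_j L118301) (flp_c L118257) L171448
theorem L171453 : sm gd N20175 = N20175 := ded_37_1 (flp_j L171448) L118259 L171448
theorem L171454 : sm gi N20175 = N20175 := ded_53_2 (flp_j L171448) L118260 L171448
theorem L171455 : sm gg N20175 = N20175 := ded_49_1 (flp_j L171448) (flp_g L118254) L81764 L118254 L171448
theorem L171456 : sm gh N13879 = N20176 := rfl
theorem L171458 : sm gb N20176 = N20176 := ded_25_1 (flp_h L171456) L118256 L171456
theorem L171459 : sm gc N20176 = N13886 := ded_32_1 (flp_h L118309) (flp_c L118257) L171456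
theorem L171461 : sm gg N20176 = N13880 := ded_50_1 (flp_h L118261) L118254 L171456
theorem L171463 : sm gd N13880 = N20177 := rfl
theorem L171465 : sm gb N20177 = N20177 := ded_20_1 (flp_d L171463) L118263 L171463
theorem L171466 : sm gf N20177 = N13881 := ded_35_2 (flp_d L118269) (flp_f L118266) L171463
theorem L171468 : sm gj N20177 = N20177 := ded_37_2 (flp_d L171463) L118268 L171463
theorem L171469 : sm gc N20177 = N13912 := ded_27_1 (flp_d L118541) L81957 (flp_d L81796) (flp_c L118264) L171463
theorem L171471 : sm gh N20177 = N20177 := ded_38_2 (flp_d L171463) (flp_h L118261) L81763 L118261 L171463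
theorem L171472 : sm gi N13880 = N20178 := rfl
theorem L171474 : sm gb N20178 = N20178 := ded_26_1 (flp_i L171472) L118263 L171472
theorem L171475 : sm gc N20178 = N13887 := ded_33_1 (flp_i L118317) (flp_c L118264) L171472
theorem L171477 : sm gf N20178 = N13882 := ded_48_1 (flp_i L118276) (flp_f L118266) L171472
theorem L171479 : sm gj N20178 = N20178 := ded_53_1 (flp_i L171472) L118268 L171472
theorem L171480 : sm gh N20178 = N20178 := ded_54_1 (flp_i L171472) (flp_h L118261) L81765 L118261 L171472
theorem L171481 : sm ge N13881 = N20179 := rfl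
theorem L171483 : sm gb N20179 = N20179 := ded_21_1 (flp_e L171481) L118271 L171481
theorem L171484 : sm gc N20179 = N13914 := ded_28_1 (flp_e L118556) (flp_c L118273) L171481
theorem L171486 : sm gj N20179 = N20179 := ded_42_2 (flp_e L171481) L118272 L171481
theorem L171487 : sm gh N20179 = N20179 := ded_43_2 (flp_e L171481) L118275 L171481
theorem L171488 : sm gd N20179 = N20179 := ded_34_1 (flp_e L171481) (flp_d L118269) L81771 L118269 L171481
theorem L171489 : sm gi N13881 = N20180 := rfl
theorem L171491 : sm gb N20180 = N20180 := ded_26_1 (flp_i L171489) L118271 L171489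
theorem L171492 : sm gc N20180 = N13915 := ded_33_1 (flp_i L118562) (flp_c L118273) L171489
theorem L171494 : sm gd N20180 = N13882 := ded_39_1 (flp_i L118276) L118269 L171489
theorem L171496 : sm gj N20180 = N20180 := ded_53_1 (flp_i L171489) L118272 L171489
theorem L171497 : sm gf N13883 = N20181 := rfl
theorem L171499 : sm gb N20181 = N13888 := ded_22_1 (flp_f L118327) (flp_b L118286) L171497
theorem L171501 : sm gd N20181 = N14032 := ded_35_1 (flp_f L119543) (flp_d L118288) L171497
theorem L171503 : sm gi N20181 = N20181 := ded_48_2 (flp_f L171497) L118292 L171497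
theorem L171504 : sm gg N20181 = N20181 := ded_45_2 (flp_f L171497) (flp_g L118284) L81781 L118284 L171497
theorem L171505 : sm gj N13883 = N20182 := rfl
theorem L171507 : sm gb N20182 = N13889 := ded_24_1 (flp_j L118335) (flp_b L118286) L171505
theorem L171509 : sm gd N20182 = N14033 := ded_37_1 (flp_j L119550) (flp_d L118288) L171505
theorem L171511 : sm ge N20182 = N13885 := ded_42_1 (flp_j L118301) (flp_e L118290) L171505
theorem L171513 : sm gi N20182 = N20182 := ded_53_2 (flp_j L171505) L118292 L171505
theorem L171514 : sm gg N20182 = N20182 := ded_49_1 (flp_j L171505) (flp_g L118284) L81777 L118284 L171505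
theorem L171515 : sm gh N13883 = N20183 := rfl
theorem L171517 : sm gb N20183 = N13890 := ded_25_1 (flp_h L118345) (flp_b L118286) L171515
theorem L171519 : sm ge N20183 = N13886 := ded_43_1 (flp_h L118309) (flp_e L118290) L171515
theorem L171521 : sm gg N20183 = N13884 := ded_50_1 (flp_h L118293) L118284 L171515
theorem L171523 : sm gd N13884 = N20184 := rfl
theorem L171525 : sm gb N20184 = N13891 := ded_20_1 (flp_d L118353) (flp_b L118295) L171523
theorem L171529 : sm ge N20184 = N13919 := ded_34_2 (flp_d L118596) L81989 (flp_d L81796) (flp_e L118297) L171523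
theorem L171531 : sm gh N20184 = N14035 := ded_38_2 (flp_d L119566) (flp_h L82621) (flp_d L81779) L118293 L171523
theorem L171533 : sm gi N13884 = N20185 := rfl
theorem L171535 : sm gb N20185 = N13892 := ded_26_1 (flp_i L118362) (flp_b L118295) L171533
theorem L171537 : sm ge N20185 = N13887 := ded_44_1 (flp_i L118317) (flp_e L118297) L171533
theorem L171539 : sm gf N20185 = N20185 := ded_48_1 (flp_i L171533) L118299 L171533
theorem L171540 : sm gj N20185 = N20185 := ded_53_1 (flp_i L171533) L118300 L171533
theorem L171541 : sm gh N20185 = N20185 := ded_54_1 (flp_i L171533) (flp_h L118293) L81778 L118293 L171533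
theorem L171542 : sm gh N13885 = N20186 := rfl
theorem L171544 : sm gb N20186 = N13893 := ded_25_1 (flp_h L118371) (flp_b L118303) L171542
theorem L171546 : sm gg N20186 = N20186 := ded_50_1 (flp_h L171542) L118308 L171542
theorem L171547 : sm gj N20186 = N13886 := ded_52_1 (flp_h L118309) L118301 L171542
theorem L171549 : sm gd N20186 = N13921 := ded_38_1 (flp_h L118616) L81998 (flp_h L81814) (flp_d L118305) L171542
theorem L171551 : sm gi N13886 = N20187 := rfl
theorem L171553 : sm gb N20187 = N13894 := ded_26_1 (flp_i L118380) (flp_b L118311) L171551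
theorem L171555 : sm gd N20187 = N13922 := ded_39_1 (flp_i L118623) (flp_d L118315) L171551
theorem L171557 : sm gg N20187 = N13887 := ded_51_1 (flp_i L118317) (flp_g L118313) L171551
theorem L171559 : sm gh N20187 = N20187 := ded_54_1 (flp_i L171551) (flp_h L118309) L81788 L118309 L171551
theorem L171560 : sm gj N13888 = N20188 := rfl
theorem L171562 : sm ga N20188 = N20188 := ded_16_1 (flp_j L171560) L118329 L171560
theorem L171563 : sm gc N20188 = N20188 := ded_31_1 (flp_j L171560) L118330 L171560
theorem L171564 : sm gd N20188 = N14039 := ded_37_1 (flp_j L119603) (flp_d L118331) L171560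
theorem L171566 : sm gf N20188 = N13889 := ded_46_1 (flp_j L118335) L118327 L171560
theorem L171568 : sm gi N20188 = N20188 := ded_53_2 (flp_j L171560) L118333 L171560
theorem L171569 : sm gh N13888 = N20189 := rfl
theorem L171571 : sm ga N20189 = N20189 := ded_17_1 (flp_h L171569) L118329 L171569
theorem L171572 : sm gc N20189 = N20189 := ded_32_1 (flp_h L171569) L118330 L171569
theorem L171573 : sm gf N20189 = N13890 := ded_47_1 (flp_h L118345) L118327 L171569
theorem L171575 : sm gg N20189 = N20189 := ded_50_1 (flp_h L171569) L118334 L171569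
theorem L171576 : sm gh N13889 = N20190 := rfl
theorem L171578 : sm ga N20190 = N20190 := ded_17_1 (flp_h L171576) L118337 L171576
theorem L171579 : sm gc N20190 = N20190 := ded_32_1 (flp_h L171576) L118338 L171576
theorem L171580 : sm ge N20190 = N13893 := ded_43_1 (flp_h L118371) (flp_e L118341) L171576
theorem L171582 : sm gg N20190 = N20190 := ded_50_1 (flp_h L171576) L118344 L171576
theorem L171583 : sm gj N20190 = N13890 := ded_52_1 (flp_h L118345) L118335 L171576
theorem L171585 : sm gd N13890 = N20191 := rfl
theorem L171587 : sm ga N20191 = N20191 := ded_12_1 (flp_d L171585) L118347 L171585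
theorem L171588 : sm gg N20191 = N13891 := ded_36_2 (flp_d L118353) (flp_g L118351) L171585
theorem L171590 : sm ge N20191 = N13926 := ded_34_2 (flp_d L118655) L82040 (flp_d L81849) (flp_e L118349) L171585
theorem L171592 : sm gh N20191 = N14042 := ded_38_2 (flp_d L119625) (flp_h L82670) (flp_d L81822) L118345 L171585
theorem L171594 : sm gi N13890 = N20192 := rfl
theorem L171596 : sm ga N20192 = N20192 := ded_18_1 (flp_i L171594) L118347 L171594
theorem L171597 : sm gc N20192 = N20192 := ded_33_1 (flp_i L171594) L118348 L171594
theorem L171598 : sm ge N20192 = N13894 := ded_44_1 (flp_i L118380) (flp_e L118349) L171594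
theorem L171600 : sm gg N20192 = N13892 := ded_51_1 (flp_i L118362) (flp_g L118351) L171594
theorem L171602 : sm gh N20192 = N20192 := ded_54_1 (flp_i L171594) (flp_h L118345) L81826 L118345 L171594
theorem L171603 : sm gc N13891 = N20193 := rfl
theorem L171605 : sm ga N20193 = N20193 := ded_11_1 (flp_c L171603) L118355 L171603
theorem L171606 : sm ge N20193 = N13928 := ded_28_2 (flp_c L118671) (flp_e L118358) L171603
theorem L171608 : sm gf N20193 = N20193 := ded_29_2 (flp_c L171603) L118356 L171603
theorem L171609 : sm gj N20193 = N20193 := ded_31_2 (flp_c L171603) L118357 L171603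
theorem L171610 : sm gh N20193 = N14044 := ded_32_2 (flp_c L119640) (flp_h L118360) L171603
theorem L171612 : sm gd N20193 = N20193 := ded_27_2 (flp_c L171603) (flp_d L118353) L81830 L118353 L171603
theorem L171613 : sm gi N13891 = N20194 := rfl
theorem L171615 : sm ga N20194 = N20194 := ded_18_1 (flp_i L171613) L118355 L171613
theorem L171616 : sm gd N20194 = N13892 := ded_39_1 (flp_i L118362) L118353 L171613
theorem L171618 : sm ge N20194 = N13929 := ded_44_1 (flp_i L118679) (flp_e L118358) L171613
theorem L171620 : sm gf N20194 = N20194 := ded_48_1 (flp_i L171613) L118356 L171613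
theorem L171621 : sm gj N20194 = N20194 := ded_53_1 (flp_i L171613) L118357 L171613
theorem L171622 : sm gi N13893 = N20195 := rfl
theorem L171624 : sm ga N20195 = N20195 := ded_18_1 (flp_i L171622) L118373 L171622
theorem L171625 : sm gc N20195 = N20195 := ded_33_1 (flp_i L171622) L118374 L171622
theorem L171626 : sm gd N20195 = N13930 := ded_39_1 (flp_i L118687) (flp_d L118378) L171622
theorem L171628 : sm gg N20195 = N20195 := ded_51_1 (flp_i L171622) L118375 L171622
theorem L171629 : sm gj N20195 = N13894 := ded_53_1 (flp_i L118380) (flp_j L118376) L171622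
theorem L171631 : sm gh N20195 = N20195 := ded_54_1 (flp_i L171622) (flp_h L118371) L81841 L118371 L171622
theorem L171632 : sm ge N13895 = N20196 := rfl
theorem L171634 : sm gb N20196 = N13897 := ded_21_1 (flp_e L118406) (flp_b L118391) L171632
theorem L171636 : sm gc N20196 = N20196 := ded_28_1 (flp_e L171632) L118393 L171632
theorem L171637 : sm gj N20196 = N20196 := ded_42_2 (flp_e L171632) L118395 L171632
theorem L171638 : sm gi N20196 = N13931 := ded_44_2 (flp_e L118695) (flp_i L118396) L171632
theorem L171640 : sm gf N20196 = N14699 := ded_40_2 (flp_e L125245) (flp_f L86457) (flp_e L81864) L118389 L171632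
theorem L171642 : sm gg N13895 = N20197 := rfl
theorem L171644 : sm gb N20197 = N13898 := ded_23_1 (flp_g L118417) (flp_b L118391) L171642
theorem L171646 : sm gc N20197 = N20197 := ded_30_1 (flp_g L171642) L118393 L171642
theorem L171647 : sm gd N20197 = N20197 := ded_36_1 (flp_g L171642) L118394 L171642
theorem L171648 : sm gi N20197 = N13932 := ded_51_2 (flp_g L118703) (flp_i L118396) L171642
theorem L171650 : sm gh N13895 = N20198 := rfl
theorem L171652 : sm gb N20198 = N13899 := ded_25_1 (flp_h L118426) (flp_b L118391) L171650
theorem L171654 : sm gc N20198 = N20198 := ded_32_1 (flp_h L171650) L118393 L171650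
theorem L171655 : sm gf N20198 = N13896 := ded_47_1 (flp_h L118398) L118389 L171650
theorem L171657 : sm gj N20198 = N20198 := ded_52_1 (flp_h L171650) L118395 L171650
theorem L171658 : sm gd N13896 = N20199 := rfl
theorem L171660 : sm gb N20199 = N13900 := ded_20_1 (flp_d L118435) (flp_b L118400) L171658
theorem L171664 : sm gi N13896 = N20200 := rfl
theorem L171666 : sm gb N20200 = N13901 := ded_26_1 (flp_i L118441) (flp_b L118400) L171664
theorem L171668 : sm gc N20200 = N20200 := ded_33_1 (flp_i L171664) L118402 L171664
theorem L171669 : sm ge N20200 = N14703 := ded_44_1 (flp_i L125277) (flp_e L118403) L171664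
theorem L171671 : sm gj N20200 = N20200 := ded_53_1 (flp_i L171664) L118405 L171664
theorem L171672 : sm gh N20200 = N13935 := ded_54_1 (flp_i L118723) (flp_h L82082) (flp_i L81867) L118398 L171664
theorem L171674 : sm gd N13897 = N20201 := rfl
theorem L171676 : sm ga N20201 = N13907 := ded_12_1 (flp_d L118500) (flp_a L118408) L171674
theorem L171678 : sm gf N20201 = N14704 := ded_35_2 (flp_d L125285) (flp_f L118415) L171674
theorem L171681 : sm gi N20201 = N13936 := ded_39_2 (flp_d L118731) (flp_i L118413) L171674
theorem L171686 : sm gg N13897 = N20202 := rfl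
theorem L171688 : sm ga N20202 = N13908 := ded_15_1 (flp_g L118510) (flp_a L118408) L171686
theorem L171690 : sm gc N20202 = N13902 := ded_30_1 (flp_g L118452) (flp_c L118410) L171686
theorem L171692 : sm ge N20202 = N13898 := ded_41_1 (flp_g L118417) L118406 L171686
theorem L171694 : sm gi N20202 = N13937 := ded_51_2 (flp_g L118741) (flp_i L118413) L171686
theorem L171696 : sm gh N13897 = N20203 := rfl
theorem L171698 : sm ga N20203 = N13909 := ded_17_1 (flp_h L118518) (flp_a L118408) L171696
theorem L171700 : sm gc N20203 = N13903 := ded_32_1 (flp_h L118463) (flp_c L118410) L171696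
theorem L171702 : sm ge N20203 = N13899 := ded_43_1 (flp_h L118426) L118406 L171696
theorem L171704 : sm gf N20203 = N14706 := ded_47_1 (flp_h L125306) (flp_f L118415) L171696
theorem L171706 : sm gj N20203 = N20203 := ded_52_1 (flp_h L171696) L118412 L171696
theorem L171707 : sm gj N13898 = N20204 := rfl
theorem L171709 : sm ga N20204 = N13910 := ded_16_1 (flp_j L118527) (flp_a L118419) L171707
theorem L171711 : sm gc N20204 = N13904 := ded_31_1 (flp_j L118473) (flp_c L118421) L171707
theorem L171713 : sm gd N20204 = N20204 := ded_37_1 (flp_j L171707) L118423 L171707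
theorem L171714 : sm gi N20204 = N13939 := ded_53_2 (flp_j L118760) (flp_i L118424) L171707
theorem L171716 : sm gg N20204 = N20204 := ded_49_1 (flp_j L171707) (flp_g L118417) L81877 L118417 L171707
theorem L171717 : sm gh N13898 = N20205 := rfl
theorem L171719 : sm ga N20205 = N13911 := ded_17_1 (flp_h L118535) (flp_a L118419) L171717
theorem L171721 : sm gc N20205 = N13905 := ded_32_1 (flp_h L118483) (flp_c L118421) L171717
theorem L171723 : sm gg N20205 = N13899 := ded_50_1 (flp_h L118426) L118417 L171717
theorem L171725 : sm gd N13899 = N20206 := rfl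
theorem L171727 : sm ga N20206 = N13912 := ded_12_1 (flp_d L118541) (flp_a L118428) L171725
theorem L171729 : sm gf N20206 = N13900 := ded_35_2 (flp_d L118435) (flp_f L118432) L171725
theorem L171731 : sm gj N20206 = N20206 := ded_37_2 (flp_d L171725) L118434 L171725
theorem L171732 : sm gh N20206 = N20206 := ded_38_2 (flp_d L171725) (flp_h L118426) L81876 L118426 L171725
theorem L171733 : sm gi N13899 = N20207 := rfl
theorem L171735 : sm ga N20207 = N13913 := ded_18_1 (flp_i L118547) (flp_a L118428) L171733
theorem L171737 : sm gc N20207 = N13906 := ded_33_1 (flp_i L118490) (flp_c L118430) L171733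
theorem L171739 : sm gf N20207 = N13901 := ded_48_1 (flp_i L118441) (flp_f L118432) L171733
theorem L171741 : sm gj N20207 = N20207 := ded_53_1 (flp_i L171733) L118434 L171733
theorem L171742 : sm gh N20207 = N13942 := ded_54_1 (flp_i L118785) (flp_h L82106) (flp_i L81878) L118426 L171733
theorem L171744 : sm ge N13900 = N20208 := rfl
theorem L171746 : sm ga N20208 = N13914 := ded_13_1 (flp_e L118556) (flp_a L118437) L171744
theorem L171750 : sm gd N20208 = N14711 := ded_34_1 (flp_e L125355) (flp_d L86501) (flp_e L81886) L118435 L171744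
theorem L171752 : sm gi N13900 = N20209 := rfl
theorem L171754 : sm ga N20209 = N13915 := ded_18_1 (flp_i L118562) (flp_a L118437) L171752
theorem L171756 : sm gd N20209 = N13901 := ded_39_1 (flp_i L118441) L118435 L171752
theorem L171758 : sm gj N20209 = N20209 := ded_53_1 (flp_i L171752) L118439 L171752
theorem L171759 : sm gf N13902 = N20210 := rfl
theorem L171761 : sm ga N20210 = N13916 := ded_14_1 (flp_f L118567) (flp_a L118454) L171759
theorem L171763 : sm gb N20210 = N20210 := ded_22_1 (flp_f L171759) L118456 L171759
theorem L171764 : sm gd N20210 = N14061 := ded_35_1 (flp_f L119803) (flp_d L118457) L171759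
theorem L171766 : sm gi N20210 = N13945 := ded_48_2 (flp_f L118811) (flp_i L118461) L171759
theorem L171768 : sm gg N20210 = N14713 := ded_45_2 (flp_f L125371) (flp_g L86518) (flp_f L81899) L118452 L171759
theorem L171770 : sm gj N13902 = N20211 := rfl
theorem L171772 : sm ga N20211 = N13917 := ded_16_1 (flp_j L118577) (flp_a L118454) L171770
theorem L171774 : sm gb N20211 = N20211 := ded_24_1 (flp_j L171770) L118456 L171770
theorem L171775 : sm gd N20211 = N14062 := ded_37_1 (flp_j L119813) (flp_d L118457) L171770
theorem L171777 : sm ge N20211 = N13904 := ded_42_1 (flp_j L118473) (flp_e L118459) L171770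
theorem L171779 : sm gi N20211 = N13946 := ded_53_2 (flp_j L118820) (flp_i L118461) L171770
theorem L171781 : sm gg N20211 = N20211 := ded_49_1 (flp_j L171770) (flp_g L118452) L81894 L118452 L171770
theorem L171782 : sm gh N13902 = N20212 := rfl
theorem L171784 : sm ga N20212 = N13918 := ded_17_1 (flp_h L118588) (flp_a L118454) L171782
theorem L171786 : sm gb N20212 = N20212 := ded_25_1 (flp_h L171782) L118456 L171782
theorem L171787 : sm ge N20212 = N13905 := ded_43_1 (flp_h L118483) (flp_e L118459) L171782
theorem L171789 : sm gg N20212 = N13903 := ded_50_1 (flp_h L118463) L118452 L171782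
theorem L171791 : sm gd N13903 = N20213 := rfl
theorem L171793 : sm ga N20213 = N13919 := ded_12_1 (flp_d L118596) (flp_a L118465) L171791
theorem L171799 : sm gh N20213 = N14064 := ded_38_2 (flp_d L119832) (flp_h L82788) (flp_d L81897) L118463 L171791
theorem L171801 : sm gi N13903 = N20214 := rfl
theorem L171803 : sm ga N20214 = N13920 := ded_18_1 (flp_i L118605) (flp_a L118465) L171801
theorem L171805 : sm gb N20214 = N20214 := ded_26_1 (flp_i L171801) L118467 L171801
theorem L171806 : sm ge N20214 = N13906 := ded_44_1 (flp_i L118490) (flp_e L118468) L171801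
theorem L171808 : sm gf N20214 = N14717 := ded_48_1 (flp_i L125410) (flp_f L118470) L171801
theorem L171810 : sm gj N20214 = N20214 := ded_53_1 (flp_i L171801) L118472 L171801
theorem L171811 : sm gh N20214 = N13949 := ded_54_1 (flp_i L118850) (flp_h L82140) (flp_i L81895) L118463 L171801
theorem L171813 : sm gh N13904 = N20215 := rfl
theorem L171815 : sm ga N20215 = N13921 := ded_17_1 (flp_h L118616) (flp_a L118475) L171813
theorem L171817 : sm gb N20215 = N20215 := ded_25_1 (flp_h L171813) L118477 L171813
theorem L171818 : sm gg N20215 = N20215 := ded_50_1 (flp_h L171813) L118482 L171813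
theorem L171819 : sm gj N20215 = N13905 := ded_52_1 (flp_h L118483) L118473 L171813
theorem L171821 : sm gi N13905 = N20216 := rfl
theorem L171823 : sm ga N20216 = N13922 := ded_18_1 (flp_i L118623) (flp_a L118485) L171821
theorem L171825 : sm gb N20216 = N20216 := ded_26_1 (flp_i L171821) L118487 L171821
theorem L171826 : sm gg N20216 = N13906 := ded_51_1 (flp_i L118490) (flp_g L118488) L171821
theorem L171828 : sm gh N20216 = N13951 := ded_54_1 (flp_i L118869) (flp_h L82158) (flp_i L81908) L118483 L171821
theorem L171830 : sm gg N13907 = N20217 := rfl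
theorem L171832 : sm gc N20217 = N14068 := ded_30_1 (flp_g L119871) (flp_c L118507) L171830
theorem L171834 : sm gd N20217 = N13908 := ded_36_1 (flp_g L118510) L118500 L171830
theorem L171836 : sm ge N20217 = N20217 := ded_41_1 (flp_g L171830) L118509 L171830
theorem L171837 : sm gi N20217 = N13952 := ded_51_2 (flp_g L118877) (flp_i L118505) L171830
theorem L171839 : sm gh N13907 = N20218 := rfl
theorem L171841 : sm gc N20218 = N14069 := ded_32_1 (flp_h L119879) (flp_c L118507) L171839
theorem L171843 : sm ge N20218 = N20218 := ded_43_1 (flp_h L171839) L118509 L171839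
theorem L171844 : sm gf N20218 = N14721 := ded_47_1 (flp_h L125449) (flp_f L118502) L171839
theorem L171846 : sm gj N20218 = N20218 := ded_52_1 (flp_h L171839) L118504 L171839
theorem L171847 : sm gf N13908 = N20219 := rfl
theorem L171849 : sm gc N20219 = N13916 := ded_29_1 (flp_f L118567) (flp_c L118512) L171847
theorem L171851 : sm gi N20219 = N13954 := ded_48_2 (flp_f L118892) (flp_i L118516) L171847
theorem L171853 : sm gg N20219 = N14722 := ded_45_2 (flp_f L125456) (flp_g L86575) (flp_f L81946) L118510 L171847
theorem L171855 : sm gj N13908 = N20220 := rfl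
theorem L171857 : sm gc N20220 = N13917 := ded_31_1 (flp_j L118577) (flp_c L118512) L171855
theorem L171859 : sm ge N20220 = N13910 := ded_42_1 (flp_j L118527) (flp_e L118514) L171855
theorem L171861 : sm gi N20220 = N13955 := ded_53_2 (flp_j L118898) (flp_i L118516) L171855
theorem L171863 : sm gg N20220 = N20220 := ded_49_1 (flp_j L171855) (flp_g L118510) L81943 L118510 L171855
theorem L171864 : sm gh N13908 = N20221 := rfl
theorem L171866 : sm gc N20221 = N13918 := ded_32_1 (flp_h L118588) (flp_c L118512) L171864
theorem L171868 : sm ge N20221 = N13911 := ded_43_1 (flp_h L118535) (flp_e L118514) L171864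
theorem L171870 : sm gg N20221 = N13909 := ded_50_1 (flp_h L118518) L118510 L171864
theorem L171872 : sm gd N13909 = N20222 := rfl
theorem L171874 : sm gf N20222 = N14725 := ded_35_2 (flp_d L125479) (flp_f L118524) L171872
theorem L171876 : sm gj N20222 = N20222 := ded_37_2 (flp_d L171872) L118526 L171872
theorem L171877 : sm gi N13909 = N20223 := rfl
theorem L171879 : sm gc N20223 = N13920 := ded_33_1 (flp_i L118605) (flp_c L118520) L171877
theorem L171881 : sm ge N20223 = N13913 := ded_44_1 (flp_i L118547) (flp_e L118522) L171877
theorem L171883 : sm gf N20223 = N14726 := ded_48_1 (flp_i L125482) (flp_f L118524) L171877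
theorem L171885 : sm gj N20223 = N20223 := ded_53_1 (flp_i L171877) L118526 L171877
theorem L171886 : sm gh N20223 = N13958 := ded_54_1 (flp_i L118918) (flp_h L82189) (flp_i L81944) L118518 L171877
theorem L171888 : sm gh N13910 = N20224 := rfl
theorem L171890 : sm gc N20224 = N13921 := ded_32_1 (flp_h L118616) (flp_c L118529) L171888
theorem L171892 : sm gg N20224 = N20224 := ded_50_1 (flp_h L171888) L118534 L171888
theorem L171893 : sm gj N20224 = N13911 := ded_52_1 (flp_h L118535) L118527 L171888
theorem L171895 : sm gd N13911 = N20225 := rfl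
theorem L171897 : sm gg N20225 = N13912 := ded_36_2 (flp_d L118541) (flp_g L118539) L171895
theorem L171899 : sm gh N20225 = N20225 := ded_38_2 (flp_d L171895) (flp_h L118535) L81952 L118535 L171895
theorem L171900 : sm gi N13911 = N20226 := rfl
theorem L171902 : sm gc N20226 = N13922 := ded_33_1 (flp_i L118623) (flp_c L118537) L171900
theorem L171904 : sm gg N20226 = N13913 := ded_51_1 (flp_i L118547) (flp_g L118539) L171900
theorem L171906 : sm gh N20226 = N13961 := ded_54_1 (flp_i L118940) (flp_h L82204) (flp_i L81953) L118535 L171900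
theorem L171908 : sm ge N13912 = N20227 := rfl
theorem L171910 : sm gj N20227 = N20227 := ded_42_2 (flp_e L171908) L118545 L171908
theorem L171911 : sm gh N20227 = N20227 := ded_43_2 (flp_e L171908) L118546 L171908
theorem L171912 : sm gi N13912 = N20228 := rfl
theorem L171914 : sm gd N20228 = N13913 := ded_39_1 (flp_i L118547) L118541 L171912
theorem L171916 : sm gf N20228 = N13915 := ded_48_1 (flp_i L118562) (flp_f L118543) L171912
theorem L171918 : sm gj N20228 = N20228 := ded_53_1 (flp_i L171912) L118545 L171912
theorem L171919 : sm gf N13914 = N20229 := rfl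
theorem L171921 : sm gd N20229 = N14732 := ded_35_1 (flp_f L125527) (flp_d L118560) L171919
theorem L171923 : sm gj N20229 = N20229 := ded_46_2 (flp_f L171919) L118558 L171919
theorem L171924 : sm gh N20229 = N20229 := ded_47_2 (flp_f L171919) L118559 L171919
theorem L171925 : sm gi N13914 = N20230 := rfl
theorem L171927 : sm gd N20230 = N14733 := ded_39_1 (flp_i L125533) (flp_d L118560) L171925
theorem L171929 : sm ge N20230 = N13915 := ded_44_1 (flp_i L118562) L118556 L171925
theorem L171931 : sm gj N20230 = N20230 := ded_53_1 (flp_i L171925) L118558 L171925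
theorem L171932 : sm gh N13915 = N20231 := rfl
theorem L171934 : sm gj N20231 = N20231 := ded_52_1 (flp_h L171932) L118566 L171932
theorem L171935 : sm gd N20231 = N13966 := ded_38_1 (flp_h L118974) L82234 (flp_h L81973) (flp_d L118564) L171932
theorem L171937 : sm gi N20231 = N20231 := ded_54_2 (flp_h L171932) (flp_i L118562) L81965 L118562 L171932
theorem L171938 : sm gj N13916 = N20232 := rfl
theorem L171940 : sm gb N20232 = N13923 := ded_24_1 (flp_j L118631) (flp_b L118569) L171938
theorem L171942 : sm gd N20232 = N14083 := ded_37_1 (flp_j L119996) (flp_d L118571) L171938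
theorem L171944 : sm gf N20232 = N13917 := ded_46_1 (flp_j L118577) L118567 L171938
theorem L171946 : sm gi N20232 = N13967 := ded_53_2 (flp_j L118979) (flp_i L118573) L171938
theorem L171948 : sm gh N13916 = N20233 := rfl
theorem L171950 : sm gb N20233 = N13924 := ded_25_1 (flp_h L118640) (flp_b L118569) L171948
theorem L171952 : sm gf N20233 = N13918 := ded_47_1 (flp_h L118588) L118567 L171948
theorem L171954 : sm gg N20233 = N14736 := ded_50_1 (flp_h L125557) (flp_g L118575) L171948
theorem L171956 : sm gh N13917 = N20234 := rfl
theorem L171958 : sm gb N20234 = N13925 := ded_25_1 (flp_h L118647) (flp_b L118579) L171956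
theorem L171960 : sm ge N20234 = N13921 := ded_43_1 (flp_h L118616) (flp_e L118583) L171956
theorem L171962 : sm gg N20234 = N20234 := ded_50_1 (flp_h L171956) L118587 L171956
theorem L171963 : sm gj N20234 = N13918 := ded_52_1 (flp_h L118588) L118577 L171956
theorem L171965 : sm gd N13918 = N20235 := rfl
theorem L171967 : sm gb N20235 = N13926 := ded_20_1 (flp_d L118655) (flp_b L118590) L171965
theorem L171969 : sm gg N20235 = N13919 := ded_36_2 (flp_d L118596) (flp_g L118594) L171965
theorem L171971 : sm gh N20235 = N14086 := ded_38_2 (flp_d L120023) (flp_h L82923) (flp_d L81979) L118588 L171965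
theorem L171973 : sm gi N13918 = N20236 := rfl
theorem L171975 : sm gb N20236 = N13927 := ded_26_1 (flp_i L118662) (flp_b L118590) L171973
theorem L171977 : sm ge N20236 = N13922 := ded_44_1 (flp_i L118623) (flp_e L118592) L171973
theorem L171979 : sm gg N20236 = N13920 := ded_51_1 (flp_i L118605) (flp_g L118594) L171973
theorem L171981 : sm gh N20236 = N13971 := ded_54_1 (flp_i L119013) (flp_h L82254) (flp_i L81983) L118588 L171973
theorem L171983 : sm gc N13919 = N20237 := rfl
theorem L171985 : sm gf N20237 = N14740 := ded_29_2 (flp_c L125591) (flp_f L118600) L171983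
theorem L171987 : sm gj N20237 = N20237 := ded_31_2 (flp_c L171983) L118602 L171983
theorem L171988 : sm gh N20237 = N14088 := ded_32_2 (flp_c L120039) (flp_h L118603) L171983
theorem L171990 : sm gi N13919 = N20238 := rfl
theorem L171992 : sm gb N20238 = N13929 := ded_26_1 (flp_i L118679) (flp_b L118598) L171990
theorem L171994 : sm gd N20238 = N13920 := ded_39_1 (flp_i L118605) L118596 L171990
theorem L171996 : sm gf N20238 = N14741 := ded_48_1 (flp_i L125597) (flp_f L118600) L171990
theorem L171998 : sm gj N20238 = N20238 := ded_53_1 (flp_i L171990) L118602 L171990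
theorem L171999 : sm gi N13921 = N20239 := rfl
theorem L172001 : sm gb N20239 = N13930 := ded_26_1 (flp_i L118687) (flp_b L118618) L171999
theorem L172003 : sm gg N20239 = N20239 := ded_51_1 (flp_i L171999) L118620 L171999
theorem L172004 : sm gj N20239 = N13922 := ded_53_1 (flp_i L118623) (flp_j L118621) L171999
theorem L172006 : sm gh N20239 = N13974 := ded_54_1 (flp_i L119039) (flp_h L82281) (flp_i L82000) L118616 L171999
theorem L172008 : sm gg N13923 = N20240 := rfl
theorem L172010 : sm ga N20240 = N20240 := ded_15_1 (flp_g L172008) L118633 L172008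
theorem L172011 : sm gd N20240 = N14091 := ded_36_1 (flp_g L120063) (flp_d L118634) L172008
theorem L172013 : sm gi N20240 = N13975 := ded_51_2 (flp_g L119047) (flp_i L118638) L172008
theorem L172015 : sm gf N20240 = N20240 := ded_45_1 (flp_g L172008) L118636 L82036 (flp_f L118636) L172008
theorem L172016 : sm gj N20240 = N14743 := ded_49_2 (flp_g L125615) (flp_j L86695) (flp_g L82025) L118631 L172008
theorem L172018 : sm gh N13923 = N20241 := rfl
theorem L172020 : sm ga N20241 = N20241 := ded_17_1 (flp_h L172018) L118633 L172018
theorem L172021 : sm gf N20241 = N13925 := ded_47_1 (flp_h L118647) (flp_f L118636) L172018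
theorem L172023 : sm gj N20241 = N13924 := ded_52_1 (flp_h L118640) L118631 L172018
theorem L172025 : sm gd N13924 = N20242 := rfl
theorem L172027 : sm ga N20242 = N20242 := ded_12_1 (flp_d L172025) L118642 L172025
theorem L172028 : sm gf N20242 = N13926 := ded_35_2 (flp_d L118655) (flp_f L118643) L172025
theorem L172030 : sm gg N20242 = N14745 := ded_36_2 (flp_d L125630) (flp_g L118645) L172025
theorem L172032 : sm gh N20242 = N14093 := ded_38_2 (flp_d L120082) (flp_h L82975) (flp_d L82021) L118640 L172025
theorem L172034 : sm gi N13924 = N20243 := rfl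
theorem L172036 : sm ga N20243 = N20243 := ded_18_1 (flp_i L172034) L118642 L172034
theorem L172037 : sm gf N20243 = N13927 := ded_48_1 (flp_i L118662) (flp_f L118643) L172034
theorem L172039 : sm gg N20243 = N14746 := ded_51_1 (flp_i L125637) (flp_g L118645) L172034
theorem L172041 : sm gh N20243 = N13978 := ded_54_1 (flp_i L119071) (flp_h L82303) (flp_i L82023) L118640 L172034
theorem L172043 : sm gd N13925 = N20244 := rfl
theorem L172045 : sm ga N20244 = N20244 := ded_12_1 (flp_d L172043) L118649 L172043
theorem L172046 : sm gg N20244 = N20244 := ded_36_2 (flp_d L172043) L118652 L172043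
theorem L172047 : sm gj N20244 = N13926 := ded_37_2 (flp_d L118655) (flp_j L118653) L172043
theorem L172049 : sm gh N20244 = N14095 := ded_38_2 (flp_d L120100) (flp_h L82984) (flp_d L82030) L118647 L172043
theorem L172051 : sm gi N13925 = N20245 := rfl
theorem L172053 : sm ga N20245 = N20245 := ded_18_1 (flp_i L172051) L118649 L172051
theorem L172054 : sm ge N20245 = N13930 := ded_44_1 (flp_i L118687) (flp_e L118650) L172051
theorem L172056 : sm gg N20245 = N20245 := ded_51_1 (flp_i L172051) L118652 L172051
theorem L172057 : sm gj N20245 = N13927 := ded_53_1 (flp_i L118662) (flp_j L118653) L172051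
theorem L172059 : sm gh N20245 = N13980 := ded_54_1 (flp_i L119087) (flp_h L82310) (flp_i L82034) L118647 L172051
theorem L172061 : sm gc N13926 = N20246 := rfl
theorem L172063 : sm ga N20246 = N20246 := ded_11_1 (flp_c L172061) L118657 L172061
theorem L172064 : sm gg N20246 = N13928 := ded_30_2 (flp_c L118671) (flp_g L118658) L172061
theorem L172066 : sm gh N20246 = N14097 := ded_32_2 (flp_c L120117) (flp_h L118660) L172061
theorem L172068 : sm gi N13926 = N20247 := rfl
theorem L172070 : sm ga N20247 = N20247 := ded_18_1 (flp_i L172068) L118657 L172068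
theorem L172071 : sm gd N20247 = N13927 := ded_39_1 (flp_i L118662) L118655 L172068
theorem L172073 : sm gg N20247 = N13929 := ded_51_1 (flp_i L118679) (flp_g L118658) L172068
theorem L172075 : sm gb N13928 = N20248 := rfl
theorem L172077 : sm gf N20248 = N14751 := ded_22_2 (flp_b L125679) (flp_f L118674) L172075
theorem L172079 : sm gj N20248 = N20248 := ded_24_2 (flp_b L172075) L118676 L172075
theorem L172080 : sm gh N20248 = N14099 := ded_25_2 (flp_b L120130) (flp_h L118677) L172075
theorem L172082 : sm gi N13928 = N20249 := rfl
theorem L172084 : sm ga N20249 = N20249 := ded_18_1 (flp_i L172082) L118673 L172082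
theorem L172085 : sm gc N20249 = N13929 := ded_33_1 (flp_i L118679) L118671 L172082
theorem L172087 : sm gf N20249 = N14752 := ded_48_1 (flp_i L125685) (flp_f L118674) L172082
theorem L172089 : sm gj N20249 = N20249 := ded_53_1 (flp_i L172082) L118676 L172082
theorem L172090 : sm gh N13929 = N20250 := rfl
theorem L172092 : sm ga N20250 = N20250 := ded_17_1 (flp_h L172090) L118681 L172090
theorem L172093 : sm gf N20250 = N14753 := ded_47_1 (flp_h L125692) (flp_f L118684) L172090
theorem L172095 : sm gj N20250 = N20250 := ded_52_1 (flp_h L172090) L118686 L172090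
theorem L172096 : sm gd N20250 = N13985 := ded_38_1 (flp_h L119128) L82345 (flp_h L82060) (flp_d L118682) L172090
theorem L172098 : sm gi N20250 = N14101 := ded_54_2 (flp_h L120145) (flp_i L83015) (flp_h L82050) L118679 L172090
theorem L172100 : sm gd N13931 = N20251 := rfl
theorem L172102 : sm gb N20251 = N13936 := ded_20_1 (flp_d L118731) (flp_b L118697) L172100
theorem L172104 : sm gf N20251 = N14754 := ded_35_2 (flp_d L125701) (flp_f L118701) L172100
theorem L172106 : sm gj N20251 = N20251 := ded_37_2 (flp_d L172100) L118700 L172100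
theorem L172107 : sm ge N20251 = N20251 := ded_34_2 (flp_d L172100) (flp_e L118695) L82080 L118695 L172100
theorem L172108 : sm gg N13931 = N20252 := rfl
theorem L172110 : sm gb N20252 = N13937 := ded_23_1 (flp_g L118741) (flp_b L118697) L172108
theorem L172112 : sm gc N20252 = N20252 := ded_30_1 (flp_g L172108) L118699 L172108
theorem L172113 : sm ge N20252 = N13932 := ded_41_1 (flp_g L118703) L118695 L172108
theorem L172115 : sm gh N13931 = N20253 := rfl
theorem L172117 : sm gb N20253 = N13938 := ded_25_1 (flp_h L118749) (flp_b L118697) L172115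
theorem L172119 : sm gc N20253 = N20253 := ded_32_1 (flp_h L172115) L118699 L172115
theorem L172120 : sm ge N20253 = N13933 := ded_43_1 (flp_h L118709) L118695 L172115
theorem L172122 : sm gf N20253 = N14756 := ded_47_1 (flp_h L125715) (flp_f L118701) L172115
theorem L172124 : sm gj N20253 = N20253 := ded_52_1 (flp_h L172115) L118700 L172115
theorem L172125 : sm gj N13932 = N20254 := rfl
theorem L172127 : sm gb N20254 = N13939 := ded_24_1 (flp_j L118760) (flp_b L118705) L172125
theorem L172129 : sm gc N20254 = N20254 := ded_31_1 (flp_j L172125) L118707 L172125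
theorem L172130 : sm gd N20254 = N20254 := ded_37_1 (flp_j L172125) L118708 L172125
theorem L172131 : sm gg N20254 = N20254 := ded_49_1 (flp_j L172125) (flp_g L118703) L82081 L118703 L172125
theorem L172132 : sm gh N13932 = N20255 := rfl
theorem L172134 : sm gb N20255 = N13940 := ded_25_1 (flp_h L118768) (flp_b L118705) L172132
theorem L172136 : sm gc N20255 = N20255 := ded_32_1 (flp_h L172132) L118707 L172132
theorem L172137 : sm gg N20255 = N13933 := ded_50_1 (flp_h L118709) L118703 L172132
theorem L172139 : sm gd N13933 = N20256 := rfl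
theorem L172141 : sm gb N20256 = N13941 := ded_20_1 (flp_d L118776) (flp_b L118711) L172139
theorem L172143 : sm gf N20256 = N13934 := ded_35_2 (flp_d L118717) (flp_f L118714) L172139
theorem L172147 : sm gi N13933 = N20257 := rfl
theorem L172149 : sm gb N20257 = N13942 := ded_26_1 (flp_i L118785) (flp_b L118711) L172147
theorem L172151 : sm gc N20257 = N20257 := ded_33_1 (flp_i L172147) L118713 L172147
theorem L172152 : sm gf N20257 = N13935 := ded_48_1 (flp_i L118723) (flp_f L118714) L172147
theorem L172154 : sm gj N20257 = N20257 := ded_53_1 (flp_i L172147) L118716 L172147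
theorem L172155 : sm gc N13934 = N20258 := rfl
theorem L172161 : sm ge N13934 = N20259 := rfl
theorem L172163 : sm gb N20259 = N13943 := ded_21_1 (flp_e L118794) (flp_b L118719) L172161
theorem L172167 : sm gd N20259 = N14762 := ded_34_1 (flp_e L125763) (flp_d L86778) (flp_e L82087) L118717 L172161
theorem L172169 : sm gi N13934 = N20260 := rfl
theorem L172171 : sm gb N20260 = N13944 := ded_26_1 (flp_i L118803) (flp_b L118719) L172169
theorem L172173 : sm gd N20260 = N13935 := ded_39_1 (flp_i L118723) L118717 L172169
theorem L172176 : sm gg N13936 = N20261 := rfl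
theorem L172178 : sm ga N20261 = N13952 := ded_15_1 (flp_g L118877) (flp_a L118733) L172176
theorem L172180 : sm gc N20261 = N14111 := ded_30_1 (flp_g L120236) (flp_c L118738) L172176
theorem L172182 : sm gd N20261 = N13937 := ded_36_1 (flp_g L118741) L118731 L172176
theorem L172184 : sm ge N20261 = N20261 := ded_41_1 (flp_g L172176) L118740 L172176
theorem L172185 : sm gh N13936 = N20262 := rfl
theorem L172187 : sm ga N20262 = N13953 := ded_17_1 (flp_h L118884) (flp_a L118733) L172185
theorem L172189 : sm gc N20262 = N14112 := ded_32_1 (flp_h L120243) (flp_c L118738) L172185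
theorem L172191 : sm ge N20262 = N20262 := ded_43_1 (flp_h L172185) L118740 L172185
theorem L172192 : sm gf N20262 = N14765 := ded_47_1 (flp_h L125787) (flp_f L118735) L172185
theorem L172194 : sm gj N20262 = N20262 := ded_52_1 (flp_h L172185) L118737 L172185
theorem L172195 : sm gf N13937 = N20263 := rfl
theorem L172197 : sm ga N20263 = N13954 := ded_14_1 (flp_f L118892) (flp_a L118743) L172195
theorem L172199 : sm gc N20263 = N13945 := ded_29_1 (flp_f L118811) (flp_c L118745) L172195
theorem L172201 : sm gg N20263 = N14766 := ded_45_2 (flp_f L125796) (flp_g L86800) (flp_f L82097) L118741 L172195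
theorem L172203 : sm gj N13937 = N20264 := rfl
theorem L172205 : sm ga N20264 = N13955 := ded_16_1 (flp_j L118898) (flp_a L118743) L172203
theorem L172207 : sm gc N20264 = N13946 := ded_31_1 (flp_j L118820) (flp_c L118745) L172203
theorem L172209 : sm ge N20264 = N13939 := ded_42_1 (flp_j L118760) (flp_e L118747) L172203
theorem L172211 : sm gg N20264 = N20264 := ded_49_1 (flp_j L172203) (flp_g L118741) L82096 L118741 L172203
theorem L172212 : sm gh N13937 = N20265 := rfl
theorem L172214 : sm ga N20265 = N13956 := ded_17_1 (flp_h L118905) (flp_a L118743) L172212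
theorem L172216 : sm gc N20265 = N13947 := ded_32_1 (flp_h L118830) (flp_c L118745) L172212
theorem L172218 : sm ge N20265 = N13940 := ded_43_1 (flp_h L118768) (flp_e L118747) L172212
theorem L172220 : sm gg N20265 = N13938 := ded_50_1 (flp_h L118749) L118741 L172212
theorem L172222 : sm gd N13938 = N20266 := rfl
theorem L172224 : sm ga N20266 = N13957 := ded_12_1 (flp_d L118913) (flp_a L118751) L172222
theorem L172226 : sm gf N20266 = N14769 := ded_35_2 (flp_d L125821) (flp_f L118757) L172222
theorem L172228 : sm gj N20266 = N20266 := ded_37_2 (flp_d L172222) L118759 L172222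
theorem L172229 : sm gi N13938 = N20267 := rfl
theorem L172231 : sm ga N20267 = N13958 := ded_18_1 (flp_i L118918) (flp_a L118751) L172229
theorem L172233 : sm gc N20267 = N13949 := ded_33_1 (flp_i L118850) (flp_c L118753) L172229
theorem L172235 : sm ge N20267 = N13942 := ded_44_1 (flp_i L118785) (flp_e L118755) L172229
theorem L172237 : sm gf N20267 = N14770 := ded_48_1 (flp_i L125826) (flp_f L118757) L172229
theorem L172239 : sm gj N20267 = N20267 := ded_53_1 (flp_i L172229) L118759 L172229
theorem L172240 : sm gh N13939 = N20268 := rfl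
theorem L172242 : sm ga N20268 = N13959 := ded_17_1 (flp_h L118927) (flp_a L118762) L172240
theorem L172244 : sm gc N20268 = N13950 := ded_32_1 (flp_h L118860) (flp_c L118764) L172240
theorem L172246 : sm gg N20268 = N20268 := ded_50_1 (flp_h L172240) L118767 L172240
theorem L172247 : sm gj N20268 = N13940 := ded_52_1 (flp_h L118768) L118760 L172240
theorem L172249 : sm gd N13940 = N20269 := rfl
theorem L172251 : sm ga N20269 = N13960 := ded_12_1 (flp_d L118934) (flp_a L118770) L172249
theorem L172253 : sm gg N20269 = N13941 := ded_36_2 (flp_d L118776) (flp_g L118774) L172249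
theorem L172255 : sm gc N20269 = N20269 := ded_27_1 (flp_d L172249) L118772 L82165 (flp_c L118772) L172249
theorem L172256 : sm gh N20269 = N20269 := ded_38_2 (flp_d L172249) (flp_h L118768) L82105 L118768 L172249
theorem L172257 : sm gi N13940 = N20270 := rfl
theorem L172259 : sm ga N20270 = N13961 := ded_18_1 (flp_i L118940) (flp_a L118770) L172257
theorem L172261 : sm gc N20270 = N13951 := ded_33_1 (flp_i L118869) (flp_c L118772) L172257
theorem L172263 : sm gg N20270 = N13942 := ded_51_1 (flp_i L118785) (flp_g L118774) L172257
theorem L172265 : sm ge N13941 = N20271 := rfl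
theorem L172267 : sm ga N20271 = N13962 := ded_13_1 (flp_e L118946) (flp_a L118778) L172265
theorem L172269 : sm gc N20271 = N20271 := ded_28_1 (flp_e L172265) L118783 L172265
theorem L172270 : sm gj N20271 = N20271 := ded_42_2 (flp_e L172265) L118782 L172265
theorem L172271 : sm gh N20271 = N20271 := ded_43_2 (flp_e L172265) L118784 L172265
theorem L172272 : sm gi N13941 = N20272 := rfl
theorem L172274 : sm ga N20272 = N13963 := ded_18_1 (flp_i L118951) (flp_a L118778) L172272
theorem L172276 : sm gc N20272 = N20272 := ded_33_1 (flp_i L172272) L118783 L172272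
theorem L172277 : sm gd N20272 = N13942 := ded_39_1 (flp_i L118785) L118776 L172272
theorem L172279 : sm gf N20272 = N13944 := ded_48_1 (flp_i L118803) (flp_f L118780) L172272
theorem L172281 : sm gj N20272 = N20272 := ded_53_1 (flp_i L172272) L118782 L172272
theorem L172282 : sm gf N13943 = N20273 := rfl
theorem L172284 : sm ga N20273 = N13964 := ded_14_1 (flp_f L118959) (flp_a L118796) L172282
theorem L172287 : sm gd N20273 = N14776 := ded_35_1 (flp_f L125882) (flp_d L118801) L172282
theorem L172291 : sm gi N13943 = N20274 := rfl
theorem L172293 : sm ga N20274 = N13965 := ded_18_1 (flp_i L118966) (flp_a L118796) L172291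
theorem L172296 : sm gd N20274 = N14777 := ded_39_1 (flp_i L125891) (flp_d L118801) L172291
theorem L172298 : sm ge N20274 = N13944 := ded_44_1 (flp_i L118803) L118794 L172291
theorem L172301 : sm gh N13944 = N20275 := rfl
theorem L172303 : sm ga N20275 = N13966 := ded_17_1 (flp_h L118974) (flp_a L118805) L172301
theorem L172305 : sm gc N20275 = N20275 := ded_32_1 (flp_h L172301) L118807 L172301
theorem L172306 : sm gj N20275 = N20275 := ded_52_1 (flp_h L172301) L118810 L172301
theorem L172307 : sm gi N20275 = N20275 := ded_54_2 (flp_h L172301) (flp_i L118803) L82121 L118803 L172301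
theorem L172308 : sm gj N13945 = N20276 := rfl
theorem L172310 : sm ga N20276 = N13967 := ded_16_1 (flp_j L118979) (flp_a L118813) L172308
theorem L172312 : sm gb N20276 = N20276 := ded_24_1 (flp_j L172308) L118815 L172308
theorem L172313 : sm gd N20276 = N14124 := ded_37_1 (flp_j L120352) (flp_d L118816) L172308
theorem L172315 : sm gf N20276 = N13946 := ded_46_1 (flp_j L118820) L118811 L172308
theorem L172317 : sm gh N13945 = N20277 := rfl
theorem L172319 : sm ga N20277 = N13968 := ded_17_1 (flp_h L118987) (flp_a L118813) L172317
theorem L172321 : sm gb N20277 = N20277 := ded_25_1 (flp_h L172317) L118815 L172317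
theorem L172322 : sm gf N20277 = N13947 := ded_47_1 (flp_h L118830) L118811 L172317
theorem L172324 : sm gg N20277 = N14780 := ded_50_1 (flp_h L125918) (flp_g L118818) L172317
theorem L172326 : sm gh N13946 = N20278 := rfl
theorem L172328 : sm ga N20278 = N13969 := ded_17_1 (flp_h L118995) (flp_a L118822) L172326
theorem L172330 : sm gb N20278 = N20278 := ded_25_1 (flp_h L172326) L118824 L172326
theorem L172331 : sm ge N20278 = N13950 := ded_43_1 (flp_h L118860) (flp_e L118827) L172326
theorem L172333 : sm gg N20278 = N20278 := ded_50_1 (flp_h L172326) L118829 L172326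
theorem L172334 : sm gj N20278 = N13947 := ded_52_1 (flp_h L118830) L118820 L172326
theorem L172336 : sm gd N13947 = N20279 := rfl
theorem L172338 : sm ga N20279 = N13970 := ded_12_1 (flp_d L119004) (flp_a L118832) L172336
theorem L172340 : sm gb N20279 = N20279 := ded_20_1 (flp_d L172336) L118834 L172336
theorem L172341 : sm gg N20279 = N13948 := ded_36_2 (flp_d L118839) (flp_g L118837) L172336
theorem L172343 : sm ge N20279 = N20279 := ded_34_2 (flp_d L172336) L118835 L82165 (flp_e L118835) L172336
theorem L172344 : sm gh N20279 = N14127 := ded_38_2 (flp_d L120380) (flp_h L83167) (flp_d L82136) L118830 L172336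
theorem L172346 : sm gi N13947 = N20280 := rfl
theorem L172348 : sm ga N20280 = N13971 := ded_18_1 (flp_i L119013) (flp_a L118832) L172346
theorem L172350 : sm gb N20280 = N20280 := ded_26_1 (flp_i L172346) L118834 L172346
theorem L172351 : sm ge N20280 = N13951 := ded_44_1 (flp_i L118869) (flp_e L118835) L172346
theorem L172353 : sm gg N20280 = N13949 := ded_51_1 (flp_i L118850) (flp_g L118837) L172346
theorem L172355 : sm gc N13948 = N20281 := rfl
theorem L172357 : sm ga N20281 = N13972 := ded_11_1 (flp_c L119021) (flp_a L118841) L172355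
theorem L172359 : sm ge N20281 = N20281 := ded_28_2 (flp_c L172355) L118847 L172355
theorem L172360 : sm gf N20281 = N14784 := ded_29_2 (flp_c L125955) (flp_f L118844) L172355
theorem L172362 : sm gj N20281 = N20281 := ded_31_2 (flp_c L172355) L118846 L172355
theorem L172363 : sm gh N20281 = N14129 := ded_32_2 (flp_c L120397) (flp_h L118848) L172355
theorem L172365 : sm gi N13948 = N20282 := rfl
theorem L172367 : sm ga N20282 = N13973 := ded_18_1 (flp_i L119029) (flp_a L118841) L172365
theorem L172369 : sm gb N20282 = N20282 := ded_26_1 (flp_i L172365) L118843 L172365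
theorem L172370 : sm gd N20282 = N13949 := ded_39_1 (flp_i L118850) L118839 L172365
theorem L172372 : sm ge N20282 = N20282 := ded_44_1 (flp_i L172365) L118847 L172365
theorem L172373 : sm gf N20282 = N14785 := ded_48_1 (flp_i L125964) (flp_f L118844) L172365
theorem L172375 : sm gj N20282 = N20282 := ded_53_1 (flp_i L172365) L118846 L172365
theorem L172376 : sm gi N13950 = N20283 := rfl
theorem L172378 : sm ga N20283 = N13974 := ded_18_1 (flp_i L119039) (flp_a L118862) L172376
theorem L172380 : sm gb N20283 = N20283 := ded_26_1 (flp_i L172376) L118864 L172376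
theorem L172381 : sm gd N20283 = N20283 := ded_39_1 (flp_i L172376) L118868 L172376
theorem L172382 : sm gg N20283 = N20283 := ded_51_1 (flp_i L172376) L118865 L172376
theorem L172383 : sm gj N20283 = N13951 := ded_53_1 (flp_i L118869) (flp_j L118866) L172376
theorem L172385 : sm gf N13952 = N20284 := rfl
theorem L172387 : sm gc N20284 = N14132 := ded_29_1 (flp_f L120426) (flp_c L118879) L172385
theorem L172389 : sm gd N20284 = N13954 := ded_35_1 (flp_f L118892) (flp_d L118881) L172385
theorem L172391 : sm gg N20284 = N14787 := ded_45_2 (flp_f L125984) (flp_g L86935) (flp_f L82177) L118877 L172385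
theorem L172393 : sm gj N13952 = N20285 := rfl
theorem L172395 : sm gc N20285 = N14133 := ded_31_1 (flp_j L120433) (flp_c L118879) L172393
theorem L172397 : sm gd N20285 = N13955 := ded_37_1 (flp_j L118898) (flp_d L118881) L172393
theorem L172399 : sm ge N20285 = N20285 := ded_42_1 (flp_j L172393) L118883 L172393
theorem L172400 : sm gg N20285 = N20285 := ded_49_1 (flp_j L172393) (flp_g L118877) L82179 L118877 L172393
theorem L172401 : sm gh N13952 = N20286 := rfl
theorem L172403 : sm gc N20286 = N14134 := ded_32_1 (flp_h L120440) (flp_c L118879) L172401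
theorem L172405 : sm ge N20286 = N20286 := ded_43_1 (flp_h L172401) L118883 L172401
theorem L172406 : sm gg N20286 = N13953 := ded_50_1 (flp_h L118884) L118877 L172401
theorem L172408 : sm gd N13953 = N20287 := rfl
theorem L172410 : sm gf N20287 = N14790 := ded_35_2 (flp_d L126007) (flp_f L118889) L172408
theorem L172412 : sm gj N20287 = N20287 := ded_37_2 (flp_d L172408) L118891 L172408
theorem L172413 : sm gh N20287 = N13957 := ded_38_2 (flp_d L118913) (flp_h L82189) L82175 L118884 L172408
theorem L172415 : sm gi N13953 = N20288 := rfl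
theorem L172417 : sm gc N20288 = N14136 := ded_33_1 (flp_i L120454) (flp_c L118886) L172415
theorem L172419 : sm ge N20288 = N20288 := ded_44_1 (flp_i L172415) L118888 L172415
theorem L172420 : sm gf N20288 = N14791 := ded_48_1 (flp_i L126012) (flp_f L118889) L172415
theorem L172422 : sm gj N20288 = N20288 := ded_53_1 (flp_i L172415) L118891 L172415
theorem L172423 : sm gj N13954 = N20289 := rfl
theorem L172425 : sm gc N20289 = N13967 := ded_31_1 (flp_j L118979) (flp_c L118894) L172423
theorem L172427 : sm gf N20289 = N13955 := ded_46_1 (flp_j L118898) L118892 L172423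
theorem L172429 : sm gh N13954 = N20290 := rfl
theorem L172431 : sm gc N20290 = N13968 := ded_32_1 (flp_h L118987) (flp_c L118894) L172429
theorem L172433 : sm gf N20290 = N13956 := ded_47_1 (flp_h L118905) L118892 L172429
theorem L172435 : sm gg N20290 = N14793 := ded_50_1 (flp_h L126025) (flp_g L118896) L172429
theorem L172437 : sm gh N13955 = N20291 := rfl
theorem L172439 : sm gc N20291 = N13969 := ded_32_1 (flp_h L118995) (flp_c L118900) L172437
theorem L172441 : sm ge N20291 = N13959 := ded_43_1 (flp_h L118927) (flp_e L118902) L172437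
theorem L172443 : sm gg N20291 = N20291 := ded_50_1 (flp_h L172437) L118904 L172437
theorem L172444 : sm gj N20291 = N13956 := ded_52_1 (flp_h L118905) L118898 L172437
theorem L172446 : sm gd N13956 = N20292 := rfl
theorem L172448 : sm gg N20292 = N13957 := ded_36_2 (flp_d L118913) (flp_g L118911) L172446
theorem L172450 : sm gi N13956 = N20293 := rfl
theorem L172452 : sm gc N20293 = N13971 := ded_33_1 (flp_i L119013) (flp_c L118907) L172450
theorem L172454 : sm ge N20293 = N13961 := ded_44_1 (flp_i L118940) (flp_e L118909) L172450
theorem L172456 : sm gg N20293 = N13958 := ded_51_1 (flp_i L118918) (flp_g L118911) L172450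
theorem L172458 : sm gc N13957 = N20294 := rfl
theorem L172460 : sm gf N20294 = N14797 := ded_29_2 (flp_c L126052) (flp_f L118915) L172458
theorem L172462 : sm gj N20294 = N20294 := ded_31_2 (flp_c L172458) L118917 L172458
theorem L172463 : sm gd N20294 = N13972 := ded_27_2 (flp_c L119021) (flp_d L82262) (flp_c L82191) L118913 L172458
theorem L172465 : sm ge N13957 = N20295 := rfl
theorem L172467 : sm gj N20295 = N20295 := ded_42_2 (flp_e L172465) L118917 L172465
theorem L172468 : sm gd N20295 = N13962 := ded_34_1 (flp_e L118946) (flp_d L82210) (flp_e L82193) L118913 L172465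
theorem L172470 : sm gi N13957 = N20296 := rfl
theorem L172472 : sm gd N20296 = N13958 := ded_39_1 (flp_i L118918) L118913 L172470
theorem L172474 : sm gf N20296 = N14799 := ded_48_1 (flp_i L126062) (flp_f L118915) L172470
theorem L172476 : sm gj N20296 = N20296 := ded_53_1 (flp_i L172470) L118917 L172470
theorem L172477 : sm gd N13959 = N20297 := rfl
theorem L172479 : sm gg N20297 = N20297 := ded_36_2 (flp_d L172477) L118931 L172477
theorem L172480 : sm gj N20297 = N13960 := ded_37_2 (flp_d L118934) (flp_j L118932) L172477
theorem L172482 : sm gc N20297 = N20297 := ded_27_1 (flp_d L172477) L118929 L82288 (flp_c L118929) L172477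
theorem L172483 : sm gh N20297 = N20297 := ded_38_2 (flp_d L172477) (flp_h L118927) L82202 L118927 L172477
theorem L172484 : sm gi N13959 = N20298 := rfl
theorem L172486 : sm gc N20298 = N13974 := ded_33_1 (flp_i L119039) (flp_c L118929) L172484
theorem L172488 : sm gg N20298 = N20298 := ded_51_1 (flp_i L172484) L118931 L172484
theorem L172489 : sm gj N20298 = N13961 := ded_53_1 (flp_i L118940) (flp_j L118932) L172484
theorem L172491 : sm ge N13960 = N20299 := rfl
theorem L172493 : sm gc N20299 = N20299 := ded_28_1 (flp_e L172491) L118938 L172491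
theorem L172494 : sm gg N20299 = N13962 := ded_41_2 (flp_e L118946) (flp_g L118936) L172491
theorem L172496 : sm gh N20299 = N20299 := ded_43_2 (flp_e L172491) L118939 L172491
theorem L172497 : sm gi N13960 = N20300 := rfl
theorem L172499 : sm gc N20300 = N20300 := ded_33_1 (flp_i L172497) L118938 L172497
theorem L172500 : sm gd N20300 = N13961 := ded_39_1 (flp_i L118940) L118934 L172497
theorem L172502 : sm gg N20300 = N13963 := ded_51_1 (flp_i L118951) (flp_g L118936) L172497
theorem L172504 : sm gf N13962 = N20301 := rfl
theorem L172506 : sm gc N20301 = N20301 := ded_29_1 (flp_f L172504) L118948 L172504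
theorem L172507 : sm gj N20301 = N20301 := ded_46_2 (flp_f L172504) L118949 L172504
theorem L172508 : sm gh N20301 = N20301 := ded_47_2 (flp_f L172504) L118950 L172504
theorem L172509 : sm ge N20301 = N13964 := ded_40_1 (flp_f L118959) (flp_e L82224) (flp_f L82212) L118946 L172504
theorem L172511 : sm gi N13962 = N20302 := rfl
theorem L172513 : sm gc N20302 = N20302 := ded_33_1 (flp_i L172511) L118948 L172511
theorem L172514 : sm ge N20302 = N13963 := ded_44_1 (flp_i L118951) L118946 L172511
theorem L172516 : sm gj N20302 = N20302 := ded_53_1 (flp_i L172511) L118949 L172511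
theorem L172517 : sm gh N13963 = N20303 := rfl
theorem L172519 : sm gc N20303 = N20303 := ded_32_1 (flp_h L172517) L118953 L172517
theorem L172520 : sm gf N20303 = N13966 := ded_47_1 (flp_h L118974) (flp_f L118956) L172517
theorem L172522 : sm gj N20303 = N20303 := ded_52_1 (flp_h L172517) L118958 L172517
theorem L172523 : sm gi N20303 = N20303 := ded_54_2 (flp_h L172517) (flp_i L118951) L82216 L118951 L172517
theorem L172524 : sm gg N13964 = N20304 := rfl
theorem L172526 : sm gc N20304 = N20304 := ded_30_1 (flp_g L172524) L118961 L172524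
theorem L172527 : sm gd N20304 = N14807 := ded_36_1 (flp_g L126124) (flp_d L118962) L172524
theorem L172529 : sm gh N20304 = N20304 := ded_50_2 (flp_g L172524) L118965 L172524
theorem L172530 : sm gi N13964 = N20305 := rfl
theorem L172532 : sm gc N20305 = N20305 := ded_33_1 (flp_i L172530) L118961 L172530
theorem L172533 : sm gd N20305 = N14808 := ded_39_1 (flp_i L126130) (flp_d L118962) L172530
theorem L172535 : sm gf N20305 = N13965 := ded_48_1 (flp_i L118966) L118959 L172530
theorem L172537 : sm gj N20305 = N20305 := ded_53_1 (flp_i L172530) L118964 L172530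
theorem L172538 : sm gh N13965 = N20306 := rfl
theorem L172540 : sm gc N20306 = N20306 := ded_32_1 (flp_h L172538) L118968 L172538
theorem L172541 : sm ge N20306 = N13966 := ded_43_1 (flp_h L118974) (flp_e L118971) L172538
theorem L172543 : sm gj N20306 = N20306 := ded_52_1 (flp_h L172538) L118973 L172538
theorem L172544 : sm gi N20306 = N20306 := ded_54_2 (flp_h L172538) (flp_i L118966) L82228 L118966 L172538
theorem L172545 : sm gg N13967 = N20307 := rfl
theorem L172547 : sm gb N20307 = N13975 := ded_23_1 (flp_g L119047) (flp_b L118981) L172545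
theorem L172549 : sm gd N20307 = N14151 := ded_36_1 (flp_g L120575) (flp_d L118983) L172545
theorem L172551 : sm gf N20307 = N20307 := ded_45_1 (flp_g L172545) L118985 L82253 (flp_f L118985) L172545
theorem L172552 : sm gj N20307 = N14810 := ded_49_2 (flp_g L126146) (flp_j L87037) (flp_g L82243) L118979 L172545
theorem L172554 : sm gh N13967 = N20308 := rfl
theorem L172556 : sm gb N20308 = N13976 := ded_25_1 (flp_h L119055) (flp_b L118981) L172554
theorem L172558 : sm gf N20308 = N13969 := ded_47_1 (flp_h L118995) (flp_f L118985) L172554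
theorem L172560 : sm gj N20308 = N13968 := ded_52_1 (flp_h L118987) L118979 L172554
theorem L172562 : sm gd N13968 = N20309 := rfl
theorem L172564 : sm gb N20309 = N13977 := ded_20_1 (flp_d L119062) (flp_b L118989) L172562
theorem L172566 : sm gf N20309 = N13970 := ded_35_2 (flp_d L119004) (flp_f L118991) L172562
theorem L172568 : sm gg N20309 = N14812 := ded_36_2 (flp_d L126161) (flp_g L118993) L172562
theorem L172570 : sm gh N20309 = N14153 := ded_38_2 (flp_d L120592) (flp_h L83324) (flp_d L82241) L118987 L172562
theorem L172572 : sm gi N13968 = N20310 := rfl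
theorem L172574 : sm gb N20310 = N13978 := ded_26_1 (flp_i L119071) (flp_b L118989) L172572
theorem L172576 : sm gf N20310 = N13971 := ded_48_1 (flp_i L119013) (flp_f L118991) L172572
theorem L172578 : sm gg N20310 = N14813 := ded_51_1 (flp_i L126169) (flp_g L118993) L172572
theorem L172580 : sm gd N13969 = N20311 := rfl
theorem L172582 : sm gb N20311 = N13979 := ded_20_1 (flp_d L119078) (flp_b L118997) L172580
theorem L172584 : sm gg N20311 = N20311 := ded_36_2 (flp_d L172580) L119001 L172580
theorem L172585 : sm gj N20311 = N13970 := ded_37_2 (flp_d L119004) (flp_j L119002) L172580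
theorem L172587 : sm ge N20311 = N20311 := ded_34_2 (flp_d L172580) L118999 L82288 (flp_e L118999) L172580
theorem L172588 : sm gh N20311 = N14155 := ded_38_2 (flp_d L120609) (flp_h L83333) (flp_d L82249) L118995 L172580
theorem L172590 : sm gi N13969 = N20312 := rfl
theorem L172592 : sm gb N20312 = N13980 := ded_26_1 (flp_i L119087) (flp_b L118997) L172590
theorem L172594 : sm ge N20312 = N13974 := ded_44_1 (flp_i L119039) (flp_e L118999) L172590
theorem L172596 : sm gg N20312 = N20312 := ded_51_1 (flp_i L172590) L119001 L172590
theorem L172597 : sm gj N20312 = N13971 := ded_53_1 (flp_i L119013) (flp_j L119002) L172590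
theorem L172599 : sm gc N13970 = N20313 := rfl
theorem L172601 : sm ge N20313 = N20313 := ded_28_2 (flp_c L172599) L119010 L172599
theorem L172602 : sm gg N20313 = N13972 := ded_30_2 (flp_c L119021) (flp_g L119008) L172599
theorem L172604 : sm gh N20313 = N14157 := ded_32_2 (flp_c L120626) (flp_h L119011) L172599
theorem L172606 : sm gi N13970 = N20314 := rfl
theorem L172608 : sm gb N20314 = N13982 := ded_26_1 (flp_i L119103) (flp_b L119006) L172606
theorem L172610 : sm gd N20314 = N13971 := ded_39_1 (flp_i L119013) L119004 L172606
theorem L172612 : sm ge N20314 = N20314 := ded_44_1 (flp_i L172606) L119010 L172606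
theorem L172613 : sm gg N20314 = N13973 := ded_51_1 (flp_i L119029) (flp_g L119008) L172606
theorem L172615 : sm gb N13972 = N20315 := rfl
theorem L172617 : sm ge N20315 = N20315 := ded_21_2 (flp_b L172615) L119023 L172615
theorem L172618 : sm gf N20315 = N14818 := ded_22_2 (flp_b L126213) (flp_f L119024) L172615
theorem L172620 : sm gj N20315 = N20315 := ded_24_2 (flp_b L172615) L119026 L172615
theorem L172621 : sm gh N20315 = N14159 := ded_25_2 (flp_b L120640) (flp_h L119027) L172615
theorem L172623 : sm gc N20315 = N13983 := ded_19_2 (flp_b L119111) (flp_c L82333) (flp_b L82264) L119021 L172615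
theorem L172625 : sm gi N13972 = N20316 := rfl
theorem L172627 : sm gc N20316 = N13973 := ded_33_1 (flp_i L119029) L119021 L172625
theorem L172629 : sm ge N20316 = N20316 := ded_44_1 (flp_i L172625) L119023 L172625
theorem L172630 : sm gf N20316 = N14819 := ded_48_1 (flp_i L126222) (flp_f L119024) L172625
theorem L172632 : sm gj N20316 = N20316 := ded_53_1 (flp_i L172625) L119026 L172625
theorem L172633 : sm gh N13973 = N20317 := rfl
theorem L172635 : sm gb N20317 = N13985 := ded_25_1 (flp_h L119128) (flp_b L119031) L172633
theorem L172637 : sm ge N20317 = N20317 := ded_43_1 (flp_h L172633) L119035 L172633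
theorem L172638 : sm gf N20317 = N14820 := ded_47_1 (flp_h L126229) (flp_f L119036) L172633
theorem L172640 : sm gj N20317 = N20317 := ded_52_1 (flp_h L172633) L119038 L172633
theorem L172641 : sm gi N20317 = N14161 := ded_54_2 (flp_h L120656) (flp_i L83363) (flp_h L82270) L119029 L172633
theorem L172643 : sm gh N13975 = N20318 := rfl
theorem L172645 : sm ga N20318 = N20318 := ded_17_1 (flp_h L172643) L119049 L172643
theorem L172646 : sm gf N20318 = N20318 := ded_47_1 (flp_h L172643) L119052 L172643
theorem L172647 : sm gg N20318 = N13976 := ded_50_1 (flp_h L119055) L119047 L172643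
theorem L172649 : sm gj N20318 = N14821 := ded_52_1 (flp_h L126238) (flp_j L119053) L172643
theorem L172651 : sm gd N13976 = N20319 := rfl
theorem L172653 : sm ga N20319 = N20319 := ded_12_1 (flp_d L172651) L119057 L172651
theorem L172654 : sm gf N20319 = N13979 := ded_35_2 (flp_d L119078) (flp_f L119058) L172651
theorem L172656 : sm gj N20319 = N13977 := ded_37_2 (flp_d L119062) (flp_j L119060) L172651
theorem L172658 : sm gh N20319 = N14163 := ded_38_2 (flp_d L120674) (flp_h L83390) (flp_d L82299) L119055 L172651
theorem L172660 : sm gi N13976 = N20320 := rfl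
theorem L172662 : sm ga N20320 = N20320 := ded_18_1 (flp_i L172660) L119057 L172660
theorem L172663 : sm gf N20320 = N13980 := ded_48_1 (flp_i L119087) (flp_f L119058) L172660
theorem L172665 : sm gj N20320 = N13978 := ded_53_1 (flp_i L119071) (flp_j L119060) L172660
theorem L172667 : sm gc N13977 = N20321 := rfl
theorem L172669 : sm ga N20321 = N20321 := ded_11_1 (flp_c L172667) L119064 L172667
theorem L172670 : sm gf N20321 = N13981 := ded_29_2 (flp_c L119095) (flp_f L119065) L172667
theorem L172672 : sm gg N20321 = N14824 := ded_30_2 (flp_c L126260) (flp_g L119067) L172667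
theorem L172674 : sm gh N20321 = N14165 := ded_32_2 (flp_c L120690) (flp_h L119069) L172667
theorem L172676 : sm ge N13977 = N20322 := rfl
theorem L172678 : sm ga N20322 = N20322 := ded_13_1 (flp_e L172676) L119064 L172676
theorem L172679 : sm gg N20322 = N14825 := ded_41_2 (flp_e L126267) (flp_g L119067) L172676
theorem L172681 : sm gh N20322 = N14166 := ded_43_2 (flp_e L120698) (flp_h L119069) L172676
theorem L172683 : sm gf N20322 = N20322 := ded_40_2 (flp_e L172676) L119065 L82323 (flp_f L119065) L172676
theorem L172684 : sm gi N13977 = N20323 := rfl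
theorem L172686 : sm ga N20323 = N20323 := ded_18_1 (flp_i L172684) L119064 L172684
theorem L172687 : sm gd N20323 = N13978 := ded_39_1 (flp_i L119071) L119062 L172684
theorem L172689 : sm gf N20323 = N13982 := ded_48_1 (flp_i L119103) (flp_f L119065) L172684
theorem L172691 : sm gg N20323 = N14826 := ded_51_1 (flp_i L126274) (flp_g L119067) L172684
theorem L172693 : sm gc N13979 = N20324 := rfl
theorem L172695 : sm ga N20324 = N20324 := ded_11_1 (flp_c L172693) L119080 L172693
theorem L172696 : sm ge N20324 = N20324 := ded_28_2 (flp_c L172693) L119084 L172693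
theorem L172697 : sm gg N20324 = N20324 := ded_30_2 (flp_c L172693) L119081 L172693
theorem L172698 : sm gj N20324 = N13981 := ded_31_2 (flp_c L119095) (flp_j L119082) L172693
theorem L172700 : sm gh N20324 = N14168 := ded_32_2 (flp_c L120714) (flp_h L119085) L172693
theorem L172702 : sm gi N13979 = N20325 := rfl
theorem L172704 : sm ga N20325 = N20325 := ded_18_1 (flp_i L172702) L119080 L172702
theorem L172705 : sm gd N20325 = N13980 := ded_39_1 (flp_i L119087) L119078 L172702
theorem L172707 : sm ge N20325 = N20325 := ded_44_1 (flp_i L172702) L119084 L172702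
theorem L172708 : sm gg N20325 = N20325 := ded_51_1 (flp_i L172702) L119081 L172702
theorem L172709 : sm gj N20325 = N13982 := ded_53_1 (flp_i L119103) (flp_j L119082) L172702
theorem L172711 : sm gb N13981 = N20326 := rfl
theorem L172713 : sm ge N20326 = N20326 := ded_21_2 (flp_b L172711) L119098 L172711
theorem L172714 : sm gg N20326 = N13983 := ded_23_2 (flp_b L119111) (flp_g L119099) L172711
theorem L172716 : sm gh N20326 = N14170 := ded_25_2 (flp_b L120731) (flp_h L119101) L172711
theorem L172718 : sm gi N13981 = N20327 := rfl
theorem L172720 : sm ga N20327 = N20327 := ded_18_1 (flp_i L172718) L119097 L172718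
theorem L172721 : sm gc N20327 = N13982 := ded_33_1 (flp_i L119103) L119095 L172718
theorem L172723 : sm ge N20327 = N20327 := ded_44_1 (flp_i L172718) L119098 L172718
theorem L172724 : sm gg N20327 = N13984 := ded_51_1 (flp_i L119119) (flp_g L119099) L172718
theorem L172726 : sm gh N13982 = N20328 := rfl
theorem L172728 : sm ga N20328 = N20328 := ded_17_1 (flp_h L172726) L119105 L172726
theorem L172729 : sm ge N20328 = N20328 := ded_43_1 (flp_h L172726) L119108 L172726
theorem L172730 : sm gg N20328 = N13985 := ded_50_1 (flp_h L119128) (flp_g L119109) L172726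
theorem L172732 : sm gi N20328 = N14172 := ded_54_2 (flp_h L120746) (flp_i L83438) (flp_h L82324) L119103 L172726
theorem L172734 : sm ga N13983 = N20329 := rfl
theorem L172736 : sm ge N20329 = N20329 := ded_13_2 (flp_a L172734) L119113 L172734
theorem L172737 : sm gf N20329 = N14832 := ded_14_2 (flp_a L126327) (flp_f L119114) L172734
theorem L172739 : sm gj N20329 = N20329 := ded_16_2 (flp_a L172734) L119116 L172734
theorem L172740 : sm gh N20329 = N14173 := ded_17_2 (flp_a L120752) (flp_h L119117) L172734
theorem L172742 : sm gb N20329 = N20329 := ded_10_2 (flp_a L172734) (flp_b L119111) L82335 L119111 L172734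
theorem L172743 : sm gi N13983 = N20330 := rfl
theorem L172745 : sm gb N20330 = N13984 := ded_26_1 (flp_i L119119) L119111 L172743
theorem L172747 : sm ge N20330 = N20330 := ded_44_1 (flp_i L172743) L119113 L172743
theorem L172748 : sm gf N20330 = N14833 := ded_48_1 (flp_i L126335) (flp_f L119114) L172743
theorem L172750 : sm gj N20330 = N20330 := ded_53_1 (flp_i L172743) L119116 L172743
theorem L172751 : sm gh N13984 = N20331 := rfl
theorem L172753 : sm ga N20331 = N20331 := ded_17_1 (flp_h L172751) L119121 L172751
theorem L172754 : sm gc N20331 = N13985 := ded_32_1 (flp_h L119128) (flp_c L119122) L172751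
theorem L172756 : sm ge N20331 = N20331 := ded_43_1 (flp_h L172751) L119124 L172751
theorem L172757 : sm gf N20331 = N14834 := ded_47_1 (flp_h L126342) (flp_f L119125) L172751
theorem L172759 : sm gj N20331 = N20331 := ded_52_1 (flp_h L172751) L119127 L172751
theorem L172760 : sm gi N20331 = N14175 := ded_54_2 (flp_h L120769) (flp_i L83453) (flp_h L82340) L119119 L172751
theorem L172782 : sm ge N13987 = N20334 := rfl
theorem L172786 : sm gc N20334 = N13989 := ded_28_1 (flp_e L119165) (flp_c L119151) L172782
theorem L172791 : sm gg N13987 = N20335 := rfl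
theorem L172793 : sm ga N20335 = N13995 := ded_15_1 (flp_g L119222) (flp_a L119149) L172791
theorem L172795 : sm gc N20335 = N13990 := ded_30_1 (flp_g L119174) (flp_c L119151) L172791
theorem L172800 : sm gh N13987 = N20336 := rfl
theorem L172827 : sm gg N13989 = N20339 := rfl
theorem L172829 : sm ga N20339 = N13999 := ded_15_1 (flp_g L119258) (flp_a L119167) L172827
theorem L172833 : sm ge N20339 = N13990 := ded_41_1 (flp_g L119174) L119165 L172827
theorem L172836 : sm gh N13989 = N20340 := rfl
theorem L172845 : sm gj N13990 = N20341 := rfl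
theorem L172847 : sm ga N20341 = N14001 := ded_16_1 (flp_j L119274) (flp_a L119176) L172845
theorem L172850 : sm gd N20341 = N13993 := ded_37_1 (flp_j L119202) (flp_d L119179) L172845
theorem L172855 : sm gh N13990 = N20342 := rfl
theorem L172857 : sm ga N20342 = N14002 := ded_17_1 (flp_h L119283) (flp_a L119176) L172855
theorem L172861 : sm gg N20342 = N13991 := ded_50_1 (flp_h L119183) L119174 L172855
theorem L172874 : sm gd N13994 = N20344 := rfl
theorem L172876 : sm gb N20344 = N14023 := ded_20_1 (flp_d L119475) (flp_b L119215) L172874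
theorem L172883 : sm gg N13994 = N20345 := rfl
theorem L172885 : sm gb N20345 = N14024 := ded_23_1 (flp_g L119481) (flp_b L119215) L172883
theorem L172887 : sm gc N20345 = N13999 := ded_30_1 (flp_g L119258) (flp_c L119217) L172883
theorem L172889 : sm ge N20345 = N13995 := ded_41_1 (flp_g L119222) L119213 L172883
theorem L172902 : sm gj N13995 = N20347 := rfl
theorem L172912 : sm gh N13995 = N20348 := rfl
theorem L172916 : sm gc N20348 = N14002 := ded_32_1 (flp_h L119283) (flp_c L119226) L172912
theorem L172919 : sm gg N20348 = N13996 := ded_50_1 (flp_h L119231) L119222 L172912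
theorem L172921 : sm gd N13996 = N20349 := rfl
theorem L172923 : sm gb N20349 = N14028 := ded_20_1 (flp_d L119511) (flp_b L119233) L172921
theorem L172925 : sm gf N20349 = N13997 := ded_35_2 (flp_d L119240) (flp_f L119237) L172921
theorem L172940 : sm ge N13997 = N20351 := rfl
theorem L172942 : sm gb N20351 = N14030 := ded_21_1 (flp_e L119527) (flp_b L119242) L172940
theorem L172949 : sm gi N13997 = N20352 := rfl
theorem L172954 : sm gd N20352 = N13998 := ded_39_1 (flp_i L119248) L119240 L172949
theorem L172956 : sm gg N20352 = N20352 := ded_51_1 (flp_i L172949) L119244 L172949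
theorem L172958 : sm gf N13999 = N20353 := rfl
theorem L172960 : sm gb N20353 = N14004 := ded_22_1 (flp_f L119300) (flp_b L119260) L172958
theorem L172966 : sm gj N13999 = N20354 := rfl
theorem L172968 : sm gb N20354 = N14005 := ded_24_1 (flp_j L119309) (flp_b L119260) L172966
theorem L172971 : sm ge N20354 = N14001 := ded_42_1 (flp_j L119274) (flp_e L119263) L172966
theorem L172975 : sm gh N13999 = N20355 := rfl
theorem L172983 : sm gd N14000 = N20356 := rfl
theorem L172985 : sm gb N20356 = N14007 := ded_20_1 (flp_d L119328) (flp_b L119268) L172983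
theorem L172991 : sm gi N14000 = N20357 := rfl
theorem L172995 : sm ge N20357 = N14003 := ded_44_1 (flp_i L119291) (flp_e L119270) L172991
theorem L173000 : sm gh N14001 = N20358 := rfl
theorem L173002 : sm gb N20358 = N14009 := ded_25_1 (flp_h L119345) (flp_b L119276) L173000
theorem L173006 : sm gj N20358 = N14002 := ded_52_1 (flp_h L119283) L119274 L173000
theorem L173009 : sm gi N14002 = N20359 := rfl
theorem L173015 : sm gg N20359 = N14003 := ded_51_1 (flp_i L119291) (flp_g L119288) L173009
theorem L173018 : sm gj N14004 = N20360 := rfl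
theorem L173021 : sm gc N20360 = N14039 := ded_31_1 (flp_j L119603) (flp_c L119303) L173018
theorem L173025 : sm gf N20360 = N14005 := ded_46_1 (flp_j L119309) L119300 L173018
theorem L173028 : sm gh N14004 = N20361 := rfl
theorem L173031 : sm gc N20361 = N14040 := ded_32_1 (flp_h L119610) (flp_c L119303) L173028
theorem L173034 : sm gf N20361 = N14006 := ded_47_1 (flp_h L119319) L119300 L173028
theorem L173037 : sm gh N14005 = N20362 := rfl
theorem L173040 : sm gc N20362 = N14041 := ded_32_1 (flp_h L119617) (flp_c L119312) L173037
theorem L173045 : sm gj N20362 = N14006 := ded_52_1 (flp_h L119319) L119309 L173037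
theorem L173047 : sm gd N14006 = N20363 := rfl
theorem L173050 : sm gg N20363 = N14007 := ded_36_2 (flp_d L119328) (flp_g L119326) L173047
theorem L173054 : sm gi N14006 = N20364 := rfl
theorem L173057 : sm gc N20364 = N14043 := ded_33_1 (flp_i L119632) (flp_c L119322) L173054
theorem L173061 : sm gg N20364 = N14008 := ded_51_1 (flp_i L119335) (flp_g L119326) L173054
theorem L173064 : sm gc N14007 = N20365 := rfl
theorem L173071 : sm gd N20365 = N14044 := ded_27_2 (flp_c L119640) (flp_d L82677) (flp_c L82468) L119328 L173064
theorem L173073 : sm gi N14007 = N20366 := rfl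
theorem L173092 : sm ge N14011 = N20368 := rfl
theorem L173094 : sm gb N20368 = N14013 := ded_21_1 (flp_e L119381) (flp_b L119367) L173092
theorem L173096 : sm gc N20368 = N20368 := ded_28_1 (flp_e L173092) L119369 L173092
theorem L173100 : sm gg N14011 = N20369 := rfl
theorem L173102 : sm gb N20369 = N14014 := ded_23_1 (flp_g L119390) (flp_b L119367) L173100
theorem L173108 : sm gh N14011 = N20370 := rfl
theorem L173116 : sm gd N14012 = N20371 := rfl
theorem L173118 : sm gb N20371 = N14016 := ded_20_1 (flp_d L119408) (flp_b L119375) L173116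
theorem L173132 : sm gd N14013 = N20373 := rfl
theorem L173134 : sm ga N20373 = N14023 := ded_12_1 (flp_d L119475) (flp_a L119383) L173132
theorem L173140 : sm gg N14013 = N20374 := rfl
theorem L173142 : sm ga N20374 = N14024 := ded_15_1 (flp_g L119481) (flp_a L119383) L173140
theorem L173144 : sm gc N20374 = N14018 := ded_30_1 (flp_g L119427) (flp_c L119385) L173140
theorem L173149 : sm gh N14013 = N20375 := rfl
theorem L173153 : sm gc N20375 = N14019 := ded_32_1 (flp_h L119435) (flp_c L119385) L173149
theorem L173169 : sm gh N14014 = N20377 := rfl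
theorem L173176 : sm gg N20377 = N14015 := ded_50_1 (flp_h L119399) L119390 L173169
theorem L173178 : sm gd N14015 = N20378 := rfl
theorem L173182 : sm gf N20378 = N14016 := ded_35_2 (flp_d L119408) (flp_f L119405) L173178
theorem L173198 : sm ge N14016 = N20380 := rfl
theorem L173208 : sm gi N14016 = N20381 := rfl
theorem L173218 : sm gf N14018 = N20382 := rfl
theorem L173220 : sm ga N20382 = N14032 := ded_14_1 (flp_f L119543) (flp_a L119429) L173218
theorem L173226 : sm gj N14018 = N20383 := rfl
theorem L173228 : sm ga N20383 = N14033 := ded_16_1 (flp_j L119550) (flp_a L119429) L173226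
theorem L173244 : sm gd N14019 = N20385 := rfl
theorem L173246 : sm ga N20385 = N14035 := ded_12_1 (flp_d L119566) (flp_a L119437) L173244
theorem L173251 : sm ge N20385 = N14064 := ded_34_2 (flp_d L119832) L82793 (flp_d L82554) (flp_e L119440) L173244
theorem L173285 : sm gg N14023 = N20389 := rfl
theorem L173291 : sm gh N14023 = N20390 := rfl
theorem L173296 : sm gf N14024 = N20391 := rfl
theorem L173298 : sm gc N20391 = N14032 := ded_29_1 (flp_f L119543) (flp_c L119483) L173296
theorem L173303 : sm gj N14024 = N20392 := rfl
theorem L173305 : sm gc N20392 = N14033 := ded_31_1 (flp_j L119550) (flp_c L119483) L173303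
theorem L173311 : sm gh N14024 = N20393 := rfl
theorem L173317 : sm gg N20393 = N14025 := ded_50_1 (flp_h L119488) L119481 L173311
theorem L173319 : sm gd N14025 = N20394 := rfl
theorem L173362 : sm gi N14028 = N20400 := rfl
theorem L173366 : sm gd N20400 = N14029 := ded_39_1 (flp_i L119519) L119511 L173362
theorem L173371 : sm gf N14030 = N20401 := rfl
theorem L173373 : sm gc N20401 = N14080 := ded_29_1 (flp_f L119972) (flp_c L119529) L173371
theorem L173395 : sm gj N14032 = N20404 := rfl
theorem L173397 : sm gb N20404 = N14039 := ded_24_1 (flp_j L119603) (flp_b L119545) L173395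
theorem L173400 : sm gf N20404 = N14033 := ded_46_1 (flp_j L119550) L119543 L173395
theorem L173403 : sm gh N14032 = N20405 := rfl
theorem L173405 : sm gb N20405 = N14040 := ded_25_1 (flp_h L119610) (flp_b L119545) L173403
theorem L173408 : sm gf N20405 = N14034 := ded_47_1 (flp_h L119558) L119543 L173403
theorem L173411 : sm gh N14033 = N20406 := rfl
theorem L173413 : sm gb N20406 = N14041 := ded_25_1 (flp_h L119617) (flp_b L119552) L173411
theorem L173415 : sm ge N20406 = N14037 := ded_43_1 (flp_h L119583) (flp_e L119554) L173411
theorem L173418 : sm gj N20406 = N14034 := ded_52_1 (flp_h L119558) L119550 L173411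
theorem L173420 : sm gd N14034 = N20407 := rfl
theorem L173422 : sm gb N20407 = N14042 := ded_20_1 (flp_d L119625) (flp_b L119560) L173420
theorem L173424 : sm gg N20407 = N14035 := ded_36_2 (flp_d L119566) (flp_g L119564) L173420
theorem L173426 : sm ge N20407 = N14086 := ded_34_2 (flp_d L120023) L82927 (flp_d L82645) (flp_e L119562) L173420
theorem L173437 : sm gc N14035 = N20409 := rfl
theorem L173439 : sm ge N20409 = N14088 := ded_28_2 (flp_c L120039) (flp_e L119572) L173437
theorem L173443 : sm gi N14035 = N20410 := rfl
theorem L173445 : sm gb N20410 = N14045 := ded_26_1 (flp_i L119647) (flp_b L119568) L173443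
theorem L173447 : sm gd N20410 = N14036 := ded_39_1 (flp_i L119574) L119566 L173443
theorem L173464 : sm gg N14039 = N20412 := rfl
theorem L173471 : sm gh N14039 = N20413 := rfl
theorem L173475 : sm gf N20413 = N14041 := ded_47_1 (flp_h L119617) (flp_f L119607) L173471
theorem L173477 : sm gj N20413 = N14040 := ded_52_1 (flp_h L119610) L119603 L173471
theorem L173479 : sm gd N14040 = N20414 := rfl
theorem L173481 : sm ga N20414 = N20414 := ded_12_1 (flp_d L173479) L119612 L173479
theorem L173482 : sm gf N20414 = N14042 := ded_35_2 (flp_d L119625) (flp_f L119614) L173479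
theorem L173484 : sm gg N20414 = N20414 := ded_36_2 (flp_d L173479) L119616 L173479
theorem L173485 : sm gi N14040 = N20415 := rfl
theorem L173493 : sm gd N14041 = N20416 := rfl
theorem L173495 : sm ga N20416 = N20416 := ded_12_1 (flp_d L173493) L119619 L173493
theorem L173496 : sm gg N20416 = N20416 := ded_36_2 (flp_d L173493) L119622 L173493
theorem L173497 : sm gj N20416 = N14042 := ded_37_2 (flp_d L119625) (flp_j L119623) L173493
theorem L173499 : sm ge N20416 = N14095 := ded_34_2 (flp_d L120100) L82988 (flp_d L82699) (flp_e L119620) L173493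
theorem L173501 : sm gi N14041 = N20417 := rfl
theorem L173510 : sm gc N14042 = N20418 := rfl
theorem L173512 : sm ga N20418 = N20418 := ded_11_1 (flp_c L173510) L119627 L173510
theorem L173513 : sm ge N20418 = N14097 := ded_28_2 (flp_c L120117) (flp_e L119630) L173510
theorem L173515 : sm gg N20418 = N14044 := ded_30_2 (flp_c L119640) (flp_g L119628) L173510
theorem L173517 : sm gi N14042 = N20419 := rfl
theorem L173522 : sm ge N20419 = N14098 := ded_44_1 (flp_i L120123) (flp_e L119630) L173517
theorem L173526 : sm gb N14044 = N20420 := rfl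
theorem L173528 : sm ge N20420 = N14099 := ded_21_2 (flp_b L120130) (flp_e L119643) L173526
theorem L173530 : sm gf N20420 = N20420 := ded_22_2 (flp_b L173526) L119645 L173526
theorem L173531 : sm gj N20420 = N20420 := ded_24_2 (flp_b L173526) L119646 L173526
theorem L173532 : sm gi N14044 = N20421 := rfl
theorem L173534 : sm ga N20421 = N20421 := ded_18_1 (flp_i L173532) L119642 L173532
theorem L173535 : sm gc N20421 = N14045 := ded_33_1 (flp_i L119647) L119640 L173532
theorem L173537 : sm ge N20421 = N14100 := ded_44_1 (flp_i L120136) (flp_e L119643) L173532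
theorem L173541 : sm gh N14045 = N20422 := rfl
theorem L173544 : sm ge N20422 = N14101 := ded_43_1 (flp_h L120145) (flp_e L119652) L173541
theorem L173546 : sm gf N20422 = N20422 := ded_47_1 (flp_h L173541) L119654 L173541
theorem L173549 : sm gd N14047 = N20423 := rfl
theorem L173552 : sm gb N20423 = N14052 := ded_20_1 (flp_d L119716) (flp_b L119669) L173549
theorem L173557 : sm gi N20423 = N14102 := ded_39_2 (flp_d L120153) (flp_i L119673) L173549
theorem L173560 : sm gg N14047 = N20424 := rfl
theorem L173563 : sm gb N20424 = N14053 := ded_23_1 (flp_g L119726) (flp_b L119669) L173560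
theorem L173568 : sm gi N20424 = N14103 := ded_51_2 (flp_g L120162) (flp_i L119673) L173560
theorem L173581 : sm gj N14048 = N20426 := rfl
theorem L173584 : sm gb N20426 = N14055 := ded_24_1 (flp_j L119747) (flp_b L119680) L173581
theorem L173589 : sm gi N20426 = N14105 := ded_53_2 (flp_j L120181) (flp_i L119684) L173581
theorem L173592 : sm gh N14048 = N20427 := rfl
theorem L173599 : sm gg N20427 = N14049 := ded_50_1 (flp_h L119687) L119677 L173592
theorem L173601 : sm gd N14049 = N20428 := rfl
theorem L173606 : sm gf N20428 = N14050 := ded_35_2 (flp_d L119696) (flp_f L119693) L173601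
theorem L173610 : sm gi N14049 = N20429 := rfl
theorem L173619 : sm gh N20429 = N14108 := ded_54_1 (flp_i L120208) (flp_h L83050) (flp_i L82718) L119687 L173610
theorem L173621 : sm gc N14050 = N20430 := rfl
theorem L173638 : sm gi N14050 = N20432 := rfl
theorem L173647 : sm gg N14052 = N20433 := rfl
theorem L173649 : sm ga N20433 = N14068 := ded_15_1 (flp_g L119871) (flp_a L119718) L173647
theorem L173651 : sm gd N20433 = N14053 := ded_36_1 (flp_g L119726) L119716 L173647
theorem L173654 : sm gi N20433 = N14111 := ded_51_2 (flp_g L120236) (flp_i L119723) L173647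
theorem L173656 : sm gh N14052 = N20434 := rfl
theorem L173658 : sm ga N20434 = N14069 := ded_17_1 (flp_h L119879) (flp_a L119718) L173656
theorem L173661 : sm gf N20434 = N14846 := ded_47_1 (flp_h L126461) (flp_f L119720) L173656
theorem L173664 : sm gf N14053 = N20435 := rfl
theorem L173666 : sm ga N20435 = N14070 := ded_14_1 (flp_f L119886) (flp_a L119728) L173664
theorem L173668 : sm gc N20435 = N14061 := ded_29_1 (flp_f L119803) (flp_c L119730) L173664
theorem L173670 : sm gi N20435 = N14113 := ded_48_2 (flp_f L120251) (flp_i L119734) L173664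
theorem L173675 : sm gj N14053 = N20436 := rfl
theorem L173677 : sm ga N20436 = N14071 := ded_16_1 (flp_j L119896) (flp_a L119728) L173675
theorem L173679 : sm gc N20436 = N14062 := ded_31_1 (flp_j L119813) (flp_c L119730) L173675
theorem L173683 : sm gi N20436 = N14114 := ded_53_2 (flp_j L120260) (flp_i L119734) L173675
theorem L173686 : sm gh N14053 = N20437 := rfl
theorem L173688 : sm ga N20437 = N14072 := ded_17_1 (flp_h L119906) (flp_a L119728) L173686
theorem L173690 : sm gc N20437 = N14063 := ded_32_1 (flp_h L119823) (flp_c L119730) L173686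
theorem L173692 : sm ge N20437 = N14056 := ded_43_1 (flp_h L119758) (flp_e L119732) L173686
theorem L173694 : sm gg N20437 = N14054 := ded_50_1 (flp_h L119736) L119726 L173686
theorem L173696 : sm gd N14054 = N20438 := rfl
theorem L173698 : sm ga N20438 = N14073 := ded_12_1 (flp_d L119915) (flp_a L119738) L173696
theorem L173700 : sm gf N20438 = N14850 := ded_35_2 (flp_d L126498) (flp_f L119744) L173696
theorem L173703 : sm gi N14054 = N20439 := rfl
theorem L173711 : sm gf N20439 = N14851 := ded_48_1 (flp_i L126503) (flp_f L119744) L173703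
theorem L173714 : sm gh N20439 = N14117 := ded_54_1 (flp_i L120286) (flp_h L83094) (flp_i L82737) L119736 L173703
theorem L173726 : sm gd N14056 = N20441 := rfl
theorem L173728 : sm ga N20441 = N14076 := ded_12_1 (flp_d L119942) (flp_a L119760) L173726
theorem L173768 : sm gi N14059 = N20446 := rfl
theorem L173770 : sm ga N20446 = N14081 := ded_18_1 (flp_i L119979) (flp_a L119788) L173768
theorem L173787 : sm gj N14061 = N20448 := rfl
theorem L173789 : sm ga N20448 = N14083 := ded_16_1 (flp_j L119996) (flp_a L119805) L173787
theorem L173791 : sm gb N20448 = N20448 := ded_24_1 (flp_j L173787) L119807 L173787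
theorem L173792 : sm ge N20448 = N20448 := ded_42_1 (flp_j L173787) L119810 L173787
theorem L173793 : sm gf N20448 = N14062 := ded_46_1 (flp_j L119813) L119803 L173787
theorem L173795 : sm gi N20448 = N14124 := ded_53_2 (flp_j L120352) (flp_i L119808) L173787

end Cfsg.Agent.Helper28.FicA
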