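import Cfsg.Agent.Helper28.FicB18

/-! # The Fi₂₃ presentation, cosets of the subgroup generated by a, …, i: the coset enumeration, part 19 (helper28; generated) -/

set_option autoImplicit false

noncomputable section

namespace Cfsg.Agent.Helper28.FicA

open Cfsg.Agent.Helper28.CosetTable

theorem L173797 : sm gh N14061 = N20449 := rfl
theorem L173799 : sm ga N20449 = N14084 := ded_17_1 (flp_h L120005) (flp_a L119805) L173797
theorem L173803 : sm gf N20449 = N14063 := ded_47_1 (flp_h L119823) L119803 L173797
theorem L173805 : sm gg N20449 = N14860 := ded_50_1 (flp_h L126592) (flp_g L119811) L173797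
theorem L173807 : sm gh N14062 = N20450 := rfl
theorem L173809 : sm ga N20450 = N14085 := ded_17_1 (flp_h L120014) (flp_a L119815) L173807
theorem L173815 : sm gj N20450 = N14063 := ded_52_1 (flp_h L119823) L119813 L173807
theorem L173817 : sm gd N14063 = N20451 := rfl
theorem L173819 : sm ga N20451 = N14086 := ded_12_1 (flp_d L120023) (flp_a L119825) L173817
theorem L173835 : sm gc N14064 = N20453 := rfl
theorem L173837 : sm ga N20453 = N14088 := ded_11_1 (flp_c L120039) (flp_a L119834) L173835
theorem L173842 : sm gi N14064 = N20454 := rfl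
theorem L173844 : sm ga N20454 = N14089 := ded_18_1 (flp_i L120044) (flp_a L119834) L173842
theorem L173849 : sm gf N20454 = N14865 := ded_48_1 (flp_i L126635) (flp_f L119837) L173842
theorem L173863 : sm gf N14068 = N20456 := rfl
theorem L173865 : sm gb N20456 = N20456 := ded_22_1 (flp_f L173863) L119873 L173863
theorem L173866 : sm gd N20456 = N14070 := ded_35_1 (flp_f L119886) (flp_d L119874) L173863
theorem L173868 : sm gi N20456 = N14132 := ded_48_2 (flp_f L120426) (flp_i L119877) L173863
theorem L173870 : sm gg N20456 = N14867 := ded_45_2 (flp_f L126656) (flp_g L87389) (flp_f L82830) L119871 L173863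
theorem L173872 : sm gj N14068 = N20457 := rfl
theorem L173874 : sm gb N20457 = N20457 := ded_24_1 (flp_j L173872) L119873 L173872
theorem L173875 : sm gd N20457 = N14071 := ded_37_1 (flp_j L119896) (flp_d L119874) L173872
theorem L173877 : sm ge N20457 = N20457 := ded_42_1 (flp_j L173872) L119876 L173872
theorem L173878 : sm gi N20457 = N14133 := ded_53_2 (flp_j L120433) (flp_i L119877) L173872
theorem L173880 : sm gg N20457 = N20457 := ded_49_1 (flp_j L173872) (flp_g L119871) L82832 L119871 L173872
theorem L173881 : sm gh N14068 = N20458 := rfl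
theorem L173883 : sm gb N20458 = N20458 := ded_25_1 (flp_h L173881) L119873 L173881
theorem L173884 : sm ge N20458 = N20458 := ded_43_1 (flp_h L173881) L119876 L173881
theorem L173885 : sm gg N20458 = N14069 := ded_50_1 (flp_h L119879) L119871 L173881
theorem L173887 : sm gd N14069 = N20459 := rfl
theorem L173890 : sm gf N20459 = N14870 := ded_35_2 (flp_d L126680) (flp_f L119883) L173887
theorem L173893 : sm gh N20459 = N14073 := ded_38_2 (flp_d L119915) (flp_h L82845) L82827 L119879 L173887
theorem L173895 : sm gi N14069 = N20460 := rfl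
theorem L173897 : sm gb N20460 = N20460 := ded_26_1 (flp_i L173895) L119881 L173895
theorem L173898 : sm ge N20460 = N20460 := ded_44_1 (flp_i L173895) L119882 L173895
theorem L173899 : sm gf N20460 = N14871 := ded_48_1 (flp_i L126686) (flp_f L119883) L173895
theorem L173901 : sm gj N20460 = N20460 := ded_53_1 (flp_i L173895) L119885 L173895
theorem L173902 : sm gh N20460 = N14136 := ded_54_1 (flp_i L120454) (flp_h L83220) (flp_i L82833) L119879 L173895
theorem L173904 : sm gj N14070 = N20461 := rfl
theorem L173906 : sm gb N20461 = N20461 := ded_24_1 (flp_j L173904) L119888 L173904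
theorem L173907 : sm gc N20461 = N14083 := ded_31_1 (flp_j L119996) (flp_c L119889) L173904
theorem L173909 : sm ge N20461 = N20461 := ded_42_1 (flp_j L173904) L119893 L173904
theorem L173910 : sm gf N20461 = N14071 := ded_46_1 (flp_j L119896) L119886 L173904
theorem L173912 : sm gi N20461 = N14137 := ded_53_2 (flp_j L120461) (flp_i L119891) L173904
theorem L173914 : sm gh N14070 = N20462 := rfl
theorem L173917 : sm gc N20462 = N14084 := ded_32_1 (flp_h L120005) (flp_c L119889) L173914
theorem L173920 : sm gf N20462 = N14072 := ded_47_1 (flp_h L119906) L119886 L173914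
theorem L173924 : sm gh N14071 = N20463 := rfl
theorem L173927 : sm gc N20463 = N14085 := ded_32_1 (flp_h L120014) (flp_c L119899) L173924
theorem L173934 : sm gd N14072 = N20464 := rfl
theorem L173937 : sm gg N20464 = N14073 := ded_36_2 (flp_d L119915) (flp_g L119913) L173934
theorem L173939 : sm gi N14072 = N20465 := rfl
theorem L173948 : sm gh N20465 = N14141 := ded_54_1 (flp_i L120494) (flp_h L83243) (flp_i L82843) L119906 L173939
theorem L173950 : sm gc N14073 = N20466 := rfl
theorem L173955 : sm gd N20466 = N14088 := ded_27_2 (flp_c L120039) (flp_d L82931) (flp_c L82848) L119915 L173950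
theorem L173957 : sm ge N14073 = N20467 := rfl
theorem L173961 : sm gd N20467 = N14078 := ded_34_1 (flp_e L119959) (flp_d L82873) (flp_e L82850) L119915 L173957
theorem L173963 : sm gi N14073 = N20468 := rfl
theorem L173968 : sm gf N20468 = N14879 := ded_48_1 (flp_i L126749) (flp_f L119918) L173963
theorem L173971 : sm gd N14075 = N20469 := rfl
theorem L173976 : sm gj N20469 = N14076 := ded_37_2 (flp_d L119942) (flp_j L119940) L173971
theorem L173990 : sm ge N14076 = N20471 := rfl
theorem L173993 : sm gg N20471 = N14078 := ded_41_2 (flp_e L119959) (flp_g L119946) L173990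
theorem L173996 : sm gi N14076 = N20472 := rfl
theorem L174002 : sm gg N20472 = N14079 := ded_51_1 (flp_i L119964) (flp_g L119946) L173996
theorem L174004 : sm gf N14078 = N20473 := rfl
theorem L174017 : sm gh N14079 = N20475 := rfl
theorem L174026 : sm gg N14080 = N20476 := rfl
theorem L174033 : sm gi N14080 = N20477 := rfl
theorem L174038 : sm gf N20477 = N14081 := ded_48_1 (flp_i L119979) L119972 L174033
theorem L174041 : sm gh N14081 = N20478 := rfl
theorem L174050 : sm gg N14083 = N20479 := rfl
theorem L174052 : sm gb N20479 = N14091 := ded_23_1 (flp_g L120063) (flp_b L119998) L174050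
theorem L174054 : sm ge N20479 = N20479 := ded_41_1 (flp_g L174050) L120000 L174050
theorem L174055 : sm gi N20479 = N14151 := ded_51_2 (flp_g L120575) (flp_i L120003) L174050
theorem L174057 : sm gf N20479 = N20479 := ded_45_1 (flp_g L174050) L120001 L82922 (flp_f L120001) L174050
theorem L174058 : sm gj N20479 = N14888 := ded_49_2 (flp_g L126826) (flp_j L87506) (flp_g L82912) L119996 L174050
theorem L174060 : sm gh N14083 = N20480 := rfl
theorem L174062 : sm gb N20480 = N14092 := ded_25_1 (flp_h L120073) (flp_b L119998) L174060
theorem L174064 : sm ge N20480 = N20480 := ded_43_1 (flp_h L174060) L120000 L174060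
theorem L174065 : sm gf N20480 = N14085 := ded_47_1 (flp_h L120014) (flp_f L120001) L174060
theorem L174067 : sm gj N20480 = N14084 := ded_52_1 (flp_h L120005) L119996 L174060
theorem L174069 : sm gd N14084 = N20481 := rfl
theorem L174071 : sm gb N20481 = N14093 := ded_20_1 (flp_d L120082) (flp_b L120007) L174069
theorem L174073 : sm gf N20481 = N14086 := ded_35_2 (flp_d L120023) (flp_f L120010) L174069
theorem L174075 : sm gg N20481 = N14890 := ded_36_2 (flp_d L126843) (flp_g L120012) L174069
theorem L174077 : sm gi N14084 = N20482 := rfl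
theorem L174082 : sm gf N20482 = N14087 := ded_48_1 (flp_i L120029) (flp_f L120010) L174077
theorem L174086 : sm gh N20482 = N14154 := ded_54_1 (flp_i L120600) (flp_h L83324) (flp_i L82909) L120005 L174077
theorem L174088 : sm gd N14085 = N20483 := rfl
theorem L174090 : sm gb N20483 = N14095 := ded_20_1 (flp_d L120100) (flp_b L120016) L174088
theorem L174092 : sm gg N20483 = N20483 := ded_36_2 (flp_d L174088) L120020 L174088
theorem L174093 : sm gj N20483 = N14086 := ded_37_2 (flp_d L120023) (flp_j L120021) L174088
theorem L174095 : sm gi N14085 = N20484 := rfl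
theorem L174102 : sm gj N20484 = N14087 := ded_53_1 (flp_i L120029) (flp_j L120021) L174095
theorem L174104 : sm gh N20484 = N14156 := ded_54_1 (flp_i L120617) (flp_h L83333) (flp_i L82920) L120014 L174095
theorem L174106 : sm gc N14086 = N20485 := rfl
theorem L174108 : sm gg N20485 = N14088 := ded_30_2 (flp_c L120039) (flp_g L120027) L174106
theorem L174110 : sm gi N14086 = N20486 := rfl
theorem L174112 : sm gb N20486 = N14098 := ded_26_1 (flp_i L120123) (flp_b L120025) L174110
theorem L174114 : sm gd N20486 = N14087 := ded_39_1 (flp_i L120029) L120023 L174110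
theorem L174118 : sm gb N14088 = N20487 := rfl
theorem L174120 : sm gf N20487 = N14896 := ded_22_2 (flp_b L126891) (flp_f L120041) L174118
theorem L174122 : sm gj N20487 = N20487 := ded_24_2 (flp_b L174118) L120043 L174118
theorem L174123 : sm gc N20487 = N14099 := ded_19_2 (flp_b L120130) (flp_c L83008) (flp_b L82933) L120039 L174118
theorem L174125 : sm gi N14088 = N20488 := rfl
theorem L174127 : sm gc N20488 = N14089 := ded_33_1 (flp_i L120044) L120039 L174125
theorem L174132 : sm gh N14089 = N20489 := rfl
theorem L174134 : sm gb N20489 = N14101 := ded_25_1 (flp_h L120145) (flp_b L120046) L174132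
theorem L174139 : sm gd N20489 = N14161 := ded_38_1 (flp_h L120656) L83367 (flp_h L82947) (flp_d L120048) L174132
theorem L174141 : sm gh N14091 = N20490 := rfl
theorem L174143 : sm ga N20490 = N20490 := ded_17_1 (flp_h L174141) L120065 L174141
theorem L174144 : sm gc N20490 = N20490 := ded_32_1 (flp_h L174141) L120066 L174141
theorem L174145 : sm ge N20490 = N20490 := ded_43_1 (flp_h L174141) L120067 L174141
theorem L174146 : sm gf N20490 = N20490 := ded_47_1 (flp_h L174141) L120070 L174141
theorem L174147 : sm gg N20490 = N14092 := ded_50_1 (flp_h L120073) L120063 L174141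
theorem L174149 : sm gj N20490 = N14899 := ded_52_1 (flp_h L126911) (flp_j L120071) L174141
theorem L174151 : sm gd N14092 = N20491 := rfl
theorem L174153 : sm ga N20491 = N20491 := ded_12_1 (flp_d L174151) L120075 L174151
theorem L174154 : sm gf N20491 = N14095 := ded_35_2 (flp_d L120100) (flp_f L120078) L174151
theorem L174156 : sm gj N20491 = N14093 := ded_37_2 (flp_d L120082) (flp_j L120080) L174151
theorem L174158 : sm gi N14092 = N20492 := rfl
theorem L174160 : sm ga N20492 = N20492 := ded_18_1 (flp_i L174158) L120075 L174158
theorem L174161 : sm gc N20492 = N20492 := ded_33_1 (flp_i L174158) L120076 L174158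
theorem L174162 : sm ge N20492 = N20492 := ded_44_1 (flp_i L174158) L120077 L174158
theorem L174163 : sm gf N20492 = N14096 := ded_48_1 (flp_i L120106) (flp_f L120078) L174158
theorem L174165 : sm gj N20492 = N14094 := ded_53_1 (flp_i L120089) (flp_j L120080) L174158
theorem L174167 : sm gh N20492 = N14164 := ded_54_1 (flp_i L120681) (flp_h L83390) (flp_i L82973) L120073 L174158
theorem L174169 : sm gc N14093 = N20493 := rfl
theorem L174171 : sm ga N20493 = N20493 := ded_11_1 (flp_c L174169) L120084 L174169
theorem L174172 : sm gf N20493 = N14097 := ded_29_2 (flp_c L120117) (flp_f L120085) L174169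
theorem L174174 : sm gg N20493 = N14902 := ded_30_2 (flp_c L126937) (flp_g L120087) L174169
theorem L174176 : sm gd N20493 = N20493 := ded_27_2 (flp_c L174169) (flp_d L120082) L82978 L120082 L174169
theorem L174177 : sm ge N14093 = N20494 := rfl
theorem L174179 : sm ga N20494 = N20494 := ded_13_1 (flp_e L174177) L120084 L174177
theorem L174180 : sm gg N20494 = N14903 := ded_41_2 (flp_e L126943) (flp_g L120087) L174177
theorem L174182 : sm gd N20494 = N20494 := ded_34_1 (flp_e L174177) (flp_d L120082) L82979 L120082 L174177
theorem L174183 : sm gi N14093 = N20495 := rfl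
theorem L174185 : sm ga N20495 = N20495 := ded_18_1 (flp_i L174183) L120084 L174183
theorem L174186 : sm gd N20495 = N14094 := ded_39_1 (flp_i L120089) L120082 L174183
theorem L174188 : sm gf N20495 = N14098 := ded_48_1 (flp_i L120123) (flp_f L120085) L174183
theorem L174190 : sm gg N20495 = N14904 := ded_51_1 (flp_i L126948) (flp_g L120087) L174183
theorem L174192 : sm gc N14095 = N20496 := rfl
theorem L174194 : sm ga N20496 = N20496 := ded_11_1 (flp_c L174192) L120102 L174192
theorem L174195 : sm gg N20496 = N20496 := ded_30_2 (flp_c L174192) L120103 L174192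
theorem L174196 : sm gj N20496 = N14097 := ded_31_2 (flp_c L120117) (flp_j L120104) L174192
theorem L174198 : sm gd N20496 = N20496 := ded_27_2 (flp_c L174192) (flp_d L120100) L82987 L120100 L174192
theorem L174199 : sm gi N14095 = N20497 := rfl
theorem L174201 : sm ga N20497 = N20497 := ded_18_1 (flp_i L174199) L120102 L174199
theorem L174202 : sm gd N20497 = N14096 := ded_39_1 (flp_i L120106) L120100 L174199
theorem L174204 : sm gg N20497 = N20497 := ded_51_1 (flp_i L174199) L120103 L174199
theorem L174205 : sm gj N20497 = N14098 := ded_53_1 (flp_i L120123) (flp_j L120104) L174199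
theorem L174207 : sm gb N14097 = N20498 := rfl
theorem L174209 : sm gd N20498 = N20498 := ded_20_2 (flp_b L174207) L120122 L174207
theorem L174210 : sm gg N20498 = N14099 := ded_23_2 (flp_b L120130) (flp_g L120120) L174207
theorem L174212 : sm gi N14097 = N20499 := rfl
theorem L174214 : sm ga N20499 = N20499 := ded_18_1 (flp_i L174212) L120119 L174212
theorem L174215 : sm gc N20499 = N14098 := ded_33_1 (flp_i L120123) L120117 L174212
theorem L174217 : sm gd N20499 = N20499 := ded_39_1 (flp_i L174212) L120122 L174212
theorem L174218 : sm gg N20499 = N14100 := ded_51_1 (flp_i L120136) (flp_g L120120) L174212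
theorem L174220 : sm gh N14098 = N20500 := rfl
theorem L174222 : sm ga N20500 = N20500 := ded_17_1 (flp_h L174220) L120125 L174220
theorem L174223 : sm gg N20500 = N14101 := ded_50_1 (flp_h L120145) (flp_g L120128) L174220
theorem L174225 : sm gd N20500 = N14172 := ded_38_1 (flp_h L120746) L83441 (flp_h L83006) (flp_d L120126) L174220
theorem L174227 : sm ga N14099 = N20501 := rfl
theorem L174229 : sm gd N20501 = N20501 := ded_12_2 (flp_a L174227) L120132 L174227
theorem L174230 : sm gf N20501 = N14910 := ded_14_2 (flp_a L126995) (flp_f L120133) L174227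
theorem L174232 : sm gj N20501 = N20501 := ded_16_2 (flp_a L174227) L120135 L174227
theorem L174233 : sm gb N20501 = N20501 := ded_10_2 (flp_a L174227) (flp_b L120130) L83010 L120130 L174227
theorem L174234 : sm gi N14099 = N20502 := rfl
theorem L174236 : sm gb N20502 = N14100 := ded_26_1 (flp_i L120136) L120130 L174234
theorem L174238 : sm gd N20502 = N20502 := ded_39_1 (flp_i L174234) L120132 L174234
theorem L174239 : sm gf N20502 = N14911 := ded_48_1 (flp_i L127001) (flp_f L120133) L174234
theorem L174241 : sm gj N20502 = N20502 := ded_53_1 (flp_i L174234) L120135 L174234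
theorem L174242 : sm gh N14100 = N20503 := rfl
theorem L174244 : sm ga N20503 = N20503 := ded_17_1 (flp_h L174242) L120138 L174242
theorem L174245 : sm gc N20503 = N14101 := ded_32_1 (flp_h L120145) (flp_c L120139) L174242
theorem L174247 : sm gf N20503 = N14912 := ded_47_1 (flp_h L127008) (flp_f L120142) L174242
theorem L174249 : sm gj N20503 = N20503 := ded_52_1 (flp_h L174242) L120144 L174242
theorem L174250 : sm gc N14102 = N20504 := rfl
theorem L174258 : sm gg N14102 = N20505 := rfl
theorem L174261 : sm gb N20505 = N14111 := ded_23_1 (flp_g L120236) (flp_b L120156) L174258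
theorem L174263 : sm gd N20505 = N14103 := ded_36_1 (flp_g L120162) L120153 L174258
theorem L174266 : sm gh N14102 = N20506 := rfl
theorem L174269 : sm gb N20506 = N14112 := ded_25_1 (flp_h L120243) (flp_b L120156) L174266
theorem L174272 : sm gf N20506 = N14915 := ded_47_1 (flp_h L127031) (flp_f L120158) L174266
theorem L174275 : sm gf N14103 = N20507 := rfl
theorem L174278 : sm gb N20507 = N14113 := ded_22_1 (flp_f L120251) (flp_b L120165) L174275
theorem L174282 : sm gg N20507 = N14916 := ded_45_2 (flp_f L127039) (flp_g L87663) (flp_f L83040) L120162 L174275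
theorem L174284 : sm gj N14103 = N20508 := rfl
theorem L174287 : sm gb N20508 = N14114 := ded_24_1 (flp_j L120260) (flp_b L120165) L174284
theorem L174290 : sm ge N20508 = N14105 := ded_42_1 (flp_j L120181) (flp_e L120168) L174284
theorem L174293 : sm gh N14103 = N20509 := rfl
theorem L174296 : sm gb N20509 = N14115 := ded_25_1 (flp_h L120269) (flp_b L120165) L174293
theorem L174301 : sm gg N20509 = N14104 := ded_50_1 (flp_h L120170) L120162 L174293
theorem L174303 : sm gd N14104 = N20510 := rfl
theorem L174322 : sm gh N14105 = N20512 := rfl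
theorem L174330 : sm gj N20512 = N14106 := ded_52_1 (flp_h L120190) L120181 L174322
theorem L174332 : sm gd N14106 = N20513 := rfl
theorem L174338 : sm gg N20513 = N14107 := ded_36_2 (flp_d L120199) (flp_g L120197) L174332
theorem L174367 : sm gi N14107 = N20517 := rfl
theorem L174372 : sm gd N20517 = N14108 := ded_39_1 (flp_i L120208) L120199 L174367
theorem L174396 : sm gf N14111 = N20520 := rfl
theorem L174398 : sm ga N20520 = N14132 := ded_14_1 (flp_f L120426) (flp_a L120238) L174396
theorem L174400 : sm gd N20520 = N14113 := ded_35_1 (flp_f L120251) (flp_d L120240) L174396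
theorem L174402 : sm gg N20520 = N14923 := ded_45_2 (flp_f L127102) (flp_g L87710) (flp_f L83082) L120236 L174396
theorem L174404 : sm gj N14111 = N20521 := rfl
theorem L174406 : sm ga N20521 = N14133 := ded_16_1 (flp_j L120433) (flp_a L120238) L174404
theorem L174408 : sm gd N20521 = N14114 := ded_37_1 (flp_j L120260) (flp_d L120240) L174404
theorem L174410 : sm ge N20521 = N20521 := ded_42_1 (flp_j L174404) L120242 L174404
theorem L174411 : sm gg N20521 = N20521 := ded_49_1 (flp_j L174404) (flp_g L120236) L83084 L120236 L174404
theorem L174412 : sm gh N14111 = N20522 := rfl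
theorem L174414 : sm ga N20522 = N14134 := ded_17_1 (flp_h L120440) (flp_a L120238) L174412
theorem L174416 : sm ge N20522 = N20522 := ded_43_1 (flp_h L174412) L120242 L174412
theorem L174417 : sm gg N20522 = N14112 := ded_50_1 (flp_h L120243) L120236 L174412
theorem L174419 : sm gd N14112 = N20523 := rfl
theorem L174421 : sm ga N20523 = N14135 := ded_12_1 (flp_d L120446) (flp_a L120245) L174419
theorem L174426 : sm gh N20523 = N14116 := ded_38_2 (flp_d L120279) (flp_h L83094) L83078 L120243 L174419
theorem L174428 : sm gi N14112 = N20524 := rfl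
theorem L174430 : sm ga N20524 = N14136 := ded_18_1 (flp_i L120454) (flp_a L120245) L174428
theorem L174432 : sm ge N20524 = N20524 := ded_44_1 (flp_i L174428) L120247 L174428
theorem L174433 : sm gf N20524 = N14927 := ded_48_1 (flp_i L127133) (flp_f L120248) L174428
theorem L174435 : sm gj N20524 = N20524 := ded_53_1 (flp_i L174428) L120250 L174428
theorem L174436 : sm gj N14113 = N20525 := rfl
theorem L174438 : sm ga N20525 = N14137 := ded_16_1 (flp_j L120461) (flp_a L120253) L174436
theorem L174440 : sm gc N20525 = N14124 := ded_31_1 (flp_j L120352) (flp_c L120255) L174436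
theorem L174442 : sm ge N20525 = N20525 := ded_42_1 (flp_j L174436) L120257 L174436
theorem L174443 : sm gf N20525 = N14114 := ded_46_1 (flp_j L120260) L120251 L174436
theorem L174445 : sm gh N14113 = N20526 := rfl
theorem L174447 : sm ga N20526 = N14138 := ded_17_1 (flp_h L120469) (flp_a L120253) L174445
theorem L174449 : sm gc N20526 = N14125 := ded_32_1 (flp_h L120360) (flp_c L120255) L174445
theorem L174456 : sm gh N14114 = N20527 := rfl
theorem L174458 : sm ga N20527 = N14139 := ded_17_1 (flp_h L120479) (flp_a L120262) L174456
theorem L174460 : sm gc N20527 = N14126 := ded_32_1 (flp_h L120370) (flp_c L120264) L174456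
theorem L174467 : sm gd N14115 = N20528 := rfl
theorem L174469 : sm ga N20528 = N14140 := ded_12_1 (flp_d L120489) (flp_a L120271) L174467
theorem L174471 : sm gg N20528 = N14116 := ded_36_2 (flp_d L120279) (flp_g L120277) L174467
theorem L174483 : sm gc N14116 = N20530 := rfl
theorem L174485 : sm ga N20530 = N14142 := ded_11_1 (flp_c L120503) (flp_a L120281) L174483
theorem L174487 : sm gf N20530 = N14933 := ded_29_2 (flp_c L127186) (flp_f L120283) L174483
theorem L174490 : sm gd N20530 = N14129 := ded_27_2 (flp_c L120397) (flp_d L83176) (flp_c L83098) L120279 L174483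
theorem L174492 : sm ge N14116 = N20531 := rfl
theorem L174565 : sm gg N14124 = N20539 := rfl
theorem L174567 : sm ga N20539 = N14151 := ded_15_1 (flp_g L120575) (flp_a L120354) L174565
theorem L174569 : sm gb N20539 = N20539 := ded_23_1 (flp_g L174565) L120356 L174565
theorem L174570 : sm ge N20539 = N20539 := ded_41_1 (flp_g L174565) L120357 L174565
theorem L174571 : sm gf N20539 = N20539 := ded_45_1 (flp_g L174565) L120358 L83166 (flp_f L120358) L174565
theorem L174572 : sm gj N20539 = N14936 := ded_49_2 (flp_g L127213) (flp_j L87787) (flp_g L83157) L120352 L174565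
theorem L174574 : sm gh N14124 = N20540 := rfl
theorem L174576 : sm ga N20540 = N14152 := ded_17_1 (flp_h L120583) (flp_a L120354) L174574
theorem L174578 : sm gb N20540 = N20540 := ded_25_1 (flp_h L174574) L120356 L174574
theorem L174579 : sm ge N20540 = N20540 := ded_43_1 (flp_h L174574) L120357 L174574
theorem L174580 : sm gf N20540 = N14126 := ded_47_1 (flp_h L120370) (flp_f L120358) L174574
theorem L174582 : sm gj N20540 = N14125 := ded_52_1 (flp_h L120360) L120352 L174574
theorem L174584 : sm gd N14125 = N20541 := rfl
theorem L174586 : sm ga N20541 = N14153 := ded_12_1 (flp_d L120592) (flp_a L120362) L174584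
theorem L174588 : sm gb N20541 = N20541 := ded_20_1 (flp_d L174584) L120364 L174584
theorem L174589 : sm gf N20541 = N14127 := ded_35_2 (flp_d L120380) (flp_f L120366) L174584
theorem L174591 : sm gg N20541 = N14938 := ded_36_2 (flp_d L127230) (flp_g L120368) L174584
theorem L174593 : sm gi N14125 = N20542 := rfl
theorem L174603 : sm gd N14126 = N20543 := rfl
theorem L174605 : sm ga N20543 = N14155 := ded_12_1 (flp_d L120609) (flp_a L120372) L174603
theorem L174607 : sm gb N20543 = N20543 := ded_20_1 (flp_d L174603) L120374 L174603
theorem L174608 : sm gg N20543 = N20543 := ded_36_2 (flp_d L174603) L120377 L174603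
theorem L174609 : sm gj N20543 = N14127 := ded_37_2 (flp_d L120380) (flp_j L120378) L174603
theorem L174611 : sm ge N20543 = N20543 := ded_34_2 (flp_d L174603) L120375 L83204 (flp_e L120375) L174603
theorem L174612 : sm gi N14126 = N20544 := rfl
theorem L174622 : sm gc N14127 = N20545 := rfl
theorem L174624 : sm ga N20545 = N14157 := ded_11_1 (flp_c L120626) (flp_a L120382) L174622
theorem L174626 : sm ge N20545 = N20545 := ded_28_2 (flp_c L174622) L120387 L174622
theorem L174627 : sm gg N20545 = N14129 := ded_30_2 (flp_c L120397) (flp_g L120385) L174622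
theorem L174629 : sm gi N14127 = N20546 := rfl
theorem L174631 : sm ga N20546 = N14158 := ded_18_1 (flp_i L120631) (flp_a L120382) L174629
theorem L174639 : sm gb N14129 = N20547 := rfl
theorem L174641 : sm ge N20547 = N20547 := ded_21_2 (flp_b L174639) L120401 L174639
theorem L174642 : sm gf N20547 = N14944 := ded_22_2 (flp_b L127284) (flp_f L120402) L174639
theorem L174644 : sm gj N20547 = N20547 := ded_24_2 (flp_b L174639) L120404 L174639
theorem L174645 : sm gc N20547 = N20547 := ded_19_2 (flp_b L174639) (flp_c L120397) L83180 L120397 L174639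
theorem L174646 : sm gi N14129 = N20548 := rfl
theorem L174648 : sm ga N20548 = N14160 := ded_18_1 (flp_i L120648) (flp_a L120399) L174646
theorem L174665 : sm ge N14132 = N20550 := rfl
theorem L174667 : sm gb N20550 = N20550 := ded_21_1 (flp_e L174665) L120428 L174665
theorem L174668 : sm gg N20550 = N14947 := ded_41_2 (flp_e L127307) (flp_g L120431) L174665
theorem L174670 : sm gd N20550 = N20550 := ded_34_1 (flp_e L174665) L120429 L83232 (flp_d L120429) L174665
theorem L174671 : sm gf N20550 = N20550 := ded_40_2 (flp_e L174665) (flp_f L120426) L83219 L120426 L174665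
theorem L174672 : sm gj N14132 = N20551 := rfl
theorem L174674 : sm gb N20551 = N20551 := ded_24_1 (flp_j L174672) L120428 L174672
theorem L174675 : sm gd N20551 = N14137 := ded_37_1 (flp_j L120461) (flp_d L120429) L174672
theorem L174677 : sm gf N20551 = N14133 := ded_46_1 (flp_j L120433) L120426 L174672
theorem L174679 : sm gh N14132 = N20552 := rfl
theorem L174681 : sm gb N20552 = N20552 := ded_25_1 (flp_h L174679) L120428 L174679
theorem L174682 : sm gf N20552 = N14134 := ded_47_1 (flp_h L120440) L120426 L174679
theorem L174684 : sm gg N20552 = N14949 := ded_50_1 (flp_h L127320) (flp_g L120431) L174679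
theorem L174686 : sm gh N14133 = N20553 := rfl
theorem L174688 : sm gb N20553 = N20553 := ded_25_1 (flp_h L174686) L120435 L174686
theorem L174689 : sm ge N20553 = N20553 := ded_43_1 (flp_h L174686) L120438 L174686
theorem L174690 : sm gg N20553 = N20553 := ded_50_1 (flp_h L174686) L120439 L174686
theorem L174691 : sm gj N20553 = N14134 := ded_52_1 (flp_h L120440) L120433 L174686
theorem L174693 : sm gd N14134 = N20554 := rfl
theorem L174695 : sm gb N20554 = N20554 := ded_20_1 (flp_d L174693) L120442 L174693
theorem L174696 : sm gg N20554 = N14135 := ded_36_2 (flp_d L120446) (flp_g L120444) L174693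
theorem L174698 : sm gh N20554 = N14140 := ded_38_2 (flp_d L120489) (flp_h L83243) (flp_d L83217) L120440 L174693
theorem L174700 : sm gi N14134 = N20555 := rfl
theorem L174702 : sm gb N20555 = N20555 := ded_26_1 (flp_i L174700) L120442 L174700
theorem L174703 : sm ge N20555 = N20555 := ded_44_1 (flp_i L174700) L120443 L174700
theorem L174704 : sm gg N20555 = N14136 := ded_51_1 (flp_i L120454) (flp_g L120444) L174700
theorem L174706 : sm gc N14135 = N20556 := rfl
theorem L174708 : sm gf N20556 = N14953 := ded_29_2 (flp_c L127348) (flp_f L120449) L174706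
theorem L174710 : sm gj N20556 = N20556 := ded_31_2 (flp_c L174706) L120451 L174706
theorem L174711 : sm gh N20556 = N14142 := ded_32_2 (flp_c L120503) (flp_h L120452) L174706
theorem L174713 : sm ge N14135 = N20557 := rfl
theorem L174721 : sm gi N14135 = N20558 := rfl
theorem L174723 : sm gb N20558 = N20558 := ded_26_1 (flp_i L174721) L120448 L174721
theorem L174724 : sm gd N20558 = N14136 := ded_39_1 (flp_i L120454) L120446 L174721
theorem L174726 : sm gf N20558 = N14954 := ded_48_1 (flp_i L127354) (flp_f L120449) L174721
theorem L174728 : sm gj N20558 = N20558 := ded_53_1 (flp_i L174721) L120451 L174721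
theorem L174729 : sm gg N14137 = N20559 := rfl
theorem L174731 : sm gb N20559 = N20559 := ded_23_1 (flp_g L174729) L120463 L174729
theorem L174732 : sm gc N20559 = N14151 := ded_30_1 (flp_g L120575) (flp_c L120464) L174729
theorem L174734 : sm ge N20559 = N20559 := ded_41_1 (flp_g L174729) L120466 L174729
theorem L174735 : sm gf N20559 = N20559 := ded_45_1 (flp_g L174729) L120467 L83242 (flp_f L120467) L174729
theorem L174736 : sm gj N20559 = N14955 := ded_49_2 (flp_g L127361) (flp_j L87892) (flp_g L83233) L120461 L174729
theorem L174738 : sm gh N14137 = N20560 := rfl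
theorem L174740 : sm gb N20560 = N20560 := ded_25_1 (flp_h L174738) L120463 L174738
theorem L174741 : sm gc N20560 = N14152 := ded_32_1 (flp_h L120583) (flp_c L120464) L174738
theorem L174743 : sm ge N20560 = N20560 := ded_43_1 (flp_h L174738) L120466 L174738
theorem L174744 : sm gf N20560 = N14139 := ded_47_1 (flp_h L120479) (flp_f L120467) L174738
theorem L174746 : sm gj N20560 = N14138 := ded_52_1 (flp_h L120469) L120461 L174738
theorem L174748 : sm gd N14138 = N20561 := rfl
theorem L174750 : sm gb N20561 = N20561 := ded_20_1 (flp_d L174748) L120471 L174748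
theorem L174751 : sm gf N20561 = N14140 := ded_35_2 (flp_d L120489) (flp_f L120475) L174748
theorem L174753 : sm gg N20561 = N14957 := ded_36_2 (flp_d L127378) (flp_g L120477) L174748
theorem L174755 : sm gi N14138 = N20562 := rfl
theorem L174765 : sm gd N14139 = N20563 := rfl
theorem L174767 : sm gb N20563 = N20563 := ded_20_1 (flp_d L174765) L120481 L174765
theorem L174768 : sm gg N20563 = N20563 := ded_36_2 (flp_d L174765) L120486 L174765
theorem L174769 : sm gj N20563 = N14140 := ded_37_2 (flp_d L120489) (flp_j L120487) L174765
theorem L174771 : sm gi N14139 = N20564 := rfl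
theorem L174781 : sm gc N14140 = N20565 := rfl
theorem L174783 : sm gg N20565 = N14142 := ded_30_2 (flp_c L120503) (flp_g L120492) L174781
theorem L174785 : sm gd N20565 = N14157 := ded_27_2 (flp_c L120626) (flp_d L83342) (flp_c L83246) L120489 L174781
theorem L174787 : sm ge N14140 = N20566 := rfl
theorem L174792 : sm gd N20566 = N14147 := ded_34_1 (flp_e L120543) (flp_d L83277) (flp_e L83248) L120489 L174787
theorem L174794 : sm gi N14140 = N20567 := rfl
theorem L174797 : sm gd N20567 = N14141 := ded_39_1 (flp_i L120494) L120489 L174794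
theorem L174801 : sm gb N14142 = N20568 := rfl
theorem L174803 : sm gd N20568 = N14159 := ded_20_2 (flp_b L120640) (flp_d L120508) L174801
theorem L174805 : sm gf N20568 = N14963 := ded_22_2 (flp_b L127423) (flp_f L120505) L174801
theorem L174807 : sm gj N20568 = N20568 := ded_24_2 (flp_b L174801) L120507 L174801
theorem L174808 : sm gc N20568 = N20568 := ded_19_2 (flp_b L174801) (flp_c L120503) L83254 L120503 L174801
theorem L174816 : sm gi N14142 = N20570 := rfl
theorem L174818 : sm gc N20570 = N14144 := ded_33_1 (flp_i L120517) L120503 L174816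
theorem L174820 : sm gd N20570 = N14160 := ded_39_1 (flp_i L120648) (flp_d L120508) L174816
theorem L174840 : sm ge N14145 = N20573 := rfl
theorem L174845 : sm gj N20573 = N14147 := ded_42_2 (flp_e L120543) (flp_j L120530) L174840
theorem L174848 : sm gi N14145 = N20574 := rfl
theorem L174852 : sm gd N20574 = N14146 := ded_39_1 (flp_i L120534) L120525 L174848
theorem L174858 : sm gf N14147 = N20575 := rfl
theorem L174865 : sm gi N14147 = N20576 := rfl
theorem L174890 : sm gh N14151 = N20579 := rfl
theorem L174892 : sm gb N20579 = N14162 := ded_25_1 (flp_h L120664) (flp_b L120577) L174890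
theorem L174894 : sm ge N20579 = N20579 := ded_43_1 (flp_h L174890) L120579 L174890
theorem L174895 : sm gf N20579 = N20579 := ded_47_1 (flp_h L174890) L120580 L174890
theorem L174896 : sm gg N20579 = N14152 := ded_50_1 (flp_h L120583) L120575 L174890
theorem L174898 : sm gj N20579 = N14966 := ded_52_1 (flp_h L127443) (flp_j L120581) L174890
theorem L174900 : sm gd N14152 = N20580 := rfl
theorem L174902 : sm gb N20580 = N14163 := ded_20_1 (flp_d L120674) (flp_b L120585) L174900
theorem L174904 : sm gf N20580 = N14155 := ded_35_2 (flp_d L120609) (flp_f L120588) L174900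
theorem L174906 : sm gj N20580 = N14153 := ded_37_2 (flp_d L120592) (flp_j L120590) L174900
theorem L174908 : sm gi N14152 = N20581 := rfl
theorem L174910 : sm gb N20581 = N14164 := ded_26_1 (flp_i L120681) (flp_b L120585) L174908
theorem L174912 : sm ge N20581 = N20581 := ded_44_1 (flp_i L174908) L120587 L174908
theorem L174913 : sm gf N20581 = N14156 := ded_48_1 (flp_i L120617) (flp_f L120588) L174908
theorem L174915 : sm gj N20581 = N14154 := ded_53_1 (flp_i L120600) (flp_j L120590) L174908
theorem L174917 : sm gc N14153 = N20582 := rfl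
theorem L174919 : sm gf N20582 = N14157 := ded_29_2 (flp_c L120626) (flp_f L120596) L174917
theorem L174921 : sm gg N20582 = N14969 := ded_30_2 (flp_c L127468) (flp_g L120598) L174917
theorem L174923 : sm ge N14153 = N20583 := rfl
theorem L174925 : sm gb N20583 = N14166 := ded_21_1 (flp_e L120698) (flp_b L120594) L174923
theorem L174927 : sm gg N20583 = N14970 := ded_41_2 (flp_e L127472) (flp_g L120598) L174923
theorem L174929 : sm gd N20583 = N20583 := ded_34_1 (flp_e L174923) (flp_d L120592) L83328 L120592 L174923
theorem L174930 : sm gf N20583 = N20583 := ded_40_2 (flp_e L174923) L120596 L83348 (flp_f L120596) L174923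
theorem L174931 : sm gi N14153 = N20584 := rfl
theorem L174933 : sm gb N20584 = N14167 := ded_26_1 (flp_i L120705) (flp_b L120594) L174931
theorem L174935 : sm gd N20584 = N14154 := ded_39_1 (flp_i L120600) L120592 L174931
theorem L174937 : sm gf N20584 = N14158 := ded_48_1 (flp_i L120631) (flp_f L120596) L174931
theorem L174939 : sm gg N20584 = N14971 := ded_51_1 (flp_i L127479) (flp_g L120598) L174931
theorem L174941 : sm gc N14155 = N20585 := rfl
theorem L174943 : sm ge N20585 = N20585 := ded_28_2 (flp_c L174941) L120616 L174941
theorem L174944 : sm gg N20585 = N20585 := ded_30_2 (flp_c L174941) L120613 L174941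
theorem L174945 : sm gj N20585 = N14157 := ded_31_2 (flp_c L120626) (flp_j L120614) L174941
theorem L174947 : sm gi N14155 = N20586 := rfl
theorem L174949 : sm gb N20586 = N14169 := ded_26_1 (flp_i L120722) (flp_b L120611) L174947
theorem L174951 : sm gd N20586 = N14156 := ded_39_1 (flp_i L120617) L120609 L174947
theorem L174953 : sm ge N20586 = N20586 := ded_44_1 (flp_i L174947) L120616 L174947
theorem L174954 : sm gg N20586 = N20586 := ded_51_1 (flp_i L174947) L120613 L174947
theorem L174955 : sm gj N20586 = N14158 := ded_53_1 (flp_i L120631) (flp_j L120614) L174947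
theorem L174957 : sm gb N14157 = N20587 := rfl
theorem L174959 : sm ge N20587 = N20587 := ded_21_2 (flp_b L174957) L120628 L174957
theorem L174960 : sm gg N20587 = N14159 := ded_23_2 (flp_b L120640) (flp_g L120629) L174957
theorem L174962 : sm gc N20587 = N14170 := ded_19_2 (flp_b L120731) (flp_c L83431) (flp_b L83344) L120626 L174957
theorem L174964 : sm gi N14157 = N20588 := rfl
theorem L174966 : sm gc N20588 = N14158 := ded_33_1 (flp_i L120631) L120626 L174964
theorem L174968 : sm ge N20588 = N20588 := ded_44_1 (flp_i L174964) L120628 L174964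
theorem L174969 : sm gg N20588 = N14160 := ded_51_1 (flp_i L120648) (flp_g L120629) L174964
theorem L174971 : sm gh N14158 = N20589 := rfl
theorem L174973 : sm gb N20589 = N14172 := ded_25_1 (flp_h L120746) (flp_b L120633) L174971
theorem L174975 : sm ge N20589 = N20589 := ded_43_1 (flp_h L174971) L120637 L174971
theorem L174976 : sm gg N20589 = N14161 := ded_50_1 (flp_h L120656) (flp_g L120638) L174971
theorem L174978 : sm ga N14159 = N20590 := rfl
theorem L174980 : sm gc N20590 = N14173 := ded_11_2 (flp_a L120752) (flp_c L120646) L174978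
theorem L174982 : sm ge N20590 = N20590 := ded_13_2 (flp_a L174978) L120642 L174978
theorem L174983 : sm gf N20590 = N14977 := ded_14_2 (flp_a L127529) (flp_f L120643) L174978
theorem L174985 : sm gj N20590 = N20590 := ded_16_2 (flp_a L174978) L120645 L174978
theorem L174986 : sm gi N14159 = N20591 := rfl
theorem L174988 : sm gb N20591 = N14160 := ded_26_1 (flp_i L120648) L120640 L174986
theorem L174990 : sm gc N20591 = N14174 := ded_33_1 (flp_i L120760) (flp_c L120646) L174986
theorem L174992 : sm ge N20591 = N20591 := ded_44_1 (flp_i L174986) L120642 L174986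
theorem L174993 : sm gf N20591 = N14978 := ded_48_1 (flp_i L127536) (flp_f L120643) L174986
theorem L174995 : sm gj N20591 = N20591 := ded_53_1 (flp_i L174986) L120645 L174986
theorem L174996 : sm gh N14160 = N20592 := rfl
theorem L174998 : sm gc N20592 = N14161 := ded_32_1 (flp_h L120656) (flp_c L120650) L174996
theorem L175000 : sm ge N20592 = N20592 := ded_43_1 (flp_h L174996) L120652 L174996
theorem L175001 : sm gf N20592 = N14979 := ded_47_1 (flp_h L127545) (flp_f L120653) L174996
theorem L175003 : sm gj N20592 = N20592 := ded_52_1 (flp_h L174996) L120655 L174996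
theorem L175004 : sm gd N14162 = N20593 := rfl
theorem L175006 : sm ga N20593 = N20593 := ded_12_1 (flp_d L175004) L120666 L175004
theorem L175007 : sm gf N20593 = N20593 := ded_35_2 (flp_d L175004) L120669 L175004
theorem L175008 : sm gg N20593 = N14163 := ded_36_2 (flp_d L120674) (flp_g L120670) L175004
theorem L175010 : sm gj N20593 = N14980 := ded_37_2 (flp_d L127552) (flp_j L120672) L175004
theorem L175012 : sm gi N14162 = N20594 := rfl
theorem L175014 : sm ga N20594 = N20594 := ded_18_1 (flp_i L175012) L120666 L175012
theorem L175015 : sm gc N20594 = N20594 := ded_33_1 (flp_i L175012) L120667 L175012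
theorem L175016 : sm ge N20594 = N20594 := ded_44_1 (flp_i L175012) L120668 L175012
theorem L175017 : sm gf N20594 = N20594 := ded_48_1 (flp_i L175012) L120669 L175012
theorem L175018 : sm gg N20594 = N14164 := ded_51_1 (flp_i L120681) (flp_g L120670) L175012
theorem L175020 : sm gj N20594 = N14981 := ded_53_1 (flp_i L127558) (flp_j L120672) L175012
theorem L175022 : sm gc N14163 = N20595 := rfl
theorem L175024 : sm ga N20595 = N20595 := ded_11_1 (flp_c L175022) L120676 L175022
theorem L175025 : sm gf N20595 = N14168 := ded_29_2 (flp_c L120714) (flp_f L120677) L175022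
theorem L175027 : sm gj N20595 = N14165 := ded_31_2 (flp_c L120690) (flp_j L120679) L175022
theorem L175029 : sm gd N20595 = N20595 := ded_27_2 (flp_c L175022) (flp_d L120674) L83393 L120674 L175022
theorem L175030 : sm ge N14163 = N20596 := rfl
theorem L175032 : sm ga N20596 = N20596 := ded_13_1 (flp_e L175030) L120676 L175030
theorem L175033 : sm gj N20596 = N14166 := ded_42_2 (flp_e L120698) (flp_j L120679) L175030
theorem L175035 : sm gd N20596 = N20596 := ded_34_1 (flp_e L175030) (flp_d L120674) L83394 L120674 L175030
theorem L175036 : sm gf N20596 = N20596 := ded_40_2 (flp_e L175030) L120677 L83421 (flp_f L120677) L175030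
theorem L175037 : sm gi N14163 = N20597 := rfl
theorem L175039 : sm ga N20597 = N20597 := ded_18_1 (flp_i L175037) L120676 L175037
theorem L175040 : sm gd N20597 = N14164 := ded_39_1 (flp_i L120681) L120674 L175037
theorem L175042 : sm gf N20597 = N14169 := ded_48_1 (flp_i L120722) (flp_f L120677) L175037
theorem L175044 : sm gj N20597 = N14167 := ded_53_1 (flp_i L120705) (flp_j L120679) L175037
theorem L175046 : sm gb N14165 = N20598 := rfl
theorem L175048 : sm gd N20598 = N20598 := ded_20_2 (flp_b L175046) L120697 L175046
theorem L175049 : sm gf N20598 = N14170 := ded_22_2 (flp_b L120731) (flp_f L120693) L175046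
theorem L175051 : sm gg N20598 = N14985 := ded_23_2 (flp_b L127591) (flp_g L120695) L175046
theorem L175053 : sm ge N14165 = N20599 := rfl
theorem L175055 : sm ga N20599 = N20599 := ded_13_1 (flp_e L175053) L120692 L175053
theorem L175056 : sm gc N20599 = N14166 := ded_28_1 (flp_e L120698) L120690 L175053
theorem L175058 : sm gg N20599 = N14986 := ded_41_2 (flp_e L127596) (flp_g L120695) L175053
theorem L175060 : sm gf N20599 = N20599 := ded_40_2 (flp_e L175053) L120693 L83434 (flp_f L120693) L175053
theorem L175061 : sm gi N14165 = N20600 := rfl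
theorem L175063 : sm ga N20600 = N20600 := ded_18_1 (flp_i L175061) L120692 L175061
theorem L175064 : sm gc N20600 = N14167 := ded_33_1 (flp_i L120705) L120690 L175061
theorem L175066 : sm gd N20600 = N20600 := ded_39_1 (flp_i L175061) L120697 L175061
theorem L175067 : sm gf N20600 = N14171 := ded_48_1 (flp_i L120737) (flp_f L120693) L175061
theorem L175069 : sm gg N20600 = N14987 := ded_51_1 (flp_i L127603) (flp_g L120695) L175061
theorem L175071 : sm gi N14166 = N20601 := rfl
theorem L175073 : sm ga N20601 = N20601 := ded_18_1 (flp_i L175071) L120700 L175071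
theorem L175074 : sm gd N20601 = N20601 := ded_39_1 (flp_i L175071) L120703 L175071
theorem L175075 : sm ge N20601 = N14167 := ded_44_1 (flp_i L120705) L120698 L175071
theorem L175077 : sm gf N20601 = N20601 := ded_48_1 (flp_i L175071) L120704 L175071
theorem L175078 : sm gg N20601 = N14988 := ded_51_1 (flp_i L127611) (flp_g L120701) L175071
theorem L175080 : sm gh N14167 = N20602 := rfl
theorem L175082 : sm ga N20602 = N20602 := ded_17_1 (flp_h L175080) L120707 L175080
theorem L175083 : sm gf N20602 = N14172 := ded_47_1 (flp_h L120746) (flp_f L120710) L175080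
theorem L175085 : sm gg N20602 = N14989 := ded_50_1 (flp_h L127619) (flp_g L120712) L175080
theorem L175087 : sm gb N14168 = N20603 := rfl
theorem L175089 : sm gd N20603 = N20603 := ded_20_2 (flp_b L175087) L120721 L175087
theorem L175090 : sm ge N20603 = N20603 := ded_21_2 (flp_b L175087) L120717 L175087
theorem L175091 : sm gg N20603 = N20603 := ded_23_2 (flp_b L175087) L120718 L175087
theorem L175092 : sm gj N20603 = N14170 := ded_24_2 (flp_b L120731) (flp_j L120719) L175087
theorem L175094 : sm gi N14168 = N20604 := rfl
theorem L175096 : sm ga N20604 = N20604 := ded_18_1 (flp_i L175094) L120716 L175094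
theorem L175097 : sm gc N20604 = N14169 := ded_33_1 (flp_i L120722) L120714 L175094
theorem L175099 : sm gd N20604 = N20604 := ded_39_1 (flp_i L175094) L120721 L175094
theorem L175100 : sm ge N20604 = N20604 := ded_44_1 (flp_i L175094) L120717 L175094
theorem L175101 : sm gg N20604 = N20604 := ded_51_1 (flp_i L175094) L120718 L175094
theorem L175102 : sm gj N20604 = N14171 := ded_53_1 (flp_i L120737) (flp_j L120719) L175094
theorem L175104 : sm gh N14169 = N20605 := rfl
theorem L175106 : sm ga N20605 = N20605 := ded_17_1 (flp_h L175104) L120724 L175104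
theorem L175107 : sm ge N20605 = N20605 := ded_43_1 (flp_h L175104) L120727 L175104
theorem L175108 : sm gg N20605 = N20605 := ded_50_1 (flp_h L175104) L120728 L175104
theorem L175109 : sm gj N20605 = N14172 := ded_52_1 (flp_h L120746) (flp_j L120729) L175104
theorem L175111 : sm ga N14170 = N20606 := rfl
theorem L175113 : sm gd N20606 = N20606 := ded_12_2 (flp_a L175111) L120733 L175111
theorem L175114 : sm ge N20606 = N20606 := ded_13_2 (flp_a L175111) L120734 L175111
theorem L175115 : sm gg N20606 = N14173 := ded_15_2 (flp_a L120752) (flp_g L120735) L175111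
theorem L175117 : sm gb N20606 = N20606 := ded_10_2 (flp_a L175111) (flp_b L120731) L83433 L120731 L175111
theorem L175118 : sm gi N14170 = N20607 := rfl
theorem L175120 : sm gb N20607 = N14171 := ded_26_1 (flp_i L120737) L120731 L175118
theorem L175122 : sm gd N20607 = N20607 := ded_39_1 (flp_i L175118) L120733 L175118
theorem L175123 : sm ge N20607 = N20607 := ded_44_1 (flp_i L175118) L120734 L175118
theorem L175124 : sm gg N20607 = N14174 := ded_51_1 (flp_i L120760) (flp_g L120735) L175118
theorem L175126 : sm gh N14171 = N20608 := rfl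
theorem L175128 : sm ga N20608 = N20608 := ded_17_1 (flp_h L175126) L120739 L175126
theorem L175129 : sm gc N20608 = N14172 := ded_32_1 (flp_h L120746) (flp_c L120740) L175126
theorem L175131 : sm ge N20608 = N20608 := ded_43_1 (flp_h L175126) L120743 L175126
theorem L175132 : sm gg N20608 = N14175 := ded_50_1 (flp_h L120769) (flp_g L120744) L175126
theorem L175134 : sm gi N14173 = N20609 := rfl
theorem L175136 : sm ga N20609 = N14174 := ded_18_1 (flp_i L120760) L120752 L175134
theorem L175138 : sm gb N20609 = N20609 := ded_26_1 (flp_i L175134) L120759 L175134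
theorem L175139 : sm gd N20609 = N20609 := ded_39_1 (flp_i L175134) L120754 L175134
theorem L175140 : sm ge N20609 = N20609 := ded_44_1 (flp_i L175134) L120755 L175134
theorem L175141 : sm gf N20609 = N14996 := ded_48_1 (flp_i L127677) (flp_f L120756) L175134
theorem L175143 : sm gj N20609 = N20609 := ded_53_1 (flp_i L175134) L120758 L175134
theorem L175144 : sm gh N14174 = N20610 := rfl
theorem L175146 : sm gb N20610 = N14175 := ded_25_1 (flp_h L120769) (flp_b L120762) L175144
theorem L175148 : sm ge N20610 = N20610 := ded_43_1 (flp_h L175144) L120765 L175144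
theorem L175149 : sm gf N20610 = N14997 := ded_47_1 (flp_h L127686) (flp_f L120766) L175144
theorem L175151 : sm gj N20610 = N20610 := ded_52_1 (flp_h L175144) L120768 L175144
theorem L175152 : sm gd N14175 = N20611 := rfl
theorem L175154 : sm ga N20611 = N20611 := ded_12_1 (flp_d L175152) L120771 L175152
theorem L175155 : sm gf N20611 = N14998 := ded_35_2 (flp_d L127693) (flp_f L120775) L175152
theorem L175157 : sm gj N20611 = N20611 := ded_37_2 (flp_d L175152) L120777 L175152
theorem L175158 : sm gh N20611 = N20611 := ded_38_2 (flp_d L175152) (flp_h L120769) L83458 L120769 L175152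
theorem L175170 : sm ge N14176 = N20613 := rfl
theorem L175173 : sm gc N20613 = N14177 := ded_28_1 (flp_e L120788) L120778 L175170
theorem L175179 : sm gf N14177 = N20614 := rfl
theorem L175182 : sm gb N20614 = N15350 := ded_22_1 (flp_f L130698) (flp_b L120791) L175179
theorem L175190 : sm ga N14178 = N20615 := rfl
theorem L175192 : sm gc N20615 = N15351 := ded_11_2 (flp_a L130708) (flp_c L120806) L175190
theorem L175195 : sm gg N20615 = N14204 := ded_15_2 (flp_a L121042) (flp_g L120801) L175190
theorem L175201 : sm ge N14178 = N20616 := rfl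
theorem L175205 : sm gc N20616 = N15352 := ded_28_1 (flp_e L130717) (flp_c L120806) L175201
theorem L175207 : sm gg N20616 = N14205 := ded_41_2 (flp_e L121053) (flp_g L120801) L175201
theorem L175212 : sm gd N14179 = N20617 := rfl
theorem L175215 : sm gg N20617 = N14206 := ded_36_2 (flp_d L121063) (flp_g L120813) L175212
theorem L175219 : sm gc N20617 = N14183 := ded_27_1 (flp_d L120853) L83517 (flp_d L83500) (flp_c L120811) L175212
theorem L175222 : sm gf N14179 = N20618 := rfl
theorem L175225 : sm gc N20618 = N14180 := ded_29_1 (flp_f L120818) (flp_c L120811) L175222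
theorem L175228 : sm gh N20618 = N20618 := ded_47_2 (flp_f L175222) L120816 L175222
theorem L175241 : sm ge N14181 = N20620 := rfl
theorem L175243 : sm ga N20620 = N14182 := ded_13_1 (flp_e L120841) L120828 L175241
theorem L175246 : sm gc N20620 = N15356 := ded_28_1 (flp_e L130755) (flp_c L120830) L175241
theorem L175248 : sm gg N20620 = N14209 := ded_41_2 (flp_e L121092) (flp_g L120834) L175241
theorem L175251 : sm gh N20620 = N14186 := ded_43_2 (flp_e L120882) (flp_h L120837) L175241
theorem L175254 : sm gd N14182 = N20621 := rfl
theorem L175256 : sm gb N20621 = N14183 := ded_20_1 (flp_d L120853) (flp_b L120843) L175254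
theorem L175258 : sm gg N20621 = N14210 := ded_36_2 (flp_d L121104) (flp_g L120847) L175254
theorem L175263 : sm gf N14182 = N20622 := rfl
theorem L175265 : sm gb N20622 = N14184 := ded_22_1 (flp_f L120861) (flp_b L120843) L175263
theorem L175270 : sm gh N20622 = N14188 := ded_47_2 (flp_f L120903) (flp_h L120850) L175263
theorem L175274 : sm gf N14183 = N20623 := rfl
theorem L175277 : sm gd N20623 = N14184 := ded_35_1 (flp_f L120861) L120853 L175274
theorem L175281 : sm gh N14183 = N20624 := rfl
theorem L175288 : sm gd N20624 = N14190 := ded_38_1 (flp_h L120922) (flp_d L83557) (flp_h L83522) L120853 L175281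
theorem L175313 : sm gd N14186 = N20627 := rfl
theorem L175315 : sm ga N20627 = N14187 := ded_12_1 (flp_d L120894) (flp_a L120884) L175313
theorem L175318 : sm gg N20627 = N14216 := ded_36_2 (flp_d L121163) (flp_g L120889) L175313
theorem L175321 : sm gi N20627 = N14193 := ded_39_2 (flp_d L120951) (flp_i L120892) L175313
theorem L175323 : sm gf N14186 = N20628 := rfl
theorem L175331 : sm gi N20628 = N14194 := ded_48_2 (flp_f L120959) (flp_i L120892) L175323
theorem L175334 : sm gc N14187 = N20629 := rfl
theorem L175336 : sm gg N20629 = N14218 := ded_30_2 (flp_c L121185) (flp_g L120898) L175334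
theorem L175338 : sm gj N20629 = N20629 := ded_31_2 (flp_c L175334) L120900 L175334
theorem L175339 : sm gi N20629 = N14195 := ded_33_2 (flp_c L120969) (flp_i L120901) L175334
theorem L175341 : sm gb N20629 = N20629 := ded_19_1 (flp_c L175334) L120896 L83565 (flp_b L120896) L175334
theorem L175344 : sm gf N14187 = N20630 := rfl
theorem L175346 : sm gb N20630 = N14189 := ded_22_1 (flp_f L120913) (flp_b L120896) L175344
theorem L175348 : sm gd N20630 = N14188 := ded_35_1 (flp_f L120903) L120894 L175344
theorem L175351 : sm gi N20630 = N14196 := ded_48_2 (flp_f L120977) (flp_i L120901) L175344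
theorem L175353 : sm gh N14187 = N20631 := rfl
theorem L175357 : sm gg N20631 = N14220 := ded_50_1 (flp_h L121204) (flp_g L120898) L175353
theorem L175360 : sm gg N14188 = N20632 := rfl
theorem L175362 : sm gb N20632 = N14191 := ded_23_1 (flp_g L120929) (flp_b L120905) L175360
theorem L175364 : sm gc N20632 = N15368 := ded_30_1 (flp_g L130872) (flp_c L120907) L175360
theorem L175367 : sm gi N20632 = N14198 := ded_51_2 (flp_g L120992) (flp_i L120910) L175360
theorem L175369 : sm gf N20632 = N14221 := ded_45_1 (flp_g L121210) (flp_f L83751) (flp_g L83552) L120903 L175360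
theorem L175371 : sm ge N14189 = N20633 := rfl
theorem L175376 : sm gi N20633 = N14199 := ded_44_2 (flp_e L121002) (flp_i L120920) L175371
theorem L175379 : sm gg N14189 = N20634 := rfl
theorem L175387 : sm gf N20634 = N14223 := ded_45_1 (flp_g L121230) (flp_f L83763) (flp_g L83560) L120913 L175379
theorem L175389 : sm gh N14189 = N20635 := rfl
theorem L175396 : sm gi N14190 = N20636 := rfl
theorem L175400 : sm gg N20636 = N14225 := ded_51_1 (flp_i L121246) (flp_g L120926) L175396
theorem L175416 : sm gc N14193 = N20638 := rfl
theorem L175418 : sm ga N20638 = N14195 := ded_11_1 (flp_c L120969) (flp_a L120953) L175416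
theorem L175420 : sm gg N20638 = N14227 := ded_30_2 (flp_c L121265) (flp_g L120956) L175416
theorem L175425 : sm gf N14193 = N20639 := rfl
theorem L175427 : sm ga N20639 = N14196 := ded_14_1 (flp_f L120977) (flp_a L120953) L175425
theorem L175430 : sm gd N20639 = N14194 := ded_35_1 (flp_f L120959) L120951 L175425
theorem L175433 : sm gh N14193 = N20640 := rfl
theorem L175435 : sm ga N20640 = N14197 := ded_17_1 (flp_h L120984) (flp_a L120953) L175433
theorem L175438 : sm gg N20640 = N14229 := ded_50_1 (flp_h L121282) (flp_g L120956) L175433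
theorem L175442 : sm gg N14194 = N20641 := rfl
theorem L175447 : sm gc N20641 = N15377 := ded_30_1 (flp_g L130961) (flp_c L120964) L175442
theorem L175451 : sm gf N20641 = N14230 := ded_45_1 (flp_g L121290) (flp_f L83807) (flp_g L83593) L120959 L175442
theorem L175453 : sm gf N14195 = N20642 := rfl
theorem L175456 : sm gc N20642 = N14196 := ded_29_1 (flp_f L120977) L120969 L175453
theorem L175458 : sm gd N20642 = N15378 := ded_35_1 (flp_f L130971) (flp_d L120975) L175453
theorem L175461 : sm gh N14195 = N20643 := rfl
theorem L175464 : sm gc N20643 = N14197 := ded_32_1 (flp_h L120984) L120969 L175461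
theorem L175466 : sm gg N20643 = N14232 := ded_50_1 (flp_h L121309) (flp_g L120971) L175461
theorem L175469 : sm ge N14196 = N20644 := rfl
theorem L175471 : sm gb N20644 = N14199 := ded_21_1 (flp_e L121002) (flp_b L120979) L175469
theorem L175473 : sm gj N20644 = N20644 := ded_42_2 (flp_e L175469) L120983 L175469
theorem L175474 : sm gd N20644 = N20644 := ded_34_1 (flp_e L175469) L120981 L83612 (flp_d L120981) L175469
theorem L175475 : sm gg N14196 = N20645 := rfl
theorem L175477 : sm gb N20645 = N14200 := ded_23_1 (flp_g L121008) (flp_b L120979) L175475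
theorem L175479 : sm gd N20645 = N14198 := ded_36_1 (flp_g L120992) (flp_d L120981) L175475
theorem L175481 : sm gf N20645 = N14234 := ded_45_1 (flp_g L121324) (flp_f L83826) (flp_g L83601) L120977 L175475
theorem L175483 : sm gh N14196 = N20646 := rfl
theorem L175485 : sm gb N20646 = N14201 := ded_25_1 (flp_h L121016) (flp_b L120979) L175483
theorem L175487 : sm gf N20646 = N14197 := ded_47_1 (flp_h L120984) L120977 L175483
theorem L175489 : sm gj N20646 = N20646 := ded_52_1 (flp_h L175483) L120983 L175483
theorem L175490 : sm gd N20646 = N20646 := ded_38_1 (flp_h L175483) L120981 L83611 (flp_d L120981) L175483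
theorem L175491 : sm gi N14197 = N20647 := rfl
theorem L175496 : sm gg N20647 = N14236 := ded_51_1 (flp_i L121339) (flp_g L120988) L175491
theorem L175499 : sm gj N14198 = N20648 := rfl
theorem L175501 : sm gb N20648 = N14203 := ded_24_1 (flp_j L121032) (flp_b L120994) L175499
theorem L175506 : sm gf N20648 = N14237 := ded_46_1 (flp_j L121346) (flp_f L121000) L175499
theorem L175510 : sm gg N14199 = N20649 := rfl
theorem L175515 : sm ge N20649 = N14200 := ded_41_1 (flp_g L121008) L121002 L175510
theorem L175517 : sm gh N14199 = N20650 := rfl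
theorem L175521 : sm ge N20650 = N14201 := ded_43_1 (flp_h L121016) L121002 L175517
theorem L175524 : sm gj N14200 = N20651 := rfl
theorem L175530 : sm gf N20651 = N14240 := ded_46_1 (flp_j L121373) (flp_f L121014) L175524
theorem L175533 : sm gh N14200 = N20652 := rfl
theorem L175539 : sm gg N20652 = N14201 := ded_50_1 (flp_h L121016) L121008 L175533
theorem L175542 : sm gi N14201 = N20653 := rfl
theorem L175550 : sm ge N14204 = N20654 := rfl
theorem L175552 : sm ga N20654 = N14205 := ded_13_1 (flp_e L121053) L121042 L175550
theorem L175557 : sm gj N20654 = N14243 := ded_42_2 (flp_e L121397) (flp_j L121048) L175550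
theorem L175561 : sm gd N14205 = N20655 := rfl
theorem L175565 : sm gj N20655 = N14244 := ded_37_2 (flp_d L121407) (flp_j L121059) L175561
theorem L175580 : sm gf N14206 = N20657 := rfl
theorem L175582 : sm ga N20657 = N20657 := ded_14_1 (flp_f L175580) L121065 L175580
theorem L175587 : sm gj N20657 = N14246 := ded_46_2 (flp_f L121423) (flp_j L121066) L175580
theorem L175590 : sm gh N14206 = N20658 := rfl
theorem L175593 : sm gc N20658 = N14213 := ded_32_1 (flp_h L121133) (flp_c L121069) L175590
theorem L175596 : sm gj N20658 = N14247 := ded_52_1 (flp_h L121431) (flp_j L121066) L175590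
theorem L175599 : sm gg N14207 = N20659 := rfl
theorem L175602 : sm gc N20659 = N14208 := ded_30_1 (flp_g L121082) (flp_c L121075) L175599
theorem L175605 : sm gh N20659 = N20659 := ded_50_2 (flp_g L175599) L121079 L175599
theorem L175607 : sm gj N14208 = N20660 := rfl
theorem L175617 : sm gg N20660 = N14249 := ded_49_1 (flp_j L121448) (flp_g L83925) (flp_j L83674) L121082 L175607
theorem L175619 : sm gd N14209 = N20661 := rfl
theorem L175621 : sm ga N20661 = N14210 := ded_12_1 (flp_d L121104) (flp_a L121094) L175619
theorem L175623 : sm gb N20661 = N20661 := ded_20_1 (flp_d L175619) L121096 L175619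
theorem L175624 : sm gj N20661 = N14250 := ded_37_2 (flp_d L121459) (flp_j L121099) L175619
theorem L175642 : sm gc N14210 = N20663 := rfl
theorem L175645 : sm gj N20663 = N14252 := ded_31_2 (flp_c L121479) (flp_j L121108) L175642
theorem L175648 : sm gd N20663 = N15416 := ded_27_2 (flp_c L131332) (flp_d L90666) (flp_c L83696) L121104 L175642
theorem L175650 : sm gf N14210 = N20664 := rfl
theorem L175652 : sm gb N20664 = N14212 := ded_22_1 (flp_f L121125) (flp_b L121106) L175650
theorem L175654 : sm gd N20664 = N14211 := ded_35_1 (flp_f L121112) L121104 L175650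
theorem L175656 : sm gj N20664 = N14253 := ded_46_2 (flp_f L121486) (flp_j L121108) L175650
theorem L175659 : sm gh N14210 = N20665 := rfl
theorem L175664 : sm gj N20665 = N14254 := ded_52_1 (flp_h L121493) (flp_j L121108) L175659
theorem L175668 : sm gg N14211 = N20666 := rfl
theorem L175670 : sm gb N20666 = N14214 := ded_23_1 (flp_g L121141) (flp_b L121114) L175668
theorem L175672 : sm gc N20666 = N15419 := ded_30_1 (flp_g L131354) (flp_c L121116) L175668
theorem L175676 : sm gh N20666 = N14221 := ded_50_2 (flp_g L121210) (flp_h L121120) L175668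
theorem L175679 : sm ge N14212 = N20667 := rfl
theorem L175682 : sm gj N20667 = N14256 := ded_42_2 (flp_e L121513) (flp_j L121130) L175679
theorem L175685 : sm gd N20667 = N14308 := ded_34_1 (flp_e L121929) L84245 (flp_e L83720) (flp_d L121128) L175679
theorem L175688 : sm gg N14212 = N20668 := rfl
theorem L175691 : sm gd N20668 = N14214 := ded_36_1 (flp_g L121141) (flp_d L121128) L175688
theorem L175694 : sm gh N14212 = N20669 := rfl
theorem L175701 : sm gd N20669 = N14224 := ded_38_1 (flp_h L121238) L83767 (flp_h L83717) (flp_d L121128) L175694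
theorem L175703 : sm gi N14213 = N20670 := rfl
theorem L175706 : sm gd N20670 = N14225 := ded_39_1 (flp_i L121246) (flp_d L121139) L175703
theorem L175709 : sm gj N20670 = N14259 := ded_53_1 (flp_i L121534) (flp_j L121137) L175703
theorem L175712 : sm gj N14214 = N20671 := rfl
theorem L175719 : sm gh N20671 = N14226 := ded_52_2 (flp_j L121254) (flp_h L121148) L175712
theorem L175722 : sm gg N20671 = N14260 := ded_49_1 (flp_j L121542) (flp_g L83978) (flp_j L83715) L121141 L175712
theorem L175724 : sm gc N14216 = N20672 := rfl
theorem L175726 : sm ga N20672 = N14218 := ded_11_1 (flp_c L121185) (flp_a L121165) L175724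
theorem L175728 : sm gj N20672 = N14261 := ded_31_2 (flp_c L121553) (flp_j L121168) L175724
theorem L175730 : sm gi N20672 = N14227 := ded_33_2 (flp_c L121265) (flp_i L121170) L175724
theorem L175732 : sm gd N20672 = N15425 := ded_27_2 (flp_c L131411) (flp_d L90723) (flp_c L83737) L121163 L175724
theorem L175734 : sm gf N14216 = N20673 := rfl
theorem L175736 : sm ga N20673 = N14219 := ded_14_1 (flp_f L121194) (flp_a L121165) L175734
theorem L175739 : sm gd N20673 = N14217 := ded_35_1 (flp_f L121172) L121163 L175734
theorem L175743 : sm gi N20673 = N14228 := ded_48_2 (flp_f L121273) (flp_i L121170) L175734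
theorem L175745 : sm gh N14216 = N20674 := rfl
theorem L175747 : sm ga N20674 = N14220 := ded_17_1 (flp_h L121204) (flp_a L121165) L175745
theorem L175750 : sm gj N20674 = N14263 := ded_52_1 (flp_h L121571) (flp_j L121168) L175745
theorem L175752 : sm gg N14217 = N20675 := rfl
theorem L175754 : sm ga N20675 = N14221 := ded_15_1 (flp_g L121210) (flp_a L121174) L175752
theorem L175757 : sm gc N20675 = N15428 := ded_30_1 (flp_g L131441) (flp_c L121177) L175752
theorem L175759 : sm ge N20675 = N14316 := ded_41_1 (flp_g L122007) (flp_e L121183) L175752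
theorem L175761 : sm gi N20675 = N14230 := ded_51_2 (flp_g L121290) (flp_i L121181) L175752
theorem L175763 : sm gf N14218 = N20676 := rfl
theorem L175765 : sm gb N20676 = N20676 := ded_22_1 (flp_f L175763) L121191 L175763
theorem L175766 : sm gc N20676 = N14219 := ded_29_1 (flp_f L121194) L121185 L175763
theorem L175768 : sm gd N20676 = N15429 := ded_35_1 (flp_f L131451) (flp_d L121192) L175763
theorem L175770 : sm gj N20676 = N14265 := ded_46_2 (flp_f L121589) (flp_j L121187) L175763
theorem L175772 : sm gi N20676 = N14231 := ded_48_2 (flp_f L121300) (flp_i L121189) L175763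
theorem L175774 : sm gh N14218 = N20677 := rfl
theorem L175776 : sm gb N20677 = N20677 := ded_25_1 (flp_h L175774) L121191 L175774
theorem L175777 : sm gc N20677 = N14220 := ded_32_1 (flp_h L121204) L121185 L175774
theorem L175779 : sm gj N20677 = N14266 := ded_52_1 (flp_h L121598) (flp_j L121187) L175774
theorem L175781 : sm ge N14219 = N20678 := rfl
theorem L175783 : sm gb N20678 = N14222 := ded_21_1 (flp_e L121220) (flp_b L121196) L175781
theorem L175785 : sm gj N20678 = N14267 := ded_42_2 (flp_e L121604) (flp_j L121200) L175781
theorem L175787 : sm gi N20678 = N14233 := ded_44_2 (flp_e L121316) (flp_i L121202) L175781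
theorem L175789 : sm gd N20678 = N14319 := ded_34_1 (flp_e L122038) L84317 (flp_e L83761) (flp_d L121198) L175781
theorem L175791 : sm gg N14219 = N20679 := rfl
theorem L175795 : sm gd N20679 = N14221 := ded_36_1 (flp_g L121210) (flp_d L121198) L175791
theorem L175797 : sm gi N20679 = N14234 := ded_51_2 (flp_g L121324) (flp_i L121202) L175791
theorem L175799 : sm gh N14219 = N20680 := rfl
theorem L175803 : sm gf N20680 = N14220 := ded_47_1 (flp_h L121204) L121194 L175799
theorem L175805 : sm gj N20680 = N14269 := ded_52_1 (flp_h L121621) (flp_j L121200) L175799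
theorem L175807 : sm gi N14220 = N20681 := rfl
theorem L175809 : sm gb N20681 = N14225 := ded_26_1 (flp_i L121246) (flp_b L121206) L175807
theorem L175811 : sm gj N20681 = N14270 := ded_53_1 (flp_i L121627) (flp_j L121208) L175807
theorem L175813 : sm gh N20681 = N14236 := ded_54_1 (flp_i L121339) (flp_h L83834) (flp_i L83749) L121204 L175807
theorem L175815 : sm gj N14221 = N20682 := rfl
theorem L175821 : sm ge N20682 = N14323 := ded_42_1 (flp_j L122072) (flp_e L121216) L175815
theorem L175827 : sm gg N14222 = N20683 := rfl
theorem L175831 : sm gd N20683 = N14324 := ded_36_1 (flp_g L122083) (flp_d L121228) L175827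
theorem L175833 : sm ge N20683 = N14223 := ded_41_1 (flp_g L121230) L121220 L175827
theorem L175835 : sm gi N20683 = N14238 := ded_51_2 (flp_g L121357) (flp_i L121226) L175827
theorem L175837 : sm gh N14222 = N20684 := rfl
theorem L175843 : sm gj N20684 = N14273 := ded_52_1 (flp_h L121655) (flp_j L121224) L175837
theorem L175845 : sm gj N14223 = N20685 := rfl
theorem L175849 : sm gd N20685 = N14226 := ded_37_1 (flp_j L121254) (flp_d L121234) L175845
theorem L175861 : sm gi N14224 = N20687 := rfl
theorem L175869 : sm gh N20687 = N14242 := ded_54_1 (flp_i L121388) (flp_h L83864) (flp_i L83771) L121238 L175861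
theorem L175871 : sm gb N14227 = N20688 := rfl
theorem L175879 : sm gf N14227 = N20689 := rfl
theorem L175881 : sm ga N20689 = N14231 := ded_14_1 (flp_f L121300) (flp_a L121267) L175879
theorem L175883 : sm gc N20689 = N14228 := ded_29_1 (flp_f L121273) L121265 L175879
theorem L175885 : sm gd N20689 = N15442 := ded_35_1 (flp_f L131572) (flp_d L121271) L175879
theorem L175887 : sm gj N20689 = N14278 := ded_46_2 (flp_f L121692) (flp_j L121269) L175879
theorem L175889 : sm gh N14227 = N20690 := rfl
theorem L175897 : sm ge N14228 = N20691 := rfl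
theorem L175899 : sm ga N20691 = N14233 := ded_13_1 (flp_e L121316) (flp_a L121275) L175897
theorem L175901 : sm gb N20691 = N20691 := ded_21_1 (flp_e L175897) L121277 L175897
theorem L175902 : sm gj N20691 = N14280 := ded_42_2 (flp_e L121707) (flp_j L121280) L175897
theorem L175904 : sm gd N20691 = N14332 := ded_34_1 (flp_e L122161) L84401 (flp_e L83817) (flp_d L121278) L175897
theorem L175906 : sm gg N14228 = N20692 := rfl
theorem L175908 : sm ga N20692 = N14234 := ded_15_1 (flp_g L121324) (flp_a L121275) L175906
theorem L175913 : sm gh N14228 = N20693 := rfl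
theorem L175915 : sm ga N20693 = N14235 := ded_17_1 (flp_h L121330) (flp_a L121275) L175913
theorem L175918 : sm gf N20693 = N14229 := ded_47_1 (flp_h L121282) L121273 L175913
theorem L175923 : sm gi N14229 = N20694 := rfl
theorem L175925 : sm ga N20694 = N14236 := ded_18_1 (flp_i L121339) (flp_a L121284) L175923
theorem L175931 : sm gj N14230 = N20695 := rfl
theorem L175936 : sm gc N20695 = N15448 := ded_31_1 (flp_j L131629) (flp_c L121295) L175931
theorem L175938 : sm ge N20695 = N14336 := ded_42_1 (flp_j L122195) (flp_e L121297) L175931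
theorem L175941 : sm gg N20695 = N14284 := ded_49_1 (flp_j L121737) (flp_g L84112) (flp_j L83814) L121290 L175931
theorem L175943 : sm ge N14231 = N20696 := rfl
theorem L175945 : sm gb N20696 = N20696 := ded_21_1 (flp_e L175943) L121302 L175943
theorem L175946 : sm gc N20696 = N14233 := ded_28_1 (flp_e L121316) (flp_c L121303) L175943
theorem L175948 : sm gj N20696 = N14285 := ded_42_2 (flp_e L121748) (flp_j L121307) L175943
theorem L175950 : sm gg N14231 = N20697 := rfl
theorem L175953 : sm gc N20697 = N14234 := ded_30_1 (flp_g L121324) (flp_c L121303) L175950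
theorem L175957 : sm gh N14231 = N20698 := rfl
theorem L175960 : sm gc N20698 = N14235 := ded_32_1 (flp_h L121330) (flp_c L121303) L175957
theorem L175962 : sm gf N20698 = N14232 := ded_47_1 (flp_h L121309) L121300 L175957
theorem L175964 : sm gj N20698 = N14287 := ded_52_1 (flp_h L121761) (flp_j L121307) L175957
theorem L175966 : sm gd N14232 = N20699 := rfl
theorem L175969 : sm gj N20699 = N14288 := ded_37_2 (flp_d L121768) (flp_j L121314) L175966
theorem L175972 : sm gh N20699 = N15452 := ded_38_2 (flp_d L131662) (flp_h L90874) (flp_d L83824) L121309 L175966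
theorem L175974 : sm gi N14232 = N20700 := rfl
theorem L175977 : sm gc N20700 = N14236 := ded_33_1 (flp_i L121339) (flp_c L121312) L175974
theorem L175981 : sm gg N14233 = N20701 := rfl
theorem L175983 : sm gb N20701 = N14238 := ded_23_1 (flp_g L121357) (flp_b L121318) L175981
theorem L175985 : sm gd N20701 = N14342 := ded_36_1 (flp_g L122252) (flp_d L121322) L175981
theorem L175987 : sm ge N20701 = N14234 := ded_41_1 (flp_g L121324) L121316 L175981
theorem L175989 : sm gh N14233 = N20702 := rfl
theorem L175991 : sm gb N20702 = N14239 := ded_25_1 (flp_h L121365) (flp_b L121318) L175989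
theorem L175993 : sm ge N20702 = N14235 := ded_43_1 (flp_h L121330) L121316 L175989
theorem L175995 : sm gj N20702 = N14291 := ded_52_1 (flp_h L121789) (flp_j L121320) L175989
theorem L175997 : sm gj N14234 = N20703 := rfl
theorem L175999 : sm gb N20703 = N14240 := ded_24_1 (flp_j L121373) (flp_b L121326) L175997
theorem L176003 : sm gg N20703 = N14292 := ded_49_1 (flp_j L121795) (flp_g L84142) (flp_j L83832) L121324 L175997
theorem L176005 : sm gh N14234 = N20704 := rfl
theorem L176007 : sm gb N20704 = N14241 := ded_25_1 (flp_h L121381) (flp_b L121326) L176005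
theorem L176009 : sm gg N20704 = N14235 := ded_50_1 (flp_h L121330) L121324 L176005
theorem L176011 : sm gd N20704 = N20704 := ded_38_1 (flp_h L176005) L121328 L83849 (flp_d L121328) L176005
theorem L176012 : sm gi N14235 = N20705 := rfl
theorem L176014 : sm gb N20705 = N14242 := ded_26_1 (flp_i L121388) (flp_b L121332) L176012
theorem L176016 : sm gd N20705 = N20705 := ded_39_1 (flp_i L176012) L121338 L176012
theorem L176017 : sm gf N20705 = N14236 := ded_48_1 (flp_i L121339) (flp_f L121334) L176012
theorem L176019 : sm gj N20705 = N14294 := ded_53_1 (flp_i L121810) (flp_j L121336) L176012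
theorem L176021 : sm gf N14238 = N20706 := rfl
theorem L176023 : sm ga N20706 = N20706 := ded_14_1 (flp_f L176021) L121359 L176021
theorem L176024 : sm gc N20706 = N20706 := ded_29_1 (flp_f L176021) L121360 L176021
theorem L176025 : sm gd N20706 = N14347 := ded_35_1 (flp_f L122292) (flp_d L121361) L176021
theorem L176027 : sm gj N14238 = N20707 := rfl
theorem L176031 : sm gd N20707 = N14348 := ded_37_1 (flp_j L122298) (flp_d L121361) L176027
theorem L176035 : sm gg N20707 = N14296 := ded_49_1 (flp_j L121824) (flp_g L84172) (flp_j L83854) L121357 L176027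
theorem L176037 : sm gh N14238 = N20708 := rfl
theorem L176039 : sm ga N20708 = N20708 := ded_17_1 (flp_h L176037) L121359 L176037
theorem L176040 : sm gc N20708 = N20708 := ded_32_1 (flp_h L176037) L121360 L176037
theorem L176041 : sm ge N20708 = N14241 := ded_43_1 (flp_h L121381) (flp_e L121363) L176037
theorem L176043 : sm gg N20708 = N14239 := ded_50_1 (flp_h L121365) L121357 L176037
theorem L176045 : sm gd N14239 = N20709 := rfl
theorem L176047 : sm ga N20709 = N20709 := ded_12_1 (flp_d L176045) L121367 L176045
theorem L176048 : sm gj N20709 = N14298 := ded_37_2 (flp_d L121840) (flp_j L121371) L176045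
theorem L176050 : sm ge N20709 = N20709 := ded_34_2 (flp_d L176045) L121369 L83872 (flp_e L121369) L176045
theorem L176051 : sm gh N20709 = N14350 := ded_38_2 (flp_d L122316) (flp_h L84489) (flp_d L83856) L121365 L176045
theorem L176053 : sm gi N14239 = N20710 := rfl
theorem L176057 : sm ge N20710 = N14242 := ded_44_1 (flp_i L121388) (flp_e L121369) L176053
theorem L176059 : sm gj N20710 = N14299 := ded_53_1 (flp_i L121846) (flp_j L121371) L176053
theorem L176061 : sm gh N14240 = N20711 := rfl
theorem L176065 : sm gg N20711 = N14300 := ded_50_1 (flp_h L121852) (flp_g L121379) L176061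
theorem L176070 : sm gi N14241 = N20712 := rfl
theorem L176075 : sm gg N20712 = N14242 := ded_51_1 (flp_i L121388) (flp_g L121385) L176070
theorem L176077 : sm gd N14243 = N20713 := rfl
theorem L176085 : sm gf N14243 = N20714 := rfl
theorem L176087 : sm ga N20714 = N14245 := ded_14_1 (flp_f L121414) (flp_a L121399) L176085
theorem L176095 : sm gc N14244 = N20715 := rfl
theorem L176100 : sm gb N20715 = N14252 := ded_19_1 (flp_c L121479) L83949 (flp_c L83914) (flp_b L121409) L176095
theorem L176104 : sm gf N14244 = N20716 := rfl
theorem L176128 : sm ge N14246 = N20719 := rfl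
theorem L176131 : sm gc N20719 = N14256 := ded_28_1 (flp_e L121513) (flp_c L121426) L176128
theorem L176136 : sm gg N14246 = N20720 := rfl
theorem L176139 : sm gc N20720 = N14257 := ded_30_1 (flp_g L121520) (flp_c L121426) L176136
theorem L176141 : sm gd N20720 = N14248 := ded_36_1 (flp_g L121439) (flp_d L121428) L176136
theorem L176145 : sm gh N14246 = N20721 := rfl
theorem L176148 : sm gc N20721 = N14258 := ded_32_1 (flp_h L121527) (flp_c L121426) L176145
theorem L176150 : sm gf N20721 = N14247 := ded_47_1 (flp_h L121431) L121423 L176145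
theorem L176153 : sm gi N14247 = N20722 := rfl
theorem L176156 : sm gc N20722 = N14259 := ded_33_1 (flp_i L121534) (flp_c L121434) L176153
theorem L176162 : sm gj N14248 = N20723 := rfl
theorem L176165 : sm gc N20723 = N14249 := ded_31_1 (flp_j L121448) (flp_c L121442) L176162
theorem L176169 : sm gh N20723 = N20723 := ded_52_2 (flp_j L176162) L121445 L176162
theorem L176171 : sm gc N14250 = N20724 := rfl
theorem L176173 : sm ga N20724 = N14252 := ded_11_1 (flp_c L121479) (flp_a L121461) L176171
theorem L176178 : sm gd N20724 = N15503 := ded_27_2 (flp_c L132104) (flp_d L91182) (flp_c L83941) L121459 L176171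
theorem L176180 : sm gf N14250 = N20725 := rfl
theorem L176182 : sm ga N20725 = N14253 := ded_14_1 (flp_f L121486) (flp_a L121461) L176180
theorem L176185 : sm gd N20725 = N14251 := ded_35_1 (flp_f L121467) L121459 L176180
theorem L176188 : sm gh N14250 = N20726 := rfl
theorem L176190 : sm ga N20726 = N14254 := ded_17_1 (flp_h L121493) (flp_a L121461) L176188
theorem L176197 : sm gg N14251 = N20727 := rfl
theorem L176202 : sm gc N20727 = N15506 := ded_30_1 (flp_g L132128) (flp_c L121472) L176197
theorem L176210 : sm gf N14252 = N20728 := rfl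
theorem L176212 : sm gc N20728 = N14253 := ded_29_1 (flp_f L121486) L121479 L176210
theorem L176217 : sm gh N14252 = N20729 := rfl
theorem L176219 : sm gc N20729 = N14254 := ded_32_1 (flp_h L121493) L121479 L176217
theorem L176223 : sm ge N14253 = N20730 := rfl
theorem L176225 : sm gb N20730 = N14256 := ded_21_1 (flp_e L121513) (flp_b L121488) L176223
theorem L176228 : sm gd N20730 = N14360 := ded_34_1 (flp_e L122407) L84559 (flp_e L83963) (flp_d L121490) L176223
theorem L176231 : sm gg N14253 = N20731 := rfl
theorem L176233 : sm gb N20731 = N14257 := ded_23_1 (flp_g L121520) (flp_b L121488) L176231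
theorem L176235 : sm gd N20731 = N14255 := ded_36_1 (flp_g L121501) (flp_d L121490) L176231
theorem L176239 : sm gh N14253 = N20732 := rfl
theorem L176245 : sm gd N20732 = N14269 := ded_38_1 (flp_h L121621) L84031 (flp_h L83960) (flp_d L121490) L176239
theorem L176247 : sm gi N14254 = N20733 := rfl
theorem L176249 : sm gb N20733 = N14259 := ded_26_1 (flp_i L121534) (flp_b L121495) L176247
theorem L176256 : sm gj N14255 = N20734 := rfl
theorem L176258 : sm gb N20734 = N14260 := ded_24_1 (flp_j L121542) (flp_b L121503) L176256
theorem L176268 : sm gg N14256 = N20735 := rfl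
theorem L176271 : sm gd N20735 = N14365 := ded_36_1 (flp_g L122451) (flp_d L121517) L176268
theorem L176273 : sm ge N20735 = N14257 := ded_41_1 (flp_g L121520) L121513 L176268
theorem L176276 : sm gh N14256 = N20736 := rfl
theorem L176279 : sm ge N20736 = N14258 := ded_43_1 (flp_h L121527) L121513 L176276
theorem L176282 : sm gj N14257 = N20737 := rfl
theorem L176285 : sm gd N20737 = N14260 := ded_37_1 (flp_j L121542) (flp_d L121523) L176282
theorem L176297 : sm gi N14258 = N20739 := rfl
theorem L176302 : sm gf N20739 = N14259 := ded_48_1 (flp_i L121534) (flp_f L121530) L176297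
theorem L176305 : sm gb N14261 = N20740 := rfl
theorem L176310 : sm gi N20740 = N14277 := ded_26_2 (flp_b L121685) (flp_i L121558) L176305
theorem L176312 : sm ga N20740 = N20740 := ded_10_1 (flp_b L176305) L121555 L84024 (flp_a L121555) L176305
theorem L176314 : sm gf N14261 = N20741 := rfl
theorem L176316 : sm ga N20741 = N14265 := ded_14_1 (flp_f L121589) (flp_a L121555) L176314
theorem L176318 : sm gc N20741 = N14262 := ded_29_1 (flp_f L121562) L121553 L176314
theorem L176322 : sm gi N20741 = N14278 := ded_48_2 (flp_f L121692) (flp_i L121558) L176314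
theorem L176324 : sm gh N14261 = N20742 := rfl
theorem L176326 : sm ga N20742 = N14266 := ded_17_1 (flp_h L121598) (flp_a L121555) L176324
theorem L176331 : sm ge N14262 = N20743 := rfl
theorem L176333 : sm ga N20743 = N14267 := ded_13_1 (flp_e L121604) (flp_a L121564) L176331
theorem L176336 : sm gi N20743 = N14280 := ded_44_2 (flp_e L121707) (flp_i L121569) L176331
theorem L176340 : sm gg N14262 = N20744 := rfl
theorem L176342 : sm ga N20744 = N14268 := ded_15_1 (flp_g L121612) (flp_a L121564) L176340
theorem L176347 : sm gi N20744 = N14281 := ded_51_2 (flp_g L121714) (flp_i L121569) L176340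
theorem L176350 : sm gh N14262 = N20745 := rfl
theorem L176352 : sm ga N20745 = N14269 := ded_17_1 (flp_h L121621) (flp_a L121564) L176350
theorem L176357 : sm gi N14263 = N20746 := rfl
theorem L176359 : sm ga N20746 = N14270 := ded_18_1 (flp_i L121627) (flp_a L121573) L176357
theorem L176365 : sm gj N14264 = N20747 := rfl
theorem L176370 : sm gc N20747 = N15526 := ded_31_1 (flp_j L132297) (flp_c L121582) L176365
theorem L176375 : sm gi N20747 = N14284 := ded_53_2 (flp_j L121737) (flp_i L121586) L176365
theorem L176377 : sm ge N14265 = N20748 := rfl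
theorem L176379 : sm gb N20748 = N20748 := ded_21_1 (flp_e L176377) L121591 L176377
theorem L176380 : sm gc N20748 = N14267 := ded_28_1 (flp_e L121604) (flp_c L121592) L176377
theorem L176382 : sm gi N20748 = N14285 := ded_44_2 (flp_e L121748) (flp_i L121596) L176377
theorem L176384 : sm gg N14265 = N20749 := rfl
theorem L176386 : sm gb N20749 = N20749 := ded_23_1 (flp_g L176384) L121591 L176384
theorem L176387 : sm gc N20749 = N14268 := ded_30_1 (flp_g L121612) (flp_c L121592) L176384
theorem L176389 : sm gd N20749 = N15528 := ded_36_1 (flp_g L132316) (flp_d L121594) L176384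
theorem L176391 : sm gi N20749 = N14286 := ded_51_2 (flp_g L121753) (flp_i L121596) L176384
theorem L176393 : sm gf N20749 = N20749 := ded_45_1 (flp_g L176384) (flp_f L121589) L84021 L121589 L176384
theorem L176394 : sm gh N14265 = N20750 := rfl
theorem L176396 : sm gb N20750 = N20750 := ded_25_1 (flp_h L176394) L121591 L176394
theorem L176397 : sm gc N20750 = N14269 := ded_32_1 (flp_h L121621) (flp_c L121592) L176394
theorem L176399 : sm gf N20750 = N14266 := ded_47_1 (flp_h L121598) L121589 L176394
theorem L176401 : sm gd N14266 = N20751 := rfl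
theorem L176405 : sm gh N20751 = N15530 := ded_38_2 (flp_d L132331) (flp_h L91316) (flp_d L84025) L121598 L176401
theorem L176407 : sm gi N14266 = N20752 := rfl
theorem L176409 : sm gb N20752 = N20752 := ded_26_1 (flp_i L176407) L121600 L176407
theorem L176410 : sm gc N20752 = N14270 := ded_33_1 (flp_i L121627) (flp_c L121601) L176407
theorem L176413 : sm gh N20752 = N14289 := ded_54_1 (flp_i L121775) (flp_h L84130) (flp_i L84022) L121598 L176407
theorem L176415 : sm gg N14267 = N20753 := rfl
theorem L176417 : sm gb N20753 = N14272 := ded_23_1 (flp_g L121645) (flp_b L121606) L176415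
theorem L176419 : sm gd N20753 = N14383 := ded_36_1 (flp_g L122613) (flp_d L121610) L176415
theorem L176421 : sm ge N20753 = N14268 := ded_41_1 (flp_g L121612) L121604 L176415
theorem L176423 : sm gi N20753 = N14290 := ded_51_2 (flp_g L121781) (flp_i L121608) L176415
theorem L176425 : sm gh N14267 = N20754 := rfl
theorem L176427 : sm gb N20754 = N14273 := ded_25_1 (flp_h L121655) (flp_b L121606) L176425
theorem L176429 : sm ge N20754 = N14269 := ded_43_1 (flp_h L121621) L121604 L176425
theorem L176431 : sm gj N14268 = N20755 := rfl
theorem L176433 : sm gb N20755 = N14274 := ded_24_1 (flp_j L121661) (flp_b L121614) L176431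
theorem L176435 : sm gd N20755 = N14271 := ded_37_1 (flp_j L121634) (flp_d L121616) L176431
theorem L176438 : sm gi N20755 = N14292 := ded_53_2 (flp_j L121795) (flp_i L121618) L176431
theorem L176440 : sm gh N14268 = N20756 := rfl
theorem L176442 : sm gb N20756 = N14275 := ded_25_1 (flp_h L121670) (flp_b L121614) L176440
theorem L176445 : sm gg N20756 = N14269 := ded_50_1 (flp_h L121621) L121612 L176440
theorem L176447 : sm gi N14269 = N20757 := rfl
theorem L176449 : sm gb N20757 = N14276 := ded_26_1 (flp_i L121677) (flp_b L121623) L176447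
theorem L176451 : sm gf N20757 = N14270 := ded_48_1 (flp_i L121627) (flp_f L121625) L176447
theorem L176453 : sm gh N20757 = N14294 := ded_54_1 (flp_i L121810) (flp_h L84149) (flp_i L84033) L121621 L176447
theorem L176455 : sm gf N14272 = N20758 := rfl
theorem L176457 : sm ga N20758 = N20758 := ded_14_1 (flp_f L176455) L121647 L176455
theorem L176458 : sm gc N20758 = N20758 := ded_29_1 (flp_f L176455) L121648 L176455
theorem L176459 : sm gd N20758 = N14388 := ded_35_1 (flp_f L122653) (flp_d L121649) L176455
theorem L176461 : sm gi N20758 = N14295 := ded_48_2 (flp_f L121817) (flp_i L121653) L176455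
theorem L176463 : sm ge N20758 = N20758 := ded_40_1 (flp_f L176455) L121651 L84067 (flp_e L121651) L176455
theorem L176464 : sm gj N14272 = N20759 := rfl
theorem L176468 : sm gd N20759 = N14389 := ded_37_1 (flp_j L122662) (flp_d L121649) L176464
theorem L176472 : sm gi N20759 = N14296 := ded_53_2 (flp_j L121824) (flp_i L121653) L176464
theorem L176474 : sm gh N14272 = N20760 := rfl
theorem L176478 : sm ge N20760 = N14275 := ded_43_1 (flp_h L121670) (flp_e L121651) L176474
theorem L176480 : sm gg N20760 = N14273 := ded_50_1 (flp_h L121655) L121645 L176474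
theorem L176482 : sm gd N14273 = N20761 := rfl
theorem L176485 : sm gh N20761 = N14391 := ded_38_2 (flp_d L122680) (flp_h L84729) (flp_d L84057) L121655 L176482
theorem L176487 : sm gi N14273 = N20762 := rfl
theorem L176489 : sm ga N20762 = N20762 := ded_18_1 (flp_i L176487) L121657 L176487
theorem L176490 : sm gc N20762 = N20762 := ded_33_1 (flp_i L176487) L121658 L176487
theorem L176491 : sm ge N20762 = N14276 := ded_44_1 (flp_i L121677) (flp_e L121659) L176487
theorem L176493 : sm gh N20762 = N14299 := ded_54_1 (flp_i L121846) (flp_h L84180) (flp_i L84055) L121655 L176487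
theorem L176495 : sm gh N14274 = N20763 := rfl
theorem L176500 : sm gj N20763 = N14275 := ded_52_1 (flp_h L121670) L121661 L176495
theorem L176502 : sm gi N14275 = N20764 := rfl
theorem L176507 : sm gg N20764 = N14276 := ded_51_1 (flp_i L121677) (flp_g L121675) L176502
theorem L176511 : sm gf N14277 = N20765 := rfl
theorem L176517 : sm gd N20765 = N15544 := ded_35_1 (flp_f L132451) (flp_d L121687) L176511
theorem L176519 : sm gh N14277 = N20766 := rfl
theorem L176522 : sm gb N20766 = N14279 := ded_25_1 (flp_h L121700) L121685 L176519
theorem L176526 : sm ge N14278 = N20767 := rfl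
theorem L176528 : sm ga N20767 = N14285 := ded_13_1 (flp_e L121748) (flp_a L121694) L176526
theorem L176530 : sm gc N20767 = N14280 := ded_28_1 (flp_e L121707) (flp_c L121696) L176526
theorem L176532 : sm gg N14278 = N20768 := rfl
theorem L176534 : sm ga N20768 = N14286 := ded_15_1 (flp_g L121753) (flp_a L121694) L176532
theorem L176536 : sm gc N20768 = N14281 := ded_30_1 (flp_g L121714) (flp_c L121696) L176532
theorem L176538 : sm gd N20768 = N15547 := ded_36_1 (flp_g L132474) (flp_d L121698) L176532
theorem L176541 : sm gh N14278 = N20769 := rfl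
theorem L176545 : sm gc N20769 = N14282 := ded_32_1 (flp_h L121722) (flp_c L121696) L176541
theorem L176547 : sm gf N20769 = N14279 := ded_47_1 (flp_h L121700) L121692 L176541
theorem L176557 : sm gi N14279 = N20771 := rfl
theorem L176564 : sm gg N14280 = N20772 := rfl
theorem L176566 : sm ga N20772 = N14290 := ded_15_1 (flp_g L121781) (flp_a L121709) L176564
theorem L176568 : sm gb N20772 = N20772 := ded_23_1 (flp_g L176564) L121711 L176564
theorem L176569 : sm gd N20772 = N14402 := ded_36_1 (flp_g L122771) (flp_d L121712) L176564
theorem L176571 : sm ge N20772 = N14281 := ded_41_1 (flp_g L121714) L121707 L176564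
theorem L176573 : sm gh N14280 = N20773 := rfl
theorem L176575 : sm ga N20773 = N14291 := ded_17_1 (flp_h L121789) (flp_a L121709) L176573
theorem L176578 : sm ge N20773 = N14282 := ded_43_1 (flp_h L121722) L121707 L176573
theorem L176580 : sm gj N14281 = N20774 := rfl
theorem L176582 : sm ga N20774 = N14292 := ded_16_1 (flp_j L121795) (flp_a L121716) L176580
theorem L176585 : sm gd N20774 = N14284 := ded_37_1 (flp_j L121737) (flp_d L121719) L176580
theorem L176588 : sm gh N14281 = N20775 := rfl
theorem L176597 : sm gi N14282 = N20776 := rfl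
theorem L176599 : sm ga N20776 = N14294 := ded_18_1 (flp_i L121810) (flp_a L121724) L176597
theorem L176605 : sm gd N14285 = N20777 := rfl
theorem L176607 : sm gb N20777 = N20777 := ded_20_1 (flp_d L176605) L121750 L176605
theorem L176608 : sm gc N20777 = N14407 := ded_27_1 (flp_d L122812) L84834 (flp_d L84140) (flp_c L121751) L176605
theorem L176610 : sm ge N20777 = N15556 := ded_34_2 (flp_d L132550) (flp_e L91477) (flp_d L84128) L121748 L176605
theorem L176612 : sm gg N14285 = N20778 := rfl
theorem L176614 : sm gb N20778 = N20778 := ded_23_1 (flp_g L176612) L121750 L176612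
theorem L176615 : sm gc N20778 = N14290 := ded_30_1 (flp_g L121781) (flp_c L121751) L176612
theorem L176617 : sm ge N20778 = N14286 := ded_41_1 (flp_g L121753) L121748 L176612
theorem L176619 : sm gh N14285 = N20779 := rfl
theorem L176622 : sm gc N20779 = N14291 := ded_32_1 (flp_h L121789) (flp_c L121751) L176619
theorem L176624 : sm ge N20779 = N14287 := ded_43_1 (flp_h L121761) L121748 L176619
theorem L176626 : sm gj N14286 = N20780 := rfl
theorem L176629 : sm gc N20780 = N14292 := ded_31_1 (flp_j L121795) (flp_c L121756) L176626
theorem L176634 : sm gh N14286 = N20781 := rfl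
theorem L176637 : sm gc N20781 = N14293 := ded_32_1 (flp_h L121802) (flp_c L121756) L176634
theorem L176640 : sm gg N20781 = N14287 := ded_50_1 (flp_h L121761) L121753 L176634
theorem L176642 : sm gd N14287 = N20782 := rfl
theorem L176648 : sm gh N20782 = N15561 := ded_38_2 (flp_d L132585) (flp_h L91489) (flp_d L84128) L121761 L176642
theorem L176650 : sm gi N14287 = N20783 := rfl
theorem L176653 : sm gc N20783 = N14294 := ded_33_1 (flp_i L121810) (flp_c L121764) L176650
theorem L176657 : sm ge N14288 = N20784 := rfl
theorem L176662 : sm gh N20784 = N15563 := ded_43_2 (flp_e L132598) (flp_h L121773) L176657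
theorem L176671 : sm gf N14290 = N20786 := rfl
theorem L176673 : sm gb N20786 = N14295 := ded_22_1 (flp_f L121817) (flp_b L121783) L176671
theorem L176675 : sm gd N20786 = N14416 := ded_35_1 (flp_f L122889) (flp_d L121785) L176671
theorem L176677 : sm ge N20786 = N20786 := ded_40_1 (flp_f L176671) L121787 L84148 (flp_e L121787) L176671
theorem L176678 : sm gj N14290 = N20787 := rfl
theorem L176680 : sm gb N20787 = N14296 := ded_24_1 (flp_j L121824) (flp_b L121783) L176678
theorem L176682 : sm gd N20787 = N14417 := ded_37_1 (flp_j L122895) (flp_d L121785) L176678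
theorem L176684 : sm ge N20787 = N14292 := ded_42_1 (flp_j L121795) (flp_e L121787) L176678
theorem L176686 : sm gh N14290 = N20788 := rfl
theorem L176688 : sm gb N20788 = N14297 := ded_25_1 (flp_h L121832) (flp_b L121783) L176686
theorem L176690 : sm ge N20788 = N14293 := ded_43_1 (flp_h L121802) (flp_e L121787) L176686
theorem L176692 : sm gg N20788 = N14291 := ded_50_1 (flp_h L121789) L121781 L176686
theorem L176694 : sm gd N14291 = N20789 := rfl
theorem L176696 : sm gb N20789 = N14298 := ded_20_1 (flp_d L121840) (flp_b L121791) L176694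
theorem L176698 : sm ge N20789 = N20789 := ded_34_2 (flp_d L176694) L121793 L84155 (flp_e L121793) L176694
theorem L176699 : sm gh N20789 = N14419 := ded_38_2 (flp_d L122909) (flp_h L84877) (flp_d L84140) L121789 L176694
theorem L176701 : sm gi N14291 = N20790 := rfl
theorem L176703 : sm gb N20790 = N14299 := ded_26_1 (flp_i L121846) (flp_b L121791) L176701
theorem L176705 : sm ge N20790 = N14294 := ded_44_1 (flp_i L121810) (flp_e L121793) L176701
theorem L176707 : sm gh N14292 = N20791 := rfl
theorem L176709 : sm gb N20791 = N14300 := ded_25_1 (flp_h L121852) (flp_b L121797) L176707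
theorem L176711 : sm gf N20791 = N20791 := ded_47_1 (flp_h L176707) L121801 L176707
theorem L176712 : sm gj N20791 = N14293 := ded_52_1 (flp_h L121802) L121795 L176707
theorem L176714 : sm gd N20791 = N20791 := ded_38_1 (flp_h L176707) L121799 L84171 (flp_d L121799) L176707
theorem L176715 : sm gi N14293 = N20792 := rfl
theorem L176717 : sm gb N20792 = N14301 := ded_26_1 (flp_i L121860) (flp_b L121804) L176715
theorem L176719 : sm gd N20792 = N20792 := ded_39_1 (flp_i L176715) L121809 L176715
theorem L176720 : sm gf N20792 = N20792 := ded_48_1 (flp_i L176715) L121806 L176715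
theorem L176721 : sm gg N20792 = N14294 := ded_51_1 (flp_i L121810) (flp_g L121807) L176715
theorem L176723 : sm gj N14295 = N20793 := rfl
theorem L176725 : sm ga N20793 = N20793 := ded_16_1 (flp_j L176723) L121819 L176723
theorem L176726 : sm gc N20793 = N20793 := ded_31_1 (flp_j L176723) L121820 L176723
theorem L176727 : sm gd N20793 = N14423 := ded_37_1 (flp_j L122938) (flp_d L121821) L176723
theorem L176729 : sm ge N20793 = N20793 := ded_42_1 (flp_j L176723) L121823 L176723
theorem L176730 : sm gf N20793 = N14296 := ded_46_1 (flp_j L121824) L121817 L176723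
theorem L176732 : sm gh N14295 = N20794 := rfl
theorem L176734 : sm ga N20794 = N20794 := ded_17_1 (flp_h L176732) L121819 L176732
theorem L176735 : sm gc N20794 = N20794 := ded_32_1 (flp_h L176732) L121820 L176732
theorem L176736 : sm ge N20794 = N20794 := ded_43_1 (flp_h L176732) L121823 L176732
theorem L176737 : sm gf N20794 = N14297 := ded_47_1 (flp_h L121832) L121817 L176732
theorem L176739 : sm gh N14296 = N20795 := rfl
theorem L176741 : sm ga N20795 = N20795 := ded_17_1 (flp_h L176739) L121826 L176739
theorem L176742 : sm gc N20795 = N20795 := ded_32_1 (flp_h L176739) L121827 L176739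
theorem L176743 : sm ge N20795 = N14300 := ded_43_1 (flp_h L121852) (flp_e L121830) L176739
theorem L176745 : sm gj N20795 = N14297 := ded_52_1 (flp_h L121832) L121824 L176739
theorem L176747 : sm gd N14297 = N20796 := rfl
theorem L176749 : sm ga N20796 = N20796 := ded_12_1 (flp_d L176747) L121834 L176747
theorem L176750 : sm gg N20796 = N14298 := ded_36_2 (flp_d L121840) (flp_g L121838) L176747
theorem L176752 : sm ge N20796 = N20796 := ded_34_2 (flp_d L176747) L121836 L84200 (flp_e L121836) L176747
theorem L176753 : sm gh N20796 = N14426 := ded_38_2 (flp_d L122965) (flp_h L84921) (flp_d L84176) L121832 L176747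
theorem L176755 : sm gi N14297 = N20797 := rfl
theorem L176757 : sm ga N20797 = N20797 := ded_18_1 (flp_i L176755) L121834 L176755
theorem L176758 : sm gc N20797 = N20797 := ded_33_1 (flp_i L176755) L121835 L176755
theorem L176759 : sm ge N20797 = N14301 := ded_44_1 (flp_i L121860) (flp_e L121836) L176755
theorem L176761 : sm gg N20797 = N14299 := ded_51_1 (flp_i L121846) (flp_g L121838) L176755
theorem L176763 : sm gc N14298 = N20798 := rfl
theorem L176765 : sm ga N20798 = N20798 := ded_11_1 (flp_c L176763) L121842 L176763
theorem L176766 : sm ge N20798 = N20798 := ded_28_2 (flp_c L176763) L121843 L176763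
theorem L176767 : sm gh N20798 = N14428 := ded_32_2 (flp_c L122980) (flp_h L121844) L176763
theorem L176769 : sm gd N20798 = N20798 := ded_27_2 (flp_c L176763) (flp_d L121840) L84183 L121840 L176763
theorem L176770 : sm gi N14298 = N20799 := rfl
theorem L176772 : sm ga N20799 = N20799 := ded_18_1 (flp_i L176770) L121842 L176770
theorem L176773 : sm gd N20799 = N14299 := ded_39_1 (flp_i L121846) L121840 L176770
theorem L176775 : sm ge N20799 = N20799 := ded_44_1 (flp_i L176770) L121843 L176770
theorem L176776 : sm gi N14300 = N20800 := rfl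
theorem L176782 : sm gj N20800 = N14301 := ded_53_1 (flp_i L121860) (flp_j L121857) L176776
theorem L176784 : sm gc N14302 = N20801 := rfl
theorem L176786 : sm ga N20801 = N14304 := ded_11_1 (flp_c L121890) (flp_a L121870) L176784
theorem L176790 : sm gj N20801 = N14354 := ded_31_2 (flp_c L122351) (flp_j L121874) L176784
theorem L176816 : sm gg N14303 = N20804 := rfl
theorem L176818 : sm ga N20804 = N14307 := ded_15_1 (flp_g L121919) (flp_a L121880) L176816
theorem L176823 : sm gh N20804 = N14316 := ded_50_2 (flp_g L122007) (flp_h L121887) L176816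
theorem L176827 : sm gf N14304 = N20805 := rfl
theorem L176830 : sm gc N20805 = N14305 := ded_29_1 (flp_f L121900) L121890 L176827
theorem L176832 : sm gd N20805 = N15595 := ded_35_1 (flp_f L132890) (flp_d L121898) L176827
theorem L176834 : sm gj N20805 = N14358 := ded_46_2 (flp_f L122391) (flp_j L121894) L176827
theorem L176837 : sm gh N14304 = N20806 := rfl
theorem L176840 : sm gc N20806 = N14306 := ded_32_1 (flp_h L121909) L121890 L176837
theorem L176844 : sm gj N20806 = N14359 := ded_52_1 (flp_h L122399) (flp_j L121894) L176837
theorem L176846 : sm ge N14305 = N20807 := rfl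
theorem L176848 : sm gb N20807 = N14308 := ded_21_1 (flp_e L121929) (flp_b L121902) L176846
theorem L176854 : sm gg N14305 = N20808 := rfl
theorem L176856 : sm gb N20808 = N14309 := ded_23_1 (flp_g L121937) (flp_b L121902) L176854
theorem L176858 : sm gd N20808 = N14307 := ded_36_1 (flp_g L121919) (flp_d L121904) L176854
theorem L176862 : sm gh N14305 = N20809 := rfl
theorem L176866 : sm gf N20809 = N14306 := ded_47_1 (flp_h L121909) L121900 L176862
theorem L176868 : sm gj N20809 = N14362 := ded_52_1 (flp_h L122422) (flp_j L121906) L176862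
theorem L176872 : sm gi N14306 = N20810 := rfl
theorem L176874 : sm gb N20810 = N14311 := ded_26_1 (flp_i L121955) (flp_b L121911) L176872
theorem L176883 : sm gj N14307 = N20811 := rfl
theorem L176885 : sm gb N20811 = N14312 := ded_24_1 (flp_j L121966) (flp_b L121921) L176883
theorem L176895 : sm gg N14308 = N20812 := rfl
theorem L176902 : sm gh N14308 = N20813 := rfl
theorem L176906 : sm ge N20813 = N14310 := ded_43_1 (flp_h L121945) L121929 L176902
theorem L176909 : sm gj N20813 = N14366 := ded_52_1 (flp_h L122458) (flp_j L121933) L176902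
theorem L176921 : sm gh N14309 = N20815 := rfl
theorem L176926 : sm gg N20815 = N14310 := ded_50_1 (flp_h L121945) L121937 L176921
theorem L176928 : sm gd N20815 = N14327 := ded_38_1 (flp_h L122113) L84353 (flp_h L84265) (flp_d L121941) L176921
theorem L176930 : sm gi N14310 = N20816 := rfl
theorem L176932 : sm ga N20816 = N20816 := ded_18_1 (flp_i L176930) L121947 L176930
theorem L176933 : sm gc N20816 = N20816 := ded_33_1 (flp_i L176930) L121948 L176930
theorem L176934 : sm gd N20816 = N14328 := ded_39_1 (flp_i L122121) (flp_d L121953) L176930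
theorem L176936 : sm gf N20816 = N14311 := ded_48_1 (flp_i L121955) (flp_f L121949) L176930
theorem L176938 : sm gj N20816 = N14369 := ded_53_1 (flp_i L122484) (flp_j L121951) L176930
theorem L176940 : sm gh N20816 = N20816 := ded_54_1 (flp_i L176930) (flp_h L121945) L84249 L121945 L176930
theorem L176941 : sm gb N14313 = N20817 := rfl
theorem L176946 : sm gj N20817 = N14370 := ded_24_2 (flp_b L122493) (flp_j L121982) L176941
theorem L176948 : sm gi N20817 = N14329 := ded_26_2 (flp_b L122132) (flp_i L121984) L176941
theorem L176950 : sm ga N20817 = N14547 := ded_10_1 (flp_b L123979) L85610 (flp_b L84309) (flp_a L121979) L176941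
theorem L176953 : sm gf N14313 = N20818 := rfl
theorem L176955 : sm ga N20818 = N14317 := ded_14_1 (flp_f L122017) (flp_a L121979) L176953
theorem L176957 : sm gc N20818 = N14314 := ded_29_1 (flp_f L121988) L121977 L176953
theorem L176959 : sm gd N20818 = N15608 := ded_35_1 (flp_f L133013) (flp_d L121986) L176953
theorem L176961 : sm gj N20818 = N14371 := ded_46_2 (flp_f L122504) (flp_j L121982) L176953
theorem L176963 : sm gi N20818 = N14330 := ded_48_2 (flp_f L122142) (flp_i L121984) L176953
theorem L176965 : sm gh N14313 = N20819 := rfl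
theorem L176967 : sm ga N20819 = N14318 := ded_17_1 (flp_h L122029) (flp_a L121979) L176965
theorem L176972 : sm gj N20819 = N14372 := ded_52_1 (flp_h L122514) (flp_j L121982) L176965
theorem L176974 : sm ge N14314 = N20820 := rfl
theorem L176976 : sm ga N20820 = N14319 := ded_13_1 (flp_e L122038) (flp_a L121990) L176974
theorem L176981 : sm gi N20820 = N14332 := ded_44_2 (flp_e L122161) (flp_i L121997) L176974
theorem L176983 : sm gg N14314 = N20821 := rfl
theorem L176985 : sm ga N20821 = N14320 := ded_15_1 (flp_g L122046) (flp_a L121990) L176983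
theorem L176988 : sm gd N20821 = N14316 := ded_36_1 (flp_g L122007) (flp_d L121993) L176983
theorem L176990 : sm gi N20821 = N14333 := ded_51_2 (flp_g L122168) (flp_i L121997) L176983
theorem L177002 : sm gi N14315 = N20823 := rfl
theorem L177010 : sm gh N20823 = N14335 := ded_54_1 (flp_i L122186) (flp_h L84405) (flp_i L84289) L121999 L177002
theorem L177012 : sm gj N14316 = N20824 := rfl
theorem L177014 : sm ga N20824 = N14323 := ded_16_1 (flp_j L122072) (flp_a L122009) L177012
theorem L177022 : sm gg N20824 = N14377 := ded_49_1 (flp_j L122556) (flp_g L84651) (flp_j L84298) L122007 L177012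
theorem L177024 : sm ge N14317 = N20825 := rfl
theorem L177026 : sm gb N20825 = N14555 := ded_21_1 (flp_e L124065) (flp_b L122019) L177024
theorem L177028 : sm gc N20825 = N14319 := ded_28_1 (flp_e L122038) (flp_c L122021) L177024
theorem L177030 : sm gj N20825 = N14378 := ded_42_2 (flp_e L122567) (flp_j L122025) L177024
theorem L177032 : sm gi N20825 = N14337 := ded_44_2 (flp_e L122206) (flp_i L122027) L177024
theorem L177034 : sm gg N14317 = N20826 := rfl
theorem L177036 : sm gb N20826 = N14556 := ded_23_1 (flp_g L124073) (flp_b L122019) L177034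
theorem L177038 : sm gc N20826 = N14320 := ded_30_1 (flp_g L122046) (flp_c L122021) L177034
theorem L177040 : sm gd N20826 = N15616 := ded_36_1 (flp_g L133099) (flp_d L122023) L177034
theorem L177042 : sm gi N20826 = N14338 := ded_51_2 (flp_g L122214) (flp_i L122027) L177034
theorem L177044 : sm gf N20826 = N20826 := ded_45_1 (flp_g L177034) (flp_f L122017) L84304 L122017 L177034
theorem L177045 : sm gh N14317 = N20827 := rfl
theorem L177047 : sm gb N20827 = N14557 := ded_25_1 (flp_h L124082) (flp_b L122019) L177045
theorem L177049 : sm gc N20827 = N14321 := ded_32_1 (flp_h L122055) (flp_c L122021) L177045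
theorem L177051 : sm gf N20827 = N14318 := ded_47_1 (flp_h L122029) L122017 L177045
theorem L177053 : sm gj N20827 = N14380 := ded_52_1 (flp_h L122587) (flp_j L122025) L177045
theorem L177055 : sm gd N14318 = N20828 := rfl
theorem L177057 : sm gb N20828 = N14558 := ded_20_1 (flp_d L124090) (flp_b L122031) L177055
theorem L177064 : sm gi N14318 = N20829 := rfl
theorem L177066 : sm gb N20829 = N14559 := ded_26_1 (flp_i L124098) (flp_b L122031) L177064
theorem L177068 : sm gc N20829 = N14322 := ded_33_1 (flp_i L122063) (flp_c L122033) L177064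
theorem L177070 : sm gg N20829 = N20829 := ded_51_1 (flp_i L177064) L122035 L177064
theorem L177071 : sm gj N20829 = N14382 := ded_53_1 (flp_i L122603) (flp_j L122036) L177064
theorem L177073 : sm gh N20829 = N14341 := ded_54_1 (flp_i L122243) (flp_h L84433) (flp_i L84307) L122029 L177064
theorem L177075 : sm gg N14319 = N20830 := rfl
theorem L177077 : sm gb N20830 = N14324 := ded_23_1 (flp_g L122083) (flp_b L122040) L177075
theorem L177079 : sm ge N20830 = N14320 := ded_41_1 (flp_g L122046) L122038 L177075
theorem L177081 : sm gi N20830 = N14342 := ded_51_2 (flp_g L122252) (flp_i L122044) L177075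
theorem L177083 : sm gh N14319 = N20831 := rfl
theorem L177085 : sm gb N20831 = N14325 := ded_25_1 (flp_h L122092) (flp_b L122040) L177083
theorem L177087 : sm ge N20831 = N14321 := ded_43_1 (flp_h L122055) L122038 L177083
theorem L177089 : sm gj N20831 = N14384 := ded_52_1 (flp_h L122621) (flp_j L122042) L177083
theorem L177091 : sm gj N14320 = N20832 := rfl
theorem L177093 : sm gb N20832 = N14326 := ded_24_1 (flp_j L122101) (flp_b L122048) L177091
theorem L177095 : sm gd N20832 = N14323 := ded_37_1 (flp_j L122072) (flp_d L122050) L177091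
theorem L177097 : sm gf N20832 = N20832 := ded_46_1 (flp_j L177091) L122054 L177091
theorem L177098 : sm gi N20832 = N14344 := ded_53_2 (flp_j L122266) (flp_i L122052) L177091
theorem L177100 : sm gg N20832 = N14385 := ded_49_1 (flp_j L122627) (flp_g L84686) (flp_j L84319) L122046 L177091
theorem L177102 : sm gh N14320 = N20833 := rfl
theorem L177104 : sm gb N20833 = N14327 := ded_25_1 (flp_h L122113) (flp_b L122048) L177102
theorem L177106 : sm gf N20833 = N20833 := ded_47_1 (flp_h L177102) L122054 L177102
theorem L177107 : sm gg N20833 = N14321 := ded_50_1 (flp_h L122055) L122046 L177102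
theorem L177109 : sm gi N14321 = N20834 := rfl
theorem L177111 : sm gb N20834 = N14328 := ded_26_1 (flp_i L122121) (flp_b L122057) L177109
theorem L177113 : sm gf N20834 = N14322 := ded_48_1 (flp_i L122063) (flp_f L122059) L177109
theorem L177115 : sm gj N20834 = N14387 := ded_53_1 (flp_i L122645) (flp_j L122061) L177109
theorem L177117 : sm gh N20834 = N14346 := ded_54_1 (flp_i L122283) (flp_h L84455) (flp_i L84321) L122055 L177109
theorem L177119 : sm gf N14324 = N20835 := rfl
theorem L177124 : sm gi N20835 = N14347 := ded_48_2 (flp_f L122292) (flp_i L122090) L177119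
theorem L177127 : sm gj N14324 = N20836 := rfl
theorem L177130 : sm gc N20836 = N14566 := ded_31_1 (flp_j L124161) (flp_c L122086) L177127
theorem L177132 : sm ge N20836 = N14326 := ded_42_1 (flp_j L122101) (flp_e L122088) L177127
theorem L177134 : sm gi N20836 = N14348 := ded_53_2 (flp_j L122298) (flp_i L122090) L177127
theorem L177136 : sm gg N20836 = N14389 := ded_49_1 (flp_j L122662) (flp_g L84720) (flp_j L84344) L122083 L177127
theorem L177138 : sm gh N14324 = N20837 := rfl
theorem L177141 : sm gc N20837 = N14567 := ded_32_1 (flp_h L124171) (flp_c L122086) L177138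
theorem L177143 : sm ge N20837 = N14327 := ded_43_1 (flp_h L122113) (flp_e L122088) L177138
theorem L177145 : sm gg N20837 = N14325 := ded_50_1 (flp_h L122092) L122083 L177138
theorem L177147 : sm gd N14325 = N20838 := rfl
theorem L177150 : sm gj N20838 = N14391 := ded_37_2 (flp_d L122680) (flp_j L122099) L177147
theorem L177152 : sm gi N14325 = N20839 := rfl
theorem L177154 : sm ga N20839 = N20839 := ded_18_1 (flp_i L177152) L122094 L177152
theorem L177155 : sm gc N20839 = N14569 := ded_33_1 (flp_i L124185) (flp_c L122095) L177152
theorem L177157 : sm ge N20839 = N14328 := ded_44_1 (flp_i L122121) (flp_e L122097) L177152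
theorem L177159 : sm gj N20839 = N14392 := ded_53_1 (flp_i L122683) (flp_j L122099) L177152
theorem L177161 : sm gh N20839 = N14351 := ded_54_1 (flp_i L122322) (flp_h L84489) (flp_i L84346) L122092 L177152
theorem L177163 : sm gh N14326 = N20840 := rfl
theorem L177166 : sm gc N20840 = N14570 := ded_32_1 (flp_h L124194) (flp_c L122104) L177163
theorem L177173 : sm gi N14327 = N20841 := rfl
theorem L177175 : sm ga N20841 = N20841 := ded_18_1 (flp_i L177173) L122115 L177173
theorem L177176 : sm gc N20841 = N14571 := ded_33_1 (flp_i L124203) (flp_c L122116) L177173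
theorem L177178 : sm gf N20841 = N20841 := ded_48_1 (flp_i L177173) L122118 L177173
theorem L177179 : sm gg N20841 = N14328 := ded_51_1 (flp_i L122121) (flp_g L122119) L177173
theorem L177181 : sm gh N20841 = N14353 := ded_54_1 (flp_i L122342) (flp_h L84508) (flp_i L84355) L122113 L177173
theorem L177183 : sm gf N14329 = N20842 := rfl
theorem L177185 : sm ga N20842 = N14572 := ded_14_1 (flp_f L124212) (flp_a L122139) L177183
theorem L177187 : sm gb N20842 = N14330 := ded_22_1 (flp_f L122142) L122132 L177183
theorem L177189 : sm gc N20842 = N20842 := ded_29_1 (flp_f L177183) L122141 L177183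
theorem L177190 : sm gd N20842 = N15632 := ded_35_1 (flp_f L133256) (flp_d L122134) L177183
theorem L177192 : sm gj N20842 = N14395 := ded_46_2 (flp_f L122712) (flp_j L122137) L177183
theorem L177194 : sm gh N14329 = N20843 := rfl
theorem L177196 : sm ga N20843 = N14573 := ded_17_1 (flp_h L124221) (flp_a L122139) L177194
theorem L177198 : sm gb N20843 = N14331 := ded_25_1 (flp_h L122152) L122132 L177194
theorem L177200 : sm gc N20843 = N20843 := ded_32_1 (flp_h L177194) L122141 L177194
theorem L177201 : sm gg N20843 = N20843 := ded_50_1 (flp_h L177194) L122136 L177194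
theorem L177202 : sm gj N20843 = N14396 := ded_52_1 (flp_h L122721) (flp_j L122137) L177194
theorem L177204 : sm ge N14330 = N20844 := rfl
theorem L177206 : sm ga N20844 = N14337 := ded_13_1 (flp_e L122206) (flp_a L122144) L177204
theorem L177208 : sm gc N20844 = N14332 := ded_28_1 (flp_e L122161) (flp_c L122146) L177204
theorem L177210 : sm gj N20844 = N14397 := ded_42_2 (flp_e L122730) (flp_j L122150) L177204
theorem L177212 : sm gg N14330 = N20845 := rfl
theorem L177214 : sm ga N20845 = N14338 := ded_15_1 (flp_g L122214) (flp_a L122144) L177212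
theorem L177216 : sm gc N20845 = N14333 := ded_30_1 (flp_g L122168) (flp_c L122146) L177212
theorem L177218 : sm gd N20845 = N15635 := ded_36_1 (flp_g L133287) (flp_d L122148) L177212
theorem L177220 : sm gf N20845 = N20845 := ded_45_1 (flp_g L177212) (flp_f L122142) L84391 L122142 L177212
theorem L177221 : sm gh N14330 = N20846 := rfl
theorem L177223 : sm ga N20846 = N14339 := ded_17_1 (flp_h L122223) (flp_a L122144) L177221
theorem L177225 : sm gc N20846 = N14334 := ded_32_1 (flp_h L122176) (flp_c L122146) L177221
theorem L177227 : sm gf N20846 = N14331 := ded_47_1 (flp_h L122152) L122142 L177221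
theorem L177229 : sm gj N20846 = N14399 := ded_52_1 (flp_h L122746) (flp_j L122150) L177221
theorem L177231 : sm gd N14331 = N20847 := rfl
theorem L177233 : sm ga N20847 = N14340 := ded_12_1 (flp_d L122233) (flp_a L122154) L177231
theorem L177235 : sm gg N20847 = N20847 := ded_36_2 (flp_d L177231) L122158 L177231
theorem L177236 : sm gj N20847 = N14400 := ded_37_2 (flp_d L122754) (flp_j L122159) L177231
theorem L177238 : sm gc N20847 = N20847 := ded_27_1 (flp_d L177231) L122156 L84413 (flp_c L122156) L177231
theorem L177239 : sm gh N20847 = N15637 := ded_38_2 (flp_d L133304) (flp_h L91962) (flp_d L84394) L122152 L177231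
theorem L177241 : sm gi N14331 = N20848 := rfl
theorem L177243 : sm ga N20848 = N14341 := ded_18_1 (flp_i L122243) (flp_a L122154) L177241
theorem L177245 : sm gc N20848 = N14335 := ded_33_1 (flp_i L122186) (flp_c L122156) L177241
theorem L177247 : sm gg N20848 = N20848 := ded_51_1 (flp_i L177241) L122158 L177241
theorem L177248 : sm gj N20848 = N14401 := ded_53_1 (flp_i L122763) (flp_j L122159) L177241
theorem L177250 : sm gg N14332 = N20849 := rfl
theorem L177252 : sm ga N20849 = N14342 := ded_15_1 (flp_g L122252) (flp_a L122163) L177250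
theorem L177254 : sm gb N20849 = N20849 := ded_23_1 (flp_g L177250) L122165 L177250
theorem L177255 : sm ge N20849 = N14333 := ded_41_1 (flp_g L122168) L122161 L177250
theorem L177257 : sm gh N14332 = N20850 := rfl
theorem L177259 : sm ga N20850 = N14343 := ded_17_1 (flp_h L122258) (flp_a L122163) L177257
theorem L177261 : sm gb N20850 = N20850 := ded_25_1 (flp_h L177257) L122165 L177257
theorem L177262 : sm ge N20850 = N14334 := ded_43_1 (flp_h L122176) L122161 L177257
theorem L177264 : sm gj N20850 = N14403 := ded_52_1 (flp_h L122778) (flp_j L122166) L177257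
theorem L177266 : sm gj N14333 = N20851 := rfl
theorem L177268 : sm ga N20851 = N14344 := ded_16_1 (flp_j L122266) (flp_a L122170) L177266
theorem L177270 : sm gb N20851 = N20851 := ded_24_1 (flp_j L177266) L122172 L177266
theorem L177271 : sm gd N20851 = N14336 := ded_37_1 (flp_j L122195) (flp_d L122173) L177266
theorem L177273 : sm gf N20851 = N20851 := ded_46_1 (flp_j L177266) L122175 L177266
theorem L177274 : sm gg N20851 = N14404 := ded_49_1 (flp_j L122785) (flp_g L84795) (flp_j L84403) L122168 L177266
theorem L177276 : sm gh N14333 = N20852 := rfl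
theorem L177278 : sm ga N20852 = N14345 := ded_17_1 (flp_h L122275) (flp_a L122170) L177276
theorem L177280 : sm gb N20852 = N20852 := ded_25_1 (flp_h L177276) L122172 L177276
theorem L177281 : sm gf N20852 = N20852 := ded_47_1 (flp_h L177276) L122175 L177276
theorem L177282 : sm gg N20852 = N14334 := ded_50_1 (flp_h L122176) L122168 L177276
theorem L177284 : sm gd N20852 = N20852 := ded_38_1 (flp_h L177276) L122173 L84421 (flp_d L122173) L177276
theorem L177285 : sm gi N14334 = N20853 := rfl
theorem L177287 : sm ga N20853 = N14346 := ded_18_1 (flp_i L122283) (flp_a L122178) L177285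
theorem L177289 : sm gb N20853 = N20853 := ded_26_1 (flp_i L177285) L122180 L177285
theorem L177290 : sm gd N20853 = N20853 := ded_39_1 (flp_i L177285) L122185 L177285
theorem L177291 : sm gf N20853 = N14335 := ded_48_1 (flp_i L122186) (flp_f L122181) L177285
theorem L177293 : sm gj N20853 = N14406 := ded_53_1 (flp_i L122804) (flp_j L122183) L177285
theorem L177295 : sm gd N14337 = N20854 := rfl
theorem L177297 : sm gb N20854 = N14584 := ded_20_1 (flp_d L124324) (flp_b L122208) L177295
theorem L177299 : sm gj N20854 = N14407 := ded_37_2 (flp_d L122812) (flp_j L122212) L177295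
theorem L177301 : sm ge N20854 = N15644 := ded_34_2 (flp_d L133373) (flp_e L92022) (flp_d L84429) L122206 L177295
theorem L177303 : sm gg N14337 = N20855 := rfl
theorem L177305 : sm gb N20855 = N14585 := ded_23_1 (flp_g L124331) (flp_b L122208) L177303
theorem L177307 : sm gc N20855 = N14342 := ded_30_1 (flp_g L122252) (flp_c L122210) L177303
theorem L177309 : sm ge N20855 = N14338 := ded_41_1 (flp_g L122214) L122206 L177303
theorem L177311 : sm gh N14337 = N20856 := rfl
theorem L177313 : sm gb N20856 = N14586 := ded_25_1 (flp_h L124337) (flp_b L122208) L177311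
theorem L177315 : sm gc N20856 = N14343 := ded_32_1 (flp_h L122258) (flp_c L122210) L177311
theorem L177317 : sm ge N20856 = N14339 := ded_43_1 (flp_h L122223) L122206 L177311
theorem L177319 : sm gj N20856 = N14409 := ded_52_1 (flp_h L122826) (flp_j L122212) L177311
theorem L177321 : sm gj N14338 = N20857 := rfl
theorem L177323 : sm gb N20857 = N14587 := ded_24_1 (flp_j L124345) (flp_b L122216) L177321
theorem L177325 : sm gc N20857 = N14344 := ded_31_1 (flp_j L122266) (flp_c L122218) L177321
theorem L177330 : sm gg N20857 = N14410 := ded_49_1 (flp_j L122834) (flp_g L84836) (flp_j L84431) L122214 L177321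
theorem L177332 : sm gh N14338 = N20858 := rfl
theorem L177334 : sm gb N20858 = N14588 := ded_25_1 (flp_h L124354) (flp_b L122216) L177332
theorem L177336 : sm gc N20858 = N14345 := ded_32_1 (flp_h L122275) (flp_c L122218) L177332
theorem L177338 : sm gf N20858 = N20858 := ded_47_1 (flp_h L177332) L122222 L177332
theorem L177339 : sm gg N20858 = N14339 := ded_50_1 (flp_h L122223) L122214 L177332
theorem L177341 : sm gd N14339 = N20859 := rfl
theorem L177343 : sm gb N20859 = N14589 := ded_20_1 (flp_d L124361) (flp_b L122225) L177341
theorem L177345 : sm gf N20859 = N14340 := ded_35_2 (flp_d L122233) (flp_f L122229) L177341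
theorem L177347 : sm gj N20859 = N14412 := ded_37_2 (flp_d L122854) (flp_j L122231) L177341
theorem L177349 : sm gc N20859 = N20859 := ded_27_1 (flp_d L177341) L122227 L84463 (flp_c L122227) L177341
theorem L177350 : sm gh N20859 = N15649 := ded_38_2 (flp_d L133417) (flp_h L92038) (flp_d L84429) L122223 L177341
theorem L177352 : sm gi N14339 = N20860 := rfl
theorem L177354 : sm gb N20860 = N14590 := ded_26_1 (flp_i L124371) (flp_b L122225) L177352
theorem L177356 : sm gc N20860 = N14346 := ded_33_1 (flp_i L122283) (flp_c L122227) L177352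
theorem L177358 : sm gf N20860 = N14341 := ded_48_1 (flp_i L122243) (flp_f L122229) L177352
theorem L177360 : sm gj N20860 = N14413 := ded_53_1 (flp_i L122863) (flp_j L122231) L177352
theorem L177362 : sm ge N14340 = N20861 := rfl
theorem L177364 : sm gb N20861 = N14591 := ded_21_1 (flp_e L124379) (flp_b L122235) L177362
theorem L177366 : sm gc N20861 = N20861 := ded_28_1 (flp_e L177362) L122240 L177362
theorem L177367 : sm gg N20861 = N20861 := ded_41_2 (flp_e L177362) L122237 L177362
theorem L177368 : sm gj N20861 = N14414 := ded_42_2 (flp_e L122871) (flp_j L122238) L177362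
theorem L177370 : sm gh N20861 = N15651 := ded_43_2 (flp_e L133436) (flp_h L122241) L177362
theorem L177372 : sm gi N14340 = N20862 := rfl
theorem L177374 : sm gb N20862 = N14592 := ded_26_1 (flp_i L124388) (flp_b L122235) L177372
theorem L177376 : sm gc N20862 = N20862 := ded_33_1 (flp_i L177372) L122240 L177372
theorem L177377 : sm gd N20862 = N14341 := ded_39_1 (flp_i L122243) L122233 L177372
theorem L177379 : sm gg N20862 = N20862 := ded_51_1 (flp_i L177372) L122237 L177372
theorem L177380 : sm gj N20862 = N14415 := ded_53_1 (flp_i L122880) (flp_j L122238) L177372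
theorem L177382 : sm gf N14342 = N20863 := rfl
theorem L177384 : sm gb N20863 = N14347 := ded_22_1 (flp_f L122292) (flp_b L122254) L177382
theorem L177386 : sm ge N20863 = N20863 := ded_40_1 (flp_f L177382) L122256 L84454 (flp_e L122256) L177382
theorem L177387 : sm gj N14342 = N20864 := rfl
theorem L177389 : sm gb N20864 = N14348 := ded_24_1 (flp_j L122298) (flp_b L122254) L177387
theorem L177391 : sm ge N20864 = N14344 := ded_42_1 (flp_j L122266) (flp_e L122256) L177387
theorem L177393 : sm gg N20864 = N14417 := ded_49_1 (flp_j L122895) (flp_g L84871) (flp_j L84446) L122252 L177387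
theorem L177395 : sm gh N14342 = N20865 := rfl
theorem L177397 : sm gb N20865 = N14349 := ded_25_1 (flp_h L122307) (flp_b L122254) L177395
theorem L177399 : sm ge N20865 = N14345 := ded_43_1 (flp_h L122275) (flp_e L122256) L177395
theorem L177401 : sm gg N20865 = N14343 := ded_50_1 (flp_h L122258) L122252 L177395
theorem L177403 : sm gd N14343 = N20866 := rfl
theorem L177405 : sm gb N20866 = N14350 := ded_20_1 (flp_d L122316) (flp_b L122260) L177403
theorem L177407 : sm gj N20866 = N14419 := ded_37_2 (flp_d L122909) (flp_j L122264) L177403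
theorem L177409 : sm ge N20866 = N20866 := ded_34_2 (flp_d L177403) L122262 L84463 (flp_e L122262) L177403
theorem L177410 : sm gi N14343 = N20867 := rfl
theorem L177412 : sm gb N20867 = N14351 := ded_26_1 (flp_i L122322) (flp_b L122260) L177410
theorem L177414 : sm ge N20867 = N14346 := ded_44_1 (flp_i L122283) (flp_e L122262) L177410
theorem L177416 : sm gj N20867 = N14420 := ded_53_1 (flp_i L122914) (flp_j L122264) L177410
theorem L177418 : sm gh N14344 = N20868 := rfl
theorem L177420 : sm gb N20868 = N14352 := ded_25_1 (flp_h L122331) (flp_b L122268) L177418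
theorem L177422 : sm gf N20868 = N20868 := ded_47_1 (flp_h L177418) L122272 L177418
theorem L177423 : sm gg N20868 = N14421 := ded_50_1 (flp_h L122920) (flp_g L122273) L177418
theorem L177425 : sm gj N20868 = N14345 := ded_52_1 (flp_h L122275) L122266 L177418
theorem L177427 : sm gd N20868 = N20868 := ded_38_1 (flp_h L177418) L122270 L84479 (flp_d L122270) L177418
theorem L177428 : sm gi N14345 = N20869 := rfl
theorem L177430 : sm gb N20869 = N14353 := ded_26_1 (flp_i L122342) (flp_b L122277) L177428
theorem L177432 : sm gd N20869 = N20869 := ded_39_1 (flp_i L177428) L122282 L177428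
theorem L177433 : sm gf N20869 = N20869 := ded_48_1 (flp_i L177428) L122279 L177428
theorem L177434 : sm gg N20869 = N14346 := ded_51_1 (flp_i L122283) (flp_g L122280) L177428
theorem L177436 : sm gj N14347 = N20870 := rfl
theorem L177439 : sm gc N20870 = N14600 := ded_31_1 (flp_j L124457) (flp_c L122295) L177436
theorem L177442 : sm gf N20870 = N14348 := ded_46_1 (flp_j L122298) L122292 L177436
theorem L177444 : sm gh N14347 = N20871 := rfl
theorem L177446 : sm ga N20871 = N20871 := ded_17_1 (flp_h L177444) L122294 L177444
theorem L177447 : sm gc N20871 = N14601 := ded_32_1 (flp_h L124464) (flp_c L122295) L177444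
theorem L177449 : sm ge N20871 = N20871 := ded_43_1 (flp_h L177444) L122297 L177444
theorem L177450 : sm gf N20871 = N14349 := ded_47_1 (flp_h L122307) L122292 L177444
theorem L177452 : sm gh N14348 = N20872 := rfl
theorem L177454 : sm ga N20872 = N20872 := ded_17_1 (flp_h L177452) L122300 L177452
theorem L177455 : sm gc N20872 = N14602 := ded_32_1 (flp_h L124470) (flp_c L122301) L177452
theorem L177457 : sm ge N20872 = N14352 := ded_43_1 (flp_h L122331) (flp_e L122303) L177452
theorem L177459 : sm gg N20872 = N14425 := ded_50_1 (flp_h L122956) (flp_g L122305) L177452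
theorem L177461 : sm gj N20872 = N14349 := ded_52_1 (flp_h L122307) L122298 L177452
theorem L177463 : sm gd N14349 = N20873 := rfl
theorem L177465 : sm ga N20873 = N20873 := ded_12_1 (flp_d L177463) L122309 L177463
theorem L177466 : sm gg N20873 = N14350 := ded_36_2 (flp_d L122316) (flp_g L122314) L177463
theorem L177468 : sm ge N20873 = N20873 := ded_34_2 (flp_d L177463) L122312 L84516 (flp_e L122312) L177463
theorem L177469 : sm gi N14349 = N20874 := rfl
theorem L177471 : sm ga N20874 = N20874 := ded_18_1 (flp_i L177469) L122309 L177469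
theorem L177472 : sm gc N20874 = N14604 := ded_33_1 (flp_i L124487) (flp_c L122310) L177469
theorem L177474 : sm ge N20874 = N14353 := ded_44_1 (flp_i L122342) (flp_e L122312) L177469
theorem L177476 : sm gg N20874 = N14351 := ded_51_1 (flp_i L122322) (flp_g L122314) L177469
theorem L177478 : sm gc N14350 = N20875 := rfl
theorem L177480 : sm ga N20875 = N20875 := ded_11_1 (flp_c L177478) L122318 L177478
theorem L177481 : sm ge N20875 = N20875 := ded_28_2 (flp_c L177478) L122321 L177478
theorem L177482 : sm gj N20875 = N14428 := ded_31_2 (flp_c L122980) (flp_j L122319) L177478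
theorem L177484 : sm gd N20875 = N14605 := ded_27_2 (flp_c L124494) (flp_d L85937) (flp_c L84492) L122316 L177478
theorem L177486 : sm gi N14350 = N20876 := rfl
theorem L177488 : sm ga N20876 = N20876 := ded_18_1 (flp_i L177486) L122318 L177486
theorem L177489 : sm gd N20876 = N14351 := ded_39_1 (flp_i L122322) L122316 L177486
theorem L177491 : sm ge N20876 = N20876 := ded_44_1 (flp_i L177486) L122321 L177486
theorem L177492 : sm gj N20876 = N14429 := ded_53_1 (flp_i L122986) (flp_j L122319) L177486
theorem L177494 : sm gi N14352 = N20877 := rfl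
theorem L177496 : sm ga N20877 = N20877 := ded_18_1 (flp_i L177494) L122333 L177494
theorem L177497 : sm gc N20877 = N14607 := ded_33_1 (flp_i L124511) (flp_c L122334) L177494
theorem L177499 : sm gd N20877 = N20877 := ded_39_1 (flp_i L177494) L122341 L177494
theorem L177500 : sm gf N20877 = N20877 := ded_48_1 (flp_i L177494) L122336 L177494
theorem L177501 : sm gg N20877 = N14430 := ded_51_1 (flp_i L122992) (flp_g L122337) L177494
theorem L177503 : sm gj N20877 = N14353 := ded_53_1 (flp_i L122342) (flp_j L122339) L177494
theorem L177515 : sm gf N14354 = N20879 := rfl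
theorem L177519 : sm gc N20879 = N14355 := ded_29_1 (flp_f L122361) L122351 L177515
theorem L177521 : sm gd N20879 = N15685 := ded_35_1 (flp_f L133745) (flp_d L122359) L177515
theorem L177524 : sm gh N14354 = N20880 := rfl
theorem L177533 : sm ge N14355 = N20881 := rfl
theorem L177535 : sm ga N20881 = N14360 := ded_13_1 (flp_e L122407) (flp_a L122363) L177533
theorem L177540 : sm gg N14355 = N20882 := rfl
theorem L177545 : sm gd N20882 = N14357 := ded_36_1 (flp_g L122379) (flp_d L122366) L177540
theorem L177548 : sm gf N20882 = N14435 := ded_45_1 (flp_g L123038) (flp_f L84970) (flp_g L84532) L122361 L177540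
theorem L177550 : sm gh N14355 = N20883 := rfl
theorem L177557 : sm gd N20883 = N14375 := ded_38_1 (flp_h L122540) L84640 (flp_h L84543) (flp_d L122366) L177550
theorem L177570 : sm gj N14357 = N20885 := rfl
theorem L177579 : sm gh N20885 = N14377 := ded_52_2 (flp_j L122556) (flp_h L122386) L177570
theorem L177582 : sm ge N14358 = N20886 := rfl
theorem L177585 : sm gc N20886 = N14360 := ded_28_1 (flp_e L122407) (flp_c L122394) L177582
theorem L177599 : sm gh N14358 = N20888 := rfl
theorem L177602 : sm gc N20888 = N14362 := ded_32_1 (flp_h L122422) (flp_c L122394) L177599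
theorem L177606 : sm gd N14359 = N20889 := rfl
theorem L177609 : sm gg N20889 = N14442 := ded_36_2 (flp_d L123102) (flp_g L122405) L177606
theorem L177611 : sm gc N20889 = N14381 := ded_27_1 (flp_d L122595) L84676 (flp_d L84569) (flp_c L122402) L177606
theorem L177624 : sm gg N14360 = N20891 := rfl
theorem L177626 : sm gb N20891 = N14365 := ded_23_1 (flp_g L122451) (flp_b L122409) L177624
theorem L177628 : sm ge N20891 = N14361 := ded_41_1 (flp_g L122413) L122407 L177624
theorem L177631 : sm gh N14360 = N20892 := rfl
theorem L177633 : sm gb N20892 = N14366 := ded_25_1 (flp_h L122458) (flp_b L122409) L177631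
theorem L177635 : sm ge N20892 = N14362 := ded_43_1 (flp_h L122422) L122407 L177631
theorem L177638 : sm gj N14361 = N20893 := rfl
theorem L177640 : sm gb N20893 = N14367 := ded_24_1 (flp_j L122465) (flp_b L122415) L177638
theorem L177647 : sm gh N14361 = N20894 := rfl
theorem L177649 : sm gb N20894 = N14368 := ded_25_1 (flp_h L122474) (flp_b L122415) L177647
theorem L177653 : sm gg N20894 = N14362 := ded_50_1 (flp_h L122422) L122413 L177647
theorem L177655 : sm gd N20894 = N14386 := ded_38_1 (flp_h L122637) L84690 (flp_h L84577) (flp_d L122417) L177647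
theorem L177657 : sm gi N14362 = N20895 := rfl
theorem L177666 : sm gf N14365 = N20896 := rfl
theorem L177674 : sm gj N14365 = N20897 := rfl
theorem L177681 : sm gh N14365 = N20898 := rfl
theorem L177685 : sm ge N20898 = N14368 := ded_43_1 (flp_h L122474) (flp_e L122455) L177681
theorem L177687 : sm gg N20898 = N14366 := ded_50_1 (flp_h L122458) L122451 L177681
theorem L177689 : sm gd N14366 = N20899 := rfl
theorem L177693 : sm ge N20899 = N14391 := ded_34_2 (flp_d L122680) L84734 (flp_d L84603) (flp_e L122462) L177689
theorem L177695 : sm gi N14366 = N20900 := rfl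
theorem L177697 : sm ga N20900 = N20900 := ded_18_1 (flp_i L177695) L122460 L177695
theorem L177698 : sm gc N20900 = N20900 := ded_33_1 (flp_i L177695) L122461 L177695
theorem L177699 : sm ge N20900 = N14369 := ded_44_1 (flp_i L122484) (flp_e L122462) L177695
theorem L177701 : sm gf N20900 = N20900 := ded_48_1 (flp_i L177695) L122464 L177695
theorem L177702 : sm gh N20900 = N20900 := ded_54_1 (flp_i L177695) (flp_h L122458) L84586 L122458 L177695
theorem L177703 : sm gh N14367 = N20901 := rfl
theorem L177707 : sm gf N20901 = N14454 := ded_47_1 (flp_h L123201) (flp_f L122471) L177703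
theorem L177709 : sm gj N20901 = N14368 := ded_52_1 (flp_h L122474) L122465 L177703
theorem L177711 : sm gd N20901 = N14393 := ded_38_1 (flp_h L122692) L84741 (flp_h L84622) (flp_d L122469) L177703
theorem L177713 : sm gi N14368 = N20902 := rfl
theorem L177715 : sm ga N20902 = N20902 := ded_18_1 (flp_i L177713) L122476 L177713
theorem L177716 : sm gc N20902 = N20902 := ded_33_1 (flp_i L177713) L122477 L177713
theorem L177717 : sm gd N20902 = N14394 := ded_39_1 (flp_i L122701) (flp_d L122482) L177713
theorem L177719 : sm gf N20902 = N14455 := ded_48_1 (flp_i L123210) (flp_f L122478) L177713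
theorem L177721 : sm gg N20902 = N14369 := ded_51_1 (flp_i L122484) (flp_g L122480) L177713
theorem L177723 : sm gh N20902 = N20902 := ded_54_1 (flp_i L177713) (flp_h L122474) L84594 L122474 L177713
theorem L177724 : sm gf N14370 = N20903 := rfl
theorem L177726 : sm ga N20903 = N14608 := ded_14_1 (flp_f L124521) (flp_a L122501) L177724
theorem L177728 : sm gb N20903 = N14371 := ded_22_1 (flp_f L122504) L122493 L177724
theorem L177731 : sm gd N20903 = N15709 := ded_35_1 (flp_f L133949) (flp_d L122495) L177724
theorem L177733 : sm gi N20903 = N14395 := ded_48_2 (flp_f L122712) (flp_i L122499) L177724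
theorem L177744 : sm ge N14371 = N20905 := rfl
theorem L177746 : sm ga N20905 = N14378 := ded_13_1 (flp_e L122567) (flp_a L122506) L177744
theorem L177748 : sm gc N20905 = N14373 := ded_28_1 (flp_e L122522) (flp_c L122508) L177744
theorem L177750 : sm gi N20905 = N14397 := ded_44_2 (flp_e L122730) (flp_i L122512) L177744
theorem L177752 : sm gg N14371 = N20906 := rfl
theorem L177760 : sm gi N20906 = N14398 := ded_51_2 (flp_g L122736) (flp_i L122512) L177752
theorem L177762 : sm gf N20906 = N14459 := ded_45_1 (flp_g L123248) (flp_f L85111) (flp_g L84629) L122504 L177752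
theorem L177764 : sm gh N14371 = N20907 := rfl
theorem L177766 : sm ga N20907 = N14380 := ded_17_1 (flp_h L122587) (flp_a L122506) L177764
theorem L177772 : sm gd N14372 = N20908 := rfl
theorem L177774 : sm ga N20908 = N14381 := ded_12_1 (flp_d L122595) (flp_a L122516) L177772
theorem L177778 : sm gh N20908 = N15714 := ded_38_2 (flp_d L133997) (flp_h L92432) (flp_d L84633) L122514 L177772
theorem L177780 : sm gi N14372 = N20909 := rfl
theorem L177786 : sm gg N20909 = N14462 := ded_51_1 (flp_i L123274) (flp_g L122520) L177780
theorem L177788 : sm gh N20909 = N14401 := ded_54_1 (flp_i L122763) (flp_h L84782) (flp_i L84631) L122514 L177780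
theorem L177790 : sm gg N14373 = N20910 := rfl
theorem L177792 : sm ga N20910 = N14383 := ded_15_1 (flp_g L122613) (flp_a L122524) L177790
theorem L177795 : sm ge N20910 = N14374 := ded_41_1 (flp_g L122529) L122522 L177790
theorem L177797 : sm gi N20910 = N14402 := ded_51_2 (flp_g L122771) (flp_i L122527) L177790
theorem L177799 : sm gh N14373 = N20911 := rfl
theorem L177801 : sm ga N20911 = N14384 := ded_17_1 (flp_h L122621) (flp_a L122524) L177799
theorem L177804 : sm ge N20911 = N14375 := ded_43_1 (flp_h L122540) L122522 L177799
theorem L177806 : sm gj N14374 = N20912 := rfl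
theorem L177808 : sm ga N20912 = N14385 := ded_16_1 (flp_j L122627) (flp_a L122531) L177806
theorem L177811 : sm gd N20912 = N14377 := ded_37_1 (flp_j L122556) (flp_d L122534) L177806
theorem L177813 : sm gf N20912 = N14465 := ded_46_1 (flp_j L123301) (flp_f L122538) L177806
theorem L177815 : sm gi N20912 = N14404 := ded_53_2 (flp_j L122785) (flp_i L122536) L177806
theorem L177817 : sm gh N14374 = N20913 := rfl
theorem L177819 : sm ga N20913 = N14386 := ded_17_1 (flp_h L122637) (flp_a L122531) L177817
theorem L177826 : sm gi N14375 = N20914 := rfl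
theorem L177833 : sm gh N20914 = N14406 := ded_54_1 (flp_i L122804) (flp_h L84804) (flp_i L84642) L122540 L177826
theorem L177835 : sm gd N14378 = N20915 := rfl
theorem L177837 : sm gb N20915 = N14620 := ded_20_1 (flp_d L124632) (flp_b L122569) L177835
theorem L177839 : sm gi N20915 = N14407 := ded_39_2 (flp_d L122812) (flp_i L122573) L177835
theorem L177841 : sm ge N20915 = N15721 := ded_34_2 (flp_d L134065) (flp_e L92491) (flp_d L84668) L122567 L177835
theorem L177843 : sm gg N14378 = N20916 := rfl
theorem L177845 : sm gb N20916 = N14621 := ded_23_1 (flp_g L124639) (flp_b L122569) L177843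
theorem L177847 : sm gc N20916 = N14383 := ded_30_1 (flp_g L122613) (flp_c L122571) L177843
theorem L177849 : sm ge N20916 = N14379 := ded_41_1 (flp_g L122575) L122567 L177843
theorem L177851 : sm gi N20916 = N14408 := ded_51_2 (flp_g L122818) (flp_i L122573) L177843
theorem L177853 : sm gh N14378 = N20917 := rfl
theorem L177855 : sm gb N20917 = N14622 := ded_25_1 (flp_h L124647) (flp_b L122569) L177853
theorem L177857 : sm gc N20917 = N14384 := ded_32_1 (flp_h L122621) (flp_c L122571) L177853
theorem L177859 : sm ge N20917 = N14380 := ded_43_1 (flp_h L122587) L122567 L177853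
theorem L177861 : sm gj N14379 = N20918 := rfl
theorem L177863 : sm gb N20918 = N14623 := ded_24_1 (flp_j L124653) (flp_b L122577) L177861
theorem L177865 : sm gc N20918 = N14385 := ded_31_1 (flp_j L122627) (flp_c L122579) L177861
theorem L177867 : sm gd N20918 = N15724 := ded_37_1 (flp_j L134091) (flp_d L122581) L177861
theorem L177869 : sm gf N20918 = N14471 := ded_46_1 (flp_j L123357) (flp_f L122585) L177861
theorem L177871 : sm gi N20918 = N14410 := ded_53_2 (flp_j L122834) (flp_i L122583) L177861
theorem L177873 : sm gh N14379 = N20919 := rfl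
theorem L177875 : sm gb N20919 = N14624 := ded_25_1 (flp_h L124663) (flp_b L122577) L177873
theorem L177877 : sm gc N20919 = N14386 := ded_32_1 (flp_h L122637) (flp_c L122579) L177873
theorem L177879 : sm gf N20919 = N14472 := ded_47_1 (flp_h L123368) (flp_f L122585) L177873
theorem L177881 : sm gg N20919 = N14380 := ded_50_1 (flp_h L122587) L122575 L177873
theorem L177883 : sm gd N14380 = N20920 := rfl
theorem L177885 : sm gb N20920 = N14625 := ded_20_1 (flp_d L124671) (flp_b L122589) L177883
theorem L177891 : sm gi N14380 = N20921 := rfl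
theorem L177893 : sm gb N20921 = N14626 := ded_26_1 (flp_i L124678) (flp_b L122589) L177891
theorem L177895 : sm gc N20921 = N14387 := ded_33_1 (flp_i L122645) (flp_c L122591) L177891
theorem L177897 : sm gf N20921 = N14382 := ded_48_1 (flp_i L122603) (flp_f L122593) L177891
theorem L177899 : sm gh N20921 = N14413 := ded_54_1 (flp_i L122863) (flp_h L84846) (flp_i L84670) L122587 L177891
theorem L177901 : sm ge N14381 = N20922 := rfl
theorem L177905 : sm gg N20922 = N14475 := ded_41_2 (flp_e L123396) (flp_g L122599) L177901
theorem L177907 : sm gh N20922 = N15728 := ded_43_2 (flp_e L134127) (flp_h L122601) L177901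
theorem L177909 : sm gi N14381 = N20923 := rfl
theorem L177917 : sm gf N14383 = N20924 := rfl
theorem L177919 : sm gb N20924 = N14388 := ded_22_1 (flp_f L122653) (flp_b L122615) L177917
theorem L177921 : sm gi N20924 = N14416 := ded_48_2 (flp_f L122889) (flp_i L122619) L177917
theorem L177923 : sm ge N20924 = N14477 := ded_40_1 (flp_f L123410) L85223 (flp_f L84694) (flp_e L122617) L177917
theorem L177925 : sm gj N14383 = N20925 := rfl
theorem L177927 : sm gb N20925 = N14389 := ded_24_1 (flp_j L122662) (flp_b L122615) L177925
theorem L177929 : sm ge N20925 = N14385 := ded_42_1 (flp_j L122627) (flp_e L122617) L177925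
theorem L177931 : sm gi N20925 = N14417 := ded_53_2 (flp_j L122895) (flp_i L122619) L177925
theorem L177933 : sm gh N14383 = N20926 := rfl
theorem L177935 : sm gb N20926 = N14390 := ded_25_1 (flp_h L122671) (flp_b L122615) L177933
theorem L177937 : sm ge N20926 = N14386 := ded_43_1 (flp_h L122637) (flp_e L122617) L177933
theorem L177939 : sm gg N20926 = N14384 := ded_50_1 (flp_h L122621) L122613 L177933
theorem L177941 : sm gd N14384 = N20927 := rfl
theorem L177943 : sm gb N20927 = N14391 := ded_20_1 (flp_d L122680) (flp_b L122623) L177941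
theorem L177945 : sm gi N14384 = N20928 := rfl
theorem L177947 : sm gb N20928 = N14392 := ded_26_1 (flp_i L122683) (flp_b L122623) L177945
theorem L177949 : sm ge N20928 = N14387 := ded_44_1 (flp_i L122645) (flp_e L122625) L177945
theorem L177951 : sm gh N20928 = N14420 := ded_54_1 (flp_i L122914) (flp_h L84877) (flp_i L84684) L122621 L177945
theorem L177953 : sm gh N14385 = N20929 := rfl
theorem L177955 : sm gb N20929 = N14393 := ded_25_1 (flp_h L122692) (flp_b L122629) L177953
theorem L177957 : sm gf N20929 = N14482 := ded_47_1 (flp_h L123450) (flp_f L122633) L177953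
theorem L177959 : sm gj N20929 = N14386 := ded_52_1 (flp_h L122637) L122627 L177953
theorem L177961 : sm gi N14386 = N20930 := rfl
theorem L177963 : sm gb N20930 = N14394 := ded_26_1 (flp_i L122701) (flp_b L122639) L177961
theorem L177965 : sm gf N20930 = N14483 := ded_48_1 (flp_i L123457) (flp_f L122641) L177961
theorem L177967 : sm gg N20930 = N14387 := ded_51_1 (flp_i L122645) (flp_g L122643) L177961
theorem L177969 : sm gh N20930 = N14422 := ded_54_1 (flp_i L122929) (flp_h L84891) (flp_i L84692) L122637 L177961
theorem L177971 : sm gj N14388 = N20931 := rfl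
theorem L177973 : sm ga N20931 = N20931 := ded_16_1 (flp_j L177971) L122655 L177971
theorem L177974 : sm gc N20931 = N14636 := ded_31_1 (flp_j L124760) (flp_c L122656) L177971
theorem L177976 : sm ge N20931 = N14484 := ded_42_1 (flp_j L123465) (flp_e L122660) L177971
theorem L177978 : sm gf N20931 = N14389 := ded_46_1 (flp_j L122662) L122653 L177971
theorem L177980 : sm gi N20931 = N14423 := ded_53_2 (flp_j L122938) (flp_i L122658) L177971
theorem L177982 : sm gh N14388 = N20932 := rfl
theorem L177984 : sm ga N20932 = N20932 := ded_17_1 (flp_h L177982) L122655 L177982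
theorem L177985 : sm gc N20932 = N14637 := ded_32_1 (flp_h L124770) (flp_c L122656) L177982
theorem L177987 : sm ge N20932 = N14485 := ded_43_1 (flp_h L123475) (flp_e L122660) L177982
theorem L177989 : sm gf N20932 = N14390 := ded_47_1 (flp_h L122671) L122653 L177982
theorem L177991 : sm gh N14389 = N20933 := rfl
theorem L177994 : sm gc N20933 = N14638 := ded_32_1 (flp_h L124777) (flp_c L122665) L177991
theorem L177996 : sm ge N20933 = N14393 := ded_43_1 (flp_h L122692) (flp_e L122667) L177991
theorem L177998 : sm gj N20933 = N14390 := ded_52_1 (flp_h L122671) L122662 L177991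
theorem L178000 : sm gd N14390 = N20934 := rfl
theorem L178003 : sm gg N20934 = N14391 := ded_36_2 (flp_d L122680) (flp_g L122678) L178000
theorem L178005 : sm gi N14390 = N20935 := rfl
theorem L178007 : sm ga N20935 = N20935 := ded_18_1 (flp_i L178005) L122673 L178005
theorem L178008 : sm gc N20935 = N14640 := ded_33_1 (flp_i L124791) (flp_c L122674) L178005
theorem L178010 : sm ge N20935 = N14394 := ded_44_1 (flp_i L122701) (flp_e L122676) L178005
theorem L178012 : sm gg N20935 = N14392 := ded_51_1 (flp_i L122683) (flp_g L122678) L178005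
theorem L178014 : sm gh N20935 = N14427 := ded_54_1 (flp_i L122971) (flp_h L84921) (flp_i L84727) L122671 L178005
theorem L178016 : sm gc N14391 = N20936 := rfl
theorem L178019 : sm gd N20936 = N14641 := ded_27_2 (flp_c L124800) (flp_d L86150) (flp_c L84732) L122680 L178016
theorem L178021 : sm gi N14391 = N20937 := rfl
theorem L178023 : sm ga N20937 = N20937 := ded_18_1 (flp_i L178021) L122682 L178021
theorem L178024 : sm gd N20937 = N14392 := ded_39_1 (flp_i L122683) L122680 L178021
theorem L178026 : sm gi N14393 = N20938 := rfl
theorem L178028 : sm ga N20938 = N20938 := ded_18_1 (flp_i L178026) L122694 L178026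
theorem L178029 : sm gc N20938 = N14643 := ded_33_1 (flp_i L124811) (flp_c L122695) L178026
theorem L178031 : sm gf N20938 = N14491 := ded_48_1 (flp_i L123522) (flp_f L122697) L178026
theorem L178033 : sm gj N20938 = N14394 := ded_53_1 (flp_i L122701) (flp_j L122699) L178026
theorem L178035 : sm gh N20938 = N14430 := ded_54_1 (flp_i L122992) (flp_h L84941) (flp_i L84745) L122692 L178026
theorem L178037 : sm ge N14395 = N20939 := rfl
theorem L178039 : sm ga N20939 = N14644 := ded_13_1 (flp_e L124821) (flp_a L122714) L178037
theorem L178041 : sm gb N20939 = N14397 := ded_21_1 (flp_e L122730) (flp_b L122716) L178037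
theorem L178043 : sm gc N20939 = N20939 := ded_28_1 (flp_e L178037) L122718 L178037
theorem L178044 : sm gg N14395 = N20940 := rfl
theorem L178046 : sm ga N20940 = N14645 := ded_15_1 (flp_g L124826) (flp_a L122714) L178044
theorem L178048 : sm gb N20940 = N14398 := ded_23_1 (flp_g L122736) (flp_b L122716) L178044
theorem L178050 : sm gc N20940 = N20940 := ded_30_1 (flp_g L178044) L122718 L178044
theorem L178051 : sm gd N20940 = N15746 := ded_36_1 (flp_g L134285) (flp_d L122719) L178044
theorem L178053 : sm gf N20940 = N14493 := ded_45_1 (flp_g L123540) (flp_f L85318) (flp_g L84769) L122712 L178044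
theorem L178055 : sm gh N14395 = N20941 := rfl
theorem L178057 : sm ga N20941 = N14646 := ded_17_1 (flp_h L124835) (flp_a L122714) L178055
theorem L178059 : sm gb N20941 = N14399 := ded_25_1 (flp_h L122746) (flp_b L122716) L178055
theorem L178061 : sm gc N20941 = N20941 := ded_32_1 (flp_h L178055) L122718 L178055
theorem L178062 : sm gf N20941 = N14396 := ded_47_1 (flp_h L122721) L122712 L178055
theorem L178064 : sm gd N14396 = N20942 := rfl
theorem L178066 : sm ga N20942 = N14647 := ded_12_1 (flp_d L124842) (flp_a L122723) L178064
theorem L178068 : sm gb N20942 = N14400 := ded_20_1 (flp_d L122754) (flp_b L122725) L178064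
theorem L178070 : sm gg N20942 = N14495 := ded_36_2 (flp_d L123559) (flp_g L122728) L178064
theorem L178074 : sm gi N14396 = N20943 := rfl
theorem L178076 : sm ga N20943 = N14648 := ded_18_1 (flp_i L124850) (flp_a L122723) L178074
theorem L178078 : sm gb N20943 = N14401 := ded_26_1 (flp_i L122763) (flp_b L122725) L178074
theorem L178080 : sm gc N20943 = N20943 := ded_33_1 (flp_i L178074) L122727 L178074
theorem L178081 : sm gg N20943 = N14496 := ded_51_1 (flp_i L123568) (flp_g L122728) L178074
theorem L178083 : sm gd N14397 = N20944 := rfl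
theorem L178085 : sm ga N20944 = N14407 := ded_12_1 (flp_d L122812) (flp_a L122732) L178083
theorem L178087 : sm ge N20944 = N15750 := ded_34_2 (flp_d L134324) (flp_e L92664) (flp_d L84780) L122730 L178083
theorem L178089 : sm gg N14397 = N20945 := rfl
theorem L178091 : sm ga N20945 = N14408 := ded_15_1 (flp_g L122818) (flp_a L122732) L178089
theorem L178093 : sm gc N20945 = N14402 := ded_30_1 (flp_g L122771) (flp_c L122734) L178089
theorem L178095 : sm ge N20945 = N14398 := ded_41_1 (flp_g L122736) L122730 L178089
theorem L178097 : sm gh N14397 = N20946 := rfl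
theorem L178099 : sm ga N20946 = N14409 := ded_17_1 (flp_h L122826) (flp_a L122732) L178097
theorem L178101 : sm gc N20946 = N14403 := ded_32_1 (flp_h L122778) (flp_c L122734) L178097
theorem L178103 : sm ge N20946 = N14399 := ded_43_1 (flp_h L122746) L122730 L178097
theorem L178105 : sm gj N14398 = N20947 := rfl
theorem L178107 : sm ga N20947 = N14410 := ded_16_1 (flp_j L122834) (flp_a L122738) L178105
theorem L178109 : sm gc N20947 = N14404 := ded_31_1 (flp_j L122785) (flp_c L122740) L178105
theorem L178111 : sm gd N20947 = N15753 := ded_37_1 (flp_j L134346) (flp_d L122742) L178105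
theorem L178113 : sm gf N20947 = N14500 := ded_46_1 (flp_j L123601) (flp_f L122744) L178105
theorem L178115 : sm gh N14398 = N20948 := rfl
theorem L178117 : sm ga N20948 = N14411 := ded_17_1 (flp_h L122844) (flp_a L122738) L178115
theorem L178119 : sm gc N20948 = N14405 := ded_32_1 (flp_h L122794) (flp_c L122740) L178115
theorem L178121 : sm gf N20948 = N14501 := ded_47_1 (flp_h L123610) (flp_f L122744) L178115
theorem L178123 : sm gg N20948 = N14399 := ded_50_1 (flp_h L122746) L122736 L178115
theorem L178125 : sm gd N14399 = N20949 := rfl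
theorem L178127 : sm ga N20949 = N14412 := ded_12_1 (flp_d L122854) (flp_a L122748) L178125
theorem L178129 : sm gf N20949 = N14400 := ded_35_2 (flp_d L122754) (flp_f L122752) L178125
theorem L178131 : sm gc N20949 = N20949 := ded_27_1 (flp_d L178125) L122750 L84811 (flp_c L122750) L178125
theorem L178132 : sm gh N20949 = N15755 := ded_38_2 (flp_d L134364) (flp_h L92679) (flp_d L84780) L122746 L178125
theorem L178134 : sm gi N14399 = N20950 := rfl
theorem L178136 : sm ga N20950 = N14413 := ded_18_1 (flp_i L122863) (flp_a L122748) L178134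
theorem L178138 : sm gc N20950 = N14406 := ded_33_1 (flp_i L122804) (flp_c L122750) L178134
theorem L178140 : sm gf N20950 = N14401 := ded_48_1 (flp_i L122763) (flp_f L122752) L178134
theorem L178142 : sm ge N14400 = N20951 := rfl
theorem L178144 : sm ga N20951 = N14414 := ded_13_1 (flp_e L122871) (flp_a L122756) L178142
theorem L178147 : sm gg N20951 = N14504 := ded_41_2 (flp_e L123637) (flp_g L122758) L178142
theorem L178149 : sm gh N20951 = N15757 := ded_43_2 (flp_e L134379) (flp_h L122761) L178142
theorem L178151 : sm gi N14400 = N20952 := rfl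
theorem L178153 : sm ga N20952 = N14415 := ded_18_1 (flp_i L122880) (flp_a L122756) L178151
theorem L178155 : sm gc N20952 = N20952 := ded_33_1 (flp_i L178151) L122760 L178151
theorem L178156 : sm gd N20952 = N14401 := ded_39_1 (flp_i L122763) L122754 L178151
theorem L178158 : sm gg N20952 = N14505 := ded_51_1 (flp_i L123645) (flp_g L122758) L178151
theorem L178160 : sm gf N14402 = N20953 := rfl
theorem L178162 : sm ga N20953 = N14416 := ded_14_1 (flp_f L122889) (flp_a L122773) L178160
theorem L178164 : sm gb N20953 = N20953 := ded_22_1 (flp_f L178160) L122775 L178160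
theorem L178165 : sm ge N20953 = N14506 := ded_40_1 (flp_f L123653) L85381 (flp_f L84802) (flp_e L122776) L178160
theorem L178167 : sm gj N14402 = N20954 := rfl
theorem L178169 : sm ga N20954 = N14417 := ded_16_1 (flp_j L122895) (flp_a L122773) L178167
theorem L178171 : sm gb N20954 = N20954 := ded_24_1 (flp_j L178167) L122775 L178167
theorem L178172 : sm ge N20954 = N14404 := ded_42_1 (flp_j L122785) (flp_e L122776) L178167
theorem L178174 : sm gh N14402 = N20955 := rfl
theorem L178176 : sm ga N20955 = N14418 := ded_17_1 (flp_h L122901) (flp_a L122773) L178174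
theorem L178178 : sm gb N20955 = N20955 := ded_25_1 (flp_h L178174) L122775 L178174
theorem L178179 : sm ge N20955 = N14405 := ded_43_1 (flp_h L122794) (flp_e L122776) L178174
theorem L178181 : sm gg N20955 = N14403 := ded_50_1 (flp_h L122778) L122771 L178174
theorem L178183 : sm gd N14403 = N20956 := rfl
theorem L178185 : sm ga N20956 = N14419 := ded_12_1 (flp_d L122909) (flp_a L122780) L178183
theorem L178187 : sm gb N20956 = N20956 := ded_20_1 (flp_d L178183) L122782 L178183
theorem L178188 : sm ge N20956 = N20956 := ded_34_2 (flp_d L178183) L122783 L84811 (flp_e L122783) L178183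
theorem L178189 : sm gi N14403 = N20957 := rfl
theorem L178191 : sm ga N20957 = N14420 := ded_18_1 (flp_i L122914) (flp_a L122780) L178189
theorem L178193 : sm gb N20957 = N20957 := ded_26_1 (flp_i L178189) L122782 L178189
theorem L178194 : sm ge N20957 = N14406 := ded_44_1 (flp_i L122804) (flp_e L122783) L178189
theorem L178196 : sm gh N14404 = N20958 := rfl
theorem L178198 : sm ga N20958 = N14421 := ded_17_1 (flp_h L122920) (flp_a L122787) L178196
theorem L178200 : sm gb N20958 = N20958 := ded_25_1 (flp_h L178196) L122789 L178196
theorem L178201 : sm gf N20958 = N14511 := ded_47_1 (flp_h L123693) (flp_f L122792) L178196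
theorem L178203 : sm gj N20958 = N14405 := ded_52_1 (flp_h L122794) L122785 L178196
theorem L178205 : sm gd N20958 = N20958 := ded_38_1 (flp_h L178196) L122790 L84829 (flp_d L122790) L178196
theorem L178206 : sm gi N14405 = N20959 := rfl
theorem L178208 : sm ga N20959 = N14422 := ded_18_1 (flp_i L122929) (flp_a L122796) L178206
theorem L178210 : sm gb N20959 = N20959 := ded_26_1 (flp_i L178206) L122798 L178206
theorem L178211 : sm gd N20959 = N20959 := ded_39_1 (flp_i L178206) L122803 L178206
theorem L178212 : sm gf N20959 = N14512 := ded_48_1 (flp_i L123702) (flp_f L122799) L178206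
theorem L178214 : sm gg N20959 = N14406 := ded_51_1 (flp_i L122804) (flp_g L122801) L178206
theorem L178216 : sm gg N14407 = N20960 := rfl
theorem L178218 : sm gb N20960 = N14665 := ded_23_1 (flp_g L125000) (flp_b L122814) L178216
theorem L178220 : sm gd N20960 = N14408 := ded_36_1 (flp_g L122818) L122812 L178216
theorem L178222 : sm ge N20960 = N15766 := ded_41_1 (flp_g L134462) (flp_e L122816) L178216
theorem L178224 : sm gh N14407 = N20961 := rfl
theorem L178226 : sm gb N20961 = N14666 := ded_25_1 (flp_h L125007) (flp_b L122814) L178224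
theorem L178228 : sm ge N20961 = N15767 := ded_43_1 (flp_h L134468) (flp_e L122816) L178224
theorem L178230 : sm gf N14408 = N20962 := rfl
theorem L178232 : sm gb N20962 = N14667 := ded_22_1 (flp_f L125012) (flp_b L122820) L178230
theorem L178234 : sm gc N20962 = N14416 := ded_29_1 (flp_f L122889) (flp_c L122822) L178230
theorem L178236 : sm ge N20962 = N14515 := ded_40_1 (flp_f L123727) L85430 (flp_f L84844) (flp_e L122824) L178230
theorem L178238 : sm gj N14408 = N20963 := rfl
theorem L178240 : sm gb N20963 = N14668 := ded_24_1 (flp_j L125018) (flp_b L122820) L178238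
theorem L178242 : sm gc N20963 = N14417 := ded_31_1 (flp_j L122895) (flp_c L122822) L178238
theorem L178244 : sm ge N20963 = N14410 := ded_42_1 (flp_j L122834) (flp_e L122824) L178238
theorem L178246 : sm gh N14408 = N20964 := rfl
theorem L178248 : sm gb N20964 = N14669 := ded_25_1 (flp_h L125024) (flp_b L122820) L178246
theorem L178250 : sm gc N20964 = N14418 := ded_32_1 (flp_h L122901) (flp_c L122822) L178246
theorem L178252 : sm ge N20964 = N14411 := ded_43_1 (flp_h L122844) (flp_e L122824) L178246
theorem L178254 : sm gg N20964 = N14409 := ded_50_1 (flp_h L122826) L122818 L178246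
theorem L178256 : sm gd N14409 = N20965 := rfl
theorem L178258 : sm gb N20965 = N14670 := ded_20_1 (flp_d L125032) (flp_b L122828) L178256
theorem L178260 : sm gi N14409 = N20966 := rfl
theorem L178262 : sm gb N20966 = N14671 := ded_26_1 (flp_i L125034) (flp_b L122828) L178260
theorem L178264 : sm gc N20966 = N14420 := ded_33_1 (flp_i L122914) (flp_c L122830) L178260
theorem L178266 : sm ge N20966 = N14413 := ded_44_1 (flp_i L122863) (flp_e L122832) L178260
theorem L178268 : sm gh N14410 = N20967 := rfl
theorem L178270 : sm gb N20967 = N14672 := ded_25_1 (flp_h L125040) (flp_b L122836) L178268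
theorem L178272 : sm gc N20967 = N14421 := ded_32_1 (flp_h L122920) (flp_c L122838) L178268
theorem L178274 : sm gf N20967 = N14520 := ded_47_1 (flp_h L123766) (flp_f L122842) L178268
theorem L178276 : sm gj N20967 = N14411 := ded_52_1 (flp_h L122844) L122834 L178268
theorem L178278 : sm gd N14411 = N20968 := rfl
theorem L178280 : sm gb N20968 = N14673 := ded_20_1 (flp_d L125048) (flp_b L122846) L178278
theorem L178282 : sm gf N20968 = N14521 := ded_35_2 (flp_d L123775) (flp_f L122850) L178278
theorem L178284 : sm gg N20968 = N14412 := ded_36_2 (flp_d L122854) (flp_g L122852) L178278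
theorem L178286 : sm gc N20968 = N20968 := ded_27_1 (flp_d L178278) L122848 L84899 (flp_c L122848) L178278
theorem L178287 : sm gh N20968 = N15774 := ded_38_2 (flp_d L134524) (flp_h L92780) (flp_d L84842) L122844 L178278
theorem L178289 : sm gi N14411 = N20969 := rfl
theorem L178291 : sm gb N20969 = N14674 := ded_26_1 (flp_i L125058) (flp_b L122846) L178289
theorem L178293 : sm gc N20969 = N14422 := ded_33_1 (flp_i L122929) (flp_c L122848) L178289
theorem L178295 : sm gf N20969 = N14522 := ded_48_1 (flp_i L123784) (flp_f L122850) L178289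
theorem L178297 : sm gg N20969 = N14413 := ded_51_1 (flp_i L122863) (flp_g L122852) L178289
theorem L178299 : sm ge N14412 = N20970 := rfl
theorem L178301 : sm gb N20970 = N14675 := ded_21_1 (flp_e L125066) (flp_b L122856) L178299
theorem L178303 : sm gc N20970 = N20970 := ded_28_1 (flp_e L178299) L122860 L178299
theorem L178304 : sm gh N20970 = N15776 := ded_43_2 (flp_e L134543) (flp_h L122861) L178299
theorem L178306 : sm gi N14412 = N20971 := rfl
theorem L178308 : sm gb N20971 = N14676 := ded_26_1 (flp_i L125072) (flp_b L122856) L178306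
theorem L178310 : sm gc N20971 = N20971 := ded_33_1 (flp_i L178306) L122860 L178306
theorem L178311 : sm gd N20971 = N14413 := ded_39_1 (flp_i L122863) L122854 L178306
theorem L178313 : sm gf N20971 = N14415 := ded_48_1 (flp_i L122880) (flp_f L122858) L178306
theorem L178315 : sm gf N14414 = N20972 := rfl
theorem L178317 : sm gb N20972 = N14677 := ded_22_1 (flp_f L125080) (flp_b L122873) L178315
theorem L178319 : sm gc N20972 = N20972 := ded_29_1 (flp_f L178315) L122875 L178315
theorem L178320 : sm gh N20972 = N15778 := ded_47_2 (flp_f L134557) (flp_h L122878) L178315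
theorem L178322 : sm gi N14414 = N20973 := rfl
theorem L178324 : sm gb N20973 = N14678 := ded_26_1 (flp_i L125086) (flp_b L122873) L178322
theorem L178326 : sm gc N20973 = N20973 := ded_33_1 (flp_i L178322) L122875 L178322
theorem L178327 : sm ge N20973 = N14415 := ded_44_1 (flp_i L122880) L122871 L178322
theorem L178329 : sm gg N20973 = N14526 := ded_51_1 (flp_i L123818) (flp_g L122876) L178322
theorem L178331 : sm gh N14415 = N20974 := rfl
theorem L178333 : sm gb N20974 = N14679 := ded_25_1 (flp_h L125094) (flp_b L122882) L178331
theorem L178340 : sm gj N14416 = N20975 := rfl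
theorem L178342 : sm gb N20975 = N14423 := ded_24_1 (flp_j L122938) (flp_b L122891) L178340
theorem L178344 : sm ge N20975 = N14528 := ded_42_1 (flp_j L123834) (flp_e L122893) L178340
theorem L178346 : sm gf N20975 = N14417 := ded_46_1 (flp_j L122895) L122889 L178340
theorem L178348 : sm gh N14416 = N20976 := rfl
theorem L178350 : sm gb N20976 = N14424 := ded_25_1 (flp_h L122947) (flp_b L122891) L178348
theorem L178352 : sm ge N20976 = N14529 := ded_43_1 (flp_h L123841) (flp_e L122893) L178348
theorem L178354 : sm gf N20976 = N14418 := ded_47_1 (flp_h L122901) L122889 L178348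
theorem L178356 : sm gh N14417 = N20977 := rfl
theorem L178358 : sm gb N20977 = N14425 := ded_25_1 (flp_h L122956) (flp_b L122897) L178356
theorem L178360 : sm ge N20977 = N14421 := ded_43_1 (flp_h L122920) (flp_e L122899) L178356
theorem L178362 : sm gj N20977 = N14418 := ded_52_1 (flp_h L122901) L122895 L178356
theorem L178364 : sm gd N14418 = N20978 := rfl
theorem L178366 : sm gb N20978 = N14426 := ded_20_1 (flp_d L122965) (flp_b L122903) L178364
theorem L178368 : sm gg N20978 = N14419 := ded_36_2 (flp_d L122909) (flp_g L122907) L178364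
theorem L178370 : sm ge N20978 = N20978 := ded_34_2 (flp_d L178364) L122905 L84899 (flp_e L122905) L178364
theorem L178371 : sm gi N14418 = N20979 := rfl
theorem L178373 : sm gb N20979 = N14427 := ded_26_1 (flp_i L122971) (flp_b L122903) L178371
theorem L178375 : sm ge N20979 = N14422 := ded_44_1 (flp_i L122929) (flp_e L122905) L178371
theorem L178377 : sm gg N20979 = N14420 := ded_51_1 (flp_i L122914) (flp_g L122907) L178371
theorem L178379 : sm gc N14419 = N20980 := rfl
theorem L178381 : sm ge N20980 = N20980 := ded_28_2 (flp_c L178379) L122913 L178379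
theorem L178382 : sm gi N14419 = N20981 := rfl
theorem L178384 : sm gb N20981 = N14429 := ded_26_1 (flp_i L122986) (flp_b L122911) L178382
theorem L178386 : sm gd N20981 = N14420 := ded_39_1 (flp_i L122914) L122909 L178382
theorem L178388 : sm ge N20981 = N20981 := ded_44_1 (flp_i L178382) L122913 L178382
theorem L178389 : sm gi N14421 = N20982 := rfl
theorem L178391 : sm gb N20982 = N14430 := ded_26_1 (flp_i L122992) (flp_b L122922) L178389
theorem L178393 : sm gd N20982 = N20982 := ded_39_1 (flp_i L178389) L122928 L178389
theorem L178394 : sm gf N20982 = N14535 := ded_48_1 (flp_i L123885) (flp_f L122924) L178389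
theorem L178396 : sm gj N20982 = N14422 := ded_53_1 (flp_i L122929) (flp_j L122926) L178389
theorem L178398 : sm gg N14423 = N20983 := rfl
theorem L178400 : sm ga N20983 = N20983 := ded_15_1 (flp_g L178398) L122940 L178398
theorem L178401 : sm gc N20983 = N14688 := ded_30_1 (flp_g L125167) (flp_c L122941) L178398
theorem L178403 : sm ge N20983 = N14536 := ded_41_1 (flp_g L123893) (flp_e L122943) L178398
theorem L178405 : sm gh N14423 = N20984 := rfl
theorem L178407 : sm ga N20984 = N20984 := ded_17_1 (flp_h L178405) L122940 L178405
theorem L178408 : sm gc N20984 = N14689 := ded_32_1 (flp_h L125173) (flp_c L122941) L178405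
theorem L178410 : sm ge N20984 = N14537 := ded_43_1 (flp_h L123900) (flp_e L122943) L178405
theorem L178412 : sm gf N20984 = N14425 := ded_47_1 (flp_h L122956) (flp_f L122945) L178405
theorem L178414 : sm gj N20984 = N14424 := ded_52_1 (flp_h L122947) L122938 L178405
theorem L178416 : sm gd N14424 = N20985 := rfl
theorem L178418 : sm ga N20985 = N20985 := ded_12_1 (flp_d L178416) L122949 L178416
theorem L178419 : sm gf N20985 = N14426 := ded_35_2 (flp_d L122965) (flp_f L122954) L178416
theorem L178421 : sm gi N14424 = N20986 := rfl
theorem L178423 : sm ga N20986 = N20986 := ded_18_1 (flp_i L178421) L122949 L178421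
theorem L178424 : sm gc N20986 = N14691 := ded_33_1 (flp_i L125188) (flp_c L122950) L178421
theorem L178426 : sm ge N20986 = N14539 := ded_44_1 (flp_i L123915) (flp_e L122952) L178421
theorem L178428 : sm gf N20986 = N14427 := ded_48_1 (flp_i L122971) (flp_f L122954) L178421
theorem L178430 : sm gd N14425 = N20987 := rfl
theorem L178432 : sm ga N20987 = N20987 := ded_12_1 (flp_d L178430) L122958 L178430
theorem L178433 : sm gj N20987 = N14426 := ded_37_2 (flp_d L122965) (flp_j L122963) L178430
theorem L178435 : sm ge N20987 = N20987 := ded_34_2 (flp_d L178430) L122961 L84950 (flp_e L122961) L178430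
theorem L178436 : sm gi N14425 = N20988 := rfl
theorem L178438 : sm ga N20988 = N20988 := ded_18_1 (flp_i L178436) L122958 L178436
theorem L178439 : sm gc N20988 = N14693 := ded_33_1 (flp_i L125203) (flp_c L122959) L178436
theorem L178441 : sm ge N20988 = N14430 := ded_44_1 (flp_i L122992) (flp_e L122961) L178436
theorem L178443 : sm gj N20988 = N14427 := ded_53_1 (flp_i L122971) (flp_j L122963) L178436
theorem L178445 : sm gc N14426 = N20989 := rfl
theorem L178447 : sm ga N20989 = N20989 := ded_11_1 (flp_c L178445) L122967 L178445
theorem L178448 : sm ge N20989 = N20989 := ded_28_2 (flp_c L178445) L122970 L178445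
theorem L178449 : sm gg N20989 = N14428 := ded_30_2 (flp_c L122980) (flp_g L122968) L178445
theorem L178451 : sm gd N20989 = N14694 := ded_27_2 (flp_c L125210) (flp_d L86420) (flp_c L84924) L122965 L178445
theorem L178453 : sm gi N14426 = N20990 := rfl
theorem L178455 : sm ga N20990 = N20990 := ded_18_1 (flp_i L178453) L122967 L178453
theorem L178456 : sm gd N20990 = N14427 := ded_39_1 (flp_i L122971) L122965 L178453
theorem L178458 : sm ge N20990 = N20990 := ded_44_1 (flp_i L178453) L122970 L178453
theorem L178459 : sm gg N20990 = N14429 := ded_51_1 (flp_i L122986) (flp_g L122968) L178453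
theorem L178461 : sm gb N14428 = N20991 := rfl
theorem L178463 : sm gd N20991 = N14696 := ded_20_2 (flp_b L125227) (flp_d L122984) L178461
theorem L178465 : sm ge N20991 = N20991 := ded_21_2 (flp_b L178461) L122983 L178461
theorem L178466 : sm gi N14428 = N20992 := rfl
theorem L178468 : sm ga N20992 = N20992 := ded_18_1 (flp_i L178466) L122982 L178466
theorem L178469 : sm gc N20992 = N14429 := ded_33_1 (flp_i L122986) L122980 L178466
theorem L178471 : sm gd N20992 = N14697 := ded_39_1 (flp_i L125232) (flp_d L122984) L178466
theorem L178473 : sm ge N20992 = N20992 := ded_44_1 (flp_i L178466) L122983 L178466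
theorem L178474 : sm gh N14429 = N20993 := rfl
theorem L178476 : sm ga N20993 = N20993 := ded_17_1 (flp_h L178474) L122988 L178474
theorem L178477 : sm ge N20993 = N20993 := ded_43_1 (flp_h L178474) L122991 L178474
theorem L178488 : sm gh N14431 = N20995 := rfl
theorem L178491 : sm gb N20995 = N14433 := ded_25_1 (flp_h L123021) L123002 L178488
theorem L178505 : sm gg N14432 = N20997 := rfl
theorem L178509 : sm gc N20997 = N14435 := ded_30_1 (flp_g L123038) (flp_c L123015) L178505
theorem L178514 : sm gh N14432 = N20998 := rfl
theorem L178520 : sm gf N20998 = N14433 := ded_47_1 (flp_h L123021) L123011 L178514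
theorem L178523 : sm gd N14433 = N20999 := rfl
theorem L178528 : sm gc N20999 = N14461 := ded_27_1 (flp_d L123267) L85126 (flp_d L84986) (flp_c L123025) L178523
theorem L178530 : sm gh N20999 = N15830 := ded_38_2 (flp_d L135004) (flp_h L93107) (flp_d L84968) L123021 L178523
theorem L178559 : sm gj N14435 = N21003 := rfl
theorem L178568 : sm gh N14435 = N21004 := rfl
theorem L178575 : sm gd N21004 = N14466 := ded_38_1 (flp_h L123311) L85143 (flp_h L84996) (flp_d L123043) L178568
theorem L178623 : sm gh N14440 = N21010 := rfl
theorem L178626 : sm gc N21010 = N14447 := ded_32_1 (flp_h L123142) (flp_c L123089) L178623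
theorem L178628 : sm gg N21010 = N14441 := ded_50_1 (flp_h L123094) L123086 L178623
theorem L178630 : sm gd N14441 = N21011 := rfl
theorem L178633 : sm gf N21011 = N14442 := ded_35_2 (flp_d L123102) (flp_f L123099) L178630
theorem L178636 : sm gc N21011 = N14473 := ded_27_1 (flp_d L123376) L85197 (flp_d L85037) (flp_c L123097) L178630
theorem L178649 : sm ge N14442 = N21013 := rfl
theorem L178655 : sm gh N21013 = N15844 := ded_43_2 (flp_e L135123) (flp_h L123108) L178649
theorem L178658 : sm gi N14442 = N21014 := rfl
theorem L178666 : sm gf N14444 = N21015 := rfl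
theorem L178668 : sm gb N21015 = N14449 := ded_22_1 (flp_f L123160) (flp_b L123120) L178666
theorem L178673 : sm gj N14444 = N21016 := rfl
theorem L178675 : sm gb N21016 = N14450 := ded_24_1 (flp_j L123167) (flp_b L123120) L178673
theorem L178678 : sm ge N21016 = N14446 := ded_42_1 (flp_j L123134) (flp_e L123123) L178673
theorem L178682 : sm gh N14444 = N21017 := rfl
theorem L178684 : sm gb N21017 = N14451 := ded_25_1 (flp_h L123176) (flp_b L123120) L178682
theorem L178686 : sm ge N21017 = N14447 := ded_43_1 (flp_h L123142) (flp_e L123123) L178682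
theorem L178688 : sm gg N21017 = N14445 := ded_50_1 (flp_h L123126) L123118 L178682
theorem L178690 : sm gd N14445 = N21018 := rfl
theorem L178692 : sm gb N21018 = N14452 := ded_20_1 (flp_d L123184) (flp_b L123128) L178690
theorem L178696 : sm ge N21018 = N14480 := ded_34_2 (flp_d L123435) L85231 (flp_d L85037) (flp_e L123130) L178690
theorem L178699 : sm gi N14445 = N21019 := rfl
theorem L178708 : sm gh N14446 = N21020 := rfl
theorem L178715 : sm gd N21020 = N14482 := ded_38_1 (flp_h L123450) L85238 (flp_h L85055) (flp_d L123138) L178708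
theorem L178726 : sm gj N14449 = N21022 := rfl
theorem L178734 : sm gh N14449 = N21023 := rfl
theorem L178738 : sm gf N21023 = N14451 := ded_47_1 (flp_h L123176) L123160 L178734
theorem L178741 : sm gh N14450 = N21024 := rfl
theorem L178745 : sm ge N21024 = N14454 := ded_43_1 (flp_h L123201) (flp_e L123172) L178741
theorem L178748 : sm gj N21024 = N14451 := ded_52_1 (flp_h L123176) L123167 L178741
theorem L178750 : sm gd N14451 = N21025 := rfl
theorem L178752 : sm ga N21025 = N21025 := ded_12_1 (flp_d L178750) L123178 L178750
theorem L178753 : sm gg N21025 = N14452 := ded_36_2 (flp_d L123184) (flp_g L123182) L178750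
theorem L178755 : sm ge N21025 = N14487 := ded_34_2 (flp_d L123492) L85282 (flp_d L85089) (flp_e L123180) L178750
theorem L178757 : sm gh N21025 = N21025 := ded_38_2 (flp_d L178750) (flp_h L123176) L85063 L123176 L178750
theorem L178758 : sm gi N14451 = N21026 := rfl
theorem L178760 : sm ga N21026 = N21026 := ded_18_1 (flp_i L178758) L123178 L178758
theorem L178761 : sm gc N21026 = N21026 := ded_33_1 (flp_i L178758) L123179 L178758
theorem L178762 : sm ge N21026 = N14455 := ded_44_1 (flp_i L123210) (flp_e L123180) L178758
theorem L178764 : sm gg N21026 = N14453 := ded_51_1 (flp_i L123192) (flp_g L123182) L178758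
theorem L178766 : sm gh N21026 = N21026 := ded_54_1 (flp_i L178758) (flp_h L123176) L85066 L123176 L178758
theorem L178767 : sm gc N14452 = N21027 := rfl
theorem L178769 : sm ga N21027 = N21027 := ded_11_1 (flp_c L178767) L123186 L178767
theorem L178770 : sm ge N21027 = N14489 := ded_28_2 (flp_c L123509) (flp_e L123189) L178767
theorem L178772 : sm gf N21027 = N21027 := ded_29_2 (flp_c L178767) L123187 L178767
theorem L178773 : sm gj N21027 = N21027 := ded_31_2 (flp_c L178767) L123188 L178767
theorem L178774 : sm gh N21027 = N21027 := ded_32_2 (flp_c L178767) L123191 L178767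
theorem L178775 : sm gd N21027 = N21027 := ded_27_2 (flp_c L178767) (flp_d L123184) L85070 L123184 L178767
theorem L178776 : sm gi N14452 = N21028 := rfl
theorem L178778 : sm ga N21028 = N21028 := ded_18_1 (flp_i L178776) L123186 L178776
theorem L178779 : sm gd N21028 = N14453 := ded_39_1 (flp_i L123192) L123184 L178776
theorem L178781 : sm ge N21028 = N14490 := ded_44_1 (flp_i L123516) (flp_e L123189) L178776
theorem L178783 : sm gf N21028 = N21028 := ded_48_1 (flp_i L178776) L123187 L178776
theorem L178784 : sm gj N21028 = N21028 := ded_53_1 (flp_i L178776) L123188 L178776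
theorem L178785 : sm gi N14454 = N21029 := rfl
theorem L178787 : sm ga N21029 = N21029 := ded_18_1 (flp_i L178785) L123203 L178785
theorem L178788 : sm gc N21029 = N21029 := ded_33_1 (flp_i L178785) L123204 L178785
theorem L178789 : sm gd N21029 = N14491 := ded_39_1 (flp_i L123522) (flp_d L123208) L178785
theorem L178791 : sm gg N21029 = N21029 := ded_51_1 (flp_i L178785) L123205 L178785
theorem L178792 : sm gj N21029 = N14455 := ded_53_1 (flp_i L123210) (flp_j L123206) L178785
theorem L178794 : sm gh N21029 = N21029 := ded_54_1 (flp_i L178785) (flp_h L123201) L85081 L123201 L178785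
theorem L178795 : sm ge N14456 = N21030 := rfl
theorem L178797 : sm ga N21030 = N14699 := ded_13_1 (flp_e L125245) (flp_a L123221) L178795
theorem L178799 : sm gb N21030 = N14458 := ded_21_1 (flp_e L123239) (flp_b L123223) L178795
theorem L178803 : sm gi N21030 = N14492 := ded_44_2 (flp_e L123532) (flp_i L123229) L178795
theorem L178805 : sm gg N14456 = N21031 := rfl
theorem L178807 : sm ga N21031 = N14700 := ded_15_1 (flp_g L125253) (flp_a L123221) L178805
theorem L178809 : sm gb N21031 = N14459 := ded_23_1 (flp_g L123248) (flp_b L123223) L178805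
theorem L178814 : sm gi N21031 = N14493 := ded_51_2 (flp_g L123540) (flp_i L123229) L178805
theorem L178826 : sm gd N14457 = N21033 := rfl
theorem L178830 : sm gb N21033 = N14461 := ded_20_1 (flp_d L123267) (flp_b L123235) L178826
theorem L178835 : sm gi N14457 = N21034 := rfl
theorem L178839 : sm gb N21034 = N14462 := ded_26_1 (flp_i L123274) (flp_b L123235) L178835
theorem L178843 : sm gh N21034 = N14496 := ded_54_1 (flp_i L123568) (flp_h L85328) (flp_i L85106) L123231 L178835
theorem L178845 : sm gd N14458 = N21035 := rfl
theorem L178847 : sm ga N21035 = N14468 := ded_12_1 (flp_d L123328) (flp_a L123241) L178845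
theorem L178850 : sm gi N21035 = N14497 := ded_39_2 (flp_d L123576) (flp_i L123246) L178845
theorem L178853 : sm ge N21035 = N15866 := ded_34_2 (flp_d L135320) (flp_e L93323) (flp_d L85117) L123239 L178845
theorem L178855 : sm gg N14458 = N21036 := rfl
theorem L178857 : sm ga N21036 = N14469 := ded_15_1 (flp_g L123338) (flp_a L123241) L178855
theorem L178859 : sm gc N21036 = N14463 := ded_30_1 (flp_g L123283) (flp_c L123243) L178855
theorem L178861 : sm ge N21036 = N14459 := ded_41_1 (flp_g L123248) L123239 L178855
theorem L178863 : sm gi N21036 = N14498 := ded_51_2 (flp_g L123584) (flp_i L123246) L178855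
theorem L178865 : sm gh N14458 = N21037 := rfl
theorem L178867 : sm ga N21037 = N14470 := ded_17_1 (flp_h L123348) (flp_a L123241) L178865
theorem L178874 : sm gj N14459 = N21038 := rfl
theorem L178882 : sm gi N21038 = N14500 := ded_53_2 (flp_j L123601) (flp_i L123256) L178874
theorem L178893 : sm gd N14460 = N21040 := rfl
theorem L178895 : sm ga N21040 = N14473 := ded_12_1 (flp_d L123376) (flp_a L123260) L178893
theorem L178900 : sm gh N21040 = N15871 := ded_38_2 (flp_d L135366) (flp_h L93341) (flp_d L85117) L123258 L178893
theorem L178902 : sm gi N14460 = N21041 := rfl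
theorem L178908 : sm gf N21041 = N14462 := ded_48_1 (flp_i L123274) (flp_f L123264) L178902
theorem L178911 : sm gh N21041 = N14503 := ded_54_1 (flp_i L123628) (flp_h L85351) (flp_i L85120) L123258 L178902
theorem L178913 : sm ge N14461 = N21042 := rfl
theorem L178915 : sm ga N21042 = N14475 := ded_13_1 (flp_e L123396) (flp_a L123269) L178913
theorem L178918 : sm gh N21042 = N15873 := ded_43_2 (flp_e L135384) (flp_h L123272) L178913
theorem L178927 : sm gf N14463 = N21044 := rfl
theorem L178929 : sm ga N21044 = N14477 := ded_14_1 (flp_f L123410) (flp_a L123285) L178927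
theorem L178933 : sm gi N21044 = N14506 := ded_48_2 (flp_f L123653) (flp_i L123291) L178927
theorem L178935 : sm gj N14463 = N21045 := rfl
theorem L178937 : sm ga N21045 = N14478 := ded_16_1 (flp_j L123417) (flp_a L123285) L178935
theorem L178943 : sm gi N21045 = N14507 := ded_53_2 (flp_j L123659) (flp_i L123291) L178935
theorem L178946 : sm gh N14463 = N21046 := rfl
theorem L178948 : sm ga N21046 = N14479 := ded_17_1 (flp_h L123427) (flp_a L123285) L178946
theorem L178955 : sm gd N14464 = N21047 := rfl
theorem L178957 : sm ga N21047 = N14480 := ded_12_1 (flp_d L123435) (flp_a L123295) L178955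
theorem L178962 : sm gi N14464 = N21048 := rfl
theorem L178970 : sm gh N21048 = N14510 := ded_54_1 (flp_i L123685) (flp_h L85383) (flp_i L85135) L123293 L178962
theorem L178972 : sm gh N14465 = N21049 := rfl
theorem L178980 : sm gi N14466 = N21050 := rfl
theorem L178987 : sm gh N21050 = N14512 := ded_54_1 (flp_i L123702) (flp_h L85399) (flp_i L85145) L123311 L178980
theorem L178989 : sm gg N14468 = N21051 := rfl
theorem L178991 : sm gb N21051 = N14720 := ded_23_1 (flp_g L125439) (flp_b L123330) L178989
theorem L178993 : sm gc N21051 = N21051 := ded_30_1 (flp_g L178989) L123335 L178989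
theorem L178994 : sm gd N21051 = N14469 := ded_36_1 (flp_g L123338) L123328 L178989
theorem L178996 : sm ge N21051 = N15882 := ded_41_1 (flp_g L135469) (flp_e L123336) L178989
theorem L178998 : sm gi N21051 = N14513 := ded_51_2 (flp_g L123710) (flp_i L123333) L178989
theorem L179000 : sm gh N14468 = N21052 := rfl
theorem L179002 : sm gb N21052 = N14721 := ded_25_1 (flp_h L125449) (flp_b L123330) L179000
theorem L179004 : sm gc N21052 = N21052 := ded_32_1 (flp_h L179000) L123335 L179000
theorem L179005 : sm ge N21052 = N15883 := ded_43_1 (flp_h L135478) (flp_e L123336) L179000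
theorem L179007 : sm gj N21052 = N21052 := ded_52_1 (flp_h L179000) L123332 L179000
theorem L179008 : sm gf N14469 = N21053 := rfl
theorem L179010 : sm gb N21053 = N14722 := ded_22_1 (flp_f L125456) (flp_b L123340) L179008
theorem L179012 : sm gc N21053 = N14477 := ded_29_1 (flp_f L123410) (flp_c L123342) L179008
theorem L179014 : sm gi N21053 = N14515 := ded_48_2 (flp_f L123727) (flp_i L123346) L179008
theorem L179016 : sm gj N14469 = N21054 := rfl
theorem L179018 : sm gb N21054 = N14723 := ded_24_1 (flp_j L125462) (flp_b L123340) L179016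
theorem L179020 : sm gc N21054 = N14478 := ded_31_1 (flp_j L123417) (flp_c L123342) L179016
theorem L179022 : sm ge N21054 = N14471 := ded_42_1 (flp_j L123357) (flp_e L123344) L179016
theorem L179024 : sm gi N21054 = N14516 := ded_53_2 (flp_j L123733) (flp_i L123346) L179016
theorem L179026 : sm gg N21054 = N21054 := ded_49_1 (flp_j L179016) (flp_g L123338) L85180 L123338 L179016
theorem L179027 : sm gh N14469 = N21055 := rfl
theorem L179029 : sm gb N21055 = N14724 := ded_25_1 (flp_h L125471) (flp_b L123340) L179027
theorem L179031 : sm gc N21055 = N14479 := ded_32_1 (flp_h L123427) (flp_c L123342) L179027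
theorem L179033 : sm ge N21055 = N14472 := ded_43_1 (flp_h L123368) (flp_e L123344) L179027
theorem L179035 : sm gg N21055 = N14470 := ded_50_1 (flp_h L123348) L123338 L179027
theorem L179037 : sm gd N14470 = N21056 := rfl
theorem L179039 : sm gb N21056 = N14725 := ded_20_1 (flp_d L125479) (flp_b L123350) L179037
theorem L179041 : sm gj N21056 = N21056 := ded_37_2 (flp_d L179037) L123356 L179037
theorem L179042 : sm gi N14470 = N21057 := rfl
theorem L179044 : sm gb N21057 = N14726 := ded_26_1 (flp_i L125482) (flp_b L123350) L179042
theorem L179046 : sm gc N21057 = N14481 := ded_33_1 (flp_i L123441) (flp_c L123352) L179042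
theorem L179048 : sm ge N21057 = N14474 := ded_44_1 (flp_i L123385) (flp_e L123354) L179042
theorem L179050 : sm gj N21057 = N21057 := ded_53_1 (flp_i L179042) L123356 L179042
theorem L179051 : sm gh N21057 = N14519 := ded_54_1 (flp_i L123757) (flp_h L85432) (flp_i L85181) L123348 L179042
theorem L179053 : sm gh N14471 = N21058 := rfl
theorem L179055 : sm gb N21058 = N14727 := ded_25_1 (flp_h L125491) (flp_b L123359) L179053
theorem L179057 : sm gc N21058 = N14482 := ded_32_1 (flp_h L123450) (flp_c L123361) L179053
theorem L179059 : sm gg N21058 = N21058 := ded_50_1 (flp_h L179053) L123367 L179053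
theorem L179060 : sm gj N21058 = N14472 := ded_52_1 (flp_h L123368) L123357 L179053
theorem L179062 : sm gd N14472 = N21059 := rfl
theorem L179064 : sm gb N21059 = N14728 := ded_20_1 (flp_d L125498) (flp_b L123370) L179062
theorem L179066 : sm gg N21059 = N14473 := ded_36_2 (flp_d L123376) (flp_g L123374) L179062
theorem L179068 : sm gh N21059 = N15890 := ded_38_2 (flp_d L135542) (flp_h L93454) (flp_d L85189) L123368 L179062
theorem L179070 : sm gi N14472 = N21060 := rfl
theorem L179072 : sm gb N21060 = N14729 := ded_26_1 (flp_i L125505) (flp_b L123370) L179070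
theorem L179074 : sm gc N21060 = N14483 := ded_33_1 (flp_i L123457) (flp_c L123372) L179070
theorem L179076 : sm gg N21060 = N14474 := ded_51_1 (flp_i L123385) (flp_g L123374) L179070
theorem L179078 : sm gh N21060 = N14522 := ded_54_1 (flp_i L123784) (flp_h L85450) (flp_i L85191) L123368 L179070
theorem L179080 : sm ge N14473 = N21061 := rfl
theorem L179082 : sm gb N21061 = N14730 := ded_21_1 (flp_e L125513) (flp_b L123378) L179080
theorem L179085 : sm gh N21061 = N15892 := ded_43_2 (flp_e L135558) (flp_h L123383) L179080
theorem L179087 : sm gi N14473 = N21062 := rfl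
theorem L179089 : sm gb N21062 = N14731 := ded_26_1 (flp_i L125519) (flp_b L123378) L179087
theorem L179091 : sm gd N21062 = N14474 := ded_39_1 (flp_i L123385) L123376 L179087
theorem L179093 : sm gf N21062 = N14476 := ded_48_1 (flp_i L123403) (flp_f L123380) L179087
theorem L179096 : sm gf N14475 = N21063 := rfl
theorem L179098 : sm gb N21063 = N14732 := ded_22_1 (flp_f L125527) (flp_b L123398) L179096
theorem L179101 : sm gh N21063 = N15894 := ded_47_2 (flp_f L135572) (flp_h L123401) L179096
theorem L179110 : sm gh N14476 = N21065 := rfl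
theorem L179119 : sm gj N14477 = N21066 := rfl
theorem L179121 : sm gb N21066 = N14484 := ded_24_1 (flp_j L123465) (flp_b L123412) L179119
theorem L179123 : sm gd N21066 = N21066 := ded_37_1 (flp_j L179119) L123414 L179119
theorem L179124 : sm gf N21066 = N14478 := ded_46_1 (flp_j L123417) L123410 L179119
theorem L179126 : sm gi N21066 = N14528 := ded_53_2 (flp_j L123834) (flp_i L123415) L179119
theorem L179128 : sm gh N14477 = N21067 := rfl
theorem L179130 : sm gb N21067 = N14485 := ded_25_1 (flp_h L123475) (flp_b L123412) L179128
theorem L179132 : sm gf N21067 = N14479 := ded_47_1 (flp_h L123427) L123410 L179128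
theorem L179134 : sm gh N14478 = N21068 := rfl
theorem L179136 : sm gb N21068 = N14486 := ded_25_1 (flp_h L123482) (flp_b L123419) L179134
theorem L179138 : sm ge N21068 = N14482 := ded_43_1 (flp_h L123450) (flp_e L123422) L179134
theorem L179140 : sm gg N21068 = N21068 := ded_50_1 (flp_h L179134) L123426 L179134
theorem L179141 : sm gj N21068 = N14479 := ded_52_1 (flp_h L123427) L123417 L179134
theorem L179143 : sm gd N14479 = N21069 := rfl
theorem L179145 : sm gb N21069 = N14487 := ded_20_1 (flp_d L123492) (flp_b L123429) L179143
theorem L179147 : sm gg N21069 = N14480 := ded_36_2 (flp_d L123435) (flp_g L123433) L179143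
theorem L179149 : sm gh N21069 = N21069 := ded_38_2 (flp_d L179143) (flp_h L123427) L85222 L123427 L179143
theorem L179150 : sm gi N14479 = N21070 := rfl
theorem L179152 : sm gb N21070 = N14488 := ded_26_1 (flp_i L123498) (flp_b L123429) L179150
theorem L179154 : sm ge N21070 = N14483 := ded_44_1 (flp_i L123457) (flp_e L123431) L179150
theorem L179156 : sm gg N21070 = N14481 := ded_51_1 (flp_i L123441) (flp_g L123433) L179150
theorem L179158 : sm gh N21070 = N14532 := ded_54_1 (flp_i L123864) (flp_h L85506) (flp_i L85225) L123427 L179150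
theorem L179160 : sm gc N14480 = N21071 := rfl
theorem L179162 : sm gj N21071 = N21071 := ded_31_2 (flp_c L179160) L123439 L179160
theorem L179163 : sm gh N21071 = N21071 := ded_32_2 (flp_c L179160) L123440 L179160
theorem L179164 : sm gi N14480 = N21072 := rfl
theorem L179166 : sm gb N21072 = N14490 := ded_26_1 (flp_i L123516) (flp_b L123437) L179164
theorem L179168 : sm gd N21072 = N14481 := ded_39_1 (flp_i L123441) L123435 L179164
theorem L179170 : sm gj N21072 = N21072 := ded_53_1 (flp_i L179164) L123439 L179164
theorem L179171 : sm gi N14482 = N21073 := rfl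
theorem L179173 : sm gb N21073 = N14491 := ded_26_1 (flp_i L123522) (flp_b L123452) L179171
theorem L179175 : sm gg N21073 = N21073 := ded_51_1 (flp_i L179171) L123454 L179171
theorem L179176 : sm gj N21073 = N14483 := ded_53_1 (flp_i L123457) (flp_j L123455) L179171
theorem L179178 : sm gh N21073 = N14535 := ded_54_1 (flp_i L123885) (flp_h L85528) (flp_i L85240) L123450 L179171
theorem L179180 : sm gg N14484 = N21074 := rfl
theorem L179182 : sm ga N21074 = N21074 := ded_15_1 (flp_g L179180) L123467 L179180
theorem L179183 : sm gc N21074 = N14743 := ded_30_1 (flp_g L125615) (flp_c L123468) L179180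
theorem L179185 : sm gd N21074 = N21074 := ded_36_1 (flp_g L179180) L123470 L179180
theorem L179186 : sm gi N21074 = N14536 := ded_51_2 (flp_g L123893) (flp_i L123473) L179180
theorem L179188 : sm gf N21074 = N21074 := ded_45_1 (flp_g L179180) L123471 L85276 (flp_f L123471) L179180
theorem L179189 : sm gh N14484 = N21075 := rfl
theorem L179191 : sm ga N21075 = N21075 := ded_17_1 (flp_h L179189) L123467 L179189
theorem L179192 : sm gc N21075 = N14744 := ded_32_1 (flp_h L125623) (flp_c L123468) L179189
theorem L179194 : sm gf N21075 = N14486 := ded_47_1 (flp_h L123482) (flp_f L123471) L179189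
theorem L179196 : sm gj N21075 = N14485 := ded_52_1 (flp_h L123475) L123465 L179189
theorem L179198 : sm gd N14485 = N21076 := rfl
theorem L179200 : sm ga N21076 = N21076 := ded_12_1 (flp_d L179198) L123477 L179198
theorem L179201 : sm gf N21076 = N14487 := ded_35_2 (flp_d L123492) (flp_f L123480) L179198
theorem L179203 : sm gh N21076 = N21076 := ded_38_2 (flp_d L179198) (flp_h L123475) L85263 L123475 L179198
theorem L179204 : sm gi N14485 = N21077 := rfl
theorem L179206 : sm ga N21077 = N21077 := ded_18_1 (flp_i L179204) L123477 L179204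
theorem L179207 : sm gc N21077 = N14746 := ded_33_1 (flp_i L125637) (flp_c L123478) L179204
theorem L179209 : sm gf N21077 = N14488 := ded_48_1 (flp_i L123498) (flp_f L123480) L179204
theorem L179211 : sm gh N21077 = N14539 := ded_54_1 (flp_i L123915) (flp_h L85551) (flp_i L85264) L123475 L179204
theorem L179213 : sm gd N14486 = N21078 := rfl
theorem L179215 : sm ga N21078 = N21078 := ded_12_1 (flp_d L179213) L123484 L179213
theorem L179216 : sm gg N21078 = N21078 := ded_36_2 (flp_d L179213) L123489 L179213
theorem L179217 : sm gj N21078 = N14487 := ded_37_2 (flp_d L123492) (flp_j L123490) L179213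
theorem L179219 : sm gh N21078 = N21078 := ded_38_2 (flp_d L179213) (flp_h L123482) L85271 L123482 L179213
theorem L179220 : sm gi N14486 = N21079 := rfl
theorem L179222 : sm ga N21079 = N21079 := ded_18_1 (flp_i L179220) L123484 L179220
theorem L179223 : sm gc N21079 = N14748 := ded_33_1 (flp_i L125653) (flp_c L123485) L179220
theorem L179225 : sm ge N21079 = N14491 := ded_44_1 (flp_i L123522) (flp_e L123487) L179220
theorem L179227 : sm gg N21079 = N21079 := ded_51_1 (flp_i L179220) L123489 L179220
theorem L179228 : sm gj N21079 = N14488 := ded_53_1 (flp_i L123498) (flp_j L123490) L179220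
theorem L179230 : sm gh N21079 = N14541 := ded_54_1 (flp_i L123930) (flp_h L85558) (flp_i L85274) L123482 L179220
theorem L179232 : sm gc N14487 = N21080 := rfl
theorem L179234 : sm ga N21080 = N21080 := ded_11_1 (flp_c L179232) L123494 L179232
theorem L179235 : sm gg N21080 = N14489 := ded_30_2 (flp_c L123509) (flp_g L123495) L179232
theorem L179237 : sm gh N21080 = N21080 := ded_32_2 (flp_c L179232) L123497 L179232
theorem L179238 : sm gd N21080 = N14749 := ded_27_2 (flp_c L125663) (flp_d L86717) (flp_c L85280) L123492 L179232
theorem L179240 : sm gi N14487 = N21081 := rfl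
theorem L179242 : sm ga N21081 = N21081 := ded_18_1 (flp_i L179240) L123494 L179240
theorem L179243 : sm gd N21081 = N14488 := ded_39_1 (flp_i L123498) L123492 L179240
theorem L179245 : sm gg N21081 = N14490 := ded_51_1 (flp_i L123516) (flp_g L123495) L179240
theorem L179247 : sm gb N14489 = N21082 := rfl
theorem L179249 : sm gd N21082 = N14751 := ded_20_2 (flp_b L125679) (flp_d L123514) L179247
theorem L179251 : sm gj N21082 = N21082 := ded_24_2 (flp_b L179247) L123512 L179247
theorem L179252 : sm gh N21082 = N21082 := ded_25_2 (flp_b L179247) L123513 L179247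
theorem L179253 : sm gi N14489 = N21083 := rfl
theorem L179255 : sm ga N21083 = N21083 := ded_18_1 (flp_i L179253) L123511 L179253
theorem L179256 : sm gc N21083 = N14490 := ded_33_1 (flp_i L123516) L123509 L179253
theorem L179258 : sm gd N21083 = N14752 := ded_39_1 (flp_i L125685) (flp_d L123514) L179253
theorem L179260 : sm gj N21083 = N21083 := ded_53_1 (flp_i L179253) L123512 L179253
theorem L179261 : sm gh N14490 = N21084 := rfl
theorem L179263 : sm ga N21084 = N21084 := ded_17_1 (flp_h L179261) L123518 L179261
theorem L179264 : sm gj N21084 = N21084 := ded_52_1 (flp_h L179261) L123521 L179261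
theorem L179265 : sm gd N21084 = N14546 := ded_38_1 (flp_h L123973) L85595 (flp_h L85299) (flp_d L123519) L179261
theorem L179267 : sm gi N21084 = N21084 := ded_54_2 (flp_h L179261) (flp_i L123516) L85290 L123516 L179261
theorem L179268 : sm gd N14492 = N21085 := rfl
theorem L179270 : sm ga N21085 = N14754 := ded_12_1 (flp_d L125701) (flp_a L123534) L179268
theorem L179272 : sm gb N21085 = N14497 := ded_20_1 (flp_d L123576) (flp_b L123536) L179268
theorem L179274 : sm gj N21085 = N21085 := ded_37_2 (flp_d L179268) L123539 L179268
theorem L179275 : sm ge N21085 = N15916 := ded_34_2 (flp_d L135761) (flp_e L93629) (flp_d L85325) L123532 L179268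
theorem L179277 : sm gg N14492 = N21086 := rfl
theorem L179279 : sm ga N21086 = N14755 := ded_15_1 (flp_g L125708) (flp_a L123534) L179277
theorem L179281 : sm gb N21086 = N14498 := ded_23_1 (flp_g L123584) (flp_b L123536) L179277
theorem L179283 : sm gc N21086 = N21086 := ded_30_1 (flp_g L179277) L123538 L179277
theorem L179284 : sm ge N21086 = N14493 := ded_41_1 (flp_g L123540) L123532 L179277
theorem L179286 : sm gh N14492 = N21087 := rfl
theorem L179288 : sm ga N21087 = N14756 := ded_17_1 (flp_h L125715) (flp_a L123534) L179286
theorem L179290 : sm gb N21087 = N14499 := ded_25_1 (flp_h L123592) (flp_b L123536) L179286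
theorem L179292 : sm gc N21087 = N21087 := ded_32_1 (flp_h L179286) L123538 L179286
theorem L179293 : sm ge N21087 = N14494 := ded_43_1 (flp_h L123549) L123532 L179286
theorem L179295 : sm gj N21087 = N21087 := ded_52_1 (flp_h L179286) L123539 L179286
theorem L179296 : sm gj N14493 = N21088 := rfl
theorem L179298 : sm ga N21088 = N14757 := ded_16_1 (flp_j L125723) (flp_a L123542) L179296
theorem L179300 : sm gb N21088 = N14500 := ded_24_1 (flp_j L123601) (flp_b L123544) L179296
theorem L179302 : sm gc N21088 = N21088 := ded_31_1 (flp_j L179296) L123546 L179296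
theorem L179303 : sm gd N21088 = N15919 := ded_37_1 (flp_j L135791) (flp_d L123547) L179296
theorem L179305 : sm gg N21088 = N21088 := ded_49_1 (flp_j L179296) (flp_g L123540) L85327 L123540 L179296
theorem L179306 : sm gh N14493 = N21089 := rfl
theorem L179308 : sm ga N21089 = N14758 := ded_17_1 (flp_h L125731) (flp_a L123542) L179306
theorem L179310 : sm gb N21089 = N14501 := ded_25_1 (flp_h L123610) (flp_b L123544) L179306
theorem L179312 : sm gc N21089 = N21089 := ded_32_1 (flp_h L179306) L123546 L179306
theorem L179313 : sm gg N21089 = N14494 := ded_50_1 (flp_h L123549) L123540 L179306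
theorem L179315 : sm gd N14494 = N21090 := rfl
theorem L179317 : sm ga N21090 = N14759 := ded_12_1 (flp_d L125738) (flp_a L123551) L179315
theorem L179319 : sm gb N21090 = N14502 := ded_20_1 (flp_d L123618) (flp_b L123553) L179315
theorem L179321 : sm gf N21090 = N14495 := ded_35_2 (flp_d L123559) (flp_f L123556) L179315
theorem L179324 : sm gh N21090 = N15921 := ded_38_2 (flp_d L135810) (flp_h L93647) (flp_d L85325) L123549 L179315
theorem L179326 : sm gi N14494 = N21091 := rfl
theorem L179330 : sm gb N21091 = N14503 := ded_26_1 (flp_i L123628) (flp_b L123553) L179326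
theorem L179332 : sm gc N21091 = N21091 := ded_33_1 (flp_i L179326) L123555 L179326
theorem L179333 : sm gf N21091 = N14496 := ded_48_1 (flp_i L123568) (flp_f L123556) L179326
theorem L179335 : sm gj N21091 = N21091 := ded_53_1 (flp_i L179326) L123558 L179326
theorem L179336 : sm gc N14495 = N21092 := rfl
theorem L179341 : sm gh N21092 = N15923 := ded_32_2 (flp_c L135830) (flp_h L123566) L179336
theorem L179354 : sm gi N14495 = N21094 := rfl
theorem L179360 : sm gd N21094 = N14496 := ded_39_1 (flp_i L123568) L123559 L179354
theorem L179363 : sm gg N14497 = N21095 := rfl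
theorem L179365 : sm ga N21095 = N14513 := ded_15_1 (flp_g L123710) (flp_a L123578) L179363
theorem L179367 : sm gc N21095 = N21095 := ded_30_1 (flp_g L179363) L123581 L179363
theorem L179368 : sm gd N21095 = N14498 := ded_36_1 (flp_g L123584) L123576 L179363
theorem L179370 : sm ge N21095 = N15926 := ded_41_1 (flp_g L135855) (flp_e L123582) L179363
theorem L179372 : sm gh N14497 = N21096 := rfl
theorem L179374 : sm ga N21096 = N14514 := ded_17_1 (flp_h L123719) (flp_a L123578) L179372
theorem L179376 : sm gc N21096 = N21096 := ded_32_1 (flp_h L179372) L123581 L179372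
theorem L179377 : sm ge N21096 = N15927 := ded_43_1 (flp_h L135862) (flp_e L123582) L179372
theorem L179379 : sm gj N21096 = N21096 := ded_52_1 (flp_h L179372) L123580 L179372
theorem L179380 : sm gf N14498 = N21097 := rfl
theorem L179382 : sm ga N21097 = N14515 := ded_14_1 (flp_f L123727) (flp_a L123586) L179380
theorem L179384 : sm gc N21097 = N14506 := ded_29_1 (flp_f L123653) (flp_c L123588) L179380
theorem L179386 : sm gj N14498 = N21098 := rfl
theorem L179388 : sm ga N21098 = N14516 := ded_16_1 (flp_j L123733) (flp_a L123586) L179386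
theorem L179390 : sm gc N21098 = N14507 := ded_31_1 (flp_j L123659) (flp_c L123588) L179386
theorem L179392 : sm ge N21098 = N14500 := ded_42_1 (flp_j L123601) (flp_e L123590) L179386
theorem L179394 : sm gg N21098 = N21098 := ded_49_1 (flp_j L179386) (flp_g L123584) L85342 L123584 L179386
theorem L179395 : sm gh N14498 = N21099 := rfl
theorem L179397 : sm ga N21099 = N14517 := ded_17_1 (flp_h L123742) (flp_a L123586) L179395
theorem L179399 : sm gc N21099 = N14508 := ded_32_1 (flp_h L123668) (flp_c L123588) L179395
theorem L179401 : sm ge N21099 = N14501 := ded_43_1 (flp_h L123610) (flp_e L123590) L179395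
theorem L179403 : sm gg N21099 = N14499 := ded_50_1 (flp_h L123592) L123584 L179395
theorem L179405 : sm gd N14499 = N21100 := rfl
theorem L179407 : sm ga N21100 = N14518 := ded_12_1 (flp_d L123752) (flp_a L123594) L179405
theorem L179409 : sm gj N21100 = N21100 := ded_37_2 (flp_d L179405) L123600 L179405
theorem L179410 : sm gi N14499 = N21101 := rfl
theorem L179412 : sm ga N21101 = N14519 := ded_18_1 (flp_i L123757) (flp_a L123594) L179410
theorem L179414 : sm gc N21101 = N14510 := ded_33_1 (flp_i L123685) (flp_c L123596) L179410
theorem L179416 : sm ge N21101 = N14503 := ded_44_1 (flp_i L123628) (flp_e L123598) L179410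
theorem L179418 : sm gj N21101 = N21101 := ded_53_1 (flp_i L179410) L123600 L179410
theorem L179419 : sm gh N14500 = N21102 := rfl
theorem L179421 : sm ga N21102 = N14520 := ded_17_1 (flp_h L123766) (flp_a L123603) L179419
theorem L179423 : sm gc N21102 = N14511 := ded_32_1 (flp_h L123693) (flp_c L123605) L179419
theorem L179425 : sm gg N21102 = N21102 := ded_50_1 (flp_h L179419) L123609 L179419
theorem L179426 : sm gj N21102 = N14501 := ded_52_1 (flp_h L123610) L123601 L179419
theorem L179428 : sm gd N14501 = N21103 := rfl
theorem L179430 : sm ga N21103 = N14521 := ded_12_1 (flp_d L123775) (flp_a L123612) L179428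
theorem L179432 : sm gg N21103 = N14502 := ded_36_2 (flp_d L123618) (flp_g L123616) L179428
theorem L179434 : sm gc N21103 = N21103 := ded_27_1 (flp_d L179428) L123614 L85406 (flp_c L123614) L179428
theorem L179435 : sm gh N21103 = N15934 := ded_38_2 (flp_d L135920) (flp_h L93707) (flp_d L85349) L123610 L179428
theorem L179437 : sm gi N14501 = N21104 := rfl
theorem L179439 : sm ga N21104 = N14522 := ded_18_1 (flp_i L123784) (flp_a L123612) L179437
theorem L179441 : sm gc N21104 = N14512 := ded_33_1 (flp_i L123702) (flp_c L123614) L179437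
theorem L179443 : sm gg N21104 = N14503 := ded_51_1 (flp_i L123628) (flp_g L123616) L179437
theorem L179445 : sm ge N14502 = N21105 := rfl
theorem L179447 : sm ga N21105 = N14523 := ded_13_1 (flp_e L123792) (flp_a L123620) L179445
theorem L179449 : sm gc N21105 = N21105 := ded_28_1 (flp_e L179445) L123625 L179445
theorem L179450 : sm gj N21105 = N21105 := ded_42_2 (flp_e L179445) L123624 L179445
theorem L179451 : sm gh N21105 = N15936 := ded_43_2 (flp_e L135935) (flp_h L123626) L179445
theorem L179453 : sm gi N14502 = N21106 := rfl
theorem L179455 : sm ga N21106 = N14524 := ded_18_1 (flp_i L123800) (flp_a L123620) L179453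
theorem L179457 : sm gc N21106 = N21106 := ded_33_1 (flp_i L179453) L123625 L179453
theorem L179458 : sm gd N21106 = N14503 := ded_39_1 (flp_i L123628) L123618 L179453
theorem L179460 : sm gf N21106 = N14505 := ded_48_1 (flp_i L123645) (flp_f L123622) L179453
theorem L179462 : sm gj N21106 = N21106 := ded_53_1 (flp_i L179453) L123624 L179453
theorem L179463 : sm gf N14504 = N21107 := rfl
theorem L179465 : sm ga N21107 = N14525 := ded_14_1 (flp_f L123810) (flp_a L123639) L179463
theorem L179469 : sm gh N21107 = N15938 := ded_47_2 (flp_f L135951) (flp_h L123643) L179463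
theorem L179471 : sm gi N14504 = N21108 := rfl
theorem L179473 : sm ga N21108 = N14526 := ded_18_1 (flp_i L123818) (flp_a L123639) L179471
theorem L179476 : sm ge N21108 = N14505 := ded_44_1 (flp_i L123645) L123637 L179471
theorem L179487 : sm gj N14506 = N21110 := rfl
theorem L179489 : sm ga N21110 = N14528 := ded_16_1 (flp_j L123834) (flp_a L123655) L179487
theorem L179491 : sm gb N21110 = N21110 := ded_24_1 (flp_j L179487) L123657 L179487
theorem L179492 : sm gd N21110 = N21110 := ded_37_1 (flp_j L179487) L123658 L179487
theorem L179493 : sm gf N21110 = N14507 := ded_46_1 (flp_j L123659) L123653 L179487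
theorem L179495 : sm gh N14506 = N21111 := rfl
theorem L179497 : sm ga N21111 = N14529 := ded_17_1 (flp_h L123841) (flp_a L123655) L179495
theorem L179499 : sm gb N21111 = N21111 := ded_25_1 (flp_h L179495) L123657 L179495
theorem L179500 : sm gf N21111 = N14508 := ded_47_1 (flp_h L123668) L123653 L179495
theorem L179502 : sm gh N14507 = N21112 := rfl
theorem L179504 : sm ga N21112 = N14530 := ded_17_1 (flp_h L123847) (flp_a L123661) L179502
theorem L179506 : sm gb N21112 = N21112 := ded_25_1 (flp_h L179502) L123663 L179502
theorem L179507 : sm ge N21112 = N14511 := ded_43_1 (flp_h L123693) (flp_e L123665) L179502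
theorem L179509 : sm gg N21112 = N21112 := ded_50_1 (flp_h L179502) L123667 L179502
theorem L179510 : sm gj N21112 = N14508 := ded_52_1 (flp_h L123668) L123659 L179502
theorem L179512 : sm gd N14508 = N21113 := rfl
theorem L179514 : sm ga N21113 = N14531 := ded_12_1 (flp_d L123856) (flp_a L123670) L179512
theorem L179516 : sm gb N21113 = N21113 := ded_20_1 (flp_d L179512) L123672 L179512
theorem L179517 : sm gg N21113 = N14509 := ded_36_2 (flp_d L123677) (flp_g L123675) L179512
theorem L179519 : sm ge N21113 = N21113 := ded_34_2 (flp_d L179512) L123673 L85406 (flp_e L123673) L179512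
theorem L179520 : sm gh N21113 = N21113 := ded_38_2 (flp_d L179512) (flp_h L123668) L85380 L123668 L179512
theorem L179521 : sm gi N14508 = N21114 := rfl
theorem L179523 : sm ga N21114 = N14532 := ded_18_1 (flp_i L123864) (flp_a L123670) L179521
theorem L179525 : sm gb N21114 = N21114 := ded_26_1 (flp_i L179521) L123672 L179521
theorem L179526 : sm ge N21114 = N14512 := ded_44_1 (flp_i L123702) (flp_e L123673) L179521
theorem L179528 : sm gg N21114 = N14510 := ded_51_1 (flp_i L123685) (flp_g L123675) L179521
theorem L179530 : sm gc N14509 = N21115 := rfl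
theorem L179532 : sm ga N21115 = N14533 := ded_11_1 (flp_c L123872) (flp_a L123679) L179530
theorem L179534 : sm ge N21115 = N21115 := ded_28_2 (flp_c L179530) L123683 L179530
theorem L179535 : sm gj N21115 = N21115 := ded_31_2 (flp_c L179530) L123682 L179530
theorem L179536 : sm gh N21115 = N21115 := ded_32_2 (flp_c L179530) L123684 L179530
theorem L179537 : sm gi N14509 = N21116 := rfl
theorem L179539 : sm ga N21116 = N14534 := ded_18_1 (flp_i L123877) (flp_a L123679) L179537
theorem L179541 : sm gb N21116 = N21116 := ded_26_1 (flp_i L179537) L123681 L179537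
theorem L179542 : sm gd N21116 = N14510 := ded_39_1 (flp_i L123685) L123677 L179537
theorem L179544 : sm ge N21116 = N21116 := ded_44_1 (flp_i L179537) L123683 L179537
theorem L179545 : sm gj N21116 = N21116 := ded_53_1 (flp_i L179537) L123682 L179537
theorem L179546 : sm gi N14511 = N21117 := rfl
theorem L179548 : sm ga N21117 = N14535 := ded_18_1 (flp_i L123885) (flp_a L123695) L179546
theorem L179550 : sm gb N21117 = N21117 := ded_26_1 (flp_i L179546) L123697 L179546
theorem L179551 : sm gd N21117 = N21117 := ded_39_1 (flp_i L179546) L123701 L179546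
theorem L179552 : sm gg N21117 = N21117 := ded_51_1 (flp_i L179546) L123698 L179546
theorem L179553 : sm gj N21117 = N14512 := ded_53_1 (flp_i L123702) (flp_j L123699) L179546
theorem L179555 : sm gf N14513 = N21118 := rfl
theorem L179557 : sm gb N21118 = N14787 := ded_22_1 (flp_f L125984) (flp_b L123712) L179555
theorem L179559 : sm gc N21118 = N21118 := ded_29_1 (flp_f L179555) L123714 L179555
theorem L179560 : sm gd N21118 = N14515 := ded_35_1 (flp_f L123727) (flp_d L123715) L179555
theorem L179562 : sm gj N14513 = N21119 := rfl
theorem L179564 : sm gb N21119 = N14788 := ded_24_1 (flp_j L125990) (flp_b L123712) L179562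
theorem L179566 : sm gc N21119 = N21119 := ded_31_1 (flp_j L179562) L123714 L179562
theorem L179567 : sm gd N21119 = N14516 := ded_37_1 (flp_j L123733) (flp_d L123715) L179562
theorem L179569 : sm ge N21119 = N15950 := ded_42_1 (flp_j L136059) (flp_e L123717) L179562
theorem L179571 : sm gg N21119 = N21119 := ded_49_1 (flp_j L179562) (flp_g L123710) L85420 L123710 L179562
theorem L179572 : sm gh N14513 = N21120 := rfl
theorem L179574 : sm gb N21120 = N14789 := ded_25_1 (flp_h L125999) (flp_b L123712) L179572
theorem L179576 : sm gc N21120 = N21120 := ded_32_1 (flp_h L179572) L123714 L179572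
theorem L179577 : sm ge N21120 = N15951 := ded_43_1 (flp_h L136067) (flp_e L123717) L179572
theorem L179579 : sm gg N21120 = N14514 := ded_50_1 (flp_h L123719) L123710 L179572
theorem L179581 : sm gd N14514 = N21121 := rfl
theorem L179583 : sm gb N21121 = N14790 := ded_20_1 (flp_d L126007) (flp_b L123721) L179581
theorem L179585 : sm gj N21121 = N21121 := ded_37_2 (flp_d L179581) L123726 L179581
theorem L179586 : sm gh N21121 = N14518 := ded_38_2 (flp_d L123752) (flp_h L85432) L85416 L123719 L179581
theorem L179588 : sm gi N14514 = N21122 := rfl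
theorem L179590 : sm gb N21122 = N14791 := ded_26_1 (flp_i L126012) (flp_b L123721) L179588
theorem L179592 : sm gc N21122 = N21122 := ded_33_1 (flp_i L179588) L123723 L179588
theorem L179593 : sm ge N21122 = N15953 := ded_44_1 (flp_i L136082) (flp_e L123724) L179588
theorem L179595 : sm gj N21122 = N21122 := ded_53_1 (flp_i L179588) L123726 L179588
theorem L179596 : sm gj N14515 = N21123 := rfl
theorem L179598 : sm gb N21123 = N14792 := ded_24_1 (flp_j L126019) (flp_b L123729) L179596
theorem L179600 : sm gc N21123 = N14528 := ded_31_1 (flp_j L123834) (flp_c L123731) L179596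
theorem L179602 : sm gf N21123 = N14516 := ded_46_1 (flp_j L123733) L123727 L179596
theorem L179604 : sm gh N14515 = N21124 := rfl
theorem L179606 : sm gb N21124 = N14793 := ded_25_1 (flp_h L126025) (flp_b L123729) L179604
theorem L179608 : sm gc N21124 = N14529 := ded_32_1 (flp_h L123841) (flp_c L123731) L179604
theorem L179610 : sm gf N21124 = N14517 := ded_47_1 (flp_h L123742) L123727 L179604
theorem L179612 : sm gh N14516 = N21125 := rfl
theorem L179614 : sm gb N21125 = N14794 := ded_25_1 (flp_h L126031) (flp_b L123735) L179612
theorem L179616 : sm gc N21125 = N14530 := ded_32_1 (flp_h L123847) (flp_c L123737) L179612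
theorem L179618 : sm ge N21125 = N14520 := ded_43_1 (flp_h L123766) (flp_e L123739) L179612
theorem L179620 : sm gg N21125 = N21125 := ded_50_1 (flp_h L179612) L123741 L179612
theorem L179621 : sm gj N21125 = N14517 := ded_52_1 (flp_h L123742) L123733 L179612
theorem L179623 : sm gd N14517 = N21126 := rfl
theorem L179625 : sm gb N21126 = N14795 := ded_20_1 (flp_d L126040) (flp_b L123744) L179623
theorem L179627 : sm gg N21126 = N14518 := ded_36_2 (flp_d L123752) (flp_g L123750) L179623
theorem L179629 : sm gi N14517 = N21127 := rfl
theorem L179631 : sm gb N21127 = N14796 := ded_26_1 (flp_i L126044) (flp_b L123744) L179629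
theorem L179633 : sm gc N21127 = N14532 := ded_33_1 (flp_i L123864) (flp_c L123746) L179629
theorem L179635 : sm ge N21127 = N14522 := ded_44_1 (flp_i L123784) (flp_e L123748) L179629
theorem L179637 : sm gg N21127 = N14519 := ded_51_1 (flp_i L123757) (flp_g L123750) L179629
theorem L179639 : sm gc N14518 = N21128 := rfl
theorem L179641 : sm gj N21128 = N21128 := ded_31_2 (flp_c L179639) L123756 L179639
theorem L179642 : sm gd N21128 = N14533 := ded_27_2 (flp_c L123872) (flp_d L85514) (flp_c L85436) L123752 L179639
theorem L179644 : sm ge N14518 = N21129 := rfl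
theorem L179646 : sm gb N21129 = N14798 := ded_21_1 (flp_e L126057) (flp_b L123754) L179644
theorem L179648 : sm gj N21129 = N21129 := ded_42_2 (flp_e L179644) L123756 L179644
theorem L179649 : sm gd N21129 = N14523 := ded_34_1 (flp_e L123792) (flp_d L85458) (flp_e L85438) L123752 L179644
theorem L179651 : sm gi N14518 = N21130 := rfl
theorem L179653 : sm gb N21130 = N14799 := ded_26_1 (flp_i L126062) (flp_b L123754) L179651
theorem L179655 : sm gd N21130 = N14519 := ded_39_1 (flp_i L123757) L123752 L179651
theorem L179657 : sm gj N21130 = N21130 := ded_53_1 (flp_i L179651) L123756 L179651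
theorem L179658 : sm gd N14520 = N21131 := rfl
theorem L179660 : sm gb N21131 = N14800 := ded_20_1 (flp_d L126067) (flp_b L123768) L179658
theorem L179662 : sm gg N21131 = N21131 := ded_36_2 (flp_d L179658) L123772 L179658
theorem L179663 : sm gj N21131 = N14521 := ded_37_2 (flp_d L123775) (flp_j L123773) L179658
theorem L179665 : sm gc N21131 = N21131 := ded_27_1 (flp_d L179658) L123770 L85535 (flp_c L123770) L179658
theorem L179666 : sm gh N21131 = N15962 := ded_38_2 (flp_d L136155) (flp_h L93870) (flp_d L85447) L123766 L179658
theorem L179668 : sm gi N14520 = N21132 := rfl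
theorem L179670 : sm gb N21132 = N14801 := ded_26_1 (flp_i L126076) (flp_b L123768) L179668
theorem L179672 : sm gc N21132 = N14535 := ded_33_1 (flp_i L123885) (flp_c L123770) L179668
theorem L179674 : sm gg N21132 = N21132 := ded_51_1 (flp_i L179668) L123772 L179668
theorem L179675 : sm gj N21132 = N14522 := ded_53_1 (flp_i L123784) (flp_j L123773) L179668
theorem L179677 : sm ge N14521 = N21133 := rfl
theorem L179679 : sm gb N21133 = N14802 := ded_21_1 (flp_e L126083) (flp_b L123777) L179677
theorem L179681 : sm gc N21133 = N21133 := ded_28_1 (flp_e L179677) L123781 L179677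
theorem L179682 : sm gg N21133 = N14523 := ded_41_2 (flp_e L123792) (flp_g L123779) L179677
theorem L179684 : sm gh N21133 = N15964 := ded_43_2 (flp_e L136172) (flp_h L123782) L179677
theorem L179686 : sm gi N14521 = N21134 := rfl
theorem L179688 : sm gb N21134 = N14803 := ded_26_1 (flp_i L126091) (flp_b L123777) L179686
theorem L179690 : sm gc N21134 = N21134 := ded_33_1 (flp_i L179686) L123781 L179686
theorem L179691 : sm gd N21134 = N14522 := ded_39_1 (flp_i L123784) L123775 L179686
theorem L179693 : sm gg N21134 = N14524 := ded_51_1 (flp_i L123800) (flp_g L123779) L179686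
theorem L179695 : sm gf N14523 = N21135 := rfl
theorem L179697 : sm gb N21135 = N14804 := ded_22_1 (flp_f L126099) (flp_b L123794) L179695
theorem L179699 : sm gc N21135 = N21135 := ded_29_1 (flp_f L179695) L123796 L179695
theorem L179700 : sm gj N21135 = N21135 := ded_46_2 (flp_f L179695) L123797 L179695
theorem L179701 : sm gh N21135 = N15966 := ded_47_2 (flp_f L136188) (flp_h L123798) L179695
theorem L179703 : sm ge N21135 = N14525 := ded_40_1 (flp_f L123810) (flp_e L85477) (flp_f L85462) L123792 L179695
theorem L179705 : sm gi N14523 = N21136 := rfl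
theorem L179707 : sm gb N21136 = N14805 := ded_26_1 (flp_i L126108) (flp_b L123794) L179705
theorem L179709 : sm gc N21136 = N21136 := ded_33_1 (flp_i L179705) L123796 L179705
theorem L179710 : sm ge N21136 = N14524 := ded_44_1 (flp_i L123800) L123792 L179705
theorem L179712 : sm gj N21136 = N21136 := ded_53_1 (flp_i L179705) L123797 L179705
theorem L179713 : sm gh N14524 = N21137 := rfl
theorem L179715 : sm gb N21137 = N14806 := ded_25_1 (flp_h L126115) (flp_b L123802) L179713
theorem L179723 : sm gg N14525 = N21138 := rfl
theorem L179725 : sm gb N21138 = N14807 := ded_23_1 (flp_g L126124) (flp_b L123812) L179723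
theorem L179727 : sm gc N21138 = N21138 := ded_30_1 (flp_g L179723) L123814 L179723
theorem L179728 : sm gh N21138 = N15969 := ded_50_2 (flp_g L136212) (flp_h L123816) L179723
theorem L179730 : sm gi N14525 = N21139 := rfl
theorem L179732 : sm gb N21139 = N14808 := ded_26_1 (flp_i L126130) (flp_b L123812) L179730
theorem L179734 : sm gc N21139 = N21139 := ded_33_1 (flp_i L179730) L123814 L179730
theorem L179735 : sm gf N21139 = N14526 := ded_48_1 (flp_i L123818) L123810 L179730
theorem L179737 : sm gj N21139 = N21139 := ded_53_1 (flp_i L179730) L123815 L179730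
theorem L179748 : sm gg N14528 = N21141 := rfl
theorem L179750 : sm gb N21141 = N14536 := ded_23_1 (flp_g L123893) (flp_b L123836) L179748
theorem L179752 : sm gd N21141 = N21141 := ded_36_1 (flp_g L179748) L123838 L179748
theorem L179753 : sm gf N21141 = N21141 := ded_45_1 (flp_g L179748) L123839 L85505 (flp_f L123839) L179748
theorem L179754 : sm gh N14528 = N21142 := rfl
theorem L179756 : sm gb N21142 = N14537 := ded_25_1 (flp_h L123900) (flp_b L123836) L179754
theorem L179758 : sm gf N21142 = N14530 := ded_47_1 (flp_h L123847) (flp_f L123839) L179754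
theorem L179760 : sm gj N21142 = N14529 := ded_52_1 (flp_h L123841) L123834 L179754
theorem L179762 : sm gd N14529 = N21143 := rfl
theorem L179764 : sm gb N21143 = N14538 := ded_20_1 (flp_d L123909) (flp_b L123843) L179762
theorem L179766 : sm gf N21143 = N14531 := ded_35_2 (flp_d L123856) (flp_f L123845) L179762
theorem L179768 : sm gh N21143 = N21143 := ded_38_2 (flp_d L179762) (flp_h L123841) L85497 L123841 L179762
theorem L179769 : sm gi N14529 = N21144 := rfl
theorem L179771 : sm gb N21144 = N14539 := ded_26_1 (flp_i L123915) (flp_b L123843) L179769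
theorem L179773 : sm gf N21144 = N14532 := ded_48_1 (flp_i L123864) (flp_f L123845) L179769
theorem L179775 : sm gd N14530 = N21145 := rfl
theorem L179777 : sm gb N21145 = N14540 := ded_20_1 (flp_d L123922) (flp_b L123849) L179775
theorem L179779 : sm gg N21145 = N21145 := ded_36_2 (flp_d L179775) L123853 L179775
theorem L179780 : sm gj N21145 = N14531 := ded_37_2 (flp_d L123856) (flp_j L123854) L179775
theorem L179782 : sm ge N21145 = N21145 := ded_34_2 (flp_d L179775) L123851 L85535 (flp_e L123851) L179775
theorem L179783 : sm gh N21145 = N21145 := ded_38_2 (flp_d L179775) (flp_h L123847) L85502 L123847 L179775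
theorem L179784 : sm gi N14530 = N21146 := rfl
theorem L179786 : sm gb N21146 = N14541 := ded_26_1 (flp_i L123930) (flp_b L123849) L179784
theorem L179788 : sm ge N21146 = N14535 := ded_44_1 (flp_i L123885) (flp_e L123851) L179784
theorem L179790 : sm gg N21146 = N21146 := ded_51_1 (flp_i L179784) L123853 L179784
theorem L179791 : sm gj N21146 = N14532 := ded_53_1 (flp_i L123864) (flp_j L123854) L179784
theorem L179793 : sm gc N14531 = N21147 := rfl
theorem L179795 : sm ge N21147 = N21147 := ded_28_2 (flp_c L179793) L123862 L179793
theorem L179796 : sm gg N21147 = N14533 := ded_30_2 (flp_c L123872) (flp_g L123860) L179793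
theorem L179798 : sm gh N21147 = N21147 := ded_32_2 (flp_c L179793) L123863 L179793
theorem L179799 : sm gi N14531 = N21148 := rfl
theorem L179801 : sm gb N21148 = N14543 := ded_26_1 (flp_i L123949) (flp_b L123858) L179799
theorem L179803 : sm gd N21148 = N14532 := ded_39_1 (flp_i L123864) L123856 L179799
theorem L179805 : sm ge N21148 = N21148 := ded_44_1 (flp_i L179799) L123862 L179799
theorem L179806 : sm gg N21148 = N14534 := ded_51_1 (flp_i L123877) (flp_g L123860) L179799
theorem L179808 : sm gb N14533 = N21149 := rfl
theorem L179810 : sm ge N21149 = N21149 := ded_21_2 (flp_b L179808) L123874 L179808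
theorem L179811 : sm gj N21149 = N21149 := ded_24_2 (flp_b L179808) L123875 L179808
theorem L179812 : sm gh N21149 = N21149 := ded_25_2 (flp_b L179808) L123876 L179808
theorem L179813 : sm gc N21149 = N14544 := ded_19_2 (flp_b L123957) (flp_c L85584) (flp_b L85516) L123872 L179808
theorem L179815 : sm gi N14533 = N21150 := rfl
theorem L179817 : sm gc N21150 = N14534 := ded_33_1 (flp_i L123877) L123872 L179815
theorem L179819 : sm ge N21150 = N21150 := ded_44_1 (flp_i L179815) L123874 L179815
theorem L179820 : sm gj N21150 = N21150 := ded_53_1 (flp_i L179815) L123875 L179815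
theorem L179821 : sm gh N14534 = N21151 := rfl
theorem L179823 : sm gb N21151 = N14546 := ded_25_1 (flp_h L123973) (flp_b L123879) L179821
theorem L179825 : sm ge N21151 = N21151 := ded_43_1 (flp_h L179821) L123883 L179821
theorem L179826 : sm gj N21151 = N21151 := ded_52_1 (flp_h L179821) L123884 L179821
theorem L179827 : sm gi N21151 = N21151 := ded_54_2 (flp_h L179821) (flp_i L123877) L85520 L123877 L179821
theorem L179828 : sm gh N14536 = N21152 := rfl
theorem L179830 : sm ga N21152 = N21152 := ded_17_1 (flp_h L179828) L123895 L179828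
theorem L179831 : sm gc N21152 = N14821 := ded_32_1 (flp_h L126238) (flp_c L123896) L179828
theorem L179833 : sm gf N21152 = N21152 := ded_47_1 (flp_h L179828) L123899 L179828
theorem L179834 : sm gg N21152 = N14537 := ded_50_1 (flp_h L123900) L123893 L179828
theorem L179836 : sm gd N14537 = N21153 := rfl
theorem L179838 : sm ga N21153 = N21153 := ded_12_1 (flp_d L179836) L123902 L179836
theorem L179839 : sm gf N21153 = N14540 := ded_35_2 (flp_d L123922) (flp_f L123905) L179836
theorem L179841 : sm gj N21153 = N14538 := ded_37_2 (flp_d L123909) (flp_j L123907) L179836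
theorem L179843 : sm gh N21153 = N21153 := ded_38_2 (flp_d L179836) (flp_h L123900) L85548 L123900 L179836
theorem L179844 : sm gi N14537 = N21154 := rfl
theorem L179846 : sm ga N21154 = N21154 := ded_18_1 (flp_i L179844) L123902 L179844
theorem L179847 : sm gc N21154 = N14823 := ded_33_1 (flp_i L126253) (flp_c L123903) L179844
theorem L179849 : sm gf N21154 = N14541 := ded_48_1 (flp_i L123930) (flp_f L123905) L179844
theorem L179851 : sm gj N21154 = N14539 := ded_53_1 (flp_i L123915) (flp_j L123907) L179844
theorem L179853 : sm gc N14538 = N21155 := rfl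
theorem L179855 : sm ga N21155 = N21155 := ded_11_1 (flp_c L179853) L123911 L179853
theorem L179856 : sm gf N21155 = N14542 := ded_29_2 (flp_c L123940) (flp_f L123912) L179853
theorem L179858 : sm gh N21155 = N21155 := ded_32_2 (flp_c L179853) L123914 L179853
theorem L179859 : sm gd N21155 = N14824 := ded_27_2 (flp_c L126260) (flp_d L87116) (flp_c L85554) L123909 L179853
theorem L179861 : sm ge N14538 = N21156 := rfl
theorem L179863 : sm ga N21156 = N21156 := ded_13_1 (flp_e L179861) L123911 L179861
theorem L179864 : sm gh N21156 = N21156 := ded_43_2 (flp_e L179861) L123914 L179861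
theorem L179865 : sm gf N21156 = N21156 := ded_40_2 (flp_e L179861) L123912 L85573 (flp_f L123912) L179861
theorem L179866 : sm gi N14538 = N21157 := rfl
theorem L179868 : sm ga N21157 = N21157 := ded_18_1 (flp_i L179866) L123911 L179866
theorem L179869 : sm gd N21157 = N14539 := ded_39_1 (flp_i L123915) L123909 L179866
theorem L179871 : sm gf N21157 = N14543 := ded_48_1 (flp_i L123949) (flp_f L123912) L179866
theorem L179873 : sm gc N14540 = N21158 := rfl
theorem L179875 : sm ga N21158 = N21158 := ded_11_1 (flp_c L179873) L123924 L179873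
theorem L179876 : sm ge N21158 = N21158 := ded_28_2 (flp_c L179873) L123928 L179873
theorem L179877 : sm gg N21158 = N21158 := ded_30_2 (flp_c L179873) L123925 L179873
theorem L179878 : sm gj N21158 = N14542 := ded_31_2 (flp_c L123940) (flp_j L123926) L179873
theorem L179880 : sm gh N21158 = N21158 := ded_32_2 (flp_c L179873) L123929 L179873
theorem L179881 : sm gd N21158 = N14827 := ded_27_2 (flp_c L126281) (flp_d L87128) (flp_c L85561) L123922 L179873
theorem L179883 : sm gi N14540 = N21159 := rfl
theorem L179885 : sm ga N21159 = N21159 := ded_18_1 (flp_i L179883) L123924 L179883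
theorem L179886 : sm gd N21159 = N14541 := ded_39_1 (flp_i L123930) L123922 L179883
theorem L179888 : sm ge N21159 = N21159 := ded_44_1 (flp_i L179883) L123928 L179883
theorem L179889 : sm gg N21159 = N21159 := ded_51_1 (flp_i L179883) L123925 L179883
theorem L179890 : sm gj N21159 = N14543 := ded_53_1 (flp_i L123949) (flp_j L123926) L179883
theorem L179892 : sm gb N14542 = N21160 := rfl
theorem L179894 : sm gd N21160 = N14829 := ded_20_2 (flp_b L126301) (flp_d L123947) L179892
theorem L179896 : sm ge N21160 = N21160 := ded_21_2 (flp_b L179892) L123943 L179892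
theorem L179897 : sm gg N21160 = N14544 := ded_23_2 (flp_b L123957) (flp_g L123944) L179892
theorem L179899 : sm gh N21160 = N21160 := ded_25_2 (flp_b L179892) L123946 L179892
theorem L179900 : sm gi N14542 = N21161 := rfl
theorem L179902 : sm ga N21161 = N21161 := ded_18_1 (flp_i L179900) L123942 L179900
theorem L179903 : sm gc N21161 = N14543 := ded_33_1 (flp_i L123949) L123940 L179900
theorem L179905 : sm gd N21161 = N14830 := ded_39_1 (flp_i L126309) (flp_d L123947) L179900
theorem L179907 : sm ge N21161 = N21161 := ded_44_1 (flp_i L179900) L123943 L179900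
theorem L179908 : sm gg N21161 = N14545 := ded_51_1 (flp_i L123964) (flp_g L123944) L179900
theorem L179910 : sm gh N14543 = N21162 := rfl
theorem L179912 : sm ga N21162 = N21162 := ded_17_1 (flp_h L179910) L123951 L179910
theorem L179913 : sm ge N21162 = N21162 := ded_43_1 (flp_h L179910) L123954 L179910
theorem L179914 : sm gg N21162 = N14546 := ded_50_1 (flp_h L123973) (flp_g L123955) L179910
theorem L179916 : sm gi N21162 = N21162 := ded_54_2 (flp_h L179910) (flp_i L123949) L85574 L123949 L179910
theorem L179917 : sm ga N14544 = N21163 := rfl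
theorem L179919 : sm gd N21163 = N14832 := ded_12_2 (flp_a L126327) (flp_d L123959) L179917
theorem L179921 : sm ge N21163 = N21163 := ded_13_2 (flp_a L179917) L123961 L179917
theorem L179922 : sm gj N21163 = N21163 := ded_16_2 (flp_a L179917) L123962 L179917
theorem L179923 : sm gh N21163 = N21163 := ded_17_2 (flp_a L179917) L123963 L179917
theorem L179924 : sm gb N21163 = N21163 := ded_10_2 (flp_a L179917) (flp_b L123957) L85586 L123957 L179917
theorem L179925 : sm gi N14544 = N21164 := rfl
theorem L179927 : sm gb N21164 = N14545 := ded_26_1 (flp_i L123964) L123957 L179925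
theorem L179929 : sm gd N21164 = N14833 := ded_39_1 (flp_i L126335) (flp_d L123959) L179925
theorem L179931 : sm ge N21164 = N21164 := ded_44_1 (flp_i L179925) L123961 L179925
theorem L179932 : sm gj N21164 = N21164 := ded_53_1 (flp_i L179925) L123962 L179925
theorem L179933 : sm gh N14545 = N21165 := rfl
theorem L179935 : sm ga N21165 = N21165 := ded_17_1 (flp_h L179933) L123966 L179933
theorem L179936 : sm gc N21165 = N14546 := ded_32_1 (flp_h L123973) (flp_c L123967) L179933
theorem L179938 : sm ge N21165 = N21165 := ded_43_1 (flp_h L179933) L123971 L179933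
theorem L179939 : sm gj N21165 = N21165 := ded_52_1 (flp_h L179933) L123972 L179933
theorem L179940 : sm gi N21165 = N21165 := ded_54_2 (flp_h L179933) (flp_i L123964) L85589 L123964 L179933
theorem L179941 : sm gf N14547 = N21166 := rfl
theorem L179943 : sm gb N21166 = N14548 := ded_22_1 (flp_f L123989) L123979 L179941
theorem L179945 : sm gc N21166 = N21166 := ded_29_1 (flp_f L179941) L123988 L179941
theorem L179946 : sm gd N21166 = N15989 := ded_35_1 (flp_f L136383) (flp_d L123981) L179941
theorem L179948 : sm gj N21166 = N14608 := ded_46_2 (flp_f L124521) (flp_j L123984) L179941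
theorem L179950 : sm gi N21166 = N14572 := ded_48_2 (flp_f L124212) (flp_i L123986) L179941
theorem L179952 : sm gh N14547 = N21167 := rfl
theorem L179954 : sm gb N21167 = N14549 := ded_25_1 (flp_h L124001) L123979 L179952
theorem L179958 : sm gj N21167 = N14609 := ded_52_1 (flp_h L124530) (flp_j L123984) L179952
theorem L179960 : sm ge N14548 = N21168 := rfl
theorem L179962 : sm ga N21168 = N14555 := ded_13_1 (flp_e L124065) (flp_a L123991) L179960
theorem L179964 : sm gc N21168 = N14550 := ded_28_1 (flp_e L124010) (flp_c L123993) L179960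
theorem L179966 : sm gj N21168 = N14610 := ded_42_2 (flp_e L124537) (flp_j L123997) L179960
theorem L179968 : sm gi N21168 = N14574 := ded_44_2 (flp_e L124229) (flp_i L123999) L179960
theorem L179970 : sm gg N14548 = N21169 := rfl
theorem L179972 : sm ga N21169 = N14556 := ded_15_1 (flp_g L124073) (flp_a L123991) L179970
theorem L179974 : sm gc N21169 = N14551 := ded_30_1 (flp_g L124020) (flp_c L123993) L179970
theorem L179976 : sm gd N21169 = N15992 := ded_36_1 (flp_g L136414) (flp_d L123995) L179970
theorem L179978 : sm gi N21169 = N14575 := ded_51_2 (flp_g L124237) (flp_i L123999) L179970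
theorem L179980 : sm gf N21169 = N21169 := ded_45_1 (flp_g L179970) (flp_f L123989) L85612 L123989 L179970
theorem L179981 : sm gh N14548 = N21170 := rfl
theorem L179983 : sm ga N21170 = N14557 := ded_17_1 (flp_h L124082) (flp_a L123991) L179981
theorem L179985 : sm gc N21170 = N14552 := ded_32_1 (flp_h L124030) (flp_c L123993) L179981
theorem L179987 : sm gf N21170 = N14549 := ded_47_1 (flp_h L124001) L123989 L179981
theorem L179989 : sm gj N21170 = N14612 := ded_52_1 (flp_h L124557) (flp_j L123997) L179981
theorem L179991 : sm gd N14549 = N21171 := rfl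
theorem L179993 : sm ga N21171 = N14558 := ded_12_1 (flp_d L124090) (flp_a L124003) L179991
theorem L179996 : sm gj N21171 = N14613 := ded_37_2 (flp_d L124565) (flp_j L124008) L179991
theorem L179999 : sm gh N21171 = N15994 := ded_38_2 (flp_d L136433) (flp_h L94092) (flp_d L85617) L124001 L179991
theorem L180001 : sm gi N14549 = N21172 := rfl
theorem L180003 : sm ga N21172 = N14559 := ded_18_1 (flp_i L124098) (flp_a L124003) L180001
theorem L180005 : sm gc N21172 = N14553 := ded_33_1 (flp_i L124040) (flp_c L124005) L180001
theorem L180007 : sm gg N21172 = N21172 := ded_51_1 (flp_i L180001) L124007 L180001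
theorem L180008 : sm gj N21172 = N14614 := ded_53_1 (flp_i L124574) (flp_j L124008) L180001
theorem L180010 : sm gh N21172 = N14578 := ded_54_1 (flp_i L124267) (flp_h L85778) (flp_i L85615) L124001 L180001
theorem L180012 : sm gg N14550 = N21173 := rfl
theorem L180014 : sm ga N21173 = N14560 := ded_15_1 (flp_g L124107) (flp_a L124012) L180012
theorem L180016 : sm gb N21173 = N21173 := ded_23_1 (flp_g L180012) L124014 L180012
theorem L180017 : sm gd N21173 = N21173 := ded_36_1 (flp_g L180012) L124019 L180012
theorem L180018 : sm ge N21173 = N14551 := ded_41_1 (flp_g L124020) L124010 L180012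
theorem L180020 : sm gi N21173 = N14579 := ded_51_2 (flp_g L124276) (flp_i L124017) L180012
theorem L180022 : sm gh N14550 = N21174 := rfl
theorem L180024 : sm ga N21174 = N14561 := ded_17_1 (flp_h L124116) (flp_a L124012) L180022
theorem L180026 : sm gb N21174 = N21174 := ded_25_1 (flp_h L180022) L124014 L180022
theorem L180027 : sm ge N21174 = N14552 := ded_43_1 (flp_h L124030) L124010 L180022
theorem L180029 : sm gj N21174 = N14616 := ded_52_1 (flp_h L124594) (flp_j L124015) L180022
theorem L180031 : sm gj N14551 = N21175 := rfl
theorem L180033 : sm ga N21175 = N14562 := ded_16_1 (flp_j L124124) (flp_a L124022) L180031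
theorem L180035 : sm gb N21175 = N21175 := ded_24_1 (flp_j L180031) L124024 L180031
theorem L180036 : sm gd N21175 = N14554 := ded_37_1 (flp_j L124051) (flp_d L124025) L180031
theorem L180038 : sm gf N21175 = N21175 := ded_46_1 (flp_j L180031) L124029 L180031
theorem L180039 : sm gi N21175 = N14581 := ded_53_2 (flp_j L124293) (flp_i L124027) L180031
theorem L180041 : sm gg N21175 = N14617 := ded_49_1 (flp_j L124601) (flp_g L86005) (flp_j L85626) L124020 L180031
theorem L180043 : sm gh N14551 = N21176 := rfl
theorem L180045 : sm ga N21176 = N14563 := ded_17_1 (flp_h L124135) (flp_a L124022) L180043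
theorem L180047 : sm gb N21176 = N21176 := ded_25_1 (flp_h L180043) L124024 L180043
theorem L180048 : sm gf N21176 = N21176 := ded_47_1 (flp_h L180043) L124029 L180043
theorem L180049 : sm gg N21176 = N14552 := ded_50_1 (flp_h L124030) L124020 L180043
theorem L180051 : sm gd N21176 = N21176 := ded_38_1 (flp_h L180043) L124025 L85647 (flp_d L124025) L180043
theorem L180052 : sm gi N14552 = N21177 := rfl
theorem L180054 : sm ga N21177 = N14564 := ded_18_1 (flp_i L124143) (flp_a L124032) L180052
theorem L180056 : sm gb N21177 = N21177 := ded_26_1 (flp_i L180052) L124034 L180052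
theorem L180057 : sm gd N21177 = N21177 := ded_39_1 (flp_i L180052) L124039 L180052
theorem L180058 : sm gf N21177 = N14553 := ded_48_1 (flp_i L124040) (flp_f L124035) L180052
theorem L180060 : sm gj N21177 = N14619 := ded_53_1 (flp_i L124622) (flp_j L124037) L180052
theorem L180062 : sm gh N21177 = N14583 := ded_54_1 (flp_i L124313) (flp_h L85803) (flp_i L85628) L124030 L180052
theorem L180064 : sm gd N14555 = N21178 := rfl
theorem L180066 : sm gj N21178 = N14620 := ded_37_2 (flp_d L124632) (flp_j L124069) L180064
theorem L180068 : sm gi N21178 = N14584 := ded_39_2 (flp_d L124324) (flp_i L124071) L180064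
theorem L180070 : sm gc N21178 = N21178 := ded_27_1 (flp_d L180064) L124067 L85676 (flp_c L124067) L180064
theorem L180071 : sm ge N21178 = N16001 := ded_34_2 (flp_d L136511) (flp_e L94162) (flp_d L85655) L124065 L180064
theorem L180073 : sm gg N14555 = N21179 := rfl
theorem L180075 : sm gc N21179 = N14560 := ded_30_1 (flp_g L124107) (flp_c L124067) L180073
theorem L180077 : sm ge N21179 = N14556 := ded_41_1 (flp_g L124073) L124065 L180073
theorem L180079 : sm gi N21179 = N14585 := ded_51_2 (flp_g L124331) (flp_i L124071) L180073
theorem L180081 : sm gh N14555 = N21180 := rfl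
theorem L180083 : sm gc N21180 = N14561 := ded_32_1 (flp_h L124116) (flp_c L124067) L180081
theorem L180085 : sm ge N21180 = N14557 := ded_43_1 (flp_h L124082) L124065 L180081
theorem L180087 : sm gj N21180 = N14622 := ded_52_1 (flp_h L124647) (flp_j L124069) L180081
theorem L180089 : sm gj N14556 = N21181 := rfl
theorem L180091 : sm gc N21181 = N14562 := ded_31_1 (flp_j L124124) (flp_c L124075) L180089
theorem L180093 : sm gd N21181 = N16004 := ded_37_1 (flp_j L136536) (flp_d L124077) L180089
theorem L180095 : sm gf N21181 = N21181 := ded_46_1 (flp_j L180089) L124081 L180089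
theorem L180096 : sm gi N21181 = N14587 := ded_53_2 (flp_j L124345) (flp_i L124079) L180089
theorem L180098 : sm gg N21181 = N14623 := ded_49_1 (flp_j L124653) (flp_g L86053) (flp_j L85657) L124073 L180089
theorem L180100 : sm gh N14556 = N21182 := rfl
theorem L180102 : sm gc N21182 = N14563 := ded_32_1 (flp_h L124135) (flp_c L124075) L180100
theorem L180104 : sm gf N21182 = N21182 := ded_47_1 (flp_h L180100) L124081 L180100
theorem L180105 : sm gg N21182 = N14557 := ded_50_1 (flp_h L124082) L124073 L180100
theorem L180107 : sm gd N14557 = N21183 := rfl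
theorem L180109 : sm gf N21183 = N14558 := ded_35_2 (flp_d L124090) (flp_f L124086) L180107
theorem L180111 : sm gj N21183 = N14625 := ded_37_2 (flp_d L124671) (flp_j L124088) L180107
theorem L180113 : sm gc N21183 = N21183 := ded_27_1 (flp_d L180107) L124084 L85694 (flp_c L124084) L180107
theorem L180114 : sm gh N21183 = N16006 := ded_38_2 (flp_d L136552) (flp_h L94178) (flp_d L85655) L124082 L180107
theorem L180116 : sm gi N14557 = N21184 := rfl
theorem L180118 : sm gc N21184 = N14564 := ded_33_1 (flp_i L124143) (flp_c L124084) L180116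
theorem L180120 : sm gf N21184 = N14559 := ded_48_1 (flp_i L124098) (flp_f L124086) L180116
theorem L180122 : sm gj N21184 = N14626 := ded_53_1 (flp_i L124678) (flp_j L124088) L180116
theorem L180124 : sm gh N21184 = N14590 := ded_54_1 (flp_i L124371) (flp_h L85850) (flp_i L85659) L124082 L180116
theorem L180126 : sm ge N14558 = N21185 := rfl
theorem L180130 : sm gj N21185 = N14627 := ded_42_2 (flp_e L124686) (flp_j L124093) L180126
theorem L180132 : sm gh N21185 = N16008 := ded_43_2 (flp_e L136569) (flp_h L124096) L180126
theorem L180134 : sm gi N14558 = N21186 := rfl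
theorem L180136 : sm gc N21186 = N21186 := ded_33_1 (flp_i L180134) L124095 L180134
theorem L180137 : sm gd N21186 = N14559 := ded_39_1 (flp_i L124098) L124090 L180134
theorem L180139 : sm gg N21186 = N21186 := ded_51_1 (flp_i L180134) L124092 L180134
theorem L180140 : sm gj N21186 = N14628 := ded_53_1 (flp_i L124693) (flp_j L124093) L180134
theorem L180142 : sm gf N14560 = N21187 := rfl
theorem L180144 : sm gb N21187 = N14565 := ded_22_1 (flp_f L124154) (flp_b L124109) L180142
theorem L180146 : sm gd N21187 = N21187 := ded_35_1 (flp_f L180142) L124111 L180142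
theorem L180147 : sm gi N21187 = N14593 := ded_48_2 (flp_f L124397) (flp_i L124114) L180142
theorem L180149 : sm ge N21187 = N21187 := ded_40_1 (flp_f L180142) L124112 L85685 (flp_e L124112) L180142
theorem L180150 : sm gj N14560 = N21188 := rfl
theorem L180152 : sm gb N21188 = N14566 := ded_24_1 (flp_j L124161) (flp_b L124109) L180150
theorem L180154 : sm gd N21188 = N21188 := ded_37_1 (flp_j L180150) L124111 L180150
theorem L180155 : sm ge N21188 = N14562 := ded_42_1 (flp_j L124124) (flp_e L124112) L180150
theorem L180157 : sm gi N21188 = N14594 := ded_53_2 (flp_j L124403) (flp_i L124114) L180150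
theorem L180159 : sm gg N21188 = N14630 := ded_49_1 (flp_j L124709) (flp_g L86084) (flp_j L85672) L124107 L180150
theorem L180161 : sm gh N14560 = N21189 := rfl
theorem L180163 : sm gb N21189 = N14567 := ded_25_1 (flp_h L124171) (flp_b L124109) L180161
theorem L180165 : sm ge N21189 = N14563 := ded_43_1 (flp_h L124135) (flp_e L124112) L180161
theorem L180167 : sm gg N21189 = N14561 := ded_50_1 (flp_h L124116) L124107 L180161
theorem L180169 : sm gd N14561 = N21190 := rfl
theorem L180171 : sm gb N21190 = N14568 := ded_20_1 (flp_d L124178) (flp_b L124118) L180169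
theorem L180173 : sm gj N21190 = N14632 := ded_37_2 (flp_d L124726) (flp_j L124122) L180169
theorem L180175 : sm ge N21190 = N21190 := ded_34_2 (flp_d L180169) L124120 L85694 (flp_e L124120) L180169
theorem L180176 : sm gh N21190 = N21190 := ded_38_2 (flp_d L180169) (flp_h L124116) L85676 L124116 L180169
theorem L180177 : sm gi N14561 = N21191 := rfl
theorem L180179 : sm gb N21191 = N14569 := ded_26_1 (flp_i L124185) (flp_b L124118) L180177
theorem L180181 : sm ge N21191 = N14564 := ded_44_1 (flp_i L124143) (flp_e L124120) L180177
theorem L180183 : sm gj N21191 = N14633 := ded_53_1 (flp_i L124732) (flp_j L124122) L180177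
theorem L180185 : sm gh N21191 = N14597 := ded_54_1 (flp_i L124429) (flp_h L85881) (flp_i L85674) L124116 L180177
theorem L180187 : sm gh N14562 = N21192 := rfl
theorem L180189 : sm gb N21192 = N14570 := ded_25_1 (flp_h L124194) (flp_b L124126) L180187
theorem L180191 : sm gf N21192 = N21192 := ded_47_1 (flp_h L180187) L124130 L180187
theorem L180192 : sm gg N21192 = N14634 := ded_50_1 (flp_h L124740) (flp_g L124133) L180187
theorem L180194 : sm gj N21192 = N14563 := ded_52_1 (flp_h L124135) L124124 L180187
theorem L180196 : sm gd N21192 = N21192 := ded_38_1 (flp_h L180187) L124128 L85713 (flp_d L124128) L180187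
theorem L180197 : sm gi N14563 = N21193 := rfl
theorem L180199 : sm gb N21193 = N14571 := ded_26_1 (flp_i L124203) (flp_b L124137) L180197
theorem L180201 : sm gd N21193 = N21193 := ded_39_1 (flp_i L180197) L124142 L180197
theorem L180202 : sm gf N21193 = N21193 := ded_48_1 (flp_i L180197) L124139 L180197
theorem L180203 : sm gg N21193 = N14564 := ded_51_1 (flp_i L124143) (flp_g L124140) L180197
theorem L180205 : sm gh N21193 = N14599 := ded_54_1 (flp_i L124448) (flp_h L85898) (flp_i L85683) L124135 L180197
theorem L180207 : sm gj N14565 = N21194 := rfl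
theorem L180212 : sm gf N21194 = N14566 := ded_46_1 (flp_j L124161) L124154 L180207
theorem L180214 : sm gi N21194 = N14600 := ded_53_2 (flp_j L124457) (flp_i L124158) L180207
theorem L180216 : sm gh N14565 = N21195 := rfl
theorem L180220 : sm gf N21195 = N14567 := ded_47_1 (flp_h L124171) L124154 L180216
theorem L180222 : sm gh N14566 = N21196 := rfl
theorem L180225 : sm ge N21196 = N14570 := ded_43_1 (flp_h L124194) (flp_e L124165) L180222
theorem L180227 : sm gg N21196 = N14638 := ded_50_1 (flp_h L124777) (flp_g L124169) L180222
theorem L180229 : sm gj N21196 = N14567 := ded_52_1 (flp_h L124171) L124161 L180222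
theorem L180231 : sm gd N14567 = N21197 := rfl
theorem L180234 : sm gg N21197 = N14568 := ded_36_2 (flp_d L124178) (flp_g L124176) L180231
theorem L180238 : sm gi N14567 = N21198 := rfl
theorem L180240 : sm ga N21198 = N21198 := ded_18_1 (flp_i L180238) L124173 L180238
theorem L180241 : sm ge N21198 = N14571 := ded_44_1 (flp_i L124203) (flp_e L124174) L180238
theorem L180243 : sm gg N21198 = N14569 := ded_51_1 (flp_i L124185) (flp_g L124176) L180238
theorem L180245 : sm gh N21198 = N14604 := ded_54_1 (flp_i L124487) (flp_h L85930) (flp_i L85724) L124171 L180238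
theorem L180247 : sm gc N14568 = N21199 := rfl
theorem L180251 : sm gj N21199 = N14641 := ded_31_2 (flp_c L124800) (flp_j L124181) L180247
theorem L180254 : sm gi N14568 = N21200 := rfl
theorem L180256 : sm ga N21200 = N21200 := ded_18_1 (flp_i L180254) L124180 L180254
theorem L180257 : sm gd N21200 = N14569 := ded_39_1 (flp_i L124185) L124178 L180254
theorem L180259 : sm ge N21200 = N21200 := ded_44_1 (flp_i L180254) L124183 L180254
theorem L180260 : sm gj N21200 = N14642 := ded_53_1 (flp_i L124805) (flp_j L124181) L180254
theorem L180262 : sm gi N14570 = N21201 := rfl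
theorem L180264 : sm ga N21201 = N21201 := ded_18_1 (flp_i L180262) L124196 L180262
theorem L180265 : sm gd N21201 = N21201 := ded_39_1 (flp_i L180262) L124202 L180262
theorem L180266 : sm gf N21201 = N21201 := ded_48_1 (flp_i L180262) L124197 L180262
theorem L180267 : sm gg N21201 = N14643 := ded_51_1 (flp_i L124811) (flp_g L124198) L180262
theorem L180269 : sm gj N21201 = N14571 := ded_53_1 (flp_i L124203) (flp_j L124200) L180262
theorem L180271 : sm gh N21201 = N14607 := ded_54_1 (flp_i L124511) (flp_h L85952) (flp_i L85739) L124194 L180262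
theorem L180273 : sm ge N14572 = N21202 := rfl
theorem L180275 : sm gb N21202 = N14574 := ded_21_1 (flp_e L124229) (flp_b L124214) L180273
theorem L180277 : sm gc N21202 = N21202 := ded_28_1 (flp_e L180273) L124216 L180273
theorem L180278 : sm gj N21202 = N14644 := ded_42_2 (flp_e L124821) (flp_j L124219) L180273
theorem L180280 : sm gg N14572 = N21203 := rfl
theorem L180282 : sm gb N21203 = N14575 := ded_23_1 (flp_g L124237) (flp_b L124214) L180280
theorem L180284 : sm gc N21203 = N21203 := ded_30_1 (flp_g L180280) L124216 L180280
theorem L180285 : sm gd N21203 = N16026 := ded_36_1 (flp_g L136738) (flp_d L124217) L180280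
theorem L180287 : sm gf N21203 = N21203 := ded_45_1 (flp_g L180280) (flp_f L124212) L85764 L124212 L180280
theorem L180288 : sm gh N14572 = N21204 := rfl
theorem L180290 : sm gb N21204 = N14576 := ded_25_1 (flp_h L124246) (flp_b L124214) L180288
theorem L180293 : sm gf N21204 = N14573 := ded_47_1 (flp_h L124221) L124212 L180288
theorem L180295 : sm gj N21204 = N14646 := ded_52_1 (flp_h L124835) (flp_j L124219) L180288
theorem L180297 : sm gd N14573 = N21205 := rfl
theorem L180302 : sm gj N21205 = N14647 := ded_37_2 (flp_d L124842) (flp_j L124227) L180297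
theorem L180306 : sm gi N14573 = N21206 := rfl
theorem L180308 : sm gb N21206 = N14578 := ded_26_1 (flp_i L124267) (flp_b L124223) L180306
theorem L180314 : sm gd N14574 = N21207 := rfl
theorem L180316 : sm ga N21207 = N14584 := ded_12_1 (flp_d L124324) (flp_a L124231) L180314
theorem L180318 : sm gj N21207 = N14649 := ded_37_2 (flp_d L124857) (flp_j L124235) L180314
theorem L180320 : sm gc N21207 = N21207 := ded_27_1 (flp_d L180314) L124233 L85794 (flp_c L124233) L180314
theorem L180321 : sm ge N21207 = N16030 := ded_34_2 (flp_d L136772) (flp_e L94336) (flp_d L85774) L124229 L180314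
theorem L180323 : sm gg N14574 = N21208 := rfl
theorem L180325 : sm ga N21208 = N14585 := ded_15_1 (flp_g L124331) (flp_a L124231) L180323
theorem L180327 : sm gc N21208 = N14579 := ded_30_1 (flp_g L124276) (flp_c L124233) L180323
theorem L180329 : sm ge N21208 = N14575 := ded_41_1 (flp_g L124237) L124229 L180323
theorem L180331 : sm gh N14574 = N21209 := rfl
theorem L180333 : sm ga N21209 = N14586 := ded_17_1 (flp_h L124337) (flp_a L124231) L180331
theorem L180335 : sm gc N21209 = N14580 := ded_32_1 (flp_h L124284) (flp_c L124233) L180331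
theorem L180337 : sm ge N21209 = N14576 := ded_43_1 (flp_h L124246) L124229 L180331
theorem L180339 : sm gj N21209 = N14651 := ded_52_1 (flp_h L124872) (flp_j L124235) L180331
theorem L180341 : sm gj N14575 = N21210 := rfl
theorem L180343 : sm ga N21210 = N14587 := ded_16_1 (flp_j L124345) (flp_a L124239) L180341
theorem L180345 : sm gc N21210 = N14581 := ded_31_1 (flp_j L124293) (flp_c L124241) L180341
theorem L180347 : sm gd N21210 = N16033 := ded_37_1 (flp_j L136799) (flp_d L124243) L180341
theorem L180349 : sm gf N21210 = N21210 := ded_46_1 (flp_j L180341) L124245 L180341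
theorem L180350 : sm gg N21210 = N14652 := ded_49_1 (flp_j L124880) (flp_g L86200) (flp_j L85776) L124237 L180341
theorem L180352 : sm gh N14575 = N21211 := rfl
theorem L180354 : sm ga N21211 = N14588 := ded_17_1 (flp_h L124354) (flp_a L124239) L180352
theorem L180356 : sm gc N21211 = N14582 := ded_32_1 (flp_h L124303) (flp_c L124241) L180352
theorem L180358 : sm gf N21211 = N21211 := ded_47_1 (flp_h L180352) L124245 L180352
theorem L180359 : sm gg N21211 = N14576 := ded_50_1 (flp_h L124246) L124237 L180352
theorem L180361 : sm gd N14576 = N21212 := rfl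
theorem L180363 : sm ga N21212 = N14589 := ded_12_1 (flp_d L124361) (flp_a L124248) L180361
theorem L180367 : sm gj N21212 = N14654 := ded_37_2 (flp_d L124900) (flp_j L124254) L180361
theorem L180369 : sm gc N21212 = N15009 := ded_27_1 (flp_d L127801) L88193 (flp_d L85812) (flp_c L124250) L180361
theorem L180373 : sm gi N14576 = N21213 := rfl
theorem L180375 : sm ga N21213 = N14590 := ded_18_1 (flp_i L124371) (flp_a L124248) L180373
theorem L180377 : sm gc N21213 = N14583 := ded_33_1 (flp_i L124313) (flp_c L124250) L180373
theorem L180379 : sm gf N21213 = N14578 := ded_48_1 (flp_i L124267) (flp_f L124252) L180373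
theorem L180381 : sm gj N21213 = N14655 := ded_53_1 (flp_i L124910) (flp_j L124254) L180373
theorem L180383 : sm ge N14577 = N21214 := rfl
theorem L180385 : sm ga N21214 = N14591 := ded_13_1 (flp_e L124379) (flp_a L124258) L180383
theorem L180387 : sm gc N21214 = N15011 := ded_28_1 (flp_e L127822) (flp_c L124263) L180383
theorem L180392 : sm gh N21214 = N16037 := ded_43_2 (flp_e L136837) (flp_h L124265) L180383
theorem L180394 : sm gi N14577 = N21215 := rfl
theorem L180400 : sm gd N21215 = N14578 := ded_39_1 (flp_i L124267) L124256 L180394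
theorem L180405 : sm gf N14579 = N21216 := rfl
theorem L180407 : sm ga N21216 = N14593 := ded_14_1 (flp_f L124397) (flp_a L124278) L180405
theorem L180409 : sm gb N21216 = N21216 := ded_22_1 (flp_f L180405) L124280 L180405
theorem L180410 : sm gd N21216 = N21216 := ded_35_1 (flp_f L180405) L124281 L180405
theorem L180411 : sm ge N21216 = N21216 := ded_40_1 (flp_f L180405) L124282 L85802 (flp_e L124282) L180405
theorem L180412 : sm gj N14579 = N21217 := rfl
theorem L180414 : sm ga N21217 = N14594 := ded_16_1 (flp_j L124403) (flp_a L124278) L180412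
theorem L180416 : sm gb N21217 = N21217 := ded_24_1 (flp_j L180412) L124280 L180412
theorem L180417 : sm gd N21217 = N21217 := ded_37_1 (flp_j L180412) L124281 L180412
theorem L180418 : sm ge N21217 = N14581 := ded_42_1 (flp_j L124293) (flp_e L124282) L180412
theorem L180420 : sm gg N21217 = N14659 := ded_49_1 (flp_j L124946) (flp_g L86236) (flp_j L85792) L124276 L180412
theorem L180422 : sm gh N14579 = N21218 := rfl
theorem L180424 : sm ga N21218 = N14595 := ded_17_1 (flp_h L124412) (flp_a L124278) L180422
theorem L180426 : sm gb N21218 = N21218 := ded_25_1 (flp_h L180422) L124280 L180422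
theorem L180427 : sm ge N21218 = N14582 := ded_43_1 (flp_h L124303) (flp_e L124282) L180422
theorem L180429 : sm gg N21218 = N14580 := ded_50_1 (flp_h L124284) L124276 L180422
theorem L180431 : sm gd N14580 = N21219 := rfl
theorem L180433 : sm ga N21219 = N14596 := ded_12_1 (flp_d L124420) (flp_a L124286) L180431
theorem L180435 : sm gb N21219 = N21219 := ded_20_1 (flp_d L180431) L124288 L180431
theorem L180436 : sm gj N21219 = N14661 := ded_37_2 (flp_d L124963) (flp_j L124291) L180431
theorem L180438 : sm ge N21219 = N15016 := ded_34_2 (flp_d L127870) L88233 (flp_d L85812) (flp_e L124289) L180431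
theorem L180440 : sm gh N21219 = N21219 := ded_38_2 (flp_d L180431) (flp_h L124284) L85794 L124284 L180431
theorem L180441 : sm gi N14580 = N21220 := rfl
theorem L180443 : sm ga N21220 = N14597 := ded_18_1 (flp_i L124429) (flp_a L124286) L180441
theorem L180445 : sm gb N21220 = N21220 := ded_26_1 (flp_i L180441) L124288 L180441
theorem L180446 : sm ge N21220 = N14583 := ded_44_1 (flp_i L124313) (flp_e L124289) L180441
theorem L180448 : sm gj N21220 = N14662 := ded_53_1 (flp_i L124971) (flp_j L124291) L180441
theorem L180450 : sm gh N14581 = N21221 := rfl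
theorem L180452 : sm ga N21221 = N14598 := ded_17_1 (flp_h L124437) (flp_a L124295) L180450
theorem L180454 : sm gb N21221 = N21221 := ded_25_1 (flp_h L180450) L124297 L180450
theorem L180455 : sm gf N21221 = N21221 := ded_47_1 (flp_h L180450) L124300 L180450
theorem L180456 : sm gg N21221 = N14663 := ded_50_1 (flp_h L124978) (flp_g L124301) L180450
theorem L180458 : sm gj N21221 = N14582 := ded_52_1 (flp_h L124303) L124293 L180450
theorem L180460 : sm gd N21221 = N15018 := ded_38_1 (flp_h L127890) L88243 (flp_h L85833) (flp_d L124298) L180450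
theorem L180462 : sm gi N14582 = N21222 := rfl
theorem L180464 : sm ga N21222 = N14599 := ded_18_1 (flp_i L124448) (flp_a L124305) L180462
theorem L180466 : sm gb N21222 = N21222 := ded_26_1 (flp_i L180462) L124307 L180462
theorem L180467 : sm gd N21222 = N15019 := ded_39_1 (flp_i L127900) (flp_d L124311) L180462
theorem L180469 : sm gf N21222 = N21222 := ded_48_1 (flp_i L180462) L124308 L180462
theorem L180470 : sm gg N21222 = N14583 := ded_51_1 (flp_i L124313) (flp_g L124309) L180462
theorem L180472 : sm gg N14584 = N21223 := rfl
theorem L180474 : sm gc N21223 = N21223 := ded_30_1 (flp_g L180472) L124328 L180472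
theorem L180475 : sm gd N21223 = N14585 := ded_36_1 (flp_g L124331) L124324 L180472
theorem L180477 : sm ge N21223 = N16046 := ded_41_1 (flp_g L136935) (flp_e L124329) L180472
theorem L180479 : sm gh N14584 = N21224 := rfl
theorem L180481 : sm gc N21224 = N21224 := ded_32_1 (flp_h L180479) L124328 L180479
theorem L180482 : sm ge N21224 = N16047 := ded_43_1 (flp_h L136940) (flp_e L124329) L180479
theorem L180484 : sm gj N21224 = N14666 := ded_52_1 (flp_h L125007) (flp_j L124326) L180479
theorem L180486 : sm gf N14585 = N21225 := rfl
theorem L180488 : sm gc N21225 = N14593 := ded_29_1 (flp_f L124397) (flp_c L124333) L180486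
theorem L180490 : sm ge N21225 = N21225 := ded_40_1 (flp_f L180486) L124335 L85849 (flp_e L124335) L180486
theorem L180491 : sm gj N14585 = N21226 := rfl
theorem L180493 : sm gc N21226 = N14594 := ded_31_1 (flp_j L124403) (flp_c L124333) L180491
theorem L180495 : sm ge N21226 = N14587 := ded_42_1 (flp_j L124345) (flp_e L124335) L180491
theorem L180497 : sm gg N21226 = N14668 := ded_49_1 (flp_j L125018) (flp_g L86285) (flp_j L85841) L124331 L180491
theorem L180499 : sm gh N14585 = N21227 := rfl
theorem L180501 : sm gc N21227 = N14595 := ded_32_1 (flp_h L124412) (flp_c L124333) L180499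
theorem L180503 : sm ge N21227 = N14588 := ded_43_1 (flp_h L124354) (flp_e L124335) L180499
theorem L180505 : sm gg N21227 = N14586 := ded_50_1 (flp_h L124337) L124331 L180499
theorem L180507 : sm gd N14586 = N21228 := rfl
theorem L180509 : sm gj N21228 = N14670 := ded_37_2 (flp_d L125032) (flp_j L124343) L180507
theorem L180511 : sm gi N14586 = N21229 := rfl
theorem L180513 : sm gc N21229 = N14597 := ded_33_1 (flp_i L124429) (flp_c L124339) L180511
theorem L180515 : sm ge N21229 = N14590 := ded_44_1 (flp_i L124371) (flp_e L124341) L180511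
theorem L180517 : sm gj N21229 = N14671 := ded_53_1 (flp_i L125034) (flp_j L124343) L180511
theorem L180519 : sm gh N14587 = N21230 := rfl
theorem L180521 : sm gc N21230 = N14598 := ded_32_1 (flp_h L124437) (flp_c L124347) L180519
theorem L180523 : sm gf N21230 = N21230 := ded_47_1 (flp_h L180519) L124351 L180519
theorem L180524 : sm gg N21230 = N14672 := ded_50_1 (flp_h L125040) (flp_g L124352) L180519
theorem L180526 : sm gj N21230 = N14588 := ded_52_1 (flp_h L124354) L124345 L180519
theorem L180528 : sm gd N14588 = N21231 := rfl
theorem L180530 : sm gf N21231 = N21231 := ded_35_2 (flp_d L180528) L124358 L180528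
theorem L180531 : sm gg N21231 = N14589 := ded_36_2 (flp_d L124361) (flp_g L124359) L180528
theorem L180533 : sm gc N21231 = N15028 := ded_27_1 (flp_d L127981) L88309 (flp_d L85905) (flp_c L124356) L180528
theorem L180535 : sm gh N21231 = N16054 := ded_38_2 (flp_d L136991) (flp_h L94463) (flp_d L85847) L124354 L180528
theorem L180537 : sm gi N14588 = N21232 := rfl
theorem L180539 : sm gc N21232 = N14599 := ded_33_1 (flp_i L124448) (flp_c L124356) L180537
theorem L180541 : sm gf N21232 = N21232 := ded_48_1 (flp_i L180537) L124358 L180537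
theorem L180542 : sm gg N21232 = N14590 := ded_51_1 (flp_i L124371) (flp_g L124359) L180537
theorem L180544 : sm ge N14589 = N21233 := rfl
theorem L180546 : sm gc N21233 = N15030 := ded_28_1 (flp_e L127998) (flp_c L124367) L180544
theorem L180548 : sm gj N21233 = N14675 := ded_42_2 (flp_e L125066) (flp_j L124365) L180544
theorem L180550 : sm gh N21233 = N16056 := ded_43_2 (flp_e L137005) (flp_h L124369) L180544
theorem L180552 : sm gi N14589 = N21234 := rfl
theorem L180554 : sm gc N21234 = N15031 := ded_33_1 (flp_i L128005) (flp_c L124367) L180552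
theorem L180556 : sm gd N21234 = N14590 := ded_39_1 (flp_i L124371) L124361 L180552
theorem L180558 : sm gf N21234 = N14592 := ded_48_1 (flp_i L124388) (flp_f L124363) L180552
theorem L180560 : sm gj N21234 = N14676 := ded_53_1 (flp_i L125072) (flp_j L124365) L180552
theorem L180562 : sm gf N14591 = N21235 := rfl
theorem L180564 : sm gc N21235 = N15032 := ded_29_1 (flp_f L128014) (flp_c L124381) L180562
theorem L180566 : sm gj N21235 = N14677 := ded_46_2 (flp_f L125080) (flp_j L124384) L180562
theorem L180568 : sm gh N21235 = N16058 := ded_47_2 (flp_f L137021) (flp_h L124386) L180562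
theorem L180570 : sm gi N14591 = N21236 := rfl
theorem L180572 : sm gc N21236 = N15033 := ded_33_1 (flp_i L128022) (flp_c L124381) L180570
theorem L180574 : sm ge N21236 = N14592 := ded_44_1 (flp_i L124388) L124379 L180570
theorem L180576 : sm gg N21236 = N21236 := ded_51_1 (flp_i L180570) L124383 L180570
theorem L180577 : sm gj N21236 = N14678 := ded_53_1 (flp_i L125086) (flp_j L124384) L180570
theorem L180579 : sm gh N14592 = N21237 := rfl
theorem L180588 : sm gj N14593 = N21238 := rfl
theorem L180590 : sm gb N21238 = N14600 := ded_24_1 (flp_j L124457) (flp_b L124399) L180588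
theorem L180592 : sm gd N21238 = N21238 := ded_37_1 (flp_j L180588) L124401 L180588
theorem L180593 : sm ge N21238 = N21238 := ded_42_1 (flp_j L180588) L124402 L180588
theorem L180594 : sm gf N21238 = N14594 := ded_46_1 (flp_j L124403) L124397 L180588
theorem L180596 : sm gh N14593 = N21239 := rfl
theorem L180598 : sm gb N21239 = N14601 := ded_25_1 (flp_h L124464) (flp_b L124399) L180596
theorem L180600 : sm ge N21239 = N21239 := ded_43_1 (flp_h L180596) L124402 L180596
theorem L180601 : sm gf N21239 = N14595 := ded_47_1 (flp_h L124412) L124397 L180596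
theorem L180603 : sm gh N14594 = N21240 := rfl
theorem L180605 : sm gb N21240 = N14602 := ded_25_1 (flp_h L124470) (flp_b L124405) L180603
theorem L180607 : sm ge N21240 = N14598 := ded_43_1 (flp_h L124437) (flp_e L124408) L180603
theorem L180609 : sm gg N21240 = N14682 := ded_50_1 (flp_h L125119) (flp_g L124410) L180603
theorem L180611 : sm gj N21240 = N14595 := ded_52_1 (flp_h L124412) L124403 L180603
theorem L180613 : sm gd N14595 = N21241 := rfl
theorem L180615 : sm gb N21241 = N14603 := ded_20_1 (flp_d L124479) (flp_b L124414) L180613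
theorem L180617 : sm gg N21241 = N14596 := ded_36_2 (flp_d L124420) (flp_g L124418) L180613
theorem L180619 : sm ge N21241 = N15038 := ded_34_2 (flp_d L128067) L88372 (flp_d L85905) (flp_e L124416) L180613
theorem L180621 : sm gh N21241 = N21241 := ded_38_2 (flp_d L180613) (flp_h L124412) L85878 L124412 L180613
theorem L180622 : sm gi N14595 = N21242 := rfl
theorem L180624 : sm gb N21242 = N14604 := ded_26_1 (flp_i L124487) (flp_b L124414) L180622
theorem L180626 : sm ge N21242 = N14599 := ded_44_1 (flp_i L124448) (flp_e L124416) L180622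
theorem L180628 : sm gg N21242 = N14597 := ded_51_1 (flp_i L124429) (flp_g L124418) L180622
theorem L180630 : sm gc N14596 = N21243 := rfl
theorem L180632 : sm ge N21243 = N15040 := ded_28_2 (flp_c L128083) (flp_e L124426) L180630
theorem L180634 : sm gj N21243 = N14685 := ded_31_2 (flp_c L125144) (flp_j L124424) L180630
theorem L180636 : sm gh N21243 = N21243 := ded_32_2 (flp_c L180630) L124428 L180630
theorem L180637 : sm gi N14596 = N21244 := rfl
theorem L180639 : sm gb N21244 = N14606 := ded_26_1 (flp_i L124502) (flp_b L124422) L180637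
theorem L180641 : sm gd N21244 = N14597 := ded_39_1 (flp_i L124429) L124420 L180637
theorem L180643 : sm ge N21244 = N15041 := ded_44_1 (flp_i L128089) (flp_e L124426) L180637
theorem L180645 : sm gj N21244 = N14686 := ded_53_1 (flp_i L125149) (flp_j L124424) L180637
theorem L180647 : sm gi N14598 = N21245 := rfl
theorem L180649 : sm gb N21245 = N14607 := ded_26_1 (flp_i L124511) (flp_b L124439) L180647
theorem L180651 : sm gd N21245 = N15042 := ded_39_1 (flp_i L128098) (flp_d L124446) L180647
theorem L180653 : sm gf N21245 = N21245 := ded_48_1 (flp_i L180647) L124441 L180647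
theorem L180654 : sm gg N21245 = N14687 := ded_51_1 (flp_i L125157) (flp_g L124442) L180647
theorem L180656 : sm gj N21245 = N14599 := ded_53_1 (flp_i L124448) (flp_j L124444) L180647
theorem L180658 : sm gg N14600 = N21246 := rfl
theorem L180660 : sm ga N21246 = N21246 := ded_15_1 (flp_g L180658) L124459 L180658
theorem L180661 : sm gd N21246 = N21246 := ded_36_1 (flp_g L180658) L124460 L180658
theorem L180662 : sm ge N21246 = N21246 := ded_41_1 (flp_g L180658) L124461 L180658
theorem L180663 : sm gf N21246 = N14688 := ded_45_1 (flp_g L125167) L86404 (flp_g L85928) (flp_f L124462) L180658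
theorem L180665 : sm gh N14600 = N21247 := rfl
theorem L180667 : sm ga N21247 = N21247 := ded_17_1 (flp_h L180665) L124459 L180665
theorem L180668 : sm ge N21247 = N21247 := ded_43_1 (flp_h L180665) L124461 L180665
theorem L180669 : sm gf N21247 = N14602 := ded_47_1 (flp_h L124470) (flp_f L124462) L180665
theorem L180671 : sm gj N21247 = N14601 := ded_52_1 (flp_h L124464) L124457 L180665
theorem L180673 : sm gd N14601 = N21248 := rfl
theorem L180675 : sm ga N21248 = N21248 := ded_12_1 (flp_d L180673) L124466 L180673
theorem L180676 : sm gf N21248 = N14603 := ded_35_2 (flp_d L124479) (flp_f L124468) L180673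
theorem L180678 : sm gh N21248 = N21248 := ded_38_2 (flp_d L180673) (flp_h L124464) L85920 L124464 L180673
theorem L180679 : sm gi N14601 = N21249 := rfl
theorem L180681 : sm ga N21249 = N21249 := ded_18_1 (flp_i L180679) L124466 L180679
theorem L180682 : sm ge N21249 = N21249 := ded_44_1 (flp_i L180679) L124467 L180679
theorem L180683 : sm gf N21249 = N14604 := ded_48_1 (flp_i L124487) (flp_f L124468) L180679
theorem L180685 : sm gd N14602 = N21250 := rfl
theorem L180687 : sm ga N21250 = N21250 := ded_12_1 (flp_d L180685) L124472 L180685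
theorem L180688 : sm gg N21250 = N14692 := ded_36_2 (flp_d L125195) (flp_g L124475) L180685
theorem L180690 : sm gj N21250 = N14603 := ded_37_2 (flp_d L124479) (flp_j L124477) L180685
theorem L180692 : sm ge N21250 = N15047 := ded_34_2 (flp_d L128143) L88432 (flp_d L85960) (flp_e L124473) L180685
theorem L180694 : sm gh N21250 = N21250 := ded_38_2 (flp_d L180685) (flp_h L124470) L85925 L124470 L180685
theorem L180695 : sm gi N14602 = N21251 := rfl
theorem L180697 : sm ga N21251 = N21251 := ded_18_1 (flp_i L180695) L124472 L180695
theorem L180698 : sm ge N21251 = N14607 := ded_44_1 (flp_i L124511) (flp_e L124473) L180695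
theorem L180700 : sm gg N21251 = N14693 := ded_51_1 (flp_i L125203) (flp_g L124475) L180695
theorem L180702 : sm gj N21251 = N14604 := ded_53_1 (flp_i L124487) (flp_j L124477) L180695
theorem L180704 : sm gc N14603 = N21252 := rfl
theorem L180706 : sm ga N21252 = N21252 := ded_11_1 (flp_c L180704) L124481 L180704
theorem L180707 : sm ge N21252 = N15049 := ded_28_2 (flp_c L128162) (flp_e L124484) L180704
theorem L180709 : sm gg N21252 = N14605 := ded_30_2 (flp_c L124494) (flp_g L124482) L180704
theorem L180711 : sm gh N21252 = N21252 := ded_32_2 (flp_c L180704) L124486 L180704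
theorem L180712 : sm gi N14603 = N21253 := rfl
theorem L180714 : sm ga N21253 = N21253 := ded_18_1 (flp_i L180712) L124481 L180712
theorem L180715 : sm gd N21253 = N14604 := ded_39_1 (flp_i L124487) L124479 L180712
theorem L180717 : sm ge N21253 = N15050 := ded_44_1 (flp_i L128169) (flp_e L124484) L180712
theorem L180719 : sm gg N21253 = N14606 := ded_51_1 (flp_i L124502) (flp_g L124482) L180712
theorem L180721 : sm gb N14605 = N21254 := rfl
theorem L180723 : sm ge N21254 = N15051 := ded_21_2 (flp_b L128176) (flp_e L124497) L180721
theorem L180725 : sm gj N21254 = N14696 := ded_24_2 (flp_b L125227) (flp_j L124499) L180721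
theorem L180727 : sm gh N21254 = N21254 := ded_25_2 (flp_b L180721) L124501 L180721
theorem L180728 : sm gi N14605 = N21255 := rfl
theorem L180730 : sm ga N21255 = N21255 := ded_18_1 (flp_i L180728) L124496 L180728
theorem L180731 : sm gc N21255 = N14606 := ded_33_1 (flp_i L124502) L124494 L180728
theorem L180733 : sm ge N21255 = N15052 := ded_44_1 (flp_i L128183) (flp_e L124497) L180728
theorem L180735 : sm gj N21255 = N14697 := ded_53_1 (flp_i L125232) (flp_j L124499) L180728
theorem L180737 : sm gh N14606 = N21256 := rfl
theorem L180739 : sm ga N21256 = N21256 := ded_17_1 (flp_h L180737) L124504 L180737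
theorem L180740 : sm ge N21256 = N15053 := ded_43_1 (flp_h L128192) (flp_e L124507) L180737
theorem L180742 : sm gj N21256 = N14698 := ded_52_1 (flp_h L125239) (flp_j L124509) L180737
theorem L180744 : sm gi N21256 = N21256 := ded_54_2 (flp_h L180737) (flp_i L124502) L85944 L124502 L180737
theorem L180745 : sm ge N14608 = N21257 := rfl
theorem L180747 : sm gb N21257 = N14610 := ded_21_1 (flp_e L124537) (flp_b L124523) L180745
theorem L180749 : sm gc N21257 = N21257 := ded_28_1 (flp_e L180745) L124525 L180745
theorem L180750 : sm gi N21257 = N14644 := ded_44_2 (flp_e L124821) (flp_i L124528) L180745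
theorem L180752 : sm gg N14608 = N21258 := rfl
theorem L180754 : sm gb N21258 = N14611 := ded_23_1 (flp_g L124545) (flp_b L124523) L180752
theorem L180756 : sm gc N21258 = N21258 := ded_30_1 (flp_g L180752) L124525 L180752
theorem L180757 : sm gd N21258 = N16081 := ded_36_1 (flp_g L137230) (flp_d L124526) L180752
theorem L180759 : sm gi N21258 = N14645 := ded_51_2 (flp_g L124826) (flp_i L124528) L180752
theorem L180761 : sm gf N21258 = N14700 := ded_45_1 (flp_g L125253) (flp_f L86457) (flp_g L85974) L124521 L180752
theorem L180763 : sm gh N14608 = N21259 := rfl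
theorem L180765 : sm gb N21259 = N14612 := ded_25_1 (flp_h L124557) (flp_b L124523) L180763
theorem L180768 : sm gf N21259 = N14609 := ded_47_1 (flp_h L124530) L124521 L180763
theorem L180778 : sm gi N14609 = N21261 := rfl
theorem L180787 : sm gd N14610 = N21262 := rfl
theorem L180789 : sm ga N21262 = N14620 := ded_12_1 (flp_d L124632) (flp_a L124539) L180787
theorem L180791 : sm gi N21262 = N14649 := ded_39_2 (flp_d L124857) (flp_i L124543) L180787
theorem L180793 : sm gc N21262 = N21262 := ded_27_1 (flp_d L180787) L124541 L86004 (flp_c L124541) L180787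
theorem L180794 : sm ge N21262 = N16085 := ded_34_2 (flp_d L137265) (flp_e L94658) (flp_d L85985) L124537 L180787
theorem L180796 : sm gg N14610 = N21263 := rfl
theorem L180798 : sm ga N21263 = N14621 := ded_15_1 (flp_g L124639) (flp_a L124539) L180796
theorem L180800 : sm gc N21263 = N14615 := ded_30_1 (flp_g L124584) (flp_c L124541) L180796
theorem L180802 : sm ge N21263 = N14611 := ded_41_1 (flp_g L124545) L124537 L180796
theorem L180804 : sm gi N21263 = N14650 := ded_51_2 (flp_g L124864) (flp_i L124543) L180796
theorem L180806 : sm gh N14610 = N21264 := rfl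
theorem L180808 : sm ga N21264 = N14622 := ded_17_1 (flp_h L124647) (flp_a L124539) L180806
theorem L180810 : sm gc N21264 = N14616 := ded_32_1 (flp_h L124594) (flp_c L124541) L180806
theorem L180812 : sm ge N21264 = N14612 := ded_43_1 (flp_h L124557) L124537 L180806
theorem L180814 : sm gj N14611 = N21265 := rfl
theorem L180816 : sm ga N21265 = N14623 := ded_16_1 (flp_j L124653) (flp_a L124547) L180814
theorem L180818 : sm gc N21265 = N14617 := ded_31_1 (flp_j L124601) (flp_c L124549) L180814
theorem L180820 : sm gd N21265 = N16088 := ded_37_1 (flp_j L137292) (flp_d L124551) L180814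
theorem L180822 : sm gf N21265 = N14707 := ded_46_1 (flp_j L125315) (flp_f L124555) L180814
theorem L180824 : sm gi N21265 = N14652 := ded_53_2 (flp_j L124880) (flp_i L124553) L180814
theorem L180826 : sm gh N14611 = N21266 := rfl
theorem L180828 : sm ga N21266 = N14624 := ded_17_1 (flp_h L124663) (flp_a L124547) L180826
theorem L180830 : sm gc N21266 = N14618 := ded_32_1 (flp_h L124612) (flp_c L124549) L180826
theorem L180832 : sm gf N21266 = N14708 := ded_47_1 (flp_h L125326) (flp_f L124555) L180826
theorem L180834 : sm gg N21266 = N14612 := ded_50_1 (flp_h L124557) L124545 L180826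
theorem L180836 : sm gd N14612 = N21267 := rfl
theorem L180838 : sm ga N21267 = N14625 := ded_12_1 (flp_d L124671) (flp_a L124559) L180836
theorem L180845 : sm gi N14612 = N21268 := rfl
theorem L180847 : sm ga N21268 = N14626 := ded_18_1 (flp_i L124678) (flp_a L124559) L180845
theorem L180849 : sm gc N21268 = N14619 := ded_33_1 (flp_i L124622) (flp_c L124561) L180845
theorem L180851 : sm gf N21268 = N14614 := ded_48_1 (flp_i L124574) (flp_f L124563) L180845
theorem L180853 : sm gh N21268 = N14655 := ded_54_1 (flp_i L124910) (flp_h L86210) (flp_i L85987) L124557 L180845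
theorem L180855 : sm ge N14613 = N21269 := rfl
theorem L180862 : sm gh N21269 = N16092 := ded_43_2 (flp_e L137329) (flp_h L124572) L180855
theorem L180873 : sm gf N14615 = N21271 := rfl
theorem L180875 : sm ga N21271 = N14629 := ded_14_1 (flp_f L124700) (flp_a L124586) L180873
theorem L180877 : sm gb N21271 = N21271 := ded_22_1 (flp_f L180873) L124588 L180873
theorem L180878 : sm gd N21271 = N21271 := ded_35_1 (flp_f L180873) L124589 L180873
theorem L180879 : sm gi N21271 = N14658 := ded_48_2 (flp_f L124938) (flp_i L124592) L180873
theorem L180881 : sm ge N21271 = N14713 := ded_40_1 (flp_f L125371) L86525 (flp_f L86014) (flp_e L124590) L180873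
theorem L180883 : sm gj N14615 = N21272 := rfl
theorem L180885 : sm ga N21272 = N14630 := ded_16_1 (flp_j L124709) (flp_a L124586) L180883
theorem L180887 : sm gb N21272 = N21272 := ded_24_1 (flp_j L180883) L124588 L180883
theorem L180888 : sm gd N21272 = N21272 := ded_37_1 (flp_j L180883) L124589 L180883
theorem L180889 : sm ge N21272 = N14617 := ded_42_1 (flp_j L124601) (flp_e L124590) L180883
theorem L180891 : sm gi N21272 = N14659 := ded_53_2 (flp_j L124946) (flp_i L124592) L180883
theorem L180893 : sm gh N14615 = N21273 := rfl
theorem L180895 : sm ga N21273 = N14631 := ded_17_1 (flp_h L124718) (flp_a L124586) L180893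
theorem L180897 : sm gb N21273 = N21273 := ded_25_1 (flp_h L180893) L124588 L180893
theorem L180898 : sm ge N21273 = N14618 := ded_43_1 (flp_h L124612) (flp_e L124590) L180893
theorem L180900 : sm gg N21273 = N14616 := ded_50_1 (flp_h L124594) L124584 L180893
theorem L180902 : sm gd N14616 = N21274 := rfl
theorem L180904 : sm ga N21274 = N14632 := ded_12_1 (flp_d L124726) (flp_a L124596) L180902
theorem L180906 : sm gb N21274 = N21274 := ded_20_1 (flp_d L180902) L124598 L180902
theorem L180907 : sm ge N21274 = N21274 := ded_34_2 (flp_d L180902) L124599 L86023 (flp_e L124599) L180902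
theorem L180908 : sm gh N21274 = N21274 := ded_38_2 (flp_d L180902) (flp_h L124594) L86004 L124594 L180902
theorem L180909 : sm gi N14616 = N21275 := rfl
theorem L180911 : sm ga N21275 = N14633 := ded_18_1 (flp_i L124732) (flp_a L124596) L180909
theorem L180913 : sm gb N21275 = N21275 := ded_26_1 (flp_i L180909) L124598 L180909
theorem L180914 : sm ge N21275 = N14619 := ded_44_1 (flp_i L124622) (flp_e L124599) L180909
theorem L180916 : sm gh N21275 = N14662 := ded_54_1 (flp_i L124971) (flp_h L86244) (flp_i L86002) L124594 L180909
theorem L180918 : sm gh N14617 = N21276 := rfl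
theorem L180920 : sm ga N21276 = N14634 := ded_17_1 (flp_h L124740) (flp_a L124603) L180918
theorem L180922 : sm gb N21276 = N21276 := ded_25_1 (flp_h L180918) L124605 L180918
theorem L180923 : sm gf N21276 = N14718 := ded_47_1 (flp_h L125420) (flp_f L124608) L180918
theorem L180925 : sm gj N21276 = N14618 := ded_52_1 (flp_h L124612) L124601 L180918
theorem L180927 : sm gd N21276 = N21276 := ded_38_1 (flp_h L180918) L124606 L86044 (flp_d L124606) L180918
theorem L180928 : sm gi N14618 = N21277 := rfl
theorem L180930 : sm ga N21277 = N14635 := ded_18_1 (flp_i L124749) (flp_a L124614) L180928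
theorem L180932 : sm gb N21277 = N21277 := ded_26_1 (flp_i L180928) L124616 L180928
theorem L180933 : sm gd N21277 = N21277 := ded_39_1 (flp_i L180928) L124621 L180928
theorem L180934 : sm gf N21277 = N14719 := ded_48_1 (flp_i L125429) (flp_f L124617) L180928
theorem L180936 : sm gg N21277 = N14619 := ded_51_1 (flp_i L124622) (flp_g L124619) L180928
theorem L180938 : sm gh N21277 = N14664 := ded_54_1 (flp_i L124989) (flp_h L86260) (flp_i L86012) L124612 L180928
theorem L180940 : sm gg N14620 = N21278 := rfl
theorem L180942 : sm gc N21278 = N21278 := ded_30_1 (flp_g L180940) L124636 L180940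
theorem L180943 : sm gd N21278 = N14621 := ded_36_1 (flp_g L124639) L124632 L180940
theorem L180945 : sm ge N21278 = N16101 := ded_41_1 (flp_g L137423) (flp_e L124637) L180940
theorem L180947 : sm gi N21278 = N14665 := ded_51_2 (flp_g L125000) (flp_i L124634) L180940
theorem L180949 : sm gh N14620 = N21279 := rfl
theorem L180951 : sm gc N21279 = N21279 := ded_32_1 (flp_h L180949) L124636 L180949
theorem L180952 : sm ge N21279 = N16102 := ded_43_1 (flp_h L137430) (flp_e L124637) L180949
theorem L180954 : sm gf N14621 = N21280 := rfl
theorem L180956 : sm gc N21280 = N14629 := ded_29_1 (flp_f L124700) (flp_c L124641) L180954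
theorem L180958 : sm gi N21280 = N14667 := ded_48_2 (flp_f L125012) (flp_i L124645) L180954
theorem L180960 : sm ge N21280 = N14722 := ded_40_1 (flp_f L125456) L86579 (flp_f L86061) (flp_e L124643) L180954
theorem L180962 : sm gj N14621 = N21281 := rfl
theorem L180964 : sm gc N21281 = N14630 := ded_31_1 (flp_j L124709) (flp_c L124641) L180962
theorem L180966 : sm ge N21281 = N14623 := ded_42_1 (flp_j L124653) (flp_e L124643) L180962
theorem L180968 : sm gi N21281 = N14668 := ded_53_2 (flp_j L125018) (flp_i L124645) L180962
theorem L180970 : sm gh N14621 = N21282 := rfl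
theorem L180972 : sm gc N21282 = N14631 := ded_32_1 (flp_h L124718) (flp_c L124641) L180970
theorem L180974 : sm ge N21282 = N14624 := ded_43_1 (flp_h L124663) (flp_e L124643) L180970
theorem L180976 : sm gg N21282 = N14622 := ded_50_1 (flp_h L124647) L124639 L180970
theorem L180978 : sm gd N14622 = N21283 := rfl
theorem L180980 : sm gi N14622 = N21284 := rfl
theorem L180982 : sm gc N21284 = N14633 := ded_33_1 (flp_i L124732) (flp_c L124649) L180980
theorem L180984 : sm ge N21284 = N14626 := ded_44_1 (flp_i L124678) (flp_e L124651) L180980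
theorem L180986 : sm gh N21284 = N14671 := ded_54_1 (flp_i L125034) (flp_h L86291) (flp_i L86051) L124647 L180980
theorem L180988 : sm gh N14623 = N21285 := rfl
theorem L180990 : sm gc N21285 = N14634 := ded_32_1 (flp_h L124740) (flp_c L124655) L180988
theorem L180992 : sm gf N21285 = N14727 := ded_47_1 (flp_h L125491) (flp_f L124659) L180988
theorem L180994 : sm gj N21285 = N14624 := ded_52_1 (flp_h L124663) L124653 L180988
theorem L180996 : sm gd N14624 = N21286 := rfl
theorem L180998 : sm gf N21286 = N14728 := ded_35_2 (flp_d L125498) (flp_f L124667) L180996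
theorem L181000 : sm gg N21286 = N14625 := ded_36_2 (flp_d L124671) (flp_g L124669) L180996
theorem L181002 : sm gc N21286 = N21286 := ded_27_1 (flp_d L180996) L124665 L86117 (flp_c L124665) L180996
theorem L181003 : sm gh N21286 = N16109 := ded_38_2 (flp_d L137479) (flp_h L94786) (flp_d L86057) L124663 L180996
theorem L181005 : sm gi N14624 = N21287 := rfl
theorem L181007 : sm gc N21287 = N14635 := ded_33_1 (flp_i L124749) (flp_c L124665) L181005
theorem L181009 : sm gf N21287 = N14729 := ded_48_1 (flp_i L125505) (flp_f L124667) L181005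
theorem L181011 : sm gg N21287 = N14626 := ded_51_1 (flp_i L124678) (flp_g L124669) L181005
theorem L181013 : sm gh N21287 = N14674 := ded_54_1 (flp_i L125058) (flp_h L86305) (flp_i L86059) L124663 L181005
theorem L181015 : sm ge N14625 = N21288 := rfl
theorem L181017 : sm gc N21288 = N21288 := ded_28_1 (flp_e L181015) L124675 L181015
theorem L181018 : sm gh N21288 = N16111 := ded_43_2 (flp_e L137496) (flp_h L124676) L181015
theorem L181020 : sm gi N14625 = N21289 := rfl
theorem L181022 : sm gc N21289 = N21289 := ded_33_1 (flp_i L181020) L124675 L181020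
theorem L181023 : sm gd N21289 = N14626 := ded_39_1 (flp_i L124678) L124671 L181020
theorem L181025 : sm gf N21289 = N14628 := ded_48_1 (flp_i L124693) (flp_f L124673) L181020
theorem L181027 : sm gf N14627 = N21290 := rfl
theorem L181030 : sm gh N21290 = N16113 := ded_47_2 (flp_f L137506) (flp_h L124691) L181027
theorem L181032 : sm gi N14627 = N21291 := rfl
theorem L181048 : sm gj N14629 = N21293 := rfl
theorem L181050 : sm gb N21293 = N14636 := ded_24_1 (flp_j L124760) (flp_b L124702) L181048
theorem L181052 : sm gd N21293 = N21293 := ded_37_1 (flp_j L181048) L124704 L181048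
theorem L181053 : sm ge N21293 = N14735 := ded_42_1 (flp_j L125547) (flp_e L124707) L181048
theorem L181055 : sm gf N21293 = N14630 := ded_46_1 (flp_j L124709) L124700 L181048
theorem L181057 : sm gi N21293 = N14680 := ded_53_2 (flp_j L125102) (flp_i L124705) L181048
theorem L181059 : sm gh N14629 = N21294 := rfl
theorem L181061 : sm gb N21294 = N14637 := ded_25_1 (flp_h L124770) (flp_b L124702) L181059
theorem L181063 : sm ge N21294 = N14736 := ded_43_1 (flp_h L125557) (flp_e L124707) L181059
theorem L181065 : sm gf N21294 = N14631 := ded_47_1 (flp_h L124718) L124700 L181059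
theorem L181067 : sm gh N14630 = N21295 := rfl
theorem L181069 : sm gb N21295 = N14638 := ded_25_1 (flp_h L124777) (flp_b L124711) L181067
theorem L181071 : sm ge N21295 = N14634 := ded_43_1 (flp_h L124740) (flp_e L124714) L181067
theorem L181073 : sm gj N21295 = N14631 := ded_52_1 (flp_h L124718) L124709 L181067
theorem L181075 : sm gd N14631 = N21296 := rfl
theorem L181077 : sm gb N21296 = N14639 := ded_20_1 (flp_d L124784) (flp_b L124720) L181075
theorem L181079 : sm gg N21296 = N14632 := ded_36_2 (flp_d L124726) (flp_g L124724) L181075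
theorem L181081 : sm ge N21296 = N21296 := ded_34_2 (flp_d L181075) L124722 L86117 (flp_e L124722) L181075
theorem L181082 : sm gh N21296 = N21296 := ded_38_2 (flp_d L181075) (flp_h L124718) L86088 L124718 L181075
theorem L181083 : sm gi N14631 = N21297 := rfl
theorem L181085 : sm gb N21297 = N14640 := ded_26_1 (flp_i L124791) (flp_b L124720) L181083
theorem L181087 : sm ge N21297 = N14635 := ded_44_1 (flp_i L124749) (flp_e L124722) L181083
theorem L181089 : sm gg N21297 = N14633 := ded_51_1 (flp_i L124732) (flp_g L124724) L181083
theorem L181091 : sm gh N21297 = N14684 := ded_54_1 (flp_i L125136) (flp_h L86357) (flp_i L86091) L124718 L181083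
theorem L181093 : sm gc N14632 = N21298 := rfl
theorem L181095 : sm ge N21298 = N21298 := ded_28_2 (flp_c L181093) L124730 L181093
theorem L181096 : sm gh N21298 = N21298 := ded_32_2 (flp_c L181093) L124731 L181093
theorem L181097 : sm gi N14632 = N21299 := rfl
theorem L181099 : sm gb N21299 = N14642 := ded_26_1 (flp_i L124805) (flp_b L124728) L181097
theorem L181101 : sm gd N21299 = N14633 := ded_39_1 (flp_i L124732) L124726 L181097
theorem L181103 : sm ge N21299 = N21299 := ded_44_1 (flp_i L181097) L124730 L181097
theorem L181104 : sm gi N14634 = N21300 := rfl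
theorem L181106 : sm gb N21300 = N14643 := ded_26_1 (flp_i L124811) (flp_b L124742) L181104
theorem L181108 : sm gd N21300 = N21300 := ded_39_1 (flp_i L181104) L124748 L181104
theorem L181109 : sm gf N21300 = N14742 := ded_48_1 (flp_i L125605) (flp_f L124744) L181104
theorem L181111 : sm gj N21300 = N14635 := ded_53_1 (flp_i L124749) (flp_j L124746) L181104
theorem L181113 : sm gh N21300 = N14687 := ded_54_1 (flp_i L125157) (flp_h L86378) (flp_i L86107) L124740 L181104
theorem L181115 : sm gg N14636 = N21301 := rfl
theorem L181117 : sm ga N21301 = N21301 := ded_15_1 (flp_g L181115) L124762 L181115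
theorem L181118 : sm gd N21301 = N21301 := ded_36_1 (flp_g L181115) L124763 L181115
theorem L181119 : sm ge N21301 = N14743 := ded_41_1 (flp_g L125615) (flp_e L124764) L181115
theorem L181121 : sm gi N21301 = N14688 := ded_51_2 (flp_g L125167) (flp_i L124768) L181115
theorem L181123 : sm gh N14636 = N21302 := rfl
theorem L181125 : sm ga N21302 = N21302 := ded_17_1 (flp_h L181123) L124762 L181123
theorem L181126 : sm ge N21302 = N14744 := ded_43_1 (flp_h L125623) (flp_e L124764) L181123
theorem L181128 : sm gf N21302 = N14638 := ded_47_1 (flp_h L124777) (flp_f L124766) L181123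
theorem L181130 : sm gj N21302 = N14637 := ded_52_1 (flp_h L124770) L124760 L181123
theorem L181132 : sm gd N14637 = N21303 := rfl
theorem L181134 : sm ga N21303 = N21303 := ded_12_1 (flp_d L181132) L124772 L181132
theorem L181135 : sm gf N21303 = N14639 := ded_35_2 (flp_d L124784) (flp_f L124775) L181132
theorem L181137 : sm gh N21303 = N21303 := ded_38_2 (flp_d L181132) (flp_h L124770) L86130 L124770 L181132
theorem L181138 : sm gi N14637 = N21304 := rfl
theorem L181140 : sm ga N21304 = N21304 := ded_18_1 (flp_i L181138) L124772 L181138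
theorem L181141 : sm ge N21304 = N14746 := ded_44_1 (flp_i L125637) (flp_e L124773) L181138
theorem L181143 : sm gf N21304 = N14640 := ded_48_1 (flp_i L124791) (flp_f L124775) L181138
theorem L181145 : sm gh N21304 = N14691 := ded_54_1 (flp_i L125188) (flp_h L86406) (flp_i L86131) L124770 L181138
theorem L181147 : sm gd N14638 = N21305 := rfl
theorem L181150 : sm gj N21305 = N14639 := ded_37_2 (flp_d L124784) (flp_j L124782) L181147
theorem L181154 : sm gi N14638 = N21306 := rfl
theorem L181156 : sm ga N21306 = N21306 := ded_18_1 (flp_i L181154) L124779 L181154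
theorem L181157 : sm ge N21306 = N14643 := ded_44_1 (flp_i L124811) (flp_e L124780) L181154
theorem L181159 : sm gj N21306 = N14640 := ded_53_1 (flp_i L124791) (flp_j L124782) L181154
theorem L181161 : sm gh N21306 = N14693 := ded_54_1 (flp_i L125203) (flp_h L86413) (flp_i L86141) L124777 L181154
theorem L181163 : sm gc N14639 = N21307 := rfl
theorem L181167 : sm gg N21307 = N14641 := ded_30_2 (flp_c L124800) (flp_g L124787) L181163
theorem L181170 : sm gi N14639 = N21308 := rfl
theorem L181172 : sm ga N21308 = N21308 := ded_18_1 (flp_i L181170) L124786 L181170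
theorem L181173 : sm gd N21308 = N14640 := ded_39_1 (flp_i L124791) L124784 L181170
theorem L181175 : sm ge N21308 = N21308 := ded_44_1 (flp_i L181170) L124789 L181170
theorem L181176 : sm gg N21308 = N14642 := ded_51_1 (flp_i L124805) (flp_g L124787) L181170
theorem L181178 : sm gb N14641 = N21309 := rfl
theorem L181180 : sm ge N21309 = N21309 := ded_21_2 (flp_b L181178) L124803 L181178
theorem L181181 : sm gh N21309 = N21309 := ded_25_2 (flp_b L181178) L124804 L181178
theorem L181182 : sm gi N14641 = N21310 := rfl
theorem L181184 : sm ga N21310 = N21310 := ded_18_1 (flp_i L181182) L124802 L181182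
theorem L181185 : sm gc N21310 = N14642 := ded_33_1 (flp_i L124805) L124800 L181182
theorem L181187 : sm ge N21310 = N21310 := ded_44_1 (flp_i L181182) L124803 L181182
theorem L181188 : sm gh N14642 = N21311 := rfl
theorem L181190 : sm ga N21311 = N21311 := ded_17_1 (flp_h L181188) L124807 L181188
theorem L181191 : sm ge N21311 = N21311 := ded_43_1 (flp_h L181188) L124810 L181188
theorem L181192 : sm gd N21311 = N14698 := ded_38_1 (flp_h L125239) L86444 (flp_h L86160) (flp_d L124808) L181188
theorem L181194 : sm gi N21311 = N21311 := ded_54_2 (flp_h L181188) (flp_i L124805) L86154 L124805 L181188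
theorem L181195 : sm gd N14644 = N21312 := rfl
theorem L181197 : sm gb N21312 = N14649 := ded_20_1 (flp_d L124857) (flp_b L124823) L181195
theorem L181199 : sm ge N21312 = N16135 := ded_34_2 (flp_d L137691) (flp_e L94955) (flp_d L86185) L124821 L181195
theorem L181201 : sm gg N14644 = N21313 := rfl
theorem L181203 : sm gb N21313 = N14650 := ded_23_1 (flp_g L124864) (flp_b L124823) L181201
theorem L181205 : sm gc N21313 = N21313 := ded_30_1 (flp_g L181201) L124825 L181201
theorem L181206 : sm ge N21313 = N14645 := ded_41_1 (flp_g L124826) L124821 L181201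
theorem L181208 : sm gh N14644 = N21314 := rfl
theorem L181210 : sm gb N21314 = N14651 := ded_25_1 (flp_h L124872) (flp_b L124823) L181208
theorem L181213 : sm ge N21314 = N14646 := ded_43_1 (flp_h L124835) L124821 L181208
theorem L181215 : sm gj N14645 = N21315 := rfl
theorem L181217 : sm gb N21315 = N14652 := ded_24_1 (flp_j L124880) (flp_b L124828) L181215
theorem L181219 : sm gc N21315 = N21315 := ded_31_1 (flp_j L181215) L124830 L181215
theorem L181220 : sm gd N21315 = N16138 := ded_37_1 (flp_j L137713) (flp_d L124831) L181215
theorem L181222 : sm gf N21315 = N14757 := ded_46_1 (flp_j L125723) (flp_f L124833) L181215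
theorem L181224 : sm gh N14645 = N21316 := rfl
theorem L181226 : sm gb N21316 = N14653 := ded_25_1 (flp_h L124890) (flp_b L124828) L181224
theorem L181229 : sm gf N21316 = N14758 := ded_47_1 (flp_h L125731) (flp_f L124833) L181224
theorem L181231 : sm gg N21316 = N14646 := ded_50_1 (flp_h L124835) L124826 L181224
theorem L181233 : sm gd N14646 = N21317 := rfl
theorem L181237 : sm gf N21317 = N14647 := ded_35_2 (flp_d L124842) (flp_f L124840) L181233
theorem L181239 : sm gh N21317 = N16140 := ded_38_2 (flp_d L137731) (flp_h L94970) (flp_d L86185) L124835 L181233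
theorem L181241 : sm gi N14646 = N21318 := rfl
theorem L181243 : sm gb N21318 = N14655 := ded_26_1 (flp_i L124910) (flp_b L124837) L181241
theorem L181248 : sm gc N14647 = N21319 := rfl
theorem L181252 : sm gh N21319 = N16142 := ded_32_2 (flp_c L137745) (flp_h L124848) L181248
theorem L181257 : sm ge N14647 = N21320 := rfl
theorem L181265 : sm gi N14647 = N21321 := rfl
theorem L181269 : sm gd N21321 = N14648 := ded_39_1 (flp_i L124850) L124842 L181265
theorem L181273 : sm gg N14649 = N21322 := rfl
theorem L181275 : sm ga N21322 = N14665 := ded_15_1 (flp_g L125000) (flp_a L124859) L181273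
theorem L181277 : sm gc N21322 = N21322 := ded_30_1 (flp_g L181273) L124861 L181273
theorem L181278 : sm gd N21322 = N14650 := ded_36_1 (flp_g L124864) L124857 L181273
theorem L181280 : sm ge N21322 = N16145 := ded_41_1 (flp_g L137768) (flp_e L124862) L181273
theorem L181282 : sm gh N14649 = N21323 := rfl
theorem L181284 : sm ga N21323 = N14666 := ded_17_1 (flp_h L125007) (flp_a L124859) L181282
theorem L181286 : sm gc N21323 = N21323 := ded_32_1 (flp_h L181282) L124861 L181282
theorem L181287 : sm ge N21323 = N16146 := ded_43_1 (flp_h L137775) (flp_e L124862) L181282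
theorem L181289 : sm gf N14650 = N21324 := rfl
theorem L181291 : sm ga N21324 = N14667 := ded_14_1 (flp_f L125012) (flp_a L124866) L181289
theorem L181293 : sm gc N21324 = N14658 := ded_29_1 (flp_f L124938) (flp_c L124868) L181289
theorem L181295 : sm ge N21324 = N14766 := ded_40_1 (flp_f L125796) L86806 (flp_f L86208) (flp_e L124870) L181289
theorem L181297 : sm gj N14650 = N21325 := rfl
theorem L181299 : sm ga N21325 = N14668 := ded_16_1 (flp_j L125018) (flp_a L124866) L181297
theorem L181301 : sm gc N21325 = N14659 := ded_31_1 (flp_j L124946) (flp_c L124868) L181297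
theorem L181303 : sm ge N21325 = N14652 := ded_42_1 (flp_j L124880) (flp_e L124870) L181297
theorem L181305 : sm gh N14650 = N21326 := rfl
theorem L181307 : sm ga N21326 = N14669 := ded_17_1 (flp_h L125024) (flp_a L124866) L181305
theorem L181309 : sm gc N21326 = N14660 := ded_32_1 (flp_h L124954) (flp_c L124868) L181305
theorem L181311 : sm ge N21326 = N14653 := ded_43_1 (flp_h L124890) (flp_e L124870) L181305
theorem L181313 : sm gg N21326 = N14651 := ded_50_1 (flp_h L124872) L124864 L181305
theorem L181315 : sm gd N14651 = N21327 := rfl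
theorem L181317 : sm ga N21327 = N14670 := ded_12_1 (flp_d L125032) (flp_a L124874) L181315
theorem L181319 : sm gi N14651 = N21328 := rfl
theorem L181321 : sm ga N21328 = N14671 := ded_18_1 (flp_i L125034) (flp_a L124874) L181319
theorem L181323 : sm gc N21328 = N14662 := ded_33_1 (flp_i L124971) (flp_c L124876) L181319
theorem L181325 : sm ge N21328 = N14655 := ded_44_1 (flp_i L124910) (flp_e L124878) L181319
theorem L181327 : sm gh N14652 = N21329 := rfl
theorem L181329 : sm ga N21329 = N14672 := ded_17_1 (flp_h L125040) (flp_a L124882) L181327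
theorem L181331 : sm gc N21329 = N14663 := ded_32_1 (flp_h L124978) (flp_c L124884) L181327
theorem L181333 : sm gf N21329 = N14771 := ded_47_1 (flp_h L125835) (flp_f L124888) L181327
theorem L181335 : sm gj N21329 = N14653 := ded_52_1 (flp_h L124890) L124880 L181327
theorem L181337 : sm gd N14653 = N21330 := rfl
theorem L181339 : sm ga N21330 = N14673 := ded_12_1 (flp_d L125048) (flp_a L124892) L181337
theorem L181343 : sm gg N21330 = N14654 := ded_36_2 (flp_d L124900) (flp_g L124898) L181337
theorem L181345 : sm gc N21330 = N15072 := ded_27_1 (flp_d L128365) L88567 (flp_d L86269) (flp_c L124894) L181337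
theorem L181347 : sm gh N21330 = N16153 := ded_38_2 (flp_d L137832) (flp_h L95024) (flp_d L86206) L124890 L181337
theorem L181349 : sm gi N14653 = N21331 := rfl
theorem L181351 : sm ga N21331 = N14674 := ded_18_1 (flp_i L125058) (flp_a L124892) L181349
theorem L181353 : sm gc N21331 = N14664 := ded_33_1 (flp_i L124989) (flp_c L124894) L181349
theorem L181355 : sm gf N21331 = N14773 := ded_48_1 (flp_i L125854) (flp_f L124896) L181349
theorem L181357 : sm gg N21331 = N14655 := ded_51_1 (flp_i L124910) (flp_g L124898) L181349
theorem L181359 : sm ge N14654 = N21332 := rfl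
theorem L181361 : sm ga N21332 = N14675 := ded_13_1 (flp_e L125066) (flp_a L124902) L181359
theorem L181363 : sm gc N21332 = N15074 := ded_28_1 (flp_e L128386) (flp_c L124906) L181359
theorem L181365 : sm gh N21332 = N16155 := ded_43_2 (flp_e L137852) (flp_h L124908) L181359
theorem L181367 : sm gi N14654 = N21333 := rfl
theorem L181377 : sm gf N14656 = N21334 := rfl
theorem L181379 : sm ga N21334 = N14677 := ded_14_1 (flp_f L125080) (flp_a L124920) L181377
theorem L181381 : sm gc N21334 = N15076 := ded_29_1 (flp_f L128400) (flp_c L124922) L181377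
theorem L181383 : sm gh N21334 = N16157 := ded_47_2 (flp_f L137868) (flp_h L124926) L181377
theorem L181385 : sm gi N14656 = N21335 := rfl
theorem L181387 : sm ga N21335 = N14678 := ded_18_1 (flp_i L125086) (flp_a L124920) L181385
theorem L181393 : sm gg N21335 = N14777 := ded_51_1 (flp_i L125891) (flp_g L124924) L181385
theorem L181405 : sm gj N14658 = N21337 := rfl
theorem L181407 : sm ga N21337 = N14680 := ded_16_1 (flp_j L125102) (flp_a L124940) L181405
theorem L181409 : sm gb N21337 = N21337 := ded_24_1 (flp_j L181405) L124942 L181405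
theorem L181410 : sm gd N21337 = N21337 := ded_37_1 (flp_j L181405) L124943 L181405
theorem L181411 : sm ge N21337 = N14779 := ded_42_1 (flp_j L125909) (flp_e L124944) L181405
theorem L181413 : sm gf N21337 = N14659 := ded_46_1 (flp_j L124946) L124938 L181405
theorem L181415 : sm gh N14658 = N21338 := rfl
theorem L181417 : sm ga N21338 = N14681 := ded_17_1 (flp_h L125111) (flp_a L124940) L181415
theorem L181419 : sm gb N21338 = N21338 := ded_25_1 (flp_h L181415) L124942 L181415
theorem L181420 : sm ge N21338 = N14780 := ded_43_1 (flp_h L125918) (flp_e L124944) L181415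
theorem L181422 : sm gf N21338 = N14660 := ded_47_1 (flp_h L124954) L124938 L181415
theorem L181424 : sm gh N14659 = N21339 := rfl
theorem L181426 : sm ga N21339 = N14682 := ded_17_1 (flp_h L125119) (flp_a L124948) L181424
theorem L181428 : sm gb N21339 = N21339 := ded_25_1 (flp_h L181424) L124950 L181424
theorem L181429 : sm ge N21339 = N14663 := ded_43_1 (flp_h L124978) (flp_e L124952) L181424
theorem L181431 : sm gj N21339 = N14660 := ded_52_1 (flp_h L124954) L124946 L181424
theorem L181433 : sm gd N14660 = N21340 := rfl
theorem L181435 : sm ga N21340 = N14683 := ded_12_1 (flp_d L125127) (flp_a L124956) L181433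
theorem L181437 : sm gb N21340 = N21340 := ded_20_1 (flp_d L181433) L124958 L181433
theorem L181438 : sm gg N21340 = N14661 := ded_36_2 (flp_d L124963) (flp_g L124961) L181433
theorem L181440 : sm ge N21340 = N15082 := ded_34_2 (flp_d L128455) L88631 (flp_d L86269) (flp_e L124959) L181433
theorem L181442 : sm gh N21340 = N21340 := ded_38_2 (flp_d L181433) (flp_h L124954) L86241 L124954 L181433
theorem L181443 : sm gi N14660 = N21341 := rfl
theorem L181445 : sm ga N21341 = N14684 := ded_18_1 (flp_i L125136) (flp_a L124956) L181443
theorem L181447 : sm gb N21341 = N21341 := ded_26_1 (flp_i L181443) L124958 L181443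
theorem L181448 : sm ge N21341 = N14664 := ded_44_1 (flp_i L124989) (flp_e L124959) L181443
theorem L181450 : sm gg N21341 = N14662 := ded_51_1 (flp_i L124971) (flp_g L124961) L181443
theorem L181452 : sm gc N14661 = N21342 := rfl
theorem L181454 : sm ga N21342 = N14685 := ded_11_1 (flp_c L125144) (flp_a L124965) L181452
theorem L181456 : sm ge N21342 = N15084 := ded_28_2 (flp_c L128473) (flp_e L124968) L181452
theorem L181458 : sm gh N21342 = N21342 := ded_32_2 (flp_c L181452) L124970 L181452
theorem L181459 : sm gi N14661 = N21343 := rfl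
theorem L181461 : sm ga N21343 = N14686 := ded_18_1 (flp_i L125149) (flp_a L124965) L181459
theorem L181463 : sm gb N21343 = N21343 := ded_26_1 (flp_i L181459) L124967 L181459
theorem L181464 : sm gd N21343 = N14662 := ded_39_1 (flp_i L124971) L124963 L181459
theorem L181466 : sm ge N21343 = N15085 := ded_44_1 (flp_i L128479) (flp_e L124968) L181459
theorem L181468 : sm gi N14663 = N21344 := rfl
theorem L181470 : sm ga N21344 = N14687 := ded_18_1 (flp_i L125157) (flp_a L124980) L181468
theorem L181472 : sm gb N21344 = N21344 := ded_26_1 (flp_i L181468) L124982 L181468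
theorem L181473 : sm gd N21344 = N15086 := ded_39_1 (flp_i L128487) (flp_d L124987) L181468
theorem L181475 : sm gf N21344 = N14786 := ded_48_1 (flp_i L125974) (flp_f L124983) L181468
theorem L181477 : sm gj N21344 = N14664 := ded_53_1 (flp_i L124989) (flp_j L124985) L181468
theorem L181479 : sm gf N14665 = N21345 := rfl
theorem L181481 : sm gc N21345 = N21345 := ded_29_1 (flp_f L181479) L125002 L181479
theorem L181482 : sm gd N21345 = N14667 := ded_35_1 (flp_f L125012) (flp_d L125003) L181479
theorem L181484 : sm gj N14665 = N21346 := rfl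
theorem L181486 : sm gc N21346 = N21346 := ded_31_1 (flp_j L181484) L125002 L181484
theorem L181487 : sm gd N21346 = N14668 := ded_37_1 (flp_j L125018) (flp_d L125003) L181484
theorem L181489 : sm ge N21346 = N16169 := ded_42_1 (flp_j L137984) (flp_e L125005) L181484
theorem L181491 : sm gh N14665 = N21347 := rfl
theorem L181493 : sm gc N21347 = N21347 := ded_32_1 (flp_h L181491) L125002 L181491
theorem L181494 : sm ge N21347 = N16170 := ded_43_1 (flp_h L137989) (flp_e L125005) L181491
theorem L181496 : sm gg N21347 = N14666 := ded_50_1 (flp_h L125007) L125000 L181491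
theorem L181498 : sm gd N14666 = N21348 := rfl
theorem L181500 : sm gh N21348 = N14670 := ded_38_2 (flp_d L125032) (flp_h L86291) L86280 L125007 L181498
theorem L181502 : sm gi N14666 = N21349 := rfl
theorem L181504 : sm gc N21349 = N21349 := ded_33_1 (flp_i L181502) L125009 L181502
theorem L181505 : sm ge N21349 = N16172 := ded_44_1 (flp_i L137999) (flp_e L125010) L181502
theorem L181507 : sm gj N14667 = N21350 := rfl
theorem L181509 : sm gc N21350 = N14680 := ded_31_1 (flp_j L125102) (flp_c L125014) L181507
theorem L181511 : sm ge N21350 = N14792 := ded_42_1 (flp_j L126019) (flp_e L125016) L181507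
theorem L181513 : sm gf N21350 = N14668 := ded_46_1 (flp_j L125018) L125012 L181507
theorem L181515 : sm gh N14667 = N21351 := rfl
theorem L181517 : sm gc N21351 = N14681 := ded_32_1 (flp_h L125111) (flp_c L125014) L181515
theorem L181519 : sm ge N21351 = N14793 := ded_43_1 (flp_h L126025) (flp_e L125016) L181515
theorem L181521 : sm gf N21351 = N14669 := ded_47_1 (flp_h L125024) L125012 L181515
theorem L181523 : sm gh N14668 = N21352 := rfl
theorem L181525 : sm gc N21352 = N14682 := ded_32_1 (flp_h L125119) (flp_c L125020) L181523
theorem L181527 : sm ge N21352 = N14672 := ded_43_1 (flp_h L125040) (flp_e L125022) L181523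
theorem L181529 : sm gj N21352 = N14669 := ded_52_1 (flp_h L125024) L125018 L181523
theorem L181531 : sm gd N14669 = N21353 := rfl
theorem L181533 : sm gg N21353 = N14670 := ded_36_2 (flp_d L125032) (flp_g L125030) L181531
theorem L181535 : sm gi N14669 = N21354 := rfl
theorem L181537 : sm gc N21354 = N14684 := ded_33_1 (flp_i L125136) (flp_c L125026) L181535
theorem L181539 : sm ge N21354 = N14674 := ded_44_1 (flp_i L125058) (flp_e L125028) L181535
theorem L181541 : sm gg N21354 = N14671 := ded_51_1 (flp_i L125034) (flp_g L125030) L181535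
theorem L181543 : sm gc N14670 = N21355 := rfl
theorem L181545 : sm gd N21355 = N14685 := ded_27_2 (flp_c L125144) (flp_d L86365) (flp_c L86293) L125032 L181543
theorem L181547 : sm ge N14670 = N21356 := rfl
theorem L181549 : sm gd N21356 = N14675 := ded_34_1 (flp_e L125066) (flp_d L86313) (flp_e L86295) L125032 L181547
theorem L181551 : sm gi N14670 = N21357 := rfl
theorem L181553 : sm gd N21357 = N14671 := ded_39_1 (flp_i L125034) L125032 L181551
theorem L181555 : sm gd N14672 = N21358 := rfl
theorem L181557 : sm gf N21358 = N14800 := ded_35_2 (flp_d L126067) (flp_f L125044) L181555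
theorem L181559 : sm gj N21358 = N14673 := ded_37_2 (flp_d L125048) (flp_j L125046) L181555
theorem L181561 : sm gc N21358 = N15100 := ded_27_1 (flp_d L128597) L88728 (flp_d L86386) (flp_c L125042) L181555
theorem L181563 : sm gh N21358 = N16181 := ded_38_2 (flp_d L138054) (flp_h L95181) (flp_d L86301) L125040 L181555
theorem L181565 : sm gi N14672 = N21359 := rfl
theorem L181567 : sm gc N21359 = N14687 := ded_33_1 (flp_i L125157) (flp_c L125042) L181565
theorem L181569 : sm gf N21359 = N14801 := ded_48_1 (flp_i L126076) (flp_f L125044) L181565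
theorem L181571 : sm gj N21359 = N14674 := ded_53_1 (flp_i L125058) (flp_j L125046) L181565
theorem L181573 : sm ge N14673 = N21360 := rfl
theorem L181575 : sm gc N21360 = N15102 := ded_28_1 (flp_e L128616) (flp_c L125054) L181573
theorem L181577 : sm gg N21360 = N14675 := ded_41_2 (flp_e L125066) (flp_g L125052) L181573
theorem L181579 : sm gh N21360 = N16183 := ded_43_2 (flp_e L138070) (flp_h L125056) L181573
theorem L181581 : sm gi N14673 = N21361 := rfl
theorem L181583 : sm gc N21361 = N15103 := ded_33_1 (flp_i L128623) (flp_c L125054) L181581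
theorem L181585 : sm gd N21361 = N14674 := ded_39_1 (flp_i L125058) L125048 L181581
theorem L181587 : sm gf N21361 = N14803 := ded_48_1 (flp_i L126091) (flp_f L125050) L181581
theorem L181589 : sm gg N21361 = N14676 := ded_51_1 (flp_i L125072) (flp_g L125052) L181581
theorem L181591 : sm gf N14675 = N21362 := rfl
theorem L181593 : sm gc N21362 = N15104 := ded_29_1 (flp_f L128632) (flp_c L125068) L181591
theorem L181595 : sm gh N21362 = N16185 := ded_47_2 (flp_f L138086) (flp_h L125070) L181591
theorem L181597 : sm ge N21362 = N14677 := ded_40_1 (flp_f L125080) (flp_e L86327) (flp_f L86315) L125066 L181591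
theorem L181599 : sm gi N14675 = N21363 := rfl
theorem L181601 : sm gc N21363 = N15105 := ded_33_1 (flp_i L128639) (flp_c L125068) L181599
theorem L181603 : sm ge N21363 = N14676 := ded_44_1 (flp_i L125072) L125066 L181599
theorem L181605 : sm gh N14676 = N21364 := rfl
theorem L181613 : sm gg N14677 = N21365 := rfl
theorem L181615 : sm gc N21365 = N15107 := ded_30_1 (flp_g L128652) (flp_c L125082) L181613
theorem L181617 : sm gh N21365 = N16188 := ded_50_2 (flp_g L138104) (flp_h L125084) L181613
theorem L181619 : sm gf N21365 = N14807 := ded_45_1 (flp_g L126124) (flp_f L87016) (flp_g L86331) L125080 L181613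
theorem L181621 : sm gi N14677 = N21366 := rfl
theorem L181623 : sm gc N21366 = N15108 := ded_33_1 (flp_i L128660) (flp_c L125082) L181621
theorem L181625 : sm gf N21366 = N14678 := ded_48_1 (flp_i L125086) L125080 L181621
theorem L181627 : sm gh N14678 = N21367 := rfl
theorem L181631 : sm ge N21367 = N14679 := ded_43_1 (flp_h L125094) (flp_e L125090) L181627
theorem L181635 : sm gi N21367 = N16190 := ded_54_2 (flp_h L138118) (flp_i L95222) (flp_h L86333) L125086 L181627
theorem L181637 : sm gg N14680 = N21368 := rfl
theorem L181639 : sm gb N21368 = N14688 := ded_23_1 (flp_g L125167) (flp_b L125104) L181637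
theorem L181641 : sm gd N21368 = N21368 := ded_36_1 (flp_g L181637) L125106 L181637
theorem L181642 : sm ge N21368 = N14810 := ded_41_1 (flp_g L126146) (flp_e L125107) L181637
theorem L181644 : sm gh N14680 = N21369 := rfl
theorem L181646 : sm gb N21369 = N14689 := ded_25_1 (flp_h L125173) (flp_b L125104) L181644
theorem L181648 : sm ge N21369 = N14811 := ded_43_1 (flp_h L126153) (flp_e L125107) L181644
theorem L181650 : sm gf N21369 = N14682 := ded_47_1 (flp_h L125119) (flp_f L125109) L181644
theorem L181652 : sm gj N21369 = N14681 := ded_52_1 (flp_h L125111) L125102 L181644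
theorem L181654 : sm gd N14681 = N21370 := rfl
theorem L181656 : sm gb N21370 = N14690 := ded_20_1 (flp_d L125182) (flp_b L125113) L181654
theorem L181658 : sm gf N21370 = N14683 := ded_35_2 (flp_d L125127) (flp_f L125117) L181654
theorem L181660 : sm gh N21370 = N21370 := ded_38_2 (flp_d L181654) (flp_h L125111) L86347 L125111 L181654
theorem L181661 : sm gi N14681 = N21371 := rfl
theorem L181663 : sm gb N21371 = N14691 := ded_26_1 (flp_i L125188) (flp_b L125113) L181661
theorem L181665 : sm ge N21371 = N14813 := ded_44_1 (flp_i L126169) (flp_e L125115) L181661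
theorem L181667 : sm gf N21371 = N14684 := ded_48_1 (flp_i L125136) (flp_f L125117) L181661
theorem L181669 : sm gd N14682 = N21372 := rfl
theorem L181671 : sm gb N21372 = N14692 := ded_20_1 (flp_d L125195) (flp_b L125121) L181669
theorem L181673 : sm gj N21372 = N14683 := ded_37_2 (flp_d L125127) (flp_j L125125) L181669
theorem L181675 : sm ge N21372 = N15114 := ded_34_2 (flp_d L128712) L88810 (flp_d L86386) (flp_e L125123) L181669
theorem L181677 : sm gh N21372 = N21372 := ded_38_2 (flp_d L181669) (flp_h L125119) L86354 L125119 L181669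
theorem L181678 : sm gi N14682 = N21373 := rfl
theorem L181680 : sm gb N21373 = N14693 := ded_26_1 (flp_i L125203) (flp_b L125121) L181678
theorem L181682 : sm ge N21373 = N14687 := ded_44_1 (flp_i L125157) (flp_e L125123) L181678
theorem L181684 : sm gj N21373 = N14684 := ded_53_1 (flp_i L125136) (flp_j L125125) L181678
theorem L181686 : sm gc N14683 = N21374 := rfl
theorem L181688 : sm ge N21374 = N15116 := ded_28_2 (flp_c L128728) (flp_e L125133) L181686
theorem L181690 : sm gg N21374 = N14685 := ded_30_2 (flp_c L125144) (flp_g L125131) L181686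
theorem L181692 : sm gh N21374 = N21374 := ded_32_2 (flp_c L181686) L125135 L181686
theorem L181693 : sm gi N14683 = N21375 := rfl
theorem L181695 : sm gb N21375 = N14695 := ded_26_1 (flp_i L125218) (flp_b L125129) L181693
theorem L181697 : sm gd N21375 = N14684 := ded_39_1 (flp_i L125136) L125127 L181693
theorem L181699 : sm ge N21375 = N15117 := ded_44_1 (flp_i L128733) (flp_e L125133) L181693
theorem L181701 : sm gg N21375 = N14686 := ded_51_1 (flp_i L125149) (flp_g L125131) L181693
theorem L181703 : sm gb N14685 = N21376 := rfl
theorem L181705 : sm ge N21376 = N15118 := ded_21_2 (flp_b L128741) (flp_e L125146) L181703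
theorem L181707 : sm gh N21376 = N21376 := ded_25_2 (flp_b L181703) L125148 L181703
theorem L181708 : sm gc N21376 = N14696 := ded_19_2 (flp_b L125227) (flp_c L86435) (flp_b L86367) L125144 L181703
theorem L181710 : sm gi N14685 = N21377 := rfl
theorem L181712 : sm gc N21377 = N14686 := ded_33_1 (flp_i L125149) L125144 L181710
theorem L181714 : sm ge N21377 = N15119 := ded_44_1 (flp_i L128747) (flp_e L125146) L181710
theorem L181716 : sm gh N14686 = N21378 := rfl
theorem L181718 : sm gb N21378 = N14698 := ded_25_1 (flp_h L125239) (flp_b L125151) L181716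
theorem L181720 : sm ge N21378 = N15120 := ded_43_1 (flp_h L128752) (flp_e L125155) L181716
theorem L181722 : sm gi N21378 = N21378 := ded_54_2 (flp_h L181716) (flp_i L125149) L86371 L125149 L181716
theorem L181723 : sm gh N14688 = N21379 := rfl
theorem L181725 : sm ga N21379 = N21379 := ded_17_1 (flp_h L181723) L125169 L181723
theorem L181726 : sm ge N21379 = N14821 := ded_43_1 (flp_h L126238) (flp_e L125171) L181723
theorem L181728 : sm gg N21379 = N14689 := ded_50_1 (flp_h L125173) L125167 L181723
theorem L181730 : sm gd N14689 = N21380 := rfl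
theorem L181732 : sm ga N21380 = N21380 := ded_12_1 (flp_d L181730) L125175 L181730
theorem L181733 : sm gf N21380 = N14692 := ded_35_2 (flp_d L125195) (flp_f L125178) L181730
theorem L181735 : sm gj N21380 = N14690 := ded_37_2 (flp_d L125182) (flp_j L125180) L181730
theorem L181737 : sm gh N21380 = N21380 := ded_38_2 (flp_d L181730) (flp_h L125173) L86401 L125173 L181730
theorem L181738 : sm gi N14689 = N21381 := rfl
theorem L181740 : sm ga N21381 = N21381 := ded_18_1 (flp_i L181738) L125175 L181738
theorem L181741 : sm ge N21381 = N14823 := ded_44_1 (flp_i L126253) (flp_e L125176) L181738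
theorem L181743 : sm gf N21381 = N14693 := ded_48_1 (flp_i L125203) (flp_f L125178) L181738
theorem L181745 : sm gj N21381 = N14691 := ded_53_1 (flp_i L125188) (flp_j L125180) L181738
theorem L181747 : sm gc N14690 = N21382 := rfl
theorem L181749 : sm ga N21382 = N21382 := ded_11_1 (flp_c L181747) L125184 L181747
theorem L181750 : sm gf N21382 = N14694 := ded_29_2 (flp_c L125210) (flp_f L125185) L181747
theorem L181752 : sm gh N21382 = N21382 := ded_32_2 (flp_c L181747) L125187 L181747
theorem L181753 : sm ge N14690 = N21383 := rfl
theorem L181755 : sm ga N21383 = N21383 := ded_13_1 (flp_e L181753) L125184 L181753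
theorem L181756 : sm gh N21383 = N21383 := ded_43_2 (flp_e L181753) L125187 L181753
theorem L181757 : sm gd N21383 = N14825 := ded_34_1 (flp_e L126267) (flp_d L87116) (flp_e L86409) L125182 L181753
theorem L181759 : sm gf N21383 = N15125 := ded_40_2 (flp_e L128795) L88872 (flp_e L86425) (flp_f L125185) L181753
theorem L181761 : sm gi N14690 = N21384 := rfl
theorem L181763 : sm ga N21384 = N21384 := ded_18_1 (flp_i L181761) L125184 L181761
theorem L181764 : sm gd N21384 = N14691 := ded_39_1 (flp_i L125188) L125182 L181761
theorem L181766 : sm gf N21384 = N14695 := ded_48_1 (flp_i L125218) (flp_f L125185) L181761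
theorem L181768 : sm gc N14692 = N21385 := rfl
theorem L181770 : sm ga N21385 = N21385 := ded_11_1 (flp_c L181768) L125197 L181768
theorem L181771 : sm ge N21385 = N15127 := ded_28_2 (flp_c L128810) (flp_e L125200) L181768
theorem L181773 : sm gj N21385 = N14694 := ded_31_2 (flp_c L125210) (flp_j L125198) L181768
theorem L181775 : sm gh N21385 = N21385 := ded_32_2 (flp_c L181768) L125202 L181768
theorem L181776 : sm gi N14692 = N21386 := rfl
theorem L181778 : sm ga N21386 = N21386 := ded_18_1 (flp_i L181776) L125197 L181776
theorem L181779 : sm gd N21386 = N14693 := ded_39_1 (flp_i L125203) L125195 L181776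
theorem L181781 : sm ge N21386 = N15128 := ded_44_1 (flp_i L128817) (flp_e L125200) L181776
theorem L181783 : sm gj N21386 = N14695 := ded_53_1 (flp_i L125218) (flp_j L125198) L181776
theorem L181785 : sm gb N14694 = N21387 := rfl
theorem L181787 : sm ge N21387 = N15129 := ded_21_2 (flp_b L128824) (flp_e L125213) L181785
theorem L181789 : sm gg N21387 = N14696 := ded_23_2 (flp_b L125227) (flp_g L125215) L181785
theorem L181791 : sm gh N21387 = N21387 := ded_25_2 (flp_b L181785) L125217 L181785
theorem L181792 : sm gi N14694 = N21388 := rfl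
theorem L181794 : sm ga N21388 = N21388 := ded_18_1 (flp_i L181792) L125212 L181792
theorem L181795 : sm gc N21388 = N14695 := ded_33_1 (flp_i L125218) L125210 L181792
theorem L181797 : sm ge N21388 = N15130 := ded_44_1 (flp_i L128830) (flp_e L125213) L181792
theorem L181799 : sm gg N21388 = N14697 := ded_51_1 (flp_i L125232) (flp_g L125215) L181792
theorem L181801 : sm gh N14695 = N21389 := rfl
theorem L181803 : sm ga N21389 = N21389 := ded_17_1 (flp_h L181801) L125220 L181801
theorem L181804 : sm ge N21389 = N15131 := ded_43_1 (flp_h L128838) (flp_e L125223) L181801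
theorem L181806 : sm gg N21389 = N14698 := ded_50_1 (flp_h L125239) (flp_g L125225) L181801
theorem L181808 : sm gi N21389 = N21389 := ded_54_2 (flp_h L181801) (flp_i L125218) L86427 L125218 L181801
theorem L181809 : sm ga N14696 = N21390 := rfl
theorem L181811 : sm ge N21390 = N15132 := ded_13_2 (flp_a L128845) (flp_e L125229) L181809
theorem L181813 : sm gh N21390 = N21390 := ded_17_2 (flp_a L181809) L125231 L181809
theorem L181814 : sm gb N21390 = N21390 := ded_10_2 (flp_a L181809) (flp_b L125227) L86437 L125227 L181809
theorem L181815 : sm gi N14696 = N21391 := rfl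
theorem L181817 : sm gb N21391 = N14697 := ded_26_1 (flp_i L125232) L125227 L181815
theorem L181819 : sm ge N21391 = N15133 := ded_44_1 (flp_i L128851) (flp_e L125229) L181815
theorem L181821 : sm gh N14697 = N21392 := rfl
theorem L181823 : sm ga N21392 = N21392 := ded_17_1 (flp_h L181821) L125234 L181821
theorem L181824 : sm gc N21392 = N14698 := ded_32_1 (flp_h L125239) (flp_c L125235) L181821
theorem L181826 : sm ge N21392 = N15134 := ded_43_1 (flp_h L128857) (flp_e L125237) L181821
theorem L181828 : sm gi N21392 = N21392 := ded_54_2 (flp_h L181821) (flp_i L125232) L86440 L125232 L181821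
theorem L181829 : sm gd N14699 = N21393 := rfl
theorem L181831 : sm gb N21393 = N14704 := ded_20_1 (flp_d L125285) (flp_b L125247) L181829
theorem L181834 : sm gi N21393 = N14754 := ded_39_2 (flp_d L125701) (flp_i L125251) L181829
theorem L181836 : sm ge N21393 = N16215 := ded_34_2 (flp_d L138337) (flp_e L95400) (flp_d L86462) L125245 L181829
theorem L181838 : sm gg N14699 = N21394 := rfl
theorem L181840 : sm gb N21394 = N14705 := ded_23_1 (flp_g L125296) (flp_b L125247) L181838
theorem L181842 : sm gc N21394 = N21394 := ded_30_1 (flp_g L181838) L125249 L181838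
theorem L181843 : sm ge N21394 = N14700 := ded_41_1 (flp_g L125253) L125245 L181838
theorem L181845 : sm gi N21394 = N14755 := ded_51_2 (flp_g L125708) (flp_i L125251) L181838
theorem L181847 : sm gh N14699 = N21395 := rfl
theorem L181849 : sm gb N21395 = N14706 := ded_25_1 (flp_h L125306) (flp_b L125247) L181847
theorem L181852 : sm ge N21395 = N14701 := ded_43_1 (flp_h L125262) L125245 L181847
theorem L181855 : sm gj N14700 = N21396 := rfl
theorem L181857 : sm gb N21396 = N14707 := ded_24_1 (flp_j L125315) (flp_b L125255) L181855
theorem L181859 : sm gc N21396 = N21396 := ded_31_1 (flp_j L181855) L125257 L181855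
theorem L181860 : sm gd N21396 = N16218 := ded_37_1 (flp_j L138365) (flp_d L125258) L181855
theorem L181862 : sm gi N21396 = N14757 := ded_53_2 (flp_j L125723) (flp_i L125260) L181855
theorem L181864 : sm gg N21396 = N21396 := ded_49_1 (flp_j L181855) (flp_g L125253) L86464 L125253 L181855
theorem L181865 : sm gh N14700 = N21397 := rfl
theorem L181867 : sm gb N21397 = N14708 := ded_25_1 (flp_h L125326) (flp_b L125255) L181865
theorem L181870 : sm gg N21397 = N14701 := ded_50_1 (flp_h L125262) L125253 L181865
theorem L181872 : sm gd N14701 = N21398 := rfl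
theorem L181879 : sm gh N21398 = N16220 := ded_38_2 (flp_d L138382) (flp_h L95418) (flp_d L86462) L125262 L181872
theorem L181898 : sm ge N14702 = N21401 := rfl
theorem L181903 : sm gh N21401 = N16223 := ded_43_2 (flp_e L138406) (flp_h L125275) L181898
theorem L181912 : sm gg N14704 = N21403 := rfl
theorem L181914 : sm ga N21403 = N14720 := ded_15_1 (flp_g L125439) (flp_a L125287) L181912
theorem L181916 : sm gc N21403 = N14845 := ded_30_1 (flp_g L126451) (flp_c L125292) L181912
theorem L181918 : sm gd N21403 = N14705 := ded_36_1 (flp_g L125296) L125285 L181912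
theorem L181920 : sm ge N21403 = N16225 := ded_41_1 (flp_g L138419) (flp_e L125294) L181912
theorem L181922 : sm gi N21403 = N14764 := ded_51_2 (flp_g L125777) (flp_i L125290) L181912
theorem L181924 : sm gh N14704 = N21404 := rfl
theorem L181926 : sm ga N21404 = N14721 := ded_17_1 (flp_h L125449) (flp_a L125287) L181924
theorem L181930 : sm ge N21404 = N16226 := ded_43_1 (flp_h L138429) (flp_e L125294) L181924
theorem L181933 : sm gf N14705 = N21405 := rfl
theorem L181935 : sm ga N21405 = N14722 := ded_14_1 (flp_f L125456) (flp_a L125298) L181933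
theorem L181937 : sm gc N21405 = N14713 := ded_29_1 (flp_f L125371) (flp_c L125300) L181933
theorem L181939 : sm gi N21405 = N14766 := ded_48_2 (flp_f L125796) (flp_i L125304) L181933
theorem L181941 : sm gj N14705 = N21406 := rfl
theorem L181943 : sm ga N21406 = N14723 := ded_16_1 (flp_j L125462) (flp_a L125298) L181941
theorem L181945 : sm gc N21406 = N14714 := ded_31_1 (flp_j L125380) (flp_c L125300) L181941
theorem L181947 : sm ge N21406 = N14707 := ded_42_1 (flp_j L125315) (flp_e L125302) L181941
theorem L181949 : sm gi N21406 = N14767 := ded_53_2 (flp_j L125802) (flp_i L125304) L181941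
theorem L181951 : sm gg N21406 = N21406 := ded_49_1 (flp_j L181941) (flp_g L125296) L86479 L125296 L181941
theorem L181952 : sm gh N14705 = N21407 := rfl
theorem L181954 : sm ga N21407 = N14724 := ded_17_1 (flp_h L125471) (flp_a L125298) L181952
theorem L181956 : sm gc N21407 = N14715 := ded_32_1 (flp_h L125392) (flp_c L125300) L181952
theorem L181958 : sm ge N21407 = N14708 := ded_43_1 (flp_h L125326) (flp_e L125302) L181952
theorem L181960 : sm gg N21407 = N14706 := ded_50_1 (flp_h L125306) L125296 L181952
theorem L181962 : sm gd N14706 = N21408 := rfl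
theorem L181964 : sm ga N21408 = N14725 := ded_12_1 (flp_d L125479) (flp_a L125308) L181962
theorem L181966 : sm gj N21408 = N21408 := ded_37_2 (flp_d L181962) L125314 L181962
theorem L181967 : sm gi N14706 = N21409 := rfl
theorem L181969 : sm ga N21409 = N14726 := ded_18_1 (flp_i L125482) (flp_a L125308) L181967
theorem L181971 : sm gc N21409 = N14717 := ded_33_1 (flp_i L125410) (flp_c L125310) L181967
theorem L181973 : sm ge N21409 = N14710 := ded_44_1 (flp_i L125344) (flp_e L125312) L181967
theorem L181975 : sm gj N21409 = N21409 := ded_53_1 (flp_i L181967) L125314 L181967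
theorem L181976 : sm gh N21409 = N14770 := ded_54_1 (flp_i L125826) (flp_h L86808) (flp_i L86480) L125306 L181967
theorem L181978 : sm gh N14707 = N21410 := rfl
theorem L181980 : sm ga N21410 = N14727 := ded_17_1 (flp_h L125491) (flp_a L125317) L181978
theorem L181982 : sm gc N21410 = N14718 := ded_32_1 (flp_h L125420) (flp_c L125319) L181978
theorem L181984 : sm gg N21410 = N21410 := ded_50_1 (flp_h L181978) L125325 L181978
theorem L181985 : sm gj N21410 = N14708 := ded_52_1 (flp_h L125326) L125315 L181978
theorem L181987 : sm gd N14708 = N21411 := rfl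
theorem L181989 : sm ga N21411 = N14728 := ded_12_1 (flp_d L125498) (flp_a L125328) L181987
theorem L181994 : sm gh N21411 = N16233 := ded_38_2 (flp_d L138494) (flp_h L95481) (flp_d L86488) L125326 L181987
theorem L181996 : sm gi N14708 = N21412 := rfl
theorem L181998 : sm ga N21412 = N14729 := ded_18_1 (flp_i L125505) (flp_a L125328) L181996
theorem L182000 : sm gc N21412 = N14719 := ded_33_1 (flp_i L125429) (flp_c L125330) L181996
theorem L182002 : sm gg N21412 = N14710 := ded_51_1 (flp_i L125344) (flp_g L125332) L181996
theorem L182004 : sm gh N21412 = N14773 := ded_54_1 (flp_i L125854) (flp_h L86826) (flp_i L86490) L125326 L181996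
theorem L182014 : sm gi N14709 = N21414 := rfl
theorem L182016 : sm ga N21414 = N14731 := ded_18_1 (flp_i L125519) (flp_a L125336) L182014
theorem L182019 : sm gd N21414 = N14710 := ded_39_1 (flp_i L125344) L125334 L182014
theorem L182021 : sm gf N21414 = N14712 := ded_48_1 (flp_i L125363) (flp_f L125338) L182014
theorem L182024 : sm gf N14711 = N21415 := rfl
theorem L182030 : sm gh N21415 = N16237 := ded_47_2 (flp_f L138527) (flp_h L125361) L182024
theorem L182032 : sm gi N14711 = N21416 := rfl
theorem L182034 : sm ga N21416 = N14733 := ded_18_1 (flp_i L125533) (flp_a L125357) L182032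
theorem L182040 : sm gh N14712 = N21417 := rfl
theorem L182042 : sm ga N21417 = N14734 := ded_17_1 (flp_h L125539) (flp_a L125365) L182040
theorem L182050 : sm gj N14713 = N21418 := rfl
theorem L182052 : sm ga N21418 = N14735 := ded_16_1 (flp_j L125547) (flp_a L125373) L182050
theorem L182054 : sm gb N21418 = N21418 := ded_24_1 (flp_j L182050) L125375 L182050
theorem L182055 : sm gd N21418 = N14859 := ded_37_1 (flp_j L126582) (flp_d L125376) L182050
theorem L182057 : sm gf N21418 = N14714 := ded_46_1 (flp_j L125380) L125371 L182050
theorem L182059 : sm gi N21418 = N14779 := ded_53_2 (flp_j L125909) (flp_i L125378) L182050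
theorem L182061 : sm gh N14713 = N21419 := rfl
theorem L182063 : sm ga N21419 = N14736 := ded_17_1 (flp_h L125557) (flp_a L125373) L182061
theorem L182065 : sm gb N21419 = N21419 := ded_25_1 (flp_h L182061) L125375 L182061
theorem L182066 : sm gf N21419 = N14715 := ded_47_1 (flp_h L125392) L125371 L182061
theorem L182068 : sm gh N14714 = N21420 := rfl
theorem L182070 : sm ga N21420 = N14737 := ded_17_1 (flp_h L125563) (flp_a L125382) L182068
theorem L182072 : sm gb N21420 = N21420 := ded_25_1 (flp_h L182068) L125384 L182068
theorem L182073 : sm ge N21420 = N14718 := ded_43_1 (flp_h L125420) (flp_e L125387) L182068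
theorem L182075 : sm gg N21420 = N21420 := ded_50_1 (flp_h L182068) L125391 L182068
theorem L182076 : sm gj N21420 = N14715 := ded_52_1 (flp_h L125392) L125380 L182068
theorem L182078 : sm gd N14715 = N21421 := rfl
theorem L182080 : sm ga N21421 = N14738 := ded_12_1 (flp_d L125572) (flp_a L125394) L182078
theorem L182083 : sm gg N21421 = N14716 := ded_36_2 (flp_d L125401) (flp_g L125399) L182078
theorem L182086 : sm gh N21421 = N14862 := ded_38_2 (flp_d L126610) (flp_h L87342) (flp_d L86523) L125392 L182078
theorem L182088 : sm gi N14715 = N21422 := rfl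
theorem L182090 : sm ga N21422 = N14739 := ded_18_1 (flp_i L125581) (flp_a L125394) L182088
theorem L182092 : sm gb N21422 = N21422 := ded_26_1 (flp_i L182088) L125396 L182088
theorem L182093 : sm ge N21422 = N14719 := ded_44_1 (flp_i L125429) (flp_e L125397) L182088
theorem L182095 : sm gg N21422 = N14717 := ded_51_1 (flp_i L125410) (flp_g L125399) L182088
theorem L182097 : sm gh N21422 = N14783 := ded_54_1 (flp_i L125946) (flp_h L86889) (flp_i L86527) L125392 L182088
theorem L182099 : sm gc N14716 = N21423 := rfl
theorem L182101 : sm ga N21423 = N14740 := ded_11_1 (flp_c L125591) (flp_a L125403) L182099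
theorem L182105 : sm gh N21423 = N14864 := ded_32_2 (flp_c L126629) (flp_h L125408) L182099
theorem L182107 : sm gi N14716 = N21424 := rfl
theorem L182109 : sm ga N21424 = N14741 := ded_18_1 (flp_i L125597) (flp_a L125403) L182107
theorem L182112 : sm gd N21424 = N14717 := ded_39_1 (flp_i L125410) L125401 L182107
theorem L182116 : sm gi N14718 = N21425 := rfl
theorem L182118 : sm ga N21425 = N14742 := ded_18_1 (flp_i L125605) (flp_a L125422) L182116
theorem L182120 : sm gb N21425 = N21425 := ded_26_1 (flp_i L182116) L125424 L182116
theorem L182121 : sm gd N21425 = N21425 := ded_39_1 (flp_i L182116) L125428 L182116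
theorem L182122 : sm gg N21425 = N21425 := ded_51_1 (flp_i L182116) L125425 L182116
theorem L182123 : sm gj N21425 = N14719 := ded_53_1 (flp_i L125429) (flp_j L125426) L182116
theorem L182125 : sm gh N21425 = N14786 := ded_54_1 (flp_i L125974) (flp_h L86916) (flp_i L86544) L125420 L182116
theorem L182127 : sm gf N14720 = N21426 := rfl
theorem L182129 : sm gc N21426 = N14867 := ded_29_1 (flp_f L126656) (flp_c L125441) L182127
theorem L182131 : sm gd N21426 = N14722 := ded_35_1 (flp_f L125456) (flp_d L125443) L182127
theorem L182133 : sm gi N21426 = N14787 := ded_48_2 (flp_f L125984) (flp_i L125447) L182127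
theorem L182135 : sm gj N14720 = N21427 := rfl
theorem L182137 : sm gc N21427 = N14868 := ded_31_1 (flp_j L126663) (flp_c L125441) L182135
theorem L182139 : sm gd N21427 = N14723 := ded_37_1 (flp_j L125462) (flp_d L125443) L182135
theorem L182141 : sm ge N21427 = N16249 := ded_42_1 (flp_j L138648) (flp_e L125445) L182135
theorem L182143 : sm gi N21427 = N14788 := ded_53_2 (flp_j L125990) (flp_i L125447) L182135
theorem L182145 : sm gg N21427 = N21427 := ded_49_1 (flp_j L182135) (flp_g L125439) L86568 L125439 L182135
theorem L182146 : sm gh N14720 = N21428 := rfl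
theorem L182148 : sm gc N21428 = N14869 := ded_32_1 (flp_h L126673) (flp_c L125441) L182146
theorem L182150 : sm ge N21428 = N16250 := ded_43_1 (flp_h L138657) (flp_e L125445) L182146
theorem L182152 : sm gg N21428 = N14721 := ded_50_1 (flp_h L125449) L125439 L182146
theorem L182154 : sm gd N14721 = N21429 := rfl
theorem L182156 : sm gj N21429 = N21429 := ded_37_2 (flp_d L182154) L125455 L182154
theorem L182157 : sm gh N21429 = N14725 := ded_38_2 (flp_d L125479) (flp_h L86583) L86566 L125449 L182154
theorem L182159 : sm gi N14721 = N21430 := rfl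
theorem L182161 : sm gc N21430 = N14871 := ded_33_1 (flp_i L126686) (flp_c L125451) L182159
theorem L182163 : sm ge N21430 = N16252 := ded_44_1 (flp_i L138669) (flp_e L125453) L182159
theorem L182165 : sm gj N21430 = N21430 := ded_53_1 (flp_i L182159) L125455 L182159
theorem L182166 : sm gh N21430 = N14791 := ded_54_1 (flp_i L126012) (flp_h L86943) (flp_i L86569) L125449 L182159
theorem L182168 : sm gj N14722 = N21431 := rfl
theorem L182170 : sm gc N21431 = N14735 := ded_31_1 (flp_j L125547) (flp_c L125458) L182168
theorem L182172 : sm gf N21431 = N14723 := ded_46_1 (flp_j L125462) L125456 L182168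
theorem L182174 : sm gi N21431 = N14792 := ded_53_2 (flp_j L126019) (flp_i L125460) L182168
theorem L182176 : sm gh N14722 = N21432 := rfl
theorem L182178 : sm gc N21432 = N14736 := ded_32_1 (flp_h L125557) (flp_c L125458) L182176
theorem L182180 : sm gf N21432 = N14724 := ded_47_1 (flp_h L125471) L125456 L182176
theorem L182182 : sm gh N14723 = N21433 := rfl
theorem L182184 : sm gc N21433 = N14737 := ded_32_1 (flp_h L125563) (flp_c L125464) L182182
theorem L182186 : sm ge N21433 = N14727 := ded_43_1 (flp_h L125491) (flp_e L125466) L182182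
theorem L182188 : sm gg N21433 = N21433 := ded_50_1 (flp_h L182182) L125470 L182182
theorem L182189 : sm gj N21433 = N14724 := ded_52_1 (flp_h L125471) L125462 L182182
theorem L182191 : sm gd N14724 = N21434 := rfl
theorem L182193 : sm gg N21434 = N14725 := ded_36_2 (flp_d L125479) (flp_g L125477) L182191
theorem L182195 : sm gi N14724 = N21435 := rfl
theorem L182197 : sm gc N21435 = N14739 := ded_33_1 (flp_i L125581) (flp_c L125473) L182195
theorem L182199 : sm ge N21435 = N14729 := ded_44_1 (flp_i L125505) (flp_e L125475) L182195
theorem L182201 : sm gg N21435 = N14726 := ded_51_1 (flp_i L125482) (flp_g L125477) L182195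
theorem L182203 : sm gh N21435 = N14796 := ded_54_1 (flp_i L126044) (flp_h L86961) (flp_i L86581) L125471 L182195
theorem L182205 : sm gc N14725 = N21436 := rfl
theorem L182207 : sm gj N21436 = N21436 := ded_31_2 (flp_c L182205) L125481 L182205
theorem L182208 : sm gd N21436 = N14740 := ded_27_2 (flp_c L125591) (flp_d L86661) (flp_c L86585) L125479 L182205
theorem L182210 : sm ge N14725 = N21437 := rfl
theorem L182212 : sm gj N21437 = N21437 := ded_42_2 (flp_e L182210) L125481 L182210
theorem L182213 : sm gd N21437 = N14730 := ded_34_1 (flp_e L125513) (flp_d L86605) (flp_e L86587) L125479 L182210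
theorem L182215 : sm gi N14725 = N21438 := rfl
theorem L182217 : sm gd N21438 = N14726 := ded_39_1 (flp_i L125482) L125479 L182215
theorem L182219 : sm gj N21438 = N21438 := ded_53_1 (flp_i L182215) L125481 L182215
theorem L182220 : sm gd N14727 = N21439 := rfl
theorem L182222 : sm gg N21439 = N21439 := ded_36_2 (flp_d L182220) L125495 L182220
theorem L182223 : sm gj N21439 = N14728 := ded_37_2 (flp_d L125498) (flp_j L125496) L182220
theorem L182225 : sm gc N21439 = N21439 := ded_27_1 (flp_d L182220) L125493 L86685 (flp_c L125493) L182220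
theorem L182226 : sm gh N21439 = N16261 := ded_38_2 (flp_d L138732) (flp_h L95653) (flp_d L86594) L125491 L182220
theorem L182228 : sm gi N14727 = N21440 := rfl
theorem L182230 : sm gc N21440 = N14742 := ded_33_1 (flp_i L125605) (flp_c L125493) L182228
theorem L182232 : sm gg N21440 = N21440 := ded_51_1 (flp_i L182228) L125495 L182228
theorem L182233 : sm gj N21440 = N14729 := ded_53_1 (flp_i L125505) (flp_j L125496) L182228
theorem L182235 : sm gh N21440 = N14801 := ded_54_1 (flp_i L126076) (flp_h L86979) (flp_i L86596) L125491 L182228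
theorem L182237 : sm ge N14728 = N21441 := rfl
theorem L182239 : sm gc N21441 = N21441 := ded_28_1 (flp_e L182237) L125502 L182237
theorem L182240 : sm gg N21441 = N14730 := ded_41_2 (flp_e L125513) (flp_g L125500) L182237
theorem L182242 : sm gh N21441 = N16263 := ded_43_2 (flp_e L138747) (flp_h L125503) L182237
theorem L182244 : sm gi N14728 = N21442 := rfl
theorem L182246 : sm gc N21442 = N21442 := ded_33_1 (flp_i L182244) L125502 L182244
theorem L182247 : sm gd N21442 = N14729 := ded_39_1 (flp_i L125505) L125498 L182244
theorem L182249 : sm gg N21442 = N14731 := ded_51_1 (flp_i L125519) (flp_g L125500) L182244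
theorem L182251 : sm gf N14730 = N21443 := rfl
theorem L182255 : sm gh N21443 = N16265 := ded_47_2 (flp_f L138759) (flp_h L125517) L182251
theorem L182257 : sm ge N21443 = N14732 := ded_40_1 (flp_f L125527) (flp_e L86622) (flp_f L86607) L125513 L182251
theorem L182259 : sm gi N14730 = N21444 := rfl
theorem L182261 : sm gc N21444 = N21444 := ded_33_1 (flp_i L182259) L125515 L182259
theorem L182262 : sm ge N21444 = N14731 := ded_44_1 (flp_i L125519) L125513 L182259
theorem L182264 : sm gj N21444 = N21444 := ded_53_1 (flp_i L182259) L125516 L182259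
theorem L182275 : sm gg N14732 = N21446 := rfl
theorem L182278 : sm gh N21446 = N16268 := ded_50_2 (flp_g L138779) (flp_h L125531) L182275
theorem L182280 : sm gi N14732 = N21447 := rfl
theorem L182283 : sm gf N21447 = N14733 := ded_48_1 (flp_i L125533) L125527 L182280
theorem L182286 : sm gh N14733 = N21448 := rfl
theorem L182289 : sm ge N21448 = N14734 := ded_43_1 (flp_h L125539) (flp_e L125536) L182286
theorem L182292 : sm gi N21448 = N16270 := ded_54_2 (flp_h L138790) (flp_i L95690) (flp_h L86626) L125533 L182286
theorem L182294 : sm gg N14735 = N21449 := rfl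
theorem L182296 : sm gb N21449 = N14743 := ded_23_1 (flp_g L125615) (flp_b L125549) L182294
theorem L182298 : sm gd N21449 = N14888 := ded_36_1 (flp_g L126826) (flp_d L125551) L182294
theorem L182300 : sm gi N21449 = N14810 := ded_51_2 (flp_g L126146) (flp_i L125555) L182294
theorem L182302 : sm gf N21449 = N21449 := ded_45_1 (flp_g L182294) L125553 L86652 (flp_f L125553) L182294
theorem L182303 : sm gh N14735 = N21450 := rfl
theorem L182305 : sm gb N21450 = N14744 := ded_25_1 (flp_h L125623) (flp_b L125549) L182303
theorem L182307 : sm gf N21450 = N14737 := ded_47_1 (flp_h L125563) (flp_f L125553) L182303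
theorem L182309 : sm gj N21450 = N14736 := ded_52_1 (flp_h L125557) L125547 L182303
theorem L182311 : sm gd N14736 = N21451 := rfl
theorem L182313 : sm gb N21451 = N14745 := ded_20_1 (flp_d L125630) (flp_b L125559) L182311
theorem L182315 : sm gf N21451 = N14738 := ded_35_2 (flp_d L125572) (flp_f L125561) L182311
theorem L182317 : sm gh N21451 = N14890 := ded_38_2 (flp_d L126843) (flp_h L87515) (flp_d L86638) L125557 L182311
theorem L182319 : sm gi N14736 = N21452 := rfl
theorem L182321 : sm gb N21452 = N14746 := ded_26_1 (flp_i L125637) (flp_b L125559) L182319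
theorem L182323 : sm gf N21452 = N14739 := ded_48_1 (flp_i L125581) (flp_f L125561) L182319
theorem L182325 : sm gh N21452 = N14813 := ded_54_1 (flp_i L126169) (flp_h L87045) (flp_i L86640) L125557 L182319
theorem L182327 : sm gd N14737 = N21453 := rfl
theorem L182329 : sm gb N21453 = N14747 := ded_20_1 (flp_d L125644) (flp_b L125565) L182327
theorem L182331 : sm gg N21453 = N21453 := ded_36_2 (flp_d L182327) L125569 L182327
theorem L182332 : sm gj N21453 = N14738 := ded_37_2 (flp_d L125572) (flp_j L125570) L182327
theorem L182334 : sm ge N21453 = N21453 := ded_34_2 (flp_d L182327) L125567 L86685 (flp_e L125567) L182327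
theorem L182335 : sm gh N21453 = N14892 := ded_38_2 (flp_d L126858) (flp_h L87522) (flp_d L86646) L125563 L182327
theorem L182337 : sm gi N14737 = N21454 := rfl
theorem L182339 : sm gb N21454 = N14748 := ded_26_1 (flp_i L125653) (flp_b L125565) L182337
theorem L182341 : sm ge N21454 = N14742 := ded_44_1 (flp_i L125605) (flp_e L125567) L182337
theorem L182343 : sm gg N21454 = N21454 := ded_51_1 (flp_i L182337) L125569 L182337
theorem L182344 : sm gj N21454 = N14739 := ded_53_1 (flp_i L125581) (flp_j L125570) L182337
theorem L182346 : sm gh N21454 = N14815 := ded_54_1 (flp_i L126186) (flp_h L87051) (flp_i L86650) L125563 L182337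
theorem L182348 : sm gc N14738 = N21455 := rfl
theorem L182350 : sm ge N21455 = N21455 := ded_28_2 (flp_c L182348) L125578 L182348
theorem L182351 : sm gg N21455 = N14740 := ded_30_2 (flp_c L125591) (flp_g L125576) L182348
theorem L182353 : sm gh N21455 = N14894 := ded_32_2 (flp_c L126877) (flp_h L125579) L182348
theorem L182355 : sm gi N14738 = N21456 := rfl
theorem L182357 : sm gb N21456 = N14750 := ded_26_1 (flp_i L125671) (flp_b L125574) L182355
theorem L182359 : sm gd N21456 = N14739 := ded_39_1 (flp_i L125581) L125572 L182355
theorem L182361 : sm ge N21456 = N21456 := ded_44_1 (flp_i L182355) L125578 L182355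
theorem L182362 : sm gg N21456 = N14741 := ded_51_1 (flp_i L125597) (flp_g L125576) L182355
theorem L182364 : sm gb N14740 = N21457 := rfl
theorem L182366 : sm ge N21457 = N21457 := ded_21_2 (flp_b L182364) L125593 L182364
theorem L182367 : sm gj N21457 = N21457 := ded_24_2 (flp_b L182364) L125594 L182364
theorem L182368 : sm gh N21457 = N14896 := ded_25_2 (flp_b L126891) (flp_h L125595) L182364
theorem L182370 : sm gc N21457 = N14751 := ded_19_2 (flp_b L125679) (flp_c L86734) (flp_b L86663) L125591 L182364
theorem L182372 : sm gi N14740 = N21458 := rfl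
theorem L182374 : sm gc N21458 = N14741 := ded_33_1 (flp_i L125597) L125591 L182372
theorem L182376 : sm ge N21458 = N21458 := ded_44_1 (flp_i L182372) L125593 L182372
theorem L182377 : sm gj N21458 = N21458 := ded_53_1 (flp_i L182372) L125594 L182372
theorem L182378 : sm gh N14741 = N21459 := rfl
theorem L182384 : sm gd N21459 = N14820 := ded_38_1 (flp_h L126229) L87089 (flp_h L86676) (flp_d L125601) L182378
theorem L182388 : sm gh N14743 = N21460 := rfl
theorem L182390 : sm ga N21460 = N21460 := ded_17_1 (flp_h L182388) L125617 L182388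
theorem L182391 : sm gf N21460 = N21460 := ded_47_1 (flp_h L182388) L125622 L182388
theorem L182392 : sm gg N21460 = N14744 := ded_50_1 (flp_h L125623) L125615 L182388
theorem L182394 : sm gd N14744 = N21461 := rfl
theorem L182396 : sm ga N21461 = N21461 := ded_12_1 (flp_d L182394) L125625 L182394
theorem L182397 : sm gf N21461 = N14747 := ded_35_2 (flp_d L125644) (flp_f L125626) L182394
theorem L182399 : sm gj N21461 = N14745 := ded_37_2 (flp_d L125630) (flp_j L125628) L182394
theorem L182401 : sm gh N21461 = N14900 := ded_38_2 (flp_d L126919) (flp_h L87579) (flp_d L86698) L125623 L182394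
theorem L182403 : sm gi N14744 = N21462 := rfl
theorem L182405 : sm ga N21462 = N21462 := ded_18_1 (flp_i L182403) L125625 L182403
theorem L182406 : sm gf N21462 = N14748 := ded_48_1 (flp_i L125653) (flp_f L125626) L182403
theorem L182408 : sm gj N21462 = N14746 := ded_53_1 (flp_i L125637) (flp_j L125628) L182403
theorem L182410 : sm gh N21462 = N14823 := ded_54_1 (flp_i L126253) (flp_h L87109) (flp_i L86702) L125623 L182403
theorem L182412 : sm gc N14745 = N21463 := rfl
theorem L182414 : sm ga N21463 = N21463 := ded_11_1 (flp_c L182412) L125632 L182412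
theorem L182415 : sm gf N21463 = N14749 := ded_29_2 (flp_c L125663) (flp_f L125633) L182412
theorem L182417 : sm gh N21463 = N14902 := ded_32_2 (flp_c L126937) (flp_h L125635) L182412
theorem L182419 : sm ge N14745 = N21464 := rfl
theorem L182421 : sm ga N21464 = N21464 := ded_13_1 (flp_e L182419) L125632 L182419
theorem L182422 : sm gh N21464 = N14903 := ded_43_2 (flp_e L126943) (flp_h L125635) L182419
theorem L182424 : sm gf N21464 = N21464 := ded_40_2 (flp_e L182419) L125633 L86722 (flp_f L125633) L182419
theorem L182425 : sm gi N14745 = N21465 := rfl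
theorem L182427 : sm ga N21465 = N21465 := ded_18_1 (flp_i L182425) L125632 L182425
theorem L182428 : sm gd N21465 = N14746 := ded_39_1 (flp_i L125637) L125630 L182425
theorem L182430 : sm gf N21465 = N14750 := ded_48_1 (flp_i L125671) (flp_f L125633) L182425
theorem L182432 : sm gc N14747 = N21466 := rfl
theorem L182434 : sm ga N21466 = N21466 := ded_11_1 (flp_c L182432) L125646 L182432
theorem L182435 : sm ge N21466 = N21466 := ded_28_2 (flp_c L182432) L125650 L182432
theorem L182436 : sm gg N21466 = N21466 := ded_30_2 (flp_c L182432) L125647 L182432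
theorem L182437 : sm gj N21466 = N14749 := ded_31_2 (flp_c L125663) (flp_j L125648) L182432
theorem L182439 : sm gh N21466 = N14905 := ded_32_2 (flp_c L126955) (flp_h L125651) L182432
theorem L182441 : sm gi N14747 = N21467 := rfl
theorem L182443 : sm ga N21467 = N21467 := ded_18_1 (flp_i L182441) L125646 L182441
theorem L182444 : sm gd N21467 = N14748 := ded_39_1 (flp_i L125653) L125644 L182441
theorem L182446 : sm ge N21467 = N21467 := ded_44_1 (flp_i L182441) L125650 L182441
theorem L182447 : sm gg N21467 = N21467 := ded_51_1 (flp_i L182441) L125647 L182441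
theorem L182448 : sm gj N21467 = N14750 := ded_53_1 (flp_i L125671) (flp_j L125648) L182441
theorem L182450 : sm gb N14749 = N21468 := rfl
theorem L182452 : sm ge N21468 = N21468 := ded_21_2 (flp_b L182450) L125666 L182450
theorem L182453 : sm gg N21468 = N14751 := ded_23_2 (flp_b L125679) (flp_g L125667) L182450
theorem L182455 : sm gh N21468 = N14907 := ded_25_2 (flp_b L126972) (flp_h L125669) L182450
theorem L182457 : sm gi N14749 = N21469 := rfl
theorem L182459 : sm ga N21469 = N21469 := ded_18_1 (flp_i L182457) L125665 L182457
theorem L182460 : sm gc N21469 = N14750 := ded_33_1 (flp_i L125671) L125663 L182457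
theorem L182462 : sm ge N21469 = N21469 := ded_44_1 (flp_i L182457) L125666 L182457
theorem L182463 : sm gg N21469 = N14752 := ded_51_1 (flp_i L125685) (flp_g L125667) L182457
theorem L182465 : sm gh N14750 = N21470 := rfl
theorem L182467 : sm ga N21470 = N21470 := ded_17_1 (flp_h L182465) L125673 L182465
theorem L182468 : sm ge N21470 = N21470 := ded_43_1 (flp_h L182465) L125676 L182465
theorem L182469 : sm gg N21470 = N14753 := ded_50_1 (flp_h L125692) (flp_g L125677) L182465
theorem L182471 : sm gd N21470 = N14831 := ded_38_1 (flp_h L126318) L87158 (flp_h L86732) (flp_d L125674) L182465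
theorem L182473 : sm gi N21470 = N14909 := ded_54_2 (flp_h L126987) (flp_i L87627) (flp_h L86723) L125671 L182465
theorem L182475 : sm ga N14751 = N21471 := rfl
theorem L182477 : sm ge N21471 = N21471 := ded_13_2 (flp_a L182475) L125681 L182475
theorem L182478 : sm gj N21471 = N21471 := ded_16_2 (flp_a L182475) L125682 L182475
theorem L182479 : sm gh N21471 = N14910 := ded_17_2 (flp_a L126995) (flp_h L125683) L182475
theorem L182481 : sm gb N21471 = N21471 := ded_10_2 (flp_a L182475) (flp_b L125679) L86736 L125679 L182475
theorem L182482 : sm gi N14751 = N21472 := rfl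
theorem L182484 : sm gb N21472 = N14752 := ded_26_1 (flp_i L125685) L125679 L182482
theorem L182486 : sm ge N21472 = N21472 := ded_44_1 (flp_i L182482) L125681 L182482
theorem L182487 : sm gj N21472 = N21472 := ded_53_1 (flp_i L182482) L125682 L182482
theorem L182488 : sm gh N14752 = N21473 := rfl
theorem L182490 : sm ga N21473 = N21473 := ded_17_1 (flp_h L182488) L125687 L182488
theorem L182491 : sm gc N21473 = N14753 := ded_32_1 (flp_h L125692) (flp_c L125688) L182488
theorem L182493 : sm ge N21473 = N21473 := ded_43_1 (flp_h L182488) L125690 L182488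
theorem L182494 : sm gj N21473 = N21473 := ded_52_1 (flp_h L182488) L125691 L182488
theorem L182495 : sm gi N21473 = N14912 := ded_54_2 (flp_h L127008) (flp_i L87640) (flp_h L86739) L125685 L182488
theorem L182497 : sm gc N14754 = N21474 := rfl
theorem L182499 : sm ge N21474 = N16293 := ded_28_2 (flp_c L138997) (flp_e L125706) L182497
theorem L182502 : sm gb N21474 = N14913 := ded_19_1 (flp_c L127015) L87658 (flp_c L86796) (flp_b L125703) L182497
theorem L182505 : sm gg N14754 = N21475 := rfl
theorem L182507 : sm gb N21475 = N14764 := ded_23_1 (flp_g L125777) (flp_b L125703) L182505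
theorem L182509 : sm gd N21475 = N14755 := ded_36_1 (flp_g L125708) L125701 L182505
theorem L182511 : sm ge N21475 = N16294 := ded_41_1 (flp_g L139005) (flp_e L125706) L182505
theorem L182513 : sm gh N14754 = N21476 := rfl
theorem L182515 : sm gb N21476 = N14765 := ded_25_1 (flp_h L125787) (flp_b L125703) L182513
theorem L182517 : sm ge N21476 = N16295 := ded_43_1 (flp_h L139011) (flp_e L125706) L182513
theorem L182519 : sm gj N21476 = N21476 := ded_52_1 (flp_h L182513) L125705 L182513
theorem L182520 : sm gf N14755 = N21477 := rfl
theorem L182522 : sm gb N21477 = N14766 := ded_22_1 (flp_f L125796) (flp_b L125710) L182520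
theorem L182524 : sm gc N21477 = N21477 := ded_29_1 (flp_f L182520) L125712 L182520
theorem L182525 : sm gj N14755 = N21478 := rfl
theorem L182527 : sm gb N21478 = N14767 := ded_24_1 (flp_j L125802) (flp_b L125710) L182525
theorem L182529 : sm gc N21478 = N21478 := ded_31_1 (flp_j L182525) L125712 L182525
theorem L182530 : sm ge N21478 = N14757 := ded_42_1 (flp_j L125723) (flp_e L125713) L182525
theorem L182532 : sm gg N21478 = N21478 := ded_49_1 (flp_j L182525) (flp_g L125708) L86762 L125708 L182525
theorem L182533 : sm gh N14755 = N21479 := rfl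
theorem L182535 : sm gb N21479 = N14768 := ded_25_1 (flp_h L125811) (flp_b L125710) L182533
theorem L182540 : sm gg N21479 = N14756 := ded_50_1 (flp_h L125715) L125708 L182533
theorem L182542 : sm gd N14756 = N21480 := rfl
theorem L182544 : sm gb N21480 = N14769 := ded_20_1 (flp_d L125821) (flp_b L125717) L182542
theorem L182547 : sm gi N14756 = N21481 := rfl
theorem L182549 : sm gb N21481 = N14770 := ded_26_1 (flp_i L125826) (flp_b L125717) L182547
theorem L182555 : sm gh N14757 = N21482 := rfl
theorem L182557 : sm gb N21482 = N14771 := ded_25_1 (flp_h L125835) (flp_b L125725) L182555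
theorem L182561 : sm gj N21482 = N14758 := ded_52_1 (flp_h L125731) L125723 L182555
theorem L182563 : sm gd N14758 = N21483 := rfl
theorem L182567 : sm gg N21483 = N14759 := ded_36_2 (flp_d L125738) (flp_g L125736) L182563
theorem L182571 : sm gi N14758 = N21484 := rfl
theorem L182573 : sm gb N21484 = N14773 := ded_26_1 (flp_i L125854) (flp_b L125733) L182571
theorem L182578 : sm gc N14759 = N21485 := rfl
theorem L182583 : sm gh N21485 = N16304 := ded_32_2 (flp_c L139082) (flp_h L125745) L182578
theorem L182588 : sm ge N14759 = N21486 := rfl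
theorem L182593 : sm gh N21486 = N16305 := ded_43_2 (flp_e L139091) (flp_h L125745) L182588
theorem L182595 : sm gi N14759 = N21487 := rfl
theorem L182599 : sm gd N21487 = N14760 := ded_39_1 (flp_i L125747) L125738 L182595
theorem L182604 : sm ge N14761 = N21488 := rfl
theorem L182608 : sm gc N21488 = N14762 := ded_28_1 (flp_e L125763) L125755 L182604
theorem L182621 : sm gf N14762 = N21490 := rfl
theorem L182626 : sm gh N21490 = N16309 := ded_47_2 (flp_f L139121) (flp_h L125768) L182621
theorem L182628 : sm gi N14762 = N21491 := rfl
theorem L182642 : sm gf N14764 = N21493 := rfl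
theorem L182644 : sm ga N21493 = N14787 := ded_14_1 (flp_f L125984) (flp_a L125779) L182642
theorem L182646 : sm gc N21493 = N14923 := ded_29_1 (flp_f L127102) (flp_c L125781) L182642
theorem L182648 : sm gd N21493 = N14766 := ded_35_1 (flp_f L125796) (flp_d L125783) L182642
theorem L182650 : sm gj N14764 = N21494 := rfl
theorem L182652 : sm ga N21494 = N14788 := ded_16_1 (flp_j L125990) (flp_a L125779) L182650
theorem L182654 : sm gc N21494 = N14924 := ded_31_1 (flp_j L127108) (flp_c L125781) L182650
theorem L182656 : sm gd N21494 = N14767 := ded_37_1 (flp_j L125802) (flp_d L125783) L182650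
theorem L182658 : sm ge N21494 = N16313 := ded_42_1 (flp_j L139149) (flp_e L125785) L182650
theorem L182660 : sm gg N21494 = N21494 := ded_49_1 (flp_j L182650) (flp_g L125777) L86795 L125777 L182650
theorem L182661 : sm gh N14764 = N21495 := rfl
theorem L182663 : sm ga N21495 = N14789 := ded_17_1 (flp_h L125999) (flp_a L125779) L182661
theorem L182665 : sm gc N21495 = N14925 := ded_32_1 (flp_h L127117) (flp_c L125781) L182661
theorem L182667 : sm ge N21495 = N16314 := ded_43_1 (flp_h L139158) (flp_e L125785) L182661
theorem L182669 : sm gg N21495 = N14765 := ded_50_1 (flp_h L125787) L125777 L182661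
theorem L182671 : sm gd N14765 = N21496 := rfl
theorem L182673 : sm ga N21496 = N14790 := ded_12_1 (flp_d L126007) (flp_a L125789) L182671
theorem L182675 : sm gj N21496 = N21496 := ded_37_2 (flp_d L182671) L125795 L182671
theorem L182676 : sm gh N21496 = N14769 := ded_38_2 (flp_d L125821) (flp_h L86808) L86791 L125787 L182671
theorem L182678 : sm gi N14765 = N21497 := rfl
theorem L182680 : sm ga N21497 = N14791 := ded_18_1 (flp_i L126012) (flp_a L125789) L182678
theorem L182682 : sm gc N21497 = N14927 := ded_33_1 (flp_i L127133) (flp_c L125791) L182678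
theorem L182684 : sm ge N21497 = N16316 := ded_44_1 (flp_i L139175) (flp_e L125793) L182678
theorem L182686 : sm gj N21497 = N21497 := ded_53_1 (flp_i L182678) L125795 L182678
theorem L182687 : sm gj N14766 = N21498 := rfl
theorem L182689 : sm ga N21498 = N14792 := ded_16_1 (flp_j L126019) (flp_a L125798) L182687
theorem L182691 : sm gc N21498 = N14779 := ded_31_1 (flp_j L125909) (flp_c L125800) L182687
theorem L182693 : sm gf N21498 = N14767 := ded_46_1 (flp_j L125802) L125796 L182687
theorem L182695 : sm gh N14766 = N21499 := rfl
theorem L182697 : sm ga N21499 = N14793 := ded_17_1 (flp_h L126025) (flp_a L125798) L182695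
theorem L182699 : sm gc N21499 = N14780 := ded_32_1 (flp_h L125918) (flp_c L125800) L182695
theorem L182701 : sm gf N21499 = N14768 := ded_47_1 (flp_h L125811) L125796 L182695
theorem L182703 : sm gh N14767 = N21500 := rfl
theorem L182705 : sm ga N21500 = N14794 := ded_17_1 (flp_h L126031) (flp_a L125804) L182703
theorem L182707 : sm gc N21500 = N14781 := ded_32_1 (flp_h L125925) (flp_c L125806) L182703
theorem L182709 : sm ge N21500 = N14771 := ded_43_1 (flp_h L125835) (flp_e L125808) L182703
theorem L182711 : sm gg N21500 = N21500 := ded_50_1 (flp_h L182703) L125810 L182703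
theorem L182712 : sm gj N21500 = N14768 := ded_52_1 (flp_h L125811) L125802 L182703
theorem L182714 : sm gd N14768 = N21501 := rfl
theorem L182716 : sm ga N21501 = N14795 := ded_12_1 (flp_d L126040) (flp_a L125813) L182714
theorem L182718 : sm gg N21501 = N14769 := ded_36_2 (flp_d L125821) (flp_g L125819) L182714
theorem L182720 : sm gi N14768 = N21502 := rfl
theorem L182722 : sm ga N21502 = N14796 := ded_18_1 (flp_i L126044) (flp_a L125813) L182720
theorem L182724 : sm gc N21502 = N14783 := ded_33_1 (flp_i L125946) (flp_c L125815) L182720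
theorem L182726 : sm ge N21502 = N14773 := ded_44_1 (flp_i L125854) (flp_e L125817) L182720
theorem L182728 : sm gg N21502 = N14770 := ded_51_1 (flp_i L125826) (flp_g L125819) L182720
theorem L182730 : sm gc N14769 = N21503 := rfl
theorem L182732 : sm ga N21503 = N14797 := ded_11_1 (flp_c L126052) (flp_a L125823) L182730
theorem L182734 : sm gj N21503 = N21503 := ded_31_2 (flp_c L182730) L125825 L182730
theorem L182735 : sm gd N21503 = N14784 := ded_27_2 (flp_c L125955) (flp_d L86898) (flp_c L86812) L125821 L182730
theorem L182737 : sm ge N14769 = N21504 := rfl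
theorem L182739 : sm ga N21504 = N14798 := ded_13_1 (flp_e L126057) (flp_a L125823) L182737
theorem L182742 : sm gd N21504 = N14774 := ded_34_1 (flp_e L125862) (flp_d L86834) (flp_e L86814) L125821 L182737
theorem L182744 : sm gi N14769 = N21505 := rfl
theorem L182746 : sm ga N21505 = N14799 := ded_18_1 (flp_i L126062) (flp_a L125823) L182744
theorem L182748 : sm gd N21505 = N14770 := ded_39_1 (flp_i L125826) L125821 L182744
theorem L182750 : sm gj N21505 = N21505 := ded_53_1 (flp_i L182744) L125825 L182744
theorem L182751 : sm gd N14771 = N21506 := rfl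
theorem L182753 : sm ga N21506 = N14800 := ded_12_1 (flp_d L126067) (flp_a L125837) L182751
theorem L182756 : sm gj N21506 = N14772 := ded_37_2 (flp_d L125844) (flp_j L125842) L182751
theorem L182758 : sm gc N21506 = N15159 := ded_27_1 (flp_d L129082) L89067 (flp_d L86924) (flp_c L125839) L182751
theorem L182760 : sm gh N21506 = N16324 := ded_38_2 (flp_d L139245) (flp_h L96002) (flp_d L86823) L125835 L182751
theorem L182762 : sm gi N14771 = N21507 := rfl
theorem L182764 : sm ga N21507 = N14801 := ded_18_1 (flp_i L126076) (flp_a L125837) L182762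
theorem L182766 : sm gc N21507 = N14786 := ded_33_1 (flp_i L125974) (flp_c L125839) L182762
theorem L182768 : sm gg N21507 = N21507 := ded_51_1 (flp_i L182762) L125841 L182762
theorem L182769 : sm gj N21507 = N14773 := ded_53_1 (flp_i L125854) (flp_j L125842) L182762
theorem L182771 : sm ge N14772 = N21508 := rfl
theorem L182773 : sm ga N21508 = N14802 := ded_13_1 (flp_e L126083) (flp_a L125846) L182771
theorem L182775 : sm gc N21508 = N15161 := ded_28_1 (flp_e L129101) (flp_c L125850) L182771
theorem L182777 : sm gg N21508 = N14774 := ded_41_2 (flp_e L125862) (flp_g L125848) L182771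
theorem L182781 : sm gi N14772 = N21509 := rfl
theorem L182783 : sm ga N21509 = N14803 := ded_18_1 (flp_i L126091) (flp_a L125846) L182781
theorem L182787 : sm gd N21509 = N14773 := ded_39_1 (flp_i L125854) L125844 L182781
theorem L182791 : sm gf N14774 = N21510 := rfl
theorem L182793 : sm ga N21510 = N14804 := ded_14_1 (flp_f L126099) (flp_a L125864) L182791
theorem L182795 : sm gc N21510 = N15163 := ded_29_1 (flp_f L129117) (flp_c L125866) L182791
theorem L182798 : sm gh N21510 = N16328 := ded_47_2 (flp_f L139281) (flp_h L125869) L182791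
theorem L182800 : sm ge N21510 = N14776 := ded_40_1 (flp_f L125882) (flp_e L86854) (flp_f L86838) L125862 L182791
theorem L182802 : sm gi N14774 = N21511 := rfl
theorem L182804 : sm ga N21511 = N14805 := ded_18_1 (flp_i L126108) (flp_a L125864) L182802
theorem L182822 : sm gg N14776 = N21513 := rfl
theorem L182824 : sm ga N21513 = N14807 := ded_15_1 (flp_g L126124) (flp_a L125884) L182822
theorem L182826 : sm gc N21513 = N15166 := ded_30_1 (flp_g L129143) (flp_c L125886) L182822
theorem L182828 : sm gh N21513 = N16331 := ded_50_2 (flp_g L139308) (flp_h L125889) L182822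
theorem L182830 : sm gi N14776 = N21514 := rfl
theorem L182832 : sm ga N21514 = N14808 := ded_18_1 (flp_i L126130) (flp_a L125884) L182830
theorem L182836 : sm gf N21514 = N14777 := ded_48_1 (flp_i L125891) L125882 L182830
theorem L182839 : sm gh N14777 = N21515 := rfl
theorem L182841 : sm ga N21515 = N14809 := ded_17_1 (flp_h L126137) (flp_a L125893) L182839
theorem L182850 : sm gg N14779 = N21516 := rfl
theorem L182852 : sm ga N21516 = N14810 := ded_15_1 (flp_g L126146) (flp_a L125911) L182850
theorem L182854 : sm gb N21516 = N21516 := ded_23_1 (flp_g L182850) L125913 L182850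
theorem L182855 : sm gd N21516 = N14936 := ded_36_1 (flp_g L127213) (flp_d L125914) L182850
theorem L182857 : sm gf N21516 = N21516 := ded_45_1 (flp_g L182850) L125916 L86888 (flp_f L125916) L182850
theorem L182858 : sm gh N14779 = N21517 := rfl
theorem L182860 : sm ga N21517 = N14811 := ded_17_1 (flp_h L126153) (flp_a L125911) L182858
theorem L182862 : sm gb N21517 = N21517 := ded_25_1 (flp_h L182858) L125913 L182858
theorem L182863 : sm gf N21517 = N14781 := ded_47_1 (flp_h L125925) (flp_f L125916) L182858
theorem L182865 : sm gj N21517 = N14780 := ded_52_1 (flp_h L125918) L125909 L182858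
theorem L182867 : sm gd N14780 = N21518 := rfl
theorem L182869 : sm ga N21518 = N14812 := ded_12_1 (flp_d L126161) (flp_a L125920) L182867
theorem L182871 : sm gb N21518 = N21518 := ded_20_1 (flp_d L182867) L125922 L182867
theorem L182872 : sm gf N21518 = N14782 := ded_35_2 (flp_d L125935) (flp_f L125923) L182867
theorem L182874 : sm gh N21518 = N14938 := ded_38_2 (flp_d L127230) (flp_h L87795) (flp_d L86877) L125918 L182867
theorem L182876 : sm gi N14780 = N21519 := rfl
theorem L182878 : sm ga N21519 = N14813 := ded_18_1 (flp_i L126169) (flp_a L125920) L182876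
theorem L182880 : sm gb N21519 = N21519 := ded_26_1 (flp_i L182876) L125922 L182876
theorem L182881 : sm gf N21519 = N14783 := ded_48_1 (flp_i L125946) (flp_f L125923) L182876
theorem L182883 : sm gd N14781 = N21520 := rfl
theorem L182885 : sm ga N21520 = N14814 := ded_12_1 (flp_d L126175) (flp_a L125927) L182883
theorem L182887 : sm gb N21520 = N21520 := ded_20_1 (flp_d L182883) L125929 L182883
theorem L182888 : sm gg N21520 = N21520 := ded_36_2 (flp_d L182883) L125932 L182883
theorem L182889 : sm gj N21520 = N14782 := ded_37_2 (flp_d L125935) (flp_j L125933) L182883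
theorem L182891 : sm ge N21520 = N15173 := ded_34_2 (flp_d L129205) L89152 (flp_d L86924) (flp_e L125930) L182883
theorem L182893 : sm gh N21520 = N14940 := ded_38_2 (flp_d L127245) (flp_h L87803) (flp_d L86884) L125925 L182883
theorem L182895 : sm gi N14781 = N21521 := rfl
theorem L182897 : sm ga N21521 = N14815 := ded_18_1 (flp_i L126186) (flp_a L125927) L182895
theorem L182899 : sm gb N21521 = N21521 := ded_26_1 (flp_i L182895) L125929 L182895
theorem L182900 : sm ge N21521 = N14786 := ded_44_1 (flp_i L125974) (flp_e L125930) L182895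
theorem L182902 : sm gg N21521 = N21521 := ded_51_1 (flp_i L182895) L125932 L182895
theorem L182903 : sm gj N21521 = N14783 := ded_53_1 (flp_i L125946) (flp_j L125933) L182895
theorem L182905 : sm gc N14782 = N21522 := rfl
theorem L182907 : sm ga N21522 = N14816 := ded_11_1 (flp_c L126195) (flp_a L125937) L182905
theorem L182909 : sm ge N21522 = N15175 := ded_28_2 (flp_c L129226) (flp_e L125942) L182905
theorem L182911 : sm gg N21522 = N14784 := ded_30_2 (flp_c L125955) (flp_g L125940) L182905
theorem L182913 : sm gh N21522 = N14942 := ded_32_2 (flp_c L127265) (flp_h L125944) L182905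
theorem L182915 : sm gi N14782 = N21523 := rfl
theorem L182917 : sm ga N21523 = N14817 := ded_18_1 (flp_i L126203) (flp_a L125937) L182915
theorem L182919 : sm gb N21523 = N21523 := ded_26_1 (flp_i L182915) L125939 L182915
theorem L182920 : sm gd N21523 = N14783 := ded_39_1 (flp_i L125946) L125935 L182915
theorem L182922 : sm ge N21523 = N15176 := ded_44_1 (flp_i L129234) (flp_e L125942) L182915
theorem L182924 : sm gg N21523 = N14785 := ded_51_1 (flp_i L125964) (flp_g L125940) L182915
theorem L182926 : sm gb N14784 = N21524 := rfl
theorem L182928 : sm ge N21524 = N15177 := ded_21_2 (flp_b L129243) (flp_e L125959) L182926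
theorem L182930 : sm gj N21524 = N21524 := ded_24_2 (flp_b L182926) L125961 L182926
theorem L182931 : sm gh N21524 = N14944 := ded_25_2 (flp_b L127284) (flp_h L125962) L182926
theorem L182933 : sm gc N21524 = N21524 := ded_19_2 (flp_b L182926) (flp_c L125955) L86902 L125955 L182926
theorem L182934 : sm gi N14784 = N21525 := rfl
theorem L182936 : sm ga N21525 = N14819 := ded_18_1 (flp_i L126222) (flp_a L125957) L182934
theorem L182938 : sm gc N21525 = N14785 := ded_33_1 (flp_i L125964) L125955 L182934
theorem L182940 : sm ge N21525 = N15178 := ded_44_1 (flp_i L129250) (flp_e L125959) L182934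
theorem L182942 : sm gj N21525 = N21525 := ded_53_1 (flp_i L182934) L125961 L182934
theorem L182943 : sm gh N14785 = N21526 := rfl
theorem L182945 : sm ga N21526 = N14820 := ded_17_1 (flp_h L126229) (flp_a L125966) L182943
theorem L182948 : sm ge N21526 = N15179 := ded_43_1 (flp_h L129258) (flp_e L125971) L182943
theorem L182951 : sm gi N21526 = N14946 := ded_54_2 (flp_h L127299) (flp_i L87838) (flp_h L86906) L125964 L182943
theorem L182953 : sm ge N14787 = N21527 := rfl
theorem L182955 : sm gc N21527 = N14947 := ded_28_1 (flp_e L127307) (flp_c L125986) L182953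
theorem L182957 : sm gf N21527 = N16338 := ded_40_2 (flp_e L139377) (flp_f L96124) (flp_e L86941) L125984 L182953
theorem L182959 : sm gj N14787 = N21528 := rfl
theorem L182961 : sm gc N21528 = N14948 := ded_31_1 (flp_j L127313) (flp_c L125986) L182959
theorem L182963 : sm gd N21528 = N14792 := ded_37_1 (flp_j L126019) (flp_d L125988) L182959
theorem L182965 : sm gf N21528 = N14788 := ded_46_1 (flp_j L125990) L125984 L182959
theorem L182967 : sm gh N14787 = N21529 := rfl
theorem L182969 : sm gc N21529 = N14949 := ded_32_1 (flp_h L127320) (flp_c L125986) L182967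
theorem L182971 : sm gf N21529 = N14789 := ded_47_1 (flp_h L125999) L125984 L182967
theorem L182973 : sm gh N14788 = N21530 := rfl
theorem L182975 : sm gc N21530 = N14950 := ded_32_1 (flp_h L127325) (flp_c L125992) L182973
theorem L182977 : sm ge N21530 = N16341 := ded_43_1 (flp_h L139397) (flp_e L125996) L182973
theorem L182979 : sm gg N21530 = N21530 := ded_50_1 (flp_h L182973) L125998 L182973
theorem L182980 : sm gj N21530 = N14789 := ded_52_1 (flp_h L125999) L125990 L182973
theorem L182982 : sm gd N14789 = N21531 := rfl
theorem L182984 : sm gg N21531 = N14790 := ded_36_2 (flp_d L126007) (flp_g L126005) L182982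
theorem L182986 : sm gh N21531 = N14795 := ded_38_2 (flp_d L126040) (flp_h L86961) (flp_d L86939) L125999 L182982
theorem L182988 : sm gi N14789 = N21532 := rfl
theorem L182990 : sm gc N21532 = N14952 := ded_33_1 (flp_i L127341) (flp_c L126001) L182988
theorem L182992 : sm ge N21532 = N16343 := ded_44_1 (flp_i L139411) (flp_e L126003) L182988
theorem L182994 : sm gg N21532 = N14791 := ded_51_1 (flp_i L126012) (flp_g L126005) L182988
theorem L182996 : sm gc N14790 = N21533 := rfl
theorem L182998 : sm gj N21533 = N21533 := ded_31_2 (flp_c L182996) L126009 L182996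
theorem L182999 : sm gh N21533 = N14797 := ded_32_2 (flp_c L126052) (flp_h L126010) L182996
theorem L183001 : sm gd N21533 = N14953 := ded_27_2 (flp_c L127348) (flp_d L87879) (flp_c L86945) L126007 L182996
theorem L183003 : sm ge N14790 = N21534 := rfl
theorem L183005 : sm gj N21534 = N21534 := ded_42_2 (flp_e L183003) L126009 L183003
theorem L183006 : sm gh N21534 = N14798 := ded_43_2 (flp_e L126057) (flp_h L126010) L183003
theorem L183008 : sm gd N21534 = N16344 := ded_34_1 (flp_e L139417) (flp_d L96144) (flp_e L86947) L126007 L183003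
theorem L183010 : sm gi N14790 = N21535 := rfl
theorem L183012 : sm gd N21535 = N14791 := ded_39_1 (flp_i L126012) L126007 L183010
theorem L183014 : sm gj N21535 = N21535 := ded_53_1 (flp_i L183010) L126009 L183010
theorem L183015 : sm gg N14792 = N21536 := rfl
theorem L183017 : sm gc N21536 = N14810 := ded_30_1 (flp_g L126146) (flp_c L126021) L183015
theorem L183019 : sm gf N21536 = N21536 := ded_45_1 (flp_g L183015) L126023 L86960 (flp_f L126023) L183015
theorem L183020 : sm gh N14792 = N21537 := rfl
theorem L183022 : sm gc N21537 = N14811 := ded_32_1 (flp_h L126153) (flp_c L126021) L183020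
theorem L183024 : sm gf N21537 = N14794 := ded_47_1 (flp_h L126031) (flp_f L126023) L183020
theorem L183026 : sm gj N21537 = N14793 := ded_52_1 (flp_h L126025) L126019 L183020
theorem L183028 : sm gd N14793 = N21538 := rfl
theorem L183030 : sm gf N21538 = N14795 := ded_35_2 (flp_d L126040) (flp_f L126029) L183028
theorem L183032 : sm gi N14793 = N21539 := rfl
theorem L183034 : sm gc N21539 = N14813 := ded_33_1 (flp_i L126169) (flp_c L126027) L183032
theorem L183036 : sm gf N21539 = N14796 := ded_48_1 (flp_i L126044) (flp_f L126029) L183032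
theorem L183038 : sm gd N14794 = N21540 := rfl
theorem L183040 : sm gg N21540 = N21540 := ded_36_2 (flp_d L183038) L126037 L183038
theorem L183041 : sm gj N21540 = N14795 := ded_37_2 (flp_d L126040) (flp_j L126038) L183038
theorem L183043 : sm gi N14794 = N21541 := rfl
theorem L183045 : sm gc N21541 = N14815 := ded_33_1 (flp_i L126186) (flp_c L126033) L183043
theorem L183047 : sm ge N21541 = N14801 := ded_44_1 (flp_i L126076) (flp_e L126035) L183043
theorem L183049 : sm gg N21541 = N21541 := ded_51_1 (flp_i L183043) L126037 L183043
theorem L183050 : sm gj N21541 = N14796 := ded_53_1 (flp_i L126044) (flp_j L126038) L183043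
theorem L183052 : sm gc N14795 = N21542 := rfl
theorem L183054 : sm gg N21542 = N14797 := ded_30_2 (flp_c L126052) (flp_g L126042) L183052
theorem L183056 : sm gd N21542 = N14816 := ded_27_2 (flp_c L126195) (flp_d L87060) (flp_c L86963) L126040 L183052
theorem L183058 : sm ge N14795 = N21543 := rfl
theorem L183060 : sm gg N21543 = N14798 := ded_41_2 (flp_e L126057) (flp_g L126042) L183058
theorem L183062 : sm gd N21543 = N14802 := ded_34_1 (flp_e L126083) (flp_d L86986) (flp_e L86965) L126040 L183058
theorem L183064 : sm gi N14795 = N21544 := rfl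
theorem L183066 : sm gd N21544 = N14796 := ded_39_1 (flp_i L126044) L126040 L183064
theorem L183068 : sm gg N21544 = N14799 := ded_51_1 (flp_i L126062) (flp_g L126042) L183064
theorem L183070 : sm gb N14797 = N21545 := rfl
theorem L183072 : sm gd N21545 = N14818 := ded_20_2 (flp_b L126213) (flp_d L126055) L183070
theorem L183074 : sm gj N21545 = N21545 := ded_24_2 (flp_b L183070) L126054 L183070
theorem L183075 : sm ge N14797 = N21546 := rfl
theorem L183077 : sm gc N21546 = N14798 := ded_28_1 (flp_e L126057) L126052 L183075
theorem L183079 : sm gj N21546 = N21546 := ded_42_2 (flp_e L183075) L126054 L183075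
theorem L183080 : sm gd N21546 = N15190 := ded_34_1 (flp_e L129350) L89250 (flp_e L87080) (flp_d L126055) L183075
theorem L183082 : sm gi N14797 = N21547 := rfl
theorem L183084 : sm gc N21547 = N14799 := ded_33_1 (flp_i L126062) L126052 L183082
theorem L183086 : sm gd N21547 = N14819 := ded_39_1 (flp_i L126222) (flp_d L126055) L183082
theorem L183088 : sm gj N21547 = N21547 := ded_53_1 (flp_i L183082) L126054 L183082
theorem L183089 : sm gf N14798 = N21548 := rfl
theorem L183091 : sm gd N21548 = N14804 := ded_35_1 (flp_f L126099) (flp_d L126060) L183089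
theorem L183093 : sm gj N21548 = N21548 := ded_46_2 (flp_f L183089) L126059 L183089
theorem L183094 : sm gi N14798 = N21549 := rfl
theorem L183096 : sm gd N21549 = N14805 := ded_39_1 (flp_i L126108) (flp_d L126060) L183094
theorem L183098 : sm ge N21549 = N14799 := ded_44_1 (flp_i L126062) L126057 L183094
theorem L183100 : sm gj N21549 = N21549 := ded_53_1 (flp_i L183094) L126059 L183094
theorem L183101 : sm gh N14799 = N21550 := rfl
theorem L183103 : sm gj N21550 = N21550 := ded_52_1 (flp_h L183101) L126066 L183101
theorem L183104 : sm ge N14800 = N21551 := rfl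
theorem L183106 : sm gc N21551 = N15195 := ded_28_1 (flp_e L129387) (flp_c L126072) L183104
theorem L183108 : sm gg N21551 = N21551 := ded_41_2 (flp_e L183104) L126069 L183104
theorem L183109 : sm gj N21551 = N14802 := ded_42_2 (flp_e L126083) (flp_j L126070) L183104
theorem L183111 : sm gh N21551 = N16357 := ded_43_2 (flp_e L139506) (flp_h L126074) L183104
theorem L183113 : sm gi N14800 = N21552 := rfl
theorem L183115 : sm gc N21552 = N15196 := ded_33_1 (flp_i L129395) (flp_c L126072) L183113
theorem L183117 : sm gd N21552 = N14801 := ded_39_1 (flp_i L126076) L126067 L183113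
theorem L183119 : sm gg N21552 = N21552 := ded_51_1 (flp_i L183113) L126069 L183113
theorem L183120 : sm gj N21552 = N14803 := ded_53_1 (flp_i L126091) (flp_j L126070) L183113
theorem L183122 : sm gf N14802 = N21553 := rfl
theorem L183124 : sm gc N21553 = N15197 := ded_29_1 (flp_f L129403) (flp_c L126085) L183122
theorem L183126 : sm gh N21553 = N16359 := ded_47_2 (flp_f L139522) (flp_h L126089) L183122
theorem L183128 : sm gi N14802 = N21554 := rfl
theorem L183130 : sm gc N21554 = N15198 := ded_33_1 (flp_i L129408) (flp_c L126085) L183128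
theorem L183132 : sm ge N21554 = N14803 := ded_44_1 (flp_i L126091) L126083 L183128
theorem L183134 : sm gg N21554 = N14805 := ded_51_1 (flp_i L126108) (flp_g L126087) L183128
theorem L183136 : sm gh N14803 = N21555 := rfl
theorem L183138 : sm gc N21555 = N15199 := ded_32_1 (flp_h L129415) (flp_c L126093) L183136
theorem L183144 : sm gg N14804 = N21556 := rfl
theorem L183146 : sm gc N21556 = N15200 := ded_30_1 (flp_g L129423) (flp_c L126101) L183144
theorem L183148 : sm ge N21556 = N14807 := ded_41_1 (flp_g L126124) (flp_e L126106) L183144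
theorem L183150 : sm gh N21556 = N16362 := ded_50_2 (flp_g L139540) (flp_h L126104) L183144
theorem L183152 : sm gi N14804 = N21557 := rfl
theorem L183154 : sm gc N21557 = N15201 := ded_33_1 (flp_i L129430) (flp_c L126101) L183152
theorem L183156 : sm ge N21557 = N14808 := ded_44_1 (flp_i L126130) (flp_e L126106) L183152
theorem L183158 : sm gf N21557 = N14805 := ded_48_1 (flp_i L126108) L126099 L183152
theorem L183160 : sm gj N21557 = N21557 := ded_53_1 (flp_i L183152) L126103 L183152
theorem L183161 : sm gh N14805 = N21558 := rfl
theorem L183168 : sm gi N21558 = N16364 := ded_54_2 (flp_h L139555) (flp_i L96240) (flp_h L87005) L126108 L183161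
theorem L183170 : sm gj N14807 = N21559 := rfl
theorem L183172 : sm gc N21559 = N15203 := ded_31_1 (flp_j L129446) (flp_c L126126) L183170
theorem L183174 : sm gh N21559 = N16365 := ded_52_2 (flp_j L139562) (flp_h L126128) L183170
theorem L183176 : sm gg N21559 = N21559 := ded_49_1 (flp_j L183170) (flp_g L126124) L87020 L126124 L183170
theorem L183177 : sm gi N14807 = N21560 := rfl
theorem L183179 : sm gc N21560 = N15204 := ded_33_1 (flp_i L129453) (flp_c L126126) L183177
theorem L183181 : sm gg N21560 = N14808 := ded_51_1 (flp_i L126130) L126124 L183177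
theorem L183183 : sm gh N14808 = N21561 := rfl
theorem L183185 : sm gc N21561 = N15205 := ded_32_1 (flp_h L129459) (flp_c L126132) L183183
theorem L183190 : sm gi N21561 = N16367 := ded_54_2 (flp_h L139575) (flp_i L96259) (flp_h L87021) L126130 L183183
theorem L183192 : sm gd N14809 = N21562 := rfl
theorem L183197 : sm gh N14810 = N21563 := rfl
theorem L183199 : sm gb N21563 = N14821 := ded_25_1 (flp_h L126238) (flp_b L126148) L183197
theorem L183201 : sm gf N21563 = N21563 := ded_47_1 (flp_h L183197) L126152 L183197
theorem L183202 : sm gg N21563 = N14811 := ded_50_1 (flp_h L126153) L126146 L183197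
theorem L183204 : sm gd N14811 = N21564 := rfl
theorem L183206 : sm gb N21564 = N14822 := ded_20_1 (flp_d L126244) (flp_b L126155) L183204
theorem L183208 : sm gf N21564 = N14814 := ded_35_2 (flp_d L126175) (flp_f L126157) L183204
theorem L183210 : sm gj N21564 = N14812 := ded_37_2 (flp_d L126161) (flp_j L126159) L183204
theorem L183212 : sm gh N21564 = N14967 := ded_38_2 (flp_d L127451) (flp_h L87962) (flp_d L87041) L126153 L183204
theorem L183214 : sm gi N14811 = N21565 := rfl
theorem L183216 : sm gb N21565 = N14823 := ded_26_1 (flp_i L126253) (flp_b L126155) L183214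
theorem L183218 : sm gf N21565 = N14815 := ded_48_1 (flp_i L126186) (flp_f L126157) L183214
theorem L183220 : sm gj N21565 = N14813 := ded_53_1 (flp_i L126169) (flp_j L126159) L183214
theorem L183222 : sm gc N14812 = N21566 := rfl
theorem L183224 : sm gf N21566 = N14816 := ded_29_2 (flp_c L126195) (flp_f L126165) L183222
theorem L183226 : sm gh N21566 = N14969 := ded_32_2 (flp_c L127468) (flp_h L126167) L183222
theorem L183228 : sm ge N14812 = N21567 := rfl
theorem L183230 : sm gb N21567 = N14825 := ded_21_1 (flp_e L126267) (flp_b L126163) L183228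
theorem L183232 : sm gh N21567 = N14970 := ded_43_2 (flp_e L127472) (flp_h L126167) L183228
theorem L183234 : sm gf N21567 = N15211 := ded_40_2 (flp_e L129509) L89362 (flp_e L87066) (flp_f L126165) L183228
theorem L183236 : sm gi N14812 = N21568 := rfl
theorem L183238 : sm gb N21568 = N14826 := ded_26_1 (flp_i L126274) (flp_b L126163) L183236
theorem L183240 : sm gd N21568 = N14813 := ded_39_1 (flp_i L126169) L126161 L183236
theorem L183242 : sm gf N21568 = N14817 := ded_48_1 (flp_i L126203) (flp_f L126165) L183236
theorem L183244 : sm gc N14814 = N21569 := rfl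
theorem L183246 : sm ge N21569 = N15213 := ded_28_2 (flp_c L129525) (flp_e L126182) L183244
theorem L183248 : sm gg N21569 = N21569 := ded_30_2 (flp_c L183244) L126179 L183244
theorem L183249 : sm gj N21569 = N14816 := ded_31_2 (flp_c L126195) (flp_j L126180) L183244
theorem L183251 : sm gh N21569 = N14972 := ded_32_2 (flp_c L127487) (flp_h L126184) L183244
theorem L183253 : sm gi N14814 = N21570 := rfl
theorem L183255 : sm gb N21570 = N14828 := ded_26_1 (flp_i L126291) (flp_b L126177) L183253
theorem L183257 : sm gd N21570 = N14815 := ded_39_1 (flp_i L126186) L126175 L183253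
theorem L183259 : sm ge N21570 = N15214 := ded_44_1 (flp_i L129532) (flp_e L126182) L183253
theorem L183261 : sm gg N21570 = N21570 := ded_51_1 (flp_i L183253) L126179 L183253
theorem L183262 : sm gj N21570 = N14817 := ded_53_1 (flp_i L126203) (flp_j L126180) L183253
theorem L183264 : sm gb N14816 = N21571 := rfl
theorem L183266 : sm ge N21571 = N15215 := ded_21_2 (flp_b L129541) (flp_e L126197) L183264
theorem L183268 : sm gg N21571 = N14818 := ded_23_2 (flp_b L126213) (flp_g L126199) L183264
theorem L183270 : sm gh N21571 = N14974 := ded_25_2 (flp_b L127505) (flp_h L126201) L183264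
theorem L183272 : sm gc N21571 = N14829 := ded_19_2 (flp_b L126301) (flp_c L87146) (flp_b L87062) L126195 L183264
theorem L183274 : sm gi N14816 = N21572 := rfl
theorem L183276 : sm gc N21572 = N14817 := ded_33_1 (flp_i L126203) L126195 L183274
theorem L183278 : sm ge N21572 = N15216 := ded_44_1 (flp_i L129549) (flp_e L126197) L183274
theorem L183280 : sm gg N21572 = N14819 := ded_51_1 (flp_i L126222) (flp_g L126199) L183274
theorem L183282 : sm gh N14817 = N21573 := rfl
theorem L183284 : sm gb N21573 = N14831 := ded_25_1 (flp_h L126318) (flp_b L126205) L183282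
theorem L183286 : sm ge N21573 = N15217 := ded_43_1 (flp_h L129555) (flp_e L126209) L183282
theorem L183288 : sm gg N21573 = N14820 := ded_50_1 (flp_h L126229) (flp_g L126211) L183282
theorem L183290 : sm gi N21573 = N14976 := ded_54_2 (flp_h L127521) (flp_i L88008) (flp_h L87068) L126203 L183282
theorem L183292 : sm ga N14818 = N21574 := rfl
theorem L183294 : sm gc N21574 = N14832 := ded_11_2 (flp_a L126327) (flp_c L126220) L183292
theorem L183296 : sm ge N21574 = N15218 := ded_13_2 (flp_a L129564) (flp_e L126215) L183292
theorem L183298 : sm gj N21574 = N21574 := ded_16_2 (flp_a L183292) L126217 L183292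
theorem L183299 : sm gh N21574 = N14977 := ded_17_2 (flp_a L127529) (flp_h L126218) L183292
theorem L183301 : sm gi N14818 = N21575 := rfl
theorem L183303 : sm gb N21575 = N14819 := ded_26_1 (flp_i L126222) L126213 L183301
theorem L183305 : sm gc N21575 = N14833 := ded_33_1 (flp_i L126335) (flp_c L126220) L183301
theorem L183307 : sm ge N21575 = N15219 := ded_44_1 (flp_i L129572) (flp_e L126215) L183301
theorem L183309 : sm gj N21575 = N21575 := ded_53_1 (flp_i L183301) L126217 L183301
theorem L183310 : sm gh N14819 = N21576 := rfl
theorem L183312 : sm gc N21576 = N14820 := ded_32_1 (flp_h L126229) (flp_c L126224) L183310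
theorem L183314 : sm ge N21576 = N15220 := ded_43_1 (flp_h L129580) (flp_e L126226) L183310
theorem L183316 : sm gj N21576 = N21576 := ded_52_1 (flp_h L183310) L126228 L183310
theorem L183317 : sm gi N21576 = N14979 := ded_54_2 (flp_h L127545) (flp_i L88025) (flp_h L87083) L126222 L183310
theorem L183319 : sm gd N14821 = N21577 := rfl
theorem L183321 : sm ga N21577 = N21577 := ded_12_1 (flp_d L183319) L126240 L183319
theorem L183322 : sm gf N21577 = N21577 := ded_35_2 (flp_d L183319) L126241 L183319
theorem L183323 : sm gg N21577 = N14822 := ded_36_2 (flp_d L126244) (flp_g L126242) L183319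
theorem L183325 : sm gh N21577 = N14980 := ded_38_2 (flp_d L127552) (flp_h L88039) (flp_d L87106) L126238 L183319
theorem L183327 : sm gi N14821 = N21578 := rfl
theorem L183329 : sm ga N21578 = N21578 := ded_18_1 (flp_i L183327) L126240 L183327
theorem L183330 : sm gf N21578 = N21578 := ded_48_1 (flp_i L183327) L126241 L183327
theorem L183331 : sm gg N21578 = N14823 := ded_51_1 (flp_i L126253) (flp_g L126242) L183327
theorem L183333 : sm gc N14822 = N21579 := rfl
theorem L183335 : sm ga N21579 = N21579 := ded_11_1 (flp_c L183333) L126246 L183333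
theorem L183336 : sm gf N21579 = N14827 := ded_29_2 (flp_c L126281) (flp_f L126247) L183333
theorem L183338 : sm gj N21579 = N14824 := ded_31_2 (flp_c L126260) (flp_j L126249) L183333
theorem L183340 : sm gh N21579 = N14982 := ded_32_2 (flp_c L127566) (flp_h L126251) L183333
theorem L183342 : sm ge N14822 = N21580 := rfl
theorem L183344 : sm ga N21580 = N21580 := ded_13_1 (flp_e L183342) L126246 L183342
theorem L183345 : sm gj N21580 = N14825 := ded_42_2 (flp_e L126267) (flp_j L126249) L183342
theorem L183347 : sm gh N21580 = N14983 := ded_43_2 (flp_e L127574) (flp_h L126251) L183342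
theorem L183349 : sm gf N21580 = N15224 := ded_40_2 (flp_e L129616) L89442 (flp_e L87134) (flp_f L126247) L183342
theorem L183351 : sm gi N14822 = N21581 := rfl
theorem L183353 : sm ga N21581 = N21581 := ded_18_1 (flp_i L183351) L126246 L183351
theorem L183354 : sm gd N21581 = N14823 := ded_39_1 (flp_i L126253) L126244 L183351
theorem L183356 : sm gf N21581 = N14828 := ded_48_1 (flp_i L126291) (flp_f L126247) L183351
theorem L183358 : sm gj N21581 = N14826 := ded_53_1 (flp_i L126274) (flp_j L126249) L183351
theorem L183360 : sm gb N14824 = N21582 := rfl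
theorem L183362 : sm gf N21582 = N14829 := ded_22_2 (flp_b L126301) (flp_f L126263) L183360
theorem L183364 : sm gh N21582 = N14985 := ded_25_2 (flp_b L127591) (flp_h L126265) L183360
theorem L183366 : sm ge N14824 = N21583 := rfl
theorem L183368 : sm ga N21583 = N21583 := ded_13_1 (flp_e L183366) L126262 L183366
theorem L183369 : sm gc N21583 = N14825 := ded_28_1 (flp_e L126267) L126260 L183366
theorem L183371 : sm gh N21583 = N14986 := ded_43_2 (flp_e L127596) (flp_h L126265) L183366
theorem L183373 : sm gf N21583 = N15227 := ded_40_2 (flp_e L129640) L89460 (flp_e L87149) (flp_f L126263) L183366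
theorem L183375 : sm gi N14824 = N21584 := rfl
theorem L183377 : sm ga N21584 = N21584 := ded_18_1 (flp_i L183375) L126262 L183375
theorem L183378 : sm gc N21584 = N14826 := ded_33_1 (flp_i L126274) L126260 L183375
theorem L183380 : sm gf N21584 = N14830 := ded_48_1 (flp_i L126309) (flp_f L126263) L183375
theorem L183382 : sm gi N14825 = N21585 := rfl
theorem L183384 : sm ga N21585 = N21585 := ded_18_1 (flp_i L183382) L126269 L183382
theorem L183385 : sm ge N21585 = N14826 := ded_44_1 (flp_i L126274) L126267 L183382
theorem L183387 : sm gf N21585 = N15229 := ded_48_1 (flp_i L129657) (flp_f L126272) L183382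
theorem L183389 : sm gh N14826 = N21586 := rfl
theorem L183391 : sm ga N21586 = N21586 := ded_17_1 (flp_h L183389) L126276 L183389
theorem L183392 : sm gf N21586 = N14831 := ded_47_1 (flp_h L126318) (flp_f L126279) L183389
theorem L183394 : sm gi N21586 = N14989 := ded_54_2 (flp_h L127619) (flp_i L88075) (flp_h L87121) L126274 L183389
theorem L183396 : sm gb N14827 = N21587 := rfl
theorem L183398 : sm ge N21587 = N15231 := ded_21_2 (flp_b L129672) (flp_e L126284) L183396
theorem L183400 : sm gg N21587 = N21587 := ded_23_2 (flp_b L183396) L126286 L183396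
theorem L183401 : sm gj N21587 = N14829 := ded_24_2 (flp_b L126301) (flp_j L126287) L183396
theorem L183403 : sm gh N21587 = N14990 := ded_25_2 (flp_b L127624) (flp_h L126289) L183396
theorem L183405 : sm gi N14827 = N21588 := rfl
theorem L183407 : sm ga N21588 = N21588 := ded_18_1 (flp_i L183405) L126283 L183405
theorem L183408 : sm gc N21588 = N14828 := ded_33_1 (flp_i L126291) L126281 L183405
theorem L183410 : sm ge N21588 = N15232 := ded_44_1 (flp_i L129680) (flp_e L126284) L183405
theorem L183412 : sm gg N21588 = N21588 := ded_51_1 (flp_i L183405) L126286 L183405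
theorem L183413 : sm gj N21588 = N14830 := ded_53_1 (flp_i L126309) (flp_j L126287) L183405
theorem L183415 : sm gh N14828 = N21589 := rfl
theorem L183417 : sm ga N21589 = N21589 := ded_17_1 (flp_h L183415) L126293 L183415
theorem L183418 : sm ge N21589 = N15233 := ded_43_1 (flp_h L129689) (flp_e L126296) L183415
theorem L183420 : sm gg N21589 = N21589 := ded_50_1 (flp_h L183415) L126298 L183415
theorem L183421 : sm gj N21589 = N14831 := ded_52_1 (flp_h L126318) (flp_j L126299) L183415
theorem L183423 : sm gi N21589 = N14992 := ded_54_2 (flp_h L127643) (flp_i L88091) (flp_h L87136) L126291 L183415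
theorem L183425 : sm ga N14829 = N21590 := rfl
theorem L183427 : sm ge N21590 = N15234 := ded_13_2 (flp_a L129698) (flp_e L126303) L183425
theorem L183429 : sm gg N21590 = N14832 := ded_15_2 (flp_a L126327) (flp_g L126305) L183425
theorem L183431 : sm gh N21590 = N14993 := ded_17_2 (flp_a L127651) (flp_h L126307) L183425
theorem L183433 : sm gb N21590 = N21590 := ded_10_2 (flp_a L183425) (flp_b L126301) L87148 L126301 L183425
theorem L183434 : sm gi N14829 = N21591 := rfl
theorem L183436 : sm gb N21591 = N14830 := ded_26_1 (flp_i L126309) L126301 L183434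
theorem L183438 : sm ge N21591 = N15235 := ded_44_1 (flp_i L129706) (flp_e L126303) L183434
theorem L183440 : sm gg N21591 = N14833 := ded_51_1 (flp_i L126335) (flp_g L126305) L183434
theorem L183442 : sm gh N14830 = N21592 := rfl
theorem L183444 : sm ga N21592 = N21592 := ded_17_1 (flp_h L183442) L126311 L183442
theorem L183445 : sm gc N21592 = N14831 := ded_32_1 (flp_h L126318) (flp_c L126312) L183442
theorem L183447 : sm ge N21592 = N15236 := ded_43_1 (flp_h L129713) (flp_e L126314) L183442
theorem L183449 : sm gg N21592 = N14834 := ded_50_1 (flp_h L126342) (flp_g L126316) L183442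
theorem L183451 : sm gi N21592 = N14995 := ded_54_2 (flp_h L127668) (flp_i L88108) (flp_h L87153) L126309 L183442
theorem L183453 : sm gi N14832 = N21593 := rfl
theorem L183455 : sm ga N21593 = N14833 := ded_18_1 (flp_i L126335) L126327 L183453
theorem L183457 : sm gb N21593 = N21593 := ded_26_1 (flp_i L183453) L126334 L183453
theorem L183458 : sm ge N21593 = N15237 := ded_44_1 (flp_i L129722) (flp_e L126329) L183453
theorem L183460 : sm gj N21593 = N21593 := ded_53_1 (flp_i L183453) L126331 L183453
theorem L183461 : sm gh N14833 = N21594 := rfl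
theorem L183463 : sm gb N21594 = N14834 := ded_25_1 (flp_h L126342) (flp_b L126337) L183461
theorem L183465 : sm ge N21594 = N15238 := ded_43_1 (flp_h L129730) (flp_e L126339) L183461
theorem L183467 : sm gj N21594 = N21594 := ded_52_1 (flp_h L183461) L126341 L183461
theorem L183468 : sm gi N21594 = N14997 := ded_54_2 (flp_h L127686) (flp_i L88132) (flp_h L87169) L126335 L183461
theorem L183470 : sm gd N14834 = N21595 := rfl
theorem L183472 : sm ga N21595 = N21595 := ded_12_1 (flp_d L183470) L126344 L183470
theorem L183473 : sm gj N21595 = N21595 := ded_37_2 (flp_d L183470) L126349 L183470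
theorem L183474 : sm gi N21595 = N14998 := ded_39_2 (flp_d L127693) (flp_i L126350) L183470
theorem L183476 : sm gc N14835 = N21596 := rfl
theorem L183479 : sm ge N21596 = N16372 := ded_28_2 (flp_c L139613) (flp_e L126360) L183476
theorem L183482 : sm gi N21596 = N14913 := ded_33_2 (flp_c L127015) (flp_i L126358) L183476
theorem L183496 : sm gh N14835 = N21598 := rfl
theorem L183501 : sm ge N21598 = N16374 := ded_43_1 (flp_h L139631) (flp_e L126360) L183496
theorem L183504 : sm gf N14836 = N21599 := rfl
theorem L183507 : sm gb N21599 = N14847 := ded_22_1 (flp_f L126468) (flp_b L126365) L183504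
theorem L183510 : sm gi N21599 = N14916 := ded_48_2 (flp_f L127039) (flp_i L126370) L183504
theorem L183513 : sm gj N14836 = N21600 := rfl
theorem L183519 : sm ge N21600 = N14838 := ded_42_1 (flp_j L126381) (flp_e L126368) L183513
theorem L183521 : sm gi N21600 = N14917 := ded_53_2 (flp_j L127046) (flp_i L126370) L183513
theorem L183534 : sm gd N14837 = N21602 := rfl
theorem L183540 : sm gi N14837 = N21603 := rfl
theorem L183549 : sm gh N21603 = N14920 := ded_54_1 (flp_i L127072) (flp_h L87671) (flp_i L87194) L126372 L183540
theorem L183551 : sm gh N14838 = N21604 := rfl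
theorem L183561 : sm gd N14839 = N21605 := rfl
theorem L183569 : sm gh N21605 = N16380 := ded_38_2 (flp_d L139693) (flp_h L96370) (flp_d L87202) L126393 L183561
theorem L183649 : sm gf N14845 = N21614 := rfl
theorem L183651 : sm ga N21614 = N14867 := ded_14_1 (flp_f L126656) (flp_a L126453) L183649
theorem L183653 : sm gd N21614 = N14847 := ded_35_1 (flp_f L126468) (flp_d L126455) L183649
theorem L183655 : sm gi N21614 = N14923 := ded_48_2 (flp_f L127102) (flp_i L126459) L183649
theorem L183657 : sm gj N14845 = N21615 := rfl
theorem L183659 : sm ga N21615 = N14868 := ded_16_1 (flp_j L126663) (flp_a L126453) L183657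
theorem L183663 : sm ge N21615 = N16386 := ded_42_1 (flp_j L139745) (flp_e L126457) L183657
theorem L183665 : sm gi N21615 = N14924 := ded_53_2 (flp_j L127108) (flp_i L126459) L183657
theorem L183668 : sm gh N14845 = N21616 := rfl
theorem L183670 : sm ga N21616 = N14869 := ded_17_1 (flp_h L126673) (flp_a L126453) L183668
theorem L183672 : sm ge N21616 = N16387 := ded_43_1 (flp_h L139754) (flp_e L126457) L183668
theorem L183676 : sm gd N14846 = N21617 := rfl
theorem L183681 : sm gh N21617 = N14850 := ded_38_2 (flp_d L126498) (flp_h L87254) L87235 L126461 L183676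
theorem L183683 : sm gi N14846 = N21618 := rfl
theorem L183685 : sm ga N21618 = N14871 := ded_18_1 (flp_i L126686) (flp_a L126463) L183683
theorem L183687 : sm ge N21618 = N16389 := ded_44_1 (flp_i L139768) (flp_e L126465) L183683
theorem L183692 : sm gj N14847 = N21619 := rfl
theorem L183694 : sm ga N21619 = N14872 := ded_16_1 (flp_j L126694) (flp_a L126470) L183692
theorem L183696 : sm gc N21619 = N14859 := ded_31_1 (flp_j L126582) (flp_c L126472) L183692
theorem L183701 : sm gi N21619 = N14928 := ded_53_2 (flp_j L127140) (flp_i L126474) L183692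
theorem L183703 : sm gh N14847 = N21620 := rfl
theorem L183705 : sm ga N21620 = N14873 := ded_17_1 (flp_h L126704) (flp_a L126470) L183703
theorem L183707 : sm gc N21620 = N14860 := ded_32_1 (flp_h L126592) (flp_c L126472) L183703
theorem L183710 : sm gf N21620 = N14849 := ded_47_1 (flp_h L126488) L126468 L183703
theorem L183712 : sm gh N14848 = N21621 := rfl
theorem L183716 : sm gc N21621 = N14861 := ded_32_1 (flp_h L126600) (flp_c L126481) L183712
theorem L183721 : sm gj N21621 = N14849 := ded_52_1 (flp_h L126488) L126477 L183712
theorem L183723 : sm gd N14849 = N21622 := rfl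
theorem L183741 : sm gc N14850 = N21624 := rfl
theorem L183743 : sm ga N21624 = N14877 := ded_11_1 (flp_c L126738) (flp_a L126500) L183741
theorem L183748 : sm ge N14850 = N21625 := rfl
theorem L183750 : sm ga N21625 = N14878 := ded_13_1 (flp_e L126743) (flp_a L126500) L183748
theorem L183762 : sm gd N14852 = N21627 := rfl
theorem L183768 : sm gj N21627 = N14853 := ded_37_2 (flp_d L126524) (flp_j L126522) L183762
theorem L183771 : sm gh N21627 = N16396 := ded_38_2 (flp_d L139834) (flp_h L96461) (flp_d L87269) L126514 L183762
theorem L183824 : sm gg N14857 = N21633 := rfl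
theorem L183826 : sm ga N21633 = N14886 := ded_15_1 (flp_g L126811) (flp_a L126566) L183824
theorem L183829 : sm gh N21633 = N16399 := ded_50_2 (flp_g L139861) (flp_h L126570) L183824
theorem L183841 : sm gg N14859 = N21635 := rfl
theorem L183843 : sm ga N21635 = N14888 := ded_15_1 (flp_g L126826) (flp_a L126584) L183841
theorem L183845 : sm gb N21635 = N21635 := ded_23_1 (flp_g L183841) L126586 L183841
theorem L183846 : sm ge N21635 = N21635 := ded_41_1 (flp_g L183841) L126587 L183841
theorem L183847 : sm gi N21635 = N14936 := ded_51_2 (flp_g L127213) (flp_i L126590) L183841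
theorem L183849 : sm gf N21635 = N21635 := ded_45_1 (flp_g L183841) L126588 L87341 (flp_f L126588) L183841
theorem L183850 : sm gh N14859 = N21636 := rfl
theorem L183852 : sm ga N21636 = N14889 := ded_17_1 (flp_h L126834) (flp_a L126584) L183850
theorem L183856 : sm gf N21636 = N14861 := ded_47_1 (flp_h L126600) (flp_f L126588) L183850
theorem L183858 : sm gj N21636 = N14860 := ded_52_1 (flp_h L126592) L126582 L183850
theorem L183860 : sm gd N14860 = N21637 := rfl
theorem L183862 : sm ga N21637 = N14890 := ded_12_1 (flp_d L126843) (flp_a L126594) L183860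
theorem L183865 : sm gf N21637 = N14862 := ded_35_2 (flp_d L126610) (flp_f L126598) L183860
theorem L183867 : sm gi N14860 = N21638 := rfl
theorem L183875 : sm gh N21638 = N14939 := ded_54_1 (flp_i L127237) (flp_h L87795) (flp_i L87329) L126592 L183867
theorem L183877 : sm gd N14861 = N21639 := rfl
theorem L183879 : sm ga N21639 = N14892 := ded_12_1 (flp_d L126858) (flp_a L126602) L183877
theorem L183883 : sm gj N21639 = N14862 := ded_37_2 (flp_d L126610) (flp_j L126608) L183877
theorem L183898 : sm gc N14862 = N21641 := rfl
theorem L183900 : sm ga N21641 = N14894 := ded_11_1 (flp_c L126877) (flp_a L126612) L183898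
theorem L183903 : sm gg N21641 = N14864 := ded_30_2 (flp_c L126629) (flp_g L126615) L183898
theorem L183905 : sm gi N14862 = N21642 := rfl
theorem L183907 : sm ga N21642 = N14895 := ded_18_1 (flp_i L126882) (flp_a L126612) L183905
theorem L183910 : sm gd N21642 = N14863 := ded_39_1 (flp_i L126618) L126610 L183905
theorem L183915 : sm gb N14864 = N21643 := rfl
theorem L183920 : sm gi N14864 = N21644 := rfl
theorem L183922 : sm ga N21644 = N14897 := ded_18_1 (flp_i L126897) (flp_a L126631) L183920
theorem L183924 : sm gc N21644 = N14865 := ded_33_1 (flp_i L126635) L126629 L183920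
theorem L183928 : sm gh N14865 = N21645 := rfl
theorem L183935 : sm gd N21645 = N14946 := ded_38_1 (flp_h L127299) L87843 (flp_h L87366) (flp_d L126640) L183928
theorem L183937 : sm ge N14867 = N21646 := rfl
theorem L183939 : sm gb N21646 = N21646 := ded_21_1 (flp_e L183937) L126658 L183937
theorem L183940 : sm gi N21646 = N14947 := ded_44_2 (flp_e L127307) (flp_i L126661) L183937
theorem L183942 : sm gd N21646 = N21646 := ded_34_1 (flp_e L183937) L126659 L87411 (flp_d L126659) L183937
theorem L183943 : sm gf N21646 = N16406 := ded_40_2 (flp_e L139929) (flp_f L96548) (flp_e L87394) L126656 L183937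
theorem L183945 : sm gj N14867 = N21647 := rfl
theorem L183947 : sm gb N21647 = N21647 := ded_24_1 (flp_j L183945) L126658 L183945
theorem L183948 : sm gd N21647 = N14872 := ded_37_1 (flp_j L126694) (flp_d L126659) L183945
theorem L183950 : sm gf N21647 = N14868 := ded_46_1 (flp_j L126663) L126656 L183945
theorem L183952 : sm gi N21647 = N14948 := ded_53_2 (flp_j L127313) (flp_i L126661) L183945
theorem L183954 : sm gh N14867 = N21648 := rfl
theorem L183956 : sm gb N21648 = N21648 := ded_25_1 (flp_h L183954) L126658 L183954
theorem L183957 : sm gf N21648 = N14869 := ded_47_1 (flp_h L126673) L126656 L183954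
theorem L183959 : sm gh N14868 = N21649 := rfl
theorem L183961 : sm gb N21649 = N21649 := ded_25_1 (flp_h L183959) L126665 L183959
theorem L183962 : sm ge N21649 = N16409 := ded_43_1 (flp_h L139951) (flp_e L126668) L183959
theorem L183964 : sm gg N21649 = N21649 := ded_50_1 (flp_h L183959) L126672 L183959
theorem L183965 : sm gj N21649 = N14869 := ded_52_1 (flp_h L126673) L126663 L183959
theorem L183967 : sm gd N14869 = N21650 := rfl
theorem L183972 : sm gh N21650 = N14875 := ded_38_2 (flp_d L126722) (flp_h L87422) (flp_d L87392) L126673 L183967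
theorem L183974 : sm gi N14869 = N21651 := rfl
theorem L183976 : sm gb N21651 = N21651 := ded_26_1 (flp_i L183974) L126675 L183974
theorem L183977 : sm ge N21651 = N16411 := ded_44_1 (flp_i L139964) (flp_e L126676) L183974
theorem L183979 : sm gg N21651 = N14871 := ded_51_1 (flp_i L126686) (flp_g L126678) L183974
theorem L183981 : sm gh N21651 = N14952 := ded_54_1 (flp_i L127341) (flp_h L87872) (flp_i L87396) L126673 L183974
theorem L183983 : sm gc N14870 = N21652 := rfl
theorem L183986 : sm gh N21652 = N14877 := ded_32_2 (flp_c L126738) (flp_h L126684) L183983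
theorem L183988 : sm ge N14870 = N21653 := rfl
theorem L183992 : sm gh N21653 = N14878 := ded_43_2 (flp_e L126743) (flp_h L126684) L183988
theorem L183996 : sm gi N14870 = N21654 := rfl
theorem L183999 : sm gd N21654 = N14871 := ded_39_1 (flp_i L126686) L126680 L183996
theorem L184002 : sm gg N14872 = N21655 := rfl
theorem L184004 : sm gb N21655 = N21655 := ded_23_1 (flp_g L184002) L126696 L184002
theorem L184005 : sm gc N21655 = N14888 := ded_30_1 (flp_g L126826) (flp_c L126697) L184002
theorem L184007 : sm ge N21655 = N21655 := ded_41_1 (flp_g L184002) L126699 L184002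
theorem L184008 : sm gi N21655 = N14955 := ded_51_2 (flp_g L127361) (flp_i L126702) L184002
theorem L184010 : sm gf N21655 = N21655 := ded_45_1 (flp_g L184002) L126700 L87421 (flp_f L126700) L184002
theorem L184011 : sm gh N14872 = N21656 := rfl
theorem L184014 : sm gc N21656 = N14889 := ded_32_1 (flp_h L126834) (flp_c L126697) L184011
theorem L184019 : sm gj N21656 = N14873 := ded_52_1 (flp_h L126704) L126694 L184011
theorem L184021 : sm gd N14873 = N21657 := rfl
theorem L184024 : sm gf N21657 = N14875 := ded_35_2 (flp_d L126722) (flp_f L126710) L184021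
theorem L184036 : sm gd N14874 = N21659 := rfl
theorem L184040 : sm gj N21659 = N14875 := ded_37_2 (flp_d L126722) (flp_j L126720) L184036
theorem L184054 : sm gc N14875 = N21661 := rfl
theorem L184056 : sm gg N21661 = N14877 := ded_30_2 (flp_c L126738) (flp_g L126725) L184054
theorem L184058 : sm gd N21661 = N14894 := ded_27_2 (flp_c L126877) (flp_d L87531) (flp_c L87425) L126722 L184054
theorem L184060 : sm ge N14875 = N21662 := rfl
theorem L184065 : sm gd N21662 = N14882 := ded_34_1 (flp_e L126776) (flp_d L87454) (flp_e L87427) L126722 L184060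
theorem L184067 : sm gi N14875 = N21663 := rfl
theorem L184074 : sm gb N14877 = N21664 := rfl
theorem L184076 : sm gd N21664 = N14896 := ded_20_2 (flp_b L126891) (flp_d L126741) L184074
theorem L184080 : sm ge N14877 = N21665 := rfl
theorem L184082 : sm gc N21665 = N14878 := ded_28_1 (flp_e L126743) L126738 L184080
theorem L184086 : sm gi N14877 = N21666 := rfl
theorem L184088 : sm gc N21666 = N14879 := ded_33_1 (flp_i L126749) L126738 L184086
theorem L184090 : sm gd N21666 = N14897 := ded_39_1 (flp_i L126897) (flp_d L126741) L184086
theorem L184093 : sm gf N14878 = N21667 := rfl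
theorem L184096 : sm gd N21667 = N14884 := ded_35_1 (flp_f L126794) (flp_d L126747) L184093
theorem L184099 : sm gi N14878 = N21668 := rfl
theorem L184102 : sm gd N21668 = N14885 := ded_39_1 (flp_i L126803) (flp_d L126747) L184099
theorem L184104 : sm ge N21668 = N14879 := ded_44_1 (flp_i L126749) L126743 L184099
theorem L184107 : sm gh N14879 = N21669 := rfl
theorem L184113 : sm ge N14880 = N21670 := rfl
theorem L184118 : sm gj N21670 = N14882 := ded_42_2 (flp_e L126776) (flp_j L126760) L184113
theorem L184120 : sm gh N21670 = N16424 := ded_43_2 (flp_e L140064) (flp_h L126763) L184113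
theorem L184133 : sm gf N14882 = N21672 := rfl
theorem L184149 : sm gg N14884 = N21674 := rfl
theorem L184155 : sm gh N21674 = N16426 := ded_50_2 (flp_g L140078) (flp_h L126799) L184149
theorem L184157 : sm gi N14884 = N21675 := rfl
theorem L184163 : sm gf N21675 = N14885 := ded_48_1 (flp_i L126803) L126794 L184157
theorem L184167 : sm gj N14886 = N21676 := rfl
theorem L184172 : sm gh N21676 = N16427 := ded_52_2 (flp_j L140085) (flp_h L126815) L184167
theorem L184183 : sm gh N14888 = N21678 := rfl
theorem L184185 : sm gb N21678 = N14899 := ded_25_1 (flp_h L126911) (flp_b L126828) L184183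
theorem L184187 : sm ge N21678 = N21678 := ded_43_1 (flp_h L184183) L126830 L184183
theorem L184188 : sm gf N21678 = N21678 := ded_47_1 (flp_h L184183) L126833 L184183
theorem L184189 : sm gg N21678 = N14889 := ded_50_1 (flp_h L126834) L126826 L184183
theorem L184191 : sm gd N14889 = N21679 := rfl
theorem L184193 : sm gb N21679 = N14900 := ded_20_1 (flp_d L126919) (flp_b L126836) L184191
theorem L184195 : sm gf N21679 = N14892 := ded_35_2 (flp_d L126858) (flp_f L126839) L184191
theorem L184197 : sm gj N21679 = N14890 := ded_37_2 (flp_d L126843) (flp_j L126841) L184191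
theorem L184199 : sm gi N14889 = N21680 := rfl
theorem L184204 : sm gf N21680 = N14893 := ded_48_1 (flp_i L126866) (flp_f L126839) L184199
theorem L184208 : sm gh N21680 = N14968 := ded_54_1 (flp_i L127459) (flp_h L87962) (flp_i L87513) L126834 L184199
theorem L184210 : sm gc N14890 = N21681 := rfl
theorem L184212 : sm gf N21681 = N14894 := ded_29_2 (flp_c L126877) (flp_f L126847) L184210
theorem L184214 : sm ge N14890 = N21682 := rfl
theorem L184216 : sm gb N21682 = N14903 := ded_21_1 (flp_e L126943) (flp_b L126845) L184214
theorem L184218 : sm gd N21682 = N21682 := ded_34_1 (flp_e L184214) (flp_d L126843) L87519 L126843 L184214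
theorem L184219 : sm gf N21682 = N21682 := ded_40_2 (flp_e L184214) L126847 L87537 (flp_f L126847) L184214
theorem L184220 : sm gi N14890 = N21683 := rfl
theorem L184222 : sm gb N21683 = N14904 := ded_26_1 (flp_i L126948) (flp_b L126845) L184220
theorem L184224 : sm gd N21683 = N14891 := ded_39_1 (flp_i L126849) L126843 L184220
theorem L184228 : sm gc N14892 = N21684 := rfl
theorem L184230 : sm ge N21684 = N21684 := ded_28_2 (flp_c L184228) L126865 L184228
theorem L184231 : sm gg N21684 = N21684 := ded_30_2 (flp_c L184228) L126862 L184228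
theorem L184232 : sm gj N21684 = N14894 := ded_31_2 (flp_c L126877) (flp_j L126863) L184228
theorem L184234 : sm gi N14892 = N21685 := rfl
theorem L184236 : sm gb N21685 = N14906 := ded_26_1 (flp_i L126963) (flp_b L126860) L184234
theorem L184238 : sm gd N21685 = N14893 := ded_39_1 (flp_i L126866) L126858 L184234
theorem L184244 : sm gb N14894 = N21686 := rfl
theorem L184246 : sm ge N21686 = N21686 := ded_21_2 (flp_b L184244) L126879 L184244
theorem L184247 : sm gg N21686 = N14896 := ded_23_2 (flp_b L126891) (flp_g L126880) L184244
theorem L184249 : sm gc N21686 = N14907 := ded_19_2 (flp_b L126972) (flp_c L87620) (flp_b L87533) L126877 L184244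
theorem L184251 : sm gi N14894 = N21687 := rfl
theorem L184253 : sm gc N21687 = N14895 := ded_33_1 (flp_i L126882) L126877 L184251
theorem L184258 : sm gh N14895 = N21688 := rfl
theorem L184260 : sm gb N21688 = N14909 := ded_25_1 (flp_h L126987) (flp_b L126884) L184258
theorem L184265 : sm gd N21688 = N14976 := ded_38_1 (flp_h L127521) L88012 (flp_h L87546) (flp_d L126886) L184258
theorem L184267 : sm ga N14896 = N21689 := rfl
theorem L184269 : sm gc N21689 = N14910 := ded_11_2 (flp_a L126995) (flp_c L126895) L184267
theorem L184271 : sm ge N21689 = N21689 := ded_13_2 (flp_a L184267) L126893 L184267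
theorem L184272 : sm gj N21689 = N21689 := ded_16_2 (flp_a L184267) L126894 L184267
theorem L184273 : sm gi N14896 = N21690 := rfl
theorem L184277 : sm gc N21690 = N14911 := ded_33_1 (flp_i L127001) (flp_c L126895) L184273
theorem L184281 : sm gh N14897 = N21691 := rfl
theorem L184283 : sm gc N21691 = N14898 := ded_32_1 (flp_h L126903) (flp_c L126899) L184281
theorem L184287 : sm gd N14899 = N21692 := rfl
theorem L184289 : sm ga N21692 = N21692 := ded_12_1 (flp_d L184287) L126913 L184287
theorem L184290 : sm gf N21692 = N21692 := ded_35_2 (flp_d L184287) L126916 L184287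
theorem L184291 : sm gg N21692 = N14900 := ded_36_2 (flp_d L126919) (flp_g L126917) L184287
theorem L184293 : sm gi N14899 = N21693 := rfl
theorem L184295 : sm ga N21693 = N21693 := ded_18_1 (flp_i L184293) L126913 L184293
theorem L184296 : sm gc N21693 = N21693 := ded_33_1 (flp_i L184293) L126914 L184293
theorem L184297 : sm ge N21693 = N21693 := ded_44_1 (flp_i L184293) L126915 L184293
theorem L184298 : sm gf N21693 = N21693 := ded_48_1 (flp_i L184293) L126916 L184293
theorem L184299 : sm gg N21693 = N14901 := ded_51_1 (flp_i L126926) (flp_g L126917) L184293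
theorem L184301 : sm gh N21693 = N14981 := ded_54_1 (flp_i L127558) (flp_h L88039) (flp_i L87576) L126911 L184293
theorem L184303 : sm gc N14900 = N21694 := rfl
theorem L184305 : sm ga N21694 = N21694 := ded_11_1 (flp_c L184303) L126921 L184303
theorem L184306 : sm gf N21694 = N14905 := ded_29_2 (flp_c L126955) (flp_f L126922) L184303
theorem L184308 : sm gj N21694 = N14902 := ded_31_2 (flp_c L126937) (flp_j L126924) L184303
theorem L184310 : sm gd N21694 = N21694 := ded_27_2 (flp_c L184303) (flp_d L126919) L87582 L126919 L184303
theorem L184311 : sm ge N14900 = N21695 := rfl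
theorem L184313 : sm ga N21695 = N21695 := ded_13_1 (flp_e L184311) L126921 L184311
theorem L184314 : sm gj N21695 = N14903 := ded_42_2 (flp_e L126943) (flp_j L126924) L184311
theorem L184316 : sm gd N21695 = N21695 := ded_34_1 (flp_e L184311) (flp_d L126919) L87583 L126919 L184311
theorem L184317 : sm gf N21695 = N21695 := ded_40_2 (flp_e L184311) L126922 L87608 (flp_f L126922) L184311
theorem L184318 : sm gi N14900 = N21696 := rfl
theorem L184320 : sm ga N21696 = N21696 := ded_18_1 (flp_i L184318) L126921 L184318
theorem L184321 : sm gd N21696 = N14901 := ded_39_1 (flp_i L126926) L126919 L184318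
theorem L184323 : sm gf N21696 = N14906 := ded_48_1 (flp_i L126963) (flp_f L126922) L184318
theorem L184325 : sm gj N21696 = N14904 := ded_53_1 (flp_i L126948) (flp_j L126924) L184318
theorem L184327 : sm gb N14902 = N21697 := rfl
theorem L184329 : sm gd N21697 = N21697 := ded_20_2 (flp_b L184327) L126942 L184327
theorem L184330 : sm gf N21697 = N14907 := ded_22_2 (flp_b L126972) (flp_f L126940) L184327
theorem L184332 : sm ge N14902 = N21698 := rfl
theorem L184334 : sm ga N21698 = N21698 := ded_13_1 (flp_e L184332) L126939 L184332
theorem L184335 : sm gc N21698 = N14903 := ded_28_1 (flp_e L126943) L126937 L184332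
theorem L184337 : sm gf N21698 = N21698 := ded_40_2 (flp_e L184332) L126940 L87623 (flp_f L126940) L184332
theorem L184338 : sm gi N14902 = N21699 := rfl
theorem L184340 : sm ga N21699 = N21699 := ded_18_1 (flp_i L184338) L126939 L184338
theorem L184341 : sm gc N21699 = N14904 := ded_33_1 (flp_i L126948) L126937 L184338
theorem L184343 : sm gd N21699 = N21699 := ded_39_1 (flp_i L184338) L126942 L184338
theorem L184344 : sm gf N21699 = N14908 := ded_48_1 (flp_i L126978) (flp_f L126940) L184338
theorem L184346 : sm gi N14903 = N21700 := rfl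
theorem L184348 : sm ga N21700 = N21700 := ded_18_1 (flp_i L184346) L126945 L184346
theorem L184349 : sm gd N21700 = N21700 := ded_39_1 (flp_i L184346) L126946 L184346
theorem L184350 : sm ge N21700 = N14904 := ded_44_1 (flp_i L126948) L126943 L184346
theorem L184352 : sm gf N21700 = N21700 := ded_48_1 (flp_i L184346) L126947 L184346
theorem L184353 : sm gh N14904 = N21701 := rfl
theorem L184355 : sm ga N21701 = N21701 := ded_17_1 (flp_h L184353) L126950 L184353
theorem L184356 : sm gf N21701 = N14909 := ded_47_1 (flp_h L126987) (flp_f L126953) L184353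
theorem L184358 : sm gd N21701 = N14989 := ded_38_1 (flp_h L127619) L88078 (flp_h L87600) (flp_d L126951) L184353
theorem L184360 : sm gb N14905 = N21702 := rfl
theorem L184362 : sm gd N21702 = N21702 := ded_20_2 (flp_b L184360) L126962 L184360
theorem L184363 : sm ge N21702 = N21702 := ded_21_2 (flp_b L184360) L126958 L184360
theorem L184364 : sm gg N21702 = N21702 := ded_23_2 (flp_b L184360) L126959 L184360
theorem L184365 : sm gj N21702 = N14907 := ded_24_2 (flp_b L126972) (flp_j L126960) L184360
theorem L184367 : sm gi N14905 = N21703 := rfl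
theorem L184369 : sm ga N21703 = N21703 := ded_18_1 (flp_i L184367) L126957 L184367
theorem L184370 : sm gc N21703 = N14906 := ded_33_1 (flp_i L126963) L126955 L184367
theorem L184372 : sm gd N21703 = N21703 := ded_39_1 (flp_i L184367) L126962 L184367
theorem L184373 : sm ge N21703 = N21703 := ded_44_1 (flp_i L184367) L126958 L184367
theorem L184374 : sm gg N21703 = N21703 := ded_51_1 (flp_i L184367) L126959 L184367
theorem L184375 : sm gj N21703 = N14908 := ded_53_1 (flp_i L126978) (flp_j L126960) L184367
theorem L184377 : sm gh N14906 = N21704 := rfl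
theorem L184379 : sm ga N21704 = N21704 := ded_17_1 (flp_h L184377) L126965 L184377
theorem L184380 : sm ge N21704 = N21704 := ded_43_1 (flp_h L184377) L126968 L184377
theorem L184381 : sm gg N21704 = N21704 := ded_50_1 (flp_h L184377) L126969 L184377
theorem L184382 : sm gj N21704 = N14909 := ded_52_1 (flp_h L126987) (flp_j L126970) L184377
theorem L184384 : sm gd N21704 = N14992 := ded_38_1 (flp_h L127643) L88094 (flp_h L87618) (flp_d L126966) L184377
theorem L184386 : sm ga N14907 = N21705 := rfl
theorem L184388 : sm gd N21705 = N21705 := ded_12_2 (flp_a L184386) L126974 L184386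
theorem L184389 : sm ge N21705 = N21705 := ded_13_2 (flp_a L184386) L126975 L184386
theorem L184390 : sm gg N21705 = N14910 := ded_15_2 (flp_a L126995) (flp_g L126976) L184386
theorem L184392 : sm gb N21705 = N21705 := ded_10_2 (flp_a L184386) (flp_b L126972) L87622 L126972 L184386
theorem L184393 : sm gi N14907 = N21706 := rfl
theorem L184395 : sm gb N21706 = N14908 := ded_26_1 (flp_i L126978) L126972 L184393
theorem L184397 : sm gd N21706 = N21706 := ded_39_1 (flp_i L184393) L126974 L184393
theorem L184398 : sm ge N21706 = N21706 := ded_44_1 (flp_i L184393) L126975 L184393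
theorem L184399 : sm gg N21706 = N14911 := ded_51_1 (flp_i L127001) (flp_g L126976) L184393
theorem L184401 : sm gh N14908 = N21707 := rfl
theorem L184403 : sm ga N21707 = N21707 := ded_17_1 (flp_h L184401) L126980 L184401
theorem L184404 : sm gc N21707 = N14909 := ded_32_1 (flp_h L126987) (flp_c L126981) L184401
theorem L184406 : sm ge N21707 = N21707 := ded_43_1 (flp_h L184401) L126984 L184401
theorem L184407 : sm gg N21707 = N14912 := ded_50_1 (flp_h L127008) (flp_g L126985) L184401
theorem L184409 : sm gi N14910 = N21708 := rfl
theorem L184411 : sm ga N21708 = N14911 := ded_18_1 (flp_i L127001) L126995 L184409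
theorem L184413 : sm gb N21708 = N21708 := ded_26_1 (flp_i L184409) L127000 L184409
theorem L184414 : sm gd N21708 = N21708 := ded_39_1 (flp_i L184409) L126997 L184409
theorem L184415 : sm ge N21708 = N21708 := ded_44_1 (flp_i L184409) L126998 L184409
theorem L184416 : sm gj N21708 = N21708 := ded_53_1 (flp_i L184409) L126999 L184409
theorem L184417 : sm gh N14911 = N21709 := rfl
theorem L184419 : sm gb N21709 = N14912 := ded_25_1 (flp_h L127008) (flp_b L127003) L184417
theorem L184421 : sm ge N21709 = N21709 := ded_43_1 (flp_h L184417) L127006 L184417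
theorem L184422 : sm gj N21709 = N21709 := ded_52_1 (flp_h L184417) L127007 L184417
theorem L184423 : sm gd N14912 = N21710 := rfl
theorem L184425 : sm ga N21710 = N21710 := ded_12_1 (flp_d L184423) L127010 L184423
theorem L184426 : sm gj N21710 = N21710 := ded_37_2 (flp_d L184423) L127014 L184423
theorem L184427 : sm gc N21710 = N14998 := ded_27_1 (flp_d L127693) L88143 (flp_d L87653) (flp_c L127011) L184423
theorem L184429 : sm gh N21710 = N21710 := ded_38_2 (flp_d L184423) (flp_h L127008) L87645 L127008 L184423
theorem L184430 : sm gg N14913 = N21711 := rfl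
theorem L184433 : sm gc N21711 = N14914 := ded_30_1 (flp_g L127022) L127015 L184430
theorem L184436 : sm ge N21711 = N16442 := ded_41_1 (flp_g L140210) (flp_e L127018) L184430
theorem L184438 : sm gh N14913 = N21712 := rfl
theorem L184441 : sm gc N21712 = N14915 := ded_32_1 (flp_h L127031) L127015 L184438
theorem L184443 : sm ge N21712 = N16443 := ded_43_1 (flp_h L140217) (flp_e L127018) L184438
theorem L184446 : sm gf N14914 = N21713 := rfl
theorem L184449 : sm gb N21713 = N14923 := ded_22_1 (flp_f L127102) (flp_b L127025) L184446
theorem L184451 : sm gd N21713 = N14916 := ded_35_1 (flp_f L127039) (flp_d L127027) L184446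
theorem L184453 : sm gj N14914 = N21714 := rfl
theorem L184456 : sm gb N21714 = N14924 := ded_24_1 (flp_j L127108) (flp_b L127025) L184453
theorem L184460 : sm ge N21714 = N16445 := ded_42_1 (flp_j L140232) (flp_e L127029) L184453
theorem L184463 : sm gh N14914 = N21715 := rfl
theorem L184470 : sm gg N21715 = N14915 := ded_50_1 (flp_h L127031) L127022 L184463
theorem L184472 : sm gd N14915 = N21716 := rfl
theorem L184475 : sm gb N21716 = N14926 := ded_20_1 (flp_d L127125) (flp_b L127034) L184472
theorem L184479 : sm gh N21716 = N14919 := ded_38_2 (flp_d L127065) (flp_h L87671) L87655 L127031 L184472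
theorem L184481 : sm gi N14915 = N21717 := rfl
theorem L184486 : sm ge N21717 = N16447 := ded_44_1 (flp_i L140248) (flp_e L127036) L184481
theorem L184489 : sm gj N14916 = N21718 := rfl
theorem L184492 : sm gb N21718 = N14928 := ded_24_1 (flp_j L127140) (flp_b L127042) L184489
theorem L184496 : sm gf N21718 = N14917 := ded_46_1 (flp_j L127046) L127039 L184489
theorem L184498 : sm gh N14916 = N21719 := rfl
theorem L184501 : sm gb N21719 = N14929 := ded_25_1 (flp_h L127149) (flp_b L127042) L184498
theorem L184505 : sm gf N21719 = N14918 := ded_47_1 (flp_h L127055) L127039 L184498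
theorem L184507 : sm gh N14917 = N21720 := rfl
theorem L184510 : sm gb N21720 = N14930 := ded_25_1 (flp_h L127158) (flp_b L127049) L184507
theorem L184518 : sm gd N14918 = N21721 := rfl
theorem L184523 : sm gg N21721 = N14919 := ded_36_2 (flp_d L127065) (flp_g L127063) L184518
theorem L184536 : sm gc N14919 = N21723 := rfl
theorem L184542 : sm gi N14919 = N21724 := rfl
theorem L184547 : sm gd N21724 = N14920 := ded_39_1 (flp_i L127072) L127065 L184542
theorem L184562 : sm ge N14923 = N21726 := rfl
theorem L184564 : sm ga N21726 = N14947 := ded_13_1 (flp_e L127307) (flp_a L127104) L184562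
theorem L184566 : sm gd N21726 = N21726 := ded_34_1 (flp_e L184562) L127106 L87731 (flp_d L127106) L184562
theorem L184567 : sm gf N21726 = N16449 := ded_40_2 (flp_e L140267) (flp_f L96821) (flp_e L87716) L127102 L184562
theorem L184569 : sm gj N14923 = N21727 := rfl
theorem L184571 : sm ga N21727 = N14948 := ded_16_1 (flp_j L127313) (flp_a L127104) L184569
theorem L184573 : sm gd N21727 = N14928 := ded_37_1 (flp_j L127140) (flp_d L127106) L184569
theorem L184575 : sm gf N21727 = N14924 := ded_46_1 (flp_j L127108) L127102 L184569
theorem L184577 : sm gh N14923 = N21728 := rfl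
theorem L184579 : sm ga N21728 = N14949 := ded_17_1 (flp_h L127320) (flp_a L127104) L184577
theorem L184581 : sm gf N21728 = N14925 := ded_47_1 (flp_h L127117) L127102 L184577
theorem L184583 : sm gh N14924 = N21729 := rfl
theorem L184585 : sm ga N21729 = N14950 := ded_17_1 (flp_h L127325) (flp_a L127110) L184583
theorem L184587 : sm ge N21729 = N16452 := ded_43_1 (flp_h L140289) (flp_e L127114) L184583
theorem L184589 : sm gg N21729 = N21729 := ded_50_1 (flp_h L184583) L127116 L184583
theorem L184590 : sm gj N21729 = N14925 := ded_52_1 (flp_h L127117) L127108 L184583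
theorem L184592 : sm gd N14925 = N21730 := rfl
theorem L184594 : sm ga N21730 = N14951 := ded_12_1 (flp_d L127333) (flp_a L127119) L184592
theorem L184596 : sm gg N21730 = N14926 := ded_36_2 (flp_d L127125) (flp_g L127123) L184592
theorem L184599 : sm gh N21730 = N14931 := ded_38_2 (flp_d L127169) (flp_h L87741) (flp_d L87714) L127117 L184592
theorem L184601 : sm gi N14925 = N21731 := rfl
theorem L184603 : sm ga N21731 = N14952 := ded_18_1 (flp_i L127341) (flp_a L127119) L184601
theorem L184605 : sm ge N21731 = N16453 := ded_44_1 (flp_i L140297) (flp_e L127121) L184601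
theorem L184607 : sm gg N21731 = N14927 := ded_51_1 (flp_i L127133) (flp_g L127123) L184601
theorem L184609 : sm gc N14926 = N21732 := rfl
theorem L184611 : sm ga N21732 = N14953 := ded_11_1 (flp_c L127348) (flp_a L127127) L184609
theorem L184617 : sm gi N14926 = N21733 := rfl
theorem L184619 : sm ga N21733 = N14954 := ded_18_1 (flp_i L127354) (flp_a L127127) L184617
theorem L184621 : sm gd N21733 = N14927 := ded_39_1 (flp_i L127133) L127125 L184617
theorem L184625 : sm gg N14928 = N21734 := rfl
theorem L184627 : sm ga N21734 = N14955 := ded_15_1 (flp_g L127361) (flp_a L127142) L184625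
theorem L184629 : sm gc N21734 = N14936 := ded_30_1 (flp_g L127213) (flp_c L127144) L184625
theorem L184631 : sm ge N21734 = N21734 := ded_41_1 (flp_g L184625) L127146 L184625
theorem L184632 : sm gf N21734 = N21734 := ded_45_1 (flp_g L184625) L127147 L87740 (flp_f L127147) L184625
theorem L184633 : sm gh N14928 = N21735 := rfl
theorem L184635 : sm ga N21735 = N14956 := ded_17_1 (flp_h L127368) (flp_a L127142) L184633
theorem L184637 : sm gc N21735 = N14937 := ded_32_1 (flp_h L127220) (flp_c L127144) L184633
theorem L184640 : sm gf N21735 = N14930 := ded_47_1 (flp_h L127158) (flp_f L127147) L184633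
theorem L184642 : sm gj N21735 = N14929 := ded_52_1 (flp_h L127149) L127140 L184633
theorem L184644 : sm gd N14929 = N21736 := rfl
theorem L184646 : sm ga N21736 = N14957 := ded_12_1 (flp_d L127378) (flp_a L127151) L184644
theorem L184648 : sm gf N21736 = N14931 := ded_35_2 (flp_d L127169) (flp_f L127156) L184644
theorem L184659 : sm gd N14930 = N21738 := rfl
theorem L184661 : sm ga N21738 = N14959 := ded_12_1 (flp_d L127391) (flp_a L127160) L184659
theorem L184664 : sm gj N21738 = N14931 := ded_37_2 (flp_d L127169) (flp_j L127167) L184659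
theorem L184678 : sm gc N14931 = N21740 := rfl
theorem L184680 : sm ga N21740 = N14961 := ded_11_1 (flp_c L127408) (flp_a L127171) L184678
theorem L184683 : sm gg N21740 = N14933 := ded_30_2 (flp_c L127186) (flp_g L127173) L184678
theorem L184685 : sm gd N21740 = N14942 := ded_27_2 (flp_c L127265) (flp_d L87813) (flp_c L87745) L127169 L184678
theorem L184687 : sm gi N14931 = N21741 := rfl
theorem L184689 : sm ga N21741 = N14962 := ded_18_1 (flp_i L127415) (flp_a L127171) L184687
theorem L184691 : sm gd N21741 = N14932 := ded_39_1 (flp_i L127176) L127169 L184687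
theorem L184696 : sm gb N14933 = N21742 := rfl
theorem L184698 : sm gd N21742 = N14944 := ded_20_2 (flp_b L127284) (flp_d L127192) L184696
theorem L184718 : sm gh N14936 = N21745 := rfl
theorem L184720 : sm ga N21745 = N14966 := ded_17_1 (flp_h L127443) (flp_a L127215) L184718
theorem L184722 : sm gb N21745 = N21745 := ded_25_1 (flp_h L184718) L127217 L184718
theorem L184723 : sm ge N21745 = N21745 := ded_43_1 (flp_h L184718) L127218 L184718
theorem L184724 : sm gf N21745 = N21745 := ded_47_1 (flp_h L184718) L127219 L184718
theorem L184725 : sm gg N21745 = N14937 := ded_50_1 (flp_h L127220) L127213 L184718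
theorem L184727 : sm gd N14937 = N21746 := rfl
theorem L184729 : sm ga N21746 = N14967 := ded_12_1 (flp_d L127451) (flp_a L127222) L184727
theorem L184731 : sm gb N21746 = N21746 := ded_20_1 (flp_d L184727) L127224 L184727
theorem L184732 : sm gf N21746 = N14940 := ded_35_2 (flp_d L127245) (flp_f L127226) L184727
theorem L184734 : sm gj N21746 = N14938 := ded_37_2 (flp_d L127230) (flp_j L127228) L184727
theorem L184736 : sm gi N14937 = N21747 := rfl
theorem L184738 : sm ga N21747 = N14968 := ded_18_1 (flp_i L127459) (flp_a L127222) L184736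
theorem L184746 : sm gc N14938 = N21748 := rfl
theorem L184748 : sm ga N21748 = N14969 := ded_11_1 (flp_c L127468) (flp_a L127232) L184746
theorem L184750 : sm gf N21748 = N14942 := ded_29_2 (flp_c L127265) (flp_f L127235) L184746
theorem L184752 : sm ge N14938 = N21749 := rfl
theorem L184754 : sm ga N21749 = N14970 := ded_13_1 (flp_e L127472) (flp_a L127232) L184752
theorem L184756 : sm gb N21749 = N21749 := ded_21_1 (flp_e L184752) L127234 L184752
theorem L184757 : sm gd N21749 = N21749 := ded_34_1 (flp_e L184752) (flp_d L127230) L87800 L127230 L184752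
theorem L184758 : sm gf N21749 = N15244 := ded_40_2 (flp_e L129787) L89570 (flp_e L87820) (flp_f L127235) L184752
theorem L184760 : sm gi N14938 = N21750 := rfl
theorem L184762 : sm ga N21750 = N14971 := ded_18_1 (flp_i L127479) (flp_a L127232) L184760
theorem L184765 : sm gd N21750 = N14939 := ded_39_1 (flp_i L127237) L127230 L184760
theorem L184769 : sm gc N14940 = N21751 := rfl
theorem L184771 : sm ga N21751 = N14972 := ded_11_1 (flp_c L127487) (flp_a L127247) L184769
theorem L184773 : sm ge N21751 = N15246 := ded_28_2 (flp_c L129804) (flp_e L127253) L184769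
theorem L184775 : sm gg N21751 = N21751 := ded_30_2 (flp_c L184769) L127250 L184769
theorem L184776 : sm gj N21751 = N14942 := ded_31_2 (flp_c L127265) (flp_j L127251) L184769
theorem L184778 : sm gi N14940 = N21752 := rfl
theorem L184780 : sm ga N21752 = N14973 := ded_18_1 (flp_i L127494) (flp_a L127247) L184778
theorem L184785 : sm ge N21752 = N15247 := ded_44_1 (flp_i L129812) (flp_e L127253) L184778
theorem L184790 : sm gb N14942 = N21753 := rfl
theorem L184792 : sm ge N21753 = N15248 := ded_21_2 (flp_b L129822) (flp_e L127269) L184790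
theorem L184794 : sm gg N21753 = N14944 := ded_23_2 (flp_b L127284) (flp_g L127271) L184790
theorem L184796 : sm gc N21753 = N21753 := ded_19_2 (flp_b L184790) (flp_c L127265) L87817 L127265 L184790
theorem L184797 : sm gi N14942 = N21754 := rfl
theorem L184799 : sm ga N21754 = N14975 := ded_18_1 (flp_i L127513) (flp_a L127267) L184797
theorem L184803 : sm ge N21754 = N15249 := ded_44_1 (flp_i L129828) (flp_e L127269) L184797
theorem L184805 : sm gg N21754 = N14945 := ded_51_1 (flp_i L127290) (flp_g L127271) L184797
theorem L184807 : sm gh N14943 = N21755 := rfl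
theorem L184809 : sm ga N21755 = N14976 := ded_17_1 (flp_h L127521) (flp_a L127275) L184807
theorem L184812 : sm ge N21755 = N15250 := ded_43_1 (flp_h L129837) (flp_e L127280) L184807
theorem L184816 : sm ga N14944 = N21756 := rfl
theorem L184818 : sm gc N21756 = N21756 := ded_11_2 (flp_a L184816) L127289 L184816
theorem L184819 : sm ge N21756 = N15251 := ded_13_2 (flp_a L129845) (flp_e L127286) L184816
theorem L184821 : sm gj N21756 = N21756 := ded_16_2 (flp_a L184816) L127288 L184816
theorem L184822 : sm gb N21756 = N14977 := ded_10_2 (flp_a L127529) (flp_b L88018) (flp_a L87833) L127284 L184816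
theorem L184824 : sm gi N14944 = N21757 := rfl
theorem L184826 : sm gb N21757 = N14945 := ded_26_1 (flp_i L127290) L127284 L184824
theorem L184829 : sm ge N21757 = N15252 := ded_44_1 (flp_i L129853) (flp_e L127286) L184824
theorem L184832 : sm gh N14945 = N21758 := rfl
theorem L184834 : sm ga N21758 = N14979 := ded_17_1 (flp_h L127545) (flp_a L127292) L184832
theorem L184836 : sm gc N21758 = N14946 := ded_32_1 (flp_h L127299) (flp_c L127294) L184832
theorem L184838 : sm ge N21758 = N15253 := ded_43_1 (flp_h L129861) (flp_e L127296) L184832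
theorem L184841 : sm gj N14947 = N21759 := rfl
theorem L184843 : sm gb N21759 = N21759 := ded_24_1 (flp_j L184841) L127309 L184841
theorem L184844 : sm gd N21759 = N21759 := ded_37_1 (flp_j L184841) L127310 L184841
theorem L184845 : sm ge N21759 = N14948 := ded_42_1 (flp_j L127313) L127307 L184841
theorem L184847 : sm gf N21759 = N16455 := ded_46_1 (flp_j L140314) (flp_f L127311) L184841
theorem L184849 : sm gh N14947 = N21760 := rfl
theorem L184851 : sm gb N21760 = N21760 := ded_25_1 (flp_h L184849) L127309 L184849
theorem L184852 : sm ge N21760 = N14949 := ded_43_1 (flp_h L127320) L127307 L184849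
theorem L184854 : sm gf N21760 = N16456 := ded_47_1 (flp_h L140320) (flp_f L127311) L184849
theorem L184856 : sm gg N14948 = N21761 := rfl
theorem L184858 : sm gb N21761 = N21761 := ded_23_1 (flp_g L184856) L127315 L184856
theorem L184859 : sm gd N21761 = N14955 := ded_36_1 (flp_g L127361) (flp_d L127316) L184856
theorem L184861 : sm gf N21761 = N21761 := ded_45_1 (flp_g L184856) L127318 L87871 (flp_f L127318) L184856
theorem L184862 : sm gh N14948 = N21762 := rfl
theorem L184864 : sm gb N21762 = N21762 := ded_25_1 (flp_h L184862) L127315 L184862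
theorem L184865 : sm gf N21762 = N14950 := ded_47_1 (flp_h L127325) (flp_f L127318) L184862
theorem L184867 : sm gj N21762 = N14949 := ded_52_1 (flp_h L127320) L127313 L184862
theorem L184869 : sm gd N14949 = N21763 := rfl
theorem L184871 : sm gb N21763 = N21763 := ded_20_1 (flp_d L184869) L127322 L184869
theorem L184872 : sm gf N21763 = N14951 := ded_35_2 (flp_d L127333) (flp_f L127323) L184869
theorem L184874 : sm gh N21763 = N14957 := ded_38_2 (flp_d L127378) (flp_h L87900) (flp_d L87862) L127320 L184869
theorem L184876 : sm gi N14949 = N21764 := rfl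
theorem L184878 : sm gb N21764 = N21764 := ded_26_1 (flp_i L184876) L127322 L184876
theorem L184879 : sm gf N21764 = N14952 := ded_48_1 (flp_i L127341) (flp_f L127323) L184876
theorem L184881 : sm gd N14950 = N21765 := rfl
theorem L184883 : sm gb N21765 = N21765 := ded_20_1 (flp_d L184881) L127327 L184881
theorem L184884 : sm gg N21765 = N21765 := ded_36_2 (flp_d L184881) L127330 L184881
theorem L184885 : sm gj N21765 = N14951 := ded_37_2 (flp_d L127333) (flp_j L127331) L184881
theorem L184887 : sm ge N21765 = N21765 := ded_34_2 (flp_d L184881) L127328 L96894 (flp_e L127328) L184881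
theorem L184888 : sm gh N21765 = N14959 := ded_38_2 (flp_d L127391) (flp_h L87908) (flp_d L87867) L127325 L184881
theorem L184890 : sm gi N14950 = N21766 := rfl
theorem L184892 : sm gb N21766 = N21766 := ded_26_1 (flp_i L184890) L127327 L184890
theorem L184893 : sm ge N21766 = N16460 := ded_44_1 (flp_i L140348) (flp_e L127328) L184890
theorem L184895 : sm gg N21766 = N21766 := ded_51_1 (flp_i L184890) L127330 L184890
theorem L184896 : sm gj N21766 = N14952 := ded_53_1 (flp_i L127341) (flp_j L127331) L184890
theorem L184898 : sm gc N14951 = N21767 := rfl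
theorem L184900 : sm ge N21767 = N21767 := ded_28_2 (flp_c L184898) L127338 L184898
theorem L184901 : sm gg N21767 = N14953 := ded_30_2 (flp_c L127348) (flp_g L127336) L184898
theorem L184903 : sm gh N21767 = N14961 := ded_32_2 (flp_c L127408) (flp_h L127339) L184898
theorem L184905 : sm gi N14951 = N21768 := rfl
theorem L184907 : sm gb N21768 = N21768 := ded_26_1 (flp_i L184905) L127335 L184905
theorem L184908 : sm gd N21768 = N14952 := ded_39_1 (flp_i L127341) L127333 L184905
theorem L184910 : sm ge N21768 = N21768 := ded_44_1 (flp_i L184905) L127338 L184905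
theorem L184911 : sm gg N21768 = N14954 := ded_51_1 (flp_i L127354) (flp_g L127336) L184905
theorem L184913 : sm gb N14953 = N21769 := rfl
theorem L184915 : sm ge N21769 = N21769 := ded_21_2 (flp_b L184913) L127350 L184913
theorem L184916 : sm gj N21769 = N21769 := ded_24_2 (flp_b L184913) L127351 L184913
theorem L184917 : sm gh N21769 = N14963 := ded_25_2 (flp_b L127423) (flp_h L127352) L184913
theorem L184919 : sm gc N21769 = N21769 := ded_19_2 (flp_b L184913) (flp_c L127348) L87881 L127348 L184913
theorem L184920 : sm gi N14953 = N21770 := rfl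
theorem L184922 : sm gc N21770 = N14954 := ded_33_1 (flp_i L127354) L127348 L184920
theorem L184924 : sm ge N21770 = N21770 := ded_44_1 (flp_i L184920) L127350 L184920
theorem L184925 : sm gj N21770 = N21770 := ded_53_1 (flp_i L184920) L127351 L184920
theorem L184933 : sm gh N14955 = N21772 := rfl
theorem L184935 : sm gb N21772 = N21772 := ded_25_1 (flp_h L184933) L127363 L184933
theorem L184936 : sm gc N21772 = N14966 := ded_32_1 (flp_h L127443) (flp_c L127364) L184933
theorem L184938 : sm ge N21772 = N21772 := ded_43_1 (flp_h L184933) L127366 L184933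
theorem L184939 : sm gf N21772 = N21772 := ded_47_1 (flp_h L184933) L127367 L184933
theorem L184940 : sm gg N21772 = N14956 := ded_50_1 (flp_h L127368) L127361 L184933
theorem L184942 : sm gd N14956 = N21773 := rfl
theorem L184944 : sm gb N21773 = N21773 := ded_20_1 (flp_d L184942) L127370 L184942
theorem L184945 : sm gf N21773 = N14959 := ded_35_2 (flp_d L127391) (flp_f L127374) L184942
theorem L184947 : sm gj N21773 = N14957 := ded_37_2 (flp_d L127378) (flp_j L127376) L184942
theorem L184949 : sm gi N14956 = N21774 := rfl
theorem L184952 : sm gc N21774 = N14968 := ded_33_1 (flp_i L127459) (flp_c L127371) L184949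
theorem L184959 : sm gc N14957 = N21775 := rfl
theorem L184961 : sm gf N21775 = N14961 := ded_29_2 (flp_c L127408) (flp_f L127381) L184959
theorem L184963 : sm gd N21775 = N14969 := ded_27_2 (flp_c L127468) (flp_d L87971) (flp_c L87903) L127378 L184959
theorem L184965 : sm ge N14957 = N21776 := rfl
theorem L184967 : sm gb N21776 = N21776 := ded_21_1 (flp_e L184965) L127380 L184965
theorem L184968 : sm gd N21776 = N21776 := ded_34_1 (flp_e L184965) (flp_d L127378) L87905 L127378 L184965
theorem L184969 : sm gf N21776 = N21776 := ded_40_2 (flp_e L184965) L127381 L87923 (flp_f L127381) L184965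
theorem L184970 : sm gi N14957 = N21777 := rfl
theorem L184973 : sm gd N21777 = N14958 := ded_39_1 (flp_i L127383) L127378 L184970
theorem L184977 : sm gc N14959 = N21778 := rfl
theorem L184979 : sm ge N21778 = N21778 := ded_28_2 (flp_c L184977) L127397 L184977
theorem L184980 : sm gg N21778 = N21778 := ded_30_2 (flp_c L184977) L127394 L184977
theorem L184981 : sm gj N21778 = N14961 := ded_31_2 (flp_c L127408) (flp_j L127395) L184977
theorem L184983 : sm gd N21778 = N14972 := ded_27_2 (flp_c L127487) (flp_d L87984) (flp_c L87911) L127391 L184977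
theorem L184985 : sm gi N14959 = N21779 := rfl
theorem L184994 : sm gb N14961 = N21780 := rfl
theorem L184996 : sm gd N21780 = N14974 := ded_20_2 (flp_b L127505) (flp_d L127413) L184994
theorem L184998 : sm ge N21780 = N21780 := ded_21_2 (flp_b L184994) L127410 L184994
theorem L184999 : sm gg N21780 = N14963 := ded_23_2 (flp_b L127423) (flp_g L127411) L184994
theorem L185001 : sm gc N21780 = N21780 := ded_19_2 (flp_b L184994) (flp_c L127408) L87920 L127408 L184994
theorem L185002 : sm gi N14961 = N21781 := rfl
theorem L185006 : sm gd N21781 = N14975 := ded_39_1 (flp_i L127513) (flp_d L127413) L185002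
theorem L185009 : sm gg N21781 = N14964 := ded_51_1 (flp_i L127430) (flp_g L127411) L185002
theorem L185017 : sm ga N14963 = N21783 := rfl
theorem L185019 : sm gc N21783 = N21783 := ded_11_2 (flp_a L185017) L127429 L185017
theorem L185020 : sm gd N21783 = N14977 := ded_12_2 (flp_a L127529) (flp_d L127425) L185017
theorem L185022 : sm ge N21783 = N21783 := ded_13_2 (flp_a L185017) L127427 L185017
theorem L185023 : sm gj N21783 = N21783 := ded_16_2 (flp_a L185017) L127428 L185017
theorem L185024 : sm gi N14963 = N21784 := rfl
theorem L185026 : sm gb N21784 = N14964 := ded_26_1 (flp_i L127430) L127423 L185024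
theorem L185029 : sm gd N21784 = N14978 := ded_39_1 (flp_i L127536) (flp_d L127425) L185024
theorem L185033 : sm gh N14964 = N21785 := rfl
theorem L185035 : sm gc N21785 = N14965 := ded_32_1 (flp_h L127438) (flp_c L127432) L185033
theorem L185039 : sm gd N14966 = N21786 := rfl
theorem L185041 : sm gb N21786 = N14980 := ded_20_1 (flp_d L127552) (flp_b L127445) L185039
theorem L185043 : sm gf N21786 = N21786 := ded_35_2 (flp_d L185039) L127448 L185039
theorem L185044 : sm gg N21786 = N14967 := ded_36_2 (flp_d L127451) (flp_g L127449) L185039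
theorem L185046 : sm gi N14966 = N21787 := rfl
theorem L185048 : sm gb N21787 = N14981 := ded_26_1 (flp_i L127558) (flp_b L127445) L185046
theorem L185050 : sm ge N21787 = N21787 := ded_44_1 (flp_i L185046) L127447 L185046
theorem L185051 : sm gf N21787 = N21787 := ded_48_1 (flp_i L185046) L127448 L185046
theorem L185052 : sm gg N21787 = N14968 := ded_51_1 (flp_i L127459) (flp_g L127449) L185046
theorem L185054 : sm gc N14967 = N21788 := rfl
theorem L185056 : sm gf N21788 = N14972 := ded_29_2 (flp_c L127487) (flp_f L127455) L185054
theorem L185058 : sm gj N21788 = N14969 := ded_31_2 (flp_c L127468) (flp_j L127457) L185054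
theorem L185060 : sm ge N14967 = N21789 := rfl
theorem L185062 : sm gb N21789 = N14983 := ded_21_1 (flp_e L127574) (flp_b L127453) L185060
theorem L185064 : sm gj N21789 = N14970 := ded_42_2 (flp_e L127472) (flp_j L127457) L185060
theorem L185066 : sm gd N21789 = N21789 := ded_34_1 (flp_e L185060) (flp_d L127451) L87966 L127451 L185060
theorem L185069 : sm gi N14967 = N21790 := rfl
theorem L185071 : sm gb N21790 = N14984 := ded_26_1 (flp_i L127582) (flp_b L127453) L185069
theorem L185073 : sm gd N21790 = N14968 := ded_39_1 (flp_i L127459) L127451 L185069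
theorem L185075 : sm gf N21790 = N14973 := ded_48_1 (flp_i L127494) (flp_f L127455) L185069
theorem L185077 : sm gj N21790 = N14971 := ded_53_1 (flp_i L127479) (flp_j L127457) L185069
theorem L185079 : sm gb N14969 = N21791 := rfl
theorem L185081 : sm gf N21791 = N14974 := ded_22_2 (flp_b L127505) (flp_f L127470) L185079
theorem L185083 : sm gc N21791 = N14985 := ded_19_2 (flp_b L127591) (flp_c L88063) (flp_b L87973) L127468 L185079
theorem L185085 : sm ge N14969 = N21792 := rfl
theorem L185087 : sm gc N21792 = N14970 := ded_28_1 (flp_e L127472) L127468 L185085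
theorem L185089 : sm gf N21792 = N15260 := ded_40_2 (flp_e L129920) L89674 (flp_e L88004) (flp_f L127470) L185085
theorem L185091 : sm gi N14969 = N21793 := rfl
theorem L185093 : sm gc N21793 = N14971 := ded_33_1 (flp_i L127479) L127468 L185091
theorem L185095 : sm gf N21793 = N14975 := ded_48_1 (flp_i L127513) (flp_f L127470) L185091
theorem L185097 : sm gi N14970 = N21794 := rfl
theorem L185099 : sm gb N21794 = N14988 := ded_26_1 (flp_i L127611) (flp_b L127474) L185097
theorem L185101 : sm gd N21794 = N21794 := ded_39_1 (flp_i L185097) L127476 L185097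
theorem L185102 : sm ge N21794 = N14971 := ded_44_1 (flp_i L127479) L127472 L185097
theorem L185106 : sm gh N14971 = N21795 := rfl
theorem L185108 : sm gb N21795 = N14989 := ded_25_1 (flp_h L127619) (flp_b L127481) L185106
theorem L185110 : sm gf N21795 = N14976 := ded_47_1 (flp_h L127521) (flp_f L127485) L185106
theorem L185112 : sm gb N14972 = N21796 := rfl
theorem L185114 : sm ge N21796 = N15264 := ded_21_2 (flp_b L129949) (flp_e L127489) L185112
theorem L185116 : sm gg N21796 = N21796 := ded_23_2 (flp_b L185112) L127491 L185112
theorem L185117 : sm gj N21796 = N14974 := ded_24_2 (flp_b L127505) (flp_j L127492) L185112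
theorem L185119 : sm gc N21796 = N14990 := ded_19_2 (flp_b L127624) (flp_c L88082) (flp_b L87986) L127487 L185112
theorem L185121 : sm gi N14972 = N21797 := rfl
theorem L185123 : sm gc N21797 = N14973 := ded_33_1 (flp_i L127494) L127487 L185121
theorem L185125 : sm ge N21797 = N15265 := ded_44_1 (flp_i L129957) (flp_e L127489) L185121
theorem L185127 : sm gg N21797 = N21797 := ded_51_1 (flp_i L185121) L127491 L185121
theorem L185128 : sm gj N21797 = N14975 := ded_53_1 (flp_i L127513) (flp_j L127492) L185121
theorem L185130 : sm gh N14973 = N21798 := rfl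
theorem L185132 : sm gb N21798 = N14992 := ded_25_1 (flp_h L127643) (flp_b L127496) L185130
theorem L185134 : sm ge N21798 = N15266 := ded_43_1 (flp_h L129965) (flp_e L127500) L185130
theorem L185136 : sm gg N21798 = N21798 := ded_50_1 (flp_h L185130) L127502 L185130
theorem L185137 : sm gj N21798 = N14976 := ded_52_1 (flp_h L127521) (flp_j L127503) L185130
theorem L185139 : sm ga N14974 = N21799 := rfl
theorem L185141 : sm gc N21799 = N14993 := ded_11_2 (flp_a L127651) (flp_c L127511) L185139
theorem L185143 : sm ge N21799 = N15267 := ded_13_2 (flp_a L129973) (flp_e L127507) L185139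
theorem L185145 : sm gg N21799 = N14977 := ded_15_2 (flp_a L127529) (flp_g L127509) L185139
theorem L185147 : sm gi N14974 = N21800 := rfl
theorem L185149 : sm gb N21800 = N14975 := ded_26_1 (flp_i L127513) L127505 L185147
theorem L185151 : sm gc N21800 = N14994 := ded_33_1 (flp_i L127659) (flp_c L127511) L185147
theorem L185153 : sm ge N21800 = N15268 := ded_44_1 (flp_i L129980) (flp_e L127507) L185147
theorem L185155 : sm gg N21800 = N14978 := ded_51_1 (flp_i L127536) (flp_g L127509) L185147
theorem L185157 : sm gh N14975 = N21801 := rfl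
theorem L185159 : sm gc N21801 = N14976 := ded_32_1 (flp_h L127521) (flp_c L127515) L185157
theorem L185161 : sm ge N21801 = N15269 := ded_43_1 (flp_h L129989) (flp_e L127517) L185157
theorem L185163 : sm gg N21801 = N14979 := ded_50_1 (flp_h L127545) (flp_g L127519) L185157
theorem L185165 : sm gi N14977 = N21802 := rfl
theorem L185167 : sm ga N21802 = N14978 := ded_18_1 (flp_i L127536) L127529 L185165
theorem L185169 : sm gc N21802 = N14996 := ded_33_1 (flp_i L127677) (flp_c L127531) L185165
theorem L185171 : sm ge N21802 = N15270 := ded_44_1 (flp_i L129995) (flp_e L127533) L185165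
theorem L185173 : sm gj N21802 = N21802 := ded_53_1 (flp_i L185165) L127535 L185165
theorem L185174 : sm gh N14978 = N21803 := rfl
theorem L185176 : sm gb N21803 = N14979 := ded_25_1 (flp_h L127545) (flp_b L127538) L185174
theorem L185178 : sm gc N21803 = N14997 := ded_32_1 (flp_h L127686) (flp_c L127540) L185174
theorem L185180 : sm ge N21803 = N15271 := ded_43_1 (flp_h L130004) (flp_e L127542) L185174
theorem L185182 : sm gj N21803 = N21803 := ded_52_1 (flp_h L185174) L127544 L185174
theorem L185183 : sm gd N14979 = N21804 := rfl
theorem L185185 : sm gj N21804 = N21804 := ded_37_2 (flp_d L185183) L127551 L185183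
theorem L185186 : sm gc N14980 = N21805 := rfl
theorem L185193 : sm ge N14980 = N21806 := rfl
theorem L185196 : sm gg N21806 = N14983 := ded_41_2 (flp_e L127574) (flp_g L127556) L185193
theorem L185199 : sm gi N14980 = N21807 := rfl
theorem L185202 : sm gd N21807 = N14981 := ded_39_1 (flp_i L127558) L127552 L185199
theorem L185205 : sm gg N21807 = N14984 := ded_51_1 (flp_i L127582) (flp_g L127556) L185199
theorem L185207 : sm gb N14982 = N21808 := rfl
theorem L185210 : sm gf N21808 = N14990 := ded_22_2 (flp_b L127624) (flp_f L127569) L185207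
theorem L185212 : sm gj N21808 = N14985 := ded_24_2 (flp_b L127591) (flp_j L127571) L185207
theorem L185214 : sm ge N14982 = N21809 := rfl
theorem L185217 : sm gc N21809 = N14983 := ded_28_1 (flp_e L127574) L127566 L185214
theorem L185233 : sm gi N14983 = N21811 := rfl
theorem L185237 : sm ge N21811 = N14984 := ded_44_1 (flp_i L127582) L127574 L185233
theorem L185241 : sm gj N21811 = N14988 := ded_53_1 (flp_i L127611) (flp_j L127577) L185233
theorem L185243 : sm gh N14984 = N21812 := rfl
theorem L185246 : sm gf N21812 = N14992 := ded_47_1 (flp_h L127643) (flp_f L127587) L185243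
theorem L185250 : sm ga N14985 = N21813 := rfl
theorem L185252 : sm gd N21813 = N21813 := ded_12_2 (flp_a L185250) L127593 L185250
theorem L185253 : sm gf N21813 = N14993 := ded_14_2 (flp_a L127651) (flp_f L127594) L185250
theorem L185255 : sm gb N21813 = N21813 := ded_10_2 (flp_a L185250) (flp_b L127591) L88065 L127591 L185250
theorem L185256 : sm ge N14985 = N21814 := rfl
theorem L185262 : sm gi N14985 = N21815 := rfl
theorem L185264 : sm gb N21815 = N14987 := ded_26_1 (flp_i L127603) L127591 L185262
theorem L185267 : sm gf N21815 = N14994 := ded_48_1 (flp_i L127659) (flp_f L127594) L185262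
theorem L185269 : sm gd N14986 = N21816 := rfl
theorem L185272 : sm gf N21816 = N15284 := ded_35_2 (flp_d L130107) (flp_f L127601) L185269
theorem L185285 : sm gh N14987 = N21818 := rfl
theorem L185288 : sm gc N21818 = N14989 := ded_32_1 (flp_h L127619) (flp_c L127606) L185285
theorem L185290 : sm gf N21818 = N14995 := ded_47_1 (flp_h L127668) (flp_f L127609) L185285
theorem L185292 : sm gh N14988 = N21819 := rfl
theorem L185295 : sm ge N21819 = N14989 := ded_43_1 (flp_h L127619) (flp_e L127615) L185292
theorem L185299 : sm ga N14990 = N21820 := rfl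
theorem L185301 : sm gd N21820 = N21820 := ded_12_2 (flp_a L185299) L127626 L185299
theorem L185302 : sm ge N21820 = N15288 := ded_13_2 (flp_a L130136) (flp_e L127627) L185299
theorem L185304 : sm gg N21820 = N21820 := ded_15_2 (flp_a L185299) L127629 L185299
theorem L185305 : sm gj N21820 = N14993 := ded_16_2 (flp_a L127651) (flp_j L127630) L185299
theorem L185307 : sm gb N21820 = N21820 := ded_10_2 (flp_a L185299) (flp_b L127624) L88084 L127624 L185299
theorem L185308 : sm gi N14990 = N21821 := rfl
theorem L185316 : sm gj N21821 = N14994 := ded_53_1 (flp_i L127659) (flp_j L127630) L185308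
theorem L185318 : sm gh N14991 = N21822 := rfl
theorem L185321 : sm gc N21822 = N14992 := ded_32_1 (flp_h L127643) (flp_c L127635) L185318
theorem L185323 : sm ge N21822 = N15290 := ded_43_1 (flp_h L130153) (flp_e L127638) L185318
theorem L185326 : sm gj N21822 = N14995 := ded_52_1 (flp_h L127668) (flp_j L127641) L185318
theorem L185328 : sm gi N14993 = N21823 := rfl
theorem L185330 : sm ga N21823 = N14994 := ded_18_1 (flp_i L127659) L127651 L185328
theorem L185332 : sm gb N21823 = N21823 := ded_26_1 (flp_i L185328) L127658 L185328
theorem L185333 : sm gd N21823 = N21823 := ded_39_1 (flp_i L185328) L127653 L185328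
theorem L185334 : sm ge N21823 = N15291 := ded_44_1 (flp_i L130161) (flp_e L127654) L185328
theorem L185336 : sm gg N21823 = N14996 := ded_51_1 (flp_i L127677) (flp_g L127656) L185328
theorem L185338 : sm gh N14994 = N21824 := rfl
theorem L185340 : sm gb N21824 = N14995 := ded_25_1 (flp_h L127668) (flp_b L127661) L185338
theorem L185342 : sm ge N21824 = N15292 := ded_43_1 (flp_h L130170) (flp_e L127664) L185338
theorem L185344 : sm gg N21824 = N14997 := ded_50_1 (flp_h L127686) (flp_g L127666) L185338
theorem L185346 : sm gd N14995 = N21825 := rfl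
theorem L185348 : sm ga N21825 = N21825 := ded_12_1 (flp_d L185346) L127670 L185346
theorem L185349 : sm gg N21825 = N14998 := ded_36_2 (flp_d L127693) (flp_g L127675) L185346
theorem L185351 : sm gh N21825 = N21825 := ded_38_2 (flp_d L185346) (flp_h L127668) L88113 L127668 L185346
theorem L185352 : sm gh N14996 = N21826 := rfl
theorem L185354 : sm ga N21826 = N14997 := ded_17_1 (flp_h L127686) (flp_a L127679) L185352
theorem L185356 : sm gb N21826 = N21826 := ded_25_1 (flp_h L185352) L127681 L185352
theorem L185357 : sm ge N21826 = N15294 := ded_43_1 (flp_h L130184) (flp_e L127683) L185352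
theorem L185359 : sm gj N21826 = N21826 := ded_52_1 (flp_h L185352) L127685 L185352
theorem L185360 : sm gd N14997 = N21827 := rfl
theorem L185362 : sm gb N21827 = N14998 := ded_20_1 (flp_d L127693) (flp_b L127688) L185360
theorem L185364 : sm gj N21827 = N21827 := ded_37_2 (flp_d L185360) L127692 L185360
theorem L185365 : sm gh N21827 = N21827 := ded_38_2 (flp_d L185360) (flp_h L127686) L88136 L127686 L185360
theorem L185366 : sm ge N14998 = N21828 := rfl
theorem L185368 : sm ga N21828 = N21828 := ded_13_1 (flp_e L185366) L127695 L185366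
theorem L185369 : sm gj N21828 = N21828 := ded_42_2 (flp_e L185366) L127696 L185366
theorem L185370 : sm gh N21828 = N21828 := ded_43_2 (flp_e L185366) L127697 L185366
theorem L185371 : sm gd N21828 = N15296 := ded_34_1 (flp_e L130199) (flp_d L89891) (flp_e L88145) L127693 L185366
theorem L185373 : sm gd N14999 = N21829 := rfl
theorem L185376 : sm gb N21829 = N15004 := ded_20_1 (flp_d L127749) (flp_b L127701) L185373
theorem L185384 : sm gg N14999 = N21830 := rfl
theorem L185393 : sm gh N14999 = N21831 := rfl
theorem L185396 : sm gb N21831 = N15006 := ded_25_1 (flp_h L127769) (flp_b L127701) L185393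
theorem L185402 : sm gj N21831 = N15056 := ded_52_1 (flp_h L128218) (flp_j L127704) L185393
theorem L185416 : sm gh N15000 = N21833 := rfl
theorem L185419 : sm gb N21833 = N15008 := ded_25_1 (flp_h L127792) (flp_b L127711) L185416
theorem L185423 : sm gg N21833 = N15001 := ded_50_1 (flp_h L127718) L127708 L185416
theorem L185425 : sm gd N15001 = N21834 := rfl
theorem L185428 : sm gb N21834 = N15009 := ded_20_1 (flp_d L127801) (flp_b L127721) L185425
theorem L185432 : sm gj N21834 = N15059 := ded_37_2 (flp_d L128248) (flp_j L127726) L185425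
theorem L185436 : sm gi N15001 = N21835 := rfl
theorem L185439 : sm gb N21835 = N15010 := ded_26_1 (flp_i L127811) (flp_b L127721) L185436
theorem L185447 : sm gc N15002 = N21836 := rfl
theorem L185451 : sm gj N21836 = N15061 := ded_31_2 (flp_c L128266) (flp_j L127734) L185447
theorem L185453 : sm gh N21836 = N16468 := ded_32_2 (flp_c L140430) (flp_h L127736) L185447
theorem L185456 : sm ge N15002 = N21837 := rfl
theorem L185462 : sm gj N21837 = N15062 := ded_42_2 (flp_e L128274) (flp_j L127734) L185456
theorem L185464 : sm gh N21837 = N16469 := ded_43_2 (flp_e L140438) (flp_h L127736) L185456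
theorem L185517 : sm gh N15005 = N21843 := rfl
theorem L185519 : sm ga N21843 = N15024 := ded_17_1 (flp_h L127945) (flp_a L127762) L185517
theorem L185521 : sm gc N21843 = N15015 := ded_32_1 (flp_h L127861) (flp_c L127764) L185517
theorem L185523 : sm ge N21843 = N15008 := ded_43_1 (flp_h L127792) (flp_e L127766) L185517
theorem L185525 : sm gg N21843 = N15006 := ded_50_1 (flp_h L127769) L127760 L185517
theorem L185527 : sm gd N15006 = N21844 := rfl
theorem L185529 : sm ga N21844 = N15025 := ded_12_1 (flp_d L127954) (flp_a L127771) L185527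
theorem L185532 : sm gj N21844 = N15069 := ded_37_2 (flp_d L128340) (flp_j L127778) L185527
theorem L185534 : sm gi N15006 = N21845 := rfl
theorem L185536 : sm ga N21845 = N15026 := ded_18_1 (flp_i L127960) (flp_a L127771) L185534
theorem L185538 : sm gc N21845 = N15017 := ded_33_1 (flp_i L127879) (flp_c L127773) L185534
theorem L185540 : sm ge N21845 = N15010 := ded_44_1 (flp_i L127811) (flp_e L127775) L185534
theorem L185542 : sm gf N21845 = N21845 := ded_48_1 (flp_i L185534) L127777 L185534
theorem L185543 : sm gj N21845 = N15070 := ded_53_1 (flp_i L128345) (flp_j L127778) L185534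
theorem L185545 : sm gh N21845 = N21845 := ded_54_1 (flp_i L185534) (flp_h L127769) L88177 L127769 L185534
theorem L185546 : sm gh N15007 = N21846 := rfl
theorem L185548 : sm ga N21846 = N15027 := ded_17_1 (flp_h L127971) (flp_a L127782) L185546
theorem L185550 : sm gc N21846 = N15018 := ded_32_1 (flp_h L127890) (flp_c L127784) L185546
theorem L185553 : sm gg N21846 = N15071 := ded_50_1 (flp_h L128355) (flp_g L127790) L185546
theorem L185555 : sm gj N21846 = N15008 := ded_52_1 (flp_h L127792) L127780 L185546
theorem L185557 : sm gd N15008 = N21847 := rfl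
theorem L185559 : sm ga N21847 = N15028 := ded_12_1 (flp_d L127981) (flp_a L127794) L185557
theorem L185566 : sm gi N15008 = N21848 := rfl
theorem L185568 : sm ga N21848 = N15029 := ded_18_1 (flp_i L127989) (flp_a L127794) L185566
theorem L185570 : sm gc N21848 = N15019 := ded_33_1 (flp_i L127900) (flp_c L127796) L185566
theorem L185572 : sm gf N21848 = N21848 := ded_48_1 (flp_i L185566) L127798 L185566
theorem L185573 : sm gg N21848 = N15010 := ded_51_1 (flp_i L127811) (flp_g L127799) L185566
theorem L185575 : sm gh N21848 = N21848 := ded_54_1 (flp_i L185566) (flp_h L127792) L88187 L127792 L185566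
theorem L185576 : sm ge N15009 = N21849 := rfl
theorem L185578 : sm ga N21849 = N15030 := ded_13_1 (flp_e L127998) (flp_a L127803) L185576
theorem L185580 : sm gj N21849 = N15074 := ded_42_2 (flp_e L128386) (flp_j L127807) L185576
theorem L185582 : sm gh N21849 = N16481 := ded_43_2 (flp_e L140555) (flp_h L127809) L185576
theorem L185584 : sm gi N15009 = N21850 := rfl
theorem L185586 : sm ga N21850 = N15031 := ded_18_1 (flp_i L128005) (flp_a L127803) L185584
theorem L185588 : sm gd N21850 = N15010 := ded_39_1 (flp_i L127811) L127801 L185584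
theorem L185594 : sm gf N15011 = N21851 := rfl
theorem L185596 : sm ga N21851 = N15032 := ded_14_1 (flp_f L128014) (flp_a L127824) L185594
theorem L185599 : sm gj N21851 = N15076 := ded_46_2 (flp_f L128400) (flp_j L127827) L185594
theorem L185603 : sm gi N15011 = N21852 := rfl
theorem L185605 : sm ga N21852 = N15033 := ded_18_1 (flp_i L128022) (flp_a L127824) L185603
theorem L185633 : sm gh N15013 = N21855 := rfl
theorem L185635 : sm ga N21855 = N15036 := ded_17_1 (flp_h L128049) (flp_a L127843) L185633
theorem L185637 : sm gb N21855 = N21855 := ded_25_1 (flp_h L185633) L127845 L185633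
theorem L185639 : sm gf N21855 = N15015 := ded_47_1 (flp_h L127861) L127841 L185633
theorem L185642 : sm gh N15014 = N21856 := rfl
theorem L185644 : sm ga N21856 = N15037 := ded_17_1 (flp_h L128057) (flp_a L127852) L185642
theorem L185647 : sm ge N21856 = N15018 := ded_43_1 (flp_h L127890) (flp_e L127856) L185642
theorem L185649 : sm gg N21856 = N15081 := ded_50_1 (flp_h L128446) (flp_g L127859) L185642
theorem L185651 : sm gj N21856 = N15015 := ded_52_1 (flp_h L127861) L127850 L185642
theorem L185653 : sm gd N15015 = N21857 := rfl
theorem L185655 : sm ga N21857 = N15038 := ded_12_1 (flp_d L128067) (flp_a L127863) L185653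
theorem L185657 : sm gb N21857 = N21857 := ded_20_1 (flp_d L185653) L127865 L185653
theorem L185658 : sm gg N21857 = N15016 := ded_36_2 (flp_d L127870) (flp_g L127868) L185653
theorem L185660 : sm gh N21857 = N21857 := ded_38_2 (flp_d L185653) (flp_h L127861) L88224 L127861 L185653
theorem L185661 : sm gi N15015 = N21858 := rfl
theorem L185663 : sm ga N21858 = N15039 := ded_18_1 (flp_i L128074) (flp_a L127863) L185661
theorem L185665 : sm gb N21858 = N21858 := ded_26_1 (flp_i L185661) L127865 L185661
theorem L185666 : sm ge N21858 = N15019 := ded_44_1 (flp_i L127900) (flp_e L127866) L185661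
theorem L185668 : sm gg N21858 = N15017 := ded_51_1 (flp_i L127879) (flp_g L127868) L185661
theorem L185670 : sm gh N21858 = N21858 := ded_54_1 (flp_i L185661) (flp_h L127861) L88227 L127861 L185661
theorem L185671 : sm gc N15016 = N21859 := rfl
theorem L185673 : sm ga N21859 = N15040 := ded_11_1 (flp_c L128083) (flp_a L127872) L185671
theorem L185675 : sm gf N21859 = N21859 := ded_29_2 (flp_c L185671) L127875 L185671
theorem L185676 : sm gj N21859 = N15084 := ded_31_2 (flp_c L128473) (flp_j L127876) L185671
theorem L185678 : sm gh N21859 = N21859 := ded_32_2 (flp_c L185671) L127878 L185671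
theorem L185679 : sm gi N15016 = N21860 := rfl
theorem L185681 : sm ga N21860 = N15041 := ded_18_1 (flp_i L128089) (flp_a L127872) L185679
theorem L185683 : sm gb N21860 = N21860 := ded_26_1 (flp_i L185679) L127874 L185679
theorem L185684 : sm gd N21860 = N15017 := ded_39_1 (flp_i L127879) L127870 L185679
theorem L185686 : sm gf N21860 = N21860 := ded_48_1 (flp_i L185679) L127875 L185679
theorem L185687 : sm gj N21860 = N15085 := ded_53_1 (flp_i L128479) (flp_j L127876) L185679
theorem L185689 : sm gi N15018 = N21861 := rfl
theorem L185691 : sm ga N21861 = N15042 := ded_18_1 (flp_i L128098) (flp_a L127892) L185689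
theorem L185693 : sm gb N21861 = N21861 := ded_26_1 (flp_i L185689) L127894 L185689
theorem L185694 : sm gf N21861 = N21861 := ded_48_1 (flp_i L185689) L127895 L185689
theorem L185695 : sm gg N21861 = N15086 := ded_51_1 (flp_i L128487) (flp_g L127896) L185689
theorem L185697 : sm gj N21861 = N15019 := ded_53_1 (flp_i L127900) (flp_j L127898) L185689
theorem L185699 : sm gh N21861 = N21861 := ded_54_1 (flp_i L185689) (flp_h L127890) L88246 L127890 L185689
theorem L185708 : sm gj N15020 = N21863 := rfl
theorem L185717 : sm gg N21863 = N15088 := ded_49_1 (flp_j L128506) (flp_g L88670) (flp_j L88271) L127909 L185708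
theorem L185719 : sm gh N15020 = N21864 := rfl
theorem L185723 : sm ge N21864 = N16496 := ded_43_1 (flp_h L140704) (flp_e L127915) L185719
theorem L185725 : sm gg N21864 = N15021 := ded_50_1 (flp_h L127918) L127909 L185719
theorem L185727 : sm gd N15021 = N21865 := rfl
theorem L185731 : sm gj N21865 = N15090 := ded_37_2 (flp_d L128523) (flp_j L127925) L185727
theorem L185733 : sm gh N21865 = N15025 := ded_38_2 (flp_d L127954) (flp_h L88285) L88267 L127918 L185727
theorem L185754 : sm gh N15022 = N21868 := rfl
theorem L185757 : sm gc N21868 = N15036 := ded_32_1 (flp_h L128049) (flp_c L127930) L185754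
theorem L185760 : sm gf N21868 = N15024 := ded_47_1 (flp_h L127945) L127927 L185754
theorem L185763 : sm gh N15023 = N21869 := rfl
theorem L185766 : sm gc N21869 = N15037 := ded_32_1 (flp_h L128057) (flp_c L127938) L185763
theorem L185768 : sm ge N21869 = N15027 := ded_43_1 (flp_h L127971) (flp_e L127940) L185763
theorem L185770 : sm gg N21869 = N15094 := ded_50_1 (flp_h L128557) (flp_g L127943) L185763
theorem L185772 : sm gj N21869 = N15024 := ded_52_1 (flp_h L127945) L127935 L185763
theorem L185774 : sm gd N15024 = N21870 := rfl
theorem L185777 : sm gg N21870 = N15025 := ded_36_2 (flp_d L127954) (flp_g L127952) L185774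
theorem L185779 : sm gi N15024 = N21871 := rfl
theorem L185781 : sm gb N21871 = N21871 := ded_26_1 (flp_i L185779) L127947 L185779
theorem L185782 : sm gc N21871 = N15039 := ded_33_1 (flp_i L128074) (flp_c L127948) L185779
theorem L185784 : sm ge N21871 = N15029 := ded_44_1 (flp_i L127989) (flp_e L127950) L185779
theorem L185786 : sm gg N21871 = N15026 := ded_51_1 (flp_i L127960) (flp_g L127952) L185779
theorem L185788 : sm gh N21871 = N21871 := ded_54_1 (flp_i L185779) (flp_h L127945) L88284 L127945 L185779
theorem L185789 : sm gc N15025 = N21872 := rfl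
theorem L185791 : sm gf N21872 = N21872 := ded_29_2 (flp_c L185789) L127957 L185789
theorem L185792 : sm gj N21872 = N15097 := ded_31_2 (flp_c L128581) (flp_j L127958) L185789
theorem L185794 : sm gd N21872 = N15040 := ded_27_2 (flp_c L128083) (flp_d L88376) (flp_c L88288) L127954 L185789
theorem L185796 : sm ge N15025 = N21873 := rfl
theorem L185798 : sm gb N21873 = N21873 := ded_21_1 (flp_e L185796) L127956 L185796
theorem L185799 : sm gj N21873 = N15098 := ded_42_2 (flp_e L128586) (flp_j L127958) L185796
theorem L185801 : sm gd N21873 = N15030 := ded_34_1 (flp_e L127998) (flp_d L88314) (flp_e L88290) L127954 L185796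
theorem L185803 : sm gi N15025 = N21874 := rfl
theorem L185805 : sm gb N21874 = N21874 := ded_26_1 (flp_i L185803) L127956 L185803
theorem L185806 : sm gd N21874 = N15026 := ded_39_1 (flp_i L127960) L127954 L185803
theorem L185808 : sm gf N21874 = N21874 := ded_48_1 (flp_i L185803) L127957 L185803
theorem L185809 : sm gj N21874 = N15099 := ded_53_1 (flp_i L128591) (flp_j L127958) L185803
theorem L185811 : sm gd N15027 = N21875 := rfl
theorem L185813 : sm gb N21875 = N21875 := ded_20_1 (flp_d L185811) L127973 L185811
theorem L185814 : sm gf N21875 = N21875 := ded_35_2 (flp_d L185811) L127976 L185811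
theorem L185815 : sm gg N21875 = N15100 := ded_36_2 (flp_d L128597) (flp_g L127977) L185811
theorem L185817 : sm gj N21875 = N15028 := ded_37_2 (flp_d L127981) (flp_j L127979) L185811
theorem L185819 : sm gh N21875 = N16507 := ded_38_2 (flp_d L140798) (flp_h L97190) (flp_d L88300) L127971 L185811
theorem L185821 : sm gi N15027 = N21876 := rfl
theorem L185823 : sm gb N21876 = N21876 := ded_26_1 (flp_i L185821) L127973 L185821
theorem L185824 : sm gc N21876 = N15042 := ded_33_1 (flp_i L128098) (flp_c L127974) L185821
theorem L185826 : sm gf N21876 = N21876 := ded_48_1 (flp_i L185821) L127976 L185821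
theorem L185827 : sm gg N21876 = N15101 := ded_51_1 (flp_i L128606) (flp_g L127977) L185821
theorem L185829 : sm gj N21876 = N15029 := ded_53_1 (flp_i L127989) (flp_j L127979) L185821
theorem L185831 : sm gh N21876 = N21876 := ded_54_1 (flp_i L185821) (flp_h L127971) L88303 L127971 L185821
theorem L185832 : sm ge N15028 = N21877 := rfl
theorem L185834 : sm gb N21877 = N21877 := ded_21_1 (flp_e L185832) L127983 L185832
theorem L185835 : sm gg N21877 = N15030 := ded_41_2 (flp_e L127998) (flp_g L127985) L185832
theorem L185837 : sm gh N21877 = N16509 := ded_43_2 (flp_e L140817) (flp_h L127987) L185832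
theorem L185839 : sm gi N15028 = N21878 := rfl
theorem L185841 : sm gb N21878 = N21878 := ded_26_1 (flp_i L185839) L127983 L185839
theorem L185842 : sm gd N21878 = N15029 := ded_39_1 (flp_i L127989) L127981 L185839
theorem L185844 : sm gf N21878 = N21878 := ded_48_1 (flp_i L185839) L127984 L185839
theorem L185845 : sm gg N21878 = N15031 := ded_51_1 (flp_i L128005) (flp_g L127985) L185839
theorem L185847 : sm gf N15030 = N21879 := rfl
theorem L185849 : sm gb N21879 = N21879 := ded_22_1 (flp_f L185847) L128000 L185847
theorem L185850 : sm gj N21879 = N15104 := ded_46_2 (flp_f L128632) (flp_j L128001) L185847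
theorem L185852 : sm gh N21879 = N16511 := ded_47_2 (flp_f L140830) (flp_h L128003) L185847
theorem L185854 : sm ge N21879 = N15032 := ded_40_1 (flp_f L128014) (flp_e L88333) (flp_f L88317) L127998 L185847
theorem L185856 : sm gi N15030 = N21880 := rfl
theorem L185858 : sm gb N21880 = N21880 := ded_26_1 (flp_i L185856) L128000 L185856
theorem L185859 : sm ge N21880 = N15031 := ded_44_1 (flp_i L128005) L127998 L185856
theorem L185861 : sm gj N21880 = N15105 := ded_53_1 (flp_i L128639) (flp_j L128001) L185856
theorem L185863 : sm gh N15031 = N21881 := rfl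
theorem L185873 : sm gg N15032 = N21882 := rfl
theorem L185875 : sm gb N21882 = N21882 := ded_23_1 (flp_g L185873) L128016 L185873
theorem L185876 : sm gd N21882 = N21882 := ded_36_1 (flp_g L185873) L128017 L185873
theorem L185877 : sm gh N21882 = N16514 := ded_50_2 (flp_g L140852) (flp_h L128020) L185873
theorem L185879 : sm gf N21882 = N21882 := ded_45_1 (flp_g L185873) (flp_f L128014) L88336 L128014 L185873
theorem L185880 : sm gi N15032 = N21883 := rfl
theorem L185882 : sm gb N21883 = N21883 := ded_26_1 (flp_i L185880) L128016 L185880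
theorem L185883 : sm gd N21883 = N21883 := ded_39_1 (flp_i L185880) L128017 L185880
theorem L185884 : sm gf N21883 = N15033 := ded_48_1 (flp_i L128022) L128014 L185880
theorem L185886 : sm gj N21883 = N15108 := ded_53_1 (flp_i L128660) (flp_j L128018) L185880
theorem L185888 : sm gh N15033 = N21884 := rfl
theorem L185896 : sm gi N21884 = N16516 := ded_54_2 (flp_h L140867) (flp_i L97236) (flp_h L88339) L128022 L185888
theorem L185898 : sm gg N15035 = N21885 := rfl
theorem L185900 : sm gb N21885 = N15043 := ded_23_1 (flp_g L128108) (flp_b L128042) L185898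
theorem L185905 : sm gf N21885 = N15110 := ded_45_1 (flp_g L128675) L88794 (flp_g L88366) (flp_f L128046) L185898
theorem L185908 : sm gh N15035 = N21886 := rfl
theorem L185910 : sm gb N21886 = N15044 := ded_25_1 (flp_h L128118) (flp_b L128042) L185908
theorem L185913 : sm gf N21886 = N15037 := ded_47_1 (flp_h L128057) (flp_f L128046) L185908
theorem L185915 : sm gj N21886 = N15036 := ded_52_1 (flp_h L128049) L128040 L185908
theorem L185917 : sm gd N15036 = N21887 := rfl
theorem L185919 : sm gb N21887 = N15045 := ded_20_1 (flp_d L128127) (flp_b L128051) L185917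
theorem L185921 : sm gf N21887 = N15038 := ded_35_2 (flp_d L128067) (flp_f L128054) L185917
theorem L185923 : sm gg N21887 = N21887 := ded_36_2 (flp_d L185917) L128056 L185917
theorem L185924 : sm gh N21887 = N21887 := ded_38_2 (flp_d L185917) (flp_h L128049) L88354 L128049 L185917
theorem L185925 : sm gi N15036 = N21888 := rfl
theorem L185927 : sm gb N21888 = N15046 := ded_26_1 (flp_i L128134) (flp_b L128051) L185925
theorem L185929 : sm ge N21888 = N21888 := ded_44_1 (flp_i L185925) L128053 L185925
theorem L185930 : sm gf N21888 = N15039 := ded_48_1 (flp_i L128074) (flp_f L128054) L185925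
theorem L185932 : sm gg N21888 = N21888 := ded_51_1 (flp_i L185925) L128056 L185925
theorem L185933 : sm gh N21888 = N21888 := ded_54_1 (flp_i L185925) (flp_h L128049) L88355 L128049 L185925
theorem L185934 : sm gd N15037 = N21889 := rfl
theorem L185936 : sm gb N21889 = N15047 := ded_20_1 (flp_d L128143) (flp_b L128059) L185934
theorem L185938 : sm gg N21889 = N15114 := ded_36_2 (flp_d L128712) (flp_g L128063) L185934
theorem L185940 : sm gj N21889 = N15038 := ded_37_2 (flp_d L128067) (flp_j L128065) L185934
theorem L185942 : sm gh N21889 = N21889 := ded_38_2 (flp_d L185934) (flp_h L128057) L88362 L128057 L185934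
theorem L185943 : sm gi N15037 = N21890 := rfl
theorem L185945 : sm gb N21890 = N15048 := ded_26_1 (flp_i L128151) (flp_b L128059) L185943
theorem L185947 : sm ge N21890 = N15042 := ded_44_1 (flp_i L128098) (flp_e L128061) L185943
theorem L185949 : sm gg N21890 = N15115 := ded_51_1 (flp_i L128719) (flp_g L128063) L185943
theorem L185951 : sm gj N21890 = N15039 := ded_53_1 (flp_i L128074) (flp_j L128065) L185943
theorem L185953 : sm gh N21890 = N21890 := ded_54_1 (flp_i L185943) (flp_h L128057) L88365 L128057 L185943
theorem L185954 : sm gc N15038 = N21891 := rfl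
theorem L185956 : sm gg N21891 = N15040 := ded_30_2 (flp_c L128083) (flp_g L128071) L185954
theorem L185958 : sm gh N21891 = N21891 := ded_32_2 (flp_c L185954) L128073 L185954
theorem L185959 : sm gi N15038 = N21892 := rfl
theorem L185961 : sm gb N21892 = N15050 := ded_26_1 (flp_i L128169) (flp_b L128069) L185959
theorem L185963 : sm gd N21892 = N15039 := ded_39_1 (flp_i L128074) L128067 L185959
theorem L185965 : sm gg N21892 = N15041 := ded_51_1 (flp_i L128089) (flp_g L128071) L185959
theorem L185967 : sm gb N15040 = N21893 := rfl
theorem L185969 : sm gf N21893 = N21893 := ded_22_2 (flp_b L185967) L128085 L185967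
theorem L185970 : sm gj N21893 = N15118 := ded_24_2 (flp_b L128741) (flp_j L128086) L185967
theorem L185972 : sm gh N21893 = N21893 := ded_25_2 (flp_b L185967) L128088 L185967
theorem L185973 : sm gc N21893 = N15051 := ded_19_2 (flp_b L128176) (flp_c L88453) (flp_b L88378) L128083 L185967
theorem L185975 : sm gi N15040 = N21894 := rfl
theorem L185977 : sm gc N21894 = N15041 := ded_33_1 (flp_i L128089) L128083 L185975
theorem L185979 : sm gf N21894 = N21894 := ded_48_1 (flp_i L185975) L128085 L185975
theorem L185980 : sm gj N21894 = N15119 := ded_53_1 (flp_i L128747) (flp_j L128086) L185975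
theorem L185982 : sm gh N15041 = N21895 := rfl
theorem L185984 : sm gb N21895 = N15053 := ded_25_1 (flp_h L128192) (flp_b L128091) L185982
theorem L185986 : sm gf N21895 = N21895 := ded_47_1 (flp_h L185982) L128095 L185982
theorem L185987 : sm gj N21895 = N15120 := ded_52_1 (flp_h L128752) (flp_j L128096) L185982
theorem L185989 : sm gd N21895 = N21895 := ded_38_1 (flp_h L185982) L128093 L88393 (flp_d L128093) L185982
theorem L185990 : sm gi N21895 = N21895 := ded_54_2 (flp_h L185982) (flp_i L128089) L88383 L128089 L185982
theorem L185991 : sm gh N15043 = N21896 := rfl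
theorem L185996 : sm gf N21896 = N15121 := ded_47_1 (flp_h L128759) (flp_f L128115) L185991
theorem L185998 : sm gg N21896 = N15044 := ded_50_1 (flp_h L128118) L128108 L185991
theorem L186001 : sm gd N15044 = N21897 := rfl
theorem L186003 : sm ga N21897 = N21897 := ded_12_1 (flp_d L186001) L128120 L186001
theorem L186004 : sm gf N21897 = N15047 := ded_35_2 (flp_d L128143) (flp_f L128123) L186001
theorem L186006 : sm gj N21897 = N15045 := ded_37_2 (flp_d L128127) (flp_j L128125) L186001
theorem L186008 : sm gh N21897 = N21897 := ded_38_2 (flp_d L186001) (flp_h L128118) L88415 L128118 L186001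
theorem L186009 : sm gi N15044 = N21898 := rfl
theorem L186011 : sm ga N21898 = N21898 := ded_18_1 (flp_i L186009) L128120 L186009
theorem L186012 : sm gc N21898 = N21898 := ded_33_1 (flp_i L186009) L128121 L186009
theorem L186013 : sm ge N21898 = N21898 := ded_44_1 (flp_i L186009) L128122 L186009
theorem L186014 : sm gf N21898 = N15048 := ded_48_1 (flp_i L128151) (flp_f L128123) L186009
theorem L186016 : sm gj N21898 = N15046 := ded_53_1 (flp_i L128134) (flp_j L128125) L186009
theorem L186018 : sm gh N21898 = N21898 := ded_54_1 (flp_i L186009) (flp_h L128118) L88419 L128118 L186009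
theorem L186019 : sm gc N15045 = N21899 := rfl
theorem L186021 : sm ga N21899 = N21899 := ded_11_1 (flp_c L186019) L128129 L186019
theorem L186022 : sm gf N21899 = N15049 := ded_29_2 (flp_c L128162) (flp_f L128130) L186019
theorem L186024 : sm gg N21899 = N21899 := ded_30_2 (flp_c L186019) L128132 L186019
theorem L186025 : sm gh N21899 = N21899 := ded_32_2 (flp_c L186019) L128133 L186019
theorem L186026 : sm gd N21899 = N21899 := ded_27_2 (flp_c L186019) (flp_d L128127) L88423 L128127 L186019
theorem L186027 : sm ge N15045 = N21900 := rfl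
theorem L186029 : sm ga N21900 = N21900 := ded_13_1 (flp_e L186027) L128129 L186027
theorem L186030 : sm gg N21900 = N21900 := ded_41_2 (flp_e L186027) L128132 L186027
theorem L186031 : sm gh N21900 = N21900 := ded_43_2 (flp_e L186027) L128133 L186027
theorem L186032 : sm gd N21900 = N21900 := ded_34_1 (flp_e L186027) (flp_d L128127) L88424 L128127 L186027
theorem L186033 : sm gi N15045 = N21901 := rfl
theorem L186035 : sm ga N21901 = N21901 := ded_18_1 (flp_i L186033) L128129 L186033
theorem L186036 : sm gd N21901 = N15046 := ded_39_1 (flp_i L128134) L128127 L186033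
theorem L186038 : sm gf N21901 = N15050 := ded_48_1 (flp_i L128169) (flp_f L128130) L186033
theorem L186040 : sm gg N21901 = N21901 := ded_51_1 (flp_i L186033) L128132 L186033
theorem L186041 : sm gc N15047 = N21902 := rfl
theorem L186043 : sm ga N21902 = N21902 := ded_11_1 (flp_c L186041) L128145 L186041
theorem L186044 : sm gg N21902 = N15127 := ded_30_2 (flp_c L128810) (flp_g L128146) L186041
theorem L186046 : sm gj N21902 = N15049 := ded_31_2 (flp_c L128162) (flp_j L128148) L186041
theorem L186048 : sm gh N21902 = N21902 := ded_32_2 (flp_c L186041) L128150 L186041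
theorem L186049 : sm gd N21902 = N21902 := ded_27_2 (flp_c L186041) (flp_d L128143) L88431 L128143 L186041
theorem L186050 : sm gi N15047 = N21903 := rfl
theorem L186052 : sm ga N21903 = N21903 := ded_18_1 (flp_i L186050) L128145 L186050
theorem L186053 : sm gd N21903 = N15048 := ded_39_1 (flp_i L128151) L128143 L186050
theorem L186055 : sm gg N21903 = N15128 := ded_51_1 (flp_i L128817) (flp_g L128146) L186050
theorem L186057 : sm gj N21903 = N15050 := ded_53_1 (flp_i L128169) (flp_j L128148) L186050
theorem L186059 : sm gb N15049 = N21904 := rfl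
theorem L186061 : sm gd N21904 = N21904 := ded_20_2 (flp_b L186059) L128168 L186059
theorem L186062 : sm gg N21904 = N15051 := ded_23_2 (flp_b L128176) (flp_g L128165) L186059
theorem L186064 : sm gh N21904 = N21904 := ded_25_2 (flp_b L186059) L128167 L186059
theorem L186065 : sm gi N15049 = N21905 := rfl
theorem L186067 : sm ga N21905 = N21905 := ded_18_1 (flp_i L186065) L128164 L186065
theorem L186068 : sm gc N21905 = N15050 := ded_33_1 (flp_i L128169) L128162 L186065
theorem L186070 : sm gd N21905 = N21905 := ded_39_1 (flp_i L186065) L128168 L186065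
theorem L186071 : sm gg N21905 = N15052 := ded_51_1 (flp_i L128183) (flp_g L128165) L186065
theorem L186073 : sm gh N15050 = N21906 := rfl
theorem L186075 : sm ga N21906 = N21906 := ded_17_1 (flp_h L186073) L128171 L186073
theorem L186076 : sm gg N21906 = N15053 := ded_50_1 (flp_h L128192) (flp_g L128174) L186073
theorem L186078 : sm gd N21906 = N21906 := ded_38_1 (flp_h L186073) L128172 L88452 (flp_d L128172) L186073
theorem L186079 : sm gi N21906 = N21906 := ded_54_2 (flp_h L186073) (flp_i L128169) L88443 L128169 L186073
theorem L186080 : sm ga N15051 = N21907 := rfl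
theorem L186082 : sm gd N21907 = N21907 := ded_12_2 (flp_a L186080) L128178 L186080
theorem L186083 : sm gf N21907 = N21907 := ded_14_2 (flp_a L186080) L128179 L186080
theorem L186084 : sm gj N21907 = N15132 := ded_16_2 (flp_a L128845) (flp_j L128180) L186080
theorem L186086 : sm gh N21907 = N21907 := ded_17_2 (flp_a L186080) L128182 L186080
theorem L186087 : sm gb N21907 = N21907 := ded_10_2 (flp_a L186080) (flp_b L128176) L88455 L128176 L186080
theorem L186088 : sm gi N15051 = N21908 := rfl
theorem L186090 : sm gb N21908 = N15052 := ded_26_1 (flp_i L128183) L128176 L186088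
theorem L186092 : sm gd N21908 = N21908 := ded_39_1 (flp_i L186088) L128178 L186088
theorem L186093 : sm gf N21908 = N21908 := ded_48_1 (flp_i L186088) L128179 L186088
theorem L186094 : sm gj N21908 = N15133 := ded_53_1 (flp_i L128851) (flp_j L128180) L186088
theorem L186096 : sm gh N15052 = N21909 := rfl
theorem L186098 : sm ga N21909 = N21909 := ded_17_1 (flp_h L186096) L128185 L186096
theorem L186099 : sm gc N21909 = N15053 := ded_32_1 (flp_h L128192) (flp_c L128186) L186096
theorem L186101 : sm gf N21909 = N21909 := ded_47_1 (flp_h L186096) L128189 L186096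
theorem L186102 : sm gj N21909 = N15134 := ded_52_1 (flp_h L128857) (flp_j L128190) L186096
theorem L186104 : sm gi N21909 = N21909 := ded_54_2 (flp_h L186096) (flp_i L128183) L88459 L128183 L186096
theorem L186124 : sm gh N15054 = N21912 := rfl
theorem L186127 : sm gb N21912 = N15065 := ded_25_1 (flp_h L128303) (flp_b L128203) L186124
theorem L186132 : sm gf N15055 = N21913 := rfl
theorem L186135 : sm gb N21913 = N15066 := ded_22_1 (flp_f L128311) (flp_b L128212) L186132
theorem L186142 : sm gj N15055 = N21914 := rfl
theorem L186151 : sm gh N15055 = N21915 := rfl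
theorem L186154 : sm gb N21915 = N15068 := ded_25_1 (flp_h L128330) (flp_b L128212) L186151
theorem L186157 : sm ge N21915 = N15058 := ded_43_1 (flp_h L128238) (flp_e L128215) L186151
theorem L186159 : sm gg N21915 = N15056 := ded_50_1 (flp_h L128218) L128209 L186151
theorem L186161 : sm gd N15056 = N21916 := rfl
theorem L186164 : sm gb N21916 = N15069 := ded_20_1 (flp_d L128340) (flp_b L128221) L186161
theorem L186167 : sm gi N15056 = N21917 := rfl
theorem L186177 : sm gh N15057 = N21918 := rfl
theorem L186180 : sm gb N21918 = N15071 := ded_25_1 (flp_h L128355) (flp_b L128230) L186177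
theorem L186183 : sm gf N21918 = N15140 := ded_47_1 (flp_h L128913) (flp_f L128235) L186177
theorem L186185 : sm gj N21918 = N15058 := ded_52_1 (flp_h L128238) L128227 L186177
theorem L186187 : sm gd N15058 = N21919 := rfl
theorem L186190 : sm gb N21919 = N15072 := ded_20_1 (flp_d L128365) (flp_b L128241) L186187
theorem L186196 : sm gh N21919 = N16548 := ded_38_2 (flp_d L141165) (flp_h L97462) (flp_d L88493) L128238 L186187
theorem L186198 : sm gi N15058 = N21920 := rfl
theorem L186209 : sm gc N15059 = N21921 := rfl
theorem L186214 : sm gh N21921 = N16550 := ded_32_2 (flp_c L141186) (flp_h L128255) L186209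
theorem L186217 : sm ge N15059 = N21922 := rfl
theorem L186222 : sm gh N21922 = N16551 := ded_43_2 (flp_e L141193) (flp_h L128255) L186217
theorem L186224 : sm gi N15059 = N21923 := rfl
theorem L186227 : sm gb N21923 = N15075 := ded_26_1 (flp_i L128392) (flp_b L128251) L186224
theorem L186229 : sm gd N21923 = N15060 := ded_39_1 (flp_i L128257) L128248 L186224
theorem L186242 : sm gi N15061 = N21925 := rfl
theorem L186258 : sm gi N15062 = N21927 := rfl
theorem L186298 : sm gh N15064 = N21931 := rfl
theorem L186300 : sm ga N21931 = N15089 := ded_17_1 (flp_h L128515) (flp_a L128295) L186298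
theorem L186307 : sm gd N15065 = N21932 := rfl
theorem L186309 : sm ga N21932 = N15090 := ded_12_1 (flp_d L128523) (flp_a L128305) L186307
theorem L186312 : sm gh N21932 = N15069 := ded_38_2 (flp_d L128340) (flp_h L88543) L88525 L128303 L186307
theorem L186314 : sm gi N15065 = N21933 := rfl
theorem L186316 : sm ga N21933 = N15091 := ded_18_1 (flp_i L128529) (flp_a L128305) L186314
theorem L186319 : sm ge N21933 = N16561 := ded_44_1 (flp_i L141274) (flp_e L128308) L186314
theorem L186323 : sm gj N15066 = N21934 := rfl
theorem L186334 : sm gh N15066 = N21935 := rfl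
theorem L186336 : sm ga N21935 = N15093 := ded_17_1 (flp_h L128547) (flp_a L128313) L186334
theorem L186338 : sm gc N21935 = N15080 := ded_32_1 (flp_h L128436) (flp_c L128315) L186334
theorem L186340 : sm ge N21935 = N15152 := ded_43_1 (flp_h L129019) (flp_e L128318) L186334
theorem L186342 : sm gf N21935 = N15068 := ded_47_1 (flp_h L128330) L128311 L186334
theorem L186345 : sm gh N15067 = N21936 := rfl
theorem L186347 : sm ga N21936 = N15094 := ded_17_1 (flp_h L128557) (flp_a L128323) L186345
theorem L186349 : sm gc N21936 = N15081 := ded_32_1 (flp_h L128446) (flp_c L128325) L186345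
theorem L186351 : sm ge N21936 = N15071 := ded_43_1 (flp_h L128355) (flp_e L128327) L186345
theorem L186353 : sm gj N21936 = N15068 := ded_52_1 (flp_h L128330) L128321 L186345
theorem L186355 : sm gd N15068 = N21937 := rfl
theorem L186357 : sm ga N21937 = N15095 := ded_12_1 (flp_d L128566) (flp_a L128332) L186355
theorem L186359 : sm gg N21937 = N15069 := ded_36_2 (flp_d L128340) (flp_g L128338) L186355
theorem L186361 : sm gi N15068 = N21938 := rfl
theorem L186363 : sm ga N21938 = N15096 := ded_18_1 (flp_i L128571) (flp_a L128332) L186361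
theorem L186365 : sm gc N21938 = N15083 := ded_33_1 (flp_i L128463) (flp_c L128334) L186361
theorem L186367 : sm ge N21938 = N15073 := ded_44_1 (flp_i L128375) (flp_e L128336) L186361
theorem L186369 : sm gg N21938 = N15070 := ded_51_1 (flp_i L128345) (flp_g L128338) L186361
theorem L186371 : sm gh N21938 = N21938 := ded_54_1 (flp_i L186361) (flp_h L128330) L88542 L128330 L186361
theorem L186372 : sm gc N15069 = N21939 := rfl
theorem L186374 : sm ga N21939 = N15097 := ded_11_1 (flp_c L128581) (flp_a L128342) L186372
theorem L186376 : sm gf N21939 = N21939 := ded_29_2 (flp_c L186372) L128344 L186372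
theorem L186377 : sm gd N21939 = N15084 := ded_27_2 (flp_c L128473) (flp_d L88635) (flp_c L88547) L128340 L186372
theorem L186379 : sm ge N15069 = N21940 := rfl
theorem L186381 : sm ga N21940 = N15098 := ded_13_1 (flp_e L128586) (flp_a L128342) L186379
theorem L186383 : sm gd N21940 = N15074 := ded_34_1 (flp_e L128386) (flp_d L88573) (flp_e L88549) L128340 L186379
theorem L186385 : sm gi N15069 = N21941 := rfl
theorem L186387 : sm ga N21941 = N15099 := ded_18_1 (flp_i L128591) (flp_a L128342) L186385
theorem L186389 : sm gd N21941 = N15070 := ded_39_1 (flp_i L128345) L128340 L186385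
theorem L186391 : sm gf N21941 = N21941 := ded_48_1 (flp_i L186385) L128344 L186385
theorem L186392 : sm gd N15071 = N21942 := rfl
theorem L186394 : sm ga N21942 = N15100 := ded_12_1 (flp_d L128597) (flp_a L128357) L186392
theorem L186398 : sm gj N21942 = N15072 := ded_37_2 (flp_d L128365) (flp_j L128363) L186392
theorem L186402 : sm gi N15071 = N21943 := rfl
theorem L186404 : sm ga N21943 = N15101 := ded_18_1 (flp_i L128606) (flp_a L128357) L186402
theorem L186406 : sm gc N21943 = N15086 := ded_33_1 (flp_i L128487) (flp_c L128359) L186402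
theorem L186408 : sm gf N21943 = N15160 := ded_48_1 (flp_i L129091) (flp_f L128361) L186402
theorem L186410 : sm gj N21943 = N15073 := ded_53_1 (flp_i L128375) (flp_j L128363) L186402
theorem L186412 : sm gh N21943 = N21943 := ded_54_1 (flp_i L186402) (flp_h L128355) L88562 L128355 L186402
theorem L186413 : sm ge N15072 = N21944 := rfl
theorem L186415 : sm ga N21944 = N15102 := ded_13_1 (flp_e L128616) (flp_a L128367) L186413
theorem L186417 : sm gg N21944 = N15074 := ded_41_2 (flp_e L128386) (flp_g L128371) L186413
theorem L186419 : sm gh N21944 = N16570 := ded_43_2 (flp_e L141353) (flp_h L128373) L186413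
theorem L186421 : sm gi N15072 = N21945 := rfl
theorem L186425 : sm gd N21945 = N15073 := ded_39_1 (flp_i L128375) L128365 L186421
theorem L186431 : sm gf N15074 = N21946 := rfl
theorem L186433 : sm ga N21946 = N15104 := ded_14_1 (flp_f L128632) (flp_a L128388) L186431
theorem L186437 : sm ge N21946 = N15076 := ded_40_1 (flp_f L128400) (flp_e L88590) (flp_f L88577) L128386 L186431
theorem L186439 : sm gi N15074 = N21947 := rfl
theorem L186441 : sm ga N21947 = N15105 := ded_18_1 (flp_i L128639) (flp_a L128388) L186439
theorem L186454 : sm gg N15076 = N21949 := rfl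
theorem L186456 : sm ga N21949 = N15107 := ded_15_1 (flp_g L128652) (flp_a L128402) L186454
theorem L186461 : sm gf N21949 = N15166 := ded_45_1 (flp_g L129143) (flp_f L89105) (flp_g L88594) L128400 L186454
theorem L186463 : sm gi N15076 = N21950 := rfl
theorem L186465 : sm ga N21950 = N15108 := ded_18_1 (flp_i L128660) (flp_a L128402) L186463
theorem L186470 : sm gh N15077 = N21951 := rfl
theorem L186476 : sm gg N21951 = N15168 := ded_50_1 (flp_h L129158) (flp_g L128414) L186470
theorem L186478 : sm gi N21951 = N16577 := ded_54_2 (flp_h L141404) (flp_i L97616) (flp_h L88596) L128407 L186470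
theorem L186490 : sm gh N15079 = N21953 := rfl
theorem L186492 : sm ga N21953 = N15111 := ded_17_1 (flp_h L128684) (flp_a L128427) L186490
theorem L186495 : sm ge N21953 = N15170 := ded_43_1 (flp_h L129177) (flp_e L128431) L186490
theorem L186497 : sm gf N21953 = N15081 := ded_47_1 (flp_h L128446) (flp_f L128433) L186490
theorem L186499 : sm gj N21953 = N15080 := ded_52_1 (flp_h L128436) L128425 L186490
theorem L186501 : sm gd N15080 = N21954 := rfl
theorem L186503 : sm ga N21954 = N15112 := ded_12_1 (flp_d L128694) (flp_a L128438) L186501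
theorem L186505 : sm gb N21954 = N21954 := ded_20_1 (flp_d L186501) L128440 L186501
theorem L186506 : sm gf N21954 = N15082 := ded_35_2 (flp_d L128455) (flp_f L128443) L186501
theorem L186508 : sm gg N21954 = N21954 := ded_36_2 (flp_d L186501) L128445 L186501
theorem L186509 : sm gh N21954 = N21954 := ded_38_2 (flp_d L186501) (flp_h L128436) L88612 L128436 L186501
theorem L186510 : sm gi N15080 = N21955 := rfl
theorem L186512 : sm ga N21955 = N15113 := ded_18_1 (flp_i L128702) (flp_a L128438) L186510
theorem L186514 : sm gb N21955 = N21955 := ded_26_1 (flp_i L186510) L128440 L186510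
theorem L186515 : sm ge N21955 = N15172 := ded_44_1 (flp_i L129196) (flp_e L128441) L186510
theorem L186517 : sm gf N21955 = N15083 := ded_48_1 (flp_i L128463) (flp_f L128443) L186510
theorem L186519 : sm gg N21955 = N21955 := ded_51_1 (flp_i L186510) L128445 L186510
theorem L186520 : sm gh N21955 = N21955 := ded_54_1 (flp_i L186510) (flp_h L128436) L88613 L128436 L186510
theorem L186521 : sm gd N15081 = N21956 := rfl
theorem L186523 : sm ga N21956 = N15114 := ded_12_1 (flp_d L128712) (flp_a L128448) L186521
theorem L186525 : sm gb N21956 = N21956 := ded_20_1 (flp_d L186521) L128450 L186521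
theorem L186526 : sm gj N21956 = N15082 := ded_37_2 (flp_d L128455) (flp_j L128453) L186521
theorem L186528 : sm gh N21956 = N21956 := ded_38_2 (flp_d L186521) (flp_h L128446) L88622 L128446 L186521
theorem L186529 : sm gi N15081 = N21957 := rfl
theorem L186531 : sm ga N21957 = N15115 := ded_18_1 (flp_i L128719) (flp_a L128448) L186529
theorem L186533 : sm gb N21957 = N21957 := ded_26_1 (flp_i L186529) L128450 L186529
theorem L186534 : sm ge N21957 = N15086 := ded_44_1 (flp_i L128487) (flp_e L128451) L186529
theorem L186536 : sm gj N21957 = N15083 := ded_53_1 (flp_i L128463) (flp_j L128453) L186529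
theorem L186538 : sm gh N21957 = N21957 := ded_54_1 (flp_i L186529) (flp_h L128446) L88625 L128446 L186529
theorem L186539 : sm gc N15082 = N21958 := rfl
theorem L186541 : sm ga N21958 = N15116 := ded_11_1 (flp_c L128728) (flp_a L128457) L186539
theorem L186543 : sm gg N21958 = N15084 := ded_30_2 (flp_c L128473) (flp_g L128460) L186539
theorem L186545 : sm gh N21958 = N21958 := ded_32_2 (flp_c L186539) L128462 L186539
theorem L186546 : sm gi N15082 = N21959 := rfl
theorem L186548 : sm ga N21959 = N15117 := ded_18_1 (flp_i L128733) (flp_a L128457) L186546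
theorem L186550 : sm gb N21959 = N21959 := ded_26_1 (flp_i L186546) L128459 L186546
theorem L186551 : sm gd N21959 = N15083 := ded_39_1 (flp_i L128463) L128455 L186546
theorem L186553 : sm gg N21959 = N15085 := ded_51_1 (flp_i L128479) (flp_g L128460) L186546
theorem L186555 : sm gb N15084 = N21960 := rfl
theorem L186557 : sm gf N21960 = N21960 := ded_22_2 (flp_b L186555) L128477 L186555
theorem L186558 : sm gh N21960 = N21960 := ded_25_2 (flp_b L186555) L128478 L186555
theorem L186559 : sm gc N21960 = N21960 := ded_19_2 (flp_b L186555) (flp_c L128473) L88639 L128473 L186555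
theorem L186560 : sm gi N15084 = N21961 := rfl
theorem L186562 : sm ga N21961 = N15119 := ded_18_1 (flp_i L128747) (flp_a L128475) L186560
theorem L186564 : sm gc N21961 = N15085 := ded_33_1 (flp_i L128479) L128473 L186560
theorem L186566 : sm gf N21961 = N21961 := ded_48_1 (flp_i L186560) L128477 L186560
theorem L186567 : sm gh N15085 = N21962 := rfl
theorem L186569 : sm ga N21962 = N15120 := ded_17_1 (flp_h L128752) (flp_a L128481) L186567
theorem L186571 : sm gb N21962 = N21962 := ded_25_1 (flp_h L186567) L128483 L186567
theorem L186572 : sm gf N21962 = N21962 := ded_47_1 (flp_h L186567) L128486 L186567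
theorem L186573 : sm gd N21962 = N21962 := ded_38_1 (flp_h L186567) L128484 L88650 (flp_d L128484) L186567
theorem L186574 : sm gi N21962 = N21962 := ded_54_2 (flp_h L186567) (flp_i L128479) L88641 L128479 L186567
theorem L186601 : sm gd N15089 = N21966 := rfl
theorem L186604 : sm gg N21966 = N15090 := ded_36_2 (flp_d L128523) (flp_g L128521) L186601
theorem L186606 : sm gh N21966 = N15095 := ded_38_2 (flp_d L128566) (flp_h L88703) (flp_d L88674) L128515 L186601
theorem L186608 : sm gi N15089 = N21967 := rfl
theorem L186612 : sm ge N21967 = N16587 := ded_44_1 (flp_i L141493) (flp_e L128519) L186608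
theorem L186614 : sm gg N21967 = N15091 := ded_51_1 (flp_i L128529) (flp_g L128521) L186608
theorem L186617 : sm gc N15090 = N21968 := rfl
theorem L186619 : sm gf N21968 = N21968 := ded_29_2 (flp_c L186617) L128526 L186617
theorem L186620 : sm gh N21968 = N15097 := ded_32_2 (flp_c L128581) (flp_h L128527) L186617
theorem L186622 : sm gd N21968 = N21968 := ded_27_2 (flp_c L186617) (flp_d L128523) L88682 L128523 L186617
theorem L186623 : sm ge N15090 = N21969 := rfl
theorem L186625 : sm gb N21969 = N21969 := ded_21_1 (flp_e L186623) L128525 L186623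
theorem L186626 : sm gh N21969 = N15098 := ded_43_2 (flp_e L128586) (flp_h L128527) L186623
theorem L186628 : sm gd N21969 = N16589 := ded_34_1 (flp_e L141508) (flp_d L97709) (flp_e L88683) L128523 L186623
theorem L186630 : sm gi N15090 = N21970 := rfl
theorem L186632 : sm gb N21970 = N21970 := ded_26_1 (flp_i L186630) L128525 L186630
theorem L186633 : sm gd N21970 = N15091 := ded_39_1 (flp_i L128529) L128523 L186630
theorem L186635 : sm gf N21970 = N21970 := ded_48_1 (flp_i L186630) L128526 L186630
theorem L186636 : sm gg N15092 = N21971 := rfl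
theorem L186641 : sm ge N21971 = N15180 := ded_41_1 (flp_g L129268) (flp_e L128542) L186636
theorem L186645 : sm gh N15092 = N21972 := rfl
theorem L186650 : sm ge N21972 = N15181 := ded_43_1 (flp_h L129277) (flp_e L128542) L186645
theorem L186652 : sm gf N21972 = N15094 := ded_47_1 (flp_h L128557) (flp_f L128544) L186645
theorem L186654 : sm gj N21972 = N15093 := ded_52_1 (flp_h L128547) L128537 L186645
theorem L186656 : sm gd N15093 = N21973 := rfl
theorem L186659 : sm gf N21973 = N15095 := ded_35_2 (flp_d L128566) (flp_f L128554) L186656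
theorem L186662 : sm gi N15093 = N21974 := rfl
theorem L186664 : sm gb N21974 = N21974 := ded_26_1 (flp_i L186662) L128549 L186662
theorem L186665 : sm gc N21974 = N15113 := ded_33_1 (flp_i L128702) (flp_c L128550) L186662
theorem L186667 : sm ge N21974 = N15183 := ded_44_1 (flp_i L129293) (flp_e L128552) L186662
theorem L186669 : sm gf N21974 = N15096 := ded_48_1 (flp_i L128571) (flp_f L128554) L186662
theorem L186671 : sm gg N21974 = N21974 := ded_51_1 (flp_i L186662) L128556 L186662
theorem L186672 : sm gh N21974 = N21974 := ded_54_1 (flp_i L186662) (flp_h L128547) L88691 L128547 L186662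
theorem L186673 : sm gd N15094 = N21975 := rfl
theorem L186676 : sm gj N21975 = N15095 := ded_37_2 (flp_d L128566) (flp_j L128564) L186673
theorem L186678 : sm gi N15094 = N21976 := rfl
theorem L186680 : sm gb N21976 = N21976 := ded_26_1 (flp_i L186678) L128559 L186678
theorem L186681 : sm gc N21976 = N15115 := ded_33_1 (flp_i L128719) (flp_c L128560) L186678
theorem L186683 : sm ge N21976 = N15101 := ded_44_1 (flp_i L128606) (flp_e L128562) L186678
theorem L186685 : sm gj N21976 = N15096 := ded_53_1 (flp_i L128571) (flp_j L128564) L186678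
theorem L186687 : sm gh N21976 = N21976 := ded_54_1 (flp_i L186678) (flp_h L128557) L88702 L128557 L186678
theorem L186688 : sm gc N15095 = N21977 := rfl
theorem L186690 : sm gg N21977 = N15097 := ded_30_2 (flp_c L128581) (flp_g L128569) L186688
theorem L186692 : sm gd N21977 = N15116 := ded_27_2 (flp_c L128728) (flp_d L88814) (flp_c L88706) L128566 L186688
theorem L186694 : sm ge N15095 = N21978 := rfl
theorem L186696 : sm gb N21978 = N21978 := ded_21_1 (flp_e L186694) L128568 L186694
theorem L186697 : sm gg N21978 = N15098 := ded_41_2 (flp_e L128586) (flp_g L128569) L186694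
theorem L186699 : sm gd N21978 = N15102 := ded_34_1 (flp_e L128616) (flp_d L88734) (flp_e L88708) L128566 L186694
theorem L186701 : sm gi N15095 = N21979 := rfl
theorem L186703 : sm gb N21979 = N21979 := ded_26_1 (flp_i L186701) L128568 L186701
theorem L186704 : sm gd N21979 = N15096 := ded_39_1 (flp_i L128571) L128566 L186701
theorem L186706 : sm gg N21979 = N15099 := ded_51_1 (flp_i L128591) (flp_g L128569) L186701
theorem L186708 : sm gb N15097 = N21980 := rfl
theorem L186710 : sm gd N21980 = N15118 := ded_20_2 (flp_b L128741) (flp_d L128584) L186708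
theorem L186712 : sm gf N21980 = N21980 := ded_22_2 (flp_b L186708) L128583 L186708
theorem L186713 : sm gc N21980 = N21980 := ded_19_2 (flp_b L186708) (flp_c L128581) L88714 L128581 L186708
theorem L186714 : sm ge N15097 = N21981 := rfl
theorem L186716 : sm gc N21981 = N15098 := ded_28_1 (flp_e L128586) L128581 L186714
theorem L186718 : sm gi N15097 = N21982 := rfl
theorem L186720 : sm gc N21982 = N15099 := ded_33_1 (flp_i L128591) L128581 L186718
theorem L186722 : sm gd N21982 = N15119 := ded_39_1 (flp_i L128747) (flp_d L128584) L186718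
theorem L186724 : sm gf N21982 = N21982 := ded_48_1 (flp_i L186718) L128583 L186718
theorem L186725 : sm gf N15098 = N21983 := rfl
theorem L186727 : sm gb N21983 = N21983 := ded_22_1 (flp_f L186725) L128588 L186725
theorem L186728 : sm gd N21983 = N15104 := ded_35_1 (flp_f L128632) (flp_d L128589) L186725
theorem L186730 : sm ge N21983 = N21983 := ded_40_1 (flp_f L186725) (flp_e L128586) L88715 L128586 L186725
theorem L186731 : sm gi N15098 = N21984 := rfl
theorem L186733 : sm gb N21984 = N21984 := ded_26_1 (flp_i L186731) L128588 L186731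
theorem L186734 : sm gd N21984 = N15105 := ded_39_1 (flp_i L128639) (flp_d L128589) L186731
theorem L186736 : sm ge N21984 = N15099 := ded_44_1 (flp_i L128591) L128586 L186731
theorem L186738 : sm gh N15099 = N21985 := rfl
theorem L186740 : sm gb N21985 = N21985 := ded_25_1 (flp_h L186738) L128593 L186738
theorem L186741 : sm gf N21985 = N21985 := ded_47_1 (flp_h L186738) L128596 L186738
theorem L186742 : sm gd N21985 = N21985 := ded_38_1 (flp_h L186738) L128594 L88724 (flp_d L128594) L186738
theorem L186743 : sm ge N15100 = N21986 := rfl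
theorem L186745 : sm gb N21986 = N21986 := ded_21_1 (flp_e L186743) L128599 L186743
theorem L186746 : sm gj N21986 = N15102 := ded_42_2 (flp_e L128616) (flp_j L128602) L186743
theorem L186748 : sm gh N21986 = N16602 := ded_43_2 (flp_e L141598) (flp_h L128604) L186743
theorem L186750 : sm gi N15100 = N21987 := rfl
theorem L186752 : sm gb N21987 = N21987 := ded_26_1 (flp_i L186750) L128599 L186750
theorem L186753 : sm gd N21987 = N15101 := ded_39_1 (flp_i L128606) L128597 L186750
theorem L186755 : sm gf N21987 = N15196 := ded_48_1 (flp_i L129395) (flp_f L128600) L186750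
theorem L186757 : sm gj N21987 = N15103 := ded_53_1 (flp_i L128623) (flp_j L128602) L186750
theorem L186759 : sm gf N15102 = N21988 := rfl
theorem L186761 : sm gb N21988 = N21988 := ded_22_1 (flp_f L186759) L128618 L186759
theorem L186762 : sm gh N21988 = N16604 := ded_47_2 (flp_f L141612) (flp_h L128621) L186759
theorem L186764 : sm ge N21988 = N15197 := ded_40_1 (flp_f L129403) (flp_e L89283) (flp_f L88737) L128616 L186759
theorem L186766 : sm gi N15102 = N21989 := rfl
theorem L186768 : sm gb N21989 = N21989 := ded_26_1 (flp_i L186766) L128618 L186766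
theorem L186769 : sm ge N21989 = N15103 := ded_44_1 (flp_i L128623) L128616 L186766
theorem L186771 : sm gg N21989 = N15105 := ded_51_1 (flp_i L128639) (flp_g L128619) L186766
theorem L186783 : sm gg N15104 = N21991 := rfl
theorem L186785 : sm gb N21991 = N21991 := ded_23_1 (flp_g L186783) L128634 L186783
theorem L186786 : sm ge N21991 = N15107 := ded_41_1 (flp_g L128652) (flp_e L128637) L186783
theorem L186788 : sm gh N21991 = N16607 := ded_50_2 (flp_g L141632) (flp_h L128635) L186783
theorem L186790 : sm gi N15104 = N21992 := rfl
theorem L186792 : sm gb N21992 = N21992 := ded_26_1 (flp_i L186790) L128634 L186790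
theorem L186793 : sm ge N21992 = N15108 := ded_44_1 (flp_i L128660) (flp_e L128637) L186790
theorem L186795 : sm gf N21992 = N15105 := ded_48_1 (flp_i L128639) L128632 L186790
theorem L186804 : sm gj N15107 = N21994 := rfl
theorem L186806 : sm gb N21994 = N21994 := ded_24_1 (flp_j L186804) L128654 L186804
theorem L186807 : sm gd N21994 = N21994 := ded_37_1 (flp_j L186804) L128655 L186804
theorem L186808 : sm gf N21994 = N15203 := ded_46_1 (flp_j L129446) (flp_f L128658) L186804
theorem L186810 : sm gh N21994 = N16610 := ded_52_2 (flp_j L141649) (flp_h L128656) L186804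
theorem L186812 : sm gi N15107 = N21995 := rfl
theorem L186814 : sm gb N21995 = N21995 := ded_26_1 (flp_i L186812) L128654 L186812
theorem L186815 : sm gd N21995 = N21995 := ded_39_1 (flp_i L186812) L128655 L186812
theorem L186816 : sm gf N21995 = N15204 := ded_48_1 (flp_i L129453) (flp_f L128658) L186812
theorem L186818 : sm gg N21995 = N15108 := ded_51_1 (flp_i L128660) L128652 L186812
theorem L186820 : sm gh N15108 = N21996 := rfl
theorem L186836 : sm gh N15110 = N21998 := rfl
theorem L186838 : sm gb N21998 = N15121 := ded_25_1 (flp_h L128759) (flp_b L128677) L186836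
theorem L186840 : sm ge N21998 = N15207 := ded_43_1 (flp_h L129475) (flp_e L128680) L186836
theorem L186842 : sm gg N21998 = N15111 := ded_50_1 (flp_h L128684) L128675 L186836
theorem L186845 : sm gd N15111 = N21999 := rfl
theorem L186847 : sm gb N21999 = N15122 := ded_20_1 (flp_d L128768) (flp_b L128686) L186845
theorem L186849 : sm gf N21999 = N15114 := ded_35_2 (flp_d L128712) (flp_f L128690) L186845
theorem L186851 : sm gj N21999 = N15112 := ded_37_2 (flp_d L128694) (flp_j L128692) L186845
theorem L186853 : sm gh N21999 = N21999 := ded_38_2 (flp_d L186845) (flp_h L128684) L88791 L128684 L186845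
theorem L186854 : sm gi N15111 = N22000 := rfl
theorem L186856 : sm gb N22000 = N15123 := ded_26_1 (flp_i L128776) (flp_b L128686) L186854
theorem L186858 : sm ge N22000 = N15209 := ded_44_1 (flp_i L129493) (flp_e L128688) L186854
theorem L186860 : sm gf N22000 = N15115 := ded_48_1 (flp_i L128719) (flp_f L128690) L186854
theorem L186862 : sm gj N22000 = N15113 := ded_53_1 (flp_i L128702) (flp_j L128692) L186854
theorem L186864 : sm gh N22000 = N22000 := ded_54_1 (flp_i L186854) (flp_h L128684) L88796 L128684 L186854
theorem L186865 : sm gc N15112 = N22001 := rfl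
theorem L186867 : sm gf N22001 = N15116 := ded_29_2 (flp_c L128728) (flp_f L128698) L186865
theorem L186869 : sm gg N22001 = N22001 := ded_30_2 (flp_c L186865) L128700 L186865
theorem L186870 : sm gh N22001 = N22001 := ded_32_2 (flp_c L186865) L128701 L186865
theorem L186871 : sm ge N15112 = N22002 := rfl
theorem L186873 : sm gb N22002 = N15125 := ded_21_1 (flp_e L128795) (flp_b L128696) L186871
theorem L186875 : sm gg N22002 = N22002 := ded_41_2 (flp_e L186871) L128700 L186871
theorem L186876 : sm gh N22002 = N22002 := ded_43_2 (flp_e L186871) L128701 L186871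
theorem L186877 : sm gd N22002 = N15211 := ded_34_1 (flp_e L129509) (flp_d L89358) (flp_e L88801) L128694 L186871
theorem L186879 : sm gi N15112 = N22003 := rfl
theorem L186881 : sm gb N22003 = N15126 := ded_26_1 (flp_i L128802) (flp_b L128696) L186879
theorem L186883 : sm gd N22003 = N15113 := ded_39_1 (flp_i L128702) L128694 L186879
theorem L186885 : sm gf N22003 = N15117 := ded_48_1 (flp_i L128733) (flp_f L128698) L186879
theorem L186887 : sm gg N22003 = N22003 := ded_51_1 (flp_i L186879) L128700 L186879
theorem L186888 : sm gc N15114 = N22004 := rfl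
theorem L186890 : sm gj N22004 = N15116 := ded_31_2 (flp_c L128728) (flp_j L128716) L186888
theorem L186892 : sm gh N22004 = N22004 := ded_32_2 (flp_c L186888) L128718 L186888
theorem L186893 : sm gi N15114 = N22005 := rfl
theorem L186895 : sm gb N22005 = N15128 := ded_26_1 (flp_i L128817) (flp_b L128714) L186893
theorem L186897 : sm gd N22005 = N15115 := ded_39_1 (flp_i L128719) L128712 L186893
theorem L186899 : sm gj N22005 = N15117 := ded_53_1 (flp_i L128733) (flp_j L128716) L186893
theorem L186901 : sm gb N15116 = N22006 := rfl
theorem L186903 : sm gg N22006 = N15118 := ded_23_2 (flp_b L128741) (flp_g L128730) L186901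
theorem L186905 : sm gh N22006 = N22006 := ded_25_2 (flp_b L186901) L128732 L186901
theorem L186906 : sm gc N22006 = N15129 := ded_19_2 (flp_b L128824) (flp_c L88901) (flp_b L88816) L128728 L186901
theorem L186908 : sm gi N15116 = N22007 := rfl
theorem L186910 : sm gc N22007 = N15117 := ded_33_1 (flp_i L128733) L128728 L186908
theorem L186912 : sm gg N22007 = N15119 := ded_51_1 (flp_i L128747) (flp_g L128730) L186908
theorem L186914 : sm gh N15117 = N22008 := rfl
theorem L186916 : sm gb N22008 = N15131 := ded_25_1 (flp_h L128838) (flp_b L128735) L186914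
theorem L186918 : sm gg N22008 = N15120 := ded_50_1 (flp_h L128752) (flp_g L128739) L186914
theorem L186920 : sm gd N22008 = N22008 := ded_38_1 (flp_h L186914) L128737 L88829 (flp_d L128737) L186914
theorem L186921 : sm gi N22008 = N22008 := ded_54_2 (flp_h L186914) (flp_i L128733) L88820 L128733 L186914
theorem L186922 : sm ga N15118 = N22009 := rfl
theorem L186924 : sm gc N22009 = N15132 := ded_11_2 (flp_a L128845) (flp_c L128745) L186922
theorem L186926 : sm gf N22009 = N22009 := ded_14_2 (flp_a L186922) L128743 L186922
theorem L186927 : sm gh N22009 = N22009 := ded_17_2 (flp_a L186922) L128744 L186922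
theorem L186928 : sm gi N15118 = N22010 := rfl
theorem L186930 : sm gb N22010 = N15119 := ded_26_1 (flp_i L128747) L128741 L186928
theorem L186932 : sm gc N22010 = N15133 := ded_33_1 (flp_i L128851) (flp_c L128745) L186928
theorem L186934 : sm gf N22010 = N22010 := ded_48_1 (flp_i L186928) L128743 L186928
theorem L186935 : sm gh N15119 = N22011 := rfl
theorem L186937 : sm gc N22011 = N15120 := ded_32_1 (flp_h L128752) (flp_c L128749) L186935
theorem L186939 : sm gf N22011 = N22011 := ded_47_1 (flp_h L186935) L128751 L186935
theorem L186940 : sm gi N22011 = N22011 := ded_54_2 (flp_h L186935) (flp_i L128747) L88833 L128747 L186935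
theorem L186941 : sm gd N15121 = N22012 := rfl
theorem L186944 : sm gg N22012 = N15122 := ded_36_2 (flp_d L128768) (flp_g L128765) L186941
theorem L186948 : sm gi N15121 = N22013 := rfl
theorem L186950 : sm ga N22013 = N22013 := ded_18_1 (flp_i L186948) L128761 L186948
theorem L186951 : sm gc N22013 = N22013 := ded_33_1 (flp_i L186948) L128762 L186948
theorem L186952 : sm ge N22013 = N15222 := ded_44_1 (flp_i L129597) (flp_e L128763) L186948
theorem L186954 : sm gg N22013 = N15123 := ded_51_1 (flp_i L128776) (flp_g L128765) L186948
theorem L186956 : sm gj N22013 = N22013 := ded_53_1 (flp_i L186948) L128767 L186948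
theorem L186957 : sm gh N22013 = N22013 := ded_54_1 (flp_i L186948) (flp_h L128759) L88857 L128759 L186948
theorem L186958 : sm gc N15122 = N22014 := rfl
theorem L186960 : sm ga N22014 = N22014 := ded_11_1 (flp_c L186958) L128770 L186958
theorem L186961 : sm gf N22014 = N15127 := ded_29_2 (flp_c L128810) (flp_f L128771) L186958
theorem L186963 : sm gj N22014 = N15124 := ded_31_2 (flp_c L128787) (flp_j L128773) L186958
theorem L186965 : sm gh N22014 = N22014 := ded_32_2 (flp_c L186958) L128775 L186958
theorem L186966 : sm gd N22014 = N22014 := ded_27_2 (flp_c L186958) (flp_d L128768) L88862 L128768 L186958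
theorem L186967 : sm ge N15122 = N22015 := rfl
theorem L186970 : sm gj N22015 = N15125 := ded_42_2 (flp_e L128795) (flp_j L128773) L186967
theorem L186975 : sm gi N15122 = N22016 := rfl
theorem L186977 : sm ga N22016 = N22016 := ded_18_1 (flp_i L186975) L128770 L186975
theorem L186978 : sm gd N22016 = N15123 := ded_39_1 (flp_i L128776) L128768 L186975
theorem L186980 : sm gf N22016 = N15128 := ded_48_1 (flp_i L128817) (flp_f L128771) L186975
theorem L186982 : sm gj N22016 = N15126 := ded_53_1 (flp_i L128802) (flp_j L128773) L186975
theorem L186984 : sm gb N15124 = N22017 := rfl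
theorem L186986 : sm gd N22017 = N22017 := ded_20_2 (flp_b L186984) L128794 L186984
theorem L186987 : sm gf N22017 = N15129 := ded_22_2 (flp_b L128824) (flp_f L128790) L186984
theorem L186989 : sm gg N22017 = N22017 := ded_23_2 (flp_b L186984) L128792 L186984
theorem L186990 : sm gh N22017 = N22017 := ded_25_2 (flp_b L186984) L128793 L186984
theorem L186991 : sm ge N15124 = N22018 := rfl
theorem L186993 : sm ga N22018 = N22018 := ded_13_1 (flp_e L186991) L128789 L186991
theorem L186994 : sm gc N22018 = N15125 := ded_28_1 (flp_e L128795) L128787 L186991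
theorem L186996 : sm gg N22018 = N22018 := ded_41_2 (flp_e L186991) L128792 L186991
theorem L186997 : sm gh N22018 = N22018 := ded_43_2 (flp_e L186991) L128793 L186991
theorem L186998 : sm gi N15124 = N22019 := rfl
theorem L187000 : sm ga N22019 = N22019 := ded_18_1 (flp_i L186998) L128789 L186998
theorem L187001 : sm gc N22019 = N15126 := ded_33_1 (flp_i L128802) L128787 L186998
theorem L187003 : sm gd N22019 = N22019 := ded_39_1 (flp_i L186998) L128794 L186998
theorem L187004 : sm gf N22019 = N15130 := ded_48_1 (flp_i L128830) (flp_f L128790) L186998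
theorem L187006 : sm gg N22019 = N22019 := ded_51_1 (flp_i L186998) L128792 L186998
theorem L187007 : sm gi N15125 = N22020 := rfl
theorem L187009 : sm ga N22020 = N22020 := ded_18_1 (flp_i L187007) L128797 L187007
theorem L187010 : sm gd N22020 = N15229 := ded_39_1 (flp_i L129657) (flp_d L128800) L187007
theorem L187012 : sm ge N22020 = N15126 := ded_44_1 (flp_i L128802) L128795 L187007
theorem L187014 : sm gg N22020 = N22020 := ded_51_1 (flp_i L187007) L128798 L187007
theorem L187015 : sm gh N15126 = N22021 := rfl
theorem L187017 : sm ga N22021 = N22021 := ded_17_1 (flp_h L187015) L128804 L187015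
theorem L187018 : sm gf N22021 = N15131 := ded_47_1 (flp_h L128838) (flp_f L128807) L187015
theorem L187020 : sm gg N22021 = N22021 := ded_50_1 (flp_h L187015) L128809 L187015
theorem L187021 : sm gd N22021 = N22021 := ded_38_1 (flp_h L187015) L128805 L88885 (flp_d L128805) L187015
theorem L187022 : sm gi N22021 = N22021 := ded_54_2 (flp_h L187015) (flp_i L128802) L88875 L128802 L187015
theorem L187023 : sm gb N15127 = N22022 := rfl
theorem L187025 : sm gd N22022 = N22022 := ded_20_2 (flp_b L187023) L128816 L187023
theorem L187026 : sm gj N22022 = N15129 := ded_24_2 (flp_b L128824) (flp_j L128813) L187023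
theorem L187028 : sm gh N22022 = N22022 := ded_25_2 (flp_b L187023) L128815 L187023
theorem L187029 : sm gi N15127 = N22023 := rfl
theorem L187031 : sm ga N22023 = N22023 := ded_18_1 (flp_i L187029) L128812 L187029
theorem L187032 : sm gc N22023 = N15128 := ded_33_1 (flp_i L128817) L128810 L187029
theorem L187034 : sm gd N22023 = N22023 := ded_39_1 (flp_i L187029) L128816 L187029
theorem L187035 : sm gj N22023 = N15130 := ded_53_1 (flp_i L128830) (flp_j L128813) L187029
theorem L187037 : sm gh N15128 = N22024 := rfl
theorem L187039 : sm ga N22024 = N22024 := ded_17_1 (flp_h L187037) L128819 L187037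
theorem L187040 : sm gj N22024 = N15131 := ded_52_1 (flp_h L128838) (flp_j L128822) L187037
theorem L187042 : sm gd N22024 = N22024 := ded_38_1 (flp_h L187037) L128820 L88900 (flp_d L128820) L187037
theorem L187043 : sm gi N22024 = N22024 := ded_54_2 (flp_h L187037) (flp_i L128817) L88891 L128817 L187037
theorem L187044 : sm ga N15129 = N22025 := rfl
theorem L187046 : sm gd N22025 = N22025 := ded_12_2 (flp_a L187044) L128826 L187044
theorem L187047 : sm gg N22025 = N15132 := ded_15_2 (flp_a L128845) (flp_g L128827) L187044
theorem L187049 : sm gh N22025 = N22025 := ded_17_2 (flp_a L187044) L128829 L187044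
theorem L187050 : sm gb N22025 = N22025 := ded_10_2 (flp_a L187044) (flp_b L128824) L88903 L128824 L187044
theorem L187051 : sm gi N15129 = N22026 := rfl
theorem L187053 : sm gb N22026 = N15130 := ded_26_1 (flp_i L128830) L128824 L187051
theorem L187055 : sm gd N22026 = N22026 := ded_39_1 (flp_i L187051) L128826 L187051
theorem L187056 : sm gg N22026 = N15133 := ded_51_1 (flp_i L128851) (flp_g L128827) L187051
theorem L187058 : sm gh N15130 = N22027 := rfl
theorem L187060 : sm ga N22027 = N22027 := ded_17_1 (flp_h L187058) L128832 L187058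
theorem L187061 : sm gc N22027 = N15131 := ded_32_1 (flp_h L128838) (flp_c L128833) L187058
theorem L187063 : sm gg N22027 = N15134 := ded_50_1 (flp_h L128857) (flp_g L128836) L187058
theorem L187065 : sm gi N22027 = N22027 := ded_54_2 (flp_h L187058) (flp_i L128830) L88906 L128830 L187058
theorem L187066 : sm gi N15132 = N22028 := rfl
theorem L187068 : sm ga N22028 = N15133 := ded_18_1 (flp_i L128851) L128845 L187066
theorem L187070 : sm gb N22028 = N22028 := ded_26_1 (flp_i L187066) L128850 L187066
theorem L187071 : sm gd N22028 = N22028 := ded_39_1 (flp_i L187066) L128847 L187066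
theorem L187072 : sm gf N22028 = N22028 := ded_48_1 (flp_i L187066) L128848 L187066
theorem L187073 : sm gh N15133 = N22029 := rfl
theorem L187075 : sm gb N22029 = N15134 := ded_25_1 (flp_h L128857) (flp_b L128853) L187073
theorem L187077 : sm gf N22029 = N22029 := ded_47_1 (flp_h L187073) L128856 L187073
theorem L187078 : sm gi N22029 = N22029 := ded_54_2 (flp_h L187073) (flp_i L128851) L88919 L128851 L187073
theorem L187079 : sm gd N15134 = N22030 := rfl
theorem L187081 : sm ga N22030 = N22030 := ded_12_1 (flp_d L187079) L128859 L187079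
theorem L187082 : sm gf N22030 = N22030 := ded_35_2 (flp_d L187079) L128862 L187079
theorem L187083 : sm gi N22030 = N22030 := ded_39_2 (flp_d L187079) L128863 L187079
theorem L187084 : sm gc N22030 = N22030 := ded_27_1 (flp_d L187079) L128860 L88931 (flp_c L128860) L187079
theorem L187085 : sm gh N22030 = N22030 := ded_38_2 (flp_d L187079) (flp_h L128857) L88925 L128857 L187079
theorem L187096 : sm gh N15135 = N22032 := rfl
theorem L187099 : sm gb N22032 = N15152 := ded_25_1 (flp_h L129019) (flp_b L128867) L187096
theorem L187102 : sm gf N22032 = N15137 := ded_47_1 (flp_h L128884) L128864 L187096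
theorem L187105 : sm gh N15136 = N22033 := rfl
theorem L187108 : sm gb N22033 = N15153 := ded_25_1 (flp_h L129028) (flp_b L128876) L187105
theorem L187114 : sm gj N22033 = N15137 := ded_52_1 (flp_h L128884) L128873 L187105
theorem L187116 : sm gd N15137 = N22034 := rfl
theorem L187119 : sm gb N22034 = N15154 := ded_20_1 (flp_d L129039) (flp_b L128887) L187116
theorem L187121 : sm gg N22034 = N15138 := ded_36_2 (flp_d L128894) (flp_g L128892) L187116
theorem L187124 : sm gi N15137 = N22035 := rfl
theorem L187127 : sm gb N22035 = N15155 := ded_26_1 (flp_i L129046) (flp_b L128887) L187124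
theorem L187132 : sm gg N22035 = N15139 := ded_51_1 (flp_i L128902) (flp_g L128892) L187124
theorem L187135 : sm gc N15138 = N22036 := rfl
theorem L187142 : sm ge N15138 = N22037 := rfl
theorem L187151 : sm gi N15138 = N22038 := rfl
theorem L187154 : sm gb N22038 = N15158 := ded_26_1 (flp_i L129074) (flp_b L128897) L187151
theorem L187160 : sm gd N15140 = N22039 := rfl
theorem L187163 : sm gb N22039 = N15159 := ded_20_1 (flp_d L129082) (flp_b L128916) L187160
theorem L187166 : sm gj N22039 = N15141 := ded_37_2 (flp_d L128922) (flp_j L128920) L187160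
theorem L187170 : sm gi N15140 = N22040 := rfl
theorem L187173 : sm gb N22040 = N15160 := ded_26_1 (flp_i L129091) (flp_b L128916) L187170
theorem L187197 : sm gi N15141 = N22043 := rfl
theorem L187200 : sm gb N22043 = N15162 := ded_26_1 (flp_i L129109) (flp_b L128925) L187197
theorem L187202 : sm gd N22043 = N15142 := ded_39_1 (flp_i L128931) L128922 L187197
theorem L187214 : sm gi N15143 = N22045 := rfl
theorem L187290 : sm gi N15148 = N22054 := rfl
theorem L187319 : sm gh N15151 = N22057 := rfl
theorem L187321 : sm ga N22057 = N15181 := ded_17_1 (flp_h L129277) (flp_a L129011) L187319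
theorem L187325 : sm gf N22057 = N15153 := ded_47_1 (flp_h L129028) (flp_f L129016) L187319
theorem L187327 : sm gj N22057 = N15152 := ded_52_1 (flp_h L129019) L129009 L187319
theorem L187329 : sm gd N15152 = N22058 := rfl
theorem L187331 : sm ga N22058 = N15182 := ded_12_1 (flp_d L129286) (flp_a L129021) L187329
theorem L187333 : sm gf N22058 = N15154 := ded_35_2 (flp_d L129039) (flp_f L129025) L187329
theorem L187335 : sm gg N22058 = N22058 := ded_36_2 (flp_d L187329) L129027 L187329
theorem L187336 : sm gh N22058 = N22058 := ded_38_2 (flp_d L187329) (flp_h L129019) L89021 L129019 L187329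
theorem L187337 : sm gi N15152 = N22059 := rfl
theorem L187339 : sm ga N22059 = N15183 := ded_18_1 (flp_i L129293) (flp_a L129021) L187337
theorem L187341 : sm gc N22059 = N15172 := ded_33_1 (flp_i L129196) (flp_c L129023) L187337
theorem L187343 : sm gf N22059 = N15155 := ded_48_1 (flp_i L129046) (flp_f L129025) L187337
theorem L187345 : sm gg N22059 = N22059 := ded_51_1 (flp_i L187337) L129027 L187337
theorem L187346 : sm gh N22059 = N22059 := ded_54_1 (flp_i L187337) (flp_h L129019) L89022 L129019 L187337
theorem L187347 : sm gd N15153 = N22060 := rfl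
theorem L187349 : sm ga N22060 = N15184 := ded_12_1 (flp_d L129302) (flp_a L129030) L187347
theorem L187351 : sm gg N22060 = N22060 := ded_36_2 (flp_d L187347) L129036 L187347
theorem L187352 : sm gj N22060 = N15154 := ded_37_2 (flp_d L129039) (flp_j L129037) L187347
theorem L187354 : sm gh N22060 = N22060 := ded_38_2 (flp_d L187347) (flp_h L129028) L89030 L129028 L187347
theorem L187355 : sm gi N15153 = N22061 := rfl
theorem L187357 : sm ga N22061 = N15185 := ded_18_1 (flp_i L129309) (flp_a L129030) L187355
theorem L187359 : sm gc N22061 = N15174 := ded_33_1 (flp_i L129215) (flp_c L129032) L187355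
theorem L187361 : sm ge N22061 = N15160 := ded_44_1 (flp_i L129091) (flp_e L129034) L187355
theorem L187363 : sm gg N22061 = N22061 := ded_51_1 (flp_i L187355) L129036 L187355
theorem L187364 : sm gj N22061 = N15155 := ded_53_1 (flp_i L129046) (flp_j L129037) L187355
theorem L187366 : sm gh N22061 = N22061 := ded_54_1 (flp_i L187355) (flp_h L129028) L89033 L129028 L187355
theorem L187367 : sm gc N15154 = N22062 := rfl
theorem L187369 : sm ga N22062 = N15186 := ded_11_1 (flp_c L129320) (flp_a L129041) L187367
theorem L187371 : sm gg N22062 = N15156 := ded_30_2 (flp_c L129057) (flp_g L129043) L187367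
theorem L187373 : sm gh N22062 = N22062 := ded_32_2 (flp_c L187367) L129045 L187367
theorem L187374 : sm gd N22062 = N15175 := ded_27_2 (flp_c L129226) (flp_d L89157) (flp_c L89039) L129039 L187367
theorem L187376 : sm ge N15154 = N22063 := rfl
theorem L187378 : sm ga N22063 = N15187 := ded_13_1 (flp_e L129327) (flp_a L129041) L187376
theorem L187383 : sm gd N22063 = N15161 := ded_34_1 (flp_e L129101) (flp_d L89072) (flp_e L89041) L129039 L187376
theorem L187385 : sm gi N15154 = N22064 := rfl
theorem L187387 : sm ga N22064 = N15188 := ded_18_1 (flp_i L129335) (flp_a L129041) L187385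
theorem L187389 : sm gd N22064 = N15155 := ded_39_1 (flp_i L129046) L129039 L187385
theorem L187391 : sm gg N22064 = N15158 := ded_51_1 (flp_i L129074) (flp_g L129043) L187385
theorem L187393 : sm gb N15156 = N22065 := rfl
theorem L187395 : sm gd N22065 = N15177 := ded_20_2 (flp_b L129243) (flp_d L129064) L187393
theorem L187397 : sm gf N22065 = N22065 := ded_22_2 (flp_b L187393) L129061 L187393
theorem L187398 : sm gj N22065 = N22065 := ded_24_2 (flp_b L187393) L129062 L187393
theorem L187399 : sm gh N22065 = N22065 := ded_25_2 (flp_b L187393) L129063 L187393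
theorem L187400 : sm ge N15156 = N22066 := rfl
theorem L187402 : sm ga N22066 = N15190 := ded_13_1 (flp_e L129350) (flp_a L129059) L187400
theorem L187408 : sm gi N15156 = N22067 := rfl
theorem L187410 : sm ga N22067 = N15191 := ded_18_1 (flp_i L129356) (flp_a L129059) L187408
theorem L187412 : sm gc N22067 = N15158 := ded_33_1 (flp_i L129074) L129057 L187408
theorem L187414 : sm gd N22067 = N15178 := ded_39_1 (flp_i L129250) (flp_d L129064) L187408
theorem L187416 : sm gf N22067 = N22067 := ded_48_1 (flp_i L187408) L129061 L187408
theorem L187417 : sm gj N22067 = N22067 := ded_53_1 (flp_i L187408) L129062 L187408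
theorem L187418 : sm gf N15157 = N22068 := rfl
theorem L187420 : sm ga N22068 = N15192 := ded_14_1 (flp_f L129364) (flp_a L129068) L187418
theorem L187427 : sm gi N15157 = N22069 := rfl
theorem L187429 : sm ga N22069 = N15193 := ded_18_1 (flp_i L129372) (flp_a L129068) L187427
theorem L187433 : sm ge N22069 = N15158 := ded_44_1 (flp_i L129074) L129066 L187427
theorem L187436 : sm gh N15158 = N22070 := rfl
theorem L187438 : sm ga N22070 = N15194 := ded_17_1 (flp_h L129380) (flp_a L129076) L187436
theorem L187440 : sm gf N22070 = N22070 := ded_47_1 (flp_h L187436) L129080 L187436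
theorem L187441 : sm gj N22070 = N22070 := ded_52_1 (flp_h L187436) L129081 L187436
theorem L187442 : sm gd N22070 = N22070 := ded_38_1 (flp_h L187436) L129078 L89062 (flp_d L129078) L187436
theorem L187443 : sm gi N22070 = N22070 := ded_54_2 (flp_h L187436) (flp_i L129074) L89051 L129074 L187436
theorem L187444 : sm ge N15159 = N22071 := rfl
theorem L187446 : sm ga N22071 = N15195 := ded_13_1 (flp_e L129387) (flp_a L129084) L187444
theorem L187449 : sm gj N22071 = N15161 := ded_42_2 (flp_e L129101) (flp_j L129087) L187444
theorem L187453 : sm gi N15159 = N22072 := rfl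
theorem L187455 : sm ga N22072 = N15196 := ded_18_1 (flp_i L129395) (flp_a L129084) L187453
theorem L187457 : sm gd N22072 = N15160 := ded_39_1 (flp_i L129091) L129082 L187453
theorem L187462 : sm gf N15161 = N22073 := rfl
theorem L187464 : sm ga N22073 = N15197 := ded_14_1 (flp_f L129403) (flp_a L129103) L187462
theorem L187466 : sm gh N22073 = N16650 := ded_47_2 (flp_f L141974) (flp_h L129107) L187462
theorem L187468 : sm gi N15161 = N22074 := rfl
theorem L187470 : sm ga N22074 = N15198 := ded_18_1 (flp_i L129408) (flp_a L129103) L187468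
theorem L187485 : sm gg N15163 = N22076 := rfl
theorem L187487 : sm ga N22076 = N15200 := ded_15_1 (flp_g L129423) (flp_a L129119) L187485
theorem L187489 : sm ge N22076 = N15166 := ded_41_1 (flp_g L129143) (flp_e L129124) L187485
theorem L187493 : sm gi N15163 = N22077 := rfl
theorem L187495 : sm ga N22077 = N15201 := ded_18_1 (flp_i L129430) (flp_a L129119) L187493
theorem L187511 : sm gj N15166 = N22079 := rfl
theorem L187513 : sm ga N22079 = N15203 := ded_16_1 (flp_j L129446) (flp_a L129145) L187511
theorem L187516 : sm gh N22079 = N16656 := ded_52_2 (flp_j L142019) (flp_h L129148) L187511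
theorem L187519 : sm gi N15166 = N22080 := rfl
theorem L187521 : sm ga N22080 = N15204 := ded_18_1 (flp_i L129453) (flp_a L129145) L187519
theorem L187526 : sm gh N15167 = N22081 := rfl
theorem L187530 : sm gf N22081 = N15168 := ded_47_1 (flp_h L129158) (flp_f L129155) L187526
theorem L187533 : sm gi N22081 = N16658 := ded_54_2 (flp_h L142034) (flp_i L98114) (flp_h L89111) L129150 L187526
theorem L187535 : sm gd N15168 = N22082 := rfl
theorem L187544 : sm gh N15169 = N22083 := rfl
theorem L187546 : sm ga N22083 = N15207 := ded_17_1 (flp_h L129475) (flp_a L129169) L187544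
theorem L187550 : sm gg N22083 = N15170 := ded_50_1 (flp_h L129177) L129167 L187544
theorem L187553 : sm gd N15170 = N22084 := rfl
theorem L187555 : sm ga N22084 = N15208 := ded_12_1 (flp_d L129483) (flp_a L129179) L187553
theorem L187557 : sm gb N22084 = N22084 := ded_20_1 (flp_d L187553) L129181 L187553
theorem L187558 : sm gf N22084 = N15173 := ded_35_2 (flp_d L129205) (flp_f L129182) L187553
theorem L187560 : sm gj N22084 = N15171 := ded_37_2 (flp_d L129186) (flp_j L129184) L187553
theorem L187562 : sm gh N22084 = N15241 := ded_38_2 (flp_d L129758) (flp_h L89554) (flp_d L89134) L129177 L187553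
theorem L187564 : sm gi N15170 = N22085 := rfl
theorem L187566 : sm ga N22085 = N15209 := ded_18_1 (flp_i L129493) (flp_a L129179) L187564
theorem L187568 : sm gb N22085 = N22085 := ded_26_1 (flp_i L187564) L129181 L187564
theorem L187569 : sm gf N22085 = N15174 := ded_48_1 (flp_i L129215) (flp_f L129182) L187564
theorem L187571 : sm gj N22085 = N15172 := ded_53_1 (flp_i L129196) (flp_j L129184) L187564
theorem L187573 : sm gh N22085 = N22085 := ded_54_1 (flp_i L187564) (flp_h L129177) L89138 L129177 L187564
theorem L187574 : sm gc N15171 = N22086 := rfl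
theorem L187576 : sm ga N22086 = N15210 := ded_11_1 (flp_c L129502) (flp_a L129188) L187574
theorem L187578 : sm gf N22086 = N15175 := ded_29_2 (flp_c L129226) (flp_f L129191) L187574
theorem L187580 : sm gg N22086 = N22086 := ded_30_2 (flp_c L187574) L129193 L187574
theorem L187581 : sm gh N22086 = N15243 := ded_32_2 (flp_c L129779) (flp_h L129194) L187574
theorem L187583 : sm ge N15171 = N22087 := rfl
theorem L187585 : sm ga N22087 = N15211 := ded_13_1 (flp_e L129509) (flp_a L129188) L187583
theorem L187587 : sm gb N22087 = N22087 := ded_21_1 (flp_e L187583) L129190 L187583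
theorem L187588 : sm gg N22087 = N22087 := ded_41_2 (flp_e L187583) L129193 L187583
theorem L187589 : sm gh N22087 = N15244 := ded_43_2 (flp_e L129787) (flp_h L129194) L187583
theorem L187591 : sm gi N15171 = N22088 := rfl
theorem L187593 : sm ga N22088 = N15212 := ded_18_1 (flp_i L129516) (flp_a L129188) L187591
theorem L187595 : sm gb N22088 = N22088 := ded_26_1 (flp_i L187591) L129190 L187591
theorem L187596 : sm gd N22088 = N15172 := ded_39_1 (flp_i L129196) L129186 L187591
theorem L187598 : sm gf N22088 = N15176 := ded_48_1 (flp_i L129234) (flp_f L129191) L187591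
theorem L187600 : sm gg N22088 = N22088 := ded_51_1 (flp_i L187591) L129193 L187591
theorem L187601 : sm gc N15173 = N22089 := rfl
theorem L187603 : sm ga N22089 = N15213 := ded_11_1 (flp_c L129525) (flp_a L129207) L187601
theorem L187605 : sm gg N22089 = N22089 := ded_30_2 (flp_c L187601) L129210 L187601
theorem L187606 : sm gj N22089 = N15175 := ded_31_2 (flp_c L129226) (flp_j L129211) L187601
theorem L187608 : sm gh N22089 = N15246 := ded_32_2 (flp_c L129804) (flp_h L129213) L187601
theorem L187610 : sm gi N15173 = N22090 := rfl
theorem L187612 : sm ga N22090 = N15214 := ded_18_1 (flp_i L129532) (flp_a L129207) L187610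
theorem L187614 : sm gb N22090 = N22090 := ded_26_1 (flp_i L187610) L129209 L187610
theorem L187615 : sm gd N22090 = N15174 := ded_39_1 (flp_i L129215) L129205 L187610
theorem L187617 : sm gg N22090 = N22090 := ded_51_1 (flp_i L187610) L129210 L187610
theorem L187618 : sm gj N22090 = N15176 := ded_53_1 (flp_i L129234) (flp_j L129211) L187610
theorem L187620 : sm gb N15175 = N22091 := rfl
theorem L187622 : sm gg N22091 = N15177 := ded_23_2 (flp_b L129243) (flp_g L129230) L187620
theorem L187624 : sm gh N22091 = N15248 := ded_25_2 (flp_b L129822) (flp_h L129232) L187620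
theorem L187626 : sm gc N22091 = N22091 := ded_19_2 (flp_b L187620) (flp_c L129226) L89161 L129226 L187620
theorem L187627 : sm gi N15175 = N22092 := rfl
theorem L187629 : sm ga N22092 = N15216 := ded_18_1 (flp_i L129549) (flp_a L129228) L187627
theorem L187631 : sm gc N22092 = N15176 := ded_33_1 (flp_i L129234) L129226 L187627
theorem L187633 : sm gg N22092 = N15178 := ded_51_1 (flp_i L129250) (flp_g L129230) L187627
theorem L187635 : sm gh N15176 = N22093 := rfl
theorem L187637 : sm ga N22093 = N15217 := ded_17_1 (flp_h L129555) (flp_a L129236) L187635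
theorem L187639 : sm gb N22093 = N22093 := ded_25_1 (flp_h L187635) L129238 L187635
theorem L187640 : sm gg N22093 = N15179 := ded_50_1 (flp_h L129258) (flp_g L129241) L187635
theorem L187642 : sm gd N22093 = N22093 := ded_38_1 (flp_h L187635) L129239 L89175 (flp_d L129239) L187635
theorem L187643 : sm gi N22093 = N15250 := ded_54_2 (flp_h L129837) (flp_i L89611) (flp_h L89164) L129234 L187635
theorem L187645 : sm ga N15177 = N22094 := rfl
theorem L187647 : sm gc N22094 = N22094 := ded_11_2 (flp_a L187645) L129249 L187645
theorem L187648 : sm gf N22094 = N22094 := ded_14_2 (flp_a L187645) L129245 L187645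
theorem L187649 : sm gj N22094 = N22094 := ded_16_2 (flp_a L187645) L129246 L187645
theorem L187650 : sm gh N22094 = N15251 := ded_17_2 (flp_a L129845) (flp_h L129247) L187645
theorem L187652 : sm gb N22094 = N15218 := ded_10_2 (flp_a L129564) (flp_b L89408) (flp_a L89178) L129243 L187645
theorem L187654 : sm gi N15177 = N22095 := rfl
theorem L187656 : sm gb N22095 = N15178 := ded_26_1 (flp_i L129250) L129243 L187654
theorem L187658 : sm gc N22095 = N22095 := ded_33_1 (flp_i L187654) L129249 L187654
theorem L187659 : sm gf N22095 = N22095 := ded_48_1 (flp_i L187654) L129245 L187654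
theorem L187660 : sm gj N22095 = N22095 := ded_53_1 (flp_i L187654) L129246 L187654
theorem L187661 : sm gh N15178 = N22096 := rfl
theorem L187663 : sm ga N22096 = N15220 := ded_17_1 (flp_h L129580) (flp_a L129252) L187661
theorem L187665 : sm gc N22096 = N15179 := ded_32_1 (flp_h L129258) (flp_c L129254) L187661
theorem L187667 : sm gf N22096 = N22096 := ded_47_1 (flp_h L187661) L129256 L187661
theorem L187668 : sm gj N22096 = N22096 := ded_52_1 (flp_h L187661) L129257 L187661
theorem L187669 : sm gi N22096 = N15253 := ded_54_2 (flp_h L129861) (flp_i L89626) (flp_h L89182) L129250 L187661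
theorem L187671 : sm gh N15180 = N22097 := rfl
theorem L187674 : sm gc N22097 = N15207 := ded_32_1 (flp_h L129475) (flp_c L129271) L187671
theorem L187677 : sm gg N22097 = N15181 := ded_50_1 (flp_h L129277) L129268 L187671
theorem L187680 : sm gd N15181 = N22098 := rfl
theorem L187682 : sm gb N22098 = N22098 := ded_20_1 (flp_d L187680) L129279 L187680
theorem L187683 : sm gf N22098 = N15184 := ded_35_2 (flp_d L129302) (flp_f L129282) L187680
theorem L187685 : sm gj N22098 = N15182 := ded_37_2 (flp_d L129286) (flp_j L129284) L187680
theorem L187687 : sm gh N22098 = N22098 := ded_38_2 (flp_d L187680) (flp_h L129277) L89207 L129277 L187680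
theorem L187688 : sm gi N15181 = N22099 := rfl
theorem L187690 : sm gb N22099 = N22099 := ded_26_1 (flp_i L187688) L129279 L187688
theorem L187691 : sm gc N22099 = N15209 := ded_33_1 (flp_i L129493) (flp_c L129280) L187688
theorem L187693 : sm gf N22099 = N15185 := ded_48_1 (flp_i L129309) (flp_f L129282) L187688
theorem L187695 : sm gj N22099 = N15183 := ded_53_1 (flp_i L129293) (flp_j L129284) L187688
theorem L187697 : sm gh N22099 = N22099 := ded_54_1 (flp_i L187688) (flp_h L129277) L89210 L129277 L187688
theorem L187698 : sm gc N15182 = N22100 := rfl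
theorem L187700 : sm gf N22100 = N15186 := ded_29_2 (flp_c L129320) (flp_f L129289) L187698
theorem L187702 : sm gg N22100 = N22100 := ded_30_2 (flp_c L187698) L129291 L187698
theorem L187703 : sm gh N22100 = N22100 := ded_32_2 (flp_c L187698) L129292 L187698
theorem L187704 : sm gd N22100 = N15210 := ded_27_2 (flp_c L129502) (flp_d L89358) (flp_c L89214) L129286 L187698
theorem L187706 : sm ge N15182 = N22101 := rfl
theorem L187708 : sm gb N22101 = N22101 := ded_21_1 (flp_e L187706) L129288 L187706
theorem L187709 : sm gg N22101 = N22101 := ded_41_2 (flp_e L187706) L129291 L187706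
theorem L187710 : sm gh N22101 = N22101 := ded_43_2 (flp_e L187706) L129292 L187706
theorem L187711 : sm gi N15182 = N22102 := rfl
theorem L187713 : sm gb N22102 = N22102 := ded_26_1 (flp_i L187711) L129288 L187711
theorem L187714 : sm gd N22102 = N15183 := ded_39_1 (flp_i L129293) L129286 L187711
theorem L187716 : sm gf N22102 = N15188 := ded_48_1 (flp_i L129335) (flp_f L129289) L187711
theorem L187718 : sm gg N22102 = N22102 := ded_51_1 (flp_i L187711) L129291 L187711
theorem L187719 : sm gc N15184 = N22103 := rfl
theorem L187721 : sm gg N22103 = N22103 := ded_30_2 (flp_c L187719) L129305 L187719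
theorem L187722 : sm gj N22103 = N15186 := ded_31_2 (flp_c L129320) (flp_j L129306) L187719
theorem L187724 : sm gh N22103 = N22103 := ded_32_2 (flp_c L187719) L129308 L187719
theorem L187725 : sm gd N22103 = N15213 := ded_27_2 (flp_c L129525) (flp_d L89375) (flp_c L89222) L129302 L187719
theorem L187727 : sm ge N15184 = N22104 := rfl
theorem L187729 : sm gb N22104 = N22104 := ded_21_1 (flp_e L187727) L129304 L187727
theorem L187730 : sm gg N22104 = N22104 := ded_41_2 (flp_e L187727) L129305 L187727
theorem L187731 : sm gj N22104 = N15187 := ded_42_2 (flp_e L129327) (flp_j L129306) L187727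
theorem L187733 : sm gh N22104 = N22104 := ded_43_2 (flp_e L187727) L129308 L187727
theorem L187734 : sm gd N22104 = N15195 := ded_34_1 (flp_e L129387) (flp_d L89266) (flp_e L89224) L129302 L187727
theorem L187736 : sm gi N15184 = N22105 := rfl
theorem L187738 : sm gb N22105 = N22105 := ded_26_1 (flp_i L187736) L129304 L187736
theorem L187739 : sm gd N22105 = N15185 := ded_39_1 (flp_i L129309) L129302 L187736
theorem L187741 : sm gg N22105 = N22105 := ded_51_1 (flp_i L187736) L129305 L187736
theorem L187742 : sm gj N22105 = N15188 := ded_53_1 (flp_i L129335) (flp_j L129306) L187736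
theorem L187744 : sm gb N15186 = N22106 := rfl
theorem L187746 : sm gd N22106 = N15215 := ded_20_2 (flp_b L129541) (flp_d L129325) L187744
theorem L187748 : sm gg N22106 = N15189 := ded_23_2 (flp_b L129342) (flp_g L129322) L187744
theorem L187750 : sm gh N22106 = N22106 := ded_25_2 (flp_b L187744) L129324 L187744
theorem L187751 : sm gc N22106 = N22106 := ded_19_2 (flp_b L187744) (flp_c L129320) L89231 L129320 L187744
theorem L187752 : sm ge N15186 = N22107 := rfl
theorem L187754 : sm gc N22107 = N15187 := ded_28_1 (flp_e L129327) L129320 L187752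
theorem L187756 : sm gg N22107 = N15190 := ded_41_2 (flp_e L129350) (flp_g L129322) L187752
theorem L187758 : sm gh N22107 = N22107 := ded_43_2 (flp_e L187752) L129324 L187752
theorem L187759 : sm gi N15186 = N22108 := rfl
theorem L187761 : sm gc N22108 = N15188 := ded_33_1 (flp_i L129335) L129320 L187759
theorem L187763 : sm gd N22108 = N15216 := ded_39_1 (flp_i L129549) (flp_d L129325) L187759
theorem L187765 : sm gg N22108 = N15191 := ded_51_1 (flp_i L129356) (flp_g L129322) L187759
theorem L187767 : sm gf N15187 = N22109 := rfl
theorem L187769 : sm gb N22109 = N22109 := ded_22_1 (flp_f L187767) L129329 L187767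
theorem L187770 : sm gd N22109 = N15197 := ded_35_1 (flp_f L129403) (flp_d L129333) L187767
theorem L187772 : sm gh N22109 = N22109 := ded_47_2 (flp_f L187767) L129332 L187767
theorem L187773 : sm gi N15187 = N22110 := rfl
theorem L187775 : sm gb N22110 = N22110 := ded_26_1 (flp_i L187773) L129329 L187773
theorem L187776 : sm gd N22110 = N15198 := ded_39_1 (flp_i L129408) (flp_d L129333) L187773
theorem L187778 : sm ge N22110 = N15188 := ded_44_1 (flp_i L129335) L129327 L187773
theorem L187780 : sm gg N22110 = N15193 := ded_51_1 (flp_i L129372) (flp_g L129330) L187773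
theorem L187782 : sm gh N15188 = N22111 := rfl
theorem L187784 : sm gb N22111 = N22111 := ded_25_1 (flp_h L187782) L129337 L187782
theorem L187785 : sm gg N22111 = N15194 := ded_50_1 (flp_h L129380) (flp_g L129340) L187782
theorem L187787 : sm gd N22111 = N22111 := ded_38_1 (flp_h L187782) L129338 L89244 (flp_d L129338) L187782
theorem L187788 : sm gi N22111 = N22111 := ded_54_2 (flp_h L187782) (flp_i L129335) L89234 L129335 L187782
theorem L187789 : sm ga N15189 = N22112 := rfl
theorem L187791 : sm gc N22112 = N22112 := ded_11_2 (flp_a L187789) L129349 L187789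
theorem L187792 : sm gd N22112 = N15218 := ded_12_2 (flp_a L129564) (flp_d L129344) L187789
theorem L187794 : sm gf N22112 = N22112 := ded_14_2 (flp_a L187789) L129346 L187789
theorem L187795 : sm gj N22112 = N22112 := ded_16_2 (flp_a L187789) L129347 L187789
theorem L187796 : sm gh N22112 = N22112 := ded_17_2 (flp_a L187789) L129348 L187789
theorem L187797 : sm ge N15189 = N22113 := rfl
theorem L187799 : sm gb N22113 = N15190 := ded_21_1 (flp_e L129350) L129342 L187797
theorem L187801 : sm gc N22113 = N22113 := ded_28_1 (flp_e L187797) L129349 L187797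
theorem L187802 : sm gj N22113 = N22113 := ded_42_2 (flp_e L187797) L129347 L187797
theorem L187803 : sm gh N22113 = N22113 := ded_43_2 (flp_e L187797) L129348 L187797
theorem L187804 : sm gi N15189 = N22114 := rfl
theorem L187806 : sm gb N22114 = N15191 := ded_26_1 (flp_i L129356) L129342 L187804
theorem L187808 : sm gc N22114 = N22114 := ded_33_1 (flp_i L187804) L129349 L187804
theorem L187809 : sm gd N22114 = N15219 := ded_39_1 (flp_i L129572) (flp_d L129344) L187804
theorem L187811 : sm gf N22114 = N22114 := ded_48_1 (flp_i L187804) L129346 L187804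
theorem L187812 : sm gj N22114 = N22114 := ded_53_1 (flp_i L187804) L129347 L187804
theorem L187813 : sm gf N15190 = N22115 := rfl
theorem L187815 : sm gc N22115 = N15192 := ded_29_1 (flp_f L129364) (flp_c L129352) L187813
theorem L187817 : sm gj N22115 = N22115 := ded_46_2 (flp_f L187813) L129354 L187813
theorem L187818 : sm gh N22115 = N22115 := ded_47_2 (flp_f L187813) L129355 L187813
theorem L187819 : sm ge N22115 = N22115 := ded_40_1 (flp_f L187813) (flp_e L129350) L89247 L129350 L187813
theorem L187820 : sm gi N15190 = N22116 := rfl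
theorem L187822 : sm gc N22116 = N15193 := ded_33_1 (flp_i L129372) (flp_c L129352) L187820
theorem L187824 : sm ge N22116 = N15191 := ded_44_1 (flp_i L129356) L129350 L187820
theorem L187826 : sm gj N22116 = N22116 := ded_53_1 (flp_i L187820) L129354 L187820
theorem L187827 : sm gh N15191 = N22117 := rfl
theorem L187829 : sm gc N22117 = N15194 := ded_32_1 (flp_h L129380) (flp_c L129358) L187827
theorem L187831 : sm gf N22117 = N22117 := ded_47_1 (flp_h L187827) L129362 L187827
theorem L187832 : sm gj N22117 = N22117 := ded_52_1 (flp_h L187827) L129363 L187827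
theorem L187833 : sm gi N22117 = N22117 := ded_54_2 (flp_h L187827) (flp_i L129356) L89249 L129356 L187827
theorem L187834 : sm gg N15192 = N22118 := rfl
theorem L187836 : sm gb N22118 = N22118 := ded_23_1 (flp_g L187834) L129366 L187834
theorem L187837 : sm gd N22118 = N15200 := ded_36_1 (flp_g L129423) (flp_d L129367) L187834
theorem L187839 : sm ge N22118 = N22118 := ded_41_1 (flp_g L187834) L129371 L187834
theorem L187840 : sm gh N22118 = N22118 := ded_50_2 (flp_g L187834) L129370 L187834
theorem L187841 : sm gi N15192 = N22119 := rfl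
theorem L187843 : sm gb N22119 = N22119 := ded_26_1 (flp_i L187841) L129366 L187841
theorem L187844 : sm gd N22119 = N15201 := ded_39_1 (flp_i L129430) (flp_d L129367) L187841
theorem L187846 : sm ge N22119 = N22119 := ded_44_1 (flp_i L187841) L129371 L187841
theorem L187847 : sm gf N22119 = N15193 := ded_48_1 (flp_i L129372) L129364 L187841
theorem L187849 : sm gj N22119 = N22119 := ded_53_1 (flp_i L187841) L129369 L187841
theorem L187850 : sm gh N15193 = N22120 := rfl
theorem L187852 : sm gb N22120 = N22120 := ded_25_1 (flp_h L187850) L129374 L187850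
theorem L187853 : sm ge N22120 = N15194 := ded_43_1 (flp_h L129380) (flp_e L129377) L187850
theorem L187855 : sm gj N22120 = N22120 := ded_52_1 (flp_h L187850) L129379 L187850
theorem L187856 : sm gi N22120 = N22120 := ded_54_2 (flp_h L187850) (flp_i L129372) L89256 L129372 L187850
theorem L187857 : sm gf N15195 = N22121 := rfl
theorem L187859 : sm gb N22121 = N22121 := ded_22_1 (flp_f L187857) L129389 L187857
theorem L187860 : sm gj N22121 = N15197 := ded_46_2 (flp_f L129403) (flp_j L129391) L187857
theorem L187862 : sm gh N22121 = N16660 := ded_47_2 (flp_f L142049) (flp_h L129393) L187857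
theorem L187864 : sm gi N15195 = N22122 := rfl
theorem L187866 : sm gb N22122 = N22122 := ded_26_1 (flp_i L187864) L129389 L187864
theorem L187867 : sm ge N22122 = N15196 := ded_44_1 (flp_i L129395) L129387 L187864
theorem L187869 : sm gg N22122 = N22122 := ded_51_1 (flp_i L187864) L129390 L187864
theorem L187870 : sm gj N22122 = N15198 := ded_53_1 (flp_i L129408) (flp_j L129391) L187864
theorem L187881 : sm gg N15197 = N22124 := rfl
theorem L187883 : sm gb N22124 = N22124 := ded_23_1 (flp_g L187881) L129405 L187881
theorem L187884 : sm gh N22124 = N16663 := ded_50_2 (flp_g L142071) (flp_h L129406) L187881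
theorem L187886 : sm gf N22124 = N15200 := ded_45_1 (flp_g L129423) (flp_f L89297) (flp_g L89286) L129403 L187881
theorem L187888 : sm gi N15197 = N22125 := rfl
theorem L187890 : sm gb N22125 = N22125 := ded_26_1 (flp_i L187888) L129405 L187888
theorem L187891 : sm gf N22125 = N15198 := ded_48_1 (flp_i L129408) L129403 L187888
theorem L187893 : sm gh N15198 = N22126 := rfl
theorem L187896 : sm ge N22126 = N15199 := ded_43_1 (flp_h L129415) (flp_e L129411) L187893
theorem L187898 : sm gg N22126 = N15202 := ded_50_1 (flp_h L129438) (flp_g L129413) L187893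
theorem L187902 : sm gj N15200 = N22127 := rfl
theorem L187904 : sm gb N22127 = N22127 := ded_24_1 (flp_j L187902) L129425 L187902
theorem L187905 : sm ge N22127 = N15203 := ded_42_1 (flp_j L129446) (flp_e L129426) L187902
theorem L187907 : sm gh N22127 = N16666 := ded_52_2 (flp_j L142090) (flp_h L129428) L187902
theorem L187909 : sm gg N22127 = N22127 := ded_49_1 (flp_j L187902) (flp_g L129423) L89300 L129423 L187902
theorem L187910 : sm gi N15200 = N22128 := rfl
theorem L187912 : sm gb N22128 = N22128 := ded_26_1 (flp_i L187910) L129425 L187910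
theorem L187913 : sm ge N22128 = N15204 := ded_44_1 (flp_i L129453) (flp_e L129426) L187910
theorem L187915 : sm gg N22128 = N15201 := ded_51_1 (flp_i L129430) L129423 L187910
theorem L187927 : sm gd N15202 = N22130 := rfl
theorem L187931 : sm gi N22130 = N16669 := ded_39_2 (flp_d L142113) (flp_i L129444) L187927
theorem L187934 : sm gi N15203 = N22131 := rfl
theorem L187936 : sm gb N22131 = N22131 := ded_26_1 (flp_i L187934) L129448 L187934
theorem L187937 : sm gd N22131 = N22131 := ded_39_1 (flp_i L187934) L129449 L187934
theorem L187938 : sm gg N22131 = N22131 := ded_51_1 (flp_i L187934) L129452 L187934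
theorem L187939 : sm gj N22131 = N15204 := ded_53_1 (flp_i L129453) L129446 L187934
theorem L187948 : sm gd N15205 = N22133 := rfl
theorem L187954 : sm gi N22133 = N16672 := ded_39_2 (flp_d L142132) (flp_i L129465) L187948
theorem L187957 : sm gc N15206 = N22134 := rfl
theorem L187962 : sm gi N22134 = N16673 := ded_33_2 (flp_c L142140) (flp_i L129471) L187957
theorem L187964 : sm gd N15207 = N22135 := rfl
theorem L187969 : sm gg N22135 = N15208 := ded_36_2 (flp_d L129483) (flp_g L129480) L187964
theorem L187972 : sm gh N22135 = N15254 := ded_38_2 (flp_d L129869) (flp_h L89643) (flp_d L89345) L129475 L187964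
theorem L187974 : sm gi N15207 = N22136 := rfl
theorem L187976 : sm gb N22136 = N15222 := ded_26_1 (flp_i L129597) (flp_b L129477) L187974
theorem L187978 : sm gf N22136 = N22136 := ded_48_1 (flp_i L187974) L129479 L187974
theorem L187979 : sm gg N22136 = N15209 := ded_51_1 (flp_i L129493) (flp_g L129480) L187974
theorem L187981 : sm gj N22136 = N22136 := ded_53_1 (flp_i L187974) L129482 L187974
theorem L187982 : sm gh N22136 = N22136 := ded_54_1 (flp_i L187974) (flp_h L129475) L89347 L129475 L187974
theorem L187983 : sm gc N15208 = N22137 := rfl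
theorem L187985 : sm gf N22137 = N15213 := ded_29_2 (flp_c L129525) (flp_f L129487) L187983
theorem L187987 : sm gj N22137 = N15210 := ded_31_2 (flp_c L129502) (flp_j L129489) L187983
theorem L187989 : sm gh N22137 = N15256 := ded_32_2 (flp_c L129888) (flp_h L129491) L187983
theorem L187991 : sm ge N15208 = N22138 := rfl
theorem L187995 : sm gj N22138 = N15211 := ded_42_2 (flp_e L129509) (flp_j L129489) L187991
theorem L187999 : sm gi N15208 = N22139 := rfl
theorem L188001 : sm gb N22139 = N15225 := ded_26_1 (flp_i L129623) (flp_b L129485) L187999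
theorem L188003 : sm gd N22139 = N15209 := ded_39_1 (flp_i L129493) L129483 L187999
theorem L188005 : sm gf N22139 = N15214 := ded_48_1 (flp_i L129532) (flp_f L129487) L187999
theorem L188007 : sm gj N22139 = N15212 := ded_53_1 (flp_i L129516) (flp_j L129489) L187999
theorem L188009 : sm gb N15210 = N22140 := rfl
theorem L188011 : sm gf N22140 = N15215 := ded_22_2 (flp_b L129541) (flp_f L129504) L188009
theorem L188013 : sm gg N22140 = N22140 := ded_23_2 (flp_b L188009) L129506 L188009
theorem L188014 : sm gh N22140 = N15259 := ded_25_2 (flp_b L129912) (flp_h L129507) L188009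
theorem L188016 : sm gc N22140 = N15226 := ded_19_2 (flp_b L129632) (flp_c L89457) (flp_b L89360) L129502 L188009
theorem L188018 : sm ge N15210 = N22141 := rfl
theorem L188020 : sm gc N22141 = N15211 := ded_28_1 (flp_e L129509) L129502 L188018
theorem L188022 : sm gg N22141 = N22141 := ded_41_2 (flp_e L188018) L129506 L188018
theorem L188023 : sm gh N22141 = N15260 := ded_43_2 (flp_e L129920) (flp_h L129507) L188018
theorem L188025 : sm gi N15210 = N22142 := rfl
theorem L188027 : sm gc N22142 = N15212 := ded_33_1 (flp_i L129516) L129502 L188025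
theorem L188029 : sm gf N22142 = N15216 := ded_48_1 (flp_i L129549) (flp_f L129504) L188025
theorem L188031 : sm gg N22142 = N22142 := ded_51_1 (flp_i L188025) L129506 L188025
theorem L188032 : sm gi N15211 = N22143 := rfl
theorem L188034 : sm gb N22143 = N15229 := ded_26_1 (flp_i L129657) (flp_b L129511) L188032
theorem L188036 : sm ge N22143 = N15212 := ded_44_1 (flp_i L129516) L129509 L188032
theorem L188038 : sm gg N22143 = N22143 := ded_51_1 (flp_i L188032) L129513 L188032
theorem L188039 : sm gh N15212 = N22144 := rfl
theorem L188041 : sm gb N22144 = N15230 := ded_25_1 (flp_h L129663) (flp_b L129518) L188039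
theorem L188043 : sm gf N22144 = N15217 := ded_47_1 (flp_h L129555) (flp_f L129522) L188039
theorem L188045 : sm gg N22144 = N22144 := ded_50_1 (flp_h L188039) L129524 L188039
theorem L188046 : sm gd N22144 = N22144 := ded_38_1 (flp_h L188039) L129520 L89374 (flp_d L129520) L188039
theorem L188047 : sm gi N22144 = N15263 := ded_54_2 (flp_h L129941) (flp_i L89684) (flp_h L89365) L129516 L188039
theorem L188049 : sm gb N15213 = N22145 := rfl
theorem L188051 : sm gg N22145 = N22145 := ded_23_2 (flp_b L188049) L129527 L188049
theorem L188052 : sm gj N22145 = N15215 := ded_24_2 (flp_b L129541) (flp_j L129528) L188049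
theorem L188054 : sm gh N22145 = N15264 := ded_25_2 (flp_b L129949) (flp_h L129530) L188049
theorem L188056 : sm gc N22145 = N15231 := ded_19_2 (flp_b L129672) (flp_c L89480) (flp_b L89377) L129525 L188049
theorem L188058 : sm gi N15213 = N22146 := rfl
theorem L188060 : sm gc N22146 = N15214 := ded_33_1 (flp_i L129532) L129525 L188058
theorem L188062 : sm gg N22146 = N22146 := ded_51_1 (flp_i L188058) L129527 L188058
theorem L188063 : sm gj N22146 = N15216 := ded_53_1 (flp_i L129549) (flp_j L129528) L188058
theorem L188065 : sm gh N15214 = N22147 := rfl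
theorem L188067 : sm gb N22147 = N15233 := ded_25_1 (flp_h L129689) (flp_b L129534) L188065
theorem L188069 : sm gg N22147 = N22147 := ded_50_1 (flp_h L188065) L129538 L188065
theorem L188070 : sm gj N22147 = N15217 := ded_52_1 (flp_h L129555) (flp_j L129539) L188065
theorem L188072 : sm gd N22147 = N22147 := ded_38_1 (flp_h L188065) L129536 L89393 (flp_d L129536) L188065
theorem L188073 : sm gi N22147 = N15266 := ded_54_2 (flp_h L129965) (flp_i L89699) (flp_h L89382) L129532 L188065
theorem L188075 : sm ga N15215 = N22148 := rfl
theorem L188077 : sm gc N22148 = N15234 := ded_11_2 (flp_a L129698) (flp_c L129547) L188075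
theorem L188079 : sm gg N22148 = N15218 := ded_15_2 (flp_a L129564) (flp_g L129543) L188075
theorem L188081 : sm gh N22148 = N15267 := ded_17_2 (flp_a L129973) (flp_h L129545) L188075
theorem L188083 : sm gi N15215 = N22149 := rfl
theorem L188085 : sm gb N22149 = N15216 := ded_26_1 (flp_i L129549) L129541 L188083
theorem L188087 : sm gc N22149 = N15235 := ded_33_1 (flp_i L129706) (flp_c L129547) L188083
theorem L188089 : sm gg N22149 = N15219 := ded_51_1 (flp_i L129572) (flp_g L129543) L188083
theorem L188091 : sm gh N15216 = N22150 := rfl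
theorem L188093 : sm gc N22150 = N15217 := ded_32_1 (flp_h L129555) (flp_c L129551) L188091
theorem L188095 : sm gg N22150 = N15220 := ded_50_1 (flp_h L129580) (flp_g L129553) L188091

end Cfsg.Agent.Helper28.FicA
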