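import Cfsg.Agent.Helper28.FicB1

/-! # The Fi₂₃ presentation, cosets of the subgroup generated by a, …, i: the coset enumeration, part 2 (helper28; generated) -/

set_option autoImplicit false

noncomputable section

namespace Cfsg.Agent.Helper28.FicA

open Cfsg.Agent.Helper28.CosetTable

def N13532 : Q := sm gh N9336
def N13533 : Q := sm ge N9337
def N13534 : Q := sm gg N9337
def N13535 : Q := sm gh N9337
def N13536 : Q := sm gi N9338
def N13537 : Q := sm gj N9339
def N13538 : Q := sm ge N9340
def N13539 : Q := sm gg N9340
def N13540 : Q := sm gh N9340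
def N13541 : Q := sm gd N9341
def N13542 : Q := sm gi N9341
def N13543 : Q := sm gg N9342
def N13544 : Q := sm gh N9342
def N13545 : Q := sm gj N9343
def N13546 : Q := sm gh N9343
def N13547 : Q := sm gi N9344
def N13548 : Q := sm gf N9347
def N13549 : Q := sm gj N9347
def N13550 : Q := sm gh N9347
def N13551 : Q := sm gd N9348
def N13552 : Q := sm gi N9348
def N13553 : Q := sm gh N9349
def N13554 : Q := sm gi N9350
def N13555 : Q := sm ga N9352
def N13556 : Q := sm ge N9352
def N13557 : Q := sm gd N9353
def N13558 : Q := sm gf N9353
def N13559 : Q := sm gg N9354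
def N13560 : Q := sm ge N9355
def N13561 : Q := sm gd N9356
def N13562 : Q := sm gf N9356
def N13563 : Q := sm gf N9357
def N13564 : Q := sm gh N9357
def N13565 : Q := sm gg N9358
def N13566 : Q := sm gj N9359
def N13567 : Q := sm ge N9360
def N13568 : Q := sm gd N9361
def N13569 : Q := sm gf N9361
def N13570 : Q := sm gf N9362
def N13571 : Q := sm gh N9362
def N13572 : Q := sm gg N9363
def N13573 : Q := sm gj N9364
def N13574 : Q := sm gd N9365
def N13575 : Q := sm gf N9365
def N13576 : Q := sm gc N9366
def N13577 : Q := sm gf N9366
def N13578 : Q := sm gh N9366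
def N13579 : Q := sm gg N9367
def N13580 : Q := sm ge N9368
def N13581 : Q := sm gg N9368
def N13582 : Q := sm gh N9368
def N13583 : Q := sm gi N9369
def N13584 : Q := sm gj N9370
def N13585 : Q := sm gd N9372
def N13586 : Q := sm gf N9372
def N13587 : Q := sm gc N9373
def N13588 : Q := sm gf N9373
def N13589 : Q := sm gh N9373
def N13590 : Q := sm gg N9374
def N13591 : Q := sm ge N9375
def N13592 : Q := sm gg N9375
def N13593 : Q := sm gh N9375
def N13594 : Q := sm gi N9376
def N13595 : Q := sm gj N9377
def N13596 : Q := sm gc N9379
def N13597 : Q := sm gf N9379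
def N13598 : Q := sm gh N9379
def N13599 : Q := sm gg N9380
def N13600 : Q := sm gf N9381
def N13601 : Q := sm gh N9381
def N13602 : Q := sm ge N9382
def N13603 : Q := sm gg N9382
def N13604 : Q := sm gh N9382
def N13605 : Q := sm gi N9383
def N13606 : Q := sm gj N9384
def N13607 : Q := sm gg N9385
def N13608 : Q := sm gh N9385
def N13609 : Q := sm gj N9386
def N13610 : Q := sm gh N9386
def N13611 : Q := sm gi N9387
def N13612 : Q := sm gd N9390
def N13613 : Q := sm gf N9390
def N13614 : Q := sm gc N9391
def N13615 : Q := sm gf N9391
def N13616 : Q := sm gh N9391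
def N13617 : Q := sm gg N9392
def N13618 : Q := sm ge N9393
def N13619 : Q := sm gg N9393
def N13620 : Q := sm gh N9393
def N13621 : Q := sm gi N9394
def N13622 : Q := sm gj N9395
def N13623 : Q := sm gc N9397
def N13624 : Q := sm gf N9397
def N13625 : Q := sm gh N9397
def N13626 : Q := sm gg N9398
def N13627 : Q := sm gf N9399
def N13628 : Q := sm gh N9399
def N13629 : Q := sm ge N9400
def N13630 : Q := sm gg N9400
def N13631 : Q := sm gh N9400
def N13632 : Q := sm gi N9401
def N13633 : Q := sm gj N9402
def N13634 : Q := sm gg N9403
def N13635 : Q := sm gh N9403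
def N13636 : Q := sm gj N9404
def N13637 : Q := sm gh N9404
def N13638 : Q := sm gi N9405
def N13639 : Q := sm gc N9408
def N13640 : Q := sm gf N9408
def N13641 : Q := sm gh N9408
def N13642 : Q := sm gg N9409
def N13643 : Q := sm gf N9410
def N13644 : Q := sm gh N9410
def N13645 : Q := sm ge N9411
def N13646 : Q := sm gg N9411
def N13647 : Q := sm gh N9411
def N13648 : Q := sm gi N9412
def N13649 : Q := sm gj N9413
def N13650 : Q := sm gg N9414
def N13651 : Q := sm gh N9414
def N13652 : Q := sm gj N9415
def N13653 : Q := sm gh N9415
def N13654 : Q := sm gi N9416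
def N13655 : Q := sm gb N9419
def N13656 : Q := sm gf N9419
def N13657 : Q := sm gh N9419
def N13658 : Q := sm ge N9420
def N13659 : Q := sm gg N9420
def N13660 : Q := sm gh N9420
def N13661 : Q := sm gi N9421
def N13662 : Q := sm gj N9422
def N13663 : Q := sm ge N9423
def N13664 : Q := sm gg N9423
def N13665 : Q := sm gh N9423
def N13666 : Q := sm gd N9424
def N13667 : Q := sm gi N9424
def N13668 : Q := sm gg N9425
def N13669 : Q := sm gh N9425
def N13670 : Q := sm gj N9426
def N13671 : Q := sm gh N9426
def N13672 : Q := sm gi N9427
def N13673 : Q := sm gf N9430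
def N13674 : Q := sm gj N9430
def N13675 : Q := sm gh N9430
def N13676 : Q := sm gd N9431
def N13677 : Q := sm gi N9431
def N13678 : Q := sm gh N9432
def N13679 : Q := sm gi N9433
def N13680 : Q := sm gb N9435
def N13681 : Q := sm gf N9435
def N13682 : Q := sm gh N9435
def N13683 : Q := sm ge N9436
def N13684 : Q := sm gg N9436
def N13685 : Q := sm gh N9436
def N13686 : Q := sm gi N9437
def N13687 : Q := sm gj N9438
def N13688 : Q := sm ge N9439
def N13689 : Q := sm gg N9439
def N13690 : Q := sm gh N9439
def N13691 : Q := sm gd N9440
def N13692 : Q := sm gi N9440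
def N13693 : Q := sm gg N9441
def N13694 : Q := sm gh N9441
def N13695 : Q := sm gj N9442
def N13696 : Q := sm gh N9442
def N13697 : Q := sm gi N9443
def N13698 : Q := sm gf N9446
def N13699 : Q := sm gj N9446
def N13700 : Q := sm gh N9446
def N13701 : Q := sm gd N9447
def N13702 : Q := sm gi N9447
def N13703 : Q := sm gh N9448
def N13704 : Q := sm gi N9449
def N13705 : Q := sm gf N9451
def N13706 : Q := sm gh N9451
def N13707 : Q := sm ge N9452
def N13708 : Q := sm gg N9452
def N13709 : Q := sm gh N9452
def N13710 : Q := sm gd N9453
def N13711 : Q := sm gi N9453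
def N13712 : Q := sm gg N9454
def N13713 : Q := sm gh N9454
def N13714 : Q := sm gj N9455
def N13715 : Q := sm gh N9455
def N13716 : Q := sm gi N9456
def N13717 : Q := sm gd N9459
def N13718 : Q := sm gg N9459
def N13719 : Q := sm gh N9459
def N13720 : Q := sm gj N9460
def N13721 : Q := sm gh N9460
def N13722 : Q := sm gd N9461
def N13723 : Q := sm gi N9461
def N13724 : Q := sm ge N9462
def N13725 : Q := sm gi N9462
def N13726 : Q := sm gf N9464
def N13727 : Q := sm gj N9464
def N13728 : Q := sm gh N9464
def N13729 : Q := sm gd N9465
def N13730 : Q := sm gi N9465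
def N13731 : Q := sm gh N9466
def N13732 : Q := sm gi N9467
def N13733 : Q := sm gj N9469
def N13734 : Q := sm gh N9469
def N13735 : Q := sm gh N9470
def N13736 : Q := sm gd N9471
def N13737 : Q := sm gi N9471
def N13738 : Q := sm gc N9472
def N13739 : Q := sm gi N9472
def N13740 : Q := sm gi N9474
def N13741 : Q := sm gd N9476
def N13742 : Q := sm gf N9476
def N13743 : Q := sm gc N9477
def N13744 : Q := sm gf N9477
def N13745 : Q := sm gh N9477
def N13746 : Q := sm gg N9478
def N13747 : Q := sm ge N9479
def N13748 : Q := sm gg N9479
def N13749 : Q := sm gh N9479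
def N13750 : Q := sm gi N9480
def N13751 : Q := sm gj N9481
def N13752 : Q := sm gc N9483
def N13753 : Q := sm gf N9483
def N13754 : Q := sm gh N9483
def N13755 : Q := sm gg N9484
def N13756 : Q := sm gf N9485
def N13757 : Q := sm gh N9485
def N13758 : Q := sm ge N9486
def N13759 : Q := sm gg N9486
def N13760 : Q := sm gh N9486
def N13761 : Q := sm gi N9487
def N13762 : Q := sm gj N9488
def N13763 : Q := sm gg N9489
def N13764 : Q := sm gh N9489
def N13765 : Q := sm gj N9490
def N13766 : Q := sm gh N9490
def N13767 : Q := sm gi N9491
def N13768 : Q := sm gb N9494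
def N13769 : Q := sm gf N9494
def N13770 : Q := sm gh N9494
def N13771 : Q := sm ge N9495
def N13772 : Q := sm gg N9495
def N13773 : Q := sm gh N9495
def N13774 : Q := sm gi N9496
def N13775 : Q := sm gj N9497
def N13776 : Q := sm ge N9498
def N13777 : Q := sm gg N9498
def N13778 : Q := sm gh N9498
def N13779 : Q := sm gd N9499
def N13780 : Q := sm gi N9499
def N13781 : Q := sm gg N9500
def N13782 : Q := sm gh N9500
def N13783 : Q := sm gj N9501
def N13784 : Q := sm gh N9501
def N13785 : Q := sm gi N9502
def N13786 : Q := sm gf N9505
def N13787 : Q := sm gj N9505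
def N13788 : Q := sm gh N9505
def N13789 : Q := sm gd N9506
def N13790 : Q := sm gi N9506
def N13791 : Q := sm gh N9507
def N13792 : Q := sm gi N9508
def N13793 : Q := sm gc N9510
def N13794 : Q := sm gf N9510
def N13795 : Q := sm gh N9510
def N13796 : Q := sm gg N9511
def N13797 : Q := sm gf N9512
def N13798 : Q := sm gh N9512
def N13799 : Q := sm ge N9513
def N13800 : Q := sm gg N9513
def N13801 : Q := sm gh N9513
def N13802 : Q := sm gi N9514
def N13803 : Q := sm gj N9515
def N13804 : Q := sm gg N9516
def N13805 : Q := sm gh N9516
def N13806 : Q := sm gj N9517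
def N13807 : Q := sm gh N9517
def N13808 : Q := sm gi N9518
def N13809 : Q := sm gb N9521
def N13810 : Q := sm gf N9521
def N13811 : Q := sm gh N9521
def N13812 : Q := sm ge N9522
def N13813 : Q := sm gg N9522
def N13814 : Q := sm gh N9522
def N13815 : Q := sm gi N9523
def N13816 : Q := sm gj N9524
def N13817 : Q := sm ge N9525
def N13818 : Q := sm gg N9525
def N13819 : Q := sm gh N9525
def N13820 : Q := sm gd N9526
def N13821 : Q := sm gi N9526
def N13822 : Q := sm gg N9527
def N13823 : Q := sm gh N9527
def N13824 : Q := sm gj N9528
def N13825 : Q := sm gh N9528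
def N13826 : Q := sm gi N9529
def N13827 : Q := sm gf N9532
def N13828 : Q := sm gj N9532
def N13829 : Q := sm gh N9532
def N13830 : Q := sm gd N9533
def N13831 : Q := sm gi N9533
def N13832 : Q := sm gh N9534
def N13833 : Q := sm gi N9535
def N13834 : Q := sm gf N9537
def N13835 : Q := sm gh N9537
def N13836 : Q := sm ge N9538
def N13837 : Q := sm gg N9538
def N13838 : Q := sm gh N9538
def N13839 : Q := sm gd N9539
def N13840 : Q := sm gi N9539
def N13841 : Q := sm gg N9540
def N13842 : Q := sm gh N9540
def N13843 : Q := sm gj N9541
def N13844 : Q := sm gh N9541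
def N13845 : Q := sm gi N9542
def N13846 : Q := sm gd N9545
def N13847 : Q := sm gg N9545
def N13848 : Q := sm gh N9545
def N13849 : Q := sm gj N9546
def N13850 : Q := sm gh N9546
def N13851 : Q := sm gd N9547
def N13852 : Q := sm gi N9547
def N13853 : Q := sm ge N9548
def N13854 : Q := sm gi N9548
def N13855 : Q := sm gf N9550
def N13856 : Q := sm gj N9550
def N13857 : Q := sm gh N9550
def N13858 : Q := sm gd N9551
def N13859 : Q := sm gi N9551
def N13860 : Q := sm gh N9552
def N13861 : Q := sm gi N9553
def N13862 : Q := sm gj N9555
def N13863 : Q := sm gh N9555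
def N13864 : Q := sm gh N9556
def N13865 : Q := sm gd N9557
def N13866 : Q := sm gi N9557
def N13867 : Q := sm gc N9558
def N13868 : Q := sm gi N9558
def N13869 : Q := sm gi N9560
def N13870 : Q := sm gb N9562
def N13871 : Q := sm gf N9562
def N13872 : Q := sm gh N9562
def N13873 : Q := sm ge N9563
def N13874 : Q := sm gg N9563
def N13875 : Q := sm gh N9563
def N13876 : Q := sm gi N9564
def N13877 : Q := sm gj N9565
def N13878 : Q := sm ge N9566
def N13879 : Q := sm gg N9566
def N13880 : Q := sm gh N9566
def N13881 : Q := sm gd N9567
def N13882 : Q := sm gi N9567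
def N13883 : Q := sm gg N9568
def N13884 : Q := sm gh N9568
def N13885 : Q := sm gj N9569
def N13886 : Q := sm gh N9569
def N13887 : Q := sm gi N9570
def N13888 : Q := sm gf N9573
def N13889 : Q := sm gj N9573
def N13890 : Q := sm gh N9573
def N13891 : Q := sm gd N9574
def N13892 : Q := sm gi N9574
def N13893 : Q := sm gh N9575
def N13894 : Q := sm gi N9576
def N13895 : Q := sm gf N9578
def N13896 : Q := sm gh N9578
def N13897 : Q := sm ge N9579
def N13898 : Q := sm gg N9579
def N13899 : Q := sm gh N9579
def N13900 : Q := sm gd N9580
def N13901 : Q := sm gi N9580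
def N13902 : Q := sm gg N9581
def N13903 : Q := sm gh N9581
def N13904 : Q := sm gj N9582
def N13905 : Q := sm gh N9582
def N13906 : Q := sm gi N9583
def N13907 : Q := sm gd N9586
def N13908 : Q := sm gg N9586
def N13909 : Q := sm gh N9586
def N13910 : Q := sm gj N9587
def N13911 : Q := sm gh N9587
def N13912 : Q := sm gd N9588
def N13913 : Q := sm gi N9588
def N13914 : Q := sm ge N9589
def N13915 : Q := sm gi N9589
def N13916 : Q := sm gf N9591
def N13917 : Q := sm gj N9591
def N13918 : Q := sm gh N9591
def N13919 : Q := sm gd N9592
def N13920 : Q := sm gi N9592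
def N13921 : Q := sm gh N9593
def N13922 : Q := sm gi N9594
def N13923 : Q := sm gj N9596
def N13924 : Q := sm gh N9596
def N13925 : Q := sm gh N9597
def N13926 : Q := sm gd N9598
def N13927 : Q := sm gi N9598
def N13928 : Q := sm gc N9599
def N13929 : Q := sm gi N9599
def N13930 : Q := sm gi N9601
def N13931 : Q := sm ge N9603
def N13932 : Q := sm gg N9603
def N13933 : Q := sm gh N9603
def N13934 : Q := sm gd N9604
def N13935 : Q := sm gi N9604
def N13936 : Q := sm gd N9605
def N13937 : Q := sm gg N9605
def N13938 : Q := sm gh N9605
def N13939 : Q := sm gj N9606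
def N13940 : Q := sm gh N9606
def N13941 : Q := sm gd N9607
def N13942 : Q := sm gi N9607
def N13943 : Q := sm ge N9608
def N13944 : Q := sm gi N9608
def N13945 : Q := sm gf N9610
def N13946 : Q := sm gj N9610
def N13947 : Q := sm gh N9610
def N13948 : Q := sm gd N9611
def N13949 : Q := sm gi N9611
def N13950 : Q := sm gh N9612
def N13951 : Q := sm gi N9613
def N13952 : Q := sm gg N9615
def N13953 : Q := sm gh N9615
def N13954 : Q := sm gf N9616
def N13955 : Q := sm gj N9616
def N13956 : Q := sm gh N9616
def N13957 : Q := sm gd N9617
def N13958 : Q := sm gi N9617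
def N13959 : Q := sm gh N9618
def N13960 : Q := sm gd N9619
def N13961 : Q := sm gi N9619
def N13962 : Q := sm ge N9620
def N13963 : Q := sm gi N9620
def N13964 : Q := sm gf N9622
def N13965 : Q := sm gi N9622
def N13966 : Q := sm gh N9623
def N13967 : Q := sm gj N9624
def N13968 : Q := sm gh N9624
def N13969 : Q := sm gh N9625
def N13970 : Q := sm gd N9626
def N13971 : Q := sm gi N9626
def N13972 : Q := sm gc N9627
def N13973 : Q := sm gi N9627
def N13974 : Q := sm gi N9629
def N13975 : Q := sm gg N9631
def N13976 : Q := sm gh N9631
def N13977 : Q := sm gd N9632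
def N13978 : Q := sm gi N9632
def N13979 : Q := sm gd N9633
def N13980 : Q := sm gi N9633
def N13981 : Q := sm gc N9634
def N13982 : Q := sm gi N9634
def N13983 : Q := sm gb N9636
def N13984 : Q := sm gi N9636
def N13985 : Q := sm gh N9637
def N13987 : Q := sm gf N9639
def N13989 : Q := sm ge N9640
def N13990 : Q := sm gg N9640
def N13991 : Q := sm gh N9640
def N13993 : Q := sm gj N9642
def N13994 : Q := sm ge N9643
def N13995 : Q := sm gg N9643
def N13996 : Q := sm gh N9643
def N13997 : Q := sm gd N9644
def N13998 : Q := sm gi N9644
def N13999 : Q := sm gg N9645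
def N14000 : Q := sm gh N9645
def N14001 : Q := sm gj N9646
def N14002 : Q := sm gh N9646
def N14003 : Q := sm gi N9647
def N14004 : Q := sm gf N9650
def N14005 : Q := sm gj N9650
def N14006 : Q := sm gh N9650
def N14007 : Q := sm gd N9651
def N14008 : Q := sm gi N9651
def N14009 : Q := sm gh N9652
def N14011 : Q := sm gf N9655
def N14012 : Q := sm gh N9655
def N14013 : Q := sm ge N9656
def N14014 : Q := sm gg N9656
def N14015 : Q := sm gh N9656
def N14016 : Q := sm gd N9657
def N14018 : Q := sm gg N9658
def N14019 : Q := sm gh N9658
def N14023 : Q := sm gd N9663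
def N14024 : Q := sm gg N9663
def N14025 : Q := sm gh N9663
def N14028 : Q := sm gd N9665
def N14029 : Q := sm gi N9665
def N14030 : Q := sm ge N9666
def N14032 : Q := sm gf N9668
def N14033 : Q := sm gj N9668
def N14034 : Q := sm gh N9668
def N14035 : Q := sm gd N9669
def N14036 : Q := sm gi N9669
def N14037 : Q := sm gh N9670
def N14039 : Q := sm gj N9673
def N14040 : Q := sm gh N9673
def N14041 : Q := sm gh N9674
def N14042 : Q := sm gd N9675
def N14043 : Q := sm gi N9675
def N14044 : Q := sm gc N9676
def N14045 : Q := sm gi N9676
def N14046 : Q := sm gi N9678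
def N14047 : Q := sm ge N9680
def N14048 : Q := sm gg N9680
def N14049 : Q := sm gh N9680
def N14050 : Q := sm gd N9681
def N14051 : Q := sm gi N9681
def N14052 : Q := sm gd N9682
def N14053 : Q := sm gg N9682
def N14054 : Q := sm gh N9682
def N14055 : Q := sm gj N9683
def N14056 : Q := sm gh N9683
def N14059 : Q := sm ge N9685
def N14061 : Q := sm gf N9687
def N14062 : Q := sm gj N9687
def N14063 : Q := sm gh N9687
def N14064 : Q := sm gd N9688
def N14067 : Q := sm gi N9690
def N14068 : Q := sm gg N9692
def N14069 : Q := sm gh N9692
def N14070 : Q := sm gf N9693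
def N14071 : Q := sm gj N9693
def N14072 : Q := sm gh N9693
def N14073 : Q := sm gd N9694
def N14075 : Q := sm gh N9695
def N14076 : Q := sm gd N9696
def N14078 : Q := sm ge N9697
def N14079 : Q := sm gi N9697
def N14080 : Q := sm gf N9699
def N14081 : Q := sm gi N9699
def N14082 : Q := sm gh N9700
def N14083 : Q := sm gj N9701
def N14084 : Q := sm gh N9701
def N14085 : Q := sm gh N9702
def N14086 : Q := sm gd N9703
def N14087 : Q := sm gi N9703
def N14088 : Q := sm gc N9704
def N14089 : Q := sm gi N9704
def N14090 : Q := sm gi N9706
def N14091 : Q := sm gg N9708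
def N14092 : Q := sm gh N9708
def N14093 : Q := sm gd N9709
def N14094 : Q := sm gi N9709
def N14095 : Q := sm gd N9710
def N14096 : Q := sm gi N9710
def N14097 : Q := sm gc N9711
def N14098 : Q := sm gi N9711
def N14099 : Q := sm gb N9713
def N14100 : Q := sm gi N9713
def N14101 : Q := sm gh N9714
def N14102 : Q := sm gd N9716
def N14103 : Q := sm gg N9716
def N14104 : Q := sm gh N9716
def N14105 : Q := sm gj N9717
def N14106 : Q := sm gh N9717
def N14107 : Q := sm gd N9718
def N14108 : Q := sm gi N9718
def N14111 : Q := sm gg N9721
def N14112 : Q := sm gh N9721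
def N14113 : Q := sm gf N9722
def N14114 : Q := sm gj N9722
def N14115 : Q := sm gh N9722
def N14116 : Q := sm gd N9723
def N14117 : Q := sm gi N9723
def N14118 : Q := sm gh N9724
def N14124 : Q := sm gj N9729
def N14125 : Q := sm gh N9729
def N14126 : Q := sm gh N9730
def N14127 : Q := sm gd N9731
def N14128 : Q := sm gi N9731
def N14129 : Q := sm gc N9732
def N14130 : Q := sm gi N9732
def N14131 : Q := sm gi N9734
def N14132 : Q := sm gf N9736
def N14133 : Q := sm gj N9736
def N14134 : Q := sm gh N9736
def N14135 : Q := sm gd N9737
def N14136 : Q := sm gi N9737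
def N14137 : Q := sm gj N9738
def N14138 : Q := sm gh N9738
def N14139 : Q := sm gh N9739
def N14140 : Q := sm gd N9740
def N14141 : Q := sm gi N9740
def N14142 : Q := sm gc N9741
def N14143 : Q := sm ge N9741
def N14144 : Q := sm gi N9741
def N14145 : Q := sm gd N9743
def N14146 : Q := sm gi N9743
def N14147 : Q := sm ge N9744
def N14150 : Q := sm gh N9747
def N14151 : Q := sm gg N9749
def N14152 : Q := sm gh N9749
def N14153 : Q := sm gd N9750
def N14154 : Q := sm gi N9750
def N14155 : Q := sm gd N9751
def N14156 : Q := sm gi N9751
def N14157 : Q := sm gc N9752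
def N14158 : Q := sm gi N9752
def N14159 : Q := sm gb N9754
def N14160 : Q := sm gi N9754
def N14161 : Q := sm gh N9755
def N14162 : Q := sm gh N9757
def N14163 : Q := sm gd N9758
def N14164 : Q := sm gi N9758
def N14165 : Q := sm gc N9759
def N14166 : Q := sm ge N9759
def N14167 : Q := sm gi N9759
def N14168 : Q := sm gc N9761
def N14169 : Q := sm gi N9761
def N14170 : Q := sm gb N9763
def N14171 : Q := sm gi N9763
def N14172 : Q := sm gh N9764
def N14173 : Q := sm ga N9765
def N14174 : Q := sm gi N9765
def N14175 : Q := sm gh N9766
def N14176 : Q := sm gc N9768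
def N14177 : Q := sm ge N9768
def N14178 : Q := sm gb N9769
def N14179 : Q := sm ge N9769
def N14180 : Q := sm gf N9770
def N14181 : Q := sm ga N9771
def N14182 : Q := sm ge N9771
def N14183 : Q := sm gd N9772
def N14184 : Q := sm gf N9772
def N14185 : Q := sm gg N9773
def N14186 : Q := sm ge N9774
def N14187 : Q := sm gd N9775
def N14188 : Q := sm gf N9775
def N14189 : Q := sm gf N9776
def N14190 : Q := sm gh N9776
def N14191 : Q := sm gg N9777
def N14192 : Q := sm gj N9778
def N14193 : Q := sm gd N9779
def N14194 : Q := sm gf N9779
def N14195 : Q := sm gc N9780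
def N14196 : Q := sm gf N9780
def N14197 : Q := sm gh N9780
def N14198 : Q := sm gg N9781
def N14199 : Q := sm ge N9782
def N14200 : Q := sm gg N9782
def N14201 : Q := sm gh N9782
def N14202 : Q := sm gi N9783
def N14203 : Q := sm gj N9784
def N14204 : Q := sm ga N9786
def N14205 : Q := sm ge N9786
def N14206 : Q := sm gd N9787
def N14207 : Q := sm gf N9787
def N14208 : Q := sm gg N9788
def N14209 : Q := sm ge N9789
def N14210 : Q := sm gd N9790
def N14211 : Q := sm gf N9790
def N14212 : Q := sm gf N9791
def N14213 : Q := sm gh N9791
def N14214 : Q := sm gg N9792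
def N14215 : Q := sm gj N9793
def N14216 : Q := sm gd N9794
def N14217 : Q := sm gf N9794
def N14218 : Q := sm gc N9795
def N14219 : Q := sm gf N9795
def N14220 : Q := sm gh N9795
def N14221 : Q := sm gg N9796
def N14222 : Q := sm ge N9797
def N14223 : Q := sm gg N9797
def N14224 : Q := sm gh N9797
def N14225 : Q := sm gi N9798
def N14226 : Q := sm gj N9799
def N14227 : Q := sm gc N9801
def N14228 : Q := sm gf N9801
def N14229 : Q := sm gh N9801
def N14230 : Q := sm gg N9802
def N14231 : Q := sm gf N9803
def N14232 : Q := sm gh N9803
def N14233 : Q := sm ge N9804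
def N14234 : Q := sm gg N9804
def N14235 : Q := sm gh N9804
def N14236 : Q := sm gi N9805
def N14237 : Q := sm gj N9806
def N14238 : Q := sm gg N9807
def N14239 : Q := sm gh N9807
def N14240 : Q := sm gj N9808
def N14241 : Q := sm gh N9808
def N14242 : Q := sm gi N9809
def N14243 : Q := sm ge N9812
def N14244 : Q := sm gd N9813
def N14245 : Q := sm gf N9813
def N14246 : Q := sm gf N9814
def N14247 : Q := sm gh N9814
def N14248 : Q := sm gg N9815
def N14249 : Q := sm gj N9816
def N14250 : Q := sm gd N9817
def N14251 : Q := sm gf N9817
def N14252 : Q := sm gc N9818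
def N14253 : Q := sm gf N9818
def N14254 : Q := sm gh N9818
def N14255 : Q := sm gg N9819
def N14256 : Q := sm ge N9820
def N14257 : Q := sm gg N9820
def N14258 : Q := sm gh N9820
def N14259 : Q := sm gi N9821
def N14260 : Q := sm gj N9822
def N14261 : Q := sm gc N9824
def N14262 : Q := sm gf N9824
def N14263 : Q := sm gh N9824
def N14264 : Q := sm gg N9825
def N14265 : Q := sm gf N9826
def N14266 : Q := sm gh N9826
def N14267 : Q := sm ge N9827
def N14268 : Q := sm gg N9827
def N14269 : Q := sm gh N9827
def N14270 : Q := sm gi N9828
def N14271 : Q := sm gj N9829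
def N14272 : Q := sm gg N9830
def N14273 : Q := sm gh N9830
def N14274 : Q := sm gj N9831
def N14275 : Q := sm gh N9831
def N14276 : Q := sm gi N9832
def N14277 : Q := sm gb N9835
def N14278 : Q := sm gf N9835
def N14279 : Q := sm gh N9835
def N14280 : Q := sm ge N9836
def N14281 : Q := sm gg N9836
def N14282 : Q := sm gh N9836
def N14284 : Q := sm gj N9838
def N14285 : Q := sm ge N9839
def N14286 : Q := sm gg N9839
def N14287 : Q := sm gh N9839
def N14288 : Q := sm gd N9840
def N14289 : Q := sm gi N9840
def N14290 : Q := sm gg N9841
def N14291 : Q := sm gh N9841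
def N14292 : Q := sm gj N9842
def N14293 : Q := sm gh N9842
def N14294 : Q := sm gi N9843
def N14295 : Q := sm gf N9846
def N14296 : Q := sm gj N9846
def N14297 : Q := sm gh N9846
def N14298 : Q := sm gd N9847
def N14299 : Q := sm gi N9847
def N14300 : Q := sm gh N9848
def N14301 : Q := sm gi N9849
def N14302 : Q := sm gd N9851
def N14303 : Q := sm gf N9851
def N14304 : Q := sm gc N9852
def N14305 : Q := sm gf N9852
def N14306 : Q := sm gh N9852
def N14307 : Q := sm gg N9853
def N14308 : Q := sm ge N9854
def N14309 : Q := sm gg N9854
def N14310 : Q := sm gh N9854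
def N14311 : Q := sm gi N9855
def N14312 : Q := sm gj N9856
def N14313 : Q := sm gc N9858
def N14314 : Q := sm gf N9858
def N14315 : Q := sm gh N9858
def N14316 : Q := sm gg N9859
def N14317 : Q := sm gf N9860
def N14318 : Q := sm gh N9860
def N14319 : Q := sm ge N9861
def N14320 : Q := sm gg N9861
def N14321 : Q := sm gh N9861
def N14322 : Q := sm gi N9862
def N14323 : Q := sm gj N9863
def N14324 : Q := sm gg N9864
def N14325 : Q := sm gh N9864
def N14326 : Q := sm gj N9865
def N14327 : Q := sm gh N9865
def N14328 : Q := sm gi N9866
def N14329 : Q := sm gb N9869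
def N14330 : Q := sm gf N9869
def N14331 : Q := sm gh N9869
def N14332 : Q := sm ge N9870
def N14333 : Q := sm gg N9870
def N14334 : Q := sm gh N9870
def N14335 : Q := sm gi N9871
def N14336 : Q := sm gj N9872
def N14337 : Q := sm ge N9873
def N14338 : Q := sm gg N9873
def N14339 : Q := sm gh N9873
def N14340 : Q := sm gd N9874
def N14341 : Q := sm gi N9874
def N14342 : Q := sm gg N9875
def N14343 : Q := sm gh N9875
def N14344 : Q := sm gj N9876
def N14345 : Q := sm gh N9876
def N14346 : Q := sm gi N9877
def N14347 : Q := sm gf N9880
def N14348 : Q := sm gj N9880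
def N14349 : Q := sm gh N9880
def N14350 : Q := sm gd N9881
def N14351 : Q := sm gi N9881
def N14352 : Q := sm gh N9882
def N14353 : Q := sm gi N9883
def N14354 : Q := sm gc N9885
def N14355 : Q := sm gf N9885
def N14357 : Q := sm gg N9886
def N14358 : Q := sm gf N9887
def N14359 : Q := sm gh N9887
def N14360 : Q := sm ge N9888
def N14361 : Q := sm gg N9888
def N14362 : Q := sm gh N9888
def N14363 : Q := sm gi N9889
def N14365 : Q := sm gg N9891
def N14366 : Q := sm gh N9891
def N14367 : Q := sm gj N9892
def N14368 : Q := sm gh N9892
def N14369 : Q := sm gi N9893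
def N14370 : Q := sm gb N9896
def N14371 : Q := sm gf N9896
def N14372 : Q := sm gh N9896
def N14373 : Q := sm ge N9897
def N14374 : Q := sm gg N9897
def N14375 : Q := sm gh N9897
def N14376 : Q := sm gi N9898
def N14377 : Q := sm gj N9899
def N14378 : Q := sm ge N9900
def N14379 : Q := sm gg N9900
def N14380 : Q := sm gh N9900
def N14381 : Q := sm gd N9901
def N14382 : Q := sm gi N9901
def N14383 : Q := sm gg N9902
def N14384 : Q := sm gh N9902
def N14385 : Q := sm gj N9903
def N14386 : Q := sm gh N9903
def N14387 : Q := sm gi N9904
def N14388 : Q := sm gf N9907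
def N14389 : Q := sm gj N9907
def N14390 : Q := sm gh N9907
def N14391 : Q := sm gd N9908
def N14392 : Q := sm gi N9908
def N14393 : Q := sm gh N9909
def N14394 : Q := sm gi N9910
def N14395 : Q := sm gf N9912
def N14396 : Q := sm gh N9912
def N14397 : Q := sm ge N9913
def N14398 : Q := sm gg N9913
def N14399 : Q := sm gh N9913
def N14400 : Q := sm gd N9914
def N14401 : Q := sm gi N9914
def N14402 : Q := sm gg N9915
def N14403 : Q := sm gh N9915
def N14404 : Q := sm gj N9916
def N14405 : Q := sm gh N9916
def N14406 : Q := sm gi N9917
def N14407 : Q := sm gd N9920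
def N14408 : Q := sm gg N9920
def N14409 : Q := sm gh N9920
def N14410 : Q := sm gj N9921
def N14411 : Q := sm gh N9921
def N14412 : Q := sm gd N9922
def N14413 : Q := sm gi N9922
def N14414 : Q := sm ge N9923
def N14415 : Q := sm gi N9923
def N14416 : Q := sm gf N9925
def N14417 : Q := sm gj N9925
def N14418 : Q := sm gh N9925
def N14419 : Q := sm gd N9926
def N14420 : Q := sm gi N9926
def N14421 : Q := sm gh N9927
def N14422 : Q := sm gi N9928
def N14423 : Q := sm gj N9930
def N14424 : Q := sm gh N9930
def N14425 : Q := sm gh N9931
def N14426 : Q := sm gd N9932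
def N14427 : Q := sm gi N9932
def N14428 : Q := sm gc N9933
def N14429 : Q := sm gi N9933
def N14430 : Q := sm gi N9935
def N14431 : Q := sm gb N9937
def N14432 : Q := sm gf N9937
def N14433 : Q := sm gh N9937
def N14435 : Q := sm gg N9938
def N14438 : Q := sm gj N9940
def N14440 : Q := sm gg N9941
def N14441 : Q := sm gh N9941
def N14442 : Q := sm gd N9942
def N14444 : Q := sm gg N9943
def N14445 : Q := sm gh N9943
def N14446 : Q := sm gj N9944
def N14447 : Q := sm gh N9944
def N14448 : Q := sm gi N9945
def N14449 : Q := sm gf N9948
def N14450 : Q := sm gj N9948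
def N14451 : Q := sm gh N9948
def N14452 : Q := sm gd N9949
def N14453 : Q := sm gi N9949
def N14454 : Q := sm gh N9950
def N14455 : Q := sm gi N9951
def N14456 : Q := sm gf N9953
def N14457 : Q := sm gh N9953
def N14458 : Q := sm ge N9954
def N14459 : Q := sm gg N9954
def N14460 : Q := sm gh N9954
def N14461 : Q := sm gd N9955
def N14462 : Q := sm gi N9955
def N14463 : Q := sm gg N9956
def N14464 : Q := sm gh N9956
def N14465 : Q := sm gj N9957
def N14466 : Q := sm gh N9957
def N14467 : Q := sm gi N9958
def N14468 : Q := sm gd N9961
def N14469 : Q := sm gg N9961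
def N14470 : Q := sm gh N9961
def N14471 : Q := sm gj N9962
def N14472 : Q := sm gh N9962
def N14473 : Q := sm gd N9963
def N14474 : Q := sm gi N9963
def N14475 : Q := sm ge N9964
def N14476 : Q := sm gi N9964
def N14477 : Q := sm gf N9966
def N14478 : Q := sm gj N9966
def N14479 : Q := sm gh N9966
def N14480 : Q := sm gd N9967
def N14481 : Q := sm gi N9967
def N14482 : Q := sm gh N9968
def N14483 : Q := sm gi N9969
def N14484 : Q := sm gj N9971
def N14485 : Q := sm gh N9971
def N14486 : Q := sm gh N9972
def N14487 : Q := sm gd N9973
def N14488 : Q := sm gi N9973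
def N14489 : Q := sm gc N9974
def N14490 : Q := sm gi N9974
def N14491 : Q := sm gi N9976
def N14492 : Q := sm ge N9978
def N14493 : Q := sm gg N9978
def N14494 : Q := sm gh N9978
def N14495 : Q := sm gd N9979
def N14496 : Q := sm gi N9979
def N14497 : Q := sm gd N9980
def N14498 : Q := sm gg N9980
def N14499 : Q := sm gh N9980
def N14500 : Q := sm gj N9981
def N14501 : Q := sm gh N9981
def N14502 : Q := sm gd N9982
def N14503 : Q := sm gi N9982
def N14504 : Q := sm ge N9983
def N14505 : Q := sm gi N9983
def N14506 : Q := sm gf N9985
def N14507 : Q := sm gj N9985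
def N14508 : Q := sm gh N9985
def N14509 : Q := sm gd N9986
def N14510 : Q := sm gi N9986
def N14511 : Q := sm gh N9987
def N14512 : Q := sm gi N9988
def N14513 : Q := sm gg N9990
def N14514 : Q := sm gh N9990
def N14515 : Q := sm gf N9991
def N14516 : Q := sm gj N9991
def N14517 : Q := sm gh N9991
def N14518 : Q := sm gd N9992
def N14519 : Q := sm gi N9992
def N14520 : Q := sm gh N9993
def N14521 : Q := sm gd N9994
def N14522 : Q := sm gi N9994
def N14523 : Q := sm ge N9995
def N14524 : Q := sm gi N9995
def N14525 : Q := sm gf N9997
def N14526 : Q := sm gi N9997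
def N14527 : Q := sm gh N9998
def N14528 : Q := sm gj N9999
def N14529 : Q := sm gh N9999
def N14530 : Q := sm gh N10000
def N14531 : Q := sm gd N10001
def N14532 : Q := sm gi N10001
def N14533 : Q := sm gc N10002
def N14534 : Q := sm gi N10002
def N14535 : Q := sm gi N10004
def N14536 : Q := sm gg N10006
def N14537 : Q := sm gh N10006
def N14538 : Q := sm gd N10007
def N14539 : Q := sm gi N10007
def N14540 : Q := sm gd N10008
def N14541 : Q := sm gi N10008
def N14542 : Q := sm gc N10009
def N14543 : Q := sm gi N10009
def N14544 : Q := sm gb N10011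
def N14545 : Q := sm gi N10011
def N14546 : Q := sm gh N10012
def N14547 : Q := sm gb N10014
def N14548 : Q := sm gf N10014
def N14549 : Q := sm gh N10014
def N14550 : Q := sm ge N10015
def N14551 : Q := sm gg N10015
def N14552 : Q := sm gh N10015
def N14553 : Q := sm gi N10016
def N14554 : Q := sm gj N10017
def N14555 : Q := sm ge N10018
def N14556 : Q := sm gg N10018
def N14557 : Q := sm gh N10018
def N14558 : Q := sm gd N10019
def N14559 : Q := sm gi N10019
def N14560 : Q := sm gg N10020
def N14561 : Q := sm gh N10020
def N14562 : Q := sm gj N10021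
def N14563 : Q := sm gh N10021
def N14564 : Q := sm gi N10022
def N14565 : Q := sm gf N10025
def N14566 : Q := sm gj N10025
def N14567 : Q := sm gh N10025
def N14568 : Q := sm gd N10026
def N14569 : Q := sm gi N10026
def N14570 : Q := sm gh N10027
def N14571 : Q := sm gi N10028
def N14572 : Q := sm gf N10030
def N14573 : Q := sm gh N10030
def N14574 : Q := sm ge N10031
def N14575 : Q := sm gg N10031
def N14576 : Q := sm gh N10031
def N14577 : Q := sm gd N10032
def N14578 : Q := sm gi N10032
def N14579 : Q := sm gg N10033
def N14580 : Q := sm gh N10033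
def N14581 : Q := sm gj N10034
def N14582 : Q := sm gh N10034
def N14583 : Q := sm gi N10035
def N14584 : Q := sm gd N10038
def N14585 : Q := sm gg N10038
def N14586 : Q := sm gh N10038
def N14587 : Q := sm gj N10039
def N14588 : Q := sm gh N10039
def N14589 : Q := sm gd N10040
def N14590 : Q := sm gi N10040
def N14591 : Q := sm ge N10041
def N14592 : Q := sm gi N10041
def N14593 : Q := sm gf N10043
def N14594 : Q := sm gj N10043
def N14595 : Q := sm gh N10043
def N14596 : Q := sm gd N10044
def N14597 : Q := sm gi N10044
def N14598 : Q := sm gh N10045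
def N14599 : Q := sm gi N10046
def N14600 : Q := sm gj N10048
def N14601 : Q := sm gh N10048
def N14602 : Q := sm gh N10049
def N14603 : Q := sm gd N10050
def N14604 : Q := sm gi N10050
def N14605 : Q := sm gc N10051
def N14606 : Q := sm gi N10051
def N14607 : Q := sm gi N10053
def N14608 : Q := sm gf N10055
def N14609 : Q := sm gh N10055
def N14610 : Q := sm ge N10056
def N14611 : Q := sm gg N10056
def N14612 : Q := sm gh N10056
def N14613 : Q := sm gd N10057
def N14614 : Q := sm gi N10057
def N14615 : Q := sm gg N10058
def N14616 : Q := sm gh N10058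
def N14617 : Q := sm gj N10059
def N14618 : Q := sm gh N10059
def N14619 : Q := sm gi N10060
def N14620 : Q := sm gd N10063
def N14621 : Q := sm gg N10063
def N14622 : Q := sm gh N10063
def N14623 : Q := sm gj N10064
def N14624 : Q := sm gh N10064
def N14625 : Q := sm gd N10065
def N14626 : Q := sm gi N10065
def N14627 : Q := sm ge N10066
def N14628 : Q := sm gi N10066
def N14629 : Q := sm gf N10068
def N14630 : Q := sm gj N10068
def N14631 : Q := sm gh N10068
def N14632 : Q := sm gd N10069
def N14633 : Q := sm gi N10069
def N14634 : Q := sm gh N10070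
def N14635 : Q := sm gi N10071
def N14636 : Q := sm gj N10073
def N14637 : Q := sm gh N10073
def N14638 : Q := sm gh N10074
def N14639 : Q := sm gd N10075
def N14640 : Q := sm gi N10075
def N14641 : Q := sm gc N10076
def N14642 : Q := sm gi N10076
def N14643 : Q := sm gi N10078
def N14644 : Q := sm ge N10080
def N14645 : Q := sm gg N10080
def N14646 : Q := sm gh N10080
def N14647 : Q := sm gd N10081
def N14648 : Q := sm gi N10081
def N14649 : Q := sm gd N10082
def N14650 : Q := sm gg N10082
def N14651 : Q := sm gh N10082
def N14652 : Q := sm gj N10083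
def N14653 : Q := sm gh N10083
def N14654 : Q := sm gd N10084
def N14655 : Q := sm gi N10084
def N14656 : Q := sm ge N10085
def N14657 : Q := sm gi N10085
def N14658 : Q := sm gf N10087
def N14659 : Q := sm gj N10087
def N14660 : Q := sm gh N10087
def N14661 : Q := sm gd N10088
def N14662 : Q := sm gi N10088
def N14663 : Q := sm gh N10089
def N14664 : Q := sm gi N10090
def N14665 : Q := sm gg N10092
def N14666 : Q := sm gh N10092
def N14667 : Q := sm gf N10093
def N14668 : Q := sm gj N10093
def N14669 : Q := sm gh N10093
def N14670 : Q := sm gd N10094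
def N14671 : Q := sm gi N10094
def N14672 : Q := sm gh N10095
def N14673 : Q := sm gd N10096
def N14674 : Q := sm gi N10096
def N14675 : Q := sm ge N10097
def N14676 : Q := sm gi N10097
def N14677 : Q := sm gf N10099
def N14678 : Q := sm gi N10099
def N14679 : Q := sm gh N10100
def N14680 : Q := sm gj N10101
def N14681 : Q := sm gh N10101
def N14682 : Q := sm gh N10102
def N14683 : Q := sm gd N10103
def N14684 : Q := sm gi N10103
def N14685 : Q := sm gc N10104
def N14686 : Q := sm gi N10104
def N14687 : Q := sm gi N10106
def N14688 : Q := sm gg N10108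
def N14689 : Q := sm gh N10108
def N14690 : Q := sm gd N10109
def N14691 : Q := sm gi N10109
def N14692 : Q := sm gd N10110
def N14693 : Q := sm gi N10110
def N14694 : Q := sm gc N10111
def N14695 : Q := sm gi N10111
def N14696 : Q := sm gb N10113
def N14697 : Q := sm gi N10113
def N14698 : Q := sm gh N10114
def N14699 : Q := sm ge N10116
def N14700 : Q := sm gg N10116
def N14701 : Q := sm gh N10116
def N14702 : Q := sm gd N10117
def N14703 : Q := sm gi N10117
def N14704 : Q := sm gd N10118
def N14705 : Q := sm gg N10118
def N14706 : Q := sm gh N10118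
def N14707 : Q := sm gj N10119
def N14708 : Q := sm gh N10119
def N14709 : Q := sm gd N10120
def N14710 : Q := sm gi N10120
def N14711 : Q := sm ge N10121
def N14712 : Q := sm gi N10121
def N14713 : Q := sm gf N10123
def N14714 : Q := sm gj N10123
def N14715 : Q := sm gh N10123
def N14716 : Q := sm gd N10124
def N14717 : Q := sm gi N10124
def N14718 : Q := sm gh N10125
def N14719 : Q := sm gi N10126
def N14720 : Q := sm gg N10128
def N14721 : Q := sm gh N10128
def N14722 : Q := sm gf N10129
def N14723 : Q := sm gj N10129
def N14724 : Q := sm gh N10129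
def N14725 : Q := sm gd N10130
def N14726 : Q := sm gi N10130
def N14727 : Q := sm gh N10131
def N14728 : Q := sm gd N10132
def N14729 : Q := sm gi N10132
def N14730 : Q := sm ge N10133
def N14731 : Q := sm gi N10133
def N14732 : Q := sm gf N10135
def N14733 : Q := sm gi N10135
def N14734 : Q := sm gh N10136
def N14735 : Q := sm gj N10137
def N14736 : Q := sm gh N10137
def N14737 : Q := sm gh N10138
def N14738 : Q := sm gd N10139
def N14739 : Q := sm gi N10139
def N14740 : Q := sm gc N10140
def N14741 : Q := sm gi N10140
def N14742 : Q := sm gi N10142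
def N14743 : Q := sm gg N10144
def N14744 : Q := sm gh N10144
def N14745 : Q := sm gd N10145
def N14746 : Q := sm gi N10145
def N14747 : Q := sm gd N10146
def N14748 : Q := sm gi N10146
def N14749 : Q := sm gc N10147
def N14750 : Q := sm gi N10147
def N14751 : Q := sm gb N10149
def N14752 : Q := sm gi N10149
def N14753 : Q := sm gh N10150
def N14754 : Q := sm gd N10152
def N14755 : Q := sm gg N10152
def N14756 : Q := sm gh N10152
def N14757 : Q := sm gj N10153
def N14758 : Q := sm gh N10153
def N14759 : Q := sm gd N10154
def N14760 : Q := sm gi N10154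
def N14761 : Q := sm gc N10155
def N14762 : Q := sm ge N10155
def N14764 : Q := sm gg N10157
def N14765 : Q := sm gh N10157
def N14766 : Q := sm gf N10158
def N14767 : Q := sm gj N10158
def N14768 : Q := sm gh N10158
def N14769 : Q := sm gd N10159
def N14770 : Q := sm gi N10159
def N14771 : Q := sm gh N10160
def N14772 : Q := sm gd N10161
def N14773 : Q := sm gi N10161
def N14774 : Q := sm ge N10162
def N14775 : Q := sm gi N10162
def N14776 : Q := sm gf N10164
def N14777 : Q := sm gi N10164
def N14779 : Q := sm gj N10166
def N14780 : Q := sm gh N10166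
def N14781 : Q := sm gh N10167
def N14782 : Q := sm gd N10168
def N14783 : Q := sm gi N10168
def N14784 : Q := sm gc N10169
def N14785 : Q := sm gi N10169
def N14786 : Q := sm gi N10171
def N14787 : Q := sm gf N10173
def N14788 : Q := sm gj N10173
def N14789 : Q := sm gh N10173
def N14790 : Q := sm gd N10174
def N14791 : Q := sm gi N10174
def N14792 : Q := sm gj N10175
def N14793 : Q := sm gh N10175
def N14794 : Q := sm gh N10176
def N14795 : Q := sm gd N10177
def N14796 : Q := sm gi N10177
def N14797 : Q := sm gc N10178
def N14798 : Q := sm ge N10178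
def N14799 : Q := sm gi N10178
def N14800 : Q := sm gd N10180
def N14801 : Q := sm gi N10180
def N14802 : Q := sm ge N10181
def N14803 : Q := sm gi N10181
def N14804 : Q := sm gf N10183
def N14805 : Q := sm gi N10183
def N14806 : Q := sm gh N10184
def N14807 : Q := sm gg N10185
def N14808 : Q := sm gi N10185
def N14809 : Q := sm gh N10186
def N14810 : Q := sm gg N10188
def N14811 : Q := sm gh N10188
def N14812 : Q := sm gd N10189
def N14813 : Q := sm gi N10189
def N14814 : Q := sm gd N10190
def N14815 : Q := sm gi N10190
def N14816 : Q := sm gc N10191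
def N14817 : Q := sm gi N10191
def N14818 : Q := sm gb N10193
def N14819 : Q := sm gi N10193
def N14820 : Q := sm gh N10194
def N14821 : Q := sm gh N10196
def N14822 : Q := sm gd N10197
def N14823 : Q := sm gi N10197
def N14824 : Q := sm gc N10198
def N14825 : Q := sm ge N10198
def N14826 : Q := sm gi N10198
def N14827 : Q := sm gc N10200
def N14828 : Q := sm gi N10200
def N14829 : Q := sm gb N10202
def N14830 : Q := sm gi N10202
def N14831 : Q := sm gh N10203
def N14832 : Q := sm ga N10204
def N14833 : Q := sm gi N10204
def N14834 : Q := sm gh N10205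
def N14835 : Q := sm gd N10207
def N14836 : Q := sm gg N10207
def N14837 : Q := sm gh N10207
def N14838 : Q := sm gj N10208
def N14839 : Q := sm gh N10208
def N14841 : Q := sm gi N10209
def N14845 : Q := sm gg N10212
def N14846 : Q := sm gh N10212
def N14847 : Q := sm gf N10213
def N14848 : Q := sm gj N10213
def N14849 : Q := sm gh N10213
def N14850 : Q := sm gd N10214
def N14851 : Q := sm gi N10214
def N14852 : Q := sm gh N10215
def N14853 : Q := sm gd N10216
def N14854 : Q := sm gi N10216
def N14856 : Q := sm gi N10217
def N14857 : Q := sm gf N10219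
def N14859 : Q := sm gj N10221
def N14860 : Q := sm gh N10221
def N14861 : Q := sm gh N10222
def N14862 : Q := sm gd N10223
def N14863 : Q := sm gi N10223
def N14864 : Q := sm gc N10224
def N14865 : Q := sm gi N10224
def N14866 : Q := sm gi N10226
def N14867 : Q := sm gf N10228
def N14868 : Q := sm gj N10228
def N14869 : Q := sm gh N10228
def N14870 : Q := sm gd N10229
def N14871 : Q := sm gi N10229
def N14872 : Q := sm gj N10230
def N14873 : Q := sm gh N10230
def N14874 : Q := sm gh N10231
def N14875 : Q := sm gd N10232
def N14877 : Q := sm gc N10233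
def N14878 : Q := sm ge N10233
def N14879 : Q := sm gi N10233
def N14880 : Q := sm gd N10235
def N14882 : Q := sm ge N10236
def N14884 : Q := sm gf N10238
def N14885 : Q := sm gi N10238
def N14886 : Q := sm gg N10240
def N14888 : Q := sm gg N10242
def N14889 : Q := sm gh N10242
def N14890 : Q := sm gd N10243
def N14891 : Q := sm gi N10243
def N14892 : Q := sm gd N10244
def N14893 : Q := sm gi N10244
def N14894 : Q := sm gc N10245
def N14895 : Q := sm gi N10245
def N14896 : Q := sm gb N10247
def N14897 : Q := sm gi N10247
def N14898 : Q := sm gh N10248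
def N14899 : Q := sm gh N10250
def N14900 : Q := sm gd N10251
def N14901 : Q := sm gi N10251
def N14902 : Q := sm gc N10252
def N14903 : Q := sm ge N10252
def N14904 : Q := sm gi N10252
def N14905 : Q := sm gc N10254
def N14906 : Q := sm gi N10254
def N14907 : Q := sm gb N10256
def N14908 : Q := sm gi N10256
def N14909 : Q := sm gh N10257
def N14910 : Q := sm ga N10258
def N14911 : Q := sm gi N10258
def N14912 : Q := sm gh N10259
def N14913 : Q := sm gc N10261
def N14914 : Q := sm gg N10261
def N14915 : Q := sm gh N10261
def N14916 : Q := sm gf N10262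
def N14917 : Q := sm gj N10262
def N14918 : Q := sm gh N10262
def N14919 : Q := sm gd N10263
def N14920 : Q := sm gi N10263
def N14922 : Q := sm gi N10265
def N14923 : Q := sm gf N10267
def N14924 : Q := sm gj N10267
def N14925 : Q := sm gh N10267
def N14926 : Q := sm gd N10268
def N14927 : Q := sm gi N10268
def N14928 : Q := sm gj N10269
def N14929 : Q := sm gh N10269
def N14930 : Q := sm gh N10270
def N14931 : Q := sm gd N10271
def N14932 : Q := sm gi N10271
def N14933 : Q := sm gc N10272
def N14936 : Q := sm gg N10276
def N14937 : Q := sm gh N10276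
def N14938 : Q := sm gd N10277
def N14939 : Q := sm gi N10277
def N14940 : Q := sm gd N10278
def N14942 : Q := sm gc N10279
def N14943 : Q := sm gi N10279
def N14944 : Q := sm gb N10281
def N14945 : Q := sm gi N10281
def N14946 : Q := sm gh N10282
def N14947 : Q := sm ge N10284
def N14948 : Q := sm gj N10284
def N14949 : Q := sm gh N10284
def N14950 : Q := sm gh N10285
def N14951 : Q := sm gd N10286
def N14952 : Q := sm gi N10286
def N14953 : Q := sm gc N10287
def N14954 : Q := sm gi N10287
def N14955 : Q := sm gg N10289
def N14956 : Q := sm gh N10289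
def N14957 : Q := sm gd N10290
def N14958 : Q := sm gi N10290
def N14959 : Q := sm gd N10291
def N14961 : Q := sm gc N10292
def N14962 : Q := sm gi N10292
def N14963 : Q := sm gb N10294
def N14964 : Q := sm gi N10294
def N14965 : Q := sm gh N10295
def N14966 : Q := sm gh N10297
def N14967 : Q := sm gd N10298
def N14968 : Q := sm gi N10298
def N14969 : Q := sm gc N10299
def N14970 : Q := sm ge N10299
def N14971 : Q := sm gi N10299
def N14972 : Q := sm gc N10301
def N14973 : Q := sm gi N10301
def N14974 : Q := sm gb N10303
def N14975 : Q := sm gi N10303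
def N14976 : Q := sm gh N10304
def N14977 : Q := sm ga N10305
def N14978 : Q := sm gi N10305
def N14979 : Q := sm gh N10306
def N14980 : Q := sm gd N10308
def N14981 : Q := sm gi N10308
def N14982 : Q := sm gc N10309
def N14983 : Q := sm ge N10309
def N14984 : Q := sm gi N10309
def N14985 : Q := sm gb N10311
def N14986 : Q := sm ge N10311
def N14987 : Q := sm gi N10311
def N14988 : Q := sm gi N10312
def N14989 : Q := sm gh N10313
def N14990 : Q := sm gb N10314
def N14991 : Q := sm gi N10314
def N14992 : Q := sm gh N10315
def N14993 : Q := sm ga N10316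
def N14994 : Q := sm gi N10316
def N14995 : Q := sm gh N10317
def N14996 : Q := sm gi N10319
def N14997 : Q := sm gh N10320
def N14998 : Q := sm gd N10321
def N14999 : Q := sm ge N10322
def N15000 : Q := sm gg N10322
def N15001 : Q := sm gh N10322
def N15002 : Q := sm gd N10323
def N15003 : Q := sm gi N10323
def N15004 : Q := sm gd N10324
def N15005 : Q := sm gg N10324
def N15006 : Q := sm gh N10324
def N15007 : Q := sm gj N10325
def N15008 : Q := sm gh N10325
def N15009 : Q := sm gd N10326
def N15010 : Q := sm gi N10326
def N15011 : Q := sm ge N10327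
def N15012 : Q := sm gi N10327
def N15013 : Q := sm gf N10329
def N15014 : Q := sm gj N10329
def N15015 : Q := sm gh N10329
def N15016 : Q := sm gd N10330
def N15017 : Q := sm gi N10330
def N15018 : Q := sm gh N10331
def N15019 : Q := sm gi N10332
def N15020 : Q := sm gg N10334
def N15021 : Q := sm gh N10334
def N15022 : Q := sm gf N10335
def N15023 : Q := sm gj N10335
def N15024 : Q := sm gh N10335
def N15025 : Q := sm gd N10336
def N15026 : Q := sm gi N10336
def N15027 : Q := sm gh N10337
def N15028 : Q := sm gd N10338
def N15029 : Q := sm gi N10338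
def N15030 : Q := sm ge N10339
def N15031 : Q := sm gi N10339
def N15032 : Q := sm gf N10341
def N15033 : Q := sm gi N10341
def N15035 : Q := sm gj N10343
def N15036 : Q := sm gh N10343
def N15037 : Q := sm gh N10344
def N15038 : Q := sm gd N10345
def N15039 : Q := sm gi N10345
def N15040 : Q := sm gc N10346
def N15041 : Q := sm gi N10346
def N15042 : Q := sm gi N10348
def N15043 : Q := sm gg N10350
def N15044 : Q := sm gh N10350
def N15045 : Q := sm gd N10351
def N15046 : Q := sm gi N10351
def N15047 : Q := sm gd N10352
def N15048 : Q := sm gi N10352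
def N15049 : Q := sm gc N10353
def N15050 : Q := sm gi N10353
def N15051 : Q := sm gb N10355
def N15052 : Q := sm gi N10355
def N15053 : Q := sm gh N10356
def N15054 : Q := sm gd N10358
def N15055 : Q := sm gg N10358
def N15056 : Q := sm gh N10358
def N15057 : Q := sm gj N10359
def N15058 : Q := sm gh N10359
def N15059 : Q := sm gd N10360
def N15060 : Q := sm gi N10360
def N15061 : Q := sm gc N10361
def N15062 : Q := sm ge N10361
def N15064 : Q := sm gg N10363
def N15065 : Q := sm gh N10363
def N15066 : Q := sm gf N10364
def N15067 : Q := sm gj N10364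
def N15068 : Q := sm gh N10364
def N15069 : Q := sm gd N10365
def N15070 : Q := sm gi N10365
def N15071 : Q := sm gh N10366
def N15072 : Q := sm gd N10367
def N15073 : Q := sm gi N10367
def N15074 : Q := sm ge N10368
def N15075 : Q := sm gi N10368
def N15076 : Q := sm gf N10370
def N15077 : Q := sm gi N10370
def N15078 : Q := sm gh N10371
def N15079 : Q := sm gj N10372
def N15080 : Q := sm gh N10372
def N15081 : Q := sm gh N10373
def N15082 : Q := sm gd N10374
def N15083 : Q := sm gi N10374
def N15084 : Q := sm gc N10375
def N15085 : Q := sm gi N10375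
def N15086 : Q := sm gi N10377
def N15087 : Q := sm gf N10379
def N15088 : Q := sm gj N10379
def N15089 : Q := sm gh N10379
def N15090 : Q := sm gd N10380
def N15091 : Q := sm gi N10380
def N15092 : Q := sm gj N10381
def N15093 : Q := sm gh N10381
def N15094 : Q := sm gh N10382
def N15095 : Q := sm gd N10383
def N15096 : Q := sm gi N10383
def N15097 : Q := sm gc N10384
def N15098 : Q := sm ge N10384
def N15099 : Q := sm gi N10384
def N15100 : Q := sm gd N10386
def N15101 : Q := sm gi N10386
def N15102 : Q := sm ge N10387
def N15103 : Q := sm gi N10387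
def N15104 : Q := sm gf N10389
def N15105 : Q := sm gi N10389
def N15106 : Q := sm gh N10390
def N15107 : Q := sm gg N10391
def N15108 : Q := sm gi N10391
def N15109 : Q := sm gh N10392
def N15110 : Q := sm gg N10394
def N15111 : Q := sm gh N10394
def N15112 : Q := sm gd N10395
def N15113 : Q := sm gi N10395
def N15114 : Q := sm gd N10396
def N15115 : Q := sm gi N10396
def N15116 : Q := sm gc N10397
def N15117 : Q := sm gi N10397
def N15118 : Q := sm gb N10399
def N15119 : Q := sm gi N10399
def N15120 : Q := sm gh N10400
def N15121 : Q := sm gh N10402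
def N15122 : Q := sm gd N10403
def N15123 : Q := sm gi N10403
def N15124 : Q := sm gc N10404
def N15125 : Q := sm ge N10404
def N15126 : Q := sm gi N10404
def N15127 : Q := sm gc N10406
def N15128 : Q := sm gi N10406
def N15129 : Q := sm gb N10408
def N15130 : Q := sm gi N10408
def N15131 : Q := sm gh N10409
def N15132 : Q := sm ga N10410
def N15133 : Q := sm gi N10410
def N15134 : Q := sm gh N10411
def N15135 : Q := sm gf N10413
def N15136 : Q := sm gj N10413
def N15137 : Q := sm gh N10413
def N15138 : Q := sm gd N10414
def N15139 : Q := sm gi N10414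
def N15140 : Q := sm gh N10415
def N15141 : Q := sm gd N10416
def N15142 : Q := sm gi N10416
def N15143 : Q := sm gc N10417
def N15148 : Q := sm gf N10420
def N15151 : Q := sm gj N10422
def N15152 : Q := sm gh N10422
def N15153 : Q := sm gh N10423
def N15154 : Q := sm gd N10424
def N15155 : Q := sm gi N10424
def N15156 : Q := sm gc N10425
def N15157 : Q := sm ge N10425
def N15158 : Q := sm gi N10425
def N15159 : Q := sm gd N10427
def N15160 : Q := sm gi N10427
def N15161 : Q := sm ge N10428
def N15162 : Q := sm gi N10428
def N15163 : Q := sm gf N10430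
def N15164 : Q := sm gi N10430
def N15165 : Q := sm gh N10431
def N15166 : Q := sm gg N10432
def N15167 : Q := sm gi N10432
def N15168 : Q := sm gh N10433
def N15169 : Q := sm gg N10435
def N15170 : Q := sm gh N10435
def N15171 : Q := sm gd N10436
def N15172 : Q := sm gi N10436
def N15173 : Q := sm gd N10437
def N15174 : Q := sm gi N10437
def N15175 : Q := sm gc N10438
def N15176 : Q := sm gi N10438
def N15177 : Q := sm gb N10440
def N15178 : Q := sm gi N10440
def N15179 : Q := sm gh N10441
def N15180 : Q := sm gg N10443
def N15181 : Q := sm gh N10443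
def N15182 : Q := sm gd N10444
def N15183 : Q := sm gi N10444
def N15184 : Q := sm gd N10445
def N15185 : Q := sm gi N10445
def N15186 : Q := sm gc N10446
def N15187 : Q := sm ge N10446
def N15188 : Q := sm gi N10446
def N15189 : Q := sm gb N10448
def N15190 : Q := sm ge N10448
def N15191 : Q := sm gi N10448
def N15192 : Q := sm gf N10449
def N15193 : Q := sm gi N10449
def N15194 : Q := sm gh N10450
def N15195 : Q := sm ge N10451
def N15196 : Q := sm gi N10451
def N15197 : Q := sm gf N10453
def N15198 : Q := sm gi N10453
def N15199 : Q := sm gh N10454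
def N15200 : Q := sm gg N10455
def N15201 : Q := sm gi N10455
def N15202 : Q := sm gh N10456
def N15203 : Q := sm gj N10458
def N15204 : Q := sm gi N10458
def N15205 : Q := sm gh N10459
def N15206 : Q := sm gd N10460
def N15207 : Q := sm gh N10461
def N15208 : Q := sm gd N10462
def N15209 : Q := sm gi N10462
def N15210 : Q := sm gc N10463
def N15211 : Q := sm ge N10463
def N15212 : Q := sm gi N10463
def N15213 : Q := sm gc N10465
def N15214 : Q := sm gi N10465
def N15215 : Q := sm gb N10467
def N15216 : Q := sm gi N10467
def N15217 : Q := sm gh N10468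
def N15218 : Q := sm ga N10469
def N15219 : Q := sm gi N10469
def N15220 : Q := sm gh N10470
def N15221 : Q := sm gd N10472
def N15222 : Q := sm gi N10472
def N15223 : Q := sm gc N10473
def N15224 : Q := sm ge N10473
def N15225 : Q := sm gi N10473
def N15226 : Q := sm gb N10475
def N15227 : Q := sm ge N10475
def N15228 : Q := sm gi N10475
def N15229 : Q := sm gi N10476
def N15230 : Q := sm gh N10477
def N15231 : Q := sm gb N10478
def N15232 : Q := sm gi N10478
def N15233 : Q := sm gh N10479
def N15234 : Q := sm ga N10480
def N15235 : Q := sm gi N10480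
def N15236 : Q := sm gh N10481
def N15237 : Q := sm gi N10483
def N15238 : Q := sm gh N10484
def N15239 : Q := sm gd N10485
def N15240 : Q := sm gh N10486
def N15241 : Q := sm gd N10487
def N15242 : Q := sm gi N10487
def N15243 : Q := sm gc N10488
def N15244 : Q := sm ge N10488
def N15245 : Q := sm gi N10488
def N15246 : Q := sm gc N10490
def N15247 : Q := sm gi N10490
def N15248 : Q := sm gb N10492
def N15249 : Q := sm gi N10492
def N15250 : Q := sm gh N10493
def N15251 : Q := sm ga N10494
def N15252 : Q := sm gi N10494
def N15253 : Q := sm gh N10495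
def N15254 : Q := sm gd N10497
def N15256 : Q := sm gc N10498
def N15258 : Q := sm gi N10498
def N15259 : Q := sm gb N10500
def N15260 : Q := sm ge N10500
def N15261 : Q := sm gi N10500
def N15262 : Q := sm gi N10501
def N15263 : Q := sm gh N10502
def N15264 : Q := sm gb N10503
def N15265 : Q := sm gi N10503
def N15266 : Q := sm gh N10504
def N15267 : Q := sm ga N10505
def N15268 : Q := sm gi N10505
def N15269 : Q := sm gh N10506
def N15270 : Q := sm gi N10508
def N15271 : Q := sm gh N10509
def N15272 : Q := sm gd N10510
def N15273 : Q := sm gc N10511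
def N15274 : Q := sm ge N10511
def N15275 : Q := sm gi N10511
def N15276 : Q := sm gb N10513
def N15281 : Q := sm ga N10516
def N15282 : Q := sm ge N10516
def N15283 : Q := sm gi N10516
def N15284 : Q := sm gd N10517
def N15288 : Q := sm ga N10521
def N15290 : Q := sm gh N10522
def N15291 : Q := sm gi N10524
def N15292 : Q := sm gh N10525
def N15293 : Q := sm gd N10526
def N15294 : Q := sm gh N10527
def N15295 : Q := sm gd N10528
def N15296 : Q := sm ge N10529
def N15298 : Q := sm ge N10530
def N15300 : Q := sm gf N10531
def N15301 : Q := sm gi N10531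
def N15302 : Q := sm gh N10532
def N15304 : Q := sm ge N10533
def N15305 : Q := sm gi N10533
def N15306 : Q := sm gd N10534
def N15307 : Q := sm gi N10534
def N15310 : Q := sm ge N10538
def N15311 : Q := sm gi N10538
def N15312 : Q := sm gd N10539
def N15313 : Q := sm gi N10539
def N15314 : Q := sm gh N10540
def N15315 : Q := sm gh N10541
def N15316 : Q := sm gi N10541
def N15317 : Q := sm gh N10542
def N15318 : Q := sm gd N10543
def N15321 : Q := sm gh N10546
def N15323 : Q := sm gh N10548
def N15324 : Q := sm gd N10549
def N15325 : Q := sm ge N10550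
def N15326 : Q := sm gd N10551
def N15327 : Q := sm gc N10552
def N15328 : Q := sm ge N10552
def N15329 : Q := sm gf N10553
def N15330 : Q := sm gd N10554
def N15331 : Q := sm gi N10554
def N15332 : Q := sm gh N10555
def N15333 : Q := sm gh N10556
def N15334 : Q := sm gd N10557
def N15335 : Q := sm gd N10558
def N15336 : Q := sm gc N10559
def N15338 : Q := sm gc N10560
def N15341 : Q := sm ge N10561
def N15345 : Q := sm gd N10564
def N15346 : Q := sm gf N10564
def N15348 : Q := sm gb N10566
def N15349 : Q := sm ge N10566
def N15350 : Q := sm gf N10567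
def N15351 : Q := sm ga N10568
def N15352 : Q := sm ge N10568
def N15354 : Q := sm gf N10569
def N15355 : Q := sm gg N10570
def N15356 : Q := sm ge N10571
def N15358 : Q := sm gf N10572
def N15359 : Q := sm gf N10573
def N15360 : Q := sm gh N10573
def N15361 : Q := sm gg N10574
def N15362 : Q := sm gj N10575
def N15363 : Q := sm gd N10576
def N15364 : Q := sm gf N10576
def N15365 : Q := sm gc N10577
def N15366 : Q := sm gf N10577
def N15367 : Q := sm gh N10577
def N15368 : Q := sm gg N10578
def N15369 : Q := sm ge N10579
def N15370 : Q := sm gg N10579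
def N15374 : Q := sm gc N10583
def N15376 : Q := sm gh N10583
def N15377 : Q := sm gg N10584
def N15378 : Q := sm gf N10585
def N15379 : Q := sm gh N10585
def N15380 : Q := sm ge N10586
def N15384 : Q := sm gj N10588
def N15385 : Q := sm gg N10589
def N15386 : Q := sm gh N10589
def N15389 : Q := sm gi N10591
def N15390 : Q := sm gc N10594
def N15392 : Q := sm gb N10595
def N15396 : Q := sm ge N10597
def N15400 : Q := sm ge N10600
def N15401 : Q := sm gd N10601
def N15403 : Q := sm gf N10602
def N15405 : Q := sm gg N10603
def N15407 : Q := sm ge N10605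
def N15408 : Q := sm gd N10606
def N15409 : Q := sm gf N10606
def N15410 : Q := sm gf N10607
def N15412 : Q := sm gg N10608
def N15413 : Q := sm gj N10609
def N15414 : Q := sm gd N10610
def N15415 : Q := sm gf N10610
def N15416 : Q := sm gc N10611
def N15417 : Q := sm gf N10611
def N15419 : Q := sm gg N10612
def N15420 : Q := sm ge N10613
def N15423 : Q := sm gi N10614
def N15424 : Q := sm gj N10615
def N15425 : Q := sm gc N10617
def N15426 : Q := sm gf N10617
def N15428 : Q := sm gg N10618
def N15429 : Q := sm gf N10619
def N15430 : Q := sm gh N10619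
def N15431 : Q := sm ge N10620
def N15432 : Q := sm gg N10620
def N15433 : Q := sm gh N10620
def N15434 : Q := sm gi N10621
def N15435 : Q := sm gj N10622
def N15436 : Q := sm gg N10623
def N15437 : Q := sm gh N10623
def N15438 : Q := sm gj N10624
def N15441 : Q := sm gb N10628
def N15442 : Q := sm gf N10628
def N15443 : Q := sm gh N10628
def N15444 : Q := sm ge N10629
def N15446 : Q := sm gh N10629
def N15447 : Q := sm gi N10630
def N15448 : Q := sm gj N10631
def N15449 : Q := sm ge N10632
def N15450 : Q := sm gg N10632
def N15451 : Q := sm gh N10632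
def N15452 : Q := sm gd N10633
def N15453 : Q := sm gi N10633
def N15454 : Q := sm gg N10634
def N15457 : Q := sm gh N10635
def N15458 : Q := sm gi N10636
def N15459 : Q := sm gf N10639
def N15460 : Q := sm gj N10639
def N15461 : Q := sm gh N10639
def N15462 : Q := sm gd N10640
def N15466 : Q := sm gb N10644
def N15470 : Q := sm ge N10646
def N15475 : Q := sm gd N10650
def N15481 : Q := sm gd N10654
def N15484 : Q := sm gf N10655
def N15488 : Q := sm gg N10657
def N15489 : Q := sm gh N10657
def N15491 : Q := sm gj N10659
def N15492 : Q := sm gd N10661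
def N15495 : Q := sm gf N10662
def N15496 : Q := sm gh N10662
def N15497 : Q := sm gg N10663
def N15500 : Q := sm gh N10664
def N15502 : Q := sm gj N10666
def N15503 : Q := sm gc N10668
def N15504 : Q := sm gf N10668
def N15505 : Q := sm gh N10668
def N15506 : Q := sm gg N10669
def N15507 : Q := sm gf N10670
def N15508 : Q := sm gh N10670
def N15509 : Q := sm ge N10671
def N15510 : Q := sm gg N10671
def N15513 : Q := sm gj N10673
def N15514 : Q := sm gg N10674
def N15515 : Q := sm gh N10674
def N15517 : Q := sm gh N10675
def N15519 : Q := sm gb N10679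
def N15520 : Q := sm gf N10679
def N15522 : Q := sm ge N10680
def N15523 : Q := sm gg N10680
def N15526 : Q := sm gj N10682
def N15527 : Q := sm ge N10683
def N15528 : Q := sm gg N10683
def N15529 : Q := sm gh N10683
def N15530 : Q := sm gd N10684
def N15532 : Q := sm gg N10685
def N15533 : Q := sm gh N10685
def N15534 : Q := sm gj N10686
def N15535 : Q := sm gh N10686
def N15536 : Q := sm gi N10687
def N15544 : Q := sm gf N10695
def N15545 : Q := sm gh N10695
def N15546 : Q := sm ge N10696
def N15547 : Q := sm gg N10696
def N15548 : Q := sm gh N10696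
def N15549 : Q := sm gd N10697
def N15550 : Q := sm gi N10697
def N15551 : Q := sm gg N10698
def N15554 : Q := sm gh N10699
def N15555 : Q := sm gi N10700
def N15556 : Q := sm gd N10703
def N15557 : Q := sm gg N10703
def N15558 : Q := sm gh N10703
def N15559 : Q := sm gj N10704
def N15560 : Q := sm gh N10704
def N15561 : Q := sm gd N10705
def N15562 : Q := sm gi N10705
def N15563 : Q := sm ge N10706
def N15565 : Q := sm gf N10708
def N15566 : Q := sm gj N10708
def N15567 : Q := sm gh N10708
def N15568 : Q := sm gd N10709
def N15569 : Q := sm gi N10709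
def N15570 : Q := sm gh N10710
def N15571 : Q := sm gi N10711
def N15572 : Q := sm gj N10713
def N15574 : Q := sm gh N10714
def N15575 : Q := sm gd N10715
def N15577 : Q := sm gc N10716
def N15578 : Q := sm gi N10716
def N15581 : Q := sm gf N10720
def N15582 : Q := sm gc N10721
def N15583 : Q := sm gf N10721
def N15584 : Q := sm gh N10721
def N15585 : Q := sm gg N10722
def N15586 : Q := sm ge N10723
def N15589 : Q := sm gi N10724
def N15591 : Q := sm gc N10727
def N15592 : Q := sm gf N10727
def N15595 : Q := sm gf N10729
def N15596 : Q := sm gh N10729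
def N15597 : Q := sm ge N10730
def N15598 : Q := sm gg N10730
def N15599 : Q := sm gh N10730
def N15601 : Q := sm gj N10732
def N15602 : Q := sm gg N10733
def N15604 : Q := sm gj N10734
def N15607 : Q := sm gb N10738
def N15608 : Q := sm gf N10738
def N15609 : Q := sm gh N10738
def N15610 : Q := sm ge N10739
def N15612 : Q := sm gh N10739
def N15615 : Q := sm ge N10742
def N15616 : Q := sm gg N10742
def N15617 : Q := sm gh N10742
def N15618 : Q := sm gd N10743
def N15620 : Q := sm gg N10744
def N15621 : Q := sm gh N10744
def N15622 : Q := sm gj N10745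
def N15624 : Q := sm gi N10746
def N15625 : Q := sm gf N10749
def N15626 : Q := sm gj N10749
def N15629 : Q := sm gi N10750
def N15631 : Q := sm gi N10752
def N15632 : Q := sm gf N10754
def N15633 : Q := sm gh N10754
def N15634 : Q := sm ge N10755
def N15635 : Q := sm gg N10755
def N15636 : Q := sm gh N10755
def N15637 : Q := sm gd N10756
def N15638 : Q := sm gi N10756
def N15639 : Q := sm gg N10757
def N15640 : Q := sm gh N10757
def N15641 : Q := sm gj N10758
def N15642 : Q := sm gh N10758
def N15643 : Q := sm gi N10759
def N15644 : Q := sm gd N10762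
def N15645 : Q := sm gg N10762
def N15646 : Q := sm gh N10762
def N15647 : Q := sm gj N10763
def N15648 : Q := sm gh N10763
def N15649 : Q := sm gd N10764
def N15650 : Q := sm gi N10764
def N15651 : Q := sm ge N10765
def N15652 : Q := sm gi N10765
def N15655 : Q := sm gh N10767
def N15656 : Q := sm gd N10768
def N15657 : Q := sm gi N10768
def N15658 : Q := sm gh N10769
def N15659 : Q := sm gi N10770
def N15660 : Q := sm gj N10772
def N15661 : Q := sm gh N10772
def N15662 : Q := sm gh N10773
def N15663 : Q := sm gd N10774
def N15665 : Q := sm gc N10775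
def N15666 : Q := sm gi N10775
def N15669 : Q := sm gf N10779
def N15670 : Q := sm gh N10779
def N15672 : Q := sm gf N10781
def N15673 : Q := sm gh N10781
def N15675 : Q := sm gg N10782
def N15676 : Q := sm gh N10782
def N15677 : Q := sm gi N10783
def N15678 : Q := sm gj N10784
def N15679 : Q := sm gg N10785
def N15680 : Q := sm gh N10785
def N15685 : Q := sm gf N10790
def N15686 : Q := sm gh N10790
def N15687 : Q := sm ge N10791
def N15688 : Q := sm gg N10791
def N15689 : Q := sm gh N10791
def N15692 : Q := sm ge N10794
def N15693 : Q := sm gg N10794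
def N15694 : Q := sm gh N10794
def N15695 : Q := sm gd N10795
def N15696 : Q := sm gi N10795
def N15697 : Q := sm gg N10796
def N15698 : Q := sm gh N10796
def N15699 : Q := sm gj N10797
def N15700 : Q := sm gh N10797
def N15701 : Q := sm gi N10798
def N15702 : Q := sm gf N10801
def N15705 : Q := sm gd N10802
def N15709 : Q := sm gf N10806
def N15711 : Q := sm ge N10807
def N15712 : Q := sm gg N10807
def N15713 : Q := sm gh N10807
def N15714 : Q := sm gd N10808
def N15715 : Q := sm gi N10808
def N15716 : Q := sm gg N10809
def N15718 : Q := sm gj N10810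
def N15719 : Q := sm gh N10810
def N15721 : Q := sm gd N10814
def N15722 : Q := sm gg N10814
def N15723 : Q := sm gh N10814
def N15724 : Q := sm gj N10815
def N15725 : Q := sm gh N10815
def N15727 : Q := sm gi N10816
def N15728 : Q := sm ge N10817
def N15730 : Q := sm gf N10819
def N15731 : Q := sm gj N10819
def N15732 : Q := sm gh N10819
def N15733 : Q := sm gd N10820
def N15734 : Q := sm gi N10820
def N15735 : Q := sm gh N10821
def N15736 : Q := sm gi N10822
def N15744 : Q := sm gi N10829
def N15745 : Q := sm ge N10831
def N15746 : Q := sm gg N10831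
def N15747 : Q := sm gh N10831
def N15750 : Q := sm gd N10833
def N15751 : Q := sm gg N10833
def N15752 : Q := sm gh N10833
def N15753 : Q := sm gj N10834
def N15754 : Q := sm gh N10834
def N15755 : Q := sm gd N10835
def N15756 : Q := sm gi N10835
def N15757 : Q := sm ge N10836
def N15758 : Q := sm gi N10836
def N15759 : Q := sm gf N10838
def N15760 : Q := sm gj N10838
def N15761 : Q := sm gh N10838
def N15762 : Q := sm gd N10839
def N15763 : Q := sm gi N10839
def N15764 : Q := sm gh N10840
def N15765 : Q := sm gi N10841
def N15766 : Q := sm gg N10843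
def N15767 : Q := sm gh N10843
def N15768 : Q := sm gf N10844
def N15769 : Q := sm gj N10844
def N15770 : Q := sm gh N10844
def N15771 : Q := sm gd N10845
def N15772 : Q := sm gi N10845
def N15773 : Q := sm gh N10846
def N15774 : Q := sm gd N10847
def N15775 : Q := sm gi N10847
def N15776 : Q := sm ge N10848
def N15777 : Q := sm gi N10848
def N15778 : Q := sm gf N10850
def N15779 : Q := sm gi N10850
def N15780 : Q := sm gh N10851
def N15781 : Q := sm gj N10852
def N15782 : Q := sm gh N10852
def N15783 : Q := sm gh N10853
def N15784 : Q := sm gd N10854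
def N15785 : Q := sm gi N10854
def N15786 : Q := sm gc N10855
def N15787 : Q := sm gi N10855
def N15788 : Q := sm gi N10857
def N15791 : Q := sm gd N10860
def N15793 : Q := sm gd N10861
def N15795 : Q := sm gc N10862
def N15796 : Q := sm gi N10862
def N15797 : Q := sm gb N10864
def N15799 : Q := sm gh N10865
def N15800 : Q := sm gb N10867
def N15801 : Q := sm gf N10867
def N15803 : Q := sm ge N10868
def N15805 : Q := sm gh N10868
def N15808 : Q := sm ge N10871
def N15810 : Q := sm gh N10871
def N15811 : Q := sm gd N10872
def N15816 : Q := sm gh N10874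
def N15817 : Q := sm gi N10875
def N15820 : Q := sm gh N10878
def N15821 : Q := sm gd N10879
def N15822 : Q := sm gi N10879
def N15824 : Q := sm gi N10881
def N15825 : Q := sm gf N10883
def N15826 : Q := sm gh N10883
def N15828 : Q := sm gg N10884
def N15829 : Q := sm gh N10884
def N15830 : Q := sm gd N10885
def N15831 : Q := sm gi N10885
def N15832 : Q := sm gg N10886
def N15833 : Q := sm gh N10886
def N15838 : Q := sm gg N10891
def N15839 : Q := sm gh N10891
def N15840 : Q := sm gj N10892
def N15841 : Q := sm gh N10892
def N15842 : Q := sm gd N10893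
def N15844 : Q := sm ge N10894
def N15845 : Q := sm gi N10894
def N15846 : Q := sm gf N10896
def N15847 : Q := sm gj N10896
def N15848 : Q := sm gh N10896
def N15849 : Q := sm gd N10897
def N15854 : Q := sm gh N10901
def N15855 : Q := sm gh N10902
def N15856 : Q := sm gd N10903
def N15857 : Q := sm gi N10903
def N15858 : Q := sm gc N10904
def N15860 : Q := sm gi N10906
def N15861 : Q := sm ge N10908
def N15862 : Q := sm gg N10908
def N15866 : Q := sm gd N10910
def N15867 : Q := sm gg N10910
def N15868 : Q := sm gh N10910
def N15869 : Q := sm gj N10911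
def N15870 : Q := sm gh N10911
def N15871 : Q := sm gd N10912
def N15872 : Q := sm gi N10912
def N15873 : Q := sm ge N10913
def N15875 : Q := sm gf N10915
def N15876 : Q := sm gj N10915
def N15877 : Q := sm gh N10915
def N15878 : Q := sm gd N10916
def N15880 : Q := sm gh N10917
def N15882 : Q := sm gg N10920
def N15883 : Q := sm gh N10920
def N15884 : Q := sm gf N10921
def N15885 : Q := sm gj N10921
def N15886 : Q := sm gh N10921
def N15887 : Q := sm gd N10922
def N15888 : Q := sm gi N10922
def N15889 : Q := sm gh N10923
def N15890 : Q := sm gd N10924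
def N15891 : Q := sm gi N10924
def N15892 : Q := sm ge N10925
def N15893 : Q := sm gi N10925
def N15894 : Q := sm gf N10927
def N15897 : Q := sm gj N10929
def N15898 : Q := sm gh N10929
def N15899 : Q := sm gh N10930
def N15900 : Q := sm gd N10931
def N15901 : Q := sm gi N10931
def N15902 : Q := sm gc N10932
def N15903 : Q := sm gi N10932
def N15904 : Q := sm gi N10934
def N15905 : Q := sm gg N10936
def N15906 : Q := sm gh N10936
def N15907 : Q := sm gd N10937
def N15908 : Q := sm gi N10937
def N15909 : Q := sm gd N10938
def N15910 : Q := sm gi N10938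
def N15911 : Q := sm gc N10939
def N15912 : Q := sm gi N10939
def N15913 : Q := sm gb N10941
def N15914 : Q := sm gi N10941
def N15916 : Q := sm gd N10944
def N15917 : Q := sm gg N10944
def N15918 : Q := sm gh N10944
def N15919 : Q := sm gj N10945
def N15920 : Q := sm gh N10945
def N15921 : Q := sm gd N10946
def N15923 : Q := sm gc N10947
def N15925 : Q := sm gi N10947
def N15926 : Q := sm gg N10949
def N15927 : Q := sm gh N10949
def N15928 : Q := sm gf N10950
def N15929 : Q := sm gj N10950
def N15930 : Q := sm gh N10950
def N15931 : Q := sm gd N10951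
def N15932 : Q := sm gi N10951
def N15933 : Q := sm gh N10952
def N15934 : Q := sm gd N10953
def N15935 : Q := sm gi N10953
def N15936 : Q := sm ge N10954
def N15937 : Q := sm gi N10954
def N15938 : Q := sm gf N10956
def N15939 : Q := sm gi N10956
def N15941 : Q := sm gj N10958
def N15942 : Q := sm gh N10958
def N15943 : Q := sm gh N10959
def N15944 : Q := sm gd N10960
def N15945 : Q := sm gi N10960
def N15946 : Q := sm gc N10961
def N15947 : Q := sm gi N10961
def N15948 : Q := sm gi N10963
def N15949 : Q := sm gf N10965
def N15950 : Q := sm gj N10965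
def N15951 : Q := sm gh N10965
def N15952 : Q := sm gd N10966
def N15953 : Q := sm gi N10966
def N15954 : Q := sm gj N10967
def N15955 : Q := sm gh N10967
def N15956 : Q := sm gh N10968
def N15957 : Q := sm gd N10969
def N15958 : Q := sm gi N10969
def N15959 : Q := sm gc N10970
def N15960 : Q := sm ge N10970
def N15961 : Q := sm gi N10970
def N15962 : Q := sm gd N10972
def N15963 : Q := sm gi N10972
def N15964 : Q := sm ge N10973
def N15966 : Q := sm gf N10975
def N15967 : Q := sm gi N10975
def N15969 : Q := sm gg N10977
def N15970 : Q := sm gi N10977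
def N15972 : Q := sm gg N10980
def N15973 : Q := sm gh N10980
def N15974 : Q := sm gd N10981
def N15975 : Q := sm gi N10981
def N15976 : Q := sm gd N10982
def N15977 : Q := sm gi N10982
def N15978 : Q := sm gc N10983
def N15979 : Q := sm gi N10983
def N15980 : Q := sm gi N10985
def N15981 : Q := sm gh N10986
def N15982 : Q := sm gh N10988
def N15983 : Q := sm gd N10989
def N15984 : Q := sm gi N10989
def N15985 : Q := sm ge N10990
def N15986 : Q := sm gi N10990
def N15987 : Q := sm gi N10992
def N15988 : Q := sm gh N10994
def N15989 : Q := sm gf N10996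
def N15990 : Q := sm gh N10996
def N15991 : Q := sm ge N10997
def N15992 : Q := sm gg N10997
def N15993 : Q := sm gh N10997
def N15994 : Q := sm gd N10998
def N15996 : Q := sm gg N10999
def N15998 : Q := sm gj N11000
def N16001 : Q := sm gd N11004
def N16002 : Q := sm gg N11004
def N16003 : Q := sm gh N11004
def N16004 : Q := sm gj N11005
def N16005 : Q := sm gh N11005
def N16006 : Q := sm gd N11006
def N16007 : Q := sm gi N11006
def N16008 : Q := sm ge N11007
def N16010 : Q := sm gf N11009
def N16013 : Q := sm gd N11010
def N16015 : Q := sm gh N11011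
def N16016 : Q := sm gi N11012
def N16017 : Q := sm gj N11014
def N16018 : Q := sm gh N11014
def N16020 : Q := sm gd N11016
def N16021 : Q := sm gi N11016
def N16023 : Q := sm gi N11017
def N16025 : Q := sm ge N11021
def N16026 : Q := sm gg N11021
def N16027 : Q := sm gh N11021
def N16028 : Q := sm gd N11022
def N16030 : Q := sm gd N11023
def N16031 : Q := sm gg N11023
def N16032 : Q := sm gh N11023
def N16033 : Q := sm gj N11024
def N16034 : Q := sm gh N11024
def N16035 : Q := sm gd N11025
def N16037 : Q := sm ge N11026
def N16039 : Q := sm gf N11028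
def N16040 : Q := sm gj N11028
def N16041 : Q := sm gh N11028
def N16044 : Q := sm gh N11030
def N16046 : Q := sm gg N11033
def N16047 : Q := sm gh N11033
def N16048 : Q := sm gf N11034
def N16049 : Q := sm gj N11034
def N16050 : Q := sm gh N11034
def N16051 : Q := sm gd N11035
def N16052 : Q := sm gi N11035
def N16053 : Q := sm gh N11036
def N16054 : Q := sm gd N11037
def N16056 : Q := sm ge N11038
def N16057 : Q := sm gi N11038
def N16058 : Q := sm gf N11040
def N16061 : Q := sm gj N11042
def N16062 : Q := sm gh N11042
def N16063 : Q := sm gh N11043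
def N16064 : Q := sm gd N11044
def N16066 : Q := sm gc N11045
def N16070 : Q := sm gh N11049
def N16071 : Q := sm gd N11050
def N16073 : Q := sm gd N11051
def N16075 : Q := sm gc N11052
def N16077 : Q := sm gb N11054
def N16079 : Q := sm gh N11055
def N16080 : Q := sm ge N11057
def N16081 : Q := sm gg N11057
def N16083 : Q := sm gd N11058
def N16085 : Q := sm gd N11059
def N16086 : Q := sm gg N11059
def N16087 : Q := sm gh N11059
def N16088 : Q := sm gj N11060
def N16089 : Q := sm gh N11060
def N16090 : Q := sm gd N11061
def N16091 : Q := sm gi N11061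
def N16092 : Q := sm ge N11062
def N16093 : Q := sm gi N11062
def N16094 : Q := sm gf N11064
def N16095 : Q := sm gj N11064
def N16097 : Q := sm gd N11065
def N16098 : Q := sm gi N11065
def N16099 : Q := sm gh N11066
def N16101 : Q := sm gg N11069
def N16102 : Q := sm gh N11069
def N16103 : Q := sm gf N11070
def N16104 : Q := sm gj N11070
def N16105 : Q := sm gh N11070
def N16106 : Q := sm gd N11071
def N16107 : Q := sm gi N11071
def N16108 : Q := sm gh N11072
def N16109 : Q := sm gd N11073
def N16110 : Q := sm gi N11073
def N16111 : Q := sm ge N11074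
def N16112 : Q := sm gi N11074
def N16113 : Q := sm gf N11076
def N16116 : Q := sm gj N11078
def N16117 : Q := sm gh N11078
def N16118 : Q := sm gh N11079
def N16119 : Q := sm gd N11080
def N16121 : Q := sm gc N11081
def N16123 : Q := sm gi N11083
def N16125 : Q := sm gh N11085
def N16126 : Q := sm gd N11086
def N16127 : Q := sm gi N11086
def N16128 : Q := sm gd N11087
def N16129 : Q := sm gi N11087
def N16131 : Q := sm gi N11088
def N16134 : Q := sm gh N11091
def N16135 : Q := sm gd N11093
def N16136 : Q := sm gg N11093
def N16137 : Q := sm gh N11093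
def N16138 : Q := sm gj N11094
def N16139 : Q := sm gh N11094
def N16140 : Q := sm gd N11095
def N16142 : Q := sm gc N11096
def N16143 : Q := sm ge N11096
def N16144 : Q := sm gi N11096
def N16145 : Q := sm gg N11098
def N16146 : Q := sm gh N11098
def N16147 : Q := sm gf N11099
def N16148 : Q := sm gj N11099
def N16149 : Q := sm gh N11099
def N16150 : Q := sm gd N11100
def N16152 : Q := sm gh N11101
def N16153 : Q := sm gd N11102
def N16155 : Q := sm ge N11103
def N16156 : Q := sm gi N11103
def N16157 : Q := sm gf N11105
def N16158 : Q := sm gi N11105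
def N16160 : Q := sm gj N11107
def N16162 : Q := sm gh N11108
def N16164 : Q := sm gi N11109
def N16165 : Q := sm gc N11110
def N16168 : Q := sm gf N11114
def N16169 : Q := sm gj N11114
def N16170 : Q := sm gh N11114
def N16171 : Q := sm gd N11115
def N16172 : Q := sm gi N11115
def N16173 : Q := sm gj N11116
def N16175 : Q := sm gh N11117
def N16176 : Q := sm gd N11118
def N16178 : Q := sm gc N11119
def N16179 : Q := sm ge N11119
def N16180 : Q := sm gi N11119
def N16181 : Q := sm gd N11121
def N16183 : Q := sm ge N11122
def N16184 : Q := sm gi N11122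
def N16185 : Q := sm gf N11124
def N16186 : Q := sm gi N11124
def N16188 : Q := sm gg N11126
def N16189 : Q := sm gi N11126
def N16190 : Q := sm gh N11127
def N16192 : Q := sm gh N11129
def N16195 : Q := sm gd N11131
def N16197 : Q := sm gc N11132
def N16198 : Q := sm gi N11132
def N16200 : Q := sm gi N11134
def N16203 : Q := sm gd N11138
def N16204 : Q := sm gi N11138
def N16206 : Q := sm gi N11139
def N16207 : Q := sm gc N11141
def N16209 : Q := sm gb N11143
def N16210 : Q := sm gi N11143
def N16211 : Q := sm gh N11144
def N16213 : Q := sm gi N11145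
def N16214 : Q := sm gh N11146
def N16215 : Q := sm gd N11148
def N16216 : Q := sm gg N11148
def N16218 : Q := sm gj N11149
def N16220 : Q := sm gd N11150
def N16221 : Q := sm gi N11150
def N16223 : Q := sm ge N11151
def N16224 : Q := sm gi N11151
def N16225 : Q := sm gg N11153
def N16226 : Q := sm gh N11153
def N16227 : Q := sm gf N11154
def N16228 : Q := sm gj N11154
def N16229 : Q := sm gh N11154
def N16230 : Q := sm gd N11155
def N16231 : Q := sm gi N11155
def N16232 : Q := sm gh N11156
def N16233 : Q := sm gd N11157
def N16235 : Q := sm ge N11158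
def N16236 : Q := sm gi N11158
def N16237 : Q := sm gf N11160
def N16240 : Q := sm gj N11162
def N16241 : Q := sm gh N11162
def N16242 : Q := sm gh N11163
def N16243 : Q := sm gd N11164
def N16244 : Q := sm gi N11164
def N16245 : Q := sm gc N11165
def N16246 : Q := sm gi N11165
def N16247 : Q := sm gi N11167
def N16248 : Q := sm gf N11169
def N16249 : Q := sm gj N11169
def N16250 : Q := sm gh N11169
def N16251 : Q := sm gd N11170
def N16252 : Q := sm gi N11170
def N16253 : Q := sm gj N11171
def N16254 : Q := sm gh N11171
def N16255 : Q := sm gh N11172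
def N16256 : Q := sm gd N11173
def N16257 : Q := sm gi N11173
def N16258 : Q := sm gc N11174
def N16259 : Q := sm ge N11174
def N16260 : Q := sm gi N11174
def N16261 : Q := sm gd N11176
def N16262 : Q := sm gi N11176
def N16263 : Q := sm ge N11177
def N16265 : Q := sm gf N11179
def N16266 : Q := sm gi N11179
def N16268 : Q := sm gg N11181
def N16269 : Q := sm gi N11181
def N16270 : Q := sm gh N11182
def N16271 : Q := sm gg N11184
def N16272 : Q := sm gh N11184
def N16273 : Q := sm gd N11185
def N16275 : Q := sm gd N11186
def N16276 : Q := sm gi N11186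
def N16277 : Q := sm gc N11187
def N16279 : Q := sm gb N11189
def N16280 : Q := sm gi N11189
def N16281 : Q := sm gh N11192
def N16282 : Q := sm gd N11193
def N16284 : Q := sm gc N11194
def N16285 : Q := sm ge N11194
def N16287 : Q := sm gc N11196
def N16289 : Q := sm gb N11198
def N16290 : Q := sm gi N11198
def N16291 : Q := sm ga N11200
def N16293 : Q := sm gc N11202
def N16294 : Q := sm gg N11202
def N16295 : Q := sm gh N11202
def N16296 : Q := sm gf N11203
def N16297 : Q := sm gj N11203
def N16298 : Q := sm gh N11203
def N16299 : Q := sm gd N11204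
def N16301 : Q := sm gh N11205
def N16302 : Q := sm gd N11206
def N16304 : Q := sm gc N11207
def N16305 : Q := sm ge N11207
def N16306 : Q := sm gi N11207
def N16307 : Q := sm ge N11209
def N16309 : Q := sm gf N11210
def N16310 : Q := sm gi N11210
def N16312 : Q := sm gf N11212
def N16313 : Q := sm gj N11212
def N16314 : Q := sm gh N11212
def N16315 : Q := sm gd N11213
def N16316 : Q := sm gi N11213
def N16317 : Q := sm gj N11214
def N16318 : Q := sm gh N11214
def N16319 : Q := sm gh N11215
def N16320 : Q := sm gd N11216
def N16322 : Q := sm ge N11217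
def N16324 : Q := sm gd N11219
def N16326 : Q := sm ge N11220
def N16327 : Q := sm gi N11220
def N16328 : Q := sm gf N11222
def N16329 : Q := sm gi N11222
def N16331 : Q := sm gg N11224
def N16332 : Q := sm gi N11224
def N16338 : Q := sm ge N11232
def N16339 : Q := sm gj N11232
def N16340 : Q := sm gh N11232
def N16341 : Q := sm gh N11233
def N16342 : Q := sm gd N11234
def N16343 : Q := sm gi N11234
def N16344 : Q := sm ge N11235
def N16345 : Q := sm gi N11235
def N16348 : Q := sm gd N11238
def N16349 : Q := sm gi N11238
def N16350 : Q := sm gd N11239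
def N16351 : Q := sm gi N11239
def N16352 : Q := sm ge N11240
def N16353 : Q := sm gi N11240
def N16354 : Q := sm gf N11242
def N16355 : Q := sm gi N11242
def N16356 : Q := sm gh N11243
def N16357 : Q := sm ge N11244
def N16358 : Q := sm gi N11244
def N16359 : Q := sm gf N11246
def N16362 : Q := sm gg N11248
def N16363 : Q := sm gi N11248
def N16364 : Q := sm gh N11249
def N16365 : Q := sm gj N11251
def N16367 : Q := sm gh N11252
def N16368 : Q := sm gd N11253
def N16369 : Q := sm gh N11254
def N16370 : Q := sm gi N11255
def N16372 : Q := sm gc N11260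
def N16373 : Q := sm gg N11260
def N16374 : Q := sm gh N11260
def N16375 : Q := sm gf N11261
def N16376 : Q := sm gj N11261
def N16377 : Q := sm gh N11261
def N16378 : Q := sm gd N11262
def N16379 : Q := sm gh N11263
def N16380 : Q := sm gd N11264
def N16385 : Q := sm gf N11268
def N16386 : Q := sm gj N11268
def N16387 : Q := sm gh N11268
def N16388 : Q := sm gd N11269
def N16389 : Q := sm gi N11269
def N16390 : Q := sm gj N11270
def N16391 : Q := sm gh N11270
def N16392 : Q := sm gh N11271
def N16393 : Q := sm gd N11272
def N16394 : Q := sm gc N11273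
def N16396 : Q := sm gd N11274
def N16397 : Q := sm ge N11275
def N16399 : Q := sm gg N11277
def N16401 : Q := sm gh N11278
def N16402 : Q := sm gd N11279
def N16403 : Q := sm gd N11280
def N16404 : Q := sm gc N11281
def N16405 : Q := sm gb N11282
def N16406 : Q := sm ge N11283
def N16407 : Q := sm gj N11283
def N16408 : Q := sm gh N11283
def N16409 : Q := sm gh N11284
def N16410 : Q := sm gd N11285
def N16411 : Q := sm gi N11285
def N16412 : Q := sm gc N11286
def N16413 : Q := sm ge N11286
def N16414 : Q := sm gi N11286
def N16415 : Q := sm gg N11288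
def N16416 : Q := sm gh N11288
def N16417 : Q := sm gd N11289
def N16418 : Q := sm gd N11290
def N16419 : Q := sm gc N11291
def N16420 : Q := sm ge N11291
def N16421 : Q := sm gb N11292
def N16422 : Q := sm ge N11292
def N16423 : Q := sm gf N11293
def N16424 : Q := sm ge N11294
def N16426 : Q := sm gg N11296
def N16427 : Q := sm gj N11297
def N16428 : Q := sm gh N11298
def N16429 : Q := sm gd N11299
def N16430 : Q := sm gc N11300
def N16431 : Q := sm ge N11300
def N16432 : Q := sm gc N11301
def N16433 : Q := sm gb N11302
def N16434 : Q := sm ga N11303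
def N16435 : Q := sm gd N11304
def N16436 : Q := sm gc N11305
def N16437 : Q := sm ge N11305
def N16438 : Q := sm gb N11306
def N16439 : Q := sm ge N11306
def N16440 : Q := sm gb N11308
def N16441 : Q := sm ga N11309
def N16442 : Q := sm gg N11311
def N16443 : Q := sm gh N11311
def N16444 : Q := sm gf N11312
def N16445 : Q := sm gj N11312
def N16446 : Q := sm gh N11312
def N16447 : Q := sm gi N11313
def N16448 : Q := sm gj N11314
def N16449 : Q := sm ge N11316
def N16450 : Q := sm gj N11316
def N16451 : Q := sm gh N11316
def N16452 : Q := sm gh N11317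
def N16453 : Q := sm gi N11318
def N16454 : Q := sm gg N11320
def N16455 : Q := sm gj N11322
def N16456 : Q := sm gh N11322
def N16457 : Q := sm gg N11323
def N16458 : Q := sm gh N11323
def N16459 : Q := sm gi N11324
def N16460 : Q := sm gi N11325
def N16461 : Q := sm gd N11328
def N16462 : Q := sm gg N11328
def N16463 : Q := sm gh N11328
def N16464 : Q := sm gj N11329
def N16465 : Q := sm gh N11329
def N16466 : Q := sm gd N11330
def N16468 : Q := sm gc N11331
def N16469 : Q := sm ge N11331
def N16471 : Q := sm gg N11333
def N16472 : Q := sm gh N11333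
def N16474 : Q := sm gj N11334
def N16475 : Q := sm gh N11334
def N16476 : Q := sm gd N11335
def N16478 : Q := sm gh N11336
def N16479 : Q := sm gd N11337
def N16481 : Q := sm ge N11338
def N16482 : Q := sm gi N11338
def N16483 : Q := sm gf N11340
def N16485 : Q := sm gh N11341
def N16486 : Q := sm gj N11342
def N16487 : Q := sm gh N11342
def N16488 : Q := sm gh N11343
def N16489 : Q := sm gd N11344
def N16492 : Q := sm gi N11345
def N16494 : Q := sm gf N11349
def N16495 : Q := sm gj N11349
def N16496 : Q := sm gh N11349
def N16497 : Q := sm gd N11350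
def N16498 : Q := sm gi N11350
def N16499 : Q := sm gj N11351
def N16500 : Q := sm gh N11351
def N16501 : Q := sm gh N11352
def N16502 : Q := sm gd N11353
def N16504 : Q := sm gc N11354
def N16505 : Q := sm ge N11354
def N16506 : Q := sm gi N11354
def N16507 : Q := sm gd N11356
def N16509 : Q := sm ge N11357
def N16510 : Q := sm gi N11357
def N16511 : Q := sm gf N11359
def N16514 : Q := sm gg N11361
def N16515 : Q := sm gi N11361
def N16516 : Q := sm gh N11362
def N16518 : Q := sm gd N11365
def N16520 : Q := sm gd N11366
def N16522 : Q := sm gc N11367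
def N16524 : Q := sm gb N11369
def N16525 : Q := sm gi N11369
def N16527 : Q := sm gd N11372
def N16529 : Q := sm gc N11373
def N16530 : Q := sm ge N11373
def N16531 : Q := sm gi N11373
def N16534 : Q := sm gb N11377
def N16535 : Q := sm gi N11377
def N16536 : Q := sm gh N11378
def N16538 : Q := sm gi N11379
def N16539 : Q := sm gh N11380
def N16540 : Q := sm gc N11382
def N16541 : Q := sm gg N11382
def N16542 : Q := sm gh N11382
def N16543 : Q := sm gj N11383
def N16544 : Q := sm gh N11383
def N16545 : Q := sm gd N11384
def N16546 : Q := sm gi N11384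
def N16547 : Q := sm gh N11385
def N16548 : Q := sm gd N11386
def N16550 : Q := sm gc N11387
def N16551 : Q := sm ge N11387
def N16552 : Q := sm gi N11387
def N16554 : Q := sm gi N11389
def N16556 : Q := sm gi N11390
def N16558 : Q := sm gj N11392
def N16559 : Q := sm gh N11392
def N16560 : Q := sm gd N11393
def N16561 : Q := sm gi N11393
def N16562 : Q := sm gh N11394
def N16563 : Q := sm gd N11395
def N16565 : Q := sm gc N11396
def N16566 : Q := sm ge N11396
def N16567 : Q := sm gi N11396
def N16568 : Q := sm gd N11398
def N16570 : Q := sm ge N11399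
def N16572 : Q := sm gf N11401
def N16573 : Q := sm gi N11401
def N16575 : Q := sm gg N11403
def N16576 : Q := sm gi N11403
def N16577 : Q := sm gh N11404
def N16578 : Q := sm gd N11406
def N16580 : Q := sm gc N11407
def N16581 : Q := sm gi N11407
def N16582 : Q := sm gb N11409
def N16584 : Q := sm gh N11410
def N16585 : Q := sm gh N11412
def N16586 : Q := sm gd N11413
def N16587 : Q := sm gi N11413
def N16588 : Q := sm gc N11414
def N16589 : Q := sm ge N11414
def N16590 : Q := sm gi N11414
def N16591 : Q := sm gd N11416
def N16593 : Q := sm gc N11417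
def N16594 : Q := sm ge N11417
def N16595 : Q := sm gi N11417
def N16596 : Q := sm gb N11419
def N16597 : Q := sm ge N11419
def N16599 : Q := sm gf N11420
def N16600 : Q := sm gi N11420
def N16602 : Q := sm ge N11422
def N16603 : Q := sm gi N11422
def N16604 : Q := sm gf N11424
def N16605 : Q := sm gi N11424
def N16606 : Q := sm gh N11425
def N16607 : Q := sm gg N11426
def N16608 : Q := sm gi N11426
def N16610 : Q := sm gj N11429
def N16612 : Q := sm gh N11430
def N16613 : Q := sm gd N11431
def N16614 : Q := sm gc N11432
def N16616 : Q := sm gb N11434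
def N16619 : Q := sm ga N11436
def N16621 : Q := sm gh N11437
def N16622 : Q := sm gb N11439
def N16623 : Q := sm gi N11439
def N16624 : Q := sm gh N11440
def N16626 : Q := sm gi N11441
def N16627 : Q := sm gh N11442
def N16629 : Q := sm gh N11445
def N16630 : Q := sm gd N11446
def N16631 : Q := sm gd N11447
def N16633 : Q := sm gc N11448
def N16635 : Q := sm gi N11448
def N16636 : Q := sm ge N11450
def N16637 : Q := sm gi N11450
def N16638 : Q := sm gf N11451
def N16645 : Q := sm gg N11455
def N16646 : Q := sm gi N11455
def N16647 : Q := sm gh N11456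
def N16648 : Q := sm ge N11458
def N16650 : Q := sm gf N11460
def N16653 : Q := sm gg N11462
def N16654 : Q := sm gi N11462
def N16656 : Q := sm gj N11465
def N16658 : Q := sm gh N11466
def N16660 : Q := sm gf N11468
def N16661 : Q := sm gi N11468
def N16663 : Q := sm gg N11470
def N16664 : Q := sm gi N11470
def N16666 : Q := sm gj N11473
def N16667 : Q := sm gi N11473
def N16668 : Q := sm gh N11474
def N16669 : Q := sm gd N11475
def N16670 : Q := sm gi N11476
def N16671 : Q := sm gh N11477
def N16672 : Q := sm gd N11478
def N16673 : Q := sm gc N11479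
def N16674 : Q := sm gc N11480
def N16675 : Q := sm gg N11480
def N16676 : Q := sm gh N11480
def N16678 : Q := sm gh N11481
def N16679 : Q := sm gd N11482
def N16680 : Q := sm gi N11482
def N16682 : Q := sm gi N11483
def N16683 : Q := sm gc N11484
def N16684 : Q := sm ge N11484
def N16686 : Q := sm ge N11486
def N16687 : Q := sm gi N11486
def N16688 : Q := sm gf N11487
def N16689 : Q := sm gi N11487
def N16691 : Q := sm gf N11489
def N16692 : Q := sm gh N11489
def N16693 : Q := sm gd N11490
def N16694 : Q := sm gi N11490
def N16695 : Q := sm gh N11491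
def N16696 : Q := sm gd N11492
def N16698 : Q := sm gc N11493
def N16699 : Q := sm ge N11493
def N16700 : Q := sm gi N11493
def N16701 : Q := sm ge N11495
def N16703 : Q := sm gf N11497
def N16705 : Q := sm gh N11498
def N16708 : Q := sm gh N11500
def N16709 : Q := sm gd N11502
def N16710 : Q := sm gi N11502
def N16713 : Q := sm gb N11505
def N16716 : Q := sm ge N11507
def N16717 : Q := sm gh N11507
def N16718 : Q := sm gd N11508
def N16719 : Q := sm gi N11508
def N16720 : Q := sm gc N11509
def N16721 : Q := sm ge N11509
def N16722 : Q := sm gi N11509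
def N16723 : Q := sm gd N11511
def N16724 : Q := sm gi N11511
def N16725 : Q := sm gc N11512
def N16726 : Q := sm ge N11512
def N16727 : Q := sm gi N11512
def N16728 : Q := sm gb N11514
def N16729 : Q := sm ge N11514
def N16731 : Q := sm gf N11515
def N16732 : Q := sm gi N11515
def N16734 : Q := sm gf N11517
def N16735 : Q := sm gi N11517
def N16737 : Q := sm gg N11519
def N16738 : Q := sm gi N11519
def N16739 : Q := sm gh N11520
def N16740 : Q := sm gj N11522
def N16741 : Q := sm gi N11522
def N16742 : Q := sm gh N11523
def N16743 : Q := sm gd N11524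
def N16744 : Q := sm gc N11525
def N16747 : Q := sm gb N11527
def N16748 : Q := sm gi N11527
def N16750 : Q := sm ga N11529
def N16752 : Q := sm gh N11530
def N16753 : Q := sm gb N11532
def N16755 : Q := sm gi N11532
def N16757 : Q := sm gh N11534
def N16758 : Q := sm ga N11535
def N16759 : Q := sm gi N11535
def N16760 : Q := sm gh N11536
def N16761 : Q := sm gi N11538
def N16762 : Q := sm gh N11539
def N16764 : Q := sm gh N11541
def N16765 : Q := sm gd N11542
def N16766 : Q := sm gi N11542
def N16767 : Q := sm gc N11543
def N16768 : Q := sm ge N11543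
def N16769 : Q := sm gi N11543
def N16770 : Q := sm ge N11545
def N16772 : Q := sm gf N11546
def N16773 : Q := sm gi N11546
def N16774 : Q := sm gh N11547
def N16775 : Q := sm gd N11548
def N16776 : Q := sm gf N11548
def N16778 : Q := sm gh N11549
def N16779 : Q := sm gg N11550
def N16780 : Q := sm gi N11550
def N16782 : Q := sm gc N11553
def N16783 : Q := sm ge N11553
def N16784 : Q := sm gi N11553
def N16785 : Q := sm gb N11555
def N16786 : Q := sm ge N11555
def N16788 : Q := sm gf N11556
def N16791 : Q := sm gg N11558
def N16792 : Q := sm gi N11558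
def N16794 : Q := sm gj N11561
def N16797 : Q := sm gd N11563
def N16801 : Q := sm gb N11567
def N16802 : Q := sm ge N11567
def N16803 : Q := sm gi N11567
def N16804 : Q := sm gf N11568
def N16805 : Q := sm gi N11568
def N16807 : Q := sm ga N11570
def N16808 : Q := sm ge N11570
def N16809 : Q := sm gi N11570
def N16810 : Q := sm gf N11571
def N16812 : Q := sm gh N11572
def N16813 : Q := sm gg N11573
def N16814 : Q := sm gi N11573
def N16816 : Q := sm gj N11576
def N16817 : Q := sm gi N11576
def N16818 : Q := sm gh N11577
def N16820 : Q := sm gi N11579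
def N16822 : Q := sm gd N11581
def N16823 : Q := sm gc N11582
def N16826 : Q := sm gd N11585
def N16828 : Q := sm gd N11587
def N16831 : Q := sm gh N11589
def N16832 : Q := sm gi N11589
def N16838 : Q := sm gi N11593
def N16839 : Q := sm gh N11594
def N16843 : Q := sm gd N11598
def N16845 : Q := sm gh N11600
def N16846 : Q := sm gd N11601
def N16847 : Q := sm gc N11602
def N16850 : Q := sm gd N11604
def N16851 : Q := sm gh N11604
def N16852 : Q := sm gi N11604
def N16853 : Q := sm gd N11605
def N16854 : Q := sm gi N11605
def N16855 : Q := sm gh N11606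
def N16856 : Q := sm ge N11607
def N16857 : Q := sm gi N11607
def N16858 : Q := sm gh N11608
def N16859 : Q := sm gd N11609
def N16860 : Q := sm gd N11610
def N16861 : Q := sm gi N11610
def N16862 : Q := sm gh N11611
def N16864 : Q := sm gd N11613
def N16865 : Q := sm gd N11614
def N16866 : Q := sm gc N11615
def N16871 : Q := sm ge N11617
def N16874 : Q := sm ge N11619
def N16875 : Q := sm gd N11620
def N16876 : Q := sm gf N11620
def N16877 : Q := sm gg N11621
def N16878 : Q := sm gc N11622
def N16879 : Q := sm gi N11622
def N16880 : Q := sm gh N11623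
def N16881 : Q := sm gd N11624
def N16882 : Q := sm gd N11625
def N16883 : Q := sm gc N11626
def N16884 : Q := sm ge N11626
def N16885 : Q := sm gc N11627
def N16886 : Q := sm ge N11627
def N16887 : Q := sm gb N11628
def N16888 : Q := sm ge N11628
def N16891 : Q := sm ge N11630
def N16892 : Q := sm gf N11631
def N16894 : Q := sm ge N11632
def N16895 : Q := sm gd N11633
def N16897 : Q := sm gg N11634
def N16898 : Q := sm ge N11635
def N16899 : Q := sm gd N11636
def N16904 : Q := sm gj N11639
def N16905 : Q := sm ga N11640
def N16906 : Q := sm ge N11640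
def N16907 : Q := sm gd N11641
def N16908 : Q := sm gf N11641
def N16909 : Q := sm gg N11642
def N16910 : Q := sm ge N11643
def N16913 : Q := sm gf N11645
def N16915 : Q := sm gg N11646
def N16916 : Q := sm gj N11647
def N16919 : Q := sm gc N11649
def N16920 : Q := sm gf N11649
def N16922 : Q := sm gg N11650
def N16923 : Q := sm ge N11651
def N16925 : Q := sm gh N11651
def N16928 : Q := sm gc N11655
def N16929 : Q := sm gf N11655
def N16930 : Q := sm gh N11655
def N16932 : Q := sm gf N11657
def N16933 : Q := sm gh N11657
def N16934 : Q := sm ge N11658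
def N16935 : Q := sm gg N11658
def N16939 : Q := sm gg N11661
def N16941 : Q := sm gj N11662
def N16942 : Q := sm gh N11662
def N16944 : Q := sm gb N11666
def N16946 : Q := sm gh N11666
def N16947 : Q := sm ge N11667
def N16948 : Q := sm gg N11667
def N16949 : Q := sm gh N11667
def N16952 : Q := sm ge N11670
def N16953 : Q := sm gg N11670
def N16954 : Q := sm gh N11670
def N16955 : Q := sm gd N11671
def N16956 : Q := sm gi N11671
def N16957 : Q := sm gg N11672
def N16958 : Q := sm gh N11672
def N16962 : Q := sm gf N11677
def N16963 : Q := sm gj N11677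
def N16964 : Q := sm gh N11677
def N16965 : Q := sm gd N11678
def N16967 : Q := sm gh N11679
def N16968 : Q := sm gi N11680
def N16969 : Q := sm gf N11682
def N16970 : Q := sm gi N11682
def N16971 : Q := sm gh N11683
def N16972 : Q := sm gd N11684
def N16975 : Q := sm gc N11686
def N16977 : Q := sm gb N11687
def N16978 : Q := sm ge N11687
def N16980 : Q := sm ga N11689
def N16981 : Q := sm ge N11689
def N16982 : Q := sm gd N11690
def N16983 : Q := sm gf N11690
def N16986 : Q := sm gd N11693
def N16988 : Q := sm gf N11694
def N16990 : Q := sm gg N11695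
def N16992 : Q := sm gb N11697
def N16993 : Q := sm ge N11697
def N16994 : Q := sm gf N11698
def N16995 : Q := sm ga N11699
def N16997 : Q := sm gd N11700
def N16999 : Q := sm gg N11701
def N17000 : Q := sm ge N11702
def N17003 : Q := sm gf N11704
def N17007 : Q := sm gd N11707
def N17008 : Q := sm gf N11707
def N17009 : Q := sm gc N11708
def N17010 : Q := sm gf N11708
def N17018 : Q := sm gd N11714
def N17019 : Q := sm gf N11714
def N17021 : Q := sm gf N11715
def N17025 : Q := sm gg N11717
def N17026 : Q := sm gh N11717
def N17027 : Q := sm gi N11718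
def N17028 : Q := sm gj N11719
def N17029 : Q := sm gc N11721
def N17030 : Q := sm gf N11721
def N17032 : Q := sm gg N11722
def N17033 : Q := sm gf N11723
def N17034 : Q := sm gh N11723
def N17035 : Q := sm ge N11724
def N17036 : Q := sm gg N11724
def N17039 : Q := sm gj N11726
def N17042 : Q := sm gj N11728
def N17043 : Q := sm gh N11728
def N17045 : Q := sm gb N11732
def N17046 : Q := sm gf N11732
def N17047 : Q := sm gh N11732
def N17048 : Q := sm ge N11733
def N17049 : Q := sm gg N11733
def N17051 : Q := sm gi N11734
def N17053 : Q := sm ge N11736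
def N17054 : Q := sm gg N11736
def N17058 : Q := sm gg N11738
def N17059 : Q := sm gh N11738
def N17062 : Q := sm gi N11740
def N17063 : Q := sm gf N11743
def N17064 : Q := sm gj N11743
def N17066 : Q := sm gd N11744
def N17070 : Q := sm gf N11748
def N17071 : Q := sm gh N11748
def N17072 : Q := sm ge N11749
def N17073 : Q := sm gg N11749
def N17074 : Q := sm gh N11749
def N17077 : Q := sm gg N11751
def N17078 : Q := sm gh N11751
def N17080 : Q := sm gh N11752
def N17082 : Q := sm gd N11756
def N17083 : Q := sm gg N11756
def N17084 : Q := sm gh N11756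
def N17085 : Q := sm gj N11757
def N17086 : Q := sm gh N11757
def N17087 : Q := sm gd N11758
def N17088 : Q := sm gi N11758
def N17090 : Q := sm gi N11759
def N17091 : Q := sm gf N11761
def N17092 : Q := sm gj N11761
def N17093 : Q := sm gh N11761
def N17094 : Q := sm gd N11762
def N17095 : Q := sm gi N11762
def N17096 : Q := sm gh N11763
def N17098 : Q := sm gj N11766
def N17099 : Q := sm gh N11766
def N17101 : Q := sm gd N11768
def N17103 : Q := sm gc N11769
def N17104 : Q := sm gi N11769
def N17105 : Q := sm gi N11771
def N17106 : Q := sm gg N11773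
def N17107 : Q := sm gi N11773
def N17108 : Q := sm gh N11774
def N17109 : Q := sm gd N11775
def N17110 : Q := sm gc N11776
def N17112 : Q := sm gb N11777
def N17115 : Q := sm gb N11779
def N17116 : Q := sm ge N11779
def N17118 : Q := sm ga N11781
def N17119 : Q := sm ge N11781
def N17120 : Q := sm gd N11782
def N17121 : Q := sm gf N11782
def N17123 : Q := sm ge N11784
def N17125 : Q := sm gf N11785
def N17126 : Q := sm gf N11786
def N17127 : Q := sm gh N11786
def N17128 : Q := sm gg N11787
def N17132 : Q := sm gc N11790
def N17133 : Q := sm gf N11790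
def N17134 : Q := sm gh N11790
def N17136 : Q := sm ge N11792
def N17138 : Q := sm gh N11792
def N17140 : Q := sm gj N11794
def N17141 : Q := sm ga N11796
def N17142 : Q := sm ge N11796
def N17143 : Q := sm gd N11797
def N17145 : Q := sm gg N11798
def N17146 : Q := sm ge N11799
def N17147 : Q := sm gd N11800
def N17152 : Q := sm gj N11803
def N17153 : Q := sm gd N11804
def N17159 : Q := sm ge N11807
def N17160 : Q := sm gg N11807
def N17161 : Q := sm gh N11807
def N17162 : Q := sm gi N11808
def N17164 : Q := sm gc N11811
def N17166 : Q := sm gh N11811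
def N17167 : Q := sm gg N11812
def N17168 : Q := sm gf N11813
def N17169 : Q := sm gh N11813
def N17170 : Q := sm ge N11814
def N17171 : Q := sm gg N11814
def N17172 : Q := sm gh N11814
def N17175 : Q := sm gg N11817
def N17181 : Q := sm gf N11822
def N17182 : Q := sm gh N11822
def N17183 : Q := sm gg N11823
def N17184 : Q := sm gf N11824
def N17186 : Q := sm ge N11825
def N17188 : Q := sm gh N11825
def N17191 : Q := sm gg N11828
def N17192 : Q := sm gh N11828
def N17193 : Q := sm gj N11829
def N17194 : Q := sm gh N11829
def N17196 : Q := sm gb N11833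
def N17197 : Q := sm gf N11833
def N17199 : Q := sm ge N11834
def N17200 : Q := sm gg N11834
def N17201 : Q := sm gh N11834
def N17203 : Q := sm gj N11836
def N17204 : Q := sm ge N11837
def N17208 : Q := sm gi N11838
def N17209 : Q := sm gg N11839
def N17210 : Q := sm gh N11839
def N17214 : Q := sm gf N11844
def N17216 : Q := sm gh N11844
def N17217 : Q := sm gd N11845
def N17220 : Q := sm gi N11847
def N17221 : Q := sm gf N11849
def N17222 : Q := sm gh N11849
def N17224 : Q := sm gg N11850
def N17225 : Q := sm gh N11850
def N17226 : Q := sm gd N11851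
def N17227 : Q := sm gi N11851
def N17228 : Q := sm gg N11852
def N17229 : Q := sm gh N11852
def N17230 : Q := sm gj N11853
def N17232 : Q := sm gi N11854
def N17233 : Q := sm gd N11857
def N17234 : Q := sm gg N11857
def N17236 : Q := sm gj N11858
def N17239 : Q := sm gi N11859
def N17242 : Q := sm gf N11862
def N17243 : Q := sm gj N11862
def N17244 : Q := sm gh N11862
def N17245 : Q := sm gd N11863
def N17248 : Q := sm gi N11865
def N17249 : Q := sm gj N11867
def N17250 : Q := sm gh N11867
def N17251 : Q := sm gh N11868
def N17252 : Q := sm gd N11869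
def N17254 : Q := sm gc N11870
def N17257 : Q := sm ge N11874
def N17258 : Q := sm gg N11874
def N17259 : Q := sm gh N11874
def N17260 : Q := sm gd N11875
def N17262 : Q := sm gd N11876
def N17265 : Q := sm gj N11877
def N17266 : Q := sm gh N11877
def N17267 : Q := sm gd N11878
def N17269 : Q := sm ge N11879
def N17270 : Q := sm gi N11879
def N17272 : Q := sm gj N11881
def N17273 : Q := sm gh N11881
def N17274 : Q := sm gd N11882
def N17276 : Q := sm gh N11883
def N17278 : Q := sm gg N11886
def N17279 : Q := sm gh N11886
def N17280 : Q := sm gf N11887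
def N17281 : Q := sm gj N11887
def N17282 : Q := sm gh N11887
def N17283 : Q := sm gd N11888
def N17285 : Q := sm gh N11889
def N17286 : Q := sm gd N11890
def N17288 : Q := sm ge N11891
def N17289 : Q := sm gi N11891
def N17291 : Q := sm gi N11893
def N17293 : Q := sm gj N11895
def N17294 : Q := sm gh N11895
def N17295 : Q := sm gh N11896
def N17296 : Q := sm gd N11897
def N17298 : Q := sm gc N11898
def N17301 : Q := sm gg N11902
def N17302 : Q := sm gh N11902
def N17303 : Q := sm gd N11903
def N17306 : Q := sm gi N11904
def N17307 : Q := sm gc N11905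
def N17309 : Q := sm gb N11907
def N17310 : Q := sm gi N11907
def N17312 : Q := sm gd N11910
def N17313 : Q := sm gf N11910
def N17314 : Q := sm gc N11911
def N17315 : Q := sm gf N11911
def N17316 : Q := sm gh N11911
def N17318 : Q := sm ge N11913
def N17319 : Q := sm gg N11913
def N17320 : Q := sm gh N11913
def N17321 : Q := sm gi N11914
def N17323 : Q := sm gc N11917
def N17324 : Q := sm gf N11917
def N17325 : Q := sm gh N11917
def N17326 : Q := sm gg N11918
def N17327 : Q := sm gf N11919
def N17328 : Q := sm gh N11919
def N17329 : Q := sm ge N11920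
def N17334 : Q := sm gg N11923
def N17336 : Q := sm gj N11924
def N17337 : Q := sm gh N11924
def N17338 : Q := sm gi N11925
def N17339 : Q := sm gb N11928
def N17340 : Q := sm gf N11928
def N17341 : Q := sm gh N11928
def N17346 : Q := sm gj N11931
def N17347 : Q := sm ge N11932
def N17348 : Q := sm gg N11932
def N17349 : Q := sm gh N11932
def N17350 : Q := sm gd N11933
def N17353 : Q := sm gh N11934
def N17358 : Q := sm gj N11939
def N17359 : Q := sm gh N11939
def N17360 : Q := sm gd N11940
def N17361 : Q := sm gi N11940
def N17362 : Q := sm gh N11941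
def N17363 : Q := sm gi N11942
def N17364 : Q := sm gf N11944
def N17365 : Q := sm gh N11944
def N17367 : Q := sm gg N11945
def N17368 : Q := sm gh N11945
def N17369 : Q := sm gd N11946
def N17370 : Q := sm gi N11946
def N17371 : Q := sm gg N11947
def N17372 : Q := sm gh N11947
def N17373 : Q := sm gj N11948
def N17376 : Q := sm gd N11952
def N17377 : Q := sm gg N11952
def N17378 : Q := sm gh N11952
def N17379 : Q := sm gj N11953
def N17382 : Q := sm gi N11954
def N17383 : Q := sm ge N11955
def N17384 : Q := sm gi N11955
def N17386 : Q := sm gj N11957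
def N17388 : Q := sm gd N11958
def N17389 : Q := sm gi N11958
def N17390 : Q := sm gh N11959
def N17393 : Q := sm gh N11962
def N17394 : Q := sm gh N11963
def N17395 : Q := sm gd N11964
def N17396 : Q := sm gi N11964
def N17398 : Q := sm gi N11965
def N17399 : Q := sm gi N11967
def N17400 : Q := sm ge N11969
def N17401 : Q := sm gg N11969
def N17402 : Q := sm gh N11969
def N17405 : Q := sm gd N11971
def N17409 : Q := sm gh N11972
def N17410 : Q := sm gd N11973
def N17411 : Q := sm gi N11973
def N17412 : Q := sm ge N11974
def N17413 : Q := sm gi N11974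
def N17414 : Q := sm gf N11976
def N17416 : Q := sm gh N11976
def N17417 : Q := sm gd N11977
def N17418 : Q := sm gi N11977
def N17421 : Q := sm gg N11981
def N17422 : Q := sm gh N11981
def N17423 : Q := sm gf N11982
def N17425 : Q := sm gh N11982
def N17426 : Q := sm gd N11983
def N17428 : Q := sm gh N11984
def N17436 : Q := sm gj N11990
def N17437 : Q := sm gh N11990
def N17438 : Q := sm gh N11991
def N17439 : Q := sm gd N11992
def N17440 : Q := sm gi N11992
def N17441 : Q := sm gc N11993
def N17442 : Q := sm gi N11993
def N17445 : Q := sm gh N11997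
def N17446 : Q := sm gd N11998
def N17447 : Q := sm gi N11998
def N17448 : Q := sm gd N11999
def N17451 : Q := sm gi N12000
def N17453 : Q := sm gi N12002
def N17456 : Q := sm gf N12005
def N17457 : Q := sm gh N12005
def N17460 : Q := sm gh N12007
def N17461 : Q := sm ge N12008
def N17465 : Q := sm gj N12010
def N17466 : Q := sm gg N12011
def N17467 : Q := sm gh N12011
def N17468 : Q := sm gj N12012
def N17470 : Q := sm gi N12013
def N17471 : Q := sm gb N12016
def N17475 : Q := sm gg N12017
def N17476 : Q := sm gh N12017
def N17477 : Q := sm gi N12018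
def N17478 : Q := sm gj N12019
def N17480 : Q := sm gg N12020
def N17481 : Q := sm gh N12020
def N17483 : Q := sm gi N12021
def N17484 : Q := sm gg N12022
def N17485 : Q := sm gh N12022
def N17492 : Q := sm gd N12028
def N17494 : Q := sm gh N12029
def N17495 : Q := sm gi N12030
def N17496 : Q := sm gf N12032
def N17497 : Q := sm gh N12032
def N17498 : Q := sm ge N12033
def N17499 : Q := sm gg N12033
def N17500 : Q := sm gh N12033
def N17502 : Q := sm gi N12034
def N17504 : Q := sm gh N12035
def N17505 : Q := sm gj N12036
def N17507 : Q := sm gi N12037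
def N17508 : Q := sm gd N12040
def N17509 : Q := sm gg N12040
def N17510 : Q := sm gh N12040
def N17511 : Q := sm gj N12041
def N17512 : Q := sm gh N12041
def N17513 : Q := sm gd N12042
def N17514 : Q := sm gi N12042
def N17515 : Q := sm ge N12043
def N17517 : Q := sm gf N12045
def N17519 : Q := sm gh N12045
def N17520 : Q := sm gd N12046
def N17523 : Q := sm gi N12048
def N17526 : Q := sm gh N12051
def N17527 : Q := sm gd N12052
def N17530 : Q := sm gi N12053
def N17531 : Q := sm gi N12055
def N17532 : Q := sm ge N12057
def N17535 : Q := sm gd N12058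
def N17537 : Q := sm gd N12059
def N17541 : Q := sm gh N12060
def N17542 : Q := sm gd N12061
def N17544 : Q := sm ge N12062
def N17545 : Q := sm gi N12062
def N17546 : Q := sm gf N12064
def N17547 : Q := sm gj N12064
def N17548 : Q := sm gh N12064
def N17549 : Q := sm gd N12065
def N17550 : Q := sm gi N12065
def N17551 : Q := sm gh N12066
def N17552 : Q := sm gi N12067
def N17553 : Q := sm gg N12069
def N17556 : Q := sm gj N12070
def N17557 : Q := sm gh N12070
def N17559 : Q := sm gi N12071
def N17562 : Q := sm gi N12073
def N17566 : Q := sm gi N12076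
def N17568 : Q := sm gj N12078
def N17569 : Q := sm gh N12078
def N17570 : Q := sm gh N12079
def N17571 : Q := sm gd N12080
def N17572 : Q := sm gi N12080
def N17576 : Q := sm gg N12085
def N17577 : Q := sm gh N12085
def N17578 : Q := sm gd N12086
def N17579 : Q := sm gi N12086
def N17580 : Q := sm gd N12087
def N17581 : Q := sm gi N12087
def N17582 : Q := sm gc N12088
def N17585 : Q := sm gi N12090
def N17587 : Q := sm gd N12093
def N17588 : Q := sm gg N12093
def N17589 : Q := sm gh N12093
def N17590 : Q := sm gj N12094
def N17597 : Q := sm gg N12098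
def N17598 : Q := sm gh N12098
def N17599 : Q := sm gf N12099
def N17601 : Q := sm gh N12099
def N17602 : Q := sm gd N12100
def N17605 : Q := sm gd N12102
def N17606 : Q := sm gi N12102
def N17607 : Q := sm ge N12103
def N17608 : Q := sm gi N12103
def N17609 : Q := sm gf N12105
def N17610 : Q := sm gi N12105
def N17612 : Q := sm gj N12107
def N17613 : Q := sm gh N12107
def N17614 : Q := sm gh N12108
def N17616 : Q := sm gi N12109
def N17617 : Q := sm gc N12110
def N17618 : Q := sm gi N12110
def N17620 : Q := sm gf N12114
def N17621 : Q := sm gj N12114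
def N17622 : Q := sm gh N12114
def N17623 : Q := sm gd N12115
def N17625 : Q := sm gj N12116
def N17626 : Q := sm gh N12116
def N17627 : Q := sm gh N12117
def N17628 : Q := sm gd N12118
def N17630 : Q := sm gc N12119
def N17632 : Q := sm gi N12119
def N17633 : Q := sm gd N12121
def N17643 : Q := sm gg N12129
def N17644 : Q := sm gh N12129
def N17645 : Q := sm gd N12130
def N17646 : Q := sm gi N12130
def N17647 : Q := sm gd N12131
def N17649 : Q := sm gc N12132
def N17650 : Q := sm gi N12132
def N17651 : Q := sm gb N12134
def N17652 : Q := sm gi N12134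
def N17654 : Q := sm gh N12137
def N17655 : Q := sm gd N12138
def N17656 : Q := sm gi N12138
def N17659 : Q := sm gi N12139
def N17660 : Q := sm gc N12141
def N17661 : Q := sm gi N12141
def N17663 : Q := sm gi N12143
def N17666 : Q := sm gi N12145
def N17667 : Q := sm gh N12146
def N17669 : Q := sm gf N12148
def N17670 : Q := sm gh N12148
def N17671 : Q := sm ge N12149
def N17672 : Q := sm gg N12149
def N17673 : Q := sm gh N12149
def N17676 : Q := sm ge N12152
def N17677 : Q := sm gg N12152
def N17678 : Q := sm gh N12152
def N17679 : Q := sm gd N12153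
def N17682 : Q := sm gh N12154
def N17683 : Q := sm gj N12155
def N17686 : Q := sm gf N12159
def N17687 : Q := sm gj N12159
def N17688 : Q := sm gh N12159
def N17691 : Q := sm gh N12161
def N17692 : Q := sm gi N12162
def N17693 : Q := sm gf N12164
def N17694 : Q := sm gh N12164
def N17695 : Q := sm ge N12165
def N17697 : Q := sm gh N12165
def N17701 : Q := sm gh N12167
def N17702 : Q := sm gj N12168
def N17704 : Q := sm gi N12169
def N17705 : Q := sm gd N12172
def N17706 : Q := sm gg N12172
def N17707 : Q := sm gh N12172
def N17708 : Q := sm gj N12173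
def N17711 : Q := sm gi N12174
def N17712 : Q := sm ge N12175
def N17713 : Q := sm gi N12175
def N17716 : Q := sm gh N12177
def N17717 : Q := sm gd N12178
def N17718 : Q := sm gi N12178
def N17719 : Q := sm gh N12179
def N17721 : Q := sm gj N12182
def N17722 : Q := sm gh N12182
def N17723 : Q := sm gh N12183
def N17724 : Q := sm gd N12184
def N17726 : Q := sm gc N12185
def N17727 : Q := sm gi N12185
def N17729 : Q := sm ge N12189
def N17732 : Q := sm gd N12190
def N17734 : Q := sm gd N12191
def N17735 : Q := sm gg N12191
def N17737 : Q := sm gj N12192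
def N17738 : Q := sm gh N12192
def N17739 : Q := sm gd N12193
def N17740 : Q := sm gi N12193
def N17744 : Q := sm gj N12196
def N17745 : Q := sm gh N12196
def N17746 : Q := sm gd N12197
def N17748 : Q := sm gh N12198
def N17750 : Q := sm gg N12201
def N17752 : Q := sm gf N12202
def N17753 : Q := sm gj N12202
def N17754 : Q := sm gh N12202
def N17756 : Q := sm gi N12203
def N17757 : Q := sm gh N12204
def N17759 : Q := sm gi N12205
def N17761 : Q := sm gi N12206
def N17764 : Q := sm gh N12209
def N17774 : Q := sm gh N12217
def N17775 : Q := sm gd N12218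
def N17777 : Q := sm gd N12219
def N17778 : Q := sm gi N12219
def N17779 : Q := sm gc N12220
def N17780 : Q := sm gi N12220
def N17781 : Q := sm gb N12222
def N17783 : Q := sm gh N12223
def N17786 : Q := sm gh N12225
def N17787 : Q := sm gj N12226
def N17788 : Q := sm gh N12226
def N17789 : Q := sm gd N12227
def N17792 : Q := sm ge N12228
def N17793 : Q := sm gi N12228
def N17794 : Q := sm gg N12230
def N17796 : Q := sm gf N12231
def N17797 : Q := sm gj N12231
def N17798 : Q := sm gh N12231
def N17799 : Q := sm gd N12232
def N17800 : Q := sm gi N12232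
def N17803 : Q := sm gi N12234
def N17811 : Q := sm gh N12240
def N17812 : Q := sm gd N12241
def N17813 : Q := sm gi N12241
def N17815 : Q := sm gi N12242
def N17817 : Q := sm gf N12246
def N17818 : Q := sm gj N12246
def N17820 : Q := sm gd N12247
def N17822 : Q := sm gj N12248
def N17823 : Q := sm gh N12248
def N17825 : Q := sm gd N12250
def N17826 : Q := sm gi N12250
def N17827 : Q := sm gc N12251
def N17828 : Q := sm ge N12251
def N17829 : Q := sm gi N12251
def N17830 : Q := sm gd N12253
def N17831 : Q := sm gi N12253
def N17834 : Q := sm gf N12256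
def N17836 : Q := sm gh N12257
def N17837 : Q := sm gg N12258
def N17838 : Q := sm gi N12258
def N17839 : Q := sm gh N12259
def N17841 : Q := sm gh N12261
def N17842 : Q := sm gd N12262
def N17843 : Q := sm gi N12262
def N17844 : Q := sm gd N12263
def N17847 : Q := sm gi N12264
def N17850 : Q := sm gh N12267
def N17852 : Q := sm gd N12270
def N17854 : Q := sm gc N12271
def N17857 : Q := sm gc N12273
def N17859 : Q := sm gb N12275
def N17860 : Q := sm gi N12275
def N17863 : Q := sm gi N12277
def N17864 : Q := sm gh N12278
def N17865 : Q := sm gc N12280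
def N17867 : Q := sm gh N12280
def N17868 : Q := sm gf N12281
def N17871 : Q := sm gd N12282
def N17873 : Q := sm gh N12283
def N17884 : Q := sm gf N12290
def N17886 : Q := sm gh N12290
def N17887 : Q := sm gd N12291
def N17888 : Q := sm gi N12291
def N17889 : Q := sm gj N12292
def N17890 : Q := sm gh N12292
def N17891 : Q := sm gh N12293
def N17894 : Q := sm gc N12295
def N17904 : Q := sm gg N12302
def N17906 : Q := sm gh N12303
def N17907 : Q := sm gg N12305
def N17908 : Q := sm gh N12305
def N17909 : Q := sm gd N12306
def N17911 : Q := sm gd N12307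
def N17913 : Q := sm gc N12308
def N17914 : Q := sm gi N12308
def N17915 : Q := sm gb N12310
def N17916 : Q := sm gi N12310
def N17918 : Q := sm ge N12313
def N17919 : Q := sm gj N12313
def N17921 : Q := sm gh N12314
def N17922 : Q := sm gd N12315
def N17924 : Q := sm gc N12316
def N17925 : Q := sm ge N12316
def N17926 : Q := sm gi N12316
def N17928 : Q := sm gh N12318
def N17929 : Q := sm gd N12319
def N17931 : Q := sm gd N12320
def N17932 : Q := sm gi N12320
def N17933 : Q := sm gc N12321
def N17934 : Q := sm ge N12321
def N17935 : Q := sm gi N12321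
def N17937 : Q := sm gi N12323
def N17938 : Q := sm gf N12324
def N17942 : Q := sm gi N12326
def N17946 : Q := sm gg N12330
def N17949 : Q := sm gj N12333
def N17950 : Q := sm gi N12333
def N17951 : Q := sm gh N12334
def N17954 : Q := sm gd N12337
def N17955 : Q := sm gi N12337
def N17956 : Q := sm gc N12338
def N17957 : Q := sm ge N12338
def N17958 : Q := sm gi N12338
def N17959 : Q := sm gc N12340
def N17960 : Q := sm gi N12340
def N17964 : Q := sm gd N12346
def N17966 : Q := sm ge N12347
def N17967 : Q := sm gi N12347
def N17968 : Q := sm gi N12349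
def N17971 : Q := sm ge N12353
def N17972 : Q := sm gg N12353
def N17973 : Q := sm gh N12353
def N17974 : Q := sm gd N12354
def N17975 : Q := sm gi N12354
def N17976 : Q := sm gd N12355
def N17977 : Q := sm gg N12355
def N17980 : Q := sm gh N12356
def N17981 : Q := sm gd N12357
def N17983 : Q := sm ge N12358
def N17986 : Q := sm gj N12360
def N17988 : Q := sm gd N12361
def N17990 : Q := sm gh N12362
def N17991 : Q := sm gi N12363
def N17992 : Q := sm gg N12365
def N17993 : Q := sm gh N12365
def N17994 : Q := sm gf N12366
def N17996 : Q := sm gh N12366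
def N17997 : Q := sm gd N12367
def N17999 : Q := sm gh N12368
def N18000 : Q := sm gd N12369
def N18001 : Q := sm gi N12369
def N18002 : Q := sm ge N12370
def N18005 : Q := sm gi N12372
def N18006 : Q := sm gh N12373
def N18007 : Q := sm gj N12374
def N18008 : Q := sm gh N12374
def N18009 : Q := sm gh N12375
def N18010 : Q := sm gd N12376
def N18011 : Q := sm gi N12376
def N18015 : Q := sm gg N12381
def N18016 : Q := sm gh N12381
def N18017 : Q := sm gd N12382
def N18019 : Q := sm gd N12383
def N18020 : Q := sm gi N12383
def N18021 : Q := sm gc N12384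
def N18022 : Q := sm gi N12384
def N18024 : Q := sm gi N12386
def N18025 : Q := sm gh N12387
def N18026 : Q := sm gd N12389
def N18027 : Q := sm gg N12389
def N18028 : Q := sm gh N12389
def N18029 : Q := sm gj N12390
def N18030 : Q := sm gh N12390
def N18031 : Q := sm gd N12391
def N18032 : Q := sm gi N12391
def N18033 : Q := sm gc N12392
def N18035 : Q := sm gi N12392
def N18036 : Q := sm gg N12394
def N18037 : Q := sm gh N12394
def N18040 : Q := sm gh N12395
def N18041 : Q := sm gd N12396
def N18042 : Q := sm gi N12396
def N18043 : Q := sm gh N12397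
def N18048 : Q := sm gf N12401
def N18049 : Q := sm gi N12401
def N18058 : Q := sm gi N12408
def N18061 : Q := sm gh N12410
def N18062 : Q := sm gd N12411
def N18064 : Q := sm gj N12412
def N18066 : Q := sm gh N12413
def N18067 : Q := sm gd N12414
def N18070 : Q := sm ge N12415
def N18073 : Q := sm gi N12417
def N18074 : Q := sm ge N12418
def N18075 : Q := sm gi N12418
def N18076 : Q := sm gf N12420
def N18081 : Q := sm gh N12423
def N18082 : Q := sm gg N12425
def N18083 : Q := sm gh N12425
def N18084 : Q := sm gd N12426
def N18085 : Q := sm gi N12426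
def N18088 : Q := sm gc N12428
def N18091 : Q := sm gi N12430
def N18092 : Q := sm gh N12431
def N18093 : Q := sm gh N12433
def N18094 : Q := sm gd N12434
def N18095 : Q := sm gi N12434
def N18096 : Q := sm gc N12435
def N18098 : Q := sm gi N12435
def N18100 : Q := sm gi N12437
def N18101 : Q := sm gb N12439
def N18102 : Q := sm gi N12439
def N18103 : Q := sm gh N12440
def N18105 : Q := sm gi N12441
def N18108 : Q := sm gg N12444
def N18110 : Q := sm gj N12445
def N18111 : Q := sm gh N12445
def N18112 : Q := sm gd N12446
def N18114 : Q := sm gc N12447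
def N18117 : Q := sm gg N12449
def N18120 : Q := sm gj N12450
def N18121 : Q := sm gh N12450
def N18122 : Q := sm gd N12451
def N18123 : Q := sm gi N12451
def N18124 : Q := sm gh N12452
def N18125 : Q := sm gd N12453
def N18127 : Q := sm ge N12454
def N18128 : Q := sm gi N12454
def N18130 : Q := sm gi N12456
def N18134 : Q := sm gh N12459
def N18135 : Q := sm gd N12460
def N18137 : Q := sm gc N12461
def N18138 : Q := sm gi N12461
def N18140 : Q := sm gf N12465
def N18142 : Q := sm gh N12465
def N18143 : Q := sm gd N12466
def N18145 : Q := sm gj N12467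
def N18146 : Q := sm gh N12467
def N18147 : Q := sm gh N12468
def N18148 : Q := sm gd N12469
def N18152 : Q := sm gi N12470
def N18157 : Q := sm gf N12475
def N18158 : Q := sm gi N12475
def N18161 : Q := sm gi N12477
def N18163 : Q := sm gg N12480
def N18164 : Q := sm gh N12480
def N18165 : Q := sm gd N12481
def N18167 : Q := sm gd N12482
def N18168 : Q := sm gi N12482
def N18170 : Q := sm gi N12483
def N18174 : Q := sm gh N12488
def N18175 : Q := sm gd N12489
def N18177 : Q := sm gc N12490
def N18179 : Q := sm gi N12490
def N18180 : Q := sm gc N12492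
def N18181 : Q := sm gi N12492
def N18182 : Q := sm gb N12494
def N18183 : Q := sm gi N12494
def N18184 : Q := sm gh N12495
def N18186 : Q := sm gi N12496
def N18187 : Q := sm gh N12497
def N18188 : Q := sm gc N12499
def N18189 : Q := sm gg N12499
def N18190 : Q := sm gh N12499
def N18191 : Q := sm gf N12500
def N18196 : Q := sm gh N12502
def N18197 : Q := sm gd N12503
def N18198 : Q := sm gi N12503
def N18199 : Q := sm gc N12504
def N18201 : Q := sm gi N12504
def N18202 : Q := sm ge N12506
def N18206 : Q := sm gh N12508
def N18207 : Q := sm gf N12509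
def N18208 : Q := sm gj N12509
def N18209 : Q := sm gh N12509
def N18210 : Q := sm gd N12510
def N18213 : Q := sm gh N12511
def N18216 : Q := sm gi N12513
def N18217 : Q := sm gc N12514
def N18218 : Q := sm ge N12514
def N18219 : Q := sm gi N12514
def N18220 : Q := sm gd N12516
def N18221 : Q := sm gi N12516
def N18224 : Q := sm gf N12519
def N18227 : Q := sm gg N12521
def N18228 : Q := sm gi N12521
def N18229 : Q := sm gh N12522
def N18238 : Q := sm gb N12529
def N18242 : Q := sm gj N12532
def N18243 : Q := sm gh N12532
def N18244 : Q := sm gh N12533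
def N18245 : Q := sm gd N12534
def N18247 : Q := sm gc N12535
def N18248 : Q := sm ge N12535
def N18249 : Q := sm gi N12535
def N18250 : Q := sm gg N12537
def N18253 : Q := sm gi N12538
def N18254 : Q := sm gd N12539
def N18256 : Q := sm gc N12540
def N18257 : Q := sm ge N12540
def N18260 : Q := sm ge N12542
def N18262 : Q := sm gf N12543
def N18263 : Q := sm gi N12543
def N18269 : Q := sm gh N12548
def N18270 : Q := sm gg N12549
def N18271 : Q := sm gi N12549
def N18272 : Q := sm gh N12550
def N18276 : Q := sm gd N12554
def N18277 : Q := sm gh N12555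
def N18278 : Q := sm gd N12556
def N18280 : Q := sm gc N12557
def N18282 : Q := sm gc N12559
def N18284 : Q := sm gb N12561
def N18285 : Q := sm gi N12561
def N18286 : Q := sm gh N12562
def N18287 : Q := sm ga N12563
def N18290 : Q := sm gd N12566
def N18291 : Q := sm gi N12566
def N18292 : Q := sm gc N12567
def N18293 : Q := sm gi N12567
def N18294 : Q := sm gb N12569
def N18296 : Q := sm gh N12570
def N18297 : Q := sm gb N12571
def N18299 : Q := sm gh N12572
def N18300 : Q := sm ga N12573
def N18303 : Q := sm gi N12576
def N18306 : Q := sm gc N12579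
def N18307 : Q := sm gg N12579
def N18308 : Q := sm gh N12579
def N18309 : Q := sm gf N12580
def N18310 : Q := sm gj N12580
def N18312 : Q := sm gd N12581
def N18313 : Q := sm gi N12581
def N18317 : Q := sm gc N12584
def N18320 : Q := sm ge N12586
def N18321 : Q := sm gi N12586
def N18327 : Q := sm gh N12589
def N18328 : Q := sm gd N12590
def N18333 : Q := sm gd N12593
def N18334 : Q := sm gi N12593
def N18335 : Q := sm gc N12594
def N18336 : Q := sm ge N12594
def N18337 : Q := sm gi N12594
def N18341 : Q := sm gi N12597
def N18347 : Q := sm gh N12602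
def N18348 : Q := sm gg N12604
def N18349 : Q := sm gh N12604
def N18350 : Q := sm gd N12605
def N18351 : Q := sm gi N12605
def N18352 : Q := sm gd N12606
def N18353 : Q := sm gi N12606
def N18354 : Q := sm gc N12607
def N18355 : Q := sm gi N12607
def N18356 : Q := sm gb N12609
def N18358 : Q := sm ge N12612
def N18359 : Q := sm gj N12612
def N18360 : Q := sm gh N12612
def N18362 : Q := sm gd N12614
def N18363 : Q := sm gi N12614
def N18364 : Q := sm gc N12615
def N18365 : Q := sm ge N12615
def N18368 : Q := sm gh N12617
def N18369 : Q := sm gd N12618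
def N18372 : Q := sm gi N12619
def N18373 : Q := sm gc N12620
def N18374 : Q := sm ge N12620
def N18375 : Q := sm gi N12620
def N18378 : Q := sm gi N12622
def N18392 : Q := sm gh N12633
def N18393 : Q := sm gd N12634
def N18395 : Q := sm gd N12636
def N18397 : Q := sm gc N12637
def N18398 : Q := sm ge N12637
def N18399 : Q := sm gi N12637
def N18400 : Q := sm gc N12639
def N18401 : Q := sm gi N12639
def N18402 : Q := sm gb N12641
def N18404 : Q := sm ga N12643
def N18406 : Q := sm gd N12645
def N18408 : Q := sm gc N12646
def N18409 : Q := sm ge N12646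
def N18410 : Q := sm gi N12646
def N18411 : Q := sm gb N12648
def N18412 : Q := sm ge N12648
def N18413 : Q := sm gi N12648
def N18417 : Q := sm ga N12653
def N18419 : Q := sm gi N12655
def N18420 : Q := sm gg N12657
def N18421 : Q := sm gh N12657
def N18422 : Q := sm gf N12658
def N18423 : Q := sm gj N12658
def N18424 : Q := sm gh N12658
def N18425 : Q := sm gd N12659
def N18427 : Q := sm gj N12660
def N18428 : Q := sm gh N12660
def N18429 : Q := sm gh N12661
def N18430 : Q := sm gd N12662
def N18432 : Q := sm gc N12663
def N18433 : Q := sm ge N12663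
def N18434 : Q := sm gi N12663
def N18435 : Q := sm gd N12665
def N18437 : Q := sm gc N12666
def N18438 : Q := sm ge N12666
def N18441 : Q := sm gi N12668
def N18442 : Q := sm gf N12669
def N18443 : Q := sm gi N12669
def N18447 : Q := sm gi N12671
def N18448 : Q := sm gh N12672
def N18449 : Q := sm gg N12673
def N18450 : Q := sm gi N12673
def N18452 : Q := sm ge N12676
def N18455 : Q := sm gh N12677
def N18456 : Q := sm gd N12678
def N18458 : Q := sm ge N12679
def N18460 : Q := sm gg N12681
def N18461 : Q := sm gh N12681
def N18462 : Q := sm gd N12682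
def N18464 : Q := sm gd N12683
def N18466 : Q := sm ge N12684
def N18467 : Q := sm gi N12684
def N18468 : Q := sm gf N12686
def N18469 : Q := sm gi N12686
def N18473 : Q := sm gf N12690
def N18479 : Q := sm gj N12695
def N18480 : Q := sm gi N12695
def N18482 : Q := sm gd N12697
def N18483 : Q := sm gh N12698
def N18485 : Q := sm gj N12702
def N18486 : Q := sm gh N12702
def N18487 : Q := sm gg N12703
def N18488 : Q := sm gh N12703
def N18489 : Q := sm gd N12704
def N18491 : Q := sm gd N12705
def N18493 : Q := sm ge N12706
def N18494 : Q := sm gi N12706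
def N18495 : Q := sm gf N12708
def N18496 : Q := sm gi N12708
def N18498 : Q := sm gh N12710
def N18499 : Q := sm gd N12711
def N18501 : Q := sm ge N12712
def N18502 : Q := sm gi N12712
def N18504 : Q := sm gi N12714
def N18508 : Q := sm gg N12718
def N18509 : Q := sm gi N12718
def N18510 : Q := sm gh N12719
def N18511 : Q := sm gf N12721
def N18512 : Q := sm gi N12721
def N18515 : Q := sm gi N12723
def N18517 : Q := sm gj N12726
def N18518 : Q := sm gi N12726
def N18519 : Q := sm gh N12727
def N18522 : Q := sm gh N12730
def N18523 : Q := sm gd N12731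
def N18526 : Q := sm gg N12736
def N18527 : Q := sm gh N12736
def N18528 : Q := sm gf N12737
def N18529 : Q := sm gj N12737
def N18530 : Q := sm gh N12737
def N18533 : Q := sm gj N12739
def N18535 : Q := sm gh N12740
def N18536 : Q := sm gd N12741
def N18539 : Q := sm gd N12743
def N18541 : Q := sm ge N12744
def N18543 : Q := sm gf N12746
def N18546 : Q := sm gg N12748
def N18547 : Q := sm ge N12749
def N18548 : Q := sm gj N12749
def N18549 : Q := sm gh N12749
def N18551 : Q := sm gd N12751
def N18552 : Q := sm gi N12751
def N18553 : Q := sm gc N12752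
def N18557 : Q := sm gh N12754
def N18558 : Q := sm gd N12755
def N18559 : Q := sm gd N12756
def N18560 : Q := sm gc N12757
def N18562 : Q := sm gb N12758
def N18563 : Q := sm ge N12758
def N18568 : Q := sm gj N12763
def N18569 : Q := sm gh N12764
def N18570 : Q := sm gd N12765
def N18571 : Q := sm gc N12766
def N18572 : Q := sm ge N12766
def N18574 : Q := sm gb N12768
def N18576 : Q := sm gj N12770
def N18577 : Q := sm gh N12770
def N18578 : Q := sm gg N12771
def N18580 : Q := sm gd N12772
def N18582 : Q := sm gd N12773
def N18583 : Q := sm gi N12773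
def N18586 : Q := sm gi N12774
def N18592 : Q := sm gh N12779
def N18593 : Q := sm gd N12780
def N18595 : Q := sm ge N12781
def N18608 : Q := sm gd N12792
def N18609 : Q := sm gc N12793
def N18610 : Q := sm ge N12793
def N18611 : Q := sm gb N12794
def N18612 : Q := sm ge N12794
def N18615 : Q := sm gc N12799
def N18616 : Q := sm ge N12799
def N18617 : Q := sm gb N12800
def N18618 : Q := sm ge N12800
def N18620 : Q := sm ge N12802
def N18622 : Q := sm ga N12804
def N18623 : Q := sm gf N12806
def N18624 : Q := sm gj N12806
def N18625 : Q := sm gh N12806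
def N18629 : Q := sm gj N12808
def N18631 : Q := sm gh N12809
def N18634 : Q := sm gj N12813
def N18635 : Q := sm gh N12813
def N18637 : Q := sm gh N12814
def N18638 : Q := sm gi N12815
def N18640 : Q := sm gg N12819
def N18641 : Q := sm gh N12819
def N18644 : Q := sm gh N12821
def N18646 : Q := sm gc N12825
def N18647 : Q := sm gg N12825
def N18651 : Q := sm gh N12826
def N18652 : Q := sm gd N12827
def N18658 : Q := sm ge N12830
def N18662 : Q := sm gf N12833
def N18663 : Q := sm gi N12833
def N18664 : Q := sm gh N12834
def N18665 : Q := sm gf N12835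
def N18666 : Q := sm gj N12835
def N18667 : Q := sm gh N12835
def N18668 : Q := sm gd N12836
def N18669 : Q := sm gi N12836
def N18671 : Q := sm gh N12837
def N18672 : Q := sm gh N12838
def N18673 : Q := sm gd N12839
def N18675 : Q := sm gc N12840
def N18678 : Q := sm gd N12842
def N18680 : Q := sm ge N12843
def N18681 : Q := sm gi N12843
def N18682 : Q := sm gf N12845
def N18684 : Q := sm gh N12846
def N18686 : Q := sm gi N12847
def N18691 : Q := sm gd N12852
def N18692 : Q := sm gi N12852
def N18693 : Q := sm gc N12853
def N18695 : Q := sm gb N12855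
def N18696 : Q := sm gi N12855
def N18702 : Q := sm gd N12860
def N18704 : Q := sm gc N12861
def N18707 : Q := sm gh N12863
def N18709 : Q := sm gi N12864
def N18710 : Q := sm gd N12865
def N18714 : Q := sm gi N12866
def N18715 : Q := sm gb N12868
def N18716 : Q := sm ge N12868
def N18717 : Q := sm gi N12868
def N18721 : Q := sm ge N12871
def N18723 : Q := sm gf N12873
def N18724 : Q := sm gi N12873
def N18728 : Q := sm gh N12876
def N18729 : Q := sm gj N12878
def N18730 : Q := sm gi N12878
def N18731 : Q := sm gh N12879
def N18732 : Q := sm gd N12880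
def N18733 : Q := sm gd N12881
def N18735 : Q := sm gc N12882
def N18736 : Q := sm ge N12882
def N18737 : Q := sm gi N12882
def N18738 : Q := sm gc N12884
def N18740 : Q := sm gb N12886
def N18741 : Q := sm gi N12886
def N18743 : Q := sm ga N12888
def N18746 : Q := sm gc N12891
def N18747 : Q := sm ge N12891
def N18749 : Q := sm gb N12893
def N18750 : Q := sm ge N12893
def N18751 : Q := sm gi N12893
def N18755 : Q := sm gi N12896
def N18761 : Q := sm gh N12902
def N18763 : Q := sm gg N12904
def N18764 : Q := sm gh N12904
def N18767 : Q := sm gd N12906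
def N18770 : Q := sm gd N12908
def N18772 : Q := sm gc N12909
def N18773 : Q := sm ge N12909
def N18774 : Q := sm gi N12909
def N18775 : Q := sm gd N12911
def N18777 : Q := sm gc N12912
def N18779 : Q := sm gi N12912
def N18780 : Q := sm ge N12914
def N18782 : Q := sm gf N12915
def N18784 : Q := sm gh N12916
def N18789 : Q := sm gg N12919
def N18791 : Q := sm gh N12920
def N18792 : Q := sm gh N12922
def N18794 : Q := sm gi N12923
def N18795 : Q := sm gc N12924
def N18796 : Q := sm ge N12924
def N18798 : Q := sm gd N12926
def N18799 : Q := sm gi N12926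
def N18800 : Q := sm gc N12927
def N18804 : Q := sm ge N12929
def N18805 : Q := sm gi N12929
def N18807 : Q := sm gi N12930
def N18811 : Q := sm gf N12934
def N18812 : Q := sm gi N12934
def N18819 : Q := sm gh N12940
def N18820 : Q := sm gd N12941
def N18823 : Q := sm gb N12944
def N18824 : Q := sm gi N12944
def N18826 : Q := sm ga N12946
def N18828 : Q := sm gh N12947
def N18829 : Q := sm gd N12949
def N18831 : Q := sm gc N12950
def N18832 : Q := sm ge N12950
def N18834 : Q := sm gb N12952
def N18835 : Q := sm ge N12952
def N18837 : Q := sm gf N12953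
def N18839 : Q := sm gh N12954
def N18840 : Q := sm gc N12955
def N18841 : Q := sm ge N12955
def N18842 : Q := sm gi N12955
def N18844 : Q := sm ge N12957
def N18847 : Q := sm gi N12958
def N18849 : Q := sm ga N12960
def N18850 : Q := sm ge N12960
def N18852 : Q := sm gf N12961
def N18853 : Q := sm gi N12961
def N18856 : Q := sm gi N12963
def N18858 : Q := sm gf N12966
def N18860 : Q := sm gh N12967
def N18861 : Q := sm gg N12968
def N18862 : Q := sm gi N12968
def N18863 : Q := sm gh N12969
def N18866 : Q := sm gh N12972
def N18867 : Q := sm gd N12973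
def N18868 : Q := sm gi N12974
def N18869 : Q := sm gh N12975
def N18870 : Q := sm gd N12976
def N18873 : Q := sm gi N12978
def N18876 : Q := sm gi N12980
def N18879 : Q := sm gh N12984
def N18882 : Q := sm gi N12986
def N18885 : Q := sm gh N12990
def N18887 : Q := sm gh N12992
def N18888 : Q := sm gd N12993
def N18890 : Q := sm gc N12995
def N18891 : Q := sm ge N12995
def N18893 : Q := sm ge N12997
def N18896 : Q := sm gi N12998
def N18898 : Q := sm gd N13000
def N18899 : Q := sm gf N13000
def N18900 : Q := sm gi N13000
def N18912 : Q := sm gj N13009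
def N18913 : Q := sm gi N13009
def N18914 : Q := sm gh N13010
def N18918 : Q := sm gh N13013
def N18919 : Q := sm gg N13014
def N18920 : Q := sm gi N13014
def N18921 : Q := sm gh N13015
def N18922 : Q := sm gj N13017
def N18923 : Q := sm gi N13017
def N18924 : Q := sm gh N13018
def N18925 : Q := sm gd N13019
def N18928 : Q := sm gd N13022
def N18930 : Q := sm gg N13024
def N18941 : Q := sm gh N13034
def N18942 : Q := sm gd N13035
def N18946 : Q := sm gg N13038
def N18947 : Q := sm gh N13038
def N18948 : Q := sm gf N13039
def N18949 : Q := sm gh N13039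
def N18950 : Q := sm gd N13040
def N18952 : Q := sm gh N13041
def N18953 : Q := sm gd N13042
def N18955 : Q := sm gc N13043
def N18956 : Q := sm ge N13043
def N18957 : Q := sm gi N13043
def N18958 : Q := sm gc N13045
def N18959 : Q := sm ge N13045
def N18960 : Q := sm gi N13045
def N18961 : Q := sm ge N13047
def N18964 : Q := sm gi N13048
def N18965 : Q := sm gh N13049
def N18966 : Q := sm gd N13050
def N18967 : Q := sm gf N13050
def N18969 : Q := sm gh N13051
def N18973 : Q := sm ge N13055
def N18974 : Q := sm gh N13055
def N18975 : Q := sm gd N13056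
def N18977 : Q := sm gc N13057
def N18978 : Q := sm ge N13057
def N18979 : Q := sm gi N13057
def N18980 : Q := sm gd N13059
def N18982 : Q := sm gc N13060
def N18983 : Q := sm ge N13060
def N18984 : Q := sm gi N13060
def N18985 : Q := sm gb N13062
def N18987 : Q := sm gi N13062
def N18988 : Q := sm gf N13063
def N18989 : Q := sm gi N13063
def N18991 : Q := sm gf N13065
def N18992 : Q := sm gi N13065
def N18994 : Q := sm gg N13067
def N18996 : Q := sm gh N13068
def N18997 : Q := sm gj N13070
def N18998 : Q := sm gi N13070
def N18999 : Q := sm gh N13071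
def N19001 : Q := sm gc N13073
def N19004 : Q := sm gb N13075
def N19007 : Q := sm ga N13077
def N19008 : Q := sm gi N13077
def N19009 : Q := sm gh N13078
def N19010 : Q := sm gh N13080
def N19011 : Q := sm gd N13081
def N19013 : Q := sm gc N13082
def N19014 : Q := sm ge N13082
def N19016 : Q := sm gb N13084
def N19017 : Q := sm ge N13084
def N19019 : Q := sm gf N13085
def N19020 : Q := sm gi N13085
def N19022 : Q := sm gc N13087
def N19023 : Q := sm ge N13087
def N19026 : Q := sm ge N13089
def N19027 : Q := sm gi N13089
def N19028 : Q := sm gf N13090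
def N19029 : Q := sm gi N13090
def N19031 : Q := sm ga N13092
def N19032 : Q := sm ge N13092
def N19033 : Q := sm gi N13092
def N19034 : Q := sm gf N13093
def N19035 : Q := sm gi N13093
def N19037 : Q := sm gg N13095
def N19038 : Q := sm gi N13095
def N19039 : Q := sm gh N13096
def N19040 : Q := sm gg N13098
def N19044 : Q := sm gi N13101
def N19046 : Q := sm gd N13103
def N19048 : Q := sm gh N13105
def N19049 : Q := sm gd N13106
def N19051 : Q := sm gb N13108
def N19052 : Q := sm ge N13108
def N19055 : Q := sm gh N13110
def N19056 : Q := sm ga N13111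
def N19059 : Q := sm gi N13114
def N19062 : Q := sm ga N13117
def N19063 : Q := sm ge N13117
def N19066 : Q := sm gi N13118
def N19067 : Q := sm gh N13119
def N19069 : Q := sm gi N13122
def N19070 : Q := sm gh N13123
def N19073 : Q := sm gd N13126
def N19078 : Q := sm ge N13129
def N19081 : Q := sm ge N13131
def N19082 : Q := sm gi N13131
def N19084 : Q := sm gi N13132
def N19087 : Q := sm gf N13134
def N19088 : Q := sm gi N13134
def N19091 : Q := sm gi N13136
def N19092 : Q := sm gh N13137
def N19093 : Q := sm gf N13139
def N19094 : Q := sm gh N13139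
def N19096 : Q := sm gg N13140
def N19097 : Q := sm gi N13140
def N19101 : Q := sm gi N13143
def N19103 : Q := sm gd N13145
def N19104 : Q := sm gb N13146
def N19107 : Q := sm gf N13147
def N19108 : Q := sm gi N13147
def N19109 : Q := sm gh N13148
def N19111 : Q := sm ge N13149
def N19112 : Q := sm gi N13149
def N19113 : Q := sm gf N13150
def N19115 : Q := sm gh N13151
def N19117 : Q := sm gi N13152
def N19118 : Q := sm gh N13153
def N19119 : Q := sm gj N13155
def N19122 : Q := sm gd N13157
def N19126 : Q := sm gc N13161
def N19128 : Q := sm gh N13163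
def N19131 : Q := sm ge N13165
def N19132 : Q := sm gi N13165
def N19133 : Q := sm gd N13166
def N19135 : Q := sm gi N13166
def N19137 : Q := sm gg N13168
def N19139 : Q := sm gh N13169
def N19140 : Q := sm ge N13171
def N19141 : Q := sm gi N13171
def N19142 : Q := sm gf N13172
def N19144 : Q := sm gh N13173
def N19147 : Q := sm gh N13175
def N19149 : Q := sm gj N13177
def N19150 : Q := sm gi N13177
def N19151 : Q := sm gh N13178
def N19154 : Q := sm gh N13181
def N19155 : Q := sm gd N13182
def N19156 : Q := sm gc N13183
def N19157 : Q := sm gh N13184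
def N19158 : Q := sm gd N13185
def N19159 : Q := sm gc N13186
def N19160 : Q := sm ge N13186
def N19175 : Q := sm gj N13197
def N19180 : Q := sm gi N13201
def N19181 : Q := sm gh N13202
def N19182 : Q := sm gd N13203
def N19184 : Q := sm gh N13205
def N19196 : Q := sm gh N13214
def N19197 : Q := sm gd N13215
def N19200 : Q := sm gh N13216
def N19201 : Q := sm gd N13217
def N19203 : Q := sm gc N13218
def N19204 : Q := sm ge N13218
def N19206 : Q := sm gd N13220
def N19208 : Q := sm gc N13221
def N19210 : Q := sm gi N13221
def N19211 : Q := sm gb N13223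
def N19213 : Q := sm gi N13223
def N19214 : Q := sm gf N13224
def N19215 : Q := sm gi N13224
def N19217 : Q := sm ge N13226
def N19219 : Q := sm gf N13227
def N19220 : Q := sm gi N13227
def N19221 : Q := sm gh N13228
def N19222 : Q := sm gd N13229
def N19223 : Q := sm gf N13229
def N19224 : Q := sm gi N13229
def N19226 : Q := sm gg N13231
def N19228 : Q := sm gh N13232
def N19229 : Q := sm gf N13234
def N19232 : Q := sm gg N13235
def N19233 : Q := sm gi N13235
def N19237 : Q := sm gi N13238
def N19238 : Q := sm gh N13239
def N19240 : Q := sm gh N13241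
def N19241 : Q := sm gd N13242
def N19242 : Q := sm gi N13242
def N19243 : Q := sm gc N13243
def N19244 : Q := sm ge N13243
def N19246 : Q := sm gb N13245
def N19247 : Q := sm ge N13245
def N19249 : Q := sm gf N13246
def N19252 : Q := sm gc N13248
def N19255 : Q := sm gb N13250
def N19256 : Q := sm ge N13250
def N19257 : Q := sm gi N13250
def N19259 : Q := sm gi N13251
def N19262 : Q := sm ge N13253
def N19266 : Q := sm gh N13255
def N19267 : Q := sm gg N13256
def N19268 : Q := sm gi N13256
def N19271 : Q := sm gi N13259
def N19272 : Q := sm gh N13260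
def N19273 : Q := sm gj N13262
def N19276 : Q := sm gd N13264
def N19277 : Q := sm gi N13265
def N19279 : Q := sm gd N13267
def N19280 : Q := sm gc N13268
def N19281 : Q := sm gb N13269
def N19282 : Q := sm ge N13269
def N19283 : Q := sm gi N13269
def N19288 : Q := sm gh N13273
def N19289 : Q := sm gi N13275
def N19291 : Q := sm gd N13277
def N19292 : Q := sm gd N13278
def N19295 : Q := sm ge N13279
def N19297 : Q := sm gb N13281
def N19298 : Q := sm ge N13281
def N19299 : Q := sm gi N13281
def N19302 : Q := sm gh N13283
def N19303 : Q := sm ga N13284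
def N19304 : Q := sm ge N13284
def N19305 : Q := sm gi N13284
def N19306 : Q := sm gd N13285
def N19307 : Q := sm gf N13285
def N19308 : Q := sm gi N13285
def N19309 : Q := sm gh N13286
def N19310 : Q := sm gg N13287
def N19313 : Q := sm gb N13290
def N19314 : Q := sm ge N13290
def N19316 : Q := sm gf N13291
def N19317 : Q := sm gi N13291
def N19319 : Q := sm ga N13293
def N19320 : Q := sm ge N13293
def N19321 : Q := sm gi N13293
def N19322 : Q := sm gf N13294
def N19323 : Q := sm gi N13294
def N19328 : Q := sm ge N13299
def N19330 : Q := sm gf N13300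
def N19332 : Q := sm gh N13301
def N19333 : Q := sm gg N13302
def N19334 : Q := sm gi N13302
def N19335 : Q := sm gh N13303
def N19336 : Q := sm gd N13304
def N19337 : Q := sm gj N13305
def N19338 : Q := sm gi N13305
def N19339 : Q := sm gh N13306
def N19340 : Q := sm gd N13307
def N19342 : Q := sm gi N13308
def N19345 : Q := sm gi N13311
def N19346 : Q := sm gh N13312
def N19347 : Q := sm gd N13313
def N19348 : Q := sm gc N13314
def N19349 : Q := sm gh N13315
def N19350 : Q := sm gd N13316
def N19352 : Q := sm ge N13317
def N19354 : Q := sm ga N13319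
def N19355 : Q := sm ge N13319
def N19356 : Q := sm gi N13319
def N19357 : Q := sm gd N13320
def N19358 : Q := sm gi N13320
def N19360 : Q := sm gh N13322
def N19362 : Q := sm gh N13325
def N19363 : Q := sm gd N13326
def N19367 : Q := sm ge N13330
def N19369 : Q := sm gd N13331
def N19372 : Q := sm gh N13333
def N19373 : Q := sm gi N13333
def N19374 : Q := sm gh N13334
def N19376 : Q := sm gd N13336
def N19377 : Q := sm gh N13337
def N19384 : Q := sm gc N13343
def N19385 : Q := sm ge N13343
def N19386 : Q := sm gi N13343
def N19388 : Q := sm ge N13345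
def N19389 : Q := sm gi N13345
def N19391 : Q := sm gi N13346
def N19396 : Q := sm gd N13349
def N19397 : Q := sm gf N13349
def N19399 : Q := sm gh N13350
def N19401 : Q := sm gi N13351
def N19403 : Q := sm gf N13354
def N19404 : Q := sm gh N13354
def N19405 : Q := sm gi N13354
def N19407 : Q := sm gi N13355
def N19412 : Q := sm gh N13359
def N19415 : Q := sm gg N13361
def N19416 : Q := sm gh N13361
def N19417 : Q := sm gi N13361
def N19420 : Q := sm gj N13364
def N19421 : Q := sm gi N13364
def N19422 : Q := sm gh N13365
def N19426 : Q := sm gh N13369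
def N19427 : Q := sm gd N13370
def N19431 : Q := sm gi N13372
def N19433 : Q := sm gf N13373
def N19434 : Q := sm gi N13373
def N19437 : Q := sm gi N13375
def N19438 : Q := sm gh N13376
def N19442 : Q := sm gi N13379
def N19443 : Q := sm gh N13380
def N19444 : Q := sm gg N13381
def N19447 : Q := sm gd N13383
def N19448 : Q := sm gj N13384
def N19452 : Q := sm gi N13387
def N19461 : Q := sm gh N13395
def N19462 : Q := sm gd N13396
def N19465 : Q := sm gi N13398
def N19467 : Q := sm gf N13399
def N19469 : Q := sm gh N13400
def N19470 : Q := sm gf N13401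
def N19471 : Q := sm gi N13401
def N19472 : Q := sm gg N13402
def N19474 : Q := sm gh N13403
def N19475 : Q := sm gd N13404
def N19476 : Q := sm gj N13405
def N19477 : Q := sm gi N13405
def N19479 : Q := sm gd N13407
def N19482 : Q := sm gh N13409
def N19483 : Q := sm gg N13410
def N19484 : Q := sm gi N13410
def N19486 : Q := sm gd N13412
def N19490 : Q := sm gd N13415
def N19491 : Q := sm ge N13416
def N19493 : Q := sm gh N13418
def N19494 : Q := sm gd N13419
def N19495 : Q := sm gc N13420
def N19496 : Q := sm gh N13421
def N19497 : Q := sm gd N13422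
def N19498 : Q := sm gc N13423
def N19500 : Q := sm gb N13424
def N19501 : Q := sm gd N13425
def N19502 : Q := sm gc N13426
def N19505 : Q := sm ge N13427
def N19509 : Q := sm ge N13431
def N19519 : Q := sm gj N13438
def N19520 : Q := sm gh N13438
def N19521 : Q := sm gi N13438
def N19526 : Q := sm gi N13443
def N19532 : Q := sm gh N13448
def N19533 : Q := sm gd N13449
def N19535 : Q := sm ge N13450
def N19551 : Q := sm gb N13463
def N19552 : Q := sm ge N13463
def N19553 : Q := sm gf N13464
def N19554 : Q := sm ga N13465
def N19555 : Q := sm ge N13465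
def N19556 : Q := sm gd N13466
def N19557 : Q := sm gf N13466
def N19558 : Q := sm gg N13467
def N19559 : Q := sm ge N13468
def N19560 : Q := sm gd N13469
def N19561 : Q := sm gf N13469
def N19562 : Q := sm gf N13470
def N19563 : Q := sm gh N13470
def N19564 : Q := sm gg N13471
def N19565 : Q := sm gj N13472
def N19567 : Q := sm gf N13473
def N19569 : Q := sm gf N13474
def N19570 : Q := sm gh N13474
def N19571 : Q := sm gg N13475
def N19572 : Q := sm ge N13476
def N19574 : Q := sm gh N13476
def N19577 : Q := sm ge N13480
def N19578 : Q := sm gd N13481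
def N19579 : Q := sm gf N13481
def N19580 : Q := sm gf N13482
def N19581 : Q := sm gh N13482
def N19582 : Q := sm gg N13483
def N19583 : Q := sm gj N13484
def N19584 : Q := sm gd N13485
def N19585 : Q := sm gf N13485
def N19586 : Q := sm gc N13486
def N19587 : Q := sm gf N13486
def N19588 : Q := sm gh N13486
def N19589 : Q := sm gg N13487
def N19590 : Q := sm ge N13488
def N19591 : Q := sm gg N13488
def N19592 : Q := sm gh N13488
def N19594 : Q := sm gj N13490
def N19596 : Q := sm gf N13492
def N19597 : Q := sm gh N13492
def N19598 : Q := sm gg N13493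
def N19599 : Q := sm gf N13494
def N19600 : Q := sm gh N13494
def N19601 : Q := sm ge N13495
def N19602 : Q := sm gg N13495
def N19603 : Q := sm gh N13495
def N19604 : Q := sm gi N13496
def N19605 : Q := sm gj N13497
def N19606 : Q := sm gg N13498
def N19607 : Q := sm gh N13498
def N19608 : Q := sm gj N13499
def N19609 : Q := sm gh N13499
def N19610 : Q := sm gi N13500
def N19611 : Q := sm gc N13503
def N19612 : Q := sm gf N13503
def N19613 : Q := sm gh N13503
def N19614 : Q := sm gg N13504
def N19615 : Q := sm gf N13505
def N19616 : Q := sm gh N13505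
def N19617 : Q := sm ge N13506
def N19618 : Q := sm gg N13506
def N19619 : Q := sm gh N13506
def N19620 : Q := sm gi N13507
def N19621 : Q := sm gj N13508
def N19622 : Q := sm gg N13509
def N19623 : Q := sm gh N13509
def N19624 : Q := sm gj N13510
def N19625 : Q := sm gh N13510
def N19626 : Q := sm gi N13511
def N19627 : Q := sm gb N13514
def N19628 : Q := sm gf N13514
def N19629 : Q := sm gh N13514
def N19630 : Q := sm ge N13515
def N19631 : Q := sm gg N13515
def N19632 : Q := sm gh N13515
def N19633 : Q := sm gi N13516
def N19634 : Q := sm gj N13517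
def N19635 : Q := sm ge N13518
def N19636 : Q := sm gg N13518
def N19637 : Q := sm gh N13518
def N19638 : Q := sm gd N13519
def N19639 : Q := sm gi N13519
def N19640 : Q := sm gg N13520
def N19641 : Q := sm gh N13520
def N19642 : Q := sm gj N13521
def N19643 : Q := sm gh N13521
def N19644 : Q := sm gi N13522
def N19645 : Q := sm gf N13525
def N19646 : Q := sm gj N13525
def N19647 : Q := sm gh N13525
def N19648 : Q := sm gd N13526
def N19649 : Q := sm gi N13526
def N19650 : Q := sm gh N13527
def N19651 : Q := sm gi N13528
def N19652 : Q := sm gf N13530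
def N19653 : Q := sm gh N13530
def N19654 : Q := sm ge N13531
def N19655 : Q := sm gg N13531
def N19656 : Q := sm gh N13531
def N19657 : Q := sm gd N13532
def N19658 : Q := sm gi N13532
def N19659 : Q := sm gg N13533
def N19660 : Q := sm gh N13533
def N19661 : Q := sm gj N13534
def N19662 : Q := sm gh N13534
def N19663 : Q := sm gi N13535
def N19665 : Q := sm gg N13538
def N19666 : Q := sm gh N13538
def N19667 : Q := sm gj N13539
def N19668 : Q := sm gh N13539
def N19669 : Q := sm gd N13540
def N19670 : Q := sm gi N13540
def N19671 : Q := sm ge N13541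
def N19672 : Q := sm gi N13541
def N19673 : Q := sm gf N13543
def N19674 : Q := sm gj N13543
def N19675 : Q := sm gh N13543
def N19676 : Q := sm gd N13544
def N19677 : Q := sm gi N13544
def N19678 : Q := sm gh N13545
def N19679 : Q := sm gi N13546
def N19680 : Q := sm gj N13548
def N19681 : Q := sm gh N13548
def N19682 : Q := sm gh N13549
def N19683 : Q := sm gd N13550
def N19684 : Q := sm gi N13550
def N19685 : Q := sm gc N13551
def N19686 : Q := sm gi N13551
def N19687 : Q := sm gi N13553
def N19688 : Q := sm ge N13555
def N19689 : Q := sm gd N13556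
def N19690 : Q := sm gf N13556
def N19691 : Q := sm gf N13557
def N19692 : Q := sm gh N13557
def N19693 : Q := sm gg N13558
def N19694 : Q := sm gj N13559
def N19695 : Q := sm gd N13560
def N19696 : Q := sm gf N13560
def N19697 : Q := sm gc N13561
def N19698 : Q := sm gf N13561
def N19699 : Q := sm gh N13561
def N19700 : Q := sm gg N13562
def N19701 : Q := sm ge N13563
def N19702 : Q := sm gg N13563
def N19703 : Q := sm gh N13563
def N19704 : Q := sm gi N13564
def N19706 : Q := sm gd N13567
def N19707 : Q := sm gf N13567
def N19708 : Q := sm gc N13568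
def N19709 : Q := sm gf N13568
def N19710 : Q := sm gh N13568
def N19711 : Q := sm gg N13569
def N19712 : Q := sm ge N13570
def N19713 : Q := sm gg N13570
def N19714 : Q := sm gh N13570
def N19715 : Q := sm gi N13571
def N19716 : Q := sm gj N13572
def N19717 : Q := sm gc N13574
def N19718 : Q := sm gf N13574
def N19719 : Q := sm gh N13574
def N19720 : Q := sm gg N13575
def N19721 : Q := sm gf N13576
def N19722 : Q := sm gh N13576
def N19723 : Q := sm ge N13577
def N19724 : Q := sm gg N13577
def N19725 : Q := sm gh N13577
def N19726 : Q := sm gi N13578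
def N19727 : Q := sm gj N13579
def N19728 : Q := sm gg N13580
def N19729 : Q := sm gh N13580
def N19730 : Q := sm gj N13581
def N19731 : Q := sm gh N13581
def N19732 : Q := sm gi N13582
def N19733 : Q := sm gc N13585
def N19734 : Q := sm gf N13585
def N19735 : Q := sm gh N13585
def N19736 : Q := sm gg N13586
def N19737 : Q := sm gf N13587
def N19738 : Q := sm gh N13587
def N19739 : Q := sm ge N13588
def N19740 : Q := sm gg N13588
def N19741 : Q := sm gh N13588
def N19742 : Q := sm gi N13589
def N19743 : Q := sm gj N13590
def N19744 : Q := sm gg N13591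
def N19745 : Q := sm gh N13591
def N19746 : Q := sm gj N13592
def N19747 : Q := sm gh N13592
def N19748 : Q := sm gi N13593
def N19749 : Q := sm gb N13596
def N19750 : Q := sm gf N13596
def N19752 : Q := sm ge N13597
def N19753 : Q := sm gg N13597
def N19754 : Q := sm gh N13597
def N19755 : Q := sm gi N13598
def N19756 : Q := sm gj N13599
def N19757 : Q := sm ge N13600
def N19758 : Q := sm gg N13600
def N19759 : Q := sm gh N13600
def N19760 : Q := sm gd N13601
def N19762 : Q := sm gg N13602
def N19763 : Q := sm gh N13602
def N19764 : Q := sm gj N13603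
def N19765 : Q := sm gh N13603
def N19766 : Q := sm gi N13604
def N19767 : Q := sm gf N13607
def N19768 : Q := sm gj N13607
def N19769 : Q := sm gh N13607
def N19770 : Q := sm gd N13608
def N19771 : Q := sm gi N13608
def N19772 : Q := sm gh N13609
def N19773 : Q := sm gi N13610
def N19774 : Q := sm gc N13612
def N19775 : Q := sm gf N13612
def N19776 : Q := sm gh N13612
def N19777 : Q := sm gg N13613
def N19778 : Q := sm gf N13614
def N19779 : Q := sm gh N13614
def N19780 : Q := sm ge N13615
def N19781 : Q := sm gg N13615
def N19782 : Q := sm gh N13615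
def N19783 : Q := sm gi N13616
def N19784 : Q := sm gj N13617
def N19785 : Q := sm gg N13618
def N19786 : Q := sm gh N13618
def N19787 : Q := sm gj N13619
def N19788 : Q := sm gh N13619
def N19789 : Q := sm gi N13620
def N19790 : Q := sm gb N13623
def N19791 : Q := sm gf N13623
def N19792 : Q := sm gh N13623
def N19793 : Q := sm ge N13624
def N19794 : Q := sm gg N13624
def N19795 : Q := sm gh N13624
def N19796 : Q := sm gi N13625
def N19797 : Q := sm gj N13626
def N19798 : Q := sm ge N13627
def N19799 : Q := sm gg N13627
def N19800 : Q := sm gh N13627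
def N19801 : Q := sm gd N13628
def N19802 : Q := sm gi N13628
def N19803 : Q := sm gg N13629
def N19804 : Q := sm gh N13629
def N19805 : Q := sm gj N13630
def N19806 : Q := sm gh N13630
def N19807 : Q := sm gi N13631
def N19808 : Q := sm gf N13634
def N19809 : Q := sm gj N13634
def N19810 : Q := sm gh N13634
def N19811 : Q := sm gd N13635
def N19812 : Q := sm gi N13635
def N19813 : Q := sm gh N13636
def N19814 : Q := sm gi N13637
def N19815 : Q := sm gb N13639
def N19816 : Q := sm gf N13639
def N19817 : Q := sm gh N13639
def N19818 : Q := sm ge N13640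
def N19819 : Q := sm gg N13640
def N19820 : Q := sm gh N13640
def N19821 : Q := sm gi N13641
def N19822 : Q := sm gj N13642
def N19823 : Q := sm ge N13643
def N19824 : Q := sm gg N13643
def N19825 : Q := sm gh N13643
def N19826 : Q := sm gd N13644
def N19827 : Q := sm gi N13644
def N19828 : Q := sm gg N13645
def N19829 : Q := sm gh N13645
def N19830 : Q := sm gj N13646
def N19831 : Q := sm gh N13646
def N19832 : Q := sm gi N13647
def N19833 : Q := sm gf N13650
def N19834 : Q := sm gj N13650
def N19835 : Q := sm gh N13650
def N19836 : Q := sm gd N13651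
def N19837 : Q := sm gi N13651
def N19838 : Q := sm gh N13652
def N19839 : Q := sm gi N13653
def N19840 : Q := sm gf N13655
def N19841 : Q := sm gh N13655
def N19842 : Q := sm ge N13656
def N19843 : Q := sm gg N13656
def N19844 : Q := sm gh N13656
def N19845 : Q := sm gd N13657
def N19846 : Q := sm gi N13657
def N19847 : Q := sm gg N13658
def N19848 : Q := sm gh N13658
def N19849 : Q := sm gj N13659
def N19850 : Q := sm gh N13659
def N19851 : Q := sm gi N13660
def N19852 : Q := sm gd N13663
def N19853 : Q := sm gg N13663
def N19854 : Q := sm gh N13663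
def N19855 : Q := sm gj N13664
def N19856 : Q := sm gh N13664
def N19857 : Q := sm gd N13665
def N19858 : Q := sm gi N13665
def N19859 : Q := sm ge N13666
def N19860 : Q := sm gi N13666
def N19861 : Q := sm gf N13668
def N19862 : Q := sm gj N13668
def N19863 : Q := sm gh N13668
def N19864 : Q := sm gd N13669
def N19865 : Q := sm gi N13669
def N19866 : Q := sm gh N13670
def N19867 : Q := sm gi N13671
def N19868 : Q := sm gj N13673
def N19869 : Q := sm gh N13673
def N19870 : Q := sm gh N13674
def N19871 : Q := sm gd N13675
def N19872 : Q := sm gi N13675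
def N19873 : Q := sm gc N13676
def N19874 : Q := sm gi N13676
def N19875 : Q := sm gi N13678
def N19876 : Q := sm gf N13680
def N19877 : Q := sm gh N13680
def N19878 : Q := sm ge N13681
def N19879 : Q := sm gg N13681
def N19880 : Q := sm gh N13681
def N19881 : Q := sm gd N13682
def N19882 : Q := sm gi N13682
def N19883 : Q := sm gg N13683
def N19884 : Q := sm gh N13683
def N19885 : Q := sm gj N13684
def N19886 : Q := sm gh N13684
def N19887 : Q := sm gi N13685
def N19888 : Q := sm gd N13688
def N19889 : Q := sm gg N13688
def N19890 : Q := sm gh N13688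
def N19891 : Q := sm gj N13689
def N19892 : Q := sm gh N13689
def N19893 : Q := sm gd N13690
def N19894 : Q := sm gi N13690
def N19895 : Q := sm ge N13691
def N19896 : Q := sm gi N13691
def N19897 : Q := sm gf N13693
def N19898 : Q := sm gj N13693
def N19899 : Q := sm gh N13693
def N19900 : Q := sm gd N13694
def N19901 : Q := sm gi N13694
def N19902 : Q := sm gh N13695
def N19903 : Q := sm gi N13696
def N19904 : Q := sm gj N13698
def N19905 : Q := sm gh N13698
def N19906 : Q := sm gh N13699
def N19907 : Q := sm gd N13700
def N19908 : Q := sm gi N13700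
def N19909 : Q := sm gc N13701
def N19910 : Q := sm gi N13701
def N19911 : Q := sm gi N13703
def N19912 : Q := sm ge N13705
def N19913 : Q := sm gg N13705
def N19914 : Q := sm gh N13705
def N19915 : Q := sm gd N13706
def N19916 : Q := sm gi N13706
def N19917 : Q := sm gd N13707
def N19918 : Q := sm gg N13707
def N19919 : Q := sm gh N13707
def N19920 : Q := sm gj N13708
def N19921 : Q := sm gh N13708
def N19922 : Q := sm gd N13709
def N19923 : Q := sm gi N13709
def N19924 : Q := sm ge N13710
def N19925 : Q := sm gi N13710
def N19926 : Q := sm gf N13712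
def N19927 : Q := sm gj N13712
def N19928 : Q := sm gh N13712
def N19929 : Q := sm gd N13713
def N19930 : Q := sm gi N13713
def N19931 : Q := sm gh N13714
def N19932 : Q := sm gi N13715
def N19933 : Q := sm gg N13717
def N19934 : Q := sm gh N13717
def N19935 : Q := sm gf N13718
def N19936 : Q := sm gj N13718
def N19937 : Q := sm gh N13718
def N19938 : Q := sm gd N13719
def N19939 : Q := sm gi N13719
def N19940 : Q := sm gh N13720
def N19941 : Q := sm gd N13721
def N19942 : Q := sm gi N13721
def N19943 : Q := sm ge N13722
def N19944 : Q := sm gi N13722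
def N19945 : Q := sm gf N13724
def N19946 : Q := sm gi N13724
def N19947 : Q := sm gh N13725
def N19948 : Q := sm gj N13726
def N19949 : Q := sm gh N13726
def N19950 : Q := sm gh N13727
def N19951 : Q := sm gd N13728
def N19952 : Q := sm gi N13728
def N19953 : Q := sm gc N13729
def N19954 : Q := sm gi N13729
def N19955 : Q := sm gi N13731
def N19956 : Q := sm gg N13733
def N19957 : Q := sm gh N13733
def N19958 : Q := sm gd N13734
def N19959 : Q := sm gi N13734
def N19960 : Q := sm gd N13735
def N19961 : Q := sm gi N13735
def N19962 : Q := sm gc N13736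
def N19963 : Q := sm gi N13736
def N19964 : Q := sm gb N13738
def N19965 : Q := sm gi N13738
def N19966 : Q := sm gh N13739
def N19967 : Q := sm gc N13741
def N19968 : Q := sm gf N13741
def N19969 : Q := sm gh N13741
def N19970 : Q := sm gg N13742
def N19971 : Q := sm gf N13743
def N19972 : Q := sm gh N13743
def N19973 : Q := sm ge N13744
def N19974 : Q := sm gg N13744
def N19975 : Q := sm gh N13744
def N19976 : Q := sm gi N13745
def N19977 : Q := sm gj N13746
def N19978 : Q := sm gg N13747
def N19979 : Q := sm gh N13747
def N19980 : Q := sm gj N13748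
def N19981 : Q := sm gh N13748
def N19982 : Q := sm gi N13749
def N19983 : Q := sm gb N13752
def N19984 : Q := sm gf N13752
def N19985 : Q := sm gh N13752
def N19986 : Q := sm ge N13753
def N19987 : Q := sm gg N13753
def N19988 : Q := sm gh N13753
def N19989 : Q := sm gi N13754
def N19990 : Q := sm gj N13755
def N19991 : Q := sm ge N13756
def N19992 : Q := sm gg N13756
def N19993 : Q := sm gh N13756
def N19994 : Q := sm gd N13757
def N19995 : Q := sm gi N13757
def N19996 : Q := sm gg N13758
def N19997 : Q := sm gh N13758
def N19998 : Q := sm gj N13759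
def N19999 : Q := sm gh N13759
def N20000 : Q := sm gi N13760
def N20001 : Q := sm gf N13763
def N20002 : Q := sm gj N13763
def N20003 : Q := sm gh N13763
def N20004 : Q := sm gd N13764
def N20005 : Q := sm gi N13764
def N20006 : Q := sm gh N13765
def N20007 : Q := sm gi N13766
def N20008 : Q := sm gf N13768
def N20009 : Q := sm gh N13768
def N20010 : Q := sm ge N13769
def N20011 : Q := sm gg N13769
def N20012 : Q := sm gh N13769
def N20013 : Q := sm gd N13770
def N20014 : Q := sm gi N13770
def N20015 : Q := sm gg N13771
def N20016 : Q := sm gh N13771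
def N20017 : Q := sm gj N13772
def N20018 : Q := sm gh N13772
def N20019 : Q := sm gi N13773
def N20020 : Q := sm gd N13776
def N20021 : Q := sm gg N13776
def N20022 : Q := sm gh N13776
def N20023 : Q := sm gj N13777
def N20024 : Q := sm gh N13777
def N20025 : Q := sm gd N13778
def N20026 : Q := sm gi N13778
def N20027 : Q := sm ge N13779
def N20028 : Q := sm gi N13779
def N20029 : Q := sm gf N13781
def N20030 : Q := sm gj N13781
def N20031 : Q := sm gh N13781
def N20032 : Q := sm gd N13782
def N20033 : Q := sm gi N13782
def N20034 : Q := sm gh N13783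
def N20035 : Q := sm gi N13784
def N20036 : Q := sm gj N13786
def N20037 : Q := sm gh N13786
def N20038 : Q := sm gh N13787
def N20039 : Q := sm gd N13788
def N20040 : Q := sm gi N13788
def N20041 : Q := sm gc N13789
def N20042 : Q := sm gi N13789
def N20043 : Q := sm gi N13791
def N20044 : Q := sm gb N13793
def N20045 : Q := sm gf N13793
def N20046 : Q := sm gh N13793
def N20047 : Q := sm ge N13794
def N20048 : Q := sm gg N13794
def N20049 : Q := sm gh N13794
def N20050 : Q := sm gi N13795
def N20051 : Q := sm gj N13796
def N20052 : Q := sm ge N13797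
def N20053 : Q := sm gg N13797
def N20054 : Q := sm gh N13797
def N20055 : Q := sm gd N13798
def N20056 : Q := sm gi N13798
def N20057 : Q := sm gg N13799
def N20058 : Q := sm gh N13799
def N20059 : Q := sm gj N13800
def N20060 : Q := sm gh N13800
def N20061 : Q := sm gi N13801
def N20062 : Q := sm gf N13804
def N20063 : Q := sm gj N13804
def N20064 : Q := sm gh N13804
def N20065 : Q := sm gd N13805
def N20066 : Q := sm gi N13805
def N20067 : Q := sm gh N13806
def N20068 : Q := sm gi N13807
def N20069 : Q := sm gf N13809
def N20070 : Q := sm gh N13809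
def N20071 : Q := sm ge N13810
def N20072 : Q := sm gg N13810
def N20073 : Q := sm gh N13810
def N20074 : Q := sm gd N13811
def N20075 : Q := sm gi N13811
def N20076 : Q := sm gg N13812
def N20077 : Q := sm gh N13812
def N20078 : Q := sm gj N13813
def N20079 : Q := sm gh N13813
def N20080 : Q := sm gi N13814
def N20081 : Q := sm gd N13817
def N20082 : Q := sm gg N13817
def N20083 : Q := sm gh N13817
def N20084 : Q := sm gj N13818
def N20085 : Q := sm gh N13818
def N20086 : Q := sm gd N13819
def N20087 : Q := sm gi N13819
def N20088 : Q := sm ge N13820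
def N20089 : Q := sm gi N13820
def N20090 : Q := sm gf N13822
def N20091 : Q := sm gj N13822
def N20092 : Q := sm gh N13822
def N20093 : Q := sm gd N13823
def N20094 : Q := sm gi N13823
def N20095 : Q := sm gh N13824
def N20096 : Q := sm gi N13825
def N20097 : Q := sm gj N13827
def N20098 : Q := sm gh N13827
def N20099 : Q := sm gh N13828
def N20100 : Q := sm gd N13829
def N20101 : Q := sm gi N13829
def N20102 : Q := sm gc N13830
def N20103 : Q := sm gi N13830
def N20104 : Q := sm gi N13832
def N20105 : Q := sm ge N13834
def N20106 : Q := sm gg N13834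
def N20107 : Q := sm gh N13834
def N20108 : Q := sm gd N13835
def N20109 : Q := sm gi N13835
def N20110 : Q := sm gd N13836
def N20111 : Q := sm gg N13836
def N20112 : Q := sm gh N13836
def N20113 : Q := sm gj N13837
def N20114 : Q := sm gh N13837
def N20115 : Q := sm gd N13838
def N20116 : Q := sm gi N13838
def N20117 : Q := sm ge N13839
def N20118 : Q := sm gi N13839
def N20119 : Q := sm gf N13841
def N20120 : Q := sm gj N13841
def N20121 : Q := sm gh N13841
def N20122 : Q := sm gd N13842
def N20123 : Q := sm gi N13842
def N20124 : Q := sm gh N13843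
def N20125 : Q := sm gi N13844
def N20126 : Q := sm gg N13846
def N20127 : Q := sm gh N13846
def N20128 : Q := sm gf N13847
def N20129 : Q := sm gj N13847
def N20130 : Q := sm gh N13847
def N20131 : Q := sm gd N13848
def N20132 : Q := sm gi N13848
def N20133 : Q := sm gh N13849
def N20134 : Q := sm gd N13850
def N20135 : Q := sm gi N13850
def N20136 : Q := sm ge N13851
def N20137 : Q := sm gi N13851
def N20138 : Q := sm gf N13853
def N20139 : Q := sm gi N13853
def N20140 : Q := sm gh N13854
def N20141 : Q := sm gj N13855
def N20142 : Q := sm gh N13855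
def N20143 : Q := sm gh N13856
def N20144 : Q := sm gd N13857
def N20145 : Q := sm gi N13857
def N20146 : Q := sm gc N13858
def N20147 : Q := sm gi N13858
def N20148 : Q := sm gi N13860
def N20149 : Q := sm gg N13862
def N20150 : Q := sm gh N13862
def N20151 : Q := sm gd N13863
def N20152 : Q := sm gi N13863
def N20153 : Q := sm gd N13864
def N20154 : Q := sm gi N13864
def N20155 : Q := sm gc N13865
def N20156 : Q := sm gi N13865
def N20157 : Q := sm gb N13867
def N20158 : Q := sm gi N13867
def N20159 : Q := sm gh N13868
def N20160 : Q := sm gf N13870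
def N20161 : Q := sm gh N13870
def N20162 : Q := sm ge N13871
def N20163 : Q := sm gg N13871
def N20164 : Q := sm gh N13871
def N20165 : Q := sm gd N13872
def N20166 : Q := sm gi N13872
def N20167 : Q := sm gg N13873
def N20168 : Q := sm gh N13873
def N20169 : Q := sm gj N13874
def N20170 : Q := sm gh N13874
def N20171 : Q := sm gi N13875
def N20172 : Q := sm gd N13878
def N20173 : Q := sm gg N13878
def N20174 : Q := sm gh N13878
def N20175 : Q := sm gj N13879
def N20176 : Q := sm gh N13879
def N20177 : Q := sm gd N13880
def N20178 : Q := sm gi N13880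
def N20179 : Q := sm ge N13881
def N20180 : Q := sm gi N13881
def N20181 : Q := sm gf N13883
def N20182 : Q := sm gj N13883
def N20183 : Q := sm gh N13883
def N20184 : Q := sm gd N13884
def N20185 : Q := sm gi N13884
def N20186 : Q := sm gh N13885
def N20187 : Q := sm gi N13886
def N20188 : Q := sm gj N13888
def N20189 : Q := sm gh N13888
def N20190 : Q := sm gh N13889
def N20191 : Q := sm gd N13890
def N20192 : Q := sm gi N13890
def N20193 : Q := sm gc N13891
def N20194 : Q := sm gi N13891
def N20195 : Q := sm gi N13893
def N20196 : Q := sm ge N13895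
def N20197 : Q := sm gg N13895
def N20198 : Q := sm gh N13895
def N20199 : Q := sm gd N13896
def N20200 : Q := sm gi N13896
def N20201 : Q := sm gd N13897
def N20202 : Q := sm gg N13897
def N20203 : Q := sm gh N13897
def N20204 : Q := sm gj N13898
def N20205 : Q := sm gh N13898
def N20206 : Q := sm gd N13899
def N20207 : Q := sm gi N13899
def N20208 : Q := sm ge N13900
def N20209 : Q := sm gi N13900
def N20210 : Q := sm gf N13902
def N20211 : Q := sm gj N13902
def N20212 : Q := sm gh N13902
def N20213 : Q := sm gd N13903
def N20214 : Q := sm gi N13903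
def N20215 : Q := sm gh N13904
def N20216 : Q := sm gi N13905
def N20217 : Q := sm gg N13907
def N20218 : Q := sm gh N13907
def N20219 : Q := sm gf N13908
def N20220 : Q := sm gj N13908
def N20221 : Q := sm gh N13908
def N20222 : Q := sm gd N13909
def N20223 : Q := sm gi N13909
def N20224 : Q := sm gh N13910
def N20225 : Q := sm gd N13911
def N20226 : Q := sm gi N13911
def N20227 : Q := sm ge N13912
def N20228 : Q := sm gi N13912
def N20229 : Q := sm gf N13914
def N20230 : Q := sm gi N13914
def N20231 : Q := sm gh N13915
def N20232 : Q := sm gj N13916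
def N20233 : Q := sm gh N13916
def N20234 : Q := sm gh N13917
def N20235 : Q := sm gd N13918
def N20236 : Q := sm gi N13918
def N20237 : Q := sm gc N13919
def N20238 : Q := sm gi N13919
def N20239 : Q := sm gi N13921
def N20240 : Q := sm gg N13923
def N20241 : Q := sm gh N13923
def N20242 : Q := sm gd N13924
def N20243 : Q := sm gi N13924
def N20244 : Q := sm gd N13925
def N20245 : Q := sm gi N13925
def N20246 : Q := sm gc N13926
def N20247 : Q := sm gi N13926
def N20248 : Q := sm gb N13928
def N20249 : Q := sm gi N13928
def N20250 : Q := sm gh N13929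
def N20251 : Q := sm gd N13931
def N20252 : Q := sm gg N13931
def N20253 : Q := sm gh N13931
def N20254 : Q := sm gj N13932
def N20255 : Q := sm gh N13932
def N20256 : Q := sm gd N13933
def N20257 : Q := sm gi N13933
def N20258 : Q := sm gc N13934
def N20259 : Q := sm ge N13934
def N20260 : Q := sm gi N13934
def N20261 : Q := sm gg N13936
def N20262 : Q := sm gh N13936
def N20263 : Q := sm gf N13937
def N20264 : Q := sm gj N13937
def N20265 : Q := sm gh N13937
def N20266 : Q := sm gd N13938
def N20267 : Q := sm gi N13938
def N20268 : Q := sm gh N13939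
def N20269 : Q := sm gd N13940
def N20270 : Q := sm gi N13940
def N20271 : Q := sm ge N13941
def N20272 : Q := sm gi N13941
def N20273 : Q := sm gf N13943
def N20274 : Q := sm gi N13943
def N20275 : Q := sm gh N13944
def N20276 : Q := sm gj N13945
def N20277 : Q := sm gh N13945
def N20278 : Q := sm gh N13946
def N20279 : Q := sm gd N13947
def N20280 : Q := sm gi N13947
def N20281 : Q := sm gc N13948
def N20282 : Q := sm gi N13948
def N20283 : Q := sm gi N13950
def N20284 : Q := sm gf N13952
def N20285 : Q := sm gj N13952
def N20286 : Q := sm gh N13952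
def N20287 : Q := sm gd N13953
def N20288 : Q := sm gi N13953
def N20289 : Q := sm gj N13954
def N20290 : Q := sm gh N13954
def N20291 : Q := sm gh N13955
def N20292 : Q := sm gd N13956
def N20293 : Q := sm gi N13956
def N20294 : Q := sm gc N13957
def N20295 : Q := sm ge N13957
def N20296 : Q := sm gi N13957
def N20297 : Q := sm gd N13959
def N20298 : Q := sm gi N13959
def N20299 : Q := sm ge N13960
def N20300 : Q := sm gi N13960
def N20301 : Q := sm gf N13962
def N20302 : Q := sm gi N13962
def N20303 : Q := sm gh N13963
def N20304 : Q := sm gg N13964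
def N20305 : Q := sm gi N13964
def N20306 : Q := sm gh N13965
def N20307 : Q := sm gg N13967
def N20308 : Q := sm gh N13967
def N20309 : Q := sm gd N13968
def N20310 : Q := sm gi N13968
def N20311 : Q := sm gd N13969
def N20312 : Q := sm gi N13969
def N20313 : Q := sm gc N13970
def N20314 : Q := sm gi N13970
def N20315 : Q := sm gb N13972
def N20316 : Q := sm gi N13972
def N20317 : Q := sm gh N13973
def N20318 : Q := sm gh N13975
def N20319 : Q := sm gd N13976
def N20320 : Q := sm gi N13976
def N20321 : Q := sm gc N13977
def N20322 : Q := sm ge N13977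
def N20323 : Q := sm gi N13977
def N20324 : Q := sm gc N13979
def N20325 : Q := sm gi N13979
def N20326 : Q := sm gb N13981
def N20327 : Q := sm gi N13981
def N20328 : Q := sm gh N13982
def N20329 : Q := sm ga N13983
def N20330 : Q := sm gi N13983
def N20331 : Q := sm gh N13984
def N20334 : Q := sm ge N13987
def N20335 : Q := sm gg N13987
def N20336 : Q := sm gh N13987
def N20339 : Q := sm gg N13989
def N20340 : Q := sm gh N13989
def N20341 : Q := sm gj N13990
def N20342 : Q := sm gh N13990
def N20344 : Q := sm gd N13994
def N20345 : Q := sm gg N13994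
def N20347 : Q := sm gj N13995
def N20348 : Q := sm gh N13995
def N20349 : Q := sm gd N13996
def N20351 : Q := sm ge N13997
def N20352 : Q := sm gi N13997
def N20353 : Q := sm gf N13999
def N20354 : Q := sm gj N13999
def N20355 : Q := sm gh N13999
def N20356 : Q := sm gd N14000
def N20357 : Q := sm gi N14000
def N20358 : Q := sm gh N14001
def N20359 : Q := sm gi N14002
def N20360 : Q := sm gj N14004
def N20361 : Q := sm gh N14004
def N20362 : Q := sm gh N14005
def N20363 : Q := sm gd N14006
def N20364 : Q := sm gi N14006
def N20365 : Q := sm gc N14007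
def N20366 : Q := sm gi N14007
def N20368 : Q := sm ge N14011
def N20369 : Q := sm gg N14011
def N20370 : Q := sm gh N14011
def N20371 : Q := sm gd N14012
def N20373 : Q := sm gd N14013
def N20374 : Q := sm gg N14013
def N20375 : Q := sm gh N14013
def N20377 : Q := sm gh N14014
def N20378 : Q := sm gd N14015
def N20380 : Q := sm ge N14016
def N20381 : Q := sm gi N14016
def N20382 : Q := sm gf N14018
def N20383 : Q := sm gj N14018
def N20385 : Q := sm gd N14019
def N20389 : Q := sm gg N14023
def N20390 : Q := sm gh N14023
def N20391 : Q := sm gf N14024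
def N20392 : Q := sm gj N14024
def N20393 : Q := sm gh N14024
def N20394 : Q := sm gd N14025
def N20400 : Q := sm gi N14028
def N20401 : Q := sm gf N14030
def N20404 : Q := sm gj N14032
def N20405 : Q := sm gh N14032
def N20406 : Q := sm gh N14033
def N20407 : Q := sm gd N14034
def N20409 : Q := sm gc N14035
def N20410 : Q := sm gi N14035
def N20412 : Q := sm gg N14039
def N20413 : Q := sm gh N14039
def N20414 : Q := sm gd N14040
def N20415 : Q := sm gi N14040
def N20416 : Q := sm gd N14041
def N20417 : Q := sm gi N14041
def N20418 : Q := sm gc N14042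
def N20419 : Q := sm gi N14042
def N20420 : Q := sm gb N14044
def N20421 : Q := sm gi N14044
def N20422 : Q := sm gh N14045
def N20423 : Q := sm gd N14047
def N20424 : Q := sm gg N14047
def N20426 : Q := sm gj N14048
def N20427 : Q := sm gh N14048
def N20428 : Q := sm gd N14049
def N20429 : Q := sm gi N14049
def N20430 : Q := sm gc N14050
def N20432 : Q := sm gi N14050
def N20433 : Q := sm gg N14052
def N20434 : Q := sm gh N14052
def N20435 : Q := sm gf N14053
def N20436 : Q := sm gj N14053
def N20437 : Q := sm gh N14053
def N20438 : Q := sm gd N14054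
def N20439 : Q := sm gi N14054
def N20441 : Q := sm gd N14056
def N20446 : Q := sm gi N14059
def N20448 : Q := sm gj N14061
def N20449 : Q := sm gh N14061
def N20450 : Q := sm gh N14062
def N20451 : Q := sm gd N14063
def N20453 : Q := sm gc N14064
def N20454 : Q := sm gi N14064
def N20456 : Q := sm gf N14068
def N20457 : Q := sm gj N14068
def N20458 : Q := sm gh N14068
def N20459 : Q := sm gd N14069
def N20460 : Q := sm gi N14069
def N20461 : Q := sm gj N14070
def N20462 : Q := sm gh N14070
def N20463 : Q := sm gh N14071
def N20464 : Q := sm gd N14072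
def N20465 : Q := sm gi N14072
def N20466 : Q := sm gc N14073
def N20467 : Q := sm ge N14073
def N20468 : Q := sm gi N14073
def N20469 : Q := sm gd N14075
def N20471 : Q := sm ge N14076
def N20472 : Q := sm gi N14076
def N20473 : Q := sm gf N14078
def N20475 : Q := sm gh N14079
def N20476 : Q := sm gg N14080
def N20477 : Q := sm gi N14080
def N20478 : Q := sm gh N14081
def N20479 : Q := sm gg N14083
def N20480 : Q := sm gh N14083
def N20481 : Q := sm gd N14084
def N20482 : Q := sm gi N14084
def N20483 : Q := sm gd N14085
def N20484 : Q := sm gi N14085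
def N20485 : Q := sm gc N14086
def N20486 : Q := sm gi N14086
def N20487 : Q := sm gb N14088
def N20488 : Q := sm gi N14088
def N20489 : Q := sm gh N14089
def N20490 : Q := sm gh N14091
def N20491 : Q := sm gd N14092
def N20492 : Q := sm gi N14092
def N20493 : Q := sm gc N14093
def N20494 : Q := sm ge N14093
def N20495 : Q := sm gi N14093
def N20496 : Q := sm gc N14095
def N20497 : Q := sm gi N14095
def N20498 : Q := sm gb N14097
def N20499 : Q := sm gi N14097
def N20500 : Q := sm gh N14098
def N20501 : Q := sm ga N14099
def N20502 : Q := sm gi N14099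
def N20503 : Q := sm gh N14100
def N20504 : Q := sm gc N14102
def N20505 : Q := sm gg N14102
def N20506 : Q := sm gh N14102
def N20507 : Q := sm gf N14103
def N20508 : Q := sm gj N14103
def N20509 : Q := sm gh N14103
def N20510 : Q := sm gd N14104
def N20512 : Q := sm gh N14105
def N20513 : Q := sm gd N14106
def N20517 : Q := sm gi N14107
def N20520 : Q := sm gf N14111
def N20521 : Q := sm gj N14111
def N20522 : Q := sm gh N14111
def N20523 : Q := sm gd N14112
def N20524 : Q := sm gi N14112
def N20525 : Q := sm gj N14113
def N20526 : Q := sm gh N14113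
def N20527 : Q := sm gh N14114
def N20528 : Q := sm gd N14115
def N20530 : Q := sm gc N14116
def N20531 : Q := sm ge N14116
def N20539 : Q := sm gg N14124
def N20540 : Q := sm gh N14124
def N20541 : Q := sm gd N14125
def N20542 : Q := sm gi N14125
def N20543 : Q := sm gd N14126
def N20544 : Q := sm gi N14126
def N20545 : Q := sm gc N14127
def N20546 : Q := sm gi N14127
def N20547 : Q := sm gb N14129
def N20548 : Q := sm gi N14129
def N20550 : Q := sm ge N14132
def N20551 : Q := sm gj N14132
def N20552 : Q := sm gh N14132
def N20553 : Q := sm gh N14133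
def N20554 : Q := sm gd N14134
def N20555 : Q := sm gi N14134
def N20556 : Q := sm gc N14135
def N20557 : Q := sm ge N14135
def N20558 : Q := sm gi N14135
def N20559 : Q := sm gg N14137
def N20560 : Q := sm gh N14137
def N20561 : Q := sm gd N14138
def N20562 : Q := sm gi N14138
def N20563 : Q := sm gd N14139
def N20564 : Q := sm gi N14139
def N20565 : Q := sm gc N14140
def N20566 : Q := sm ge N14140
def N20567 : Q := sm gi N14140
def N20568 : Q := sm gb N14142
def N20570 : Q := sm gi N14142
def N20573 : Q := sm ge N14145
def N20574 : Q := sm gi N14145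
def N20575 : Q := sm gf N14147
def N20576 : Q := sm gi N14147
def N20579 : Q := sm gh N14151
def N20580 : Q := sm gd N14152
def N20581 : Q := sm gi N14152
def N20582 : Q := sm gc N14153
def N20583 : Q := sm ge N14153
def N20584 : Q := sm gi N14153
def N20585 : Q := sm gc N14155
def N20586 : Q := sm gi N14155
def N20587 : Q := sm gb N14157
def N20588 : Q := sm gi N14157
def N20589 : Q := sm gh N14158
def N20590 : Q := sm ga N14159
def N20591 : Q := sm gi N14159
def N20592 : Q := sm gh N14160
def N20593 : Q := sm gd N14162
def N20594 : Q := sm gi N14162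
def N20595 : Q := sm gc N14163
def N20596 : Q := sm ge N14163
def N20597 : Q := sm gi N14163
def N20598 : Q := sm gb N14165
def N20599 : Q := sm ge N14165
def N20600 : Q := sm gi N14165
def N20601 : Q := sm gi N14166
def N20602 : Q := sm gh N14167
def N20603 : Q := sm gb N14168
def N20604 : Q := sm gi N14168
def N20605 : Q := sm gh N14169
def N20606 : Q := sm ga N14170
def N20607 : Q := sm gi N14170
def N20608 : Q := sm gh N14171
def N20609 : Q := sm gi N14173
def N20610 : Q := sm gh N14174
def N20611 : Q := sm gd N14175
def N20613 : Q := sm ge N14176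
def N20614 : Q := sm gf N14177
def N20615 : Q := sm ga N14178
def N20616 : Q := sm ge N14178
def N20617 : Q := sm gd N14179
def N20618 : Q := sm gf N14179
def N20620 : Q := sm ge N14181
def N20621 : Q := sm gd N14182
def N20622 : Q := sm gf N14182
def N20623 : Q := sm gf N14183
def N20624 : Q := sm gh N14183
def N20627 : Q := sm gd N14186
def N20628 : Q := sm gf N14186
def N20629 : Q := sm gc N14187
def N20630 : Q := sm gf N14187
def N20631 : Q := sm gh N14187
def N20632 : Q := sm gg N14188
def N20633 : Q := sm ge N14189
def N20634 : Q := sm gg N14189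
def N20635 : Q := sm gh N14189
def N20636 : Q := sm gi N14190
def N20638 : Q := sm gc N14193
def N20639 : Q := sm gf N14193
def N20640 : Q := sm gh N14193
def N20641 : Q := sm gg N14194
def N20642 : Q := sm gf N14195
def N20643 : Q := sm gh N14195
def N20644 : Q := sm ge N14196
def N20645 : Q := sm gg N14196
def N20646 : Q := sm gh N14196
def N20647 : Q := sm gi N14197
def N20648 : Q := sm gj N14198
def N20649 : Q := sm gg N14199
def N20650 : Q := sm gh N14199
def N20651 : Q := sm gj N14200
def N20652 : Q := sm gh N14200
def N20653 : Q := sm gi N14201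
def N20654 : Q := sm ge N14204
def N20655 : Q := sm gd N14205
def N20657 : Q := sm gf N14206
def N20658 : Q := sm gh N14206
def N20659 : Q := sm gg N14207
def N20660 : Q := sm gj N14208
def N20661 : Q := sm gd N14209
def N20663 : Q := sm gc N14210
def N20664 : Q := sm gf N14210
def N20665 : Q := sm gh N14210
def N20666 : Q := sm gg N14211
def N20667 : Q := sm ge N14212
def N20668 : Q := sm gg N14212
def N20669 : Q := sm gh N14212
def N20670 : Q := sm gi N14213
def N20671 : Q := sm gj N14214
def N20672 : Q := sm gc N14216
def N20673 : Q := sm gf N14216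
def N20674 : Q := sm gh N14216
def N20675 : Q := sm gg N14217
def N20676 : Q := sm gf N14218
def N20677 : Q := sm gh N14218
def N20678 : Q := sm ge N14219
def N20679 : Q := sm gg N14219
def N20680 : Q := sm gh N14219
def N20681 : Q := sm gi N14220
def N20682 : Q := sm gj N14221
def N20683 : Q := sm gg N14222
def N20684 : Q := sm gh N14222
def N20685 : Q := sm gj N14223
def N20687 : Q := sm gi N14224
def N20688 : Q := sm gb N14227
def N20689 : Q := sm gf N14227
def N20690 : Q := sm gh N14227
def N20691 : Q := sm ge N14228
def N20692 : Q := sm gg N14228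
def N20693 : Q := sm gh N14228
def N20694 : Q := sm gi N14229
def N20695 : Q := sm gj N14230
def N20696 : Q := sm ge N14231
def N20697 : Q := sm gg N14231
def N20698 : Q := sm gh N14231
def N20699 : Q := sm gd N14232
def N20700 : Q := sm gi N14232
def N20701 : Q := sm gg N14233
def N20702 : Q := sm gh N14233
def N20703 : Q := sm gj N14234
def N20704 : Q := sm gh N14234
def N20705 : Q := sm gi N14235
def N20706 : Q := sm gf N14238
def N20707 : Q := sm gj N14238
def N20708 : Q := sm gh N14238
def N20709 : Q := sm gd N14239
def N20710 : Q := sm gi N14239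
def N20711 : Q := sm gh N14240
def N20712 : Q := sm gi N14241
def N20713 : Q := sm gd N14243
def N20714 : Q := sm gf N14243
def N20715 : Q := sm gc N14244
def N20716 : Q := sm gf N14244
def N20719 : Q := sm ge N14246
def N20720 : Q := sm gg N14246
def N20721 : Q := sm gh N14246
def N20722 : Q := sm gi N14247
def N20723 : Q := sm gj N14248
def N20724 : Q := sm gc N14250
def N20725 : Q := sm gf N14250
def N20726 : Q := sm gh N14250
def N20727 : Q := sm gg N14251
def N20728 : Q := sm gf N14252
def N20729 : Q := sm gh N14252
def N20730 : Q := sm ge N14253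
def N20731 : Q := sm gg N14253
def N20732 : Q := sm gh N14253
def N20733 : Q := sm gi N14254
def N20734 : Q := sm gj N14255
def N20735 : Q := sm gg N14256
def N20736 : Q := sm gh N14256
def N20737 : Q := sm gj N14257
def N20739 : Q := sm gi N14258
def N20740 : Q := sm gb N14261
def N20741 : Q := sm gf N14261
def N20742 : Q := sm gh N14261
def N20743 : Q := sm ge N14262
def N20744 : Q := sm gg N14262
def N20745 : Q := sm gh N14262
def N20746 : Q := sm gi N14263
def N20747 : Q := sm gj N14264
def N20748 : Q := sm ge N14265
def N20749 : Q := sm gg N14265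
def N20750 : Q := sm gh N14265
def N20751 : Q := sm gd N14266
def N20752 : Q := sm gi N14266
def N20753 : Q := sm gg N14267
def N20754 : Q := sm gh N14267
def N20755 : Q := sm gj N14268
def N20756 : Q := sm gh N14268
def N20757 : Q := sm gi N14269
def N20758 : Q := sm gf N14272
def N20759 : Q := sm gj N14272
def N20760 : Q := sm gh N14272
def N20761 : Q := sm gd N14273
def N20762 : Q := sm gi N14273
def N20763 : Q := sm gh N14274
def N20764 : Q := sm gi N14275
def N20765 : Q := sm gf N14277
def N20766 : Q := sm gh N14277
def N20767 : Q := sm ge N14278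
def N20768 : Q := sm gg N14278
def N20769 : Q := sm gh N14278
def N20771 : Q := sm gi N14279
def N20772 : Q := sm gg N14280
def N20773 : Q := sm gh N14280
def N20774 : Q := sm gj N14281
def N20775 : Q := sm gh N14281
def N20776 : Q := sm gi N14282
def N20777 : Q := sm gd N14285
def N20778 : Q := sm gg N14285
def N20779 : Q := sm gh N14285
def N20780 : Q := sm gj N14286
def N20781 : Q := sm gh N14286
def N20782 : Q := sm gd N14287
def N20783 : Q := sm gi N14287
def N20784 : Q := sm ge N14288
def N20786 : Q := sm gf N14290
def N20787 : Q := sm gj N14290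
def N20788 : Q := sm gh N14290
def N20789 : Q := sm gd N14291
def N20790 : Q := sm gi N14291
def N20791 : Q := sm gh N14292
def N20792 : Q := sm gi N14293
def N20793 : Q := sm gj N14295
def N20794 : Q := sm gh N14295
def N20795 : Q := sm gh N14296
def N20796 : Q := sm gd N14297
def N20797 : Q := sm gi N14297
def N20798 : Q := sm gc N14298
def N20799 : Q := sm gi N14298
def N20800 : Q := sm gi N14300
def N20801 : Q := sm gc N14302
def N20804 : Q := sm gg N14303
def N20805 : Q := sm gf N14304
def N20806 : Q := sm gh N14304
def N20807 : Q := sm ge N14305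
def N20808 : Q := sm gg N14305
def N20809 : Q := sm gh N14305
def N20810 : Q := sm gi N14306
def N20811 : Q := sm gj N14307
def N20812 : Q := sm gg N14308
def N20813 : Q := sm gh N14308
def N20815 : Q := sm gh N14309
def N20816 : Q := sm gi N14310
def N20817 : Q := sm gb N14313
def N20818 : Q := sm gf N14313
def N20819 : Q := sm gh N14313
def N20820 : Q := sm ge N14314
def N20821 : Q := sm gg N14314
def N20823 : Q := sm gi N14315
def N20824 : Q := sm gj N14316
def N20825 : Q := sm ge N14317
def N20826 : Q := sm gg N14317
def N20827 : Q := sm gh N14317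
def N20828 : Q := sm gd N14318
def N20829 : Q := sm gi N14318
def N20830 : Q := sm gg N14319
def N20831 : Q := sm gh N14319
def N20832 : Q := sm gj N14320
def N20833 : Q := sm gh N14320
def N20834 : Q := sm gi N14321
def N20835 : Q := sm gf N14324
def N20836 : Q := sm gj N14324
def N20837 : Q := sm gh N14324
def N20838 : Q := sm gd N14325
def N20839 : Q := sm gi N14325
def N20840 : Q := sm gh N14326
def N20841 : Q := sm gi N14327
def N20842 : Q := sm gf N14329
def N20843 : Q := sm gh N14329
def N20844 : Q := sm ge N14330
def N20845 : Q := sm gg N14330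
def N20846 : Q := sm gh N14330
def N20847 : Q := sm gd N14331
def N20848 : Q := sm gi N14331
def N20849 : Q := sm gg N14332
def N20850 : Q := sm gh N14332
def N20851 : Q := sm gj N14333
def N20852 : Q := sm gh N14333
def N20853 : Q := sm gi N14334
def N20854 : Q := sm gd N14337
def N20855 : Q := sm gg N14337
def N20856 : Q := sm gh N14337
def N20857 : Q := sm gj N14338
def N20858 : Q := sm gh N14338
def N20859 : Q := sm gd N14339
def N20860 : Q := sm gi N14339
def N20861 : Q := sm ge N14340
def N20862 : Q := sm gi N14340
def N20863 : Q := sm gf N14342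
def N20864 : Q := sm gj N14342
def N20865 : Q := sm gh N14342
def N20866 : Q := sm gd N14343
def N20867 : Q := sm gi N14343
def N20868 : Q := sm gh N14344
def N20869 : Q := sm gi N14345
def N20870 : Q := sm gj N14347
def N20871 : Q := sm gh N14347
def N20872 : Q := sm gh N14348
def N20873 : Q := sm gd N14349
def N20874 : Q := sm gi N14349
def N20875 : Q := sm gc N14350
def N20876 : Q := sm gi N14350
def N20877 : Q := sm gi N14352
def N20879 : Q := sm gf N14354
def N20880 : Q := sm gh N14354
def N20881 : Q := sm ge N14355
def N20882 : Q := sm gg N14355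
def N20883 : Q := sm gh N14355
def N20885 : Q := sm gj N14357
def N20886 : Q := sm ge N14358
def N20888 : Q := sm gh N14358
def N20889 : Q := sm gd N14359
def N20891 : Q := sm gg N14360
def N20892 : Q := sm gh N14360
def N20893 : Q := sm gj N14361
def N20894 : Q := sm gh N14361
def N20895 : Q := sm gi N14362
def N20896 : Q := sm gf N14365
def N20897 : Q := sm gj N14365
def N20898 : Q := sm gh N14365
def N20899 : Q := sm gd N14366
def N20900 : Q := sm gi N14366
def N20901 : Q := sm gh N14367
def N20902 : Q := sm gi N14368
def N20903 : Q := sm gf N14370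
def N20905 : Q := sm ge N14371
def N20906 : Q := sm gg N14371
def N20907 : Q := sm gh N14371
def N20908 : Q := sm gd N14372
def N20909 : Q := sm gi N14372
def N20910 : Q := sm gg N14373
def N20911 : Q := sm gh N14373
def N20912 : Q := sm gj N14374
def N20913 : Q := sm gh N14374
def N20914 : Q := sm gi N14375
def N20915 : Q := sm gd N14378
def N20916 : Q := sm gg N14378
def N20917 : Q := sm gh N14378
def N20918 : Q := sm gj N14379
def N20919 : Q := sm gh N14379
def N20920 : Q := sm gd N14380
def N20921 : Q := sm gi N14380
def N20922 : Q := sm ge N14381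
def N20923 : Q := sm gi N14381
def N20924 : Q := sm gf N14383
def N20925 : Q := sm gj N14383
def N20926 : Q := sm gh N14383
def N20927 : Q := sm gd N14384
def N20928 : Q := sm gi N14384
def N20929 : Q := sm gh N14385
def N20930 : Q := sm gi N14386
def N20931 : Q := sm gj N14388
def N20932 : Q := sm gh N14388
def N20933 : Q := sm gh N14389
def N20934 : Q := sm gd N14390
def N20935 : Q := sm gi N14390
def N20936 : Q := sm gc N14391
def N20937 : Q := sm gi N14391
def N20938 : Q := sm gi N14393
def N20939 : Q := sm ge N14395
def N20940 : Q := sm gg N14395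
def N20941 : Q := sm gh N14395
def N20942 : Q := sm gd N14396
def N20943 : Q := sm gi N14396
def N20944 : Q := sm gd N14397
def N20945 : Q := sm gg N14397
def N20946 : Q := sm gh N14397
def N20947 : Q := sm gj N14398
def N20948 : Q := sm gh N14398
def N20949 : Q := sm gd N14399
def N20950 : Q := sm gi N14399
def N20951 : Q := sm ge N14400
def N20952 : Q := sm gi N14400
def N20953 : Q := sm gf N14402
def N20954 : Q := sm gj N14402
def N20955 : Q := sm gh N14402
def N20956 : Q := sm gd N14403
def N20957 : Q := sm gi N14403
def N20958 : Q := sm gh N14404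
def N20959 : Q := sm gi N14405
def N20960 : Q := sm gg N14407
def N20961 : Q := sm gh N14407
def N20962 : Q := sm gf N14408
def N20963 : Q := sm gj N14408
def N20964 : Q := sm gh N14408
def N20965 : Q := sm gd N14409
def N20966 : Q := sm gi N14409
def N20967 : Q := sm gh N14410
def N20968 : Q := sm gd N14411
def N20969 : Q := sm gi N14411
def N20970 : Q := sm ge N14412
def N20971 : Q := sm gi N14412
def N20972 : Q := sm gf N14414
def N20973 : Q := sm gi N14414
def N20974 : Q := sm gh N14415
def N20975 : Q := sm gj N14416
def N20976 : Q := sm gh N14416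
def N20977 : Q := sm gh N14417
def N20978 : Q := sm gd N14418
def N20979 : Q := sm gi N14418
def N20980 : Q := sm gc N14419
def N20981 : Q := sm gi N14419
def N20982 : Q := sm gi N14421
def N20983 : Q := sm gg N14423
def N20984 : Q := sm gh N14423
def N20985 : Q := sm gd N14424
def N20986 : Q := sm gi N14424
def N20987 : Q := sm gd N14425
def N20988 : Q := sm gi N14425
def N20989 : Q := sm gc N14426
def N20990 : Q := sm gi N14426
def N20991 : Q := sm gb N14428
def N20992 : Q := sm gi N14428
def N20993 : Q := sm gh N14429
def N20995 : Q := sm gh N14431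
def N20997 : Q := sm gg N14432
def N20998 : Q := sm gh N14432
def N20999 : Q := sm gd N14433
def N21003 : Q := sm gj N14435
def N21004 : Q := sm gh N14435
def N21010 : Q := sm gh N14440
def N21011 : Q := sm gd N14441
def N21013 : Q := sm ge N14442
def N21014 : Q := sm gi N14442
def N21015 : Q := sm gf N14444
def N21016 : Q := sm gj N14444
def N21017 : Q := sm gh N14444
def N21018 : Q := sm gd N14445
def N21019 : Q := sm gi N14445
def N21020 : Q := sm gh N14446
def N21022 : Q := sm gj N14449
def N21023 : Q := sm gh N14449
def N21024 : Q := sm gh N14450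
def N21025 : Q := sm gd N14451
def N21026 : Q := sm gi N14451
def N21027 : Q := sm gc N14452
def N21028 : Q := sm gi N14452
def N21029 : Q := sm gi N14454
def N21030 : Q := sm ge N14456
def N21031 : Q := sm gg N14456
def N21033 : Q := sm gd N14457
def N21034 : Q := sm gi N14457
def N21035 : Q := sm gd N14458
def N21036 : Q := sm gg N14458
def N21037 : Q := sm gh N14458
def N21038 : Q := sm gj N14459
def N21040 : Q := sm gd N14460
def N21041 : Q := sm gi N14460
def N21042 : Q := sm ge N14461
def N21044 : Q := sm gf N14463
def N21045 : Q := sm gj N14463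
def N21046 : Q := sm gh N14463
def N21047 : Q := sm gd N14464
def N21048 : Q := sm gi N14464
def N21049 : Q := sm gh N14465
def N21050 : Q := sm gi N14466
def N21051 : Q := sm gg N14468
def N21052 : Q := sm gh N14468
def N21053 : Q := sm gf N14469
def N21054 : Q := sm gj N14469
def N21055 : Q := sm gh N14469
def N21056 : Q := sm gd N14470
def N21057 : Q := sm gi N14470
def N21058 : Q := sm gh N14471
def N21059 : Q := sm gd N14472
def N21060 : Q := sm gi N14472
def N21061 : Q := sm ge N14473
def N21062 : Q := sm gi N14473
def N21063 : Q := sm gf N14475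
def N21065 : Q := sm gh N14476
def N21066 : Q := sm gj N14477
def N21067 : Q := sm gh N14477
def N21068 : Q := sm gh N14478
def N21069 : Q := sm gd N14479
def N21070 : Q := sm gi N14479
def N21071 : Q := sm gc N14480
def N21072 : Q := sm gi N14480
def N21073 : Q := sm gi N14482
def N21074 : Q := sm gg N14484
def N21075 : Q := sm gh N14484
def N21076 : Q := sm gd N14485
def N21077 : Q := sm gi N14485
def N21078 : Q := sm gd N14486
def N21079 : Q := sm gi N14486
def N21080 : Q := sm gc N14487
def N21081 : Q := sm gi N14487
def N21082 : Q := sm gb N14489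
def N21083 : Q := sm gi N14489
def N21084 : Q := sm gh N14490
def N21085 : Q := sm gd N14492
def N21086 : Q := sm gg N14492
def N21087 : Q := sm gh N14492
def N21088 : Q := sm gj N14493
def N21089 : Q := sm gh N14493
def N21090 : Q := sm gd N14494
def N21091 : Q := sm gi N14494
def N21092 : Q := sm gc N14495
def N21094 : Q := sm gi N14495
def N21095 : Q := sm gg N14497
def N21096 : Q := sm gh N14497
def N21097 : Q := sm gf N14498
def N21098 : Q := sm gj N14498
def N21099 : Q := sm gh N14498
def N21100 : Q := sm gd N14499
def N21101 : Q := sm gi N14499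
def N21102 : Q := sm gh N14500
def N21103 : Q := sm gd N14501
def N21104 : Q := sm gi N14501
def N21105 : Q := sm ge N14502
def N21106 : Q := sm gi N14502
def N21107 : Q := sm gf N14504
def N21108 : Q := sm gi N14504
def N21110 : Q := sm gj N14506
def N21111 : Q := sm gh N14506
def N21112 : Q := sm gh N14507
def N21113 : Q := sm gd N14508
def N21114 : Q := sm gi N14508
def N21115 : Q := sm gc N14509
def N21116 : Q := sm gi N14509
def N21117 : Q := sm gi N14511
def N21118 : Q := sm gf N14513
def N21119 : Q := sm gj N14513
def N21120 : Q := sm gh N14513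
def N21121 : Q := sm gd N14514
def N21122 : Q := sm gi N14514
def N21123 : Q := sm gj N14515
def N21124 : Q := sm gh N14515
def N21125 : Q := sm gh N14516
def N21126 : Q := sm gd N14517
def N21127 : Q := sm gi N14517
def N21128 : Q := sm gc N14518
def N21129 : Q := sm ge N14518
def N21130 : Q := sm gi N14518
def N21131 : Q := sm gd N14520
def N21132 : Q := sm gi N14520
def N21133 : Q := sm ge N14521
def N21134 : Q := sm gi N14521
def N21135 : Q := sm gf N14523
def N21136 : Q := sm gi N14523
def N21137 : Q := sm gh N14524
def N21138 : Q := sm gg N14525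
def N21139 : Q := sm gi N14525
def N21141 : Q := sm gg N14528
def N21142 : Q := sm gh N14528
def N21143 : Q := sm gd N14529
def N21144 : Q := sm gi N14529
def N21145 : Q := sm gd N14530
def N21146 : Q := sm gi N14530
def N21147 : Q := sm gc N14531
def N21148 : Q := sm gi N14531
def N21149 : Q := sm gb N14533
def N21150 : Q := sm gi N14533
def N21151 : Q := sm gh N14534
def N21152 : Q := sm gh N14536
def N21153 : Q := sm gd N14537
def N21154 : Q := sm gi N14537
def N21155 : Q := sm gc N14538
def N21156 : Q := sm ge N14538
def N21157 : Q := sm gi N14538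
def N21158 : Q := sm gc N14540
def N21159 : Q := sm gi N14540
def N21160 : Q := sm gb N14542
def N21161 : Q := sm gi N14542
def N21162 : Q := sm gh N14543
def N21163 : Q := sm ga N14544
def N21164 : Q := sm gi N14544
def N21165 : Q := sm gh N14545
def N21166 : Q := sm gf N14547
def N21167 : Q := sm gh N14547
def N21168 : Q := sm ge N14548
def N21169 : Q := sm gg N14548
def N21170 : Q := sm gh N14548
def N21171 : Q := sm gd N14549
def N21172 : Q := sm gi N14549
def N21173 : Q := sm gg N14550
def N21174 : Q := sm gh N14550
def N21175 : Q := sm gj N14551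
def N21176 : Q := sm gh N14551
def N21177 : Q := sm gi N14552
def N21178 : Q := sm gd N14555
def N21179 : Q := sm gg N14555
def N21180 : Q := sm gh N14555
def N21181 : Q := sm gj N14556
def N21182 : Q := sm gh N14556
def N21183 : Q := sm gd N14557
def N21184 : Q := sm gi N14557
def N21185 : Q := sm ge N14558
def N21186 : Q := sm gi N14558
def N21187 : Q := sm gf N14560
def N21188 : Q := sm gj N14560
def N21189 : Q := sm gh N14560
def N21190 : Q := sm gd N14561
def N21191 : Q := sm gi N14561
def N21192 : Q := sm gh N14562
def N21193 : Q := sm gi N14563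
def N21194 : Q := sm gj N14565
def N21195 : Q := sm gh N14565
def N21196 : Q := sm gh N14566
def N21197 : Q := sm gd N14567
def N21198 : Q := sm gi N14567
def N21199 : Q := sm gc N14568
def N21200 : Q := sm gi N14568
def N21201 : Q := sm gi N14570
def N21202 : Q := sm ge N14572
def N21203 : Q := sm gg N14572
def N21204 : Q := sm gh N14572
def N21205 : Q := sm gd N14573
def N21206 : Q := sm gi N14573
def N21207 : Q := sm gd N14574
def N21208 : Q := sm gg N14574
def N21209 : Q := sm gh N14574
def N21210 : Q := sm gj N14575
def N21211 : Q := sm gh N14575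
def N21212 : Q := sm gd N14576
def N21213 : Q := sm gi N14576
def N21214 : Q := sm ge N14577
def N21215 : Q := sm gi N14577
def N21216 : Q := sm gf N14579
def N21217 : Q := sm gj N14579
def N21218 : Q := sm gh N14579
def N21219 : Q := sm gd N14580
def N21220 : Q := sm gi N14580
def N21221 : Q := sm gh N14581
def N21222 : Q := sm gi N14582
def N21223 : Q := sm gg N14584
def N21224 : Q := sm gh N14584
def N21225 : Q := sm gf N14585
def N21226 : Q := sm gj N14585
def N21227 : Q := sm gh N14585
def N21228 : Q := sm gd N14586
def N21229 : Q := sm gi N14586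
def N21230 : Q := sm gh N14587
def N21231 : Q := sm gd N14588
def N21232 : Q := sm gi N14588
def N21233 : Q := sm ge N14589
def N21234 : Q := sm gi N14589
def N21235 : Q := sm gf N14591
def N21236 : Q := sm gi N14591
def N21237 : Q := sm gh N14592
def N21238 : Q := sm gj N14593
def N21239 : Q := sm gh N14593
def N21240 : Q := sm gh N14594
def N21241 : Q := sm gd N14595
def N21242 : Q := sm gi N14595
def N21243 : Q := sm gc N14596
def N21244 : Q := sm gi N14596
def N21245 : Q := sm gi N14598
def N21246 : Q := sm gg N14600
def N21247 : Q := sm gh N14600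
def N21248 : Q := sm gd N14601
def N21249 : Q := sm gi N14601
def N21250 : Q := sm gd N14602
def N21251 : Q := sm gi N14602
def N21252 : Q := sm gc N14603
def N21253 : Q := sm gi N14603
def N21254 : Q := sm gb N14605
def N21255 : Q := sm gi N14605
def N21256 : Q := sm gh N14606
def N21257 : Q := sm ge N14608
def N21258 : Q := sm gg N14608
def N21259 : Q := sm gh N14608
def N21261 : Q := sm gi N14609
def N21262 : Q := sm gd N14610
def N21263 : Q := sm gg N14610
def N21264 : Q := sm gh N14610
def N21265 : Q := sm gj N14611
def N21266 : Q := sm gh N14611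
def N21267 : Q := sm gd N14612

end Cfsg.Agent.Helper28.FicA
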