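import Cfsg.Agent.Helper28.FicB19

/-! # The Fi₂₃ presentation, cosets of the subgroup generated by a, …, i: the coset enumeration, part 20 (helper28; generated) -/

set_option autoImplicit false

noncomputable section

namespace Cfsg.Agent.Helper28.FicA

open Cfsg.Agent.Helper28.CosetTable

theorem L188097 : sm gi N22150 = N15269 := ded_54_2 (flp_h L129989) (flp_i L89715) (flp_h L89398) L129549 L188091
theorem L188099 : sm gi N15218 = N22151 := rfl
theorem L188101 : sm ga N22151 = N15219 := ded_18_1 (flp_i L129572) L129564 L188099
theorem L188103 : sm gc N22151 = N15237 := ded_33_1 (flp_i L129722) (flp_c L129566) L188099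
theorem L188105 : sm gf N22151 = N22151 := ded_48_1 (flp_i L188099) L129568 L188099
theorem L188106 : sm gj N22151 = N22151 := ded_53_1 (flp_i L188099) L129569 L188099
theorem L188107 : sm gh N15219 = N22152 := rfl
theorem L188109 : sm gb N22152 = N15220 := ded_25_1 (flp_h L129580) (flp_b L129574) L188107
theorem L188111 : sm gc N22152 = N15238 := ded_32_1 (flp_h L129730) (flp_c L129576) L188107
theorem L188113 : sm gf N22152 = N22152 := ded_47_1 (flp_h L188107) L129578 L188107
theorem L188114 : sm gj N22152 = N22152 := ded_52_1 (flp_h L188107) L129579 L188107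
theorem L188115 : sm gi N22152 = N15271 := ded_54_2 (flp_h L130004) (flp_i L89736) (flp_h L89412) L129572 L188107
theorem L188117 : sm gd N15220 = N22153 := rfl
theorem L188119 : sm gf N22153 = N22153 := ded_35_2 (flp_d L188117) L129584 L188117
theorem L188120 : sm gj N22153 = N22153 := ded_37_2 (flp_d L188117) L129585 L188117
theorem L188121 : sm gi N22153 = N15272 := ded_39_2 (flp_d L130012) (flp_i L129586) L188117
theorem L188123 : sm gc N22153 = N22153 := ded_27_1 (flp_d L188117) L129582 L89428 (flp_c L129582) L188117
theorem L188124 : sm gc N15221 = N22154 := rfl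
theorem L188128 : sm gg N22154 = N15223 := ded_30_2 (flp_c L129606) (flp_g L129592) L188124
theorem L188131 : sm gh N22154 = N15273 := ded_32_2 (flp_c L130018) (flp_h L129595) L188124
theorem L188134 : sm ge N15221 = N22155 := rfl
theorem L188137 : sm gg N22155 = N15224 := ded_41_2 (flp_e L129616) (flp_g L129592) L188134
theorem L188140 : sm gh N22155 = N15274 := ded_43_2 (flp_e L130027) (flp_h L129595) L188134
theorem L188142 : sm gi N15221 = N22156 := rfl
theorem L188151 : sm gb N15223 = N22157 := rfl
theorem L188154 : sm gf N22157 = N15231 := ded_22_2 (flp_b L129672) (flp_f L129609) L188151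
theorem L188156 : sm gj N22157 = N15226 := ded_24_2 (flp_b L129632) (flp_j L129611) L188151
theorem L188169 : sm gi N15223 = N22159 := rfl
theorem L188172 : sm gc N22159 = N15225 := ded_33_1 (flp_i L129623) L129606 L188169
theorem L188175 : sm gf N22159 = N15232 := ded_48_1 (flp_i L129680) (flp_f L129609) L188169
theorem L188177 : sm gj N22159 = N15228 := ded_53_1 (flp_i L129648) (flp_j L129611) L188169
theorem L188179 : sm gi N15224 = N22160 := rfl
theorem L188186 : sm gh N15225 = N22161 := rfl
theorem L188191 : sm gj N22161 = N15230 := ded_52_1 (flp_h L129663) (flp_j L129630) L188186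
theorem L188196 : sm ga N15226 = N22162 := rfl
theorem L188198 : sm gd N22162 = N22162 := ded_12_2 (flp_a L188196) L129634 L188196
theorem L188199 : sm gf N22162 = N15234 := ded_14_2 (flp_a L129698) (flp_f L129635) L188196
theorem L188201 : sm gg N22162 = N22162 := ded_15_2 (flp_a L188196) L129637 L188196
theorem L188204 : sm gb N22162 = N22162 := ded_10_2 (flp_a L188196) (flp_b L129632) L89459 L129632 L188196
theorem L188205 : sm ge N15226 = N22163 := rfl
theorem L188212 : sm gi N15226 = N22164 := rfl
theorem L188217 : sm gf N22164 = N15235 := ded_48_1 (flp_i L129706) (flp_f L129635) L188212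
theorem L188220 : sm gd N15227 = N22165 := rfl
theorem L188225 : sm gi N15227 = N22166 := rfl
theorem L188233 : sm gh N15228 = N22167 := rfl
theorem L188236 : sm gc N22167 = N15230 := ded_32_1 (flp_h L129663) (flp_c L129651) L188233
theorem L188243 : sm gh N15229 = N22168 := rfl
theorem L188246 : sm ge N22168 = N15230 := ded_43_1 (flp_h L129663) (flp_e L129660) L188243
theorem L188251 : sm ga N15231 = N22169 := rfl
theorem L188253 : sm gd N22169 = N22169 := ded_12_2 (flp_a L188251) L129674 L188251
theorem L188254 : sm gg N22169 = N22169 := ded_15_2 (flp_a L188251) L129675 L188251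
theorem L188255 : sm gj N22169 = N15234 := ded_16_2 (flp_a L129698) (flp_j L129676) L188251
theorem L188257 : sm gh N22169 = N15288 := ded_17_2 (flp_a L130136) (flp_h L129678) L188251
theorem L188259 : sm gb N22169 = N22169 := ded_10_2 (flp_a L188251) (flp_b L129672) L89482 L129672 L188251
theorem L188260 : sm gi N15231 = N22170 := rfl
theorem L188262 : sm gb N22170 = N15232 := ded_26_1 (flp_i L129680) L129672 L188260
theorem L188266 : sm gj N22170 = N15235 := ded_53_1 (flp_i L129706) (flp_j L129676) L188260
theorem L188268 : sm gh N15232 = N22171 := rfl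
theorem L188271 : sm gc N22171 = N15233 := ded_32_1 (flp_h L129689) (flp_c L129683) L188268
theorem L188274 : sm gj N22171 = N15236 := ded_52_1 (flp_h L129713) (flp_j L129687) L188268
theorem L188276 : sm gi N22171 = N15290 := ded_54_2 (flp_h L130153) (flp_i L89837) (flp_h L89486) L129680 L188268
theorem L188278 : sm gi N15234 = N22172 := rfl
theorem L188280 : sm ga N22172 = N15235 := ded_18_1 (flp_i L129706) L129698 L188278
theorem L188282 : sm gb N22172 = N22172 := ded_26_1 (flp_i L188278) L129705 L188278
theorem L188283 : sm gd N22172 = N22172 := ded_39_1 (flp_i L188278) L129700 L188278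
theorem L188284 : sm gg N22172 = N15237 := ded_51_1 (flp_i L129722) (flp_g L129701) L188278
theorem L188286 : sm gh N15235 = N22173 := rfl
theorem L188290 : sm gg N22173 = N15238 := ded_50_1 (flp_h L129730) (flp_g L129711) L188286
theorem L188292 : sm gi N22173 = N15292 := ded_54_2 (flp_h L130170) (flp_i L89861) (flp_h L89502) L129706 L188286
theorem L188294 : sm gd N15236 = N22174 := rfl
theorem L188299 : sm gi N22174 = N15293 := ded_39_2 (flp_d L130176) (flp_i L129720) L188294
theorem L188303 : sm gh N15237 = N22175 := rfl
theorem L188305 : sm ga N22175 = N15238 := ded_17_1 (flp_h L129730) (flp_a L129724) L188303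
theorem L188307 : sm gb N22175 = N22175 := ded_25_1 (flp_h L188303) L129726 L188303
theorem L188308 : sm gf N22175 = N22175 := ded_47_1 (flp_h L188303) L129728 L188303
theorem L188309 : sm gj N22175 = N22175 := ded_52_1 (flp_h L188303) L129729 L188303
theorem L188310 : sm gi N22175 = N15294 := ded_54_2 (flp_h L130184) (flp_i L89876) (flp_h L89525) L129722 L188303
theorem L188312 : sm gd N15238 = N22176 := rfl
theorem L188314 : sm gb N22176 = N15239 := ded_20_1 (flp_d L129738) (flp_b L129732) L188312
theorem L188318 : sm gi N22176 = N15295 := ded_39_2 (flp_d L130191) (flp_i L129736) L188312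
theorem L188321 : sm ge N15239 = N22177 := rfl
theorem L188327 : sm gi N22177 = N15296 := ded_44_2 (flp_e L130199) (flp_i L129743) L188321
theorem L188329 : sm gd N15240 = N22178 := rfl
theorem L188335 : sm gg N22178 = N15241 := ded_36_2 (flp_d L129758) (flp_g L129755) L188329
theorem L188350 : sm gc N15241 = N22180 := rfl
theorem L188352 : sm ga N22180 = N15256 := ded_11_1 (flp_c L129888) (flp_a L129760) L188350
theorem L188354 : sm gf N22180 = N15246 := ded_29_2 (flp_c L129804) (flp_f L129763) L188350
theorem L188356 : sm gj N22180 = N15243 := ded_31_2 (flp_c L129779) (flp_j L129765) L188350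
theorem L188358 : sm gd N22180 = N22180 := ded_27_2 (flp_c L188350) (flp_d L129758) L89559 L129758 L188350
theorem L188359 : sm ge N15241 = N22181 := rfl
theorem L188364 : sm gj N22181 = N15244 := ded_42_2 (flp_e L129787) (flp_j L129765) L188359
theorem L188367 : sm gi N15241 = N22182 := rfl
theorem L188374 : sm gf N22182 = N15247 := ded_48_1 (flp_i L129812) (flp_f L129763) L188367
theorem L188376 : sm gj N22182 = N15245 := ded_53_1 (flp_i L129794) (flp_j L129765) L188367
theorem L188378 : sm gb N15243 = N22183 := rfl
theorem L188380 : sm gd N22183 = N22183 := ded_20_2 (flp_b L188378) L129786 L188378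
theorem L188381 : sm gf N22183 = N15248 := ded_22_2 (flp_b L129822) (flp_f L129783) L188378
theorem L188383 : sm gg N22183 = N22183 := ded_23_2 (flp_b L188378) L129785 L188378
theorem L188384 : sm gc N22183 = N22183 := ded_19_2 (flp_b L188378) (flp_c L129779) L89569 L129779 L188378
theorem L188385 : sm ge N15243 = N22184 := rfl
theorem L188387 : sm ga N22184 = N15260 := ded_13_1 (flp_e L129920) (flp_a L129781) L188385
theorem L188389 : sm gc N22184 = N15244 := ded_28_1 (flp_e L129787) L129779 L188385
theorem L188391 : sm gg N22184 = N22184 := ded_41_2 (flp_e L188385) L129785 L188385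
theorem L188392 : sm gi N15243 = N22185 := rfl
theorem L188394 : sm ga N22185 = N15261 := ded_18_1 (flp_i L129925) (flp_a L129781) L188392
theorem L188396 : sm gc N22185 = N15245 := ded_33_1 (flp_i L129794) L129779 L188392
theorem L188398 : sm gd N22185 = N22185 := ded_39_1 (flp_i L188392) L129786 L188392
theorem L188399 : sm gf N22185 = N15249 := ded_48_1 (flp_i L129828) (flp_f L129783) L188392
theorem L188401 : sm gg N22185 = N22185 := ded_51_1 (flp_i L188392) L129785 L188392
theorem L188402 : sm gi N15244 = N22186 := rfl
theorem L188408 : sm ge N22186 = N15245 := ded_44_1 (flp_i L129794) L129787 L188402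
theorem L188411 : sm gh N15245 = N22187 := rfl
theorem L188416 : sm gf N22187 = N15250 := ded_47_1 (flp_h L129837) (flp_f L129801) L188411
theorem L188420 : sm gb N15246 = N22188 := rfl
theorem L188422 : sm gd N22188 = N22188 := ded_20_2 (flp_b L188420) L129811 L188420
theorem L188423 : sm gg N22188 = N22188 := ded_23_2 (flp_b L188420) L129808 L188420
theorem L188424 : sm gj N22188 = N15248 := ded_24_2 (flp_b L129822) (flp_j L129809) L188420
theorem L188426 : sm gc N22188 = N22188 := ded_19_2 (flp_b L188420) (flp_c L129804) L89588 L129804 L188420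
theorem L188427 : sm gi N15246 = N22189 := rfl
theorem L188429 : sm ga N22189 = N15265 := ded_18_1 (flp_i L129957) (flp_a L129806) L188427
theorem L188431 : sm gc N22189 = N15247 := ded_33_1 (flp_i L129812) L129804 L188427
theorem L188433 : sm gd N22189 = N22189 := ded_39_1 (flp_i L188427) L129811 L188427
theorem L188434 : sm gg N22189 = N22189 := ded_51_1 (flp_i L188427) L129808 L188427
theorem L188435 : sm gj N22189 = N15249 := ded_53_1 (flp_i L129828) (flp_j L129809) L188427
theorem L188437 : sm gh N15247 = N22190 := rfl
theorem L188439 : sm ga N22190 = N15266 := ded_17_1 (flp_h L129965) (flp_a L129814) L188437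
theorem L188443 : sm gj N22190 = N15250 := ded_52_1 (flp_h L129837) (flp_j L129820) L188437
theorem L188446 : sm ga N15248 = N22191 := rfl
theorem L188448 : sm gc N22191 = N22191 := ded_11_2 (flp_a L188446) L129827 L188446
theorem L188449 : sm gd N22191 = N22191 := ded_12_2 (flp_a L188446) L129824 L188446
theorem L188450 : sm gg N22191 = N15251 := ded_15_2 (flp_a L129845) (flp_g L129825) L188446
theorem L188452 : sm gb N22191 = N15267 := ded_10_2 (flp_a L129973) (flp_b L89708) (flp_a L89606) L129822 L188446
theorem L188454 : sm gi N15248 = N22192 := rfl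
theorem L188456 : sm gb N22192 = N15249 := ded_26_1 (flp_i L129828) L129822 L188454
theorem L188458 : sm gc N22192 = N22192 := ded_33_1 (flp_i L188454) L129827 L188454
theorem L188459 : sm gd N22192 = N22192 := ded_39_1 (flp_i L188454) L129824 L188454
theorem L188460 : sm gg N22192 = N15252 := ded_51_1 (flp_i L129853) (flp_g L129825) L188454
theorem L188462 : sm gh N15249 = N22193 := rfl
theorem L188464 : sm ga N22193 = N15269 := ded_17_1 (flp_h L129989) (flp_a L129830) L188462
theorem L188466 : sm gc N22193 = N15250 := ded_32_1 (flp_h L129837) (flp_c L129832) L188462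
theorem L188468 : sm gg N22193 = N15253 := ded_50_1 (flp_h L129861) (flp_g L129835) L188462
theorem L188470 : sm gi N15251 = N22194 := rfl
theorem L188472 : sm ga N22194 = N15252 := ded_18_1 (flp_i L129853) L129845 L188470
theorem L188474 : sm gb N22194 = N15270 := ded_26_1 (flp_i L129995) (flp_b L129851) L188470
theorem L188476 : sm gc N22194 = N22194 := ded_33_1 (flp_i L188470) L129847 L188470
theorem L188477 : sm gd N22194 = N22194 := ded_39_1 (flp_i L188470) L129848 L188470
theorem L188478 : sm gf N22194 = N22194 := ded_48_1 (flp_i L188470) L129849 L188470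
theorem L188479 : sm gj N22194 = N22194 := ded_53_1 (flp_i L188470) L129850 L188470
theorem L188480 : sm gh N15252 = N22195 := rfl
theorem L188482 : sm gb N22195 = N15253 := ded_25_1 (flp_h L129861) (flp_b L129855) L188480
theorem L188484 : sm gc N22195 = N22195 := ded_32_1 (flp_h L188480) L129857 L188480
theorem L188485 : sm gf N22195 = N22195 := ded_47_1 (flp_h L188480) L129859 L188480
theorem L188486 : sm gj N22195 = N22195 := ded_52_1 (flp_h L188480) L129860 L188480
theorem L188487 : sm gd N15253 = N22196 := rfl
theorem L188489 : sm ga N22196 = N15272 := ded_12_1 (flp_d L130012) (flp_a L129863) L188487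
theorem L188491 : sm gf N22196 = N22196 := ded_35_2 (flp_d L188487) L129867 L188487
theorem L188492 : sm gj N22196 = N22196 := ded_37_2 (flp_d L188487) L129868 L188487
theorem L188493 : sm gc N22196 = N22196 := ded_27_1 (flp_d L188487) L129865 L89642 (flp_c L129865) L188487
theorem L188494 : sm gh N22196 = N22196 := ded_38_2 (flp_d L188487) (flp_h L129861) L89632 L129861 L188487
theorem L188495 : sm gc N15254 = N22197 := rfl
theorem L188498 : sm gg N22197 = N15256 := ded_30_2 (flp_c L129888) (flp_g L129874) L188495
theorem L188520 : sm gb N15256 = N22200 := rfl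
theorem L188523 : sm gf N22200 = N15264 := ded_22_2 (flp_b L129949) (flp_f L129890) L188520
theorem L188525 : sm gj N22200 = N15259 := ded_24_2 (flp_b L129912) (flp_j L129892) L188520
theorem L188529 : sm ge N15256 = N22201 := rfl
theorem L188533 : sm gj N22201 = N15260 := ded_42_2 (flp_e L129920) (flp_j L129892) L188529
theorem L188535 : sm gi N15256 = N22202 := rfl
theorem L188540 : sm gf N22202 = N15265 := ded_48_1 (flp_i L129957) (flp_f L129890) L188535
theorem L188542 : sm gj N22202 = N15261 := ded_53_1 (flp_i L129925) (flp_j L129892) L188535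
theorem L188562 : sm ga N15259 = N22205 := rfl
theorem L188564 : sm gc N22205 = N15281 := ded_11_2 (flp_a L130085) (flp_c L129918) L188562
theorem L188570 : sm ge N15259 = N22206 := rfl
theorem L188572 : sm gb N22206 = N15260 := ded_21_1 (flp_e L129920) L129912 L188570
theorem L188587 : sm gd N15260 = N22208 := rfl
theorem L188589 : sm gg N22208 = N22208 := ded_36_2 (flp_d L188587) L129924 L188587
theorem L188590 : sm gc N22208 = N22208 := ded_27_1 (flp_d L188587) L129922 L89683 (flp_c L129922) L188587
theorem L188591 : sm ge N22208 = N22208 := ded_34_2 (flp_d L188587) (flp_e L129920) L89677 L129920 L188587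
theorem L188592 : sm gi N15260 = N22209 := rfl
theorem L188594 : sm gc N22209 = N15262 := ded_33_1 (flp_i L129933) (flp_c L129922) L188592
theorem L188596 : sm ge N22209 = N15261 := ded_44_1 (flp_i L129925) L129920 L188592
theorem L188599 : sm gh N15261 = N22210 := rfl
theorem L188603 : sm gf N22210 = N15269 := ded_47_1 (flp_h L129989) (flp_f L129930) L188599
theorem L188606 : sm gh N15262 = N22211 := rfl
theorem L188613 : sm ga N15264 = N22212 := rfl
theorem L188631 : sm gh N15265 = N22214 := rfl
theorem L188633 : sm gc N22214 = N15266 := ded_32_1 (flp_h L129965) (flp_c L129959) L188631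
theorem L188636 : sm gj N22214 = N15269 := ded_52_1 (flp_h L129989) (flp_j L129963) L188631
theorem L188638 : sm gi N15267 = N22215 := rfl
theorem L188640 : sm ga N22215 = N15268 := ded_18_1 (flp_i L129980) L129973 L188638
theorem L188642 : sm gc N22215 = N15291 := ded_33_1 (flp_i L130161) (flp_c L129975) L188638
theorem L188645 : sm gg N22215 = N15270 := ded_51_1 (flp_i L129995) (flp_g L129978) L188638
theorem L188647 : sm gh N15268 = N22216 := rfl
theorem L188649 : sm gb N22216 = N15269 := ded_25_1 (flp_h L129989) (flp_b L129982) L188647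
theorem L188653 : sm gg N22216 = N15271 := ded_50_1 (flp_h L130004) (flp_g L129987) L188647
theorem L188655 : sm gd N15269 = N22217 := rfl
theorem L188657 : sm gg N22217 = N15272 := ded_36_2 (flp_d L130012) (flp_g L129993) L188655
theorem L188659 : sm gc N22217 = N22217 := ded_27_1 (flp_d L188655) L129991 L89728 (flp_c L129991) L188655
theorem L188660 : sm gh N22217 = N22217 := ded_38_2 (flp_d L188655) (flp_h L129989) L89719 L129989 L188655
theorem L188661 : sm gh N15270 = N22218 := rfl
theorem L188663 : sm ga N22218 = N15271 := ded_17_1 (flp_h L130004) (flp_a L129997) L188661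
theorem L188665 : sm gc N22218 = N15294 := ded_32_1 (flp_h L130184) (flp_c L129999) L188661
theorem L188667 : sm gf N22218 = N22218 := ded_47_1 (flp_h L188661) L130002 L188661
theorem L188668 : sm gj N22218 = N22218 := ded_52_1 (flp_h L188661) L130003 L188661
theorem L188669 : sm gd N15271 = N22219 := rfl
theorem L188671 : sm gb N22219 = N15272 := ded_20_1 (flp_d L130012) (flp_b L130006) L188669
theorem L188673 : sm gf N22219 = N22219 := ded_35_2 (flp_d L188669) L130010 L188669
theorem L188674 : sm gj N22219 = N22219 := ded_37_2 (flp_d L188669) L130011 L188669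
theorem L188675 : sm gh N22219 = N22219 := ded_38_2 (flp_d L188669) (flp_h L130004) L89742 L130004 L188669
theorem L188676 : sm ge N15272 = N22220 := rfl
theorem L188678 : sm gc N22220 = N22220 := ded_28_1 (flp_e L188676) L130016 L188676
theorem L188679 : sm gj N22220 = N22220 := ded_42_2 (flp_e L188676) L130015 L188676
theorem L188680 : sm gh N22220 = N22220 := ded_43_2 (flp_e L188676) L130017 L188676
theorem L188681 : sm gb N15273 = N22221 := rfl
theorem L188686 : sm gg N22221 = N15276 := ded_23_2 (flp_b L130043) (flp_g L130022) L188681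
theorem L188708 : sm gf N15274 = N22224 := rfl
theorem L188723 : sm gh N15275 = N22226 := rfl
theorem L188740 : sm ge N15276 = N22228 := rfl
theorem L188789 : sm ge N15281 = N22234 := rfl
theorem L188795 : sm gi N15281 = N22235 := rfl
theorem L188800 : sm gd N22235 = N15311 := ded_39_1 (flp_i L130334) (flp_d L130087) L188795
theorem L188805 : sm gd N15282 = N22236 := rfl
theorem L188810 : sm ge N22236 = N15312 := ded_34_2 (flp_d L130343) (flp_e L89980) (flp_d L89795) L130093 L188805
theorem L188812 : sm gi N15282 = N22237 := rfl
theorem L188816 : sm ge N22237 = N15283 := ded_44_1 (flp_i L130098) L130093 L188812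
theorem L188819 : sm gh N15283 = N22238 := rfl
theorem L188826 : sm gh N15284 = N22239 := rfl
theorem L188830 : sm ge N22239 = N15315 := ded_43_1 (flp_h L130367) (flp_e L130112) L188826
theorem L188891 : sm gh N15291 = N22247 := rfl
theorem L188893 : sm ga N22247 = N15292 := ded_17_1 (flp_h L130170) (flp_a L130163) L188891
theorem L188896 : sm gg N22247 = N15294 := ded_50_1 (flp_h L130184) (flp_g L130168) L188891
theorem L188898 : sm gd N15292 = N22248 := rfl
theorem L188902 : sm gg N22248 = N15295 := ded_36_2 (flp_d L130191) (flp_g L130174) L188898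
theorem L188904 : sm gh N22248 = N15324 := ded_38_2 (flp_d L130447) (flp_h L90066) (flp_d L89865) L130170 L188898
theorem L188906 : sm ge N15293 = N22249 := rfl
theorem L188912 : sm gh N22249 = N15325 := ded_43_2 (flp_e L130454) (flp_h L130182) L188906
theorem L188914 : sm gd N15294 = N22250 := rfl
theorem L188916 : sm ga N22250 = N15295 := ded_12_1 (flp_d L130191) (flp_a L130186) L188914
theorem L188919 : sm gf N22250 = N22250 := ded_35_2 (flp_d L188914) L130189 L188914
theorem L188921 : sm gh N22250 = N15326 := ded_38_2 (flp_d L130462) (flp_h L90082) (flp_d L89881) L130184 L188914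
theorem L188923 : sm gc N15295 = N22251 := rfl
theorem L188927 : sm gh N22251 = N15327 := ded_32_2 (flp_c L130470) (flp_h L130197) L188923
theorem L188930 : sm ge N15295 = N22252 := rfl
theorem L188932 : sm gb N22252 = N15296 := ded_21_1 (flp_e L130199) (flp_b L130193) L188930
theorem L188935 : sm gh N22252 = N15328 := ded_43_2 (flp_e L130477) (flp_h L130197) L188930
theorem L188937 : sm gf N15296 = N22253 := rfl
theorem L188942 : sm gh N22253 = N15329 := ded_47_2 (flp_f L130484) (flp_h L130204) L188937
theorem L188979 : sm gf N15298 = N22258 := rfl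
theorem L188982 : sm gc N22258 = N15300 := ded_29_1 (flp_f L130232) (flp_c L130217) L188979
theorem L188988 : sm gi N15298 = N22259 := rfl
theorem L188995 : sm gg N22259 = N15307 := ded_51_1 (flp_i L130295) (flp_g L130219) L188988
theorem L189008 : sm gi N15300 = N22261 := rfl
theorem L189014 : sm gf N22261 = N15301 := ded_48_1 (flp_i L130241) L130232 L189008
theorem L189018 : sm gh N15301 = N22262 := rfl
theorem L189022 : sm ge N22262 = N15302 := ded_43_1 (flp_h L130251) (flp_e L130246) L189018
theorem L189048 : sm gd N15304 = N22265 := rfl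
theorem L189050 : sm gb N22265 = N15306 := ded_20_1 (flp_d L130288) (flp_b L130272) L189048
theorem L189053 : sm gj N22265 = N15312 := ded_37_2 (flp_d L130343) (flp_j L130275) L189048
theorem L189065 : sm gh N15305 = N22267 := rfl
theorem L189070 : sm gf N22267 = N15321 := ded_47_1 (flp_h L130419) (flp_f L130284) L189065
theorem L189075 : sm gh N15306 = N22268 := rfl
theorem L189092 : sm gh N15307 = N22270 := rfl
theorem L189100 : sm gj N22270 = N15317 := ded_52_1 (flp_h L130382) (flp_j L130303) L189092
theorem L189129 : sm gi N15310 = N22274 := rfl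
theorem L189131 : sm ga N22274 = N15313 := ded_18_1 (flp_i L130349) (flp_a L130327) L189129
theorem L189135 : sm ge N22274 = N15311 := ded_44_1 (flp_i L130334) L130325 L189129
theorem L189139 : sm gh N15311 = N22275 := rfl
theorem L189141 : sm ga N22275 = N15314 := ded_17_1 (flp_h L130358) (flp_a L130336) L189139
theorem L189145 : sm gf N22275 = N15323 := ded_47_1 (flp_h L130437) (flp_f L130340) L189139
theorem L189149 : sm gc N15312 = N22276 := rfl
theorem L189155 : sm gh N15312 = N22277 := rfl
theorem L189170 : sm gh N15313 = N22279 := rfl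
theorem L189172 : sm gb N22279 = N15317 := ded_25_1 (flp_h L130382) (flp_b L130351) L189170
theorem L189180 : sm gd N15314 = N22280 := rfl
theorem L189184 : sm gf N22280 = N15324 := ded_35_2 (flp_d L130447) (flp_f L130363) L189180
theorem L189188 : sm gi N15315 = N22281 := rfl
theorem L189195 : sm gh N15316 = N22282 := rfl
theorem L189201 : sm gd N15317 = N22283 := rfl
theorem L189207 : sm ge N15318 = N22284 := rfl
theorem L189232 : sm gd N15321 = N22287 := rfl
theorem L189237 : sm gj N22287 = N15324 := ded_37_2 (flp_d L130447) (flp_j L130426) L189232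
theorem L189249 : sm gd N15323 = N22289 := rfl
theorem L189254 : sm gg N22289 = N15326 := ded_36_2 (flp_d L130462) (flp_g L130444) L189249
theorem L189257 : sm gc N15324 = N22290 := rfl
theorem L189264 : sm ge N15324 = N22291 := rfl
theorem L189268 : sm gg N22291 = N15328 := ded_41_2 (flp_e L130477) (flp_g L130451) L189264
theorem L189272 : sm gf N15325 = N22292 := rfl
theorem L189278 : sm gc N15326 = N22293 := rfl
theorem L189280 : sm ga N22293 = N15327 := ded_11_1 (flp_c L130470) (flp_a L130464) L189278
theorem L189301 : sm gf N15328 = N22296 := rfl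
theorem L189303 : sm gb N22296 = N15329 := ded_22_1 (flp_f L130484) (flp_b L130479) L189301
theorem L189309 : sm gg N15329 = N22297 := rfl
theorem L189316 : sm gc N15330 = N22298 := rfl
theorem L189318 : sm ga N22298 = N16878 := ded_11_1 (flp_c L143906) (flp_a L130494) L189316
theorem L189320 : sm ge N22298 = N22298 := ded_28_2 (flp_c L189316) L130500 L189316
theorem L189321 : sm gf N22298 = N22298 := ded_29_2 (flp_c L189316) L130497 L189316
theorem L189322 : sm gg N22298 = N22298 := ded_30_2 (flp_c L189316) L130498 L189316
theorem L189323 : sm gj N22298 = N22298 := ded_31_2 (flp_c L189316) L130499 L189316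
theorem L189324 : sm gh N22298 = N22298 := ded_32_2 (flp_c L189316) L130501 L189316
theorem L189325 : sm gd N22298 = N22298 := ded_27_2 (flp_c L189316) (flp_d L130492) L90111 L130492 L189316
theorem L189326 : sm gi N15330 = N22299 := rfl
theorem L189328 : sm ga N22299 = N16879 := ded_18_1 (flp_i L143915) (flp_a L130494) L189326
theorem L189331 : sm gd N22299 = N15331 := ded_39_1 (flp_i L130502) L130492 L189326
theorem L189337 : sm gh N15331 = N22300 := rfl
theorem L189348 : sm gi N22300 = N15332 := ded_54_2 (flp_h L130513) (flp_i L90117) L90106 L130502 L189337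
theorem L189359 : sm gd N15333 = N22302 := rfl
theorem L189364 : sm gf N22302 = N15335 := ded_35_2 (flp_d L130547) (flp_f L130530) L189359
theorem L189368 : sm gi N22302 = N15334 := ded_39_2 (flp_d L130536) (flp_i L130534) L189359
theorem L189371 : sm gc N15334 = N22303 := rfl
theorem L189379 : sm gh N22303 = N15338 := ded_32_2 (flp_c L130579) (flp_h L130545) L189371
theorem L189391 : sm gc N15335 = N22305 := rfl
theorem L189399 : sm gi N22305 = N15336 := ded_33_2 (flp_c L130558) (flp_i L130555) L189391
theorem L189423 : sm ge N15336 = N22308 := rfl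
theorem L189432 : sm gh N22308 = N15341 := ded_43_2 (flp_e L130608) (flp_h L130565) L189423
theorem L189443 : sm gb N15338 = N22310 := rfl
theorem L189445 : sm gd N22310 = N15348 := ded_20_2 (flp_b L130680) (flp_d L130588) L189443
theorem L189561 : sm gh N15345 = N22322 := rfl
theorem L189565 : sm ge N22322 = N15360 := ded_43_1 (flp_h L130792) (flp_e L130658) L189561
theorem L189571 : sm gg N15346 = N22323 := rfl
theorem L189580 : sm gf N22323 = N15405 := ded_45_1 (flp_g L131223) (flp_f L90588) (flp_g L90220) L130660 L189571
theorem L189603 : sm ge N15348 = N22326 := rfl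
theorem L189605 : sm gb N22326 = N15349 := ded_21_1 (flp_e L130688) L130680 L189603
theorem L189619 : sm gf N15349 = N22328 := rfl
theorem L189621 : sm ga N22328 = N16908 := ded_14_1 (flp_f L144148) (flp_a L130690) L189619
theorem L189630 : sm gg N15350 = N22329 := rfl
theorem L189632 : sm ga N22329 = N16909 := ded_15_1 (flp_g L144157) (flp_a L130700) L189630
theorem L189635 : sm ge N22329 = N15355 := ded_41_1 (flp_g L130745) (flp_e L130706) L189630
theorem L189637 : sm gh N22329 = N22329 := ded_50_2 (flp_g L189630) L130704 L189630
theorem L189640 : sm ge N15351 = N22330 := rfl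
theorem L189644 : sm gb N22330 = N16910 := ded_21_1 (flp_e L144166) (flp_b L130715) L189640
theorem L189651 : sm gd N15352 = N22331 := rfl
theorem L189655 : sm gg N22331 = N15408 := ded_36_2 (flp_d L131254) (flp_g L130721) L189651
theorem L189696 : sm gj N15355 = N22336 := rfl
theorem L189700 : sm gd N22336 = N15362 := ded_37_1 (flp_j L130813) (flp_d L130749) L189696
theorem L189702 : sm gf N22336 = N15413 := ded_46_1 (flp_j L131299) (flp_f L130753) L189696
theorem L189707 : sm gd N15356 = N22337 := rfl
theorem L189713 : sm gg N22337 = N15414 := ded_36_2 (flp_d L131310) (flp_g L130761) L189707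
theorem L189751 : sm gg N15358 = N22342 := rfl
theorem L189753 : sm gb N22342 = N15361 := ded_23_1 (flp_g L130801) (flp_b L130777) L189751
theorem L189756 : sm gh N22342 = N15368 := ded_50_2 (flp_g L130872) (flp_h L130780) L189751
theorem L189761 : sm ge N15359 = N22343 := rfl
theorem L189763 : sm ga N22343 = N16923 := ded_13_1 (flp_e L144279) (flp_a L130786) L189761
theorem L189767 : sm gd N22343 = N22343 := ded_34_1 (flp_e L189761) L130788 L90319 (flp_d L130788) L189761
theorem L189768 : sm gg N15359 = N22344 := rfl
theorem L189772 : sm gd N22344 = N15361 := ded_36_1 (flp_g L130801) (flp_d L130788) L189768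
theorem L189777 : sm gh N15359 = N22345 := rfl
theorem L189786 : sm gi N15360 = N22346 := rfl
theorem L189792 : sm gg N22346 = N15423 := ded_51_1 (flp_i L131389) (flp_g L130796) L189786
theorem L189796 : sm gj N15361 = N22347 := rfl
theorem L189803 : sm gf N22347 = N15424 := ded_46_1 (flp_j L131398) (flp_f L130811) L189796
theorem L189809 : sm gc N15363 = N22348 := rfl
theorem L189817 : sm gi N22348 = N15374 := ded_33_2 (flp_c L130933) (flp_i L130833) L189809
theorem L189840 : sm gg N15364 = N22351 := rfl
theorem L189842 : sm ga N22351 = N15368 := ded_15_1 (flp_g L130872) (flp_a L130838) L189840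
theorem L189847 : sm gi N22351 = N15377 := ded_51_2 (flp_g L130961) (flp_i L130843) L189840
theorem L189849 : sm gf N22351 = N15428 := ded_45_1 (flp_g L131441) (flp_f L90734) (flp_g L90336) L130836 L189840
theorem L189851 : sm gf N15365 = N22352 := rfl
theorem L189857 : sm gi N22352 = N15378 := ded_48_2 (flp_f L130971) (flp_i L130852) L189851
theorem L189904 : sm gj N15368 = N22358 := rfl
theorem L189911 : sm gi N22358 = N15384 := ded_53_2 (flp_j L131018) (flp_i L130877) L189904
theorem L189914 : sm gg N15369 = N22359 := rfl
theorem L189920 : sm ge N22359 = N15370 := ded_41_1 (flp_g L130891) L130881 L189914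
theorem L189922 : sm gi N22359 = N15385 := ded_51_2 (flp_g L131027) (flp_i L130887) L189914
theorem L189924 : sm gh N15369 = N22360 := rfl
theorem L189945 : sm gh N15370 = N22362 := rfl
theorem L189973 : sm gf N15374 = N22365 := rfl
theorem L189975 : sm ga N22365 = N15378 := ded_14_1 (flp_f L130971) (flp_a L130935) L189973
theorem L189980 : sm gh N15374 = N22366 := rfl
theorem L189984 : sm gc N22366 = N15376 := ded_32_1 (flp_h L130950) L130933 L189980
theorem L189987 : sm gg N22366 = N15443 := ded_50_1 (flp_h L131580) (flp_g L130938) L189980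
theorem L190030 : sm gj N15377 = N22371 := rfl
theorem L190037 : sm gf N22371 = N15448 := ded_46_1 (flp_j L131629) (flp_f L130969) L190030
theorem L190048 : sm gg N15378 = N22373 := rfl
theorem L190053 : sm gf N22373 = N15450 := ded_45_1 (flp_g L131648) (flp_f L90867) (flp_g L90422) L130971 L190048
theorem L190055 : sm gh N15378 = N22374 := rfl
theorem L190060 : sm gf N22374 = N15379 := ded_47_1 (flp_h L130977) L130971 L190055
theorem L190063 : sm gd N15379 = N22375 := rfl
theorem L190066 : sm gg N22375 = N15452 := ded_36_2 (flp_d L131662) (flp_g L130983) L190063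
theorem L190079 : sm gg N15380 = N22377 := rfl
theorem L190081 : sm gb N22377 = N15385 := ded_23_1 (flp_g L131027) (flp_b L130988) L190079
theorem L190086 : sm gh N15380 = N22378 := rfl
theorem L190138 : sm gh N15385 = N22384 := rfl
theorem L190155 : sm gi N15386 = N22386 := rfl
theorem L190160 : sm ge N22386 = N15389 := ded_44_1 (flp_i L131064) (flp_e L131040) L190155
theorem L190185 : sm gb N15390 = N22389 := rfl
theorem L190189 : sm gj N22389 = N15466 := ded_24_2 (flp_b L131783) (flp_j L131078) L190185
theorem L190192 : sm gi N22389 = N15392 := ded_26_2 (flp_b L131095) (flp_i L131081) L190185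
theorem L190229 : sm ge N15392 = N22393 := rfl
theorem L190234 : sm gj N22393 = N15470 := ded_42_2 (flp_e L131822) (flp_j L131099) L190229
theorem L190236 : sm gh N22393 = N15396 := ded_43_2 (flp_e L131136) (flp_h L131101) L190229
theorem L190276 : sm gd N15396 = N22398 := rfl
theorem L190280 : sm gj N22398 = N15475 := ded_37_2 (flp_d L131865) (flp_j L131141) L190276
theorem L190285 : sm gf N15396 = N22399 := rfl
theorem L190334 : sm gd N15400 = N22404 := rfl
theorem L190336 : sm ga N22404 = N15401 := ded_12_1 (flp_d L131185) (flp_a L131176) L190334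
theorem L190340 : sm gj N22404 = N15481 := ded_37_2 (flp_d L131917) (flp_j L131181) L190334
theorem L190366 : sm gf N15401 = N22407 := rfl
theorem L190372 : sm gj N22407 = N15484 := ded_46_2 (flp_f L131945) (flp_j L131189) L190366
theorem L190393 : sm ge N15403 = N22410 := rfl
theorem L190400 : sm gd N22410 = N15586 := ded_34_1 (flp_e L132798) L91642 (flp_e L90598) (flp_d L131209) L190393
theorem L190404 : sm gg N15403 = N22411 := rfl
theorem L190411 : sm gh N15403 = N22412 := rfl
theorem L190417 : sm gj N22412 = N15489 := ded_52_1 (flp_h L131987) (flp_j L131211) L190411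
theorem L190430 : sm gj N15405 = N22414 := rfl
theorem L190440 : sm gg N22414 = N15491 := ded_49_1 (flp_j L132003) (flp_g L91102) (flp_j L90594) L131223 L190430
theorem L190442 : sm gd N15407 = N22415 := rfl
theorem L190446 : sm gb N22415 = N17018 := ded_20_1 (flp_d L145087) (flp_b L131248) L190442
theorem L190448 : sm gj N22415 = N15492 := ded_37_2 (flp_d L132014) (flp_j L131250) L190442
theorem L190478 : sm gh N15408 = N22419 := rfl
theorem L190482 : sm gj N22419 = N15496 := ded_52_1 (flp_h L132044) (flp_j L131258) L190478
theorem L190485 : sm gg N15409 = N22420 := rfl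
theorem L190511 : sm gh N15410 = N22423 := rfl
theorem L190513 : sm ga N22423 = N17026 := ded_17_1 (flp_h L145151) (flp_a L131272) L190511
theorem L190519 : sm gj N22423 = N15500 := ded_52_1 (flp_h L132076) (flp_j L131278) L190511
theorem L190543 : sm gc N15414 = N22426 := rfl
theorem L190547 : sm gj N22426 = N15503 := ded_31_2 (flp_c L132104) (flp_j L131316) L190543
theorem L190550 : sm gf N15414 = N22427 := rfl
theorem L190552 : sm ga N22427 = N15417 := ded_14_1 (flp_f L131337) (flp_a L131312) L190550
theorem L190556 : sm gd N22427 = N15415 := ded_35_1 (flp_f L131319) L131310 L190550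
theorem L190561 : sm gh N15414 = N22428 := rfl
theorem L190567 : sm gj N22428 = N15505 := ded_52_1 (flp_h L132119) (flp_j L131316) L190561
theorem L190571 : sm gg N15415 = N22429 := rfl
theorem L190579 : sm gh N22429 = N15428 := ded_50_2 (flp_g L131441) (flp_h L131327) L190571
theorem L190582 : sm gf N15416 = N22430 := rfl
theorem L190584 : sm gc N22430 = N15417 := ded_29_1 (flp_f L131337) L131332 L190582
theorem L190586 : sm gj N22430 = N15507 := ded_46_2 (flp_f L132140) (flp_j L131334) L190582
theorem L190589 : sm gh N15416 = N22431 := rfl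
theorem L190593 : sm gj N22431 = N15508 := ded_52_1 (flp_h L132145) (flp_j L131334) L190589
theorem L190595 : sm ge N15417 = N22432 := rfl
theorem L190599 : sm gj N22432 = N15509 := ded_42_2 (flp_e L132150) (flp_j L131343) L190595
theorem L190604 : sm gg N15417 = N22433 := rfl
theorem L190630 : sm gj N15419 = N22436 := rfl
theorem L190639 : sm gg N22436 = N15513 := ded_49_1 (flp_j L132181) (flp_g L91219) (flp_j L90677) L131354 L190630
theorem L190641 : sm gg N15420 = N22437 := rfl
theorem L190645 : sm gd N22437 = N15602 := ded_36_1 (flp_g L132951) (flp_d L131370) L190641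
theorem L190650 : sm gh N15420 = N22438 := rfl
theorem L190656 : sm gj N22438 = N15515 := ded_52_1 (flp_h L132200) (flp_j L131367) L190650
theorem L190686 : sm gb N15425 = N22442 := rfl
theorem L190694 : sm gc N22442 = N17045 := ded_19_2 (flp_b L145308) (flp_c L100363) (flp_b L90727) L131411 L190686
theorem L190696 : sm gf N15425 = N22443 := rfl
theorem L190702 : sm gj N22443 = N15520 := ded_46_2 (flp_f L132241) (flp_j L131416) L190696
theorem L190704 : sm gi N22443 = N15442 := ded_48_2 (flp_f L131572) (flp_i L131418) L190696
theorem L190706 : sm gh N15425 = N22444 := rfl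
theorem L190708 : sm ga N22444 = N15430 := ded_17_1 (flp_h L131460) (flp_a L131413) L190706
theorem L190759 : sm gj N15428 = N22449 := rfl
theorem L190767 : sm gi N22449 = N15448 := ded_53_2 (flp_j L131629) (flp_i L131449) L190759
theorem L190771 : sm ge N15429 = N22450 := rfl
theorem L190774 : sm gc N22450 = N15431 := ded_28_1 (flp_e L131468) (flp_c L131454) L190771
theorem L190776 : sm gj N22450 = N15527 := ded_42_2 (flp_e L132308) (flp_j L131456) L190771
theorem L190778 : sm gi N22450 = N15449 := ded_44_2 (flp_e L131640) (flp_i L131458) L190771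
theorem L190781 : sm gg N15429 = N22451 := rfl
theorem L190788 : sm gh N15429 = N22452 := rfl
theorem L190812 : sm gg N15431 = N22455 := rfl
theorem L190818 : sm ge N22455 = N15432 := ded_41_1 (flp_g L131479) L131468 L190812
theorem L190820 : sm gi N22455 = N15454 := ded_51_2 (flp_g L131676) (flp_i L131474) L190812
theorem L190822 : sm gh N15431 = N22456 := rfl
theorem L190824 : sm gb N22456 = N15437 := ded_25_1 (flp_h L131525) (flp_b L131470) L190822
theorem L190831 : sm gj N15432 = N22457 := rfl
theorem L190839 : sm gg N22457 = N15534 := ded_49_1 (flp_j L132361) (flp_g L91332) (flp_j L90760) L131479 L190831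
theorem L190841 : sm gh N15432 = N22458 := rfl
theorem L190845 : sm gg N22458 = N15433 := ded_50_1 (flp_h L131487) L131479 L190841
theorem L190857 : sm gf N15436 = N22460 := rfl
theorem L190862 : sm gd N22460 = N15625 := ded_35_1 (flp_f L133182) (flp_d L131519) L190857
theorem L190864 : sm gi N22460 = N15459 := ded_48_2 (flp_f L131717) (flp_i L131523) L190857
theorem L190928 : sm gf N15441 = N22467 := rfl
theorem L190933 : sm gc N22467 = N17070 := ded_29_1 (flp_f L145529) (flp_c L131570) L190928
theorem L190937 : sm gh N15441 = N22468 := rfl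
theorem L190940 : sm gb N22468 = N15443 := ded_25_1 (flp_h L131580) L131564 L190937
theorem L190945 : sm gj N22468 = N15545 := ded_52_1 (flp_h L132458) (flp_j L131567) L190937
theorem L190947 : sm ge N15442 = N22469 := rfl
theorem L190951 : sm gc N22469 = N15444 := ded_28_1 (flp_e L131589) (flp_c L131576) L190947
theorem L190953 : sm gj N22469 = N15546 := ded_42_2 (flp_e L132467) (flp_j L131578) L190947
theorem L190956 : sm gg N15442 = N22470 := rfl
theorem L190958 : sm ga N22470 = N15450 := ded_15_1 (flp_g L131648) (flp_a L131574) L190956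
theorem L190962 : sm gh N15442 = N22471 := rfl
theorem L190970 : sm gj N22471 = N15548 := ded_52_1 (flp_h L132481) (flp_j L131578) L190962
theorem L190972 : sm gd N15443 = N22472 := rfl
theorem L190974 : sm ga N22472 = N15452 := ded_12_1 (flp_d L131662) (flp_a L131582) L190972
theorem L190976 : sm gj N22472 = N15549 := ded_37_2 (flp_d L132489) (flp_j L131587) L190972
theorem L190979 : sm gi N15443 = N22473 := rfl
theorem L190981 : sm ga N22473 = N15453 := ded_18_1 (flp_i L131668) (flp_a L131582) L190979
theorem L190986 : sm gj N22473 = N15550 := ded_53_1 (flp_i L132495) (flp_j L131587) L190979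
theorem L190988 : sm gg N15444 = N22474 := rfl
theorem L190992 : sm gb N22474 = N17077 := ded_23_1 (flp_g L145588) (flp_b L131593) L190988
theorem L191039 : sm gd N15449 = N22479 := rfl
theorem L191043 : sm gj N22479 = N15556 := ded_37_2 (flp_d L132550) (flp_j L131645) L191039
theorem L191045 : sm gc N22479 = N15644 := ded_27_1 (flp_d L133373) L92026 (flp_d L90888) (flp_c L131643) L191039
theorem L191054 : sm gh N15449 = N22481 := rfl
theorem L191062 : sm gj N22481 = N15558 := ded_52_1 (flp_h L132563) (flp_j L131645) L191054
theorem L191064 : sm gj N15450 = N22482 := rfl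
theorem L191095 : sm ge N15452 = N22486 := rfl
theorem L191099 : sm gj N22486 = N15563 := ded_42_2 (flp_e L132598) (flp_j L131665) L191095
theorem L191163 : sm gi N15457 = N22494 := rfl
theorem L191168 : sm gg N22494 = N15458 := ded_51_1 (flp_i L131708) (flp_g L131705) L191163
theorem L191170 : sm gj N15459 = N22495 := rfl
theorem L191177 : sm gf N22495 = N15460 := ded_46_1 (flp_j L131725) L131717 L191170
theorem L191179 : sm gh N15459 = N22496 := rfl
theorem L191187 : sm gh N15460 = N22497 := rfl
theorem L191198 : sm gd N15461 = N22498 := rfl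
theorem L191202 : sm gg N22498 = N15462 := ded_36_2 (flp_d L131745) (flp_g L131743) L191198
theorem L191205 : sm gh N22498 = N15663 := ded_38_2 (flp_d L133543) (flp_h L92125) (flp_d L90928) L131736 L191198
theorem L191216 : sm gc N15462 = N22500 := rfl
theorem L191222 : sm gj N22500 = N15577 := ded_31_2 (flp_c L132712) (flp_j L131750) L191216
theorem L191224 : sm gh N22500 = N15665 := ded_32_2 (flp_c L133560) (flp_h L131753) L191216
theorem L191258 : sm ge N15466 = N22504 := rfl
theorem L191265 : sm gi N22504 = N15470 := ded_44_2 (flp_e L131822) (flp_i L131789) L191258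
theorem L191313 : sm gf N15470 = N22510 := rfl
theorem L191392 : sm gh N15475 = N22519 := rfl
theorem L191396 : sm ge N22519 = N15496 := ded_43_1 (flp_h L132044) (flp_e L131871) L191392
theorem L191507 : sm ge N15484 = N22532 := rfl
theorem L191514 : sm gf N22532 = N15509 := ded_40_2 (flp_e L132150) (flp_f L91205) (flp_e L91076) L131945 L191507
theorem L191524 : sm gh N15484 = N22534 := rfl
theorem L191567 : sm gj N15488 = N22539 := rfl
theorem L191571 : sm gd N22539 = N15491 := ded_37_1 (flp_j L132003) (flp_d L131983) L191567
theorem L191575 : sm gh N15488 = N22540 := rfl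
theorem L191580 : sm gg N22540 = N15489 := ded_50_1 (flp_h L131987) L131979 L191575
theorem L191583 : sm gi N15489 = N22541 := rfl
theorem L191591 : sm gc N15492 = N22542 := rfl
theorem L191597 : sm gf N15492 = N22543 := rfl
theorem L191599 : sm ga N22543 = N15495 := ded_14_1 (flp_f L132037) (flp_a L132016) L191597
theorem L191606 : sm gh N15492 = N22544 := rfl
theorem L191638 : sm ge N15495 = N22548 := rfl
theorem L191644 : sm gg N15495 = N22549 := rfl
theorem L191648 : sm gd N22549 = N15497 := ded_36_1 (flp_g L132050) (flp_d L132041) L191644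
theorem L191659 : sm gi N15496 = N22551 := rfl
theorem L191666 : sm gj N15497 = N22552 := rfl
theorem L191668 : sm gb N22552 = N15502 := ded_24_1 (flp_j L132094) (flp_b L132052) L191666
theorem L191712 : sm gi N15500 = N22557 := rfl
theorem L191722 : sm gb N15503 = N22558 := rfl
theorem L191726 : sm gc N22558 = N17196 := ded_19_2 (flp_b L146517) (flp_c L101157) (flp_b L91186) L132104 L191722
theorem L191728 : sm gf N15503 = N22559 := rfl
theorem L191732 : sm gc N22559 = N15504 := ded_29_1 (flp_f L132110) L132104 L191728
theorem L191751 : sm gg N15504 = N22562 := rfl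
theorem L191753 : sm ga N22562 = N15510 := ded_15_1 (flp_g L132157) (flp_a L132112) L191751
theorem L191781 : sm gj N15506 = N22565 := rfl
theorem L191783 : sm ga N22565 = N15513 := ded_16_1 (flp_j L132181) (flp_a L132130) L191781
theorem L191790 : sm gh N22565 = N15526 := ded_52_2 (flp_j L132297) (flp_h L132136) L191781
theorem L191804 : sm gh N15507 = N22568 := rfl
theorem L191808 : sm gf N22568 = N15508 := ded_47_1 (flp_h L132145) L132140 L191804
theorem L191815 : sm gi N15508 = N22570 := rfl
theorem L191830 : sm gh N15509 = N22572 := rfl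
theorem L191836 : sm gj N15510 = N22573 := rfl
theorem L191870 : sm gj N15514 = N22577 := rfl
theorem L191879 : sm gh N15514 = N22578 := rfl
theorem L191883 : sm ge N22578 = N15517 := ded_43_1 (flp_h L132214) (flp_e L132197) L191879
theorem L191885 : sm gg N22578 = N15515 := ded_50_1 (flp_h L132200) L132191 L191879
theorem L191887 : sm gd N15515 = N22579 := rfl
theorem L191893 : sm gh N22579 = N15705 := ded_38_2 (flp_d L133912) (flp_h L92375) (flp_d L91234) L132200 L191887
theorem L191895 : sm gi N15515 = N22580 := rfl
theorem L191921 : sm gf N15519 = N22583 := rfl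
theorem L191926 : sm gc N22583 = N17221 := ded_29_1 (flp_f L146695) (flp_c L132239) L191921
theorem L191928 : sm gi N22583 = N15544 := ded_48_2 (flp_f L132451) (flp_i L132236) L191921
theorem L191939 : sm ge N15520 = N22585 := rfl
theorem L191941 : sm ga N22585 = N15527 := ded_13_1 (flp_e L132308) (flp_a L132243) L191939
theorem L191943 : sm gc N22585 = N15522 := ded_28_1 (flp_e L132257) (flp_c L132245) L191939
theorem L191945 : sm gi N22585 = N15546 := ded_44_2 (flp_e L132467) (flp_i L132247) L191939
theorem L191948 : sm gg N15520 = N22586 := rfl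
theorem L191952 : sm gc N22586 = N15523 := ded_30_1 (flp_g L132268) (flp_c L132245) L191948
theorem L191957 : sm gh N15520 = N22587 := rfl
theorem L191959 : sm ga N22587 = N15529 := ded_17_1 (flp_h L132324) (flp_a L132243) L191957
theorem L191980 : sm gg N15522 = N22590 := rfl
theorem L191986 : sm gd N22590 = N15716 := ded_36_1 (flp_g L134014) (flp_d L132265) L191980
theorem L191990 : sm gi N22590 = N15551 := ded_51_2 (flp_g L132503) (flp_i L132263) L191980
theorem L192012 : sm gh N15523 = N22593 := rfl
theorem L192014 : sm ga N22593 = N15535 := ded_17_1 (flp_h L132370) (flp_a L132270) L192012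
theorem L192031 : sm gd N15527 = N22595 := rfl
theorem L192033 : sm gb N22595 = N22595 := ded_20_1 (flp_d L192031) L132310 L192031
theorem L192035 : sm gi N22595 = N15556 := ded_39_2 (flp_d L132550) (flp_i L132313) L192031
theorem L192037 : sm gc N22595 = N15721 := ded_27_1 (flp_d L134065) L92495 (flp_d L91329) (flp_c L132311) L192031
theorem L192039 : sm gg N15527 = N22596 := rfl
theorem L192042 : sm gc N22596 = N15532 := ded_30_1 (flp_g L132344) (flp_c L132311) L192039
theorem L192048 : sm gh N15527 = N22597 := rfl
theorem L192086 : sm ge N15530 = N22602 := rfl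
theorem L192091 : sm gi N15530 = N22603 := rfl
theorem L192097 : sm gf N15532 = N22604 := rfl
theorem L192101 : sm gd N22604 = N15730 := ded_35_1 (flp_f L134142) (flp_d L132348) L192097
theorem L192103 : sm gi N22604 = N15565 := ded_48_2 (flp_f L132611) (flp_i L132352) L192097
theorem L192117 : sm gh N15532 = N22606 := rfl
theorem L192132 : sm gi N15533 = N22608 := rfl
theorem L192136 : sm ge N22608 = N15536 := ded_44_1 (flp_i L132377) (flp_e L132358) L192132
theorem L192139 : sm gh N22608 = N15569 := ded_54_1 (flp_i L132643) (flp_h L91516) (flp_i L91327) L132354 L192132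
theorem L192141 : sm gh N15534 = N22609 := rfl
theorem L192239 : sm gg N15544 = N22620 := rfl
theorem L192247 : sm gh N15544 = N22621 := rfl
theorem L192254 : sm gf N22621 = N15545 := ded_47_1 (flp_h L132458) L132451 L192247
theorem L192256 : sm gd N15545 = N22622 := rfl
theorem L192271 : sm gd N15546 = N22624 := rfl
theorem L192273 : sm ga N22624 = N15556 := ded_12_1 (flp_d L132550) (flp_a L132469) L192271
theorem L192276 : sm gc N22624 = N15750 := ded_27_1 (flp_d L134324) L92668 (flp_d L91437) (flp_c L132471) L192271
theorem L192286 : sm gh N15546 = N22626 := rfl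
theorem L192288 : sm ga N22626 = N15558 := ded_17_1 (flp_h L132563) (flp_a L132469) L192286
theorem L192292 : sm ge N22626 = N15548 := ded_43_1 (flp_h L132481) L132467 L192286
theorem L192295 : sm gj N15547 = N22627 := rfl
theorem L192302 : sm gh N15547 = N22628 := rfl
theorem L192304 : sm ga N22628 = N15560 := ded_17_1 (flp_h L132577) (flp_a L132476) L192302
theorem L192309 : sm gg N22628 = N15548 := ded_50_1 (flp_h L132481) L132474 L192302
theorem L192318 : sm gi N15548 = N22630 := rfl
theorem L192320 : sm ga N22630 = N15562 := ded_18_1 (flp_i L132591) (flp_a L132483) L192318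
theorem L192324 : sm gf N22630 = N15550 := ded_48_1 (flp_i L132495) (flp_f L132487) L192318
theorem L192351 : sm gj N15551 = N22634 := rfl
theorem L192400 : sm gi N15554 = N22639 := rfl
theorem L192402 : sm ga N22639 = N15571 := ded_18_1 (flp_i L132658) (flp_a L132533) L192400
theorem L192410 : sm gg N15556 = N22640 := rfl
theorem L192417 : sm gh N15556 = N22641 := rfl
theorem L192420 : sm gc N22641 = N15767 := ded_32_1 (flp_h L134468) (flp_c L132554) L192417
theorem L192446 : sm gd N15558 = N22645 := rfl
theorem L192466 : sm gd N15560 = N22648 := rfl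
theorem L192470 : sm gg N22648 = N15561 := ded_36_2 (flp_d L132585) (flp_g L132583) L192466
theorem L192481 : sm ge N15561 = N22650 := rfl
theorem L192493 : sm gf N15563 = N22652 := rfl
theorem L192511 : sm gj N15565 = N22655 := rfl
theorem L192515 : sm gd N22655 = N15781 := ded_37_1 (flp_j L134580) (flp_d L132615) L192511
theorem L192528 : sm gh N15566 = N22657 := rfl
theorem L192532 : sm ge N22657 = N15570 := ded_43_1 (flp_h L132650) (flp_e L132625) L192528
theorem L192534 : sm gj N22657 = N15567 := ded_52_1 (flp_h L132627) L132619 L192528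
theorem L192559 : sm gi N15568 = N22661 := rfl
theorem L192561 : sm gb N22661 = N15578 := ded_26_1 (flp_i L132721) (flp_b L132637) L192559
theorem L192563 : sm gd N22661 = N15569 := ded_39_1 (flp_i L132643) L132635 L192559
theorem L192567 : sm gi N15570 = N22662 := rfl
theorem L192573 : sm gj N22662 = N15571 := ded_53_1 (flp_i L132658) (flp_j L132655) L192567
theorem L192575 : sm gg N15572 = N22663 := rfl
theorem L192577 : sm ga N22663 = N17301 := ded_15_1 (flp_g L147316) (flp_a L132668) L192575
theorem L192584 : sm gh N15572 = N22664 := rfl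
theorem L192590 : sm gf N22664 = N15574 := ded_47_1 (flp_h L132685) (flp_f L132674) L192584
theorem L192612 : sm gd N15574 = N22667 := rfl
theorem L192619 : sm gh N22667 = N15793 := ded_38_2 (flp_d L134680) (flp_h L92895) (flp_d L91559) L132685 L192612
theorem L192630 : sm gc N15575 = N22669 := rfl
theorem L192635 : sm gg N22669 = N15577 := ded_30_2 (flp_c L132712) (flp_g L132698) L192630
theorem L192637 : sm gh N22669 = N15795 := ded_32_2 (flp_c L134697) (flp_h L132701) L192630
theorem L192649 : sm gb N15577 = N22671 := rfl
theorem L192707 : sm gg N15581 = N22677 := rfl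
theorem L192709 : sm ga N22677 = N15585 := ded_15_1 (flp_g L132790) (flp_a L132752) L192707
theorem L192717 : sm gf N15582 = N22678 := rfl
theorem L192720 : sm gc N22678 = N15583 := ded_29_1 (flp_f L132771) L132761 L192717
theorem L192723 : sm gj N22678 = N15672 := ded_46_2 (flp_f L133633) (flp_j L132766) L192717
theorem L192726 : sm gh N15582 = N22679 := rfl
theorem L192729 : sm gc N22679 = N15584 := ded_32_1 (flp_h L132780) L132761 L192726
theorem L192734 : sm gj N22679 = N15673 := ded_52_1 (flp_h L133640) (flp_j L132766) L192726
theorem L192753 : sm gh N15583 = N22682 := rfl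
theorem L192759 : sm gj N22682 = N15676 := ded_52_1 (flp_h L133665) (flp_j L132777) L192753
theorem L192762 : sm gi N15584 = N22683 := rfl
theorem L192770 : sm gj N22683 = N15677 := ded_53_1 (flp_i L133672) (flp_j L132787) L192762
theorem L192773 : sm gj N15585 = N22684 := rfl
theorem L192781 : sm gg N22684 = N15678 := ded_49_1 (flp_j L133682) (flp_g L92221) (flp_j L91633) L132790 L192773
theorem L192783 : sm gg N15586 = N22685 := rfl
theorem L192851 : sm gh N15591 = N22692 := rfl
theorem L192858 : sm gj N22692 = N15686 := ded_52_1 (flp_h L133752) (flp_j L132855) L192851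
theorem L192860 : sm ge N15592 = N22693 := rfl
theorem L192866 : sm gj N22693 = N15687 := ded_42_2 (flp_e L133760) (flp_j L132866) L192860
theorem L192879 : sm gh N15592 = N22695 := rfl
theorem L192887 : sm gj N22695 = N15689 := ded_52_1 (flp_h L133778) (flp_j L132866) L192879
theorem L192889 : sm gd N22695 = N15612 := ded_38_1 (flp_h L133055) L91799 (flp_h L91696) (flp_d L132864) L192879
theorem L192915 : sm ge N15595 = N22698 := rfl
theorem L192920 : sm gj N22698 = N15692 := ded_42_2 (flp_e L133810) (flp_j L132895) L192915
theorem L192923 : sm gg N15595 = N22699 := rfl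
theorem L192930 : sm gh N15595 = N22700 := rfl
theorem L192937 : sm gj N22700 = N15694 := ded_52_1 (flp_h L133824) (flp_j L132895) L192930
theorem L192939 : sm gd N15596 = N22701 := rfl
theorem L192945 : sm gc N22701 = N15618 := ded_27_1 (flp_d L133118) L91838 (flp_d L91722) (flp_c L132901) L192939
theorem L192956 : sm gg N15597 = N22703 := rfl
theorem L192958 : sm gb N22703 = N15602 := ded_23_1 (flp_g L132951) (flp_b L132908) L192956
theorem L192960 : sm ge N22703 = N15598 := ded_41_1 (flp_g L132913) L132906 L192956
theorem L192963 : sm gh N15597 = N22704 := rfl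
theorem L192969 : sm gj N22704 = N15698 := ded_52_1 (flp_h L133853) (flp_j L132910) L192963
theorem L192981 : sm gh N15598 = N22706 := rfl
theorem L192986 : sm gg N22706 = N15599 := ded_50_1 (flp_h L132921) L132913 L192981
theorem L192990 : sm gi N15599 = N22707 := rfl
theorem L192998 : sm gj N22707 = N15701 := ded_53_1 (flp_i L133878) (flp_j L132927) L192990
theorem L193001 : sm gf N15602 = N22708 := rfl
theorem L193045 : sm gh N15604 = N22713 := rfl
theorem L193047 : sm ga N22713 = N17362 := ded_17_1 (flp_h L147832) (flp_a L132970) L193045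
theorem L193068 : sm gf N15607 = N22715 := rfl
theorem L193070 : sm ga N22715 = N15989 := ded_14_1 (flp_f L136383) (flp_a L133009) L193068
theorem L193072 : sm gb N22715 = N15608 := ded_22_1 (flp_f L133013) L133001 L193068
theorem L193074 : sm gc N22715 = N17364 := ded_29_1 (flp_f L147851) (flp_c L133011) L193068
theorem L193078 : sm gi N22715 = N15632 := ded_48_2 (flp_f L133256) (flp_i L133007) L193068
theorem L193092 : sm ge N15608 = N22717 := rfl
theorem L193094 : sm ga N22717 = N15615 := ded_13_1 (flp_e L133088) (flp_a L133015) L193092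
theorem L193096 : sm gc N22717 = N15610 := ded_28_1 (flp_e L133033) (flp_c L133017) L193092
theorem L193098 : sm gj N22717 = N15711 := ded_42_2 (flp_e L133970) (flp_j L133019) L193092
theorem L193100 : sm gi N22717 = N15634 := ded_44_2 (flp_e L133278) (flp_i L133021) L193092
theorem L193103 : sm gg N15608 = N22718 := rfl
theorem L193105 : sm ga N22718 = N15616 := ded_15_1 (flp_g L133099) (flp_a L133015) L193103
theorem L193109 : sm gi N22718 = N15635 := ded_51_2 (flp_g L133287) (flp_i L133021) L193103
theorem L193112 : sm gh N15608 = N22719 := rfl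
theorem L193114 : sm ga N22719 = N15617 := ded_17_1 (flp_h L133108) (flp_a L133015) L193112
theorem L193116 : sm gc N22719 = N15612 := ded_32_1 (flp_h L133055) (flp_c L133017) L193112
theorem L193118 : sm gf N22719 = N15609 := ded_47_1 (flp_h L133023) L133013 L193112
theorem L193120 : sm gj N22719 = N15713 := ded_52_1 (flp_h L133989) (flp_j L133019) L193112
theorem L193122 : sm gd N15609 = N22720 := rfl
theorem L193127 : sm gj N22720 = N15714 := ded_37_2 (flp_d L133997) (flp_j L133031) L193122
theorem L193141 : sm gg N15610 = N22722 := rfl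
theorem L193145 : sm gb N22722 = N17371 := ded_23_1 (flp_g L147923) (flp_b L133037) L193141
theorem L193149 : sm gi N22722 = N15639 := ded_51_2 (flp_g L133322) (flp_i L133041) L193141
theorem L193151 : sm gh N15610 = N22723 := rfl
theorem L193153 : sm ga N22723 = N15621 := ded_17_1 (flp_h L133145) (flp_a L133035) L193151
theorem L193155 : sm gb N22723 = N17372 := ded_25_1 (flp_h L147931) (flp_b L133037) L193151
theorem L193184 : sm gi N15612 = N22726 := rfl
theorem L193186 : sm ga N22726 = N15624 := ded_18_1 (flp_i L133172) (flp_a L133057) L193184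
theorem L193194 : sm gh N22726 = N15643 := ded_54_1 (flp_i L133362) (flp_h L91990) (flp_i L91803) L133055 L193184
theorem L193196 : sm gd N15615 = N22727 := rfl
theorem L193198 : sm gb N22727 = N16001 := ded_20_1 (flp_d L136511) (flp_b L133090) L193196
theorem L193201 : sm gj N22727 = N15721 := ded_37_2 (flp_d L134065) (flp_j L133094) L193196
theorem L193203 : sm gi N22727 = N15644 := ded_39_2 (flp_d L133373) (flp_i L133096) L193196
theorem L193205 : sm gg N15615 = N22728 := rfl
theorem L193211 : sm ge N22728 = N15616 := ded_41_1 (flp_g L133099) L133088 L193205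
theorem L193215 : sm gh N15615 = N22729 := rfl
theorem L193217 : sm gb N22729 = N16003 := ded_25_1 (flp_h L136527) (flp_b L133090) L193215
theorem L193226 : sm gj N15616 = N22730 := rfl
theorem L193228 : sm gb N22730 = N16004 := ded_24_1 (flp_j L136536) (flp_b L133101) L193226
theorem L193230 : sm gc N22730 = N15622 := ded_31_1 (flp_j L133154) (flp_c L133103) L193226
theorem L193237 : sm gh N15616 = N22731 := rfl
theorem L193246 : sm gd N15617 = N22732 := rfl
theorem L193250 : sm gf N22732 = N15618 := ded_35_2 (flp_d L133118) (flp_f L133114) L193246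
theorem L193274 : sm gi N15618 = N22735 := rfl
theorem L193291 : sm gj N15620 = N22737 := rfl
theorem L193299 : sm gg N22737 = N15731 := ded_49_1 (flp_j L134151) (flp_g L92535) (flp_j L91848) L133137 L193291
theorem L193301 : sm gh N15620 = N22738 := rfl
theorem L193307 : sm gg N22738 = N15621 := ded_50_1 (flp_h L133145) L133137 L193301
theorem L193309 : sm gd N15621 = N22739 := rfl
theorem L193314 : sm gj N22739 = N15733 := ded_37_2 (flp_d L134167) (flp_j L133152) L193309
theorem L193316 : sm gi N15621 = N22740 := rfl
theorem L193323 : sm gj N22740 = N15734 := ded_53_1 (flp_i L134172) (flp_j L133152) L193316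
theorem L193345 : sm gj N15625 = N22743 := rfl
theorem L193354 : sm gi N22743 = N15660 := ded_53_2 (flp_j L133512) (flp_i L133188) L193345
theorem L193366 : sm gh N15626 = N22745 := rfl
theorem L193427 : sm ge N15632 = N22751 := rfl
theorem L193431 : sm gb N22751 = N15634 := ded_21_1 (flp_e L133278) (flp_b L133260) L193427
theorem L193438 : sm gg N15632 = N22752 := rfl
theorem L193442 : sm gb N22752 = N15635 := ded_23_1 (flp_g L133287) (flp_b L133260) L193438
theorem L193444 : sm gc N22752 = N17401 := ded_30_1 (flp_g L148196) (flp_c L133262) L193438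
theorem L193447 : sm gh N15632 = N22753 := rfl
theorem L193449 : sm ga N22753 = N16027 := ded_17_1 (flp_h L136745) (flp_a L133258) L193447
theorem L193457 : sm gj N22753 = N15747 := ded_52_1 (flp_h L134295) (flp_j L133264) L193447
theorem L193480 : sm gd N15634 = N22756 := rfl
theorem L193482 : sm ga N22756 = N15644 := ded_12_1 (flp_d L133373) (flp_a L133280) L193480
theorem L193485 : sm gj N22756 = N15750 := ded_37_2 (flp_d L134324) (flp_j L133284) L193480
theorem L193487 : sm gg N15634 = N22757 := rfl
theorem L193495 : sm gh N15634 = N22758 := rfl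
theorem L193497 : sm ga N22758 = N15646 := ded_17_1 (flp_h L133388) (flp_a L133280) L193495
theorem L193501 : sm ge N22758 = N15636 := ded_43_1 (flp_h L133294) L133278 L193495
theorem L193504 : sm gj N22758 = N15752 := ded_52_1 (flp_h L134337) (flp_j L133284) L193495
theorem L193506 : sm gj N15635 = N22759 := rfl
theorem L193515 : sm gh N15635 = N22760 := rfl
theorem L193517 : sm ga N22760 = N15648 := ded_17_1 (flp_h L133408) (flp_a L133289) L193515
theorem L193522 : sm gg N22760 = N15636 := ded_50_1 (flp_h L133294) L133287 L193515
theorem L193524 : sm gd N15636 = N22761 := rfl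
theorem L193526 : sm ga N22761 = N15649 := ded_12_1 (flp_d L133417) (flp_a L133296) L193524
theorem L193533 : sm gi N15636 = N22762 := rfl
theorem L193535 : sm ga N22762 = N15650 := ded_18_1 (flp_i L133426) (flp_a L133296) L193533
theorem L193539 : sm gf N22762 = N15638 := ded_48_1 (flp_i L133312) (flp_f L133300) L193533
theorem L193543 : sm ge N15637 = N22763 := rfl
theorem L193545 : sm ga N22763 = N15651 := ded_13_1 (flp_e L133436) (flp_a L133306) L193543
theorem L193552 : sm gi N15637 = N22764 := rfl
theorem L193554 : sm ga N22764 = N15652 := ded_18_1 (flp_i L133445) (flp_a L133306) L193552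
theorem L193562 : sm gf N15639 = N22765 := rfl
theorem L193566 : sm gb N22765 = N17414 := ded_22_1 (flp_f L148320) (flp_b L133326) L193562
theorem L193580 : sm gh N15639 = N22767 := rfl
theorem L193586 : sm ge N22767 = N15642 := ded_43_1 (flp_h L133352) (flp_e L133328) L193580
theorem L193590 : sm gd N15640 = N22768 := rfl
theorem L193594 : sm gb N22768 = N17417 := ded_20_1 (flp_d L148342) (flp_b L133334) L193590
theorem L193597 : sm gj N22768 = N15762 := ded_37_2 (flp_d L134423) (flp_j L133339) L193590
theorem L193611 : sm gh N15641 = N22770 := rfl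
theorem L193613 : sm ga N22770 = N15658 := ded_17_1 (flp_h L133494) (flp_a L133343) L193611
theorem L193618 : sm gg N22770 = N15764 := ded_50_1 (flp_h L134440) (flp_g L133350) L193611
theorem L193620 : sm gj N22770 = N15642 := ded_52_1 (flp_h L133352) L133341 L193611
theorem L193623 : sm gi N15642 = N22771 := rfl
theorem L193633 : sm gg N15644 = N22772 := rfl
theorem L193639 : sm gh N15644 = N22773 := rfl
theorem L193641 : sm gb N22773 = N16047 := ded_25_1 (flp_h L136940) (flp_b L133375) L193639
theorem L193644 : sm gj N22773 = N15767 := ded_52_1 (flp_h L134468) (flp_j L133378) L193639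
theorem L193674 : sm gd N15646 = N22777 := rfl
theorem L193679 : sm gj N22777 = N15771 := ded_37_2 (flp_d L134500) (flp_j L133397) L193674
theorem L193703 : sm gd N15648 = N22780 := rfl
theorem L193708 : sm gg N22780 = N15649 := ded_36_2 (flp_d L133417) (flp_g L133415) L193703
theorem L193711 : sm gi N15648 = N22781 := rfl
theorem L193720 : sm ge N15649 = N22782 := rfl
theorem L193722 : sm gb N22782 = N16056 := ded_21_1 (flp_e L137005) (flp_b L133419) L193720
theorem L193725 : sm gj N22782 = N15776 := ded_42_2 (flp_e L134543) (flp_j L133423) L193720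
theorem L193727 : sm gi N15649 = N22783 := rfl
theorem L193734 : sm gf N22783 = N15652 := ded_48_1 (flp_i L133445) (flp_f L133421) L193727
theorem L193738 : sm gf N15651 = N22784 := rfl
theorem L193740 : sm gb N22784 = N16058 := ded_22_1 (flp_f L137021) (flp_b L133438) L193738
theorem L193742 : sm gc N22784 = N22784 := ded_29_1 (flp_f L193738) L133440 L193738
theorem L193743 : sm gd N22784 = N22784 := ded_35_1 (flp_f L193738) L133444 L193738
theorem L193744 : sm gj N22784 = N15778 := ded_46_2 (flp_f L134557) (flp_j L133442) L193738
theorem L193746 : sm gi N15651 = N22785 := rfl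
theorem L193752 : sm ge N22785 = N15652 := ded_44_1 (flp_i L133445) L133436 L193746
theorem L193757 : sm gh N15652 = N22786 := rfl
theorem L193763 : sm gj N22786 = N15780 := ded_52_1 (flp_h L134573) (flp_j L133453) L193757
theorem L193797 : sm gi N15655 = N22791 := rfl
theorem L193803 : sm gg N22791 = N15657 := ded_51_1 (flp_i L133485) (flp_g L133475) L193797
theorem L193805 : sm gc N15656 = N22792 := rfl
theorem L193811 : sm gi N15656 = N22793 := rfl
theorem L193813 : sm gb N22793 = N15666 := ded_26_1 (flp_i L133570) (flp_b L133479) L193811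
theorem L193819 : sm gj N22793 = N15787 := ded_53_1 (flp_i L134624) (flp_j L133482) L193811
theorem L193821 : sm gi N15658 = N22794 := rfl
theorem L193841 : sm gh N15660 = N22796 := rfl
theorem L193848 : sm gf N22796 = N15662 := ded_47_1 (flp_h L133531) (flp_f L133519) L193841
theorem L193852 : sm gd N15661 = N22797 := rfl
theorem L193854 : sm ga N22797 = N17446 := ded_12_1 (flp_d L148598) (flp_a L133523) L193852
theorem L193856 : sm gf N22797 = N15663 := ded_35_2 (flp_d L133543) (flp_f L133528) L193852
theorem L193869 : sm gd N15662 = N22799 := rfl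
theorem L193871 : sm ga N22799 = N17448 := ded_12_1 (flp_d L148611) (flp_a L133533) L193869
theorem L193873 : sm gg N22799 = N15793 := ded_36_2 (flp_d L134680) (flp_g L133539) L193869
theorem L193875 : sm gj N22799 = N15663 := ded_37_2 (flp_d L133543) (flp_j L133541) L193869
theorem L193878 : sm gi N15662 = N22800 := rfl
theorem L193890 : sm gc N15663 = N22801 := rfl
theorem L193899 : sm gi N15663 = N22802 := rfl
theorem L193906 : sm gg N22802 = N15666 := ded_51_1 (flp_i L133570) (flp_g L133547) L193899
theorem L193908 : sm gb N15665 = N22803 := rfl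
theorem L193910 : sm gd N22803 = N16077 := ded_20_2 (flp_b L137192) (flp_d L133568) L193908
theorem L193965 : sm ge N15669 = N22809 := rfl
theorem L193972 : sm gf N22809 = N15687 := ded_40_2 (flp_e L133760) (flp_f L92284) (flp_e L92185) L133602 L193965
theorem L193985 : sm gh N15669 = N22811 := rfl
theorem L194017 : sm ge N15672 = N22814 := rfl
theorem L194023 : sm gf N22814 = N15692 := ded_40_2 (flp_e L133810) (flp_f L92314) (flp_e L92198) L133633 L194017
theorem L194034 : sm gh N15672 = N22816 := rfl
theorem L194041 : sm gd N15673 = N22817 := rfl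
theorem L194044 : sm gg N22817 = N15811 := ded_36_2 (flp_d L134841) (flp_g L133647) L194041
theorem L194082 : sm gh N15675 = N22822 := rfl
theorem L194086 : sm gf N22822 = N15816 := ded_47_1 (flp_h L134881) (flp_f L133663) L194082
theorem L194088 : sm gg N22822 = N15676 := ded_50_1 (flp_h L133665) L133656 L194082
theorem L194091 : sm gi N15676 = N22823 := rfl
theorem L194099 : sm gf N15679 = N22824 := rfl
theorem L194107 : sm gg N22824 = N15702 := ded_45_2 (flp_f L133887) (flp_g L92367) (flp_f L92236) L133691 L194099
theorem L194109 : sm gj N15679 = N22825 := rfl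
theorem L194117 : sm gh N15679 = N22826 := rfl
theorem L194124 : sm gg N22826 = N15680 := ded_50_1 (flp_h L133699) L133691 L194117
theorem L194126 : sm gd N15680 = N22827 := rfl
theorem L194128 : sm ga N22827 = N17492 := ded_12_1 (flp_d L148968) (flp_a L133701) L194126
theorem L194130 : sm gf N22827 = N15705 := ded_35_2 (flp_d L133912) (flp_f L133706) L194126
theorem L194188 : sm gg N15685 = N22834 := rfl
theorem L194195 : sm gf N22834 = N15828 := ded_45_1 (flp_g L134988) (flp_f L93099) (flp_g L92281) L133745 L194188
theorem L194197 : sm gh N15685 = N22835 := rfl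
theorem L194203 : sm gf N22835 = N15686 := ded_47_1 (flp_h L133752) L133745 L194197
theorem L194213 : sm gi N15686 = N22837 := rfl
theorem L194219 : sm gg N22837 = N15831 := ded_51_1 (flp_i L135011) (flp_g L133758) L194213
theorem L194231 : sm gh N15687 = N22839 := rfl
theorem L194250 : sm gh N15688 = N22841 := rfl
theorem L194258 : sm gg N22841 = N15689 := ded_50_1 (flp_h L133778) L133767 L194250
theorem L194262 : sm gi N15689 = N22842 := rfl
theorem L194285 : sm gh N15692 = N22845 := rfl
theorem L194292 : sm gj N15693 = N22846 := rfl
theorem L194295 : sm gc N22846 = N15699 := ded_31_1 (flp_j L133859) (flp_c L133819) L194292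
theorem L194297 : sm gf N22846 = N15840 := ded_46_1 (flp_j L135092) (flp_f L133822) L194292
theorem L194300 : sm gh N15693 = N22847 := rfl
theorem L194305 : sm gf N22847 = N15841 := ded_47_1 (flp_h L135099) (flp_f L133822) L194300
theorem L194307 : sm gg N22847 = N15694 := ded_50_1 (flp_h L133824) L133816 L194300
theorem L194309 : sm gd N15694 = N22848 := rfl
theorem L194316 : sm gi N15694 = N22849 := rfl
theorem L194321 : sm gf N22849 = N15696 := ded_48_1 (flp_i L133838) (flp_f L133829) L194316
theorem L194324 : sm ge N15695 = N22850 := rfl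
theorem L194329 : sm gg N22850 = N15844 := ded_41_2 (flp_e L135123) (flp_g L133834) L194324
theorem L194340 : sm gf N15697 = N22852 := rfl
theorem L194345 : sm ge N22852 = N15846 := ded_40_1 (flp_f L135137) L93203 (flp_f L92339) (flp_e L133850) L194340
theorem L194347 : sm gj N15697 = N22853 := rfl
theorem L194354 : sm gh N15697 = N22854 := rfl
theorem L194360 : sm gg N22854 = N15698 := ded_50_1 (flp_h L133853) L133846 L194354
theorem L194368 : sm gi N15698 = N22856 := rfl
theorem L194375 : sm gh N15699 = N22857 := rfl
theorem L194381 : sm gj N22857 = N15700 := ded_52_1 (flp_h L133868) L133859 L194375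
theorem L194385 : sm gi N15700 = N22858 := rfl
theorem L194389 : sm gd N22858 = N15736 := ded_39_1 (flp_i L134189) (flp_d L133876) L194385
theorem L194393 : sm gg N22858 = N15701 := ded_51_1 (flp_i L133878) (flp_g L133874) L194385
theorem L194406 : sm gh N15702 = N22860 := rfl
theorem L194411 : sm ge N22860 = N15854 := ded_43_1 (flp_h L135203) (flp_e L133893) L194406
theorem L194449 : sm gi N15705 = N22865 := rfl
theorem L194480 : sm gg N15709 = N22868 := rfl
theorem L194482 : sm ga N22868 = N16081 := ded_15_1 (flp_g L137230) (flp_a L133951) L194480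
theorem L194490 : sm gf N22868 = N15862 := ded_45_1 (flp_g L135280) (flp_f L93302) (flp_g L92416) L133949 L194480
theorem L194492 : sm gh N15709 = N22869 := rfl
theorem L194496 : sm gb N22869 = N15713 := ded_25_1 (flp_h L133989) (flp_b L133953) L194492
theorem L194523 : sm gd N15711 = N22872 := rfl
theorem L194525 : sm ga N22872 = N15721 := ded_12_1 (flp_d L134065) (flp_a L133972) L194523
theorem L194530 : sm gg N15711 = N22873 := rfl
theorem L194536 : sm ge N22873 = N15712 := ded_41_1 (flp_g L133979) L133970 L194530
theorem L194538 : sm gi N22873 = N15751 := ded_51_2 (flp_g L134329) (flp_i L133976) L194530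
theorem L194549 : sm gj N15712 = N22875 := rfl
theorem L194551 : sm ga N22875 = N15724 := ded_16_1 (flp_j L134091) (flp_a L133981) L194549
theorem L194553 : sm gc N22875 = N15718 := ded_31_1 (flp_j L134033) (flp_c L133983) L194549
theorem L194555 : sm gf N22875 = N15869 := ded_46_1 (flp_j L135349) (flp_f L133987) L194549
theorem L194559 : sm gh N15712 = N22876 := rfl
theorem L194561 : sm ga N22876 = N15725 := ded_17_1 (flp_h L134101) (flp_a L133981) L194559
theorem L194563 : sm gc N22876 = N15719 := ded_32_1 (flp_h L134045) (flp_c L133983) L194559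
theorem L194565 : sm gf N22876 = N15870 := ded_47_1 (flp_h L135358) (flp_f L133987) L194559
theorem L194567 : sm gg N22876 = N15713 := ded_50_1 (flp_h L133989) L133979 L194559
theorem L194569 : sm gd N15713 = N22877 := rfl
theorem L194585 : sm ge N15714 = N22879 := rfl
theorem L194589 : sm gg N22879 = N15873 := ded_41_2 (flp_e L135384) (flp_g L134001) L194585
theorem L194592 : sm gi N15714 = N22880 := rfl
theorem L194596 : sm gd N22880 = N15715 := ded_39_1 (flp_i L134003) L133997 L194592
theorem L194611 : sm gj N15716 = N22882 := rfl
theorem L194659 : sm gi N15719 = N22887 := rfl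
theorem L194663 : sm gb N22887 = N17552 := ded_26_1 (flp_i L149456) (flp_b L134049) L194659
theorem L194669 : sm gh N22887 = N15765 := ded_54_1 (flp_i L134451) (flp_h L92730) (flp_i L92458) L134045 L194659
theorem L194671 : sm gg N15721 = N22888 := rfl
theorem L194673 : sm gb N22888 = N16101 := ded_23_1 (flp_g L137423) (flp_b L134067) L194671
theorem L194675 : sm gd N22888 = N15722 := ded_36_1 (flp_g L134072) L134065 L194671
theorem L194677 : sm gi N22888 = N15766 := ded_51_2 (flp_g L134462) (flp_i L134070) L194671
theorem L194679 : sm gh N15721 = N22889 := rfl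
theorem L194681 : sm gb N22889 = N16102 := ded_25_1 (flp_h L137430) (flp_b L134067) L194679
theorem L194683 : sm gf N22889 = N22889 := ded_47_1 (flp_h L194679) L134069 L194679
theorem L194684 : sm gf N15722 = N22890 := rfl
theorem L194688 : sm gc N22890 = N15730 := ded_29_1 (flp_f L134142) (flp_c L134076) L194684
theorem L194692 : sm ge N22890 = N15884 := ded_40_1 (flp_f L135485) L93431 (flp_f L92508) (flp_e L134078) L194684
theorem L194695 : sm gj N15722 = N22891 := rfl
theorem L194697 : sm gb N22891 = N16104 := ded_24_1 (flp_j L137443) (flp_b L134074) L194695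
theorem L194699 : sm gc N22891 = N15731 := ded_31_1 (flp_j L134151) (flp_c L134076) L194695
theorem L194715 : sm gd N15723 = N22893 := rfl
theorem L194717 : sm gb N22893 = N16106 := ded_20_1 (flp_d L137459) (flp_b L134084) L194715
theorem L194773 : sm gf N15728 = N22900 := rfl
theorem L194775 : sm gb N22900 = N16113 := ded_22_1 (flp_f L137506) (flp_b L134129) L194773
theorem L194795 : sm gj N15730 = N22903 := rfl
theorem L194803 : sm gi N22903 = N15781 := ded_53_2 (flp_j L134580) (flp_i L134146) L194795
theorem L194805 : sm gh N15730 = N22904 := rfl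
theorem L194814 : sm gh N15731 = N22905 := rfl
theorem L194820 : sm gj N22905 = N15732 := ded_52_1 (flp_h L134159) L134151 L194814
theorem L194822 : sm gd N15732 = N22906 := rfl
theorem L194826 : sm gg N22906 = N15733 := ded_36_2 (flp_d L134167) (flp_g L134165) L194822
theorem L194828 : sm gi N15732 = N22907 := rfl
theorem L194834 : sm gg N22907 = N15734 := ded_51_1 (flp_i L134172) (flp_g L134165) L194828
theorem L194836 : sm gh N22907 = N15785 := ded_54_1 (flp_i L134612) (flp_h L92835) (flp_i L92541) L134159 L194828
theorem L194841 : sm gi N15733 = N22909 := rfl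
theorem L194848 : sm gi N15735 = N22910 := rfl
theorem L194850 : sm gb N22910 = N15744 := ded_26_1 (flp_i L134264) (flp_b L134183) L194848
theorem L194856 : sm gh N22910 = N15788 := ded_54_1 (flp_i L134632) (flp_h L92856) (flp_i L92558) L134181 L194848
theorem L194956 : sm gd N15745 = N22922 := rfl
theorem L194958 : sm ga N22922 = N16135 := ded_12_1 (flp_d L137691) (flp_a L134278) L194956
theorem L194960 : sm gb N22922 = N15750 := ded_20_1 (flp_d L134324) (flp_b L134280) L194956
theorem L194963 : sm gg N15745 = N22923 := rfl
theorem L194965 : sm ga N22923 = N16136 := ded_15_1 (flp_g L137696) (flp_a L134278) L194963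
theorem L194967 : sm gb N22923 = N15751 := ded_23_1 (flp_g L134329) (flp_b L134280) L194963
theorem L194973 : sm gh N15745 = N22924 := rfl
theorem L194977 : sm gb N22924 = N15752 := ded_25_1 (flp_h L134337) (flp_b L134280) L194973
theorem L194984 : sm gj N15746 = N22925 := rfl
theorem L194994 : sm gh N15746 = N22926 := rfl
theorem L194996 : sm ga N22926 = N16139 := ded_17_1 (flp_h L137721) (flp_a L134287) L194994
theorem L194998 : sm gb N22926 = N15754 := ded_25_1 (flp_h L134354) (flp_b L134289) L194994
theorem L195006 : sm gd N15747 = N22927 := rfl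
theorem L195008 : sm ga N22927 = N16140 := ded_12_1 (flp_d L137731) (flp_a L134297) L195006
theorem L195052 : sm gg N15750 = N22932 := rfl
theorem L195056 : sm gd N22932 = N15751 := ded_36_1 (flp_g L134329) L134324 L195052
theorem L195058 : sm gh N15750 = N22933 := rfl
theorem L195060 : sm ga N22933 = N15767 := ded_17_1 (flp_h L134468) (flp_a L134326) L195058
theorem L195062 : sm gf N22933 = N22933 := ded_47_1 (flp_h L195058) L134328 L195058
theorem L195072 : sm gj N15751 = N22935 := rfl
theorem L195074 : sm ga N22935 = N15769 := ded_16_1 (flp_j L134482) (flp_a L134331) L195072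
theorem L195078 : sm ge N22935 = N15753 := ded_42_1 (flp_j L134346) (flp_e L134335) L195072
theorem L195080 : sm gh N15751 = N22936 := rfl
theorem L195084 : sm gc N22936 = N15761 := ded_32_1 (flp_h L134413) (flp_c L134333) L195080
theorem L195086 : sm ge N22936 = N15754 := ded_43_1 (flp_h L134354) (flp_e L134335) L195080
theorem L195088 : sm gg N22936 = N15752 := ded_50_1 (flp_h L134337) L134329 L195080
theorem L195090 : sm gd N15752 = N22937 := rfl
theorem L195092 : sm ga N22937 = N15771 := ded_12_1 (flp_d L134500) (flp_a L134339) L195090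
theorem L195095 : sm gi N15752 = N22938 := rfl
theorem L195104 : sm gh N15753 = N22939 := rfl
theorem L195106 : sm ga N22939 = N15773 := ded_17_1 (flp_h L134514) (flp_a L134348) L195104
theorem L195110 : sm gf N22939 = N15933 := ded_47_1 (flp_h L135911) (flp_f L134352) L195104
theorem L195112 : sm gj N22939 = N15754 := ded_52_1 (flp_h L134354) L134346 L195104
theorem L195114 : sm gd N15754 = N22940 := rfl
theorem L195116 : sm ga N22940 = N15774 := ded_12_1 (flp_d L134524) (flp_a L134356) L195114
theorem L195118 : sm gf N22940 = N15934 := ded_35_2 (flp_d L135920) (flp_f L134360) L195114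
theorem L195120 : sm gg N22940 = N15755 := ded_36_2 (flp_d L134364) (flp_g L134362) L195114
theorem L195123 : sm gi N15754 = N22941 := rfl
theorem L195127 : sm gc N22941 = N15765 := ded_33_1 (flp_i L134451) (flp_c L134358) L195123
theorem L195133 : sm ge N15755 = N22942 := rfl
theorem L195135 : sm ga N22942 = N15776 := ded_13_1 (flp_e L134543) (flp_a L134366) L195133
theorem L195138 : sm gi N15755 = N22943 := rfl
theorem L195140 : sm ga N22943 = N15777 := ded_18_1 (flp_i L134548) (flp_a L134366) L195138
theorem L195145 : sm gf N22943 = N15758 := ded_48_1 (flp_i L134387) (flp_f L134368) L195138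
theorem L195147 : sm gf N15757 = N22944 := rfl
theorem L195149 : sm ga N22944 = N15778 := ded_14_1 (flp_f L134557) (flp_a L134381) L195147
theorem L195153 : sm gi N15757 = N22945 := rfl
theorem L195155 : sm ga N22945 = N15779 := ded_18_1 (flp_i L134563) (flp_a L134381) L195153
theorem L195161 : sm gg N22945 = N15939 := ded_51_1 (flp_i L135958) (flp_g L134384) L195153
theorem L195163 : sm gh N15758 = N22946 := rfl
theorem L195180 : sm gh N15759 = N22948 := rfl
theorem L195184 : sm gb N22948 = N17613 := ded_25_1 (flp_h L149958) (flp_b L134400) L195180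
theorem L195191 : sm gh N15760 = N22949 := rfl
theorem L195195 : sm gb N22949 = N17614 := ded_25_1 (flp_h L149967) (flp_b L134409) L195191
theorem L195199 : sm gj N22949 = N15761 := ded_52_1 (flp_h L134413) L134405 L195191
theorem L195201 : sm gd N15761 = N22950 := rfl
theorem L195207 : sm gg N22950 = N15762 := ded_36_2 (flp_d L134423) (flp_g L134421) L195201
theorem L195210 : sm gi N15761 = N22951 := rfl
theorem L195212 : sm ga N22951 = N15785 := ded_18_1 (flp_i L134612) (flp_a L134415) L195210
theorem L195216 : sm ge N22951 = N15765 := ded_44_1 (flp_i L134451) (flp_e L134419) L195210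
theorem L195220 : sm gc N15762 = N22952 := rfl
theorem L195222 : sm ga N22952 = N15786 := ded_11_1 (flp_c L134620) (flp_a L134425) L195220
theorem L195226 : sm gi N15762 = N22953 := rfl
theorem L195236 : sm gi N15764 = N22954 := rfl
theorem L195245 : sm gj N22954 = N15765 := ded_53_1 (flp_i L134451) (flp_j L134448) L195236
theorem L195247 : sm gf N15766 = N22955 := rfl
theorem L195249 : sm gb N22955 = N16168 := ded_22_1 (flp_f L137978) (flp_b L134464) L195247
theorem L195251 : sm gd N22955 = N15768 := ded_35_1 (flp_f L134473) (flp_d L134466) L195247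
theorem L195260 : sm gh N15766 = N22957 := rfl
theorem L195262 : sm gb N22957 = N16170 := ded_25_1 (flp_h L137989) (flp_b L134464) L195260
theorem L195264 : sm gg N22957 = N15767 := ded_50_1 (flp_h L134468) L134462 L195260
theorem L195266 : sm gd N15767 = N22958 := rfl
theorem L195268 : sm gb N22958 = N16171 := ded_20_1 (flp_d L137994) (flp_b L134470) L195266
theorem L195271 : sm gh N22958 = N15771 := ded_38_2 (flp_d L134500) (flp_h L92763) L92750 L134468 L195266
theorem L195273 : sm gi N15767 = N22959 := rfl
theorem L195275 : sm gb N22959 = N16172 := ded_26_1 (flp_i L137999) (flp_b L134470) L195273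
theorem L195277 : sm gf N22959 = N22959 := ded_48_1 (flp_i L195273) L134472 L195273
theorem L195288 : sm gh N15768 = N22961 := rfl
theorem L195292 : sm gc N22961 = N15782 := ded_32_1 (flp_h L134588) (flp_c L134477) L195288
theorem L195309 : sm gd N15770 = N22963 := rfl
theorem L195311 : sm gb N22963 = N16176 := ded_20_1 (flp_d L138028) (flp_b L134492) L195309
theorem L195325 : sm gc N15771 = N22965 := rfl
theorem L195328 : sm gd N22965 = N15786 := ded_27_2 (flp_c L134620) (flp_d L92843) (flp_c L92767) L134500 L195325
theorem L195330 : sm ge N15771 = N22966 := rfl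
theorem L195332 : sm gb N22966 = N16179 := ded_21_1 (flp_e L138045) (flp_b L134502) L195330
theorem L195334 : sm gd N22966 = N15776 := ded_34_1 (flp_e L134543) (flp_d L92790) (flp_e L92769) L134500 L195330
theorem L195343 : sm gd N15773 = N22968 := rfl
theorem L195345 : sm gb N22968 = N16181 := ded_20_1 (flp_d L138054) (flp_b L134516) L195343
theorem L195347 : sm gf N22968 = N15962 := ded_35_2 (flp_d L136155) (flp_f L134520) L195343
theorem L195362 : sm ge N15774 = N22970 := rfl
theorem L195364 : sm gb N22970 = N16183 := ded_21_1 (flp_e L138070) (flp_b L134526) L195362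
theorem L195367 : sm gg N22970 = N15776 := ded_41_2 (flp_e L134543) (flp_g L134530) L195362
theorem L195380 : sm gf N15776 = N22972 := rfl
theorem L195382 : sm gb N22972 = N16185 := ded_22_1 (flp_f L138086) (flp_b L134545) L195380
theorem L195384 : sm gc N22972 = N22972 := ded_29_1 (flp_f L195380) L134547 L195380
theorem L195385 : sm ge N22972 = N15778 := ded_40_1 (flp_f L134557) (flp_e L92805) (flp_f L92794) L134543 L195380
theorem L195401 : sm gg N15778 = N22975 := rfl
theorem L195403 : sm gb N22975 = N16188 := ded_23_1 (flp_g L138104) (flp_b L134559) L195401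
theorem L195405 : sm gc N22975 = N22975 := ded_30_1 (flp_g L195401) L134561 L195401
theorem L195406 : sm gd N22975 = N22975 := ded_36_1 (flp_g L195401) L134562 L195401
theorem L195407 : sm gf N22975 = N15969 := ded_45_1 (flp_g L136212) (flp_f L93910) (flp_g L92810) L134557 L195401
theorem L195409 : sm gi N15778 = N22976 := rfl
theorem L195415 : sm gf N22976 = N15779 := ded_48_1 (flp_i L134563) L134557 L195409
theorem L195417 : sm gh N15779 = N22977 := rfl
theorem L195426 : sm gg N15781 = N22978 := rfl
theorem L195433 : sm gh N15781 = N22979 := rfl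
theorem L195439 : sm gf N22979 = N15783 := ded_47_1 (flp_h L134597) (flp_f L134586) L195433
theorem L195441 : sm gj N22979 = N15782 := ded_52_1 (flp_h L134588) L134580 L195433
theorem L195450 : sm gi N15782 = N22981 := rfl
theorem L195466 : sm gi N15783 = N22983 := rfl
theorem L195470 : sm ge N22983 = N15788 := ded_44_1 (flp_i L134632) (flp_e L134601) L195466
theorem L195479 : sm gi N15784 = N22985 := rfl
theorem L195481 : sm gb N22985 = N15796 := ded_26_1 (flp_i L134706) (flp_b L134607) L195479
theorem L195486 : sm gg N22985 = N15787 := ded_51_1 (flp_i L134624) (flp_g L134609) L195479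
theorem L195488 : sm gb N15786 = N22986 := rfl
theorem L195492 : sm gc N22986 = N15797 := ded_19_2 (flp_b L134715) (flp_c L92922) (flp_b L92845) L134620 L195488
theorem L195494 : sm gi N15786 = N22987 := rfl
theorem L195496 : sm gc N22987 = N15787 := ded_33_1 (flp_i L134624) L134620 L195494
theorem L195500 : sm gh N15787 = N22988 := rfl
theorem L195502 : sm gb N22988 = N15799 := ded_25_1 (flp_h L134731) (flp_b L134626) L195500
theorem L195546 : sm ge N15791 = N22993 := rfl
theorem L195551 : sm gd N22993 = N15985 := ded_34_1 (flp_e L136345) (flp_d L94014) (flp_e L92890) L134662 L195546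
theorem L195554 : sm gi N15791 = N22994 := rfl
theorem L195556 : sm ga N22994 = N17659 := ded_18_1 (flp_i L150319) (flp_a L134664) L195554
theorem L195560 : sm gf N22994 = N15796 := ded_48_1 (flp_i L134706) (flp_f L134666) L195554
theorem L195563 : sm gc N15793 = N22995 := rfl
theorem L195568 : sm gj N22995 = N15795 := ded_31_2 (flp_c L134697) (flp_j L134684) L195563
theorem L195572 : sm gi N15793 = N22996 := rfl
theorem L195579 : sm gj N22996 = N15796 := ded_53_1 (flp_i L134706) (flp_j L134684) L195572
theorem L195588 : sm gi N15795 = N22998 := rfl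
theorem L195599 : sm gh N15796 = N22999 := rfl
theorem L195614 : sm gi N15797 = N23001 := rfl
theorem L195630 : sm gf N15800 = N23003 := rfl
theorem L195635 : sm gc N23003 = N17693 := ded_29_1 (flp_f L150589) (flp_c L134745) L195630
theorem L195704 : sm gh N15803 = N23011 := rfl
theorem L195708 : sm gb N23011 = N17701 := ded_25_1 (flp_h L150654) (flp_b L134769) L195704
theorem L195710 : sm ge N23011 = N15805 := ded_43_1 (flp_h L134785) L134765 L195704
theorem L195734 : sm gi N15805 = N23014 := rfl
theorem L195762 : sm gh N15808 = N23017 := rfl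
theorem L195767 : sm ge N23017 = N15810 := ded_43_1 (flp_h L134833) L134817 L195762
theorem L195769 : sm gf N23017 = N15839 := ded_47_1 (flp_h L135084) (flp_f L134824) L195762
theorem L195795 : sm gi N15810 = N23021 := rfl
theorem L195804 : sm ge N15811 = N23022 := rfl
theorem L195810 : sm gd N23022 = N15844 := ded_34_1 (flp_e L135123) (flp_d L93185) (flp_e L93001) L134841 L195804
theorem L195871 : sm gi N15816 = N23030 := rfl
theorem L195907 : sm gd N15820 = N23034 := rfl
theorem L195909 : sm ga N23034 = N17724 := ded_12_1 (flp_d L150839) (flp_a L134918) L195907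
theorem L195915 : sm gi N15820 = N23035 := rfl
theorem L195920 : sm ge N23035 = N15824 := ded_44_1 (flp_i L134954) (flp_e L134921) L195915
theorem L195925 : sm gc N15821 = N23036 := rfl
theorem L195927 : sm ga N23036 = N17726 := ded_11_1 (flp_c L150853) (flp_a L134927) L195925
theorem L195930 : sm gf N23036 = N15858 := ded_29_2 (flp_c L135239) (flp_f L134929) L195925
theorem L195935 : sm gi N15821 = N23037 := rfl
theorem L195937 : sm ga N23037 = N17727 := ded_18_1 (flp_i L150861) (flp_a L134927) L195935
theorem L195939 : sm gd N23037 = N15822 := ded_39_1 (flp_i L134934) L134925 L195935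
theorem L195955 : sm ge N15825 = N23039 := rfl
theorem L195982 : sm gd N15826 = N23042 := rfl
theorem L196022 : sm gj N15828 = N23047 := rfl
theorem L196030 : sm gh N15828 = N23048 := rfl
theorem L196032 : sm ga N23048 = N15841 := ded_17_1 (flp_h L135099) (flp_a L134990) L196030
theorem L196036 : sm gg N23048 = N15829 := ded_50_1 (flp_h L134995) L134988 L196030
theorem L196057 : sm ge N15830 = N23051 := rfl
theorem L196059 : sm ga N23051 = N15844 := ded_13_1 (flp_e L135123) (flp_a L135006) L196057
theorem L196061 : sm gc N23051 = N15873 := ded_28_1 (flp_e L135384) (flp_c L135009) L196057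
theorem L196092 : sm gh N15832 = N23055 := rfl
theorem L196096 : sm gb N23055 = N17745 := ded_25_1 (flp_h L151008) (flp_b L135023) L196092
theorem L196100 : sm gg N23055 = N15833 := ded_50_1 (flp_h L135029) L135019 L196092
theorem L196162 : sm gj N15838 = N23063 := rfl
theorem L196167 : sm ge N23063 = N15840 := ded_42_1 (flp_j L135092) (flp_e L135081) L196162
theorem L196184 : sm gi N15839 = N23066 := rfl
theorem L196193 : sm gh N15840 = N23067 := rfl
theorem L196199 : sm gj N23067 = N15841 := ded_52_1 (flp_h L135099) L135092 L196193
theorem L196201 : sm gd N15841 = N23068 := rfl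
theorem L196206 : sm gc N23068 = N15890 := ded_27_1 (flp_d L135542) L93458 (flp_d L93227) (flp_c L135102) L196201
theorem L196208 : sm gi N15841 = N23069 := rfl
theorem L196222 : sm gi N15842 = N23071 := rfl
theorem L196225 : sm gc N23071 = N15893 := ded_33_1 (flp_i L135563) (flp_c L135112) L196222
theorem L196229 : sm gf N23071 = N15845 := ded_48_1 (flp_i L135129) (flp_f L135109) L196222
theorem L196232 : sm gf N15844 = N23072 := rfl
theorem L196235 : sm gc N23072 = N15894 := ded_29_1 (flp_f L135572) (flp_c L135126) L196232
theorem L196238 : sm gi N15844 = N23073 := rfl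
theorem L196243 : sm ge N23073 = N15845 := ded_44_1 (flp_i L135129) L135123 L196238
theorem L196246 : sm gh N15845 = N23074 := rfl
theorem L196253 : sm gj N15846 = N23075 := rfl
theorem L196261 : sm gh N15846 = N23076 := rfl
theorem L196263 : sm gb N23076 = N15854 := ded_25_1 (flp_h L135203) (flp_b L135139) L196261
theorem L196267 : sm gh N15847 = N23077 := rfl
theorem L196274 : sm gj N23077 = N15848 := ded_52_1 (flp_h L135152) L135143 L196267
theorem L196285 : sm gi N15848 = N23079 := rfl
theorem L196287 : sm gb N23079 = N15857 := ded_26_1 (flp_i L135229) (flp_b L135154) L196285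
theorem L196294 : sm gc N15849 = N23080 := rfl
theorem L196296 : sm ge N23080 = N15902 := ded_28_2 (flp_c L135635) (flp_e L135165) L196294
theorem L196300 : sm gi N15849 = N23081 := rfl
theorem L196306 : sm ge N23081 = N15903 := ded_44_1 (flp_i L135640) (flp_e L135165) L196300
theorem L196343 : sm gi N15854 = N23086 := rfl
theorem L196351 : sm gd N15855 = N23087 := rfl
theorem L196353 : sm ga N23087 = N17777 := ded_12_1 (flp_d L151255) (flp_a L135212) L196351
theorem L196356 : sm gj N23087 = N15856 := ded_37_2 (flp_d L135220) (flp_j L135218) L196351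
theorem L196358 : sm ge N23087 = N15909 := ded_34_2 (flp_d L135697) L93577 (flp_d L93290) (flp_e L135215) L196351
theorem L196361 : sm gi N15855 = N23088 := rfl
theorem L196366 : sm ge N23088 = N15860 := ded_44_1 (flp_i L135257) (flp_e L135215) L196361
theorem L196372 : sm gc N15856 = N23089 := rfl
theorem L196374 : sm ga N23089 = N17779 := ded_11_1 (flp_c L151272) (flp_a L135222) L196372
theorem L196378 : sm gg N23089 = N15858 := ded_30_2 (flp_c L135239) (flp_g L135224) L196372
theorem L196382 : sm gi N15856 = N23090 := rfl
theorem L196386 : sm gd N23090 = N15857 := ded_39_1 (flp_i L135229) L135220 L196382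
theorem L196392 : sm gb N15858 = N23091 := rfl
theorem L196395 : sm ge N23091 = N15913 := ded_21_2 (flp_b L135735) (flp_e L135243) L196392
theorem L196399 : sm gi N15858 = N23092 := rfl
theorem L196406 : sm ge N23092 = N15914 := ded_44_1 (flp_i L135742) (flp_e L135243) L196399
theorem L196418 : sm gd N15861 = N23094 := rfl
theorem L196420 : sm ga N23094 = N16215 := ded_12_1 (flp_d L138337) (flp_a L135270) L196418
theorem L196426 : sm gi N23094 = N15916 := ded_39_2 (flp_d L135761) (flp_i L135277) L196418
theorem L196428 : sm gg N15861 = N23095 := rfl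
theorem L196436 : sm ge N23095 = N15862 := ded_41_1 (flp_g L135280) L135268 L196428
theorem L196438 : sm gi N23095 = N15917 := ded_51_2 (flp_g L135769) (flp_i L135277) L196428
theorem L196440 : sm gh N15861 = N23096 := rfl
theorem L196444 : sm gb N23096 = N15868 := ded_25_1 (flp_h L135339) (flp_b L135272) L196440
theorem L196519 : sm gg N15866 = N23104 := rfl
theorem L196521 : sm ga N23104 = N15882 := ded_15_1 (flp_g L135469) (flp_a L135322) L196519
theorem L196524 : sm gd N23104 = N15867 := ded_36_1 (flp_g L135329) L135320 L196519
theorem L196526 : sm gi N23104 = N15926 := ded_51_2 (flp_g L135855) (flp_i L135326) L196519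
theorem L196528 : sm gh N15866 = N23105 := rfl
theorem L196530 : sm ga N23105 = N15883 := ded_17_1 (flp_h L135478) (flp_a L135322) L196528
theorem L196535 : sm gf N15867 = N23106 := rfl
theorem L196537 : sm ga N23106 = N15884 := ded_14_1 (flp_f L135485) (flp_a L135331) L196535
theorem L196539 : sm gc N23106 = N15875 := ded_29_1 (flp_f L135397) (flp_c L135333) L196535
theorem L196541 : sm gi N23106 = N15928 := ded_48_2 (flp_f L135869) (flp_i L135337) L196535
theorem L196544 : sm gj N15867 = N23107 := rfl
theorem L196546 : sm ga N23107 = N15885 := ded_16_1 (flp_j L135494) (flp_a L135331) L196544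
theorem L196548 : sm gc N23107 = N15876 := ded_31_1 (flp_j L135407) (flp_c L135333) L196544
theorem L196552 : sm gi N23107 = N15929 := ded_53_2 (flp_j L135876) (flp_i L135337) L196544
theorem L196555 : sm gh N15867 = N23108 := rfl
theorem L196557 : sm ga N23108 = N15886 := ded_17_1 (flp_h L135505) (flp_a L135331) L196555
theorem L196563 : sm gg N23108 = N15868 := ded_50_1 (flp_h L135339) L135329 L196555
theorem L196565 : sm gd N15868 = N23109 := rfl
theorem L196567 : sm ga N23109 = N15887 := ded_12_1 (flp_d L135515) (flp_a L135341) L196565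
theorem L196571 : sm gi N15868 = N23110 := rfl
theorem L196592 : sm gd N15870 = N23112 := rfl
theorem L196596 : sm gg N23112 = N15871 := ded_36_2 (flp_d L135366) (flp_g L135364) L196592
theorem L196608 : sm ge N15871 = N23114 := rfl
theorem L196613 : sm gi N15871 = N23115 := rfl
theorem L196615 : sm ga N23115 = N15893 := ded_18_1 (flp_i L135563) (flp_a L135368) L196613
theorem L196617 : sm gd N23115 = N15872 := ded_39_1 (flp_i L135373) L135366 L196613
theorem L196622 : sm gf N15873 = N23116 := rfl
theorem L196624 : sm ga N23116 = N15894 := ded_14_1 (flp_f L135572) (flp_a L135386) L196622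
theorem L196628 : sm gi N15873 = N23117 := rfl
theorem L196643 : sm gj N15875 = N23119 := rfl
theorem L196652 : sm gi N23119 = N15941 := ded_53_2 (flp_j L135973) (flp_i L135404) L196643
theorem L196654 : sm gh N15875 = N23120 := rfl
theorem L196656 : sm ga N23120 = N15898 := ded_17_1 (flp_h L135602) (flp_a L135399) L196654
theorem L196663 : sm gh N15876 = N23121 := rfl
theorem L196665 : sm ga N23121 = N15899 := ded_17_1 (flp_h L135609) (flp_a L135409) L196663
theorem L196667 : sm gb N23121 = N17811 := ded_25_1 (flp_h L151550) (flp_b L135411) L196663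
theorem L196669 : sm ge N23121 = N15880 := ded_43_1 (flp_h L135450) (flp_e L135414) L196663
theorem L196672 : sm gj N23121 = N15877 := ded_52_1 (flp_h L135419) L135407 L196663
theorem L196674 : sm gd N15877 = N23122 := rfl
theorem L196676 : sm ga N23122 = N15900 := ded_12_1 (flp_d L135618) (flp_a L135421) L196674
theorem L196695 : sm gc N15878 = N23124 := rfl
theorem L196697 : sm ga N23124 = N15902 := ded_11_1 (flp_c L135635) (flp_a L135431) L196695
theorem L196702 : sm gi N15878 = N23125 := rfl
theorem L196712 : sm gi N15880 = N23126 := rfl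
theorem L196714 : sm ga N23126 = N15904 := ded_18_1 (flp_i L135648) (flp_a L135452) L196712
theorem L196723 : sm gf N15882 = N23127 := rfl
theorem L196725 : sm gb N23127 = N16248 := ded_22_1 (flp_f L138639) (flp_b L135471) L196723
theorem L196727 : sm gc N23127 = N23127 := ded_29_1 (flp_f L196723) L135473 L196723
theorem L196728 : sm gd N23127 = N15884 := ded_35_1 (flp_f L135485) (flp_d L135474) L196723
theorem L196730 : sm gi N23127 = N15949 := ded_48_2 (flp_f L136051) (flp_i L135476) L196723
theorem L196732 : sm gg N23127 = N23127 := ded_45_2 (flp_f L196723) (flp_g L135469) L93420 L135469 L196723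
theorem L196733 : sm gj N15882 = N23128 := rfl
theorem L196735 : sm gb N23128 = N16249 := ded_24_1 (flp_j L138648) (flp_b L135471) L196733
theorem L196737 : sm gc N23128 = N23128 := ded_31_1 (flp_j L196733) L135473 L196733
theorem L196738 : sm gd N23128 = N15885 := ded_37_1 (flp_j L135494) (flp_d L135474) L196733
theorem L196740 : sm gi N23128 = N15950 := ded_53_2 (flp_j L136059) (flp_i L135476) L196733
theorem L196742 : sm gg N23128 = N23128 := ded_49_1 (flp_j L196733) (flp_g L135469) L93421 L135469 L196733
theorem L196743 : sm gh N15882 = N23129 := rfl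
theorem L196745 : sm gb N23129 = N16250 := ded_25_1 (flp_h L138657) (flp_b L135471) L196743
theorem L196747 : sm gc N23129 = N23129 := ded_32_1 (flp_h L196743) L135473 L196743
theorem L196748 : sm gg N23129 = N15883 := ded_50_1 (flp_h L135478) L135469 L196743
theorem L196750 : sm gd N15883 = N23130 := rfl
theorem L196752 : sm gb N23130 = N16251 := ded_20_1 (flp_d L138663) (flp_b L135480) L196750
theorem L196758 : sm gi N15883 = N23131 := rfl
theorem L196760 : sm gb N23131 = N16252 := ded_26_1 (flp_i L138669) (flp_b L135480) L196758
theorem L196762 : sm gc N23131 = N23131 := ded_33_1 (flp_i L196758) L135482 L196758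
theorem L196763 : sm gf N23131 = N23131 := ded_48_1 (flp_i L196758) L135483 L196758
theorem L196764 : sm gj N23131 = N23131 := ded_53_1 (flp_i L196758) L135484 L196758
theorem L196765 : sm gh N23131 = N15953 := ded_54_1 (flp_i L136082) (flp_h L93821) (flp_i L93422) L135478 L196758
theorem L196767 : sm gj N15884 = N23132 := rfl
theorem L196773 : sm gf N23132 = N15885 := ded_46_1 (flp_j L135494) L135485 L196767
theorem L196777 : sm gh N15884 = N23133 := rfl
theorem L196779 : sm gb N23133 = N16254 := ded_25_1 (flp_h L138685) (flp_b L135487) L196777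
theorem L196786 : sm gh N15885 = N23134 := rfl
theorem L196788 : sm gb N23134 = N16255 := ded_25_1 (flp_h L138692) (flp_b L135496) L196786
theorem L196797 : sm gd N15886 = N23135 := rfl
theorem L196799 : sm gb N23135 = N16256 := ded_20_1 (flp_d L138701) (flp_b L135507) L196797
theorem L196801 : sm gg N23135 = N15887 := ded_36_2 (flp_d L135515) (flp_g L135513) L196797
theorem L196803 : sm gi N15886 = N23136 := rfl
theorem L196809 : sm ge N23136 = N15891 := ded_44_1 (flp_i L135548) (flp_e L135511) L196803
theorem L196815 : sm gc N15887 = N23137 := rfl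
theorem L196819 : sm gd N23137 = N15902 := ded_27_2 (flp_c L135635) (flp_d L93519) (flp_c L93439) L135515 L196815
theorem L196821 : sm ge N15887 = N23138 := rfl
theorem L196823 : sm gb N23138 = N16259 := ded_21_1 (flp_e L138721) (flp_b L135517) L196821
theorem L196828 : sm gi N15887 = N23139 := rfl
theorem L196830 : sm gb N23139 = N16260 := ded_26_1 (flp_i L138726) (flp_b L135517) L196828
theorem L196832 : sm gd N23139 = N15888 := ded_39_1 (flp_i L135521) L135515 L196828
theorem L196843 : sm gi N15889 = N23141 := rfl
theorem L196845 : sm gb N23141 = N16262 := ded_26_1 (flp_i L138738) (flp_b L135535) L196843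
theorem L196854 : sm ge N15890 = N23142 := rfl
theorem L196856 : sm gb N23142 = N16263 := ded_21_1 (flp_e L138747) (flp_b L135544) L196854
theorem L196858 : sm gg N23142 = N15892 := ded_41_2 (flp_e L135558) (flp_g L135546) L196854
theorem L196868 : sm gf N15892 = N23144 := rfl
theorem L196870 : sm gb N23144 = N16265 := ded_22_1 (flp_f L138759) (flp_b L135560) L196868
theorem L196873 : sm ge N23144 = N15894 := ded_40_1 (flp_f L135572) (flp_e L93480) (flp_f L93466) L135558 L196868
theorem L196875 : sm gi N15892 = N23145 := rfl
theorem L196877 : sm gb N23145 = N16266 := ded_26_1 (flp_i L138765) (flp_b L135560) L196875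
theorem L196882 : sm gh N15893 = N23146 := rfl
theorem L196891 : sm gg N15894 = N23147 := rfl
theorem L196896 : sm gi N15894 = N23148 := rfl
theorem L196928 : sm gd N15898 = N23152 := rfl
theorem L196930 : sm gb N23152 = N15907 := ded_20_1 (flp_d L135678) (flp_b L135604) L196928
theorem L196932 : sm gf N23152 = N15900 := ded_35_2 (flp_d L135618) (flp_f L135606) L196928
theorem L196953 : sm gi N15899 = N23155 := rfl
theorem L196962 : sm gh N23155 = N15977 := ded_54_1 (flp_i L136274) (flp_h L93946) (flp_i L93508) L135609 L196953
theorem L196969 : sm gi N15900 = N23157 := rfl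
theorem L196977 : sm gb N15902 = N23158 := rfl
theorem L196982 : sm gc N23158 = N15913 := ded_19_2 (flp_b L135735) (flp_c L93601) (flp_b L93521) L135635 L196977
theorem L196984 : sm gi N15902 = N23159 := rfl
theorem L196990 : sm gh N15903 = N23160 := rfl
theorem L196996 : sm gd N23160 = N15981 := ded_38_1 (flp_h L136307) L93982 (flp_h L93534) (flp_d L135644) L196990
theorem L196999 : sm gh N15905 = N23161 := rfl
theorem L197006 : sm gg N23161 = N15906 := ded_50_1 (flp_h L135668) L135657 L196999
theorem L197009 : sm gd N15906 = N23162 := rfl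
theorem L197011 : sm ga N23162 = N17852 := ded_12_1 (flp_d L151893) (flp_a L135670) L197009
theorem L197015 : sm gj N23162 = N15907 := ded_37_2 (flp_d L135678) (flp_j L135676) L197009
theorem L197018 : sm gi N15906 = N23163 := rfl
theorem L197028 : sm gh N23163 = N15984 := ded_54_1 (flp_i L136335) (flp_h L94004) (flp_i L93560) L135668 L197018
theorem L197030 : sm gc N15907 = N23164 := rfl
theorem L197034 : sm gf N23164 = N15911 := ded_29_2 (flp_c L135718) (flp_f L135682) L197030
theorem L197038 : sm gd N23164 = N16284 := ded_27_2 (flp_c L138915) (flp_d L95793) (flp_c L93566) L135678 L197030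
theorem L197040 : sm ge N15907 = N23165 := rfl
theorem L197046 : sm gi N15907 = N23166 := rfl
theorem L197050 : sm gd N23166 = N15908 := ded_39_1 (flp_i L135686) L135678 L197046
theorem L197052 : sm gf N23166 = N15912 := ded_48_1 (flp_i L135727) (flp_f L135682) L197046
theorem L197055 : sm gc N15909 = N23167 := rfl
theorem L197057 : sm ga N23167 = N17857 := ded_11_1 (flp_c L151929) (flp_a L135699) L197055
theorem L197060 : sm gj N23167 = N15911 := ded_31_2 (flp_c L135718) (flp_j L135702) L197055
theorem L197065 : sm gi N15909 = N23168 := rfl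
theorem L197069 : sm gd N23168 = N15910 := ded_39_1 (flp_i L135705) L135697 L197065
theorem L197072 : sm gj N23168 = N15912 := ded_53_1 (flp_i L135727) (flp_j L135702) L197065
theorem L197074 : sm gb N15911 = N23169 := rfl
theorem L197078 : sm gg N23169 = N15913 := ded_23_2 (flp_b L135735) (flp_g L135722) L197074
theorem L197081 : sm gi N15911 = N23170 := rfl
theorem L197083 : sm ga N23170 = N17860 := ded_18_1 (flp_i L151951) (flp_a L135720) L197081
theorem L197085 : sm gc N23170 = N15912 := ded_33_1 (flp_i L135727) L135718 L197081
theorem L197091 : sm gh N15912 = N23171 := rfl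
theorem L197100 : sm ga N15913 = N23172 := rfl
theorem L197102 : sm gd N23172 = N16291 := ded_12_2 (flp_a L138980) (flp_d L135737) L197100
theorem L197109 : sm gi N15913 = N23173 := rfl
theorem L197127 : sm gc N15916 = N23175 := rfl
theorem L197129 : sm ga N23175 = N16293 := ded_11_1 (flp_c L138997) (flp_a L135763) L197127
theorem L197131 : sm gf N23175 = N23175 := ded_29_2 (flp_c L197127) L135767 L197127
theorem L197132 : sm gj N23175 = N23175 := ded_31_2 (flp_c L197127) L135768 L197127
theorem L197133 : sm gb N23175 = N23175 := ded_19_1 (flp_c L197127) L135765 L93681 (flp_b L135765) L197127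
theorem L197134 : sm gd N23175 = N17865 := ded_27_2 (flp_c L151989) (flp_d L104800) (flp_c L93635) L135761 L197127
theorem L197136 : sm gg N15916 = N23176 := rfl
theorem L197138 : sm ga N23176 = N16294 := ded_15_1 (flp_g L139005) (flp_a L135763) L197136
theorem L197140 : sm gb N23176 = N15926 := ded_23_1 (flp_g L135855) (flp_b L135765) L197136
theorem L197142 : sm gd N23176 = N15917 := ded_36_1 (flp_g L135769) L135761 L197136
theorem L197144 : sm gh N15916 = N23177 := rfl
theorem L197146 : sm ga N23177 = N16295 := ded_17_1 (flp_h L139011) (flp_a L135763) L197144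
theorem L197148 : sm gb N23177 = N15927 := ded_25_1 (flp_h L135862) (flp_b L135765) L197144
theorem L197150 : sm gf N23177 = N23177 := ded_47_1 (flp_h L197144) L135767 L197144
theorem L197151 : sm gj N23177 = N23177 := ded_52_1 (flp_h L197144) L135768 L197144
theorem L197152 : sm gf N15917 = N23178 := rfl
theorem L197156 : sm gb N23178 = N15928 := ded_22_1 (flp_f L135869) (flp_b L135773) L197152
theorem L197161 : sm gj N15917 = N23179 := rfl
theorem L197172 : sm gh N15917 = N23180 := rfl
theorem L197176 : sm gb N23180 = N15930 := ded_25_1 (flp_h L135885) (flp_b L135773) L197172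
theorem L197180 : sm ge N23180 = N15920 := ded_43_1 (flp_h L135800) (flp_e L135777) L197172
theorem L197182 : sm gg N23180 = N15918 := ded_50_1 (flp_h L135779) L135769 L197172
theorem L197184 : sm gd N15918 = N23181 := rfl
theorem L197186 : sm ga N23181 = N16299 := ded_12_1 (flp_d L139043) (flp_a L135781) L197184
theorem L197192 : sm gi N15918 = N23182 := rfl
theorem L197196 : sm gb N23182 = N15932 := ded_26_1 (flp_i L135901) (flp_b L135783) L197192
theorem L197204 : sm gh N15919 = N23183 := rfl
theorem L197208 : sm gb N23183 = N15933 := ded_25_1 (flp_h L135911) (flp_b L135795) L197204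
theorem L197210 : sm gc N23183 = N17873 := ded_32_1 (flp_h L152059) (flp_c L135797) L197204
theorem L197233 : sm gc N15921 = N23186 := rfl
theorem L197235 : sm ga N23186 = N16304 := ded_11_1 (flp_c L139082) (flp_a L135812) L197233
theorem L197243 : sm ge N15921 = N23187 := rfl
theorem L197245 : sm ga N23187 = N16305 := ded_13_1 (flp_e L139091) (flp_a L135812) L197243
theorem L197247 : sm gb N23187 = N15936 := ded_21_1 (flp_e L135935) (flp_b L135814) L197243
theorem L197297 : sm gh N15925 = N23193 := rfl
theorem L197304 : sm gf N15926 = N23194 := rfl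
theorem L197306 : sm ga N23194 = N15949 := ded_14_1 (flp_f L136051) (flp_a L135857) L197304
theorem L197309 : sm gd N23194 = N15928 := ded_35_1 (flp_f L135869) (flp_d L135860) L197304
theorem L197312 : sm gj N15926 = N23195 := rfl
theorem L197314 : sm ga N23195 = N15950 := ded_16_1 (flp_j L136059) (flp_a L135857) L197312
theorem L197320 : sm gh N15926 = N23196 := rfl
theorem L197322 : sm ga N23196 = N15951 := ded_17_1 (flp_h L136067) (flp_a L135857) L197320
theorem L197324 : sm gc N23196 = N23196 := ded_32_1 (flp_h L197320) L135859 L197320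
theorem L197325 : sm gg N23196 = N15927 := ded_50_1 (flp_h L135862) L135855 L197320
theorem L197327 : sm gd N15927 = N23197 := rfl
theorem L197329 : sm ga N23197 = N15952 := ded_12_1 (flp_d L136074) (flp_a L135864) L197327
theorem L197331 : sm gf N23197 = N23197 := ded_35_2 (flp_d L197327) L135867 L197327
theorem L197332 : sm gj N23197 = N23197 := ded_37_2 (flp_d L197327) L135868 L197327
theorem L197333 : sm gh N23197 = N15931 := ded_38_2 (flp_d L135895) (flp_h L93690) L93675 L135862 L197327
theorem L197335 : sm gi N15927 = N23198 := rfl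
theorem L197337 : sm ga N23198 = N15953 := ded_18_1 (flp_i L136082) (flp_a L135864) L197335
theorem L197339 : sm gc N23198 = N23198 := ded_33_1 (flp_i L197335) L135866 L197335
theorem L197340 : sm gf N23198 = N23198 := ded_48_1 (flp_i L197335) L135867 L197335
theorem L197341 : sm gj N23198 = N23198 := ded_53_1 (flp_i L197335) L135868 L197335
theorem L197350 : sm gh N15928 = N23200 := rfl
theorem L197354 : sm gc N23200 = N15942 := ded_32_1 (flp_h L135982) (flp_c L135873) L197350
theorem L197356 : sm gf N23200 = N15930 := ded_47_1 (flp_h L135885) L135869 L197350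
theorem L197359 : sm gh N15929 = N23201 := rfl
theorem L197361 : sm ga N23201 = N15956 := ded_17_1 (flp_h L136106) (flp_a L135878) L197359
theorem L197363 : sm gc N23201 = N15943 := ded_32_1 (flp_h L135991) (flp_c L135880) L197359
theorem L197365 : sm ge N23201 = N15933 := ded_43_1 (flp_h L135911) (flp_e L135882) L197359
theorem L197368 : sm gj N23201 = N15930 := ded_52_1 (flp_h L135885) L135876 L197359
theorem L197370 : sm gd N15930 = N23202 := rfl
theorem L197372 : sm ga N23202 = N15957 := ded_12_1 (flp_d L136117) (flp_a L135887) L197370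
theorem L197374 : sm gg N23202 = N15931 := ded_36_2 (flp_d L135895) (flp_g L135893) L197370
theorem L197376 : sm gi N15930 = N23203 := rfl
theorem L197382 : sm ge N23203 = N15935 := ded_44_1 (flp_i L135927) (flp_e L135891) L197376
theorem L197386 : sm gc N15931 = N23204 := rfl
theorem L197392 : sm gd N23204 = N15946 := ded_27_2 (flp_c L136022) (flp_d L93775) (flp_c L93694) L135895 L197386
theorem L197394 : sm ge N15931 = N23205 := rfl
theorem L197396 : sm ga N23205 = N15960 := ded_13_1 (flp_e L136140) (flp_a L135897) L197394
theorem L197399 : sm gd N23205 = N15936 := ded_34_1 (flp_e L135935) (flp_d L93715) (flp_e L93696) L135895 L197394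
theorem L197401 : sm gi N15931 = N23206 := rfl
theorem L197409 : sm gd N15933 = N23207 := rfl
theorem L197411 : sm ga N23207 = N15962 := ded_12_1 (flp_d L136155) (flp_a L135913) L197409
theorem L197414 : sm gj N23207 = N15934 := ded_37_2 (flp_d L135920) (flp_j L135918) L197409
theorem L197417 : sm gi N15933 = N23208 := rfl
theorem L197419 : sm ga N23208 = N15963 := ded_18_1 (flp_i L136163) (flp_a L135913) L197417
theorem L197421 : sm gc N23208 = N15948 := ded_33_1 (flp_i L136041) (flp_c L135915) L197417
theorem L197424 : sm gj N23208 = N15935 := ded_53_1 (flp_i L135927) (flp_j L135918) L197417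
theorem L197426 : sm ge N15934 = N23209 := rfl
theorem L197428 : sm ga N23209 = N15964 := ded_13_1 (flp_e L136172) (flp_a L135922) L197426
theorem L197442 : sm gf N15936 = N23211 := rfl
theorem L197444 : sm ga N23211 = N15966 := ded_14_1 (flp_f L136188) (flp_a L135937) L197442
theorem L197450 : sm gi N15936 = N23212 := rfl
theorem L197452 : sm ga N23212 = N15967 := ded_18_1 (flp_i L136196) (flp_a L135937) L197450
theorem L197455 : sm ge N23212 = N15937 := ded_44_1 (flp_i L135941) L135935 L197450
theorem L197466 : sm gg N15938 = N23214 := rfl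
theorem L197468 : sm ga N23214 = N15969 := ded_15_1 (flp_g L136212) (flp_a L135953) L197466
theorem L197472 : sm gi N15938 = N23215 := rfl
theorem L197474 : sm ga N23215 = N15970 := ded_18_1 (flp_i L136218) (flp_a L135953) L197472
theorem L197489 : sm gg N15941 = N23217 := rfl
theorem L197493 : sm gb N23217 = N17907 := ded_23_1 (flp_g L152351) (flp_b L135977) L197489
theorem L197498 : sm gh N15941 = N23218 := rfl
theorem L197504 : sm gf N23218 = N15943 := ded_47_1 (flp_h L135991) (flp_f L135980) L197498
theorem L197506 : sm gj N23218 = N15942 := ded_52_1 (flp_h L135982) L135973 L197498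
theorem L197508 : sm gd N15942 = N23219 := rfl
theorem L197512 : sm gb N23219 = N17909 := ded_20_1 (flp_d L152366) (flp_b L135986) L197508
theorem L197514 : sm gf N23219 = N15944 := ded_35_2 (flp_d L136002) (flp_f L135988) L197508
theorem L197518 : sm gi N15942 = N23220 := rfl
theorem L197520 : sm ga N23220 = N15975 := ded_18_1 (flp_i L136258) (flp_a L135984) L197518
theorem L197524 : sm gf N23220 = N15945 := ded_48_1 (flp_i L136012) (flp_f L135988) L197518
theorem L197538 : sm gi N15943 = N23222 := rfl
theorem L197549 : sm gc N15944 = N23223 := rfl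
theorem L197554 : sm gg N23223 = N15946 := ded_30_2 (flp_c L136022) (flp_g L136008) L197549
theorem L197557 : sm gi N15944 = N23224 := rfl
theorem L197559 : sm ga N23224 = N15979 := ded_18_1 (flp_i L136290) (flp_a L136004) L197557
theorem L197566 : sm gg N23224 = N15947 := ded_51_1 (flp_i L136030) (flp_g L136008) L197557
theorem L197577 : sm gi N15946 = N23226 := rfl
theorem L197579 : sm ga N23226 = N15980 := ded_18_1 (flp_i L136299) (flp_a L136024) L197577
theorem L197581 : sm gc N23226 = N15947 := ded_33_1 (flp_i L136030) L136022 L197577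
theorem L197586 : sm gh N15947 = N23227 := rfl
theorem L197588 : sm ga N23227 = N15981 := ded_17_1 (flp_h L136307) (flp_a L136032) L197586
theorem L197596 : sm ge N15949 = N23228 := rfl
theorem L197598 : sm gb N23228 = N16338 := ded_21_1 (flp_e L139377) (flp_b L136053) L197596
theorem L197600 : sm gc N23228 = N23228 := ded_28_1 (flp_e L197596) L136055 L197596
theorem L197601 : sm gg N23228 = N23228 := ded_41_2 (flp_e L197596) L136058 L197596
theorem L197602 : sm gj N15949 = N23229 := rfl
theorem L197604 : sm gb N23229 = N16339 := ded_24_1 (flp_j L139382) (flp_b L136053) L197602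
theorem L197607 : sm gd N23229 = N15954 := ded_37_1 (flp_j L136089) (flp_d L136056) L197602
theorem L197609 : sm gf N23229 = N15950 := ded_46_1 (flp_j L136059) L136051 L197602
theorem L197611 : sm gh N15949 = N23230 := rfl
theorem L197613 : sm gb N23230 = N16340 := ded_25_1 (flp_h L139390) (flp_b L136053) L197611
theorem L197615 : sm gc N23230 = N23230 := ded_32_1 (flp_h L197611) L136055 L197611
theorem L197616 : sm gf N23230 = N15951 := ded_47_1 (flp_h L136067) L136051 L197611
theorem L197618 : sm gg N23230 = N23230 := ded_50_1 (flp_h L197611) L136058 L197611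
theorem L197619 : sm gh N15950 = N23231 := rfl
theorem L197621 : sm gb N23231 = N16341 := ded_25_1 (flp_h L139397) (flp_b L136061) L197619
theorem L197623 : sm gc N23231 = N23231 := ded_32_1 (flp_h L197619) L136063 L197619
theorem L197624 : sm gg N23231 = N23231 := ded_50_1 (flp_h L197619) L136066 L197619
theorem L197625 : sm gj N23231 = N15951 := ded_52_1 (flp_h L136067) L136059 L197619
theorem L197627 : sm gd N15951 = N23232 := rfl
theorem L197629 : sm gb N23232 = N16342 := ded_20_1 (flp_d L139404) (flp_b L136069) L197627
theorem L197631 : sm gg N23232 = N15952 := ded_36_2 (flp_d L136074) (flp_g L136072) L197627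
theorem L197633 : sm gh N23232 = N15957 := ded_38_2 (flp_d L136117) (flp_h L93844) (flp_d L93819) L136067 L197627
theorem L197635 : sm gi N15951 = N23233 := rfl
theorem L197637 : sm gb N23233 = N16343 := ded_26_1 (flp_i L139411) (flp_b L136069) L197635
theorem L197639 : sm gc N23233 = N23233 := ded_33_1 (flp_i L197635) L136071 L197635
theorem L197640 : sm gg N23233 = N15953 := ded_51_1 (flp_i L136082) (flp_g L136072) L197635
theorem L197642 : sm gc N15952 = N23234 := rfl
theorem L197644 : sm gf N23234 = N23234 := ded_29_2 (flp_c L197642) L136078 L197642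
theorem L197645 : sm gj N23234 = N23234 := ded_31_2 (flp_c L197642) L136079 L197642
theorem L197646 : sm gh N23234 = N15959 := ded_32_2 (flp_c L136133) (flp_h L136080) L197642
theorem L197648 : sm gb N23234 = N23234 := ded_19_1 (flp_c L197642) L136076 L96148 (flp_b L136076) L197642
theorem L197649 : sm gd N23234 = N23234 := ded_27_2 (flp_c L197642) (flp_d L136074) L93825 L136074 L197642
theorem L197650 : sm ge N15952 = N23235 := rfl
theorem L197652 : sm gb N23235 = N16344 := ded_21_1 (flp_e L139417) (flp_b L136076) L197650
theorem L197654 : sm gj N23235 = N23235 := ded_42_2 (flp_e L197650) L136079 L197650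
theorem L197655 : sm gh N23235 = N15960 := ded_43_2 (flp_e L136140) (flp_h L136080) L197650
theorem L197657 : sm gi N15952 = N23236 := rfl
theorem L197659 : sm gb N23236 = N16345 := ded_26_1 (flp_i L139423) (flp_b L136076) L197657
theorem L197661 : sm gd N23236 = N15953 := ded_39_1 (flp_i L136082) L136074 L197657
theorem L197663 : sm gf N23236 = N23236 := ded_48_1 (flp_i L197657) L136078 L197657
theorem L197664 : sm gj N23236 = N23236 := ded_53_1 (flp_i L197657) L136079 L197657
theorem L197665 : sm gg N15954 = N23237 := rfl
theorem L197673 : sm gh N15954 = N23238 := rfl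
theorem L197679 : sm gf N23238 = N15956 := ded_47_1 (flp_h L136106) (flp_f L136095) L197673
theorem L197690 : sm gi N15955 = N23240 := rfl
theorem L197692 : sm gb N23240 = N16349 := ded_26_1 (flp_i L139450) (flp_b L136099) L197690
theorem L197694 : sm gc N23240 = N15975 := ded_33_1 (flp_i L136258) (flp_c L136101) L197690
theorem L197699 : sm gd N15956 = N23241 := rfl
theorem L197704 : sm gj N23241 = N15957 := ded_37_2 (flp_d L136117) (flp_j L136115) L197699
theorem L197717 : sm gc N15957 = N23243 := rfl
theorem L197719 : sm gg N23243 = N15959 := ded_30_2 (flp_c L136133) (flp_g L136121) L197717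
theorem L197724 : sm ge N15957 = N23244 := rfl
theorem L197726 : sm gb N23244 = N16352 := ded_21_1 (flp_e L139472) (flp_b L136119) L197724
theorem L197728 : sm gg N23244 = N15960 := ded_41_2 (flp_e L136140) (flp_g L136121) L197724
theorem L197730 : sm gd N23244 = N15964 := ded_34_1 (flp_e L136172) (flp_d L93879) (flp_e L93850) L136117 L197724
theorem L197732 : sm gi N15957 = N23245 := rfl
theorem L197734 : sm gb N23245 = N16353 := ded_26_1 (flp_i L139479) (flp_b L136119) L197732
theorem L197740 : sm ge N15959 = N23246 := rfl
theorem L197743 : sm gc N23246 = N15960 := ded_28_1 (flp_e L136140) L136133 L197740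
theorem L197747 : sm gi N15959 = N23247 := rfl
theorem L197750 : sm gc N23247 = N15961 := ded_33_1 (flp_i L136147) L136133 L197747
theorem L197752 : sm gd N23247 = N15980 := ded_39_1 (flp_i L136299) (flp_d L136138) L197747
theorem L197756 : sm gf N15960 = N23248 := rfl
theorem L197758 : sm gb N23248 = N16354 := ded_22_1 (flp_f L139486) (flp_b L136142) L197756
theorem L197764 : sm gi N15960 = N23249 := rfl
theorem L197773 : sm gh N15961 = N23250 := rfl
theorem L197775 : sm gb N23250 = N16356 := ded_25_1 (flp_h L139501) (flp_b L136149) L197773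
theorem L197779 : sm ge N15962 = N23251 := rfl
theorem L197781 : sm gb N23251 = N16357 := ded_21_1 (flp_e L139506) (flp_b L136157) L197779
theorem L197783 : sm gc N23251 = N23251 := ded_28_1 (flp_e L197779) L136162 L197779
theorem L197784 : sm gg N23251 = N23251 := ded_41_2 (flp_e L197779) L136159 L197779
theorem L197785 : sm gj N23251 = N15964 := ded_42_2 (flp_e L136172) (flp_j L136160) L197779
theorem L197787 : sm gi N15962 = N23252 := rfl
theorem L197797 : sm gf N15964 = N23253 := rfl
theorem L197799 : sm gb N23253 = N16359 := ded_22_1 (flp_f L139522) (flp_b L136174) L197797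
theorem L197801 : sm gc N23253 = N23253 := ded_29_1 (flp_f L197797) L136176 L197797
theorem L197802 : sm gi N15964 = N23254 := rfl
theorem L197818 : sm gg N15966 = N23256 := rfl
theorem L197820 : sm gb N23256 = N16362 := ded_23_1 (flp_g L139540) (flp_b L136190) L197818
theorem L197822 : sm gc N23256 = N23256 := ded_30_1 (flp_g L197818) L136192 L197818
theorem L197823 : sm ge N23256 = N15969 := ded_41_1 (flp_g L136212) (flp_e L136194) L197818
theorem L197843 : sm gj N15969 = N23259 := rfl
theorem L197845 : sm gb N23259 = N16365 := ded_24_1 (flp_j L139562) (flp_b L136214) L197843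
theorem L197847 : sm gc N23259 = N23259 := ded_31_1 (flp_j L197843) L136216 L197843
theorem L197848 : sm gd N23259 = N23259 := ded_37_1 (flp_j L197843) L136217 L197843
theorem L197849 : sm gg N23259 = N23259 := ded_49_1 (flp_j L197843) (flp_g L136212) L93916 L136212 L197843
theorem L197850 : sm gi N15969 = N23260 := rfl
theorem L197856 : sm gg N23260 = N15970 := ded_51_1 (flp_i L136218) L136212 L197850
theorem L197858 : sm gh N15970 = N23261 := rfl
theorem L197860 : sm gb N23261 = N16367 := ded_25_1 (flp_h L139575) (flp_b L136220) L197858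
theorem L197872 : sm gh N15972 = N23263 := rfl
theorem L197874 : sm gb N23263 = N15982 := ded_25_1 (flp_h L136315) (flp_b L136237) L197872
theorem L197880 : sm gd N15973 = N23264 := rfl
theorem L197884 : sm gf N23264 = N15976 := ded_35_2 (flp_d L136265) (flp_f L136246) L197880
theorem L197886 : sm gj N23264 = N15974 := ded_37_2 (flp_d L136250) (flp_j L136248) L197880
theorem L197897 : sm gc N15974 = N23266 := rfl
theorem L197899 : sm gf N23266 = N15978 := ded_29_2 (flp_c L136283) (flp_f L136254) L197897
theorem L197911 : sm gi N15974 = N23268 := rfl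
theorem L197917 : sm gf N23268 = N15979 := ded_48_1 (flp_i L136290) (flp_f L136254) L197911
theorem L197920 : sm gc N15976 = N23269 := rfl
theorem L197928 : sm gi N15976 = N23270 := rfl
theorem L197930 : sm gb N23270 = N15987 := ded_26_1 (flp_i L136363) (flp_b L136267) L197928
theorem L197936 : sm gj N23270 = N15979 := ded_53_1 (flp_i L136290) (flp_j L136270) L197928
theorem L197938 : sm gi N15978 = N23271 := rfl
theorem L197941 : sm gc N23271 = N15979 := ded_33_1 (flp_i L136290) L136283 L197938
theorem L197944 : sm gg N23271 = N15980 := ded_51_1 (flp_i L136299) (flp_g L136286) L197938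
theorem L197946 : sm gh N15979 = N23272 := rfl
theorem L197954 : sm gh N15980 = N23273 := rfl
theorem L197957 : sm gc N23273 = N15981 := ded_32_1 (flp_h L136307) (flp_c L136302) L197954
theorem L197973 : sm gi N15982 = N23275 := rfl
theorem L197980 : sm gg N23275 = N15984 := ded_51_1 (flp_i L136335) (flp_g L136322) L197973
theorem L197992 : sm gi N15983 = N23277 := rfl
theorem L197994 : sm ga N23277 = N17967 := ded_18_1 (flp_i L152842) (flp_a L136327) L197992
theorem L198001 : sm gj N23277 = N15986 := ded_53_1 (flp_i L136353) (flp_j L136331) L197992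
theorem L198003 : sm gi N15985 = N23278 := rfl
theorem L198005 : sm ga N23278 = N17968 := ded_18_1 (flp_i L152851) (flp_a L136347) L198003
theorem L198012 : sm gh N15986 = N23279 := rfl
theorem L198017 : sm gf N23279 = N15988 := ded_47_1 (flp_h L136374) (flp_f L136360) L198012
theorem L198021 : sm gh N15987 = N23280 := rfl
theorem L198031 : sm ge N15989 = N23281 := rfl
theorem L198033 : sm gb N23281 = N15991 := ded_21_1 (flp_e L136403) (flp_b L136385) L198031
theorem L198037 : sm gj N23281 = N16080 := ded_42_2 (flp_e L137221) (flp_j L136389) L198031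
theorem L198042 : sm gg N15989 = N23282 := rfl
theorem L198044 : sm gb N23282 = N15992 := ded_23_1 (flp_g L136414) (flp_b L136385) L198042
theorem L198061 : sm gd N15990 = N23284 := rfl
theorem L198066 : sm gj N23284 = N16083 := ded_37_2 (flp_d L137248) (flp_j L136401) L198061
theorem L198068 : sm gi N15990 = N23285 := rfl
theorem L198072 : sm gc N23285 = N17975 := ded_33_1 (flp_i L152906) (flp_c L136397) L198068
theorem L198080 : sm gd N15991 = N23286 := rfl
theorem L198085 : sm gj N23286 = N16085 := ded_37_2 (flp_d L137265) (flp_j L136409) L198080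
theorem L198087 : sm gi N23286 = N16030 := ded_39_2 (flp_d L136772) (flp_i L136411) L198080
theorem L198111 : sm gj N15992 = N23289 := rfl
theorem L198113 : sm ga N23289 = N16004 := ded_16_1 (flp_j L136536) (flp_a L136416) L198111
theorem L198118 : sm gi N23289 = N16033 := ded_53_2 (flp_j L136799) (flp_i L136420) L198111
theorem L198122 : sm gh N15992 = N23290 := rfl
theorem L198161 : sm gi N15994 = N23294 := rfl
theorem L198169 : sm gj N23294 = N16093 := ded_53_1 (flp_i L137337) (flp_j L136438) L198161
theorem L198171 : sm gf N15996 = N23295 := rfl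
theorem L198178 : sm gi N23295 = N16039 := ded_48_2 (flp_f L136858) (flp_i L136462) L198171
theorem L198195 : sm gh N15996 = N23297 := rfl
theorem L198253 : sm gg N16001 = N23302 := rfl
theorem L198256 : sm gd N23302 = N16002 := ded_36_1 (flp_g L136519) L136511 L198253
theorem L198260 : sm gh N16001 = N23303 := rfl
theorem L198262 : sm gc N23303 = N23303 := ded_32_1 (flp_h L198260) L136518 L198260
theorem L198263 : sm gf N23303 = N23303 := ded_47_1 (flp_h L198260) L136513 L198260
theorem L198264 : sm gj N23303 = N16102 := ded_52_1 (flp_h L137430) (flp_j L136514) L198260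
theorem L198266 : sm gf N16002 = N23304 := rfl
theorem L198268 : sm gc N23304 = N16010 := ded_29_1 (flp_f L136584) (flp_c L136521) L198266
theorem L198270 : sm gi N23304 = N16048 := ded_48_2 (flp_f L136946) (flp_i L136525) L198266
theorem L198274 : sm gj N16002 = N23305 := rfl
theorem L198282 : sm gg N23305 = N16104 := ded_49_1 (flp_j L137443) (flp_g L94763) (flp_j L94166) L136519 L198274
theorem L198284 : sm gh N16002 = N23306 := rfl
theorem L198292 : sm gd N16003 = N23307 := rfl
theorem L198295 : sm gj N23307 = N16106 := ded_37_2 (flp_d L137459) (flp_j L136534) L198292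
theorem L198308 : sm gh N16004 = N23309 := rfl
theorem L198317 : sm gd N16005 = N23310 := rfl
theorem L198323 : sm gi N16005 = N23311 := rfl
theorem L198328 : sm gg N23311 = N16007 := ded_51_1 (flp_i L136559) (flp_g L136550) L198323
theorem L198346 : sm gf N16008 = N23314 := rfl
theorem L198352 : sm gi N16008 = N23315 := rfl
theorem L198369 : sm gj N16010 = N23317 := rfl
theorem L198379 : sm gh N16010 = N23318 := rfl
theorem L198381 : sm gb N23318 = N16018 := ded_25_1 (flp_h L136662) (flp_b L136586) L198379
theorem L198422 : sm gi N16013 = N23323 := rfl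
theorem L198424 : sm gb N23323 = N16023 := ded_26_1 (flp_i L136707) (flp_b L136614) L198422
theorem L198432 : sm gi N16015 = N23324 := rfl
theorem L198438 : sm gg N23324 = N16123 := ded_51_1 (flp_i L137584) (flp_g L136637) L198432
theorem L198440 : sm gj N23324 = N16016 := ded_53_1 (flp_i L136642) (flp_j L136639) L198432
theorem L198455 : sm gh N16017 = N23326 := rfl
theorem L198462 : sm gj N23326 = N16018 := ded_52_1 (flp_h L136662) L136652 L198455
theorem L198464 : sm gd N16018 = N23327 := rfl
theorem L198466 : sm ga N23327 = N18017 := ded_12_1 (flp_d L153292) (flp_a L136664) L198464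
theorem L198468 : sm gf N23327 = N16020 := ded_35_2 (flp_d L136680) (flp_f L136667) L198464
theorem L198471 : sm gh N23327 = N23327 := ded_38_2 (flp_d L198464) (flp_h L136662) L94254 L136662 L198464
theorem L198472 : sm gi N16018 = N23328 := rfl
theorem L198477 : sm gf N23328 = N16021 := ded_48_1 (flp_i L136688) (flp_f L136667) L198472
theorem L198512 : sm gi N16020 = N23332 := rfl
theorem L198519 : sm gg N23332 = N16023 := ded_51_1 (flp_i L136707) (flp_g L136684) L198512
theorem L198538 : sm gh N16023 = N23335 := rfl
theorem L198544 : sm gj N23335 = N16134 := ded_52_1 (flp_h L137682) (flp_j L136715) L198538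
theorem L198548 : sm gi N23335 = N23335 := ded_54_2 (flp_h L198538) (flp_i L136707) L94286 L136707 L198538
theorem L198549 : sm gd N16025 = N23336 := rfl
theorem L198551 : sm gb N23336 = N16030 := ded_20_1 (flp_d L136772) (flp_b L136731) L198549
theorem L198554 : sm gj N23336 = N16135 := ded_37_2 (flp_d L137691) (flp_j L136735) L198549
theorem L198575 : sm gj N16026 = N23339 := rfl
theorem L198577 : sm gb N23339 = N16033 := ded_24_1 (flp_j L136799) (flp_b L136740) L198575
theorem L198579 : sm gc N23339 = N18029 := ded_31_1 (flp_j L153384) (flp_c L136742) L198575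
theorem L198593 : sm gd N16027 = N23341 := rfl
theorem L198597 : sm gf N23341 = N16028 := ded_35_2 (flp_d L136755) (flp_f L136751) L198593
theorem L198599 : sm gj N23341 = N16140 := ded_37_2 (flp_d L137731) (flp_j L136753) L198593
theorem L198628 : sm gi N16028 = N23345 := rfl
theorem L198637 : sm gg N16030 = N23346 := rfl
theorem L198644 : sm gh N16030 = N23347 := rfl
theorem L198646 : sm ga N23347 = N16047 := ded_17_1 (flp_h L136940) (flp_a L136774) L198644
theorem L198648 : sm gc N23347 = N23347 := ded_32_1 (flp_h L198644) L136779 L198644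
theorem L198649 : sm gf N23347 = N23347 := ded_47_1 (flp_h L198644) L136776 L198644
theorem L198650 : sm gj N23347 = N16146 := ded_52_1 (flp_h L137775) (flp_j L136777) L198644
theorem L198709 : sm gd N16034 = N23354 := rfl
theorem L198711 : sm ga N23354 = N16054 := ded_12_1 (flp_d L136991) (flp_a L136810) L198709
theorem L198718 : sm gi N16034 = N23355 := rfl
theorem L198727 : sm ge N16035 = N23356 := rfl
theorem L198729 : sm ga N23356 = N16056 := ded_13_1 (flp_e L137005) (flp_a L136819) L198727
theorem L198731 : sm gc N23356 = N16481 := ded_28_1 (flp_e L140555) (flp_c L136825) L198727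
theorem L198747 : sm gf N16037 = N23358 := rfl
theorem L198749 : sm ga N23358 = N16058 := ded_14_1 (flp_f L137021) (flp_a L136839) L198747
theorem L198751 : sm gc N23358 = N16483 := ded_29_1 (flp_f L140571) (flp_c L136841) L198747
theorem L198754 : sm gj N23358 = N16157 := ded_46_2 (flp_f L137868) (flp_j L136844) L198747
theorem L198756 : sm gi N16037 = N23359 := rfl
theorem L198766 : sm gj N23359 = N16158 := ded_53_1 (flp_i L137875) (flp_j L136844) L198756
theorem L198797 : sm gh N16040 = N23363 := rfl
theorem L198803 : sm ge N23363 = N16044 := ded_43_1 (flp_h L136911) (flp_e L136874) L198797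
theorem L198807 : sm gj N23363 = N16041 := ded_52_1 (flp_h L136878) L136867 L198797
theorem L198809 : sm gd N16041 = N23364 := rfl
theorem L198820 : sm gi N16041 = N23365 := rfl
theorem L198884 : sm gd N16047 = N23372 := rfl
theorem L198887 : sm gj N23372 = N16171 := ded_37_2 (flp_d L137994) (flp_j L136944) L198884
theorem L198889 : sm gh N23372 = N16051 := ded_38_2 (flp_d L136968) (flp_h L94447) L94435 L136940 L198884
theorem L198891 : sm gi N16047 = N23373 := rfl
theorem L198893 : sm gc N23373 = N23373 := ded_33_1 (flp_i L198891) L136942 L198891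
theorem L198894 : sm gf N23373 = N23373 := ded_48_1 (flp_i L198891) L136943 L198891
theorem L198895 : sm gj N23373 = N16172 := ded_53_1 (flp_i L137999) (flp_j L136944) L198891
theorem L198897 : sm gj N16048 = N23374 := rfl
theorem L198902 : sm gf N23374 = N16049 := ded_46_1 (flp_j L136952) L136946 L198897
theorem L198922 : sm gd N16050 = N23377 := rfl
theorem L198924 : sm gg N23377 = N16051 := ded_36_2 (flp_d L136968) (flp_g L136966) L198922
theorem L198926 : sm gi N16050 = N23378 := rfl
theorem L198932 : sm gg N23378 = N16052 := ded_51_1 (flp_i L136973) (flp_g L136966) L198926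
theorem L198934 : sm gc N16051 = N23379 := rfl
theorem L198941 : sm ge N16051 = N23380 := rfl
theorem L198943 : sm gj N23380 = N16179 := ded_42_2 (flp_e L138045) (flp_j L136971) L198941
theorem L198945 : sm gd N23380 = N16056 := ded_34_1 (flp_e L137005) (flp_d L94470) (flp_e L94451) L136968 L198941
theorem L198947 : sm gi N16051 = N23381 := rfl
theorem L198949 : sm gd N23381 = N16052 := ded_39_1 (flp_i L136973) L136968 L198947
theorem L198952 : sm gj N23381 = N16180 := ded_53_1 (flp_i L138049) (flp_j L136971) L198947
theorem L198954 : sm gd N16053 = N23382 := rfl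
theorem L198959 : sm gj N23382 = N16054 := ded_37_2 (flp_d L136991) (flp_j L136989) L198954
theorem L198961 : sm gc N23382 = N16507 := ded_27_1 (flp_d L140798) L97193 (flp_d L94555) (flp_c L136984) L198954
theorem L198963 : sm gi N16053 = N23383 := rfl
theorem L198972 : sm ge N16054 = N23384 := rfl
theorem L198974 : sm gc N23384 = N16509 := ded_28_1 (flp_e L140817) (flp_c L136996) L198972
theorem L198976 : sm gg N23384 = N16056 := ded_41_2 (flp_e L137005) (flp_g L136994) L198972
theorem L198978 : sm gi N16054 = N23385 := rfl
theorem L198987 : sm gf N16056 = N23386 := rfl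
theorem L198989 : sm gc N23386 = N16511 := ded_29_1 (flp_f L140830) (flp_c L137007) L198987
theorem L198991 : sm gj N23386 = N16185 := ded_46_2 (flp_f L138086) (flp_j L137009) L198987
theorem L198993 : sm ge N23386 = N16058 := ded_40_1 (flp_f L137021) (flp_e L94486) (flp_f L94472) L137005 L198987
theorem L198995 : sm gi N16056 = N23387 := rfl
theorem L198999 : sm ge N23387 = N16057 := ded_44_1 (flp_i L137011) L137005 L198995
theorem L199003 : sm gh N16057 = N23388 := rfl
theorem L199011 : sm gg N16058 = N23389 := rfl
theorem L199013 : sm gc N23389 = N16514 := ded_30_1 (flp_g L140852) (flp_c L137023) L199011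
theorem L199015 : sm gd N23389 = N23389 := ded_36_1 (flp_g L199011) L137025 L199011
theorem L199016 : sm gf N23389 = N23389 := ded_45_1 (flp_g L199011) (flp_f L137021) L94490 L137021 L199011
theorem L199017 : sm gi N16058 = N23390 := rfl
theorem L199024 : sm gj N23390 = N16189 := ded_53_1 (flp_i L138111) (flp_j L137026) L199017
theorem L199044 : sm gh N16061 = N23393 := rfl
theorem L199046 : sm gb N23393 = N16070 := ded_25_1 (flp_h L137127) (flp_b L137047) L199044
theorem L199049 : sm gf N23393 = N16063 := ded_47_1 (flp_h L137061) (flp_f L137051) L199044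
theorem L199069 : sm gd N16063 = N23396 := rfl
theorem L199071 : sm gb N23396 = N16073 := ded_20_1 (flp_d L137152) (flp_b L137063) L199069
theorem L199073 : sm gg N23396 = N16195 := ded_36_2 (flp_d L138162) (flp_g L137067) L199069
theorem L199090 : sm gc N16064 = N23398 := rfl
theorem L199092 : sm ge N23398 = N16522 := ded_28_2 (flp_c L140924) (flp_e L137077) L199090
theorem L199146 : sm gd N16070 = N23404 := rfl
theorem L199152 : sm gj N23404 = N16071 := ded_37_2 (flp_d L137136) (flp_j L137134) L199146
theorem L199155 : sm gi N16070 = N23405 := rfl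
theorem L199172 : sm ge N16071 = N23407 := rfl
theorem L199179 : sm gf N23407 = N16530 := ded_40_2 (flp_e L140996) L97340 (flp_e L94598) (flp_f L137140) L199172
theorem L199181 : sm gi N16071 = N23408 := rfl
theorem L199183 : sm ga N23408 = N18098 := ded_18_1 (flp_i L153977) (flp_a L137138) L199181
theorem L199190 : sm gc N16073 = N23409 := rfl
theorem L199198 : sm gj N23409 = N16075 := ded_31_2 (flp_c L137173) (flp_j L137158) L199190
theorem L199201 : sm gi N16073 = N23410 := rfl
theorem L199220 : sm gi N16075 = N23412 := rfl
theorem L199226 : sm ge N23412 = N16535 := ded_44_1 (flp_i L141040) (flp_e L137177) L199220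
theorem L199249 : sm gi N16077 = N23415 := rfl
theorem L199256 : sm gj N23415 = N16213 := ded_53_1 (flp_i L138320) (flp_j L137197) L199249
theorem L199270 : sm gd N16080 = N23417 := rfl
theorem L199272 : sm gb N23417 = N16085 := ded_20_1 (flp_d L137265) (flp_b L137223) L199270
theorem L199277 : sm gg N16080 = N23418 := rfl
theorem L199279 : sm gb N23418 = N16086 := ded_23_1 (flp_g L137273) (flp_b L137223) L199277
theorem L199283 : sm ge N23418 = N16081 := ded_41_1 (flp_g L137230) L137221 L199277
theorem L199285 : sm gi N23418 = N16136 := ded_51_2 (flp_g L137696) (flp_i L137227) L199277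
theorem L199287 : sm gh N16080 = N23419 := rfl
theorem L199306 : sm gh N16081 = N23421 := rfl
theorem L199310 : sm gc N23421 = N18111 := ded_32_1 (flp_h L154084) (flp_c L137234) L199306
theorem L199354 : sm gg N16085 = N23427 := rfl
theorem L199356 : sm ga N23427 = N16101 := ded_15_1 (flp_g L137423) (flp_a L137267) L199354
theorem L199363 : sm gh N16085 = N23428 := rfl
theorem L199365 : sm ga N23428 = N16102 := ded_17_1 (flp_h L137430) (flp_a L137267) L199363
theorem L199367 : sm gc N23428 = N23428 := ded_32_1 (flp_h L199363) L137272 L199363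
theorem L199368 : sm gf N23428 = N23428 := ded_47_1 (flp_h L199363) L137269 L199363
theorem L199369 : sm gf N16086 = N23429 := rfl
theorem L199371 : sm ga N23429 = N16103 := ded_14_1 (flp_f L137434) (flp_a L137275) L199369
theorem L199373 : sm gc N23429 = N16094 := ded_29_1 (flp_f L137346) (flp_c L137277) L199369
theorem L199375 : sm gi N23429 = N16147 := ded_48_2 (flp_f L137781) (flp_i L137281) L199369
theorem L199426 : sm gd N16089 = N23435 := rfl
theorem L199430 : sm gf N23435 = N16233 := ded_35_2 (flp_d L138494) (flp_f L137308) L199426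
theorem L199435 : sm gi N16089 = N23436 := rfl
theorem L199437 : sm ga N23436 = N16110 := ded_18_1 (flp_i L137486) (flp_a L137304) L199435
theorem L199443 : sm gg N23436 = N16091 := ded_51_1 (flp_i L137319) (flp_g L137310) L199435
theorem L199461 : sm gf N16092 = N23439 := rfl
theorem L199467 : sm gi N16092 = N23440 := rfl
theorem L199473 : sm ge N23440 = N16093 := ded_44_1 (flp_i L137337) L137329 L199467
theorem L199477 : sm gh N16093 = N23441 := rfl
theorem L199486 : sm gj N16094 = N23442 := rfl
theorem L199493 : sm ge N23442 = N16240 := ded_42_1 (flp_j L138551) (flp_e L137355) L199486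
theorem L199495 : sm gf N23442 = N16095 := ded_46_1 (flp_j L137358) L137346 L199486
theorem L199497 : sm gi N23442 = N16160 := ded_53_2 (flp_j L137894) (flp_i L137353) L199486
theorem L199499 : sm gh N16094 = N23443 := rfl
theorem L199510 : sm gh N16095 = N23444 := rfl
theorem L199542 : sm gc N16097 = N23447 := rfl
theorem L199544 : sm ga N23447 = N16121 := ded_11_1 (flp_c L137571) (flp_a L137381) L199542
theorem L199549 : sm gi N16097 = N23448 := rfl
theorem L199553 : sm gb N23448 = N18138 := ded_26_1 (flp_i L154320) (flp_b L137383) L199549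
theorem L199555 : sm gd N23448 = N16098 := ded_39_1 (flp_i L137388) L137379 L199549
theorem L199572 : sm gf N16101 = N23450 := rfl
theorem L199575 : sm gd N23450 = N16103 := ded_35_1 (flp_f L137434) (flp_d L137426) L199572
theorem L199577 : sm gi N23450 = N16168 := ded_48_2 (flp_f L137978) (flp_i L137428) L199572
theorem L199580 : sm gj N16101 = N23451 := rfl
theorem L199587 : sm gh N16101 = N23452 := rfl
theorem L199589 : sm gc N23452 = N23452 := ded_32_1 (flp_h L199587) L137425 L199587
theorem L199590 : sm gg N23452 = N16102 := ded_50_1 (flp_h L137430) L137423 L199587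
theorem L199592 : sm gd N16102 = N23453 := rfl
theorem L199594 : sm gf N23453 = N23453 := ded_35_2 (flp_d L199592) L137433 L199592
theorem L199595 : sm gh N23453 = N16106 := ded_38_2 (flp_d L137459) (flp_h L94771) L94757 L137430 L199592
theorem L199597 : sm gi N16102 = N23454 := rfl
theorem L199599 : sm gc N23454 = N23454 := ded_33_1 (flp_i L199597) L137432 L199597
theorem L199600 : sm gf N23454 = N23454 := ded_48_1 (flp_i L199597) L137433 L199597
theorem L199601 : sm gh N23454 = N16172 := ded_54_1 (flp_i L137999) (flp_h L95146) (flp_i L94760) L137430 L199597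
theorem L199603 : sm gj N16103 = N23455 := rfl
theorem L199611 : sm gi N23455 = N16173 := ded_53_2 (flp_j L138003) (flp_i L137438) L199603
theorem L199613 : sm gh N16103 = N23456 := rfl
theorem L199615 : sm gc N23456 = N16117 := ded_32_1 (flp_h L137536) (flp_c L137436) L199613
theorem L199622 : sm gh N16104 = N23457 := rfl
theorem L199626 : sm ge N23457 = N16108 := ded_43_1 (flp_h L137471) (flp_e L137447) L199622
theorem L199628 : sm gj N23457 = N16105 := ded_52_1 (flp_h L137451) L137443 L199622
theorem L199630 : sm gd N16105 = N23458 := rfl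
theorem L199634 : sm gi N16105 = N23459 := rfl
theorem L199638 : sm ge N23459 = N16110 := ded_44_1 (flp_i L137486) (flp_e L137455) L199634
theorem L199649 : sm ge N16106 = N23461 := rfl
theorem L199651 : sm gd N23461 = N16111 := ded_34_1 (flp_e L137496) (flp_d L94794) (flp_e L94775) L137459 L199649
theorem L199653 : sm gi N16106 = N23462 := rfl
theorem L199655 : sm gd N23462 = N16107 := ded_39_1 (flp_i L137462) L137459 L199653
theorem L199658 : sm gd N16108 = N23463 := rfl
theorem L199660 : sm gf N23463 = N16261 := ded_35_2 (flp_d L138732) (flp_f L137475) L199658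
theorem L199675 : sm ge N16109 = N23465 := rfl
theorem L199680 : sm gi N16109 = N23466 := rfl
theorem L199683 : sm gd N23466 = N16110 := ded_39_1 (flp_i L137486) L137479 L199680
theorem L199687 : sm gg N23466 = N16112 := ded_51_1 (flp_i L137499) (flp_g L137483) L199680
theorem L199689 : sm gf N16111 = N23467 := rfl
theorem L199692 : sm ge N23467 = N16113 := ded_40_1 (flp_f L137506) (flp_e L94807) (flp_f L94796) L137496 L199689
theorem L199694 : sm gi N16111 = N23468 := rfl
theorem L199699 : sm gh N16112 = N23469 := rfl
theorem L199706 : sm gg N16113 = N23470 := rfl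
theorem L199712 : sm gi N16113 = N23471 := rfl
theorem L199735 : sm gh N16116 = N23474 := rfl
theorem L199737 : sm gb N23474 = N16125 := ded_25_1 (flp_h L137605) (flp_b L137527) L199735
theorem L199741 : sm gf N23474 = N16118 := ded_47_1 (flp_h L137545) (flp_f L137532) L199735
theorem L199753 : sm gi N16117 = N23476 := rfl
theorem L199755 : sm gb N23476 = N16127 := ded_26_1 (flp_i L137623) (flp_b L137538) L199753
theorem L199764 : sm gd N16118 = N23477 := rfl
theorem L199766 : sm gb N23477 = N16128 := ded_20_1 (flp_d L137634) (flp_b L137547) L199764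
theorem L199768 : sm gj N23477 = N16119 := ded_37_2 (flp_d L137553) (flp_j L137551) L199764
theorem L199782 : sm gc N16119 = N23479 := rfl
theorem L199788 : sm gi N16119 = N23480 := rfl
theorem L199828 : sm gd N16125 = N23485 := rfl
theorem L199834 : sm gj N23485 = N16126 := ded_37_2 (flp_d L137615) (flp_j L137613) L199828
theorem L199837 : sm gi N16125 = N23486 := rfl
theorem L199845 : sm gj N23486 = N16127 := ded_53_1 (flp_i L137623) (flp_j L137613) L199837
theorem L199847 : sm gh N23486 = N16204 := ded_54_1 (flp_i L138238) (flp_h L95313) (flp_i L94892) L137605 L199837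
theorem L199857 : sm ge N16126 = N23488 := rfl
theorem L199863 : sm gd N23488 = N16285 := ded_34_1 (flp_e L138924) (flp_d L95793) (flp_e L94898) L137615 L199857
theorem L199866 : sm gi N16126 = N23489 := rfl
theorem L199883 : sm gi N16128 = N23491 := rfl
theorem L199890 : sm gj N23491 = N16131 := ded_53_1 (flp_i L137660) (flp_j L137638) L199883
theorem L199907 : sm gh N16131 = N23494 := rfl
theorem L199909 : sm ga N23494 = N18184 := ded_17_1 (flp_h L154665) (flp_a L137662) L199907
theorem L199912 : sm gg N23494 = N16134 := ded_50_1 (flp_h L137682) (flp_g L137667) L199907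
theorem L199914 : sm gd N23494 = N16211 := ded_38_1 (flp_h L138303) L95371 (flp_h L94927) (flp_d L137664) L199907
theorem L199916 : sm gi N23494 = N23494 := ded_54_2 (flp_h L199907) (flp_i L137660) L94918 L137660 L199907
theorem L199939 : sm gc N16135 = N23498 := rfl
theorem L199943 : sm gd N23498 = N18188 := ded_27_2 (flp_c L154691) (flp_d L106627) (flp_c L94959) L137691 L199939
theorem L199945 : sm gg N16135 = N23499 := rfl
theorem L199947 : sm gb N23499 = N16145 := ded_23_1 (flp_g L137768) (flp_b L137693) L199945
theorem L199951 : sm gh N16135 = N23500 := rfl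
theorem L199953 : sm gb N23500 = N16146 := ded_25_1 (flp_h L137775) (flp_b L137693) L199951
theorem L199956 : sm gf N16136 = N23501 := rfl
theorem L199960 : sm gc N23501 = N18191 := ded_29_1 (flp_f L154709) (flp_c L137700) L199956
theorem L199988 : sm gi N16137 = N23505 := rfl
theorem L200007 : sm gd N16139 = N23507 := rfl
theorem L200011 : sm gf N23507 = N16302 := ded_35_2 (flp_d L139068) (flp_f L137727) L200007
theorem L200013 : sm gg N23507 = N16140 := ded_36_2 (flp_d L137731) (flp_g L137729) L200007
theorem L200025 : sm gc N16140 = N23509 := rfl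
theorem L200033 : sm ge N16140 = N23510 := rfl
theorem L200037 : sm gi N16140 = N23511 := rfl
theorem L200039 : sm gb N23511 = N16156 := ded_26_1 (flp_i L137858) (flp_b L137733) L200037
theorem L200045 : sm ge N16142 = N23512 := rfl
theorem L200051 : sm gg N23512 = N16307 := ded_41_2 (flp_e L139105) (flp_g L137747) L200045
theorem L200068 : sm gi N16143 = N23515 := rfl
theorem L200073 : sm ge N23515 = N16144 := ded_44_1 (flp_i L137760) L137753 L200068
theorem L200075 : sm gg N23515 = N16310 := ded_51_1 (flp_i L139127) (flp_g L137757) L200068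
theorem L200077 : sm gh N16144 = N23516 := rfl
theorem L200083 : sm gf N16145 = N23517 := rfl
theorem L200085 : sm ga N23517 = N16168 := ded_14_1 (flp_f L137978) (flp_a L137770) L200083
theorem L200088 : sm gd N23517 = N16147 := ded_35_1 (flp_f L137781) (flp_d L137773) L200083
theorem L200091 : sm gj N16145 = N23518 := rfl
theorem L200098 : sm gh N16145 = N23519 := rfl
theorem L200100 : sm ga N23519 = N16170 := ded_17_1 (flp_h L137989) (flp_a L137770) L200098
theorem L200102 : sm gc N23519 = N23519 := ded_32_1 (flp_h L200098) L137772 L200098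
theorem L200103 : sm gg N23519 = N16146 := ded_50_1 (flp_h L137775) L137768 L200098
theorem L200105 : sm gd N16146 = N23520 := rfl
theorem L200107 : sm ga N23520 = N16171 := ded_12_1 (flp_d L137994) (flp_a L137777) L200105
theorem L200110 : sm gh N23520 = N16150 := ded_38_2 (flp_d L137808) (flp_h L95007) L94993 L137775 L200105
theorem L200112 : sm gi N16146 = N23521 := rfl
theorem L200114 : sm ga N23521 = N16172 := ded_18_1 (flp_i L137999) (flp_a L137777) L200112
theorem L200116 : sm gc N23521 = N23521 := ded_33_1 (flp_i L200112) L137779 L200112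
theorem L200117 : sm gf N23521 = N23521 := ded_48_1 (flp_i L200112) L137780 L200112
theorem L200118 : sm gj N16147 = N23522 := rfl
theorem L200122 : sm gc N23522 = N16160 := ded_31_1 (flp_j L137894) (flp_c L137785) L200118
theorem L200126 : sm gf N23522 = N16148 := ded_46_1 (flp_j L137790) L137781 L200118
theorem L200128 : sm gh N16147 = N23523 := rfl
theorem L200139 : sm gh N16148 = N23524 := rfl
theorem L200147 : sm gj N23524 = N16149 := ded_52_1 (flp_h L137798) L137790 L200139
theorem L200149 : sm gd N16149 = N23525 := rfl
theorem L200151 : sm ga N23525 = N16176 := ded_12_1 (flp_d L138028) (flp_a L137800) L200149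
theorem L200153 : sm gg N23525 = N16150 := ded_36_2 (flp_d L137808) (flp_g L137806) L200149
theorem L200165 : sm gc N16150 = N23527 := rfl
theorem L200170 : sm gd N23527 = N16165 := ded_27_2 (flp_c L137947) (flp_d L95098) (flp_c L95011) L137808 L200165
theorem L200172 : sm ge N16150 = N23528 := rfl
theorem L200174 : sm ga N23528 = N16179 := ded_13_1 (flp_e L138045) (flp_a L137810) L200172
theorem L200178 : sm gi N16150 = N23529 := rfl
theorem L200180 : sm ga N23529 = N16180 := ded_18_1 (flp_i L138049) (flp_a L137810) L200178
theorem L200185 : sm gd N16152 = N23530 := rfl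
theorem L200187 : sm ga N23530 = N16181 := ded_12_1 (flp_d L138054) (flp_a L137824) L200185
theorem L200193 : sm gc N23530 = N16568 := ded_27_1 (flp_d L141334) L97573 (flp_d L95127) (flp_c L137826) L200185
theorem L200205 : sm ge N16153 = N23532 := rfl
theorem L200207 : sm ga N23532 = N16183 := ded_13_1 (flp_e L138070) (flp_a L137834) L200205
theorem L200209 : sm gc N23532 = N16570 := ded_28_1 (flp_e L141353) (flp_c L137840) L200205
theorem L200213 : sm gi N16153 = N23533 := rfl
theorem L200221 : sm gf N23533 = N16327 := ded_48_1 (flp_i L139271) (flp_f L137836) L200213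
theorem L200225 : sm gf N16155 = N23534 := rfl
theorem L200227 : sm ga N23534 = N16185 := ded_14_1 (flp_f L138086) (flp_a L137854) L200225
theorem L200249 : sm gg N16157 = N23537 := rfl
theorem L200251 : sm ga N23537 = N16188 := ded_15_1 (flp_g L138104) (flp_a L137870) L200249
theorem L200256 : sm gf N23537 = N16331 := ded_45_1 (flp_g L139308) (flp_f L96045) (flp_g L95056) L137868 L200249
theorem L200267 : sm gh N16158 = N23539 := rfl
theorem L200277 : sm gg N16160 = N23540 := rfl
theorem L200287 : sm gh N16160 = N23541 := rfl
theorem L200332 : sm gi N16162 = N23545 := rfl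
theorem L200340 : sm gj N23545 = N16164 := ded_53_1 (flp_i L137937) (flp_j L137924) L200332
theorem L200363 : sm gb N16165 = N23548 := rfl
theorem L200365 : sm ge N23548 = N16582 := ded_21_2 (flp_b L141453) (flp_e L137951) L200363
theorem L200390 : sm ge N16168 = N23551 := rfl
theorem L200394 : sm gd N23551 = N16338 := ded_34_1 (flp_e L139377) L96128 (flp_e L95154) (flp_d L137981) L200390
theorem L200396 : sm gj N16168 = N23552 := rfl
theorem L200403 : sm gh N16168 = N23553 := rfl
theorem L200406 : sm gf N23553 = N16170 := ded_47_1 (flp_h L137989) L137978 L200403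
theorem L200409 : sm gh N16169 = N23554 := rfl
theorem L200412 : sm gj N23554 = N16170 := ded_52_1 (flp_h L137989) L137984 L200409
theorem L200414 : sm gd N16170 = N23555 := rfl
theorem L200416 : sm gg N23555 = N16171 := ded_36_2 (flp_d L137994) (flp_g L137992) L200414
theorem L200418 : sm gh N23555 = N16176 := ded_38_2 (flp_d L138028) (flp_h L95163) (flp_d L95144) L137989 L200414
theorem L200420 : sm gi N16170 = N23556 := rfl
theorem L200422 : sm gc N23556 = N23556 := ded_33_1 (flp_i L200420) L137991 L200420
theorem L200423 : sm gg N23556 = N16172 := ded_51_1 (flp_i L137999) (flp_g L137992) L200420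
theorem L200425 : sm gc N16171 = N23557 := rfl
theorem L200431 : sm ge N16171 = N23558 := rfl
theorem L200433 : sm gh N23558 = N16179 := ded_43_2 (flp_e L138045) (flp_h L137997) L200431
theorem L200435 : sm gi N16171 = N23559 := rfl
theorem L200437 : sm gd N23559 = N16172 := ded_39_1 (flp_i L137999) L137994 L200435
theorem L200439 : sm gf N23559 = N23559 := ded_48_1 (flp_i L200435) L137996 L200435
theorem L200440 : sm gg N16173 = N23560 := rfl
theorem L200471 : sm gd N16175 = N23564 := rfl
theorem L200473 : sm gj N23564 = N16176 := ded_37_2 (flp_d L138028) (flp_j L138026) L200471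
theorem L200475 : sm gi N16175 = N23565 := rfl
theorem L200489 : sm ge N16176 = N23567 := rfl
theorem L200493 : sm gd N23567 = N16183 := ded_34_1 (flp_e L138070) (flp_d L95189) (flp_e L95167) L138028 L200489
theorem L200495 : sm gi N16176 = N23568 := rfl
theorem L200499 : sm gg N23568 = N16180 := ded_51_1 (flp_i L138049) (flp_g L138030) L200495
theorem L200506 : sm ge N16178 = N23570 := rfl
theorem L200508 : sm gc N23570 = N16179 := ded_28_1 (flp_e L138045) L138040 L200506
theorem L200510 : sm gd N23570 = N16597 := ded_34_1 (flp_e L141566) L97754 (flp_e L95282) (flp_d L138043) L200506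
theorem L200512 : sm gi N16178 = N23571 := rfl
theorem L200516 : sm gd N23571 = N16200 := ded_39_1 (flp_i L138204) (flp_d L138043) L200512
theorem L200519 : sm gf N16179 = N23572 := rfl
theorem L200521 : sm gd N23572 = N16185 := ded_35_1 (flp_f L138086) (flp_d L138047) L200519
theorem L200523 : sm ge N23572 = N23572 := ded_40_1 (flp_f L200519) (flp_e L138045) L95173 L138045 L200519
theorem L200530 : sm gh N16180 = N23574 := rfl
theorem L200533 : sm ge N16181 = N23575 := rfl
theorem L200535 : sm gc N23575 = N16602 := ded_28_1 (flp_e L141598) (flp_c L138060) L200533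
theorem L200537 : sm gj N23575 = N16183 := ded_42_2 (flp_e L138070) (flp_j L138058) L200533
theorem L200549 : sm gf N16183 = N23577 := rfl
theorem L200551 : sm gc N23577 = N16604 := ded_29_1 (flp_f L141612) (flp_c L138072) L200549
theorem L200553 : sm ge N23577 = N16359 := ded_40_1 (flp_f L139522) (flp_e L96219) (flp_f L95191) L138070 L200549
theorem L200555 : sm gi N16183 = N23578 := rfl
theorem L200559 : sm ge N23578 = N16184 := ded_44_1 (flp_i L138076) L138070 L200555
theorem L200561 : sm gg N23578 = N16186 := ded_51_1 (flp_i L138092) (flp_g L138074) L200555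
theorem L200571 : sm gg N16185 = N23580 := rfl
theorem L200573 : sm gc N23580 = N16607 := ded_30_1 (flp_g L141632) (flp_c L138088) L200571
theorem L200575 : sm ge N23580 = N16188 := ded_41_1 (flp_g L138104) (flp_e L138090) L200571
theorem L200577 : sm gi N16185 = N23581 := rfl
theorem L200591 : sm gj N16188 = N23583 := rfl
theorem L200593 : sm gc N23583 = N16610 := ded_31_1 (flp_j L141649) (flp_c L138106) L200591
theorem L200595 : sm gd N23583 = N23583 := ded_37_1 (flp_j L200591) L138108 L200591
theorem L200596 : sm gf N23583 = N16365 := ded_46_1 (flp_j L139562) (flp_f L138109) L200591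
theorem L200598 : sm gi N16188 = N23584 := rfl
theorem L200605 : sm gg N23584 = N16189 := ded_51_1 (flp_i L138111) L138104 L200598
theorem L200607 : sm gh N16189 = N23585 := rfl
theorem L200613 : sm gd N16190 = N23586 := rfl
theorem L200615 : sm gg N23586 = N16368 := ded_36_2 (flp_d L139582) (flp_g L138124) L200613
theorem L200671 : sm gi N16195 = N23593 := rfl
theorem L200681 : sm gb N16197 = N23594 := rfl
theorem L200683 : sm ge N23594 = N16616 := ded_21_2 (flp_b L141693) (flp_e L138181) L200681
theorem L200688 : sm gc N23594 = N16209 := ded_19_2 (flp_b L138286) (flp_c L95358) (flp_b L95265) L138179 L200681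
theorem L200760 : sm gi N16203 = N23603 := rfl
theorem L200762 : sm ga N23603 = N18293 := ded_18_1 (flp_i L155500) (flp_a L138230) L200760
theorem L200769 : sm gj N23603 = N16206 := ded_53_1 (flp_i L138257) (flp_j L138234) L200760
theorem L200788 : sm gh N16206 = N23606 := rfl
theorem L200797 : sm gb N16207 = N23607 := rfl
theorem L200799 : sm ge N23607 = N16622 := ded_21_2 (flp_b L141739) (flp_e L138271) L200797
theorem L200801 : sm gj N23607 = N16209 := ded_24_2 (flp_b L138286) (flp_j L138273) L200797
theorem L200804 : sm gi N16207 = N23608 := rfl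
theorem L200812 : sm gj N23608 = N16210 := ded_53_1 (flp_i L138293) (flp_j L138273) L200804
theorem L200823 : sm ga N16209 = N23610 := rfl
theorem L200832 : sm gi N16209 = N23611 := rfl
theorem L200836 : sm ge N23611 = N16626 := ded_44_1 (flp_i L141774) (flp_e L138288) L200832
theorem L200838 : sm gg N23611 = N16213 := ded_51_1 (flp_i L138320) (flp_g L138290) L200832
theorem L200840 : sm gh N16210 = N23612 := rfl
theorem L200848 : sm gg N23612 = N16214 := ded_50_1 (flp_h L138327) (flp_g L138301) L200840
theorem L200860 : sm gh N16213 = N23614 := rfl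
theorem L200874 : sm gc N16215 = N23616 := rfl
theorem L200884 : sm gg N16215 = N23617 := rfl
theorem L200886 : sm gb N23617 = N16225 := ded_23_1 (flp_g L138419) (flp_b L138339) L200884
theorem L200890 : sm gi N23617 = N16294 := ded_51_2 (flp_g L139005) (flp_i L138343) L200884
theorem L200892 : sm gh N16215 = N23618 := rfl
theorem L200894 : sm gb N23618 = N16226 := ded_25_1 (flp_h L138429) (flp_b L138339) L200892
theorem L200907 : sm gj N16216 = N23620 := rfl
theorem L200909 : sm gb N23620 = N16228 := ded_24_1 (flp_j L138446) (flp_b L138347) L200907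
theorem L200911 : sm gc N23620 = N18310 := ded_31_1 (flp_j L155628) (flp_c L138349) L200907
theorem L200979 : sm ge N16220 = N23628 := rfl
theorem L200981 : sm gb N23628 = N16235 := ded_21_1 (flp_e L138511) (flp_b L138384) L200979
theorem L201007 : sm gf N16223 = N23632 := rfl
theorem L201009 : sm gb N23632 = N16237 := ded_22_1 (flp_f L138527) (flp_b L138408) L201007
theorem L201013 : sm gi N16223 = N23633 := rfl
theorem L201018 : sm ge N23633 = N16224 := ded_44_1 (flp_i L138412) L138406 L201013
theorem L201021 : sm gh N16224 = N23634 := rfl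
theorem L201028 : sm gf N16225 = N23635 := rfl
theorem L201030 : sm ga N23635 = N16248 := ded_14_1 (flp_f L138639) (flp_a L138421) L201028
theorem L201032 : sm gc N23635 = N16385 := ded_29_1 (flp_f L139736) (flp_c L138423) L201028
theorem L201034 : sm gd N23635 = N16227 := ded_35_1 (flp_f L138437) (flp_d L138425) L201028
theorem L201036 : sm gi N23635 = N16312 := ded_48_2 (flp_f L139140) (flp_i L138427) L201028
theorem L201038 : sm gg N23635 = N23635 := ded_45_2 (flp_f L201028) (flp_g L138419) L95446 L138419 L201028
theorem L201039 : sm gj N16225 = N23636 := rfl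
theorem L201041 : sm ga N23636 = N16249 := ded_16_1 (flp_j L138648) (flp_a L138421) L201039
theorem L201043 : sm gc N23636 = N16386 := ded_31_1 (flp_j L139745) (flp_c L138423) L201039
theorem L201045 : sm gd N23636 = N16228 := ded_37_1 (flp_j L138446) (flp_d L138425) L201039
theorem L201047 : sm gi N23636 = N16313 := ded_53_2 (flp_j L139149) (flp_i L138427) L201039
theorem L201049 : sm gg N23636 = N23636 := ded_49_1 (flp_j L201039) (flp_g L138419) L95447 L138419 L201039
theorem L201050 : sm gh N16225 = N23637 := rfl
theorem L201052 : sm ga N23637 = N16250 := ded_17_1 (flp_h L138657) (flp_a L138421) L201050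
theorem L201054 : sm gc N23637 = N16387 := ded_32_1 (flp_h L139754) (flp_c L138423) L201050
theorem L201056 : sm gg N23637 = N16226 := ded_50_1 (flp_h L138429) L138419 L201050
theorem L201058 : sm gd N16226 = N23638 := rfl
theorem L201060 : sm ga N23638 = N16251 := ded_12_1 (flp_d L138663) (flp_a L138431) L201058
theorem L201064 : sm gh N23638 = N16230 := ded_38_2 (flp_d L138467) (flp_h L95462) L95442 L138429 L201058
theorem L201066 : sm gi N16226 = N23639 := rfl
theorem L201068 : sm ga N23639 = N16252 := ded_18_1 (flp_i L138669) (flp_a L138431) L201066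
theorem L201070 : sm gc N23639 = N16389 := ded_33_1 (flp_i L139768) (flp_c L138433) L201066
theorem L201072 : sm gf N23639 = N23639 := ded_48_1 (flp_i L201066) L138435 L201066
theorem L201073 : sm gj N23639 = N23639 := ded_53_1 (flp_i L201066) L138436 L201066
theorem L201074 : sm gh N23639 = N16316 := ded_54_1 (flp_i L139175) (flp_h L95951) (flp_i L95448) L138429 L201066
theorem L201076 : sm gj N16227 = N23640 := rfl
theorem L201082 : sm gf N23640 = N16228 := ded_46_1 (flp_j L138446) L138437 L201076
theorem L201086 : sm gh N16227 = N23641 := rfl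
theorem L201088 : sm ga N23641 = N16254 := ded_17_1 (flp_h L138685) (flp_a L138439) L201086
theorem L201106 : sm gd N16229 = N23643 := rfl
theorem L201108 : sm ga N23643 = N16256 := ded_12_1 (flp_d L138701) (flp_a L138459) L201106
theorem L201110 : sm gg N23643 = N16230 := ded_36_2 (flp_d L138467) (flp_g L138465) L201106
theorem L201124 : sm gc N16230 = N23645 := rfl
theorem L201126 : sm ga N23645 = N16258 := ded_11_1 (flp_c L138715) (flp_a L138469) L201124
theorem L201130 : sm gd N23645 = N16245 := ded_27_2 (flp_c L138606) (flp_d L95557) (flp_c L95466) L138467 L201124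
theorem L201132 : sm ge N16230 = N23646 := rfl
theorem L201134 : sm ga N23646 = N16259 := ded_13_1 (flp_e L138721) (flp_a L138469) L201132
theorem L201137 : sm gd N23646 = N16235 := ded_34_1 (flp_e L138511) (flp_d L95489) (flp_e L95468) L138467 L201132
theorem L201139 : sm gi N16230 = N23647 := rfl
theorem L201143 : sm gd N23647 = N16231 := ded_39_1 (flp_i L138473) L138467 L201139
theorem L201147 : sm gd N16232 = N23648 := rfl
theorem L201149 : sm ga N23648 = N16261 := ded_12_1 (flp_d L138732) (flp_a L138487) L201147
theorem L201152 : sm gj N23648 = N16233 := ded_37_2 (flp_d L138494) (flp_j L138492) L201147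
theorem L201166 : sm ge N16233 = N23650 := rfl
theorem L201173 : sm gi N16233 = N23651 := rfl
theorem L201190 : sm gi N16235 = N23653 := rfl
theorem L201195 : sm ge N23653 = N16236 := ded_44_1 (flp_i L138517) L138511 L201190
theorem L201198 : sm gh N16236 = N23654 := rfl
theorem L201208 : sm gg N16237 = N23655 := rfl
theorem L201210 : sm ga N23655 = N16268 := ded_15_1 (flp_g L138779) (flp_a L138529) L201208
theorem L201214 : sm gi N16237 = N23656 := rfl
theorem L201231 : sm gg N16240 = N23658 := rfl
theorem L201233 : sm ga N23658 = N16271 := ded_15_1 (flp_g L138796) (flp_a L138553) L201231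
theorem L201235 : sm gb N23658 = N18348 := ded_23_1 (flp_g L155953) (flp_b L138555) L201231
theorem L201253 : sm gd N16241 = N23660 := rfl
theorem L201255 : sm ga N23660 = N16273 := ded_12_1 (flp_d L138814) (flp_a L138565) L201253
theorem L201259 : sm gf N23660 = N16243 := ded_35_2 (flp_d L138583) (flp_f L138569) L201253
theorem L201262 : sm gh N23660 = N16402 := ded_38_2 (flp_d L139892) (flp_h L96507) (flp_d L95529) L138563 L201253
theorem L201275 : sm gd N16242 = N23662 := rfl
theorem L201277 : sm ga N23662 = N16275 := ded_12_1 (flp_d L138832) (flp_a L138574) L201275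
theorem L201279 : sm gb N23662 = N18352 := ded_20_1 (flp_d L155989) (flp_b L138576) L201275
theorem L201282 : sm gj N23662 = N16243 := ded_37_2 (flp_d L138583) (flp_j L138581) L201275
theorem L201285 : sm gh N23662 = N16403 := ded_38_2 (flp_d L139902) (flp_h L96518) (flp_d L95540) L138572 L201275
theorem L201300 : sm gc N16243 = N23664 := rfl
theorem L201302 : sm ga N23664 = N16277 := ded_11_1 (flp_c L138853) (flp_a L138585) L201300
theorem L201309 : sm gi N16243 = N23665 := rfl
theorem L201315 : sm gd N23665 = N16244 := ded_39_1 (flp_i L138594) L138583 L201309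
theorem L201321 : sm gb N16245 = N23666 := rfl
theorem L201326 : sm gh N23666 = N16405 := ded_25_2 (flp_b L139921) (flp_h L138613) L201321
theorem L201328 : sm gc N23666 = N18356 := ded_19_2 (flp_b L156029) (flp_c L107503) (flp_b L95561) L138606 L201321
theorem L201330 : sm gi N16245 = N23667 := rfl
theorem L201334 : sm gc N23667 = N16246 := ded_33_1 (flp_i L138615) L138606 L201330
theorem L201340 : sm ge N16248 = N23668 := rfl
theorem L201342 : sm gc N23668 = N16406 := ded_28_1 (flp_e L139929) (flp_c L138641) L201340
theorem L201344 : sm gg N23668 = N23668 := ded_41_2 (flp_e L201340) L138647 L201340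
theorem L201345 : sm gi N23668 = N16338 := ded_44_2 (flp_e L139377) (flp_i L138645) L201340
theorem L201347 : sm gj N16248 = N23669 := rfl
theorem L201349 : sm gc N23669 = N16407 := ded_31_1 (flp_j L139936) (flp_c L138641) L201347
theorem L201353 : sm gf N23669 = N16249 := ded_46_1 (flp_j L138648) L138639 L201347
theorem L201357 : sm gh N16248 = N23670 := rfl
theorem L201359 : sm gc N23670 = N16408 := ded_32_1 (flp_h L139945) (flp_c L138641) L201357
theorem L201361 : sm gf N23670 = N16250 := ded_47_1 (flp_h L138657) L138639 L201357
theorem L201363 : sm gg N23670 = N23670 := ded_50_1 (flp_h L201357) L138647 L201357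
theorem L201364 : sm gh N16249 = N23671 := rfl
theorem L201366 : sm gc N23671 = N16409 := ded_32_1 (flp_h L139951) (flp_c L138650) L201364
theorem L201368 : sm gg N23671 = N23671 := ded_50_1 (flp_h L201364) L138656 L201364
theorem L201369 : sm gj N23671 = N16250 := ded_52_1 (flp_h L138657) L138648 L201364
theorem L201371 : sm gd N16250 = N23672 := rfl
theorem L201373 : sm gg N23672 = N16251 := ded_36_2 (flp_d L138663) (flp_g L138661) L201371
theorem L201375 : sm gh N23672 = N16256 := ded_38_2 (flp_d L138701) (flp_h L95631) (flp_d L95605) L138657 L201371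
theorem L201377 : sm gi N16250 = N23673 := rfl
theorem L201379 : sm gc N23673 = N16411 := ded_33_1 (flp_i L139964) (flp_c L138659) L201377
theorem L201381 : sm gg N23673 = N16252 := ded_51_1 (flp_i L138669) (flp_g L138661) L201377
theorem L201383 : sm gh N23673 = N16343 := ded_54_1 (flp_i L139411) (flp_h L96138) (flp_i L95607) L138657 L201377
theorem L201385 : sm gc N16251 = N23674 := rfl
theorem L201387 : sm gf N23674 = N23674 := ded_29_2 (flp_c L201385) L138665 L201385
theorem L201388 : sm gj N23674 = N23674 := ded_31_2 (flp_c L201385) L138666 L201385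
theorem L201389 : sm gh N23674 = N16258 := ded_32_2 (flp_c L138715) (flp_h L138667) L201385
theorem L201391 : sm gd N23674 = N16412 := ded_27_2 (flp_c L139971) (flp_d L96569) (flp_c L95611) L138663 L201385
theorem L201393 : sm ge N16251 = N23675 := rfl
theorem L201396 : sm gh N23675 = N16259 := ded_43_2 (flp_e L138721) (flp_h L138667) L201393
theorem L201398 : sm gi N16251 = N23676 := rfl
theorem L201400 : sm gd N23676 = N16252 := ded_39_1 (flp_i L138669) L138663 L201398
theorem L201402 : sm gf N23676 = N23676 := ded_48_1 (flp_i L201398) L138665 L201398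
theorem L201403 : sm gj N23676 = N23676 := ded_53_1 (flp_i L201398) L138666 L201398
theorem L201404 : sm gg N16253 = N23677 := rfl
theorem L201406 : sm gc N23677 = N16271 := ded_30_1 (flp_g L138796) (flp_c L138679) L201404
theorem L201412 : sm gh N16253 = N23678 := rfl
theorem L201418 : sm gj N23678 = N16254 := ded_52_1 (flp_h L138685) L138677 L201412
theorem L201420 : sm gd N16254 = N23679 := rfl
theorem L201422 : sm gf N23679 = N16256 := ded_35_2 (flp_d L138701) (flp_f L138689) L201420
theorem L201425 : sm gi N16254 = N23680 := rfl
theorem L201432 : sm gh N23680 = N16349 := ded_54_1 (flp_i L139450) (flp_h L96163) (flp_i L95619) L138685 L201425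
theorem L201434 : sm gd N16255 = N23681 := rfl
theorem L201437 : sm gj N23681 = N16256 := ded_37_2 (flp_d L138701) (flp_j L138699) L201434
theorem L201450 : sm gc N16256 = N23683 := rfl
theorem L201452 : sm gg N23683 = N16258 := ded_30_2 (flp_c L138715) (flp_g L138703) L201450
theorem L201454 : sm gd N23683 = N16277 := ded_27_2 (flp_c L138853) (flp_d L95729) (flp_c L95633) L138701 L201450
theorem L201456 : sm ge N16256 = N23684 := rfl
theorem L201462 : sm gi N16256 = N23685 := rfl
theorem L201464 : sm gd N23685 = N16257 := ded_39_1 (flp_i L138705) L138701 L201462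
theorem L201466 : sm gg N23685 = N16260 := ded_51_1 (flp_i L138726) (flp_g L138703) L201462
theorem L201468 : sm gb N16258 = N23686 := rfl
theorem L201470 : sm gd N23686 = N16279 := ded_20_2 (flp_b L138870) (flp_d L138719) L201468
theorem L201474 : sm ge N16258 = N23687 := rfl
theorem L201476 : sm gc N23687 = N16259 := ded_28_1 (flp_e L138721) L138715 L201474
theorem L201480 : sm gi N16258 = N23688 := rfl
theorem L201484 : sm gd N23688 = N16280 := ded_39_1 (flp_i L138879) (flp_d L138719) L201480
theorem L201488 : sm gf N16259 = N23689 := rfl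
theorem L201490 : sm gd N23689 = N16265 := ded_35_1 (flp_f L138759) (flp_d L138724) L201488
theorem L201494 : sm gi N16259 = N23690 := rfl
theorem L201501 : sm gh N16260 = N23691 := rfl
theorem L201505 : sm gd N23691 = N16356 := ded_38_1 (flp_h L139501) L96201 (flp_h L95651) (flp_d L138728) L201501
theorem L201507 : sm ge N16261 = N23692 := rfl
theorem L201511 : sm gj N23692 = N16263 := ded_42_2 (flp_e L138747) (flp_j L138735) L201507
theorem L201513 : sm gi N16261 = N23693 := rfl
theorem L201516 : sm gd N23693 = N16262 := ded_39_1 (flp_i L138738) L138732 L201513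
theorem L201521 : sm gf N16263 = N23694 := rfl
theorem L201524 : sm gi N16263 = N23695 := rfl
theorem L201529 : sm gg N23695 = N16266 := ded_51_1 (flp_i L138765) (flp_g L138750) L201524
theorem L201538 : sm gg N16265 = N23697 := rfl
theorem L201543 : sm gi N16265 = N23698 := rfl
theorem L201548 : sm gf N23698 = N16266 := ded_48_1 (flp_i L138765) L138759 L201543
theorem L201551 : sm gh N16266 = N23699 := rfl
theorem L201557 : sm gj N16268 = N23700 := rfl
theorem L201568 : sm gh N16269 = N23702 := rfl
theorem L201571 : sm gf N23702 = N16270 := ded_47_1 (flp_h L138790) (flp_f L138787) L201568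
theorem L201574 : sm gd N16270 = N23703 := rfl
theorem L201577 : sm ge N23703 = N16368 := ded_34_2 (flp_d L139582) L96271 (flp_d L95701) (flp_e L138793) L201574
theorem L201580 : sm gh N16271 = N23704 := rfl
theorem L201582 : sm gb N23704 = N16281 := ded_25_1 (flp_h L138887) (flp_b L138798) L201580
theorem L201585 : sm gg N23704 = N16272 := ded_50_1 (flp_h L138806) L138796 L201580
theorem L201588 : sm gd N16272 = N23705 := rfl
theorem L201590 : sm gb N23705 = N16282 := ded_20_1 (flp_d L138895) (flp_b L138808) L201588
theorem L201598 : sm gi N16272 = N23706 := rfl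
theorem L201602 : sm gf N23706 = N16276 := ded_48_1 (flp_i L138842) (flp_f L138810) L201598
theorem L201606 : sm gh N23706 = N16370 := ded_54_1 (flp_i L139595) (flp_h L96282) (flp_i L95711) L138806 L201598
theorem L201608 : sm gc N16273 = N23707 := rfl
theorem L201610 : sm gf N23707 = N16277 := ded_29_2 (flp_c L138853) (flp_f L138818) L201608
theorem L201613 : sm gh N23707 = N16430 := ded_32_2 (flp_c L140112) (flp_h L138821) L201608
theorem L201615 : sm ge N16273 = N23708 := rfl
theorem L201617 : sm gb N23708 = N16285 := ded_21_1 (flp_e L138924) (flp_b L138816) L201615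
theorem L201620 : sm gh N23708 = N16431 := ded_43_2 (flp_e L140118) (flp_h L138821) L201615
theorem L201623 : sm gi N16273 = N23709 := rfl
theorem L201633 : sm gc N16275 = N23710 := rfl
theorem L201637 : sm gj N23710 = N16277 := ded_31_2 (flp_c L138853) (flp_j L138837) L201633
theorem L201652 : sm gb N16277 = N23712 := rfl
theorem L201655 : sm gg N23712 = N16279 := ded_23_2 (flp_b L138870) (flp_g L138856) L201652
theorem L201657 : sm gh N23712 = N16433 := ded_25_2 (flp_b L140133) (flp_h L138858) L201652
theorem L201659 : sm gc N23712 = N16289 := ded_19_2 (flp_b L138963) (flp_c L95832) (flp_b L95731) L138853 L201652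
theorem L201661 : sm gi N16277 = N23713 := rfl
theorem L201666 : sm gg N23713 = N16280 := ded_51_1 (flp_i L138879) (flp_g L138856) L201661
theorem L201669 : sm ga N16279 = N23714 := rfl
theorem L201671 : sm gc N23714 = N16291 := ded_11_2 (flp_a L138980) (flp_c L138877) L201669
theorem L201688 : sm gd N16281 = N23716 := rfl
theorem L201690 : sm ga N23716 = N18406 := ded_12_1 (flp_d L156406) (flp_a L138889) L201688
theorem L201696 : sm gh N23716 = N16435 := ded_38_2 (flp_d L140149) (flp_h L96715) (flp_d L95779) L138887 L201688
theorem L201698 : sm gi N16281 = N23717 := rfl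
theorem L201708 : sm gc N16282 = N23718 := rfl
theorem L201714 : sm gj N23718 = N16284 := ded_31_2 (flp_c L138915) (flp_j L138901) L201708
theorem L201716 : sm gh N23718 = N16436 := ded_32_2 (flp_c L140158) (flp_h L138903) L201708
theorem L201727 : sm gi N16282 = N23720 := rfl
theorem L201738 : sm gb N16284 = N23721 := rfl
theorem L201740 : sm gf N23721 = N16289 := ded_22_2 (flp_b L138963) (flp_f L138919) L201738
theorem L201745 : sm ge N16284 = N23722 := rfl
theorem L201749 : sm gc N23722 = N16285 := ded_28_1 (flp_e L138924) L138915 L201745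
theorem L201755 : sm gi N16284 = N23723 := rfl
theorem L201765 : sm gi N16285 = N23724 := rfl
theorem L201802 : sm gi N16289 = N23728 := rfl
theorem L201820 : sm gg N16293 = N23730 := rfl
theorem L201822 : sm gb N23730 = N16442 := ded_23_1 (flp_g L140210) (flp_b L139001) L201820
theorem L201824 : sm gc N23730 = N16294 := ded_30_1 (flp_g L139005) L138997 L201820
theorem L201828 : sm gh N16293 = N23731 := rfl
theorem L201830 : sm gb N23731 = N16443 := ded_25_1 (flp_h L140217) (flp_b L139001) L201828
theorem L201832 : sm gc N23731 = N16295 := ded_32_1 (flp_h L139011) L138997 L201828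
theorem L201836 : sm gf N16294 = N23732 := rfl
theorem L201838 : sm gb N23732 = N16312 := ded_22_1 (flp_f L139140) (flp_b L139007) L201836
theorem L201843 : sm gj N16294 = N23733 := rfl
theorem L201845 : sm gb N23733 = N16313 := ded_24_1 (flp_j L139149) (flp_b L139007) L201843
theorem L201850 : sm gh N16294 = N23734 := rfl
theorem L201852 : sm gb N23734 = N16314 := ded_25_1 (flp_h L139158) (flp_b L139007) L201850
theorem L201854 : sm gg N23734 = N16295 := ded_50_1 (flp_h L139011) L139005 L201850
theorem L201864 : sm gi N16295 = N23736 := rfl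
theorem L201866 : sm gb N23736 = N16316 := ded_26_1 (flp_i L139175) (flp_b L139013) L201864
theorem L201870 : sm gj N16296 = N23737 := rfl
theorem L201874 : sm gc N23737 = N18427 := ded_31_1 (flp_j L156569) (flp_c L139021) L201870
theorem L201876 : sm gf N23737 = N16297 := ded_46_1 (flp_j L139024) L139017 L201870
theorem L201887 : sm gh N16297 = N23739 := rfl
theorem L201889 : sm gb N23739 = N16319 := ded_25_1 (flp_h L139200) (flp_b L139026) L201887
theorem L201896 : sm gj N23739 = N16298 := ded_52_1 (flp_h L139033) L139024 L201887
theorem L201898 : sm gd N16298 = N23740 := rfl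
theorem L201902 : sm gg N23740 = N16299 := ded_36_2 (flp_d L139043) (flp_g L139041) L201898
theorem L201914 : sm gc N16299 = N23742 := rfl
theorem L201921 : sm ge N16299 = N23743 := rfl
theorem L201936 : sm gd N16301 = N23745 := rfl
theorem L201941 : sm gj N23745 = N16302 := ded_37_2 (flp_d L139068) (flp_j L139066) L201936
theorem L201952 : sm gc N16302 = N23747 := rfl
theorem L201954 : sm gg N23747 = N16304 := ded_30_2 (flp_c L139082) (flp_g L139072) L201952
theorem L201958 : sm gd N23747 = N18437 := ded_27_2 (flp_c L156640) (flp_d L107941) (flp_c L95903) L139068 L201952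
theorem L201960 : sm ge N16302 = N23748 := rfl
theorem L201966 : sm gi N16302 = N23749 := rfl
theorem L201974 : sm ge N16304 = N23750 := rfl
theorem L201992 : sm gf N16305 = N23752 := rfl
theorem L201999 : sm gi N16305 = N23753 := rfl
theorem L202003 : sm ge N23753 = N16306 := ded_44_1 (flp_i L139096) L139091 L201999
theorem L202006 : sm gh N16306 = N23754 := rfl
theorem L202049 : sm gi N16309 = N23760 := rfl
theorem L202051 : sm gb N23760 = N16332 := ded_26_1 (flp_i L139315) (flp_b L139123) L202049
theorem L202064 : sm ge N16312 = N23762 := rfl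
theorem L202066 : sm ga N23762 = N16338 := ded_13_1 (flp_e L139377) (flp_a L139142) L202064
theorem L202068 : sm gc N23762 = N16449 := ded_28_1 (flp_e L140267) (flp_c L139144) L202064
theorem L202070 : sm gg N23762 = N23762 := ded_41_2 (flp_e L202064) L139148 L202064
theorem L202071 : sm gj N16312 = N23763 := rfl
theorem L202073 : sm ga N23763 = N16339 := ded_16_1 (flp_j L139382) (flp_a L139142) L202071
theorem L202075 : sm gc N23763 = N16450 := ded_31_1 (flp_j L140273) (flp_c L139144) L202071
theorem L202079 : sm gf N23763 = N16313 := ded_46_1 (flp_j L139149) L139140 L202071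
theorem L202081 : sm gh N16312 = N23764 := rfl
theorem L202083 : sm ga N23764 = N16340 := ded_17_1 (flp_h L139390) (flp_a L139142) L202081
theorem L202085 : sm gc N23764 = N16451 := ded_32_1 (flp_h L140281) (flp_c L139144) L202081
theorem L202087 : sm gf N23764 = N16314 := ded_47_1 (flp_h L139158) L139140 L202081
theorem L202089 : sm gg N23764 = N23764 := ded_50_1 (flp_h L202081) L139148 L202081
theorem L202090 : sm gh N16313 = N23765 := rfl
theorem L202092 : sm ga N23765 = N16341 := ded_17_1 (flp_h L139397) (flp_a L139151) L202090
theorem L202094 : sm gc N23765 = N16452 := ded_32_1 (flp_h L140289) (flp_c L139153) L202090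
theorem L202096 : sm gg N23765 = N23765 := ded_50_1 (flp_h L202090) L139157 L202090
theorem L202097 : sm gj N23765 = N16314 := ded_52_1 (flp_h L139158) L139149 L202090
theorem L202099 : sm gd N16314 = N23766 := rfl
theorem L202101 : sm ga N23766 = N16342 := ded_12_1 (flp_d L139404) (flp_a L139160) L202099
theorem L202103 : sm gg N23766 = N16315 := ded_36_2 (flp_d L139166) (flp_g L139164) L202099
theorem L202108 : sm gi N16314 = N23767 := rfl
theorem L202110 : sm ga N23767 = N16343 := ded_18_1 (flp_i L139411) (flp_a L139160) L202108
theorem L202112 : sm gc N23767 = N16453 := ded_33_1 (flp_i L140297) (flp_c L139162) L202108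
theorem L202114 : sm gg N23767 = N16316 := ded_51_1 (flp_i L139175) (flp_g L139164) L202108
theorem L202116 : sm ge N16315 = N23768 := rfl
theorem L202118 : sm ga N23768 = N16344 := ded_13_1 (flp_e L139417) (flp_a L139168) L202116
theorem L202122 : sm gh N23768 = N16322 := ded_43_2 (flp_e L139228) (flp_h L139173) L202116
theorem L202124 : sm gi N16315 = N23769 := rfl
theorem L202126 : sm ga N23769 = N16345 := ded_18_1 (flp_i L139423) (flp_a L139168) L202124
theorem L202129 : sm gd N23769 = N16316 := ded_39_1 (flp_i L139175) L139166 L202124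
theorem L202151 : sm gd N16318 = N23772 := rfl
theorem L202153 : sm ga N23772 = N16348 := ded_12_1 (flp_d L139444) (flp_a L139193) L202151
theorem L202168 : sm gd N16319 = N23774 := rfl
theorem L202170 : sm ga N23774 = N16350 := ded_12_1 (flp_d L139457) (flp_a L139202) L202168
theorem L202205 : sm gf N16322 = N23778 := rfl
theorem L202207 : sm ga N23778 = N16354 := ded_14_1 (flp_f L139486) (flp_a L139230) L202205
theorem L202231 : sm ge N16324 = N23781 := rfl
theorem L202233 : sm ga N23781 = N16357 := ded_13_1 (flp_e L139506) (flp_a L139247) L202231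
theorem L202238 : sm gj N23781 = N16326 := ded_42_2 (flp_e L139263) (flp_j L139250) L202231
theorem L202240 : sm gi N16324 = N23782 := rfl
theorem L202249 : sm gj N23782 = N16327 := ded_53_1 (flp_i L139271) (flp_j L139250) L202240
theorem L202251 : sm gf N16326 = N23783 := rfl
theorem L202253 : sm ga N23783 = N16359 := ded_14_1 (flp_f L139522) (flp_a L139265) L202251
theorem L202255 : sm gc N23783 = N16650 := ded_29_1 (flp_f L141974) (flp_c L139267) L202251
theorem L202267 : sm gh N16327 = N23785 := rfl
theorem L202275 : sm gg N16328 = N23786 := rfl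
theorem L202277 : sm ga N23786 = N16362 := ded_15_1 (flp_g L139540) (flp_a L139283) L202275
theorem L202281 : sm ge N23786 = N16331 := ded_41_1 (flp_g L139308) (flp_e L139288) L202275
theorem L202294 : sm gh N16329 = N23788 := rfl
theorem L202303 : sm gj N16331 = N23789 := rfl
theorem L202305 : sm ga N23789 = N16365 := ded_16_1 (flp_j L139562) (flp_a L139310) L202303
theorem L202311 : sm gi N16331 = N23790 := rfl
theorem L202318 : sm gg N23790 = N16332 := ded_51_1 (flp_i L139315) L139308 L202311
theorem L202320 : sm gh N16332 = N23791 := rfl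
theorem L202324 : sm gc N23791 = N16658 := ded_32_1 (flp_h L142034) (flp_c L139319) L202320
theorem L202357 : sm gj N16338 = N23795 := rfl
theorem L202359 : sm gc N23795 = N16455 := ded_31_1 (flp_j L140314) (flp_c L139379) L202357
theorem L202361 : sm ge N23795 = N16339 := ded_42_1 (flp_j L139382) L139377 L202357
theorem L202363 : sm gh N16338 = N23796 := rfl
theorem L202365 : sm gc N23796 = N16456 := ded_32_1 (flp_h L140320) (flp_c L139379) L202363
theorem L202367 : sm ge N23796 = N16340 := ded_43_1 (flp_h L139390) L139377 L202363
theorem L202369 : sm gg N23796 = N23796 := ded_50_1 (flp_h L202363) L139381 L202363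
theorem L202378 : sm gh N16339 = N23798 := rfl
theorem L202380 : sm gc N23798 = N16458 := ded_32_1 (flp_h L140333) (flp_c L139384) L202378
theorem L202382 : sm gf N23798 = N16341 := ded_47_1 (flp_h L139397) (flp_f L139388) L202378
theorem L202384 : sm gj N23798 = N16340 := ded_52_1 (flp_h L139390) L139382 L202378
theorem L202386 : sm gd N16340 = N23799 := rfl
theorem L202388 : sm gf N23799 = N16342 := ded_35_2 (flp_d L139404) (flp_f L139394) L202386
theorem L202392 : sm gh N23799 = N16348 := ded_38_2 (flp_d L139444) (flp_h L96163) (flp_d L96128) L139390 L202386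
theorem L202394 : sm gi N16340 = N23800 := rfl
theorem L202396 : sm gc N23800 = N16459 := ded_33_1 (flp_i L140341) (flp_c L139392) L202394
theorem L202398 : sm gf N23800 = N16343 := ded_48_1 (flp_i L139411) (flp_f L139394) L202394
theorem L202400 : sm gg N23800 = N23800 := ded_51_1 (flp_i L202394) L139396 L202394
theorem L202401 : sm gd N16341 = N23801 := rfl
theorem L202404 : sm gj N23801 = N16342 := ded_37_2 (flp_d L139404) (flp_j L139402) L202401
theorem L202409 : sm gi N16341 = N23802 := rfl
theorem L202411 : sm gc N23802 = N16460 := ded_33_1 (flp_i L140348) (flp_c L139399) L202409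
theorem L202413 : sm gg N23802 = N23802 := ded_51_1 (flp_i L202409) L139401 L202409
theorem L202414 : sm gj N23802 = N16343 := ded_53_1 (flp_i L139411) (flp_j L139402) L202409
theorem L202416 : sm ge N16342 = N23803 := rfl
theorem L202418 : sm gc N23803 = N23803 := ded_28_1 (flp_e L202416) L139408 L202416
theorem L202419 : sm gg N23803 = N16344 := ded_41_2 (flp_e L139417) (flp_g L139406) L202416
theorem L202421 : sm gh N23803 = N16352 := ded_43_2 (flp_e L139472) (flp_h L139409) L202416
theorem L202423 : sm gi N16342 = N23804 := rfl
theorem L202425 : sm gc N23804 = N23804 := ded_33_1 (flp_i L202423) L139408 L202423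
theorem L202426 : sm gd N23804 = N16343 := ded_39_1 (flp_i L139411) L139404 L202423
theorem L202428 : sm gg N23804 = N16345 := ded_51_1 (flp_i L139423) (flp_g L139406) L202423
theorem L202430 : sm gf N16344 = N23805 := rfl
theorem L202432 : sm gc N23805 = N23805 := ded_29_1 (flp_f L202430) L139419 L202430
theorem L202433 : sm gj N23805 = N23805 := ded_46_2 (flp_f L202430) L139420 L202430
theorem L202434 : sm gh N23805 = N16354 := ded_47_2 (flp_f L139486) (flp_h L139421) L202430
theorem L202436 : sm ge N23805 = N23805 := ded_40_1 (flp_f L202430) (flp_e L139417) L96146 L139417 L202430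
theorem L202437 : sm gi N16344 = N23806 := rfl
theorem L202439 : sm gc N23806 = N23806 := ded_33_1 (flp_i L202437) L139419 L202437
theorem L202440 : sm ge N23806 = N16345 := ded_44_1 (flp_i L139423) L139417 L202437
theorem L202442 : sm gj N23806 = N23806 := ded_53_1 (flp_i L202437) L139420 L202437
theorem L202443 : sm gh N16345 = N23807 := rfl
theorem L202448 : sm gi N23807 = N16356 := ded_54_2 (flp_h L139501) (flp_i L96198) (flp_h L96149) L139423 L202443
theorem L202473 : sm ge N16348 = N23811 := rfl
theorem L202477 : sm gi N16348 = N23812 := rfl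
theorem L202482 : sm gf N23812 = N16353 := ded_48_1 (flp_i L139479) (flp_f L139446) L202477
theorem L202485 : sm ge N16350 = N23813 := rfl
theorem L202489 : sm gj N23813 = N16352 := ded_42_2 (flp_e L139472) (flp_j L139460) L202485
theorem L202491 : sm gd N23813 = N16357 := ded_34_1 (flp_e L139506) (flp_d L96205) (flp_e L96174) L139457 L202485
theorem L202501 : sm gf N16352 = N23815 := rfl
theorem L202503 : sm gc N23815 = N23815 := ded_29_1 (flp_f L202501) L139474 L202501
theorem L202504 : sm gd N23815 = N16359 := ded_35_1 (flp_f L139522) (flp_d L139477) L202501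
theorem L202506 : sm gi N16352 = N23816 := rfl
theorem L202511 : sm ge N23816 = N16353 := ded_44_1 (flp_i L139479) L139472 L202506
theorem L202515 : sm gh N16353 = N23817 := rfl
theorem L202518 : sm gg N23817 = N16356 := ded_50_1 (flp_h L139501) (flp_g L139484) L202515
theorem L202520 : sm gg N16354 = N23818 := rfl
theorem L202522 : sm gc N23818 = N23818 := ded_30_1 (flp_g L202520) L139488 L202520
theorem L202523 : sm gd N23818 = N16362 := ded_36_1 (flp_g L139540) (flp_d L139489) L202520
theorem L202525 : sm ge N23818 = N23818 := ded_41_1 (flp_g L202520) L139492 L202520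
theorem L202541 : sm gf N16357 = N23821 := rfl
theorem L202543 : sm gc N23821 = N16660 := ded_29_1 (flp_f L142049) (flp_c L139508) L202541
theorem L202545 : sm gj N23821 = N16359 := ded_46_2 (flp_f L139522) (flp_j L139511) L202541
theorem L202547 : sm gi N16357 = N23822 := rfl
theorem L202556 : sm gh N16358 = N23823 := rfl
theorem L202563 : sm gg N16359 = N23824 := rfl
theorem L202565 : sm gc N23824 = N16663 := ded_30_1 (flp_g L142071) (flp_c L139524) L202563
theorem L202567 : sm gf N23824 = N16362 := ded_45_1 (flp_g L139540) (flp_f L96233) (flp_g L96223) L139522 L202563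
theorem L202569 : sm gi N16359 = N23825 := rfl
theorem L202571 : sm gc N23825 = N16664 := ded_33_1 (flp_i L142077) (flp_c L139524) L202569
theorem L202583 : sm gj N16362 = N23827 := rfl
theorem L202585 : sm gc N23827 = N16666 := ded_31_1 (flp_j L142090) (flp_c L139542) L202583
theorem L202587 : sm ge N23827 = N16365 := ded_42_1 (flp_j L139562) (flp_e L139544) L202583
theorem L202589 : sm gg N23827 = N23827 := ded_49_1 (flp_j L202583) (flp_g L139540) L96237 L139540 L202583
theorem L202598 : sm gh N16363 = N23829 := rfl
theorem L202602 : sm ge N23829 = N16367 := ded_43_1 (flp_h L139575) (flp_e L139550) L202598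
theorem L202604 : sm gf N23829 = N16364 := ded_47_1 (flp_h L139555) (flp_f L139552) L202598
theorem L202607 : sm gd N16364 = N23830 := rfl
theorem L202610 : sm gi N16365 = N23831 := rfl
theorem L202624 : sm gd N16367 = N23833 := rfl
theorem L202626 : sm gf N23833 = N16368 := ded_35_2 (flp_d L139582) (flp_f L139579) L202624
theorem L202630 : sm gc N16368 = N23834 := rfl
theorem L202645 : sm gg N16372 = N23836 := rfl
theorem L202650 : sm gd N23836 = N18526 := ded_36_1 (flp_g L157360) (flp_d L139620) L202645
theorem L202652 : sm gi N23836 = N16442 := ded_51_2 (flp_g L140210) (flp_i L139618) L202645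
theorem L202661 : sm gf N16373 = N23838 := rfl
theorem L202664 : sm gb N23838 = N16385 := ded_22_1 (flp_f L139736) (flp_b L139625) L202661
theorem L202666 : sm gd N23838 = N16375 := ded_35_1 (flp_f L139638) (flp_d L139627) L202661
theorem L202668 : sm gi N23838 = N16444 := ded_48_2 (flp_f L140224) (flp_i L139629) L202661
theorem L202681 : sm gh N16373 = N23840 := rfl
theorem L202684 : sm gb N23840 = N16387 := ded_25_1 (flp_h L139754) (flp_b L139625) L202681
theorem L202688 : sm gd N16374 = N23841 := rfl
theorem L202695 : sm gh N23841 = N16378 := ded_38_2 (flp_d L139673) (flp_h L96347) L96327 L139631 L202688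
theorem L202697 : sm gi N16374 = N23842 := rfl
theorem L202704 : sm gh N23842 = N16447 := ded_54_1 (flp_i L140248) (flp_h L96792) (flp_i L96334) L139631 L202697
theorem L202706 : sm gj N16375 = N23843 := rfl
theorem L202709 : sm gb N23843 = N16390 := ded_24_1 (flp_j L139776) (flp_b L139641) L202706
theorem L202711 : sm gc N23843 = N18533 := ded_31_1 (flp_j L157424) (flp_c L139643) L202706
theorem L202716 : sm gi N23843 = N16448 := ded_53_2 (flp_j L140256) (flp_i L139645) L202706
theorem L202718 : sm gh N16375 = N23844 := rfl
theorem L202721 : sm gb N23844 = N16391 := ded_25_1 (flp_h L139787) (flp_b L139641) L202718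
theorem L202726 : sm gf N23844 = N16377 := ded_47_1 (flp_h L139661) L139638 L202718
theorem L202743 : sm gd N16377 = N23846 := rfl
theorem L202748 : sm gg N23846 = N16378 := ded_36_2 (flp_d L139673) (flp_g L139670) L202743
theorem L202759 : sm ge N16378 = N23848 := rfl
theorem L202768 : sm gd N16379 = N23849 := rfl
theorem L202771 : sm gb N23849 = N16396 := ded_20_1 (flp_d L139834) (flp_b L139684) L202768
theorem L202775 : sm gj N23849 = N16380 := ded_37_2 (flp_d L139693) (flp_j L139690) L202768
theorem L202778 : sm gc N16380 = N23850 := rfl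
theorem L202788 : sm ge N16380 = N23851 := rfl
theorem L202791 : sm gb N23851 = N16397 := ded_21_1 (flp_e L139844) (flp_b L139696) L202788
theorem L202839 : sm ge N16385 = N23857 := rfl
theorem L202841 : sm ga N23857 = N16406 := ded_13_1 (flp_e L139929) (flp_a L139738) L202839
theorem L202843 : sm gg N23857 = N23857 := ded_41_2 (flp_e L202839) L139744 L202839
theorem L202844 : sm gi N23857 = N16449 := ded_44_2 (flp_e L140267) (flp_i L139742) L202839
theorem L202846 : sm gd N23857 = N23857 := ded_34_1 (flp_e L202839) L139740 L96430 (flp_d L139740) L202839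
theorem L202847 : sm gj N16385 = N23858 := rfl
theorem L202849 : sm ga N23858 = N16407 := ded_16_1 (flp_j L139936) (flp_a L139738) L202847
theorem L202851 : sm gd N23858 = N16390 := ded_37_1 (flp_j L139776) (flp_d L139740) L202847
theorem L202853 : sm gf N23858 = N16386 := ded_46_1 (flp_j L139745) L139736 L202847
theorem L202855 : sm gi N23858 = N16450 := ded_53_2 (flp_j L140273) (flp_i L139742) L202847
theorem L202857 : sm gh N16385 = N23859 := rfl
theorem L202859 : sm ga N23859 = N16408 := ded_17_1 (flp_h L139945) (flp_a L139738) L202857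
theorem L202861 : sm gf N23859 = N16387 := ded_47_1 (flp_h L139754) L139736 L202857
theorem L202863 : sm gg N23859 = N23859 := ded_50_1 (flp_h L202857) L139744 L202857
theorem L202864 : sm gh N16386 = N23860 := rfl
theorem L202866 : sm ga N23860 = N16409 := ded_17_1 (flp_h L139951) (flp_a L139747) L202864
theorem L202868 : sm gg N23860 = N23860 := ded_50_1 (flp_h L202864) L139753 L202864
theorem L202869 : sm gj N23860 = N16387 := ded_52_1 (flp_h L139754) L139745 L202864
theorem L202871 : sm gd N16387 = N23861 := rfl
theorem L202873 : sm ga N23861 = N16410 := ded_12_1 (flp_d L139957) (flp_a L139756) L202871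
theorem L202879 : sm gi N16387 = N23862 := rfl
theorem L202881 : sm ga N23862 = N16411 := ded_18_1 (flp_i L139964) (flp_a L139756) L202879
theorem L202883 : sm gg N23862 = N16389 := ded_51_1 (flp_i L139768) (flp_g L139758) L202879
theorem L202885 : sm gh N23862 = N16453 := ded_54_1 (flp_i L140297) (flp_h L96835) (flp_i L96414) L139754 L202879
theorem L202887 : sm gc N16388 = N23863 := rfl
theorem L202889 : sm ga N23863 = N16412 := ded_11_1 (flp_c L139971) (flp_a L139762) L202887
theorem L202911 : sm gg N16390 = N23866 := rfl
theorem L202913 : sm ga N23866 = N16415 := ded_15_1 (flp_g L139991) (flp_a L139778) L202911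
theorem L202922 : sm gh N16390 = N23867 := rfl
theorem L202929 : sm gf N23867 = N16392 := ded_47_1 (flp_h L139798) (flp_f L139783) L202922
theorem L202934 : sm gd N16391 = N23868 := rfl
theorem L202936 : sm ga N23868 = N16417 := ded_12_1 (flp_d L140012) (flp_a L139789) L202934
theorem L202942 : sm gd N16392 = N23869 := rfl
theorem L202944 : sm ga N23869 = N16418 := ded_12_1 (flp_d L140019) (flp_a L139800) L202942
theorem L202950 : sm gc N16393 = N23870 := rfl
theorem L202952 : sm ga N23870 = N16419 := ded_11_1 (flp_c L140026) (flp_a L139812) L202950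
theorem L202957 : sm gd N23870 = N16404 := ded_27_2 (flp_c L139913) (flp_d L96530) (flp_c L96447) L139810 L202950
theorem L202959 : sm ge N16393 = N23871 := rfl
theorem L202961 : sm ga N23871 = N16420 := ded_13_1 (flp_e L140033) (flp_a L139812) L202959
theorem L202966 : sm gd N23871 = N16397 := ded_34_1 (flp_e L139844) (flp_d L96472) (flp_e L96449) L139810 L202959
theorem L203002 : sm gf N16397 = N23876 := rfl
theorem L203049 : sm gc N16402 = N23881 := rfl
theorem L203051 : sm ga N23881 = N16430 := ded_11_1 (flp_c L140112) (flp_a L139894) L203049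
theorem L203053 : sm gf N23881 = N16404 := ded_29_2 (flp_c L139913) (flp_f L139898) L203049
theorem L203067 : sm gc N16403 = N23883 := rfl
theorem L203069 : sm ga N23883 = N16432 := ded_11_1 (flp_c L140126) (flp_a L139904) L203067
theorem L203076 : sm gb N16404 = N23884 := rfl
theorem L203079 : sm gg N23884 = N16405 := ded_23_2 (flp_b L139921) (flp_g L139918) L203076
theorem L203094 : sm gj N16406 = N23886 := rfl
theorem L203096 : sm gb N23886 = N23886 := ded_24_1 (flp_j L203094) L139931 L203094
theorem L203097 : sm gd N23886 = N23886 := ded_37_1 (flp_j L203094) L139935 L203094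
theorem L203098 : sm ge N23886 = N16407 := ded_42_1 (flp_j L139936) L139929 L203094
theorem L203100 : sm gi N23886 = N16455 := ded_53_2 (flp_j L140314) (flp_i L139933) L203094
theorem L203102 : sm gh N16406 = N23887 := rfl
theorem L203104 : sm gb N23887 = N23887 := ded_25_1 (flp_h L203102) L139931 L203102
theorem L203105 : sm ge N23887 = N16408 := ded_43_1 (flp_h L139945) L139929 L203102
theorem L203107 : sm gg N23887 = N23887 := ded_50_1 (flp_h L203102) L139932 L203102
theorem L203108 : sm gg N16407 = N23888 := rfl
theorem L203113 : sm gi N23888 = N16457 := ded_51_2 (flp_g L140326) (flp_i L139943) L203108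
theorem L203117 : sm gh N16407 = N23889 := rfl
theorem L203119 : sm gb N23889 = N23889 := ded_25_1 (flp_h L203117) L139938 L203117
theorem L203120 : sm gf N23889 = N16409 := ded_47_1 (flp_h L139951) (flp_f L139941) L203117
theorem L203122 : sm gj N23889 = N16408 := ded_52_1 (flp_h L139945) L139936 L203117
theorem L203124 : sm gd N16408 = N23890 := rfl
theorem L203126 : sm gb N23890 = N23890 := ded_20_1 (flp_d L203124) L139947 L203124
theorem L203127 : sm gf N23890 = N16410 := ded_35_2 (flp_d L139957) (flp_f L139948) L203124
theorem L203129 : sm gg N23890 = N23890 := ded_36_2 (flp_d L203124) L139950 L203124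
theorem L203130 : sm gh N23890 = N16417 := ded_38_2 (flp_d L140012) (flp_h L96593) (flp_d L96551) L139945 L203124
theorem L203132 : sm gi N16408 = N23891 := rfl
theorem L203134 : sm gb N23891 = N23891 := ded_26_1 (flp_i L203132) L139947 L203132
theorem L203135 : sm gf N23891 = N16411 := ded_48_1 (flp_i L139964) (flp_f L139948) L203132
theorem L203137 : sm gg N23891 = N23891 := ded_51_1 (flp_i L203132) L139950 L203132
theorem L203138 : sm gh N23891 = N16459 := ded_54_1 (flp_i L140341) (flp_h L96881) (flp_i L96553) L139945 L203132
theorem L203140 : sm gd N16409 = N23892 := rfl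
theorem L203142 : sm gb N23892 = N23892 := ded_20_1 (flp_d L203140) L139953 L203140
theorem L203143 : sm gg N23892 = N23892 := ded_36_2 (flp_d L203140) L139954 L203140
theorem L203144 : sm gj N23892 = N16410 := ded_37_2 (flp_d L139957) (flp_j L139955) L203140
theorem L203146 : sm gh N23892 = N16418 := ded_38_2 (flp_d L140019) (flp_h L96603) (flp_d L96559) L139951 L203140
theorem L203148 : sm gi N16409 = N23893 := rfl
theorem L203150 : sm gb N23893 = N23893 := ded_26_1 (flp_i L203148) L139953 L203148
theorem L203151 : sm gg N23893 = N23893 := ded_51_1 (flp_i L203148) L139954 L203148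
theorem L203152 : sm gj N23893 = N16411 := ded_53_1 (flp_i L139964) (flp_j L139955) L203148
theorem L203154 : sm gh N23893 = N16460 := ded_54_1 (flp_i L140348) (flp_h L96888) (flp_i L96561) L139951 L203148
theorem L203156 : sm gc N16410 = N23894 := rfl
theorem L203158 : sm gg N23894 = N16412 := ded_30_2 (flp_c L139971) (flp_g L139960) L203156
theorem L203160 : sm gh N23894 = N16419 := ded_32_2 (flp_c L140026) (flp_h L139962) L203156
theorem L203162 : sm ge N16410 = N23895 := rfl
theorem L203165 : sm gg N23895 = N16413 := ded_41_2 (flp_e L139977) (flp_g L139960) L203162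
theorem L203169 : sm gi N16410 = N23896 := rfl
theorem L203171 : sm gb N23896 = N23896 := ded_26_1 (flp_i L203169) L139959 L203169
theorem L203172 : sm gd N23896 = N16411 := ded_39_1 (flp_i L139964) L139957 L203169
theorem L203174 : sm gg N23896 = N16414 := ded_51_1 (flp_i L139983) (flp_g L139960) L203169
theorem L203176 : sm gh N23896 = N23896 := ded_54_1 (flp_i L203169) L139962 L96619 (flp_h L139962) L203169
theorem L203177 : sm gb N16412 = N23897 := rfl
theorem L203179 : sm gf N23897 = N23897 := ded_22_2 (flp_b L203177) L139973 L203177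
theorem L203180 : sm gj N23897 = N23897 := ded_24_2 (flp_b L203177) L139974 L203177
theorem L203181 : sm gh N23897 = N16421 := ded_25_2 (flp_b L140041) (flp_h L139975) L203177
theorem L203183 : sm gc N23897 = N23897 := ded_19_2 (flp_b L203177) (flp_c L139971) L96571 L139971 L203177
theorem L203184 : sm ge N16412 = N23898 := rfl
theorem L203186 : sm gc N23898 = N16413 := ded_28_1 (flp_e L139977) L139971 L203184
theorem L203189 : sm gh N23898 = N16422 := ded_43_2 (flp_e L140049) (flp_h L139975) L203184
theorem L203191 : sm gi N16412 = N23899 := rfl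
theorem L203193 : sm gc N23899 = N16414 := ded_33_1 (flp_i L139983) L139971 L203191
theorem L203195 : sm gf N23899 = N23899 := ded_48_1 (flp_i L203191) L139973 L203191
theorem L203196 : sm gj N23899 = N23899 := ded_53_1 (flp_i L203191) L139974 L203191
theorem L203197 : sm gh N23899 = N23899 := ded_54_1 (flp_i L203191) L139975 L96624 (flp_h L139975) L203191
theorem L203198 : sm gf N16413 = N23900 := rfl
theorem L203202 : sm gh N23900 = N16423 := ded_47_2 (flp_f L140056) (flp_h L139981) L203198
theorem L203205 : sm gi N16413 = N23901 := rfl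
theorem L203208 : sm ge N23901 = N16414 := ded_44_1 (flp_i L139983) L139977 L203205
theorem L203212 : sm gh N16415 = N23902 := rfl
theorem L203219 : sm gg N23902 = N16416 := ded_50_1 (flp_h L140001) L139991 L203212
theorem L203223 : sm gd N16416 = N23903 := rfl
theorem L203226 : sm gf N23903 = N16418 := ded_35_2 (flp_d L140019) (flp_f L140007) L203223
theorem L203228 : sm gj N23903 = N16417 := ded_37_2 (flp_d L140012) (flp_j L140009) L203223
theorem L203231 : sm gc N16417 = N23904 := rfl
theorem L203233 : sm gf N23904 = N16419 := ded_29_2 (flp_c L140026) (flp_f L140015) L203231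
theorem L203239 : sm ge N16417 = N23905 := rfl
theorem L203245 : sm gc N16418 = N23906 := rfl
theorem L203248 : sm gj N23906 = N16419 := ded_31_2 (flp_c L140026) (flp_j L140023) L203245
theorem L203253 : sm ge N16418 = N23907 := rfl
theorem L203260 : sm gd N23907 = N16424 := ded_34_1 (flp_e L140064) (flp_d L96634) (flp_e L96608) L140019 L203253
theorem L203262 : sm gb N16419 = N23908 := rfl
theorem L203270 : sm ge N16419 = N23909 := rfl
theorem L203274 : sm gg N23909 = N16422 := ded_41_2 (flp_e L140049) (flp_g L140028) L203270
theorem L203278 : sm gf N16420 = N23910 := rfl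
theorem L203284 : sm ga N16421 = N23911 := rfl
theorem L203292 : sm ge N16421 = N23912 := rfl
theorem L203294 : sm gb N23912 = N16422 := ded_21_1 (flp_e L140049) L140041 L203292
theorem L203300 : sm gf N16422 = N23913 := rfl
theorem L203302 : sm gc N23913 = N16423 := ded_29_1 (flp_f L140056) (flp_c L140051) L203300
theorem L203331 : sm gj N16426 = N23917 := rfl
theorem L203335 : sm ge N23917 = N16427 := ded_42_1 (flp_j L140085) (flp_e L140082) L203331
theorem L203339 : sm gd N16428 = N23918 := rfl
theorem L203344 : sm gg N23918 = N16429 := ded_36_2 (flp_d L140103) (flp_g L140099) L203339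
theorem L203348 : sm gc N16429 = N23919 := rfl
theorem L203350 : sm gf N23919 = N16432 := ded_29_2 (flp_c L140126) (flp_f L140107) L203348
theorem L203364 : sm gb N16430 = N23921 := rfl
theorem L203366 : sm gf N23921 = N16433 := ded_22_2 (flp_b L140133) (flp_f L140114) L203364
theorem L203370 : sm gc N23921 = N16438 := ded_19_2 (flp_b L140177) (flp_c L96735) (flp_b L96686) L140112 L203364
theorem L203372 : sm ge N16430 = N23922 := rfl
theorem L203379 : sm gb N16432 = N23923 := rfl
theorem L203383 : sm gj N23923 = N16433 := ded_24_2 (flp_b L140133) (flp_j L140130) L203379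
theorem L203386 : sm gc N23923 = N16440 := ded_19_2 (flp_b L140193) (flp_c L96752) (flp_b L96694) L140126 L203379
theorem L203388 : sm ga N16433 = N23924 := rfl
theorem L203393 : sm gg N23924 = N16434 := ded_15_2 (flp_a L140141) (flp_g L140136) L203388
theorem L203396 : sm gc N16435 = N23925 := rfl
theorem L203401 : sm gg N23925 = N16436 := ded_30_2 (flp_c L140158) (flp_g L140154) L203396
theorem L203406 : sm ge N16435 = N23926 := rfl
theorem L203410 : sm gg N23926 = N16437 := ded_41_2 (flp_e L140168) (flp_g L140154) L203406
theorem L203415 : sm gb N16436 = N23927 := rfl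
theorem L203420 : sm gj N23927 = N16438 := ded_24_2 (flp_b L140177) (flp_j L140164) L203415
theorem L203423 : sm ge N16436 = N23928 := rfl
theorem L203425 : sm ga N23928 = N18618 := ded_13_1 (flp_e L158139) (flp_a L140160) L203423
theorem L203429 : sm gj N23928 = N16439 := ded_42_2 (flp_e L140184) (flp_j L140164) L203423
theorem L203433 : sm ga N16438 = N23929 := rfl
theorem L203442 : sm ge N16438 = N23930 := rfl
theorem L203444 : sm gb N23930 = N16439 := ded_21_1 (flp_e L140184) L140177 L203442
theorem L203449 : sm gd N16439 = N23931 := rfl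
theorem L203468 : sm gf N16442 = N23933 := rfl
theorem L203471 : sm gc N23933 = N16444 := ded_29_1 (flp_f L140224) (flp_c L140213) L203468
theorem L203473 : sm gd N23933 = N18623 := ded_35_1 (flp_f L158176) (flp_d L140215) L203468
theorem L203476 : sm gj N16442 = N23934 := rfl
theorem L203479 : sm gc N23934 = N16445 := ded_31_1 (flp_j L140232) (flp_c L140213) L203476
theorem L203484 : sm gh N16442 = N23935 := rfl
theorem L203486 : sm ga N23935 = N23935 := ded_17_1 (flp_h L203484) L140212 L203484
theorem L203487 : sm gc N23935 = N16446 := ded_32_1 (flp_h L140240) (flp_c L140213) L203484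
theorem L203489 : sm gg N23935 = N16443 := ded_50_1 (flp_h L140217) L140210 L203484
theorem L203491 : sm gd N16443 = N23936 := rfl
theorem L203493 : sm ga N23936 = N23936 := ded_12_1 (flp_d L203491) L140219 L203491
theorem L203499 : sm gi N16443 = N23937 := rfl
theorem L203501 : sm ga N23937 = N23937 := ded_18_1 (flp_i L203499) L140219 L203499
theorem L203502 : sm gc N23937 = N16447 := ded_33_1 (flp_i L140248) (flp_c L140220) L203499
theorem L203504 : sm gf N23937 = N23937 := ded_48_1 (flp_i L203499) L140222 L203499
theorem L203505 : sm gj N23937 = N23937 := ded_53_1 (flp_i L203499) L140223 L203499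
theorem L203506 : sm ge N16444 = N23938 := rfl
theorem L203509 : sm gb N23938 = N16449 := ded_21_1 (flp_e L140267) (flp_b L140227) L203506
theorem L203513 : sm gj N16444 = N23939 := rfl
theorem L203516 : sm gb N23939 = N16450 := ded_24_1 (flp_j L140273) (flp_b L140227) L203513
theorem L203518 : sm gd N23939 = N16448 := ded_37_1 (flp_j L140256) (flp_d L140229) L203513
theorem L203520 : sm gf N23939 = N16445 := ded_46_1 (flp_j L140232) L140224 L203513
theorem L203522 : sm gh N16444 = N23940 := rfl
theorem L203524 : sm ga N23940 = N23940 := ded_17_1 (flp_h L203522) L140226 L203522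
theorem L203525 : sm gb N23940 = N16451 := ded_25_1 (flp_h L140281) (flp_b L140227) L203522
theorem L203527 : sm gf N23940 = N16446 := ded_47_1 (flp_h L140240) L140224 L203522
theorem L203529 : sm gg N23940 = N23940 := ded_50_1 (flp_h L203522) L140231 L203522
theorem L203530 : sm gd N23940 = N23940 := ded_38_1 (flp_h L203522) L140229 L96807 (flp_d L140229) L203522
theorem L203531 : sm gh N16445 = N23941 := rfl
theorem L203533 : sm ga N23941 = N23941 := ded_17_1 (flp_h L203531) L140234 L203531
theorem L203534 : sm gb N23941 = N16452 := ded_25_1 (flp_h L140289) (flp_b L140235) L203531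
theorem L203536 : sm gg N23941 = N23941 := ded_50_1 (flp_h L203531) L140239 L203531
theorem L203537 : sm gj N23941 = N16446 := ded_52_1 (flp_h L140240) L140232 L203531
theorem L203539 : sm gd N23941 = N23941 := ded_38_1 (flp_h L203531) L140237 L96819 (flp_d L140237) L203531
theorem L203540 : sm gi N16446 = N23942 := rfl
theorem L203542 : sm ga N23942 = N23942 := ded_18_1 (flp_i L203540) L140242 L203540
theorem L203543 : sm gb N23942 = N16453 := ded_26_1 (flp_i L140297) (flp_b L140243) L203540
theorem L203545 : sm gd N23942 = N23942 := ded_39_1 (flp_i L203540) L140247 L203540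
theorem L203546 : sm gg N23942 = N16447 := ded_51_1 (flp_i L140248) (flp_g L140245) L203540
theorem L203548 : sm gg N16448 = N23943 := rfl
theorem L203551 : sm gb N23943 = N16454 := ded_23_1 (flp_g L140304) (flp_b L140259) L203548
theorem L203559 : sm gj N16449 = N23944 := rfl
theorem L203561 : sm ga N23944 = N16455 := ded_16_1 (flp_j L140314) (flp_a L140269) L203559
theorem L203564 : sm ge N23944 = N16450 := ded_42_1 (flp_j L140273) L140267 L203559
theorem L203566 : sm gh N16449 = N23945 := rfl
theorem L203568 : sm ga N23945 = N16456 := ded_17_1 (flp_h L140320) (flp_a L140269) L203566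
theorem L203570 : sm ge N23945 = N16451 := ded_43_1 (flp_h L140281) L140267 L203566
theorem L203572 : sm gg N23945 = N23945 := ded_50_1 (flp_h L203566) L140271 L203566
theorem L203573 : sm gg N16450 = N23946 := rfl
theorem L203575 : sm ga N23946 = N16457 := ded_15_1 (flp_g L140326) (flp_a L140275) L203573
theorem L203581 : sm gh N16450 = N23947 := rfl
theorem L203583 : sm ga N23947 = N16458 := ded_17_1 (flp_h L140333) (flp_a L140275) L203581
theorem L203585 : sm gf N23947 = N16452 := ded_47_1 (flp_h L140289) (flp_f L140279) L203581
theorem L203587 : sm gj N23947 = N16451 := ded_52_1 (flp_h L140281) L140273 L203581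
theorem L203589 : sm gd N23947 = N23947 := ded_38_1 (flp_h L203581) L140277 L96858 (flp_d L140277) L203581
theorem L203590 : sm gi N16451 = N23948 := rfl
theorem L203592 : sm ga N23948 = N16459 := ded_18_1 (flp_i L140341) (flp_a L140283) L203590
theorem L203594 : sm gd N23948 = N23948 := ded_39_1 (flp_i L203590) L140288 L203590
theorem L203595 : sm gf N23948 = N16453 := ded_48_1 (flp_i L140297) (flp_f L140285) L203590
theorem L203597 : sm gg N23948 = N23948 := ded_51_1 (flp_i L203590) L140287 L203590
theorem L203598 : sm gi N16452 = N23949 := rfl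
theorem L203600 : sm ga N23949 = N16460 := ded_18_1 (flp_i L140348) (flp_a L140291) L203598
theorem L203602 : sm gd N23949 = N23949 := ded_39_1 (flp_i L203598) L140296 L203598
theorem L203603 : sm gg N23949 = N23949 := ded_51_1 (flp_i L203598) L140293 L203598
theorem L203604 : sm gj N23949 = N16453 := ded_53_1 (flp_i L140297) (flp_j L140294) L203598
theorem L203606 : sm gg N16455 = N23950 := rfl
theorem L203610 : sm ge N23950 = N16457 := ded_41_1 (flp_g L140326) (flp_e L140318) L203606
theorem L203613 : sm gh N16455 = N23951 := rfl
theorem L203615 : sm gb N23951 = N23951 := ded_25_1 (flp_h L203613) L140316 L203613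
theorem L203616 : sm ge N23951 = N16458 := ded_43_1 (flp_h L140333) (flp_e L140318) L203613
theorem L203618 : sm gj N23951 = N16456 := ded_52_1 (flp_h L140320) L140314 L203613
theorem L203620 : sm gd N16456 = N23952 := rfl
theorem L203622 : sm gb N23952 = N23952 := ded_20_1 (flp_d L203620) L140322 L203620
theorem L203623 : sm gg N23952 = N23952 := ded_36_2 (flp_d L203620) L140325 L203620
theorem L203624 : sm ge N23952 = N23952 := ded_34_2 (flp_d L203620) L140323 L96887 (flp_e L140323) L203620
theorem L203625 : sm gh N23952 = N23952 := ded_38_2 (flp_d L203620) (flp_h L140320) L96873 L140320 L203620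
theorem L203626 : sm gi N16456 = N23953 := rfl
theorem L203628 : sm gb N23953 = N23953 := ded_26_1 (flp_i L203626) L140322 L203626
theorem L203629 : sm ge N23953 = N16459 := ded_44_1 (flp_i L140341) (flp_e L140323) L203626
theorem L203631 : sm gg N23953 = N23953 := ded_51_1 (flp_i L203626) L140325 L203626
theorem L203632 : sm gh N16457 = N23954 := rfl
theorem L203636 : sm gg N23954 = N16458 := ded_50_1 (flp_h L140333) L140326 L203632
theorem L203640 : sm gi N16458 = N23955 := rfl
theorem L203642 : sm gb N23955 = N23955 := ded_26_1 (flp_i L203640) L140335 L203640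
theorem L203643 : sm gd N23955 = N23955 := ded_39_1 (flp_i L203640) L140340 L203640
theorem L203644 : sm gf N23955 = N16460 := ded_48_1 (flp_i L140348) (flp_f L140336) L203640
theorem L203646 : sm gj N23955 = N16459 := ded_53_1 (flp_i L140341) (flp_j L140338) L203640
theorem L203659 : sm gg N16461 = N23957 := rfl
theorem L203662 : sm gb N23957 = N16471 := ded_23_1 (flp_g L140458) (flp_b L140358) L203659
theorem L203667 : sm gh N16461 = N23958 := rfl
theorem L203670 : sm gb N23958 = N16472 := ded_25_1 (flp_h L140466) (flp_b L140358) L203667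
theorem L203687 : sm gj N16462 = N23960 := rfl
theorem L203697 : sm gg N23960 = N16543 := ded_49_1 (flp_j L141112) (flp_g L97430) (flp_j L96917) L140365 L203687
theorem L203699 : sm gh N16462 = N23961 := rfl
theorem L203706 : sm ge N23961 = N16465 := ded_43_1 (flp_h L140399) (flp_e L140372) L203699
theorem L203710 : sm gd N16463 = N23962 := rfl
theorem L203717 : sm gj N23962 = N16545 := ded_37_2 (flp_d L141135) (flp_j L140386) L203710
theorem L203733 : sm gh N16464 = N23964 := rfl
theorem L203743 : sm gj N23964 = N16465 := ded_52_1 (flp_h L140399) L140388 L203733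
theorem L203745 : sm gd N16465 = N23965 := rfl
theorem L203748 : sm gb N23965 = N16479 := ded_20_1 (flp_d L140538) (flp_b L140402) L203745
theorem L203753 : sm gi N16465 = N23966 := rfl
theorem L203764 : sm gc N16466 = N23967 := rfl
theorem L203767 : sm gf N23967 = N16468 := ded_29_2 (flp_c L140430) (flp_f L140414) L203764
theorem L203769 : sm gj N23967 = N16550 := ded_31_2 (flp_c L141186) (flp_j L140416) L203764
theorem L203773 : sm ge N16466 = N23968 := rfl
theorem L203778 : sm gj N23968 = N16551 := ded_42_2 (flp_e L141193) (flp_j L140416) L203773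
theorem L203809 : sm gf N16469 = N23972 := rfl
theorem L203839 : sm gf N16471 = N23975 := rfl
theorem L203841 : sm ga N23975 = N16494 := ded_14_1 (flp_f L140686) (flp_a L140460) L203839
theorem L203849 : sm gj N16471 = N23976 := rfl
theorem L203857 : sm gg N23976 = N16558 := ded_49_1 (flp_j L141249) (flp_g L97515) (flp_j L96969) L140458 L203849
theorem L203859 : sm gh N16471 = N23977 := rfl
theorem L203864 : sm gg N23977 = N16472 := ded_50_1 (flp_h L140466) L140458 L203859
theorem L203866 : sm gd N16472 = N23978 := rfl
theorem L203868 : sm ga N23978 = N16497 := ded_12_1 (flp_d L140710) (flp_a L140468) L203866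
theorem L203876 : sm gi N16472 = N23979 := rfl
theorem L203881 : sm gf N23979 = N16694 := ded_48_1 (flp_i L142342) (flp_f L140471) L203876
theorem L203920 : sm gd N16475 = N23983 := rfl
theorem L203922 : sm ga N23983 = N16502 := ded_12_1 (flp_d L140759) (flp_a L140498) L203920
theorem L203924 : sm gg N23983 = N16476 := ded_36_2 (flp_d L140506) (flp_g L140504) L203920
theorem L203937 : sm gc N16476 = N23985 := rfl
theorem L203941 : sm gf N23985 = N16698 := ded_29_2 (flp_c L142380) (flp_f L140510) L203937
theorem L203947 : sm ge N16476 = N23986 := rfl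
theorem L203949 : sm ga N23986 = N16505 := ded_13_1 (flp_e L140782) (flp_a L140508) L203947
theorem L203953 : sm gd N23986 = N16481 := ded_34_1 (flp_e L140555) (flp_d L97013) (flp_e L96988) L140506 L203947
theorem L203986 : sm ge N16479 = N23990 := rfl
theorem L203988 : sm ga N23990 = N16509 := ded_13_1 (flp_e L140817) (flp_a L140540) L203986
theorem L203990 : sm gg N23990 = N16481 := ded_41_2 (flp_e L140555) (flp_g L140543) L203986
theorem L204001 : sm gf N16481 = N23992 := rfl
theorem L204003 : sm ga N23992 = N16511 := ded_14_1 (flp_f L140830) (flp_a L140557) L204001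
theorem L204026 : sm gg N16483 = N23995 := rfl
theorem L204028 : sm ga N23995 = N16514 := ded_15_1 (flp_g L140852) (flp_a L140573) L204026
theorem L204033 : sm gi N16483 = N23996 := rfl
theorem L204035 : sm ga N23996 = N16515 := ded_18_1 (flp_i L140858) (flp_a L140573) L204033
theorem L204041 : sm gj N23996 = N16576 := ded_53_1 (flp_i L141396) (flp_j L140577) L204033
theorem L204052 : sm gh N16486 = N23998 := rfl
theorem L204062 : sm gj N23998 = N16487 := ded_52_1 (flp_h L140610) L140598 L204052
theorem L204064 : sm gd N16487 = N23999 := rfl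
theorem L204066 : sm ga N23999 = N16518 := ded_12_1 (flp_d L140885) (flp_a L140612) L204064
theorem L204070 : sm gf N23999 = N16489 := ded_35_2 (flp_d L140633) (flp_f L140617) L204064
theorem L204075 : sm gi N16487 = N24000 := rfl
theorem L204084 : sm gg N24000 = N16710 := ded_51_1 (flp_i L142491) (flp_g L140619) L204075
theorem L204087 : sm gd N16488 = N24001 := rfl
theorem L204093 : sm gg N24001 = N16578 := ded_36_2 (flp_d L141412) (flp_g L140629) L204087
theorem L204111 : sm gc N16489 = N24003 := rfl
theorem L204147 : sm gh N16492 = N24007 := rfl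
theorem L204155 : sm gj N24007 = N16584 := ded_52_1 (flp_h L141468) (flp_j L140672) L204147
theorem L204159 : sm ge N16494 = N24008 := rfl
theorem L204163 : sm gg N24008 = N16716 := ded_41_2 (flp_e L142551) (flp_g L140693) L204159
theorem L204167 : sm gj N16494 = N24009 := rfl
theorem L204171 : sm gd N24009 = N16499 := ded_37_1 (flp_j L140728) (flp_d L140690) L204167
theorem L204173 : sm gf N24009 = N16495 := ded_46_1 (flp_j L140695) L140686 L204167
theorem L204177 : sm gh N16494 = N24010 := rfl
theorem L204181 : sm gf N24010 = N16496 := ded_47_1 (flp_h L140704) L140686 L204177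
theorem L204183 : sm gg N24010 = N16717 := ded_50_1 (flp_h L142559) (flp_g L140693) L204177
theorem L204185 : sm gh N16495 = N24011 := rfl
theorem L204189 : sm gg N24011 = N16585 := ded_50_1 (flp_h L141478) (flp_g L140702) L204185
theorem L204191 : sm gj N24011 = N16496 := ded_52_1 (flp_h L140704) L140695 L204185
theorem L204193 : sm gd N16496 = N24012 := rfl
theorem L204196 : sm gg N24012 = N16497 := ded_36_2 (flp_d L140710) (flp_g L140708) L204193
theorem L204200 : sm gi N16496 = N24013 := rfl
theorem L204204 : sm gg N24013 = N16498 := ded_51_1 (flp_i L140719) (flp_g L140708) L204200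
theorem L204207 : sm gc N16497 = N24014 := rfl
theorem L204209 : sm gf N24014 = N16720 := ded_29_2 (flp_c L142583) (flp_f L140713) L204207
theorem L204211 : sm gj N24014 = N16588 := ded_31_2 (flp_c L141501) (flp_j L140715) L204207
theorem L204216 : sm ge N16497 = N24015 := rfl
theorem L204218 : sm gb N24015 = N24015 := ded_21_1 (flp_e L204216) L140712 L204216
theorem L204219 : sm gj N24015 = N16589 := ded_42_2 (flp_e L141508) (flp_j L140715) L204216
theorem L204221 : sm gh N24015 = N16505 := ded_43_2 (flp_e L140782) (flp_h L140717) L204216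
theorem L204223 : sm gi N16497 = N24016 := rfl
theorem L204225 : sm gb N24016 = N24016 := ded_26_1 (flp_i L204223) L140712 L204223
theorem L204226 : sm gd N24016 = N16498 := ded_39_1 (flp_i L140719) L140710 L204223
theorem L204228 : sm gf N24016 = N16722 := ded_48_1 (flp_i L142598) (flp_f L140713) L204223
theorem L204230 : sm gj N24016 = N16590 := ded_53_1 (flp_i L141513) (flp_j L140715) L204223
theorem L204232 : sm gh N16499 = N24017 := rfl
theorem L204238 : sm gf N24017 = N16501 := ded_47_1 (flp_h L140748) (flp_f L140734) L204232
theorem L204241 : sm gj N24017 = N16500 := ded_52_1 (flp_h L140738) L140728 L204232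
theorem L204250 : sm gi N16500 = N24019 := rfl
theorem L204261 : sm gd N16501 = N24020 := rfl
theorem L204264 : sm gg N24020 = N16591 := ded_36_2 (flp_d L141520) (flp_g L140755) L204261
theorem L204266 : sm gj N24020 = N16502 := ded_37_2 (flp_d L140759) (flp_j L140757) L204261
theorem L204268 : sm gi N16501 = N24021 := rfl
theorem L204280 : sm gc N16502 = N24022 := rfl
theorem L204282 : sm gg N24022 = N16504 := ded_30_2 (flp_c L140774) (flp_g L140762) L204280
theorem L204286 : sm ge N16502 = N24023 := rfl
theorem L204289 : sm gg N24023 = N16505 := ded_41_2 (flp_e L140782) (flp_g L140762) L204286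
theorem L204291 : sm gd N24023 = N16509 := ded_34_1 (flp_e L140817) (flp_d L97200) (flp_e L97167) L140759 L204286
theorem L204293 : sm gi N16502 = N24024 := rfl
theorem L204298 : sm gg N24024 = N16506 := ded_51_1 (flp_i L140789) (flp_g L140762) L204293
theorem L204309 : sm ge N16504 = N24026 := rfl
theorem L204311 : sm gc N24026 = N16505 := ded_28_1 (flp_e L140782) L140774 L204309
theorem L204313 : sm gj N24026 = N16597 := ded_42_2 (flp_e L141566) (flp_j L140778) L204309
theorem L204325 : sm gf N16505 = N24028 := rfl
theorem L204327 : sm gb N24028 = N24028 := ded_22_1 (flp_f L204325) L140784 L204325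
theorem L204328 : sm gd N24028 = N16511 := ded_35_1 (flp_f L140830) (flp_d L140787) L204325
theorem L204330 : sm gj N24028 = N16599 := ded_46_2 (flp_f L141578) (flp_j L140785) L204325
theorem L204332 : sm ge N24028 = N16731 := ded_40_1 (flp_f L142666) (flp_e L98541) (flp_f L97174) L140782 L204325
theorem L204334 : sm gi N16505 = N24029 := rfl
theorem L204339 : sm ge N24029 = N16506 := ded_44_1 (flp_i L140789) L140782 L204334
theorem L204341 : sm gj N24029 = N16600 := ded_53_1 (flp_i L141585) (flp_j L140785) L204334
theorem L204343 : sm gh N16506 = N24030 := rfl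
theorem L204351 : sm ge N16507 = N24031 := rfl
theorem L204356 : sm gj N24031 = N16509 := ded_42_2 (flp_e L140817) (flp_j L140804) L204351
theorem L204368 : sm gf N16509 = N24033 := rfl
theorem L204370 : sm gb N24033 = N24033 := ded_22_1 (flp_f L204368) L140819 L204368
theorem L204371 : sm ge N24033 = N24033 := ded_40_1 (flp_f L204368) (flp_e L140817) L97203 L140817 L204368
theorem L204372 : sm gi N16509 = N24034 := rfl
theorem L204375 : sm ge N24034 = N16510 := ded_44_1 (flp_i L140822) L140817 L204372
theorem L204379 : sm gh N16510 = N24035 := rfl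
theorem L204386 : sm gg N16511 = N24036 := rfl
theorem L204388 : sm gb N24036 = N24036 := ded_23_1 (flp_g L204386) L140832 L204386
theorem L204389 : sm ge N24036 = N16514 := ded_41_1 (flp_g L140852) (flp_e L140835) L204386
theorem L204391 : sm gi N16511 = N24037 := rfl
theorem L204398 : sm gj N24037 = N16608 := ded_53_1 (flp_i L141637) (flp_j L140833) L204391
theorem L204407 : sm gj N16514 = N24039 := rfl
theorem L204410 : sm gd N24039 = N16740 := ded_37_1 (flp_j L142740) (flp_d L140855) L204407
theorem L204413 : sm gg N24039 = N16610 := ded_49_1 (flp_j L141649) (flp_g L97815) (flp_j L97234) L140852 L204407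
theorem L204415 : sm gi N16514 = N24040 := rfl
theorem L204418 : sm gd N24040 = N16741 := ded_39_1 (flp_i L142748) (flp_d L140855) L204415
theorem L204430 : sm gd N16516 = N24042 := rfl
theorem L204434 : sm gj N24042 = N16613 := ded_37_2 (flp_d L141670) (flp_j L140873) L204430
theorem L204437 : sm gh N24042 = N16743 := ded_38_2 (flp_d L142764) (flp_h L98614) (flp_d L97239) L140867 L204430
theorem L204460 : sm gc N16518 = N24045 := rfl
theorem L204464 : sm gg N24045 = N16744 := ded_30_2 (flp_c L142772) (flp_g L140891) L204460
theorem L204485 : sm gc N16520 = N24048 := rfl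
theorem L204487 : sm gg N24048 = N16614 := ded_30_2 (flp_c L141678) (flp_g L140908) L204485
theorem L204489 : sm gj N24048 = N16522 := ded_31_2 (flp_c L140924) (flp_j L140910) L204485
theorem L204502 : sm gb N16522 = N24050 := rfl
theorem L204507 : sm gc N24050 = N16534 := ded_19_2 (flp_b L141034) (flp_c L97377) (flp_b L97284) L140924 L204502
theorem L204509 : sm gi N16522 = N24051 := rfl
theorem L204513 : sm gg N24051 = N16525 := ded_51_1 (flp_i L140946) (flp_g L140926) L204509
theorem L204523 : sm ga N16524 = N24053 := rfl
theorem L204527 : sm gf N24053 = N16750 := ded_14_2 (flp_a L142822) (flp_f L140939) L204523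
theorem L204529 : sm gj N24053 = N16619 := ded_16_2 (flp_a L141717) (flp_j L140941) L204523
theorem L204542 : sm gh N16525 = N24055 := rfl
theorem L204548 : sm gj N24055 = N16621 := ded_52_1 (flp_h L141732) (flp_j L140952) L204542
theorem L204551 : sm gc N16527 = N24056 := rfl
theorem L204553 : sm ga N24056 = N18746 := ded_11_1 (flp_c L159259) (flp_a L140966) L204551
theorem L204558 : sm gj N24056 = N16529 := ded_31_2 (flp_c L140986) (flp_j L140971) L204551
theorem L204571 : sm gi N16527 = N24058 := rfl
theorem L204580 : sm gj N24058 = N16531 := ded_53_1 (flp_i L141004) (flp_j L140971) L204571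
theorem L204582 : sm gb N16529 = N24059 := rfl
theorem L204585 : sm gf N24059 = N16534 := ded_22_2 (flp_b L141034) (flp_f L140990) L204582
theorem L204587 : sm gg N24059 = N16753 := ded_23_2 (flp_b L142847) (flp_g L140992) L204582
theorem L204599 : sm gi N16529 = N24061 := rfl
theorem L204608 : sm gg N24061 = N16755 := ded_51_1 (flp_i L142863) (flp_g L140992) L204599
theorem L204610 : sm gi N16530 = N24062 := rfl
theorem L204619 : sm gh N16531 = N24063 := rfl
theorem L204623 : sm gf N24063 = N16536 := ded_47_1 (flp_h L141049) (flp_f L141010) L204619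
theorem L204625 : sm gg N24063 = N16757 := ded_50_1 (flp_h L142882) (flp_g L141012) L204619
theorem L204666 : sm gi N16534 = N24068 := rfl
theorem L204671 : sm gg N24068 = N16538 := ded_51_1 (flp_i L141067) (flp_g L141037) L204666
theorem L204673 : sm gh N16535 = N24069 := rfl
theorem L204679 : sm gg N24069 = N16539 := ded_50_1 (flp_h L141076) (flp_g L141047) L204673
theorem L204693 : sm gh N16538 = N24071 := rfl
theorem L204699 : sm gj N24071 = N16629 := ded_52_1 (flp_h L141801) (flp_j L141074) L204693
theorem L204702 : sm gd N16539 = N24072 := rfl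
theorem L204708 : sm gj N24072 = N16630 := ded_37_2 (flp_d L141808) (flp_j L141084) L204702
theorem L204723 : sm gh N16540 = N24074 := rfl
theorem L204727 : sm gc N24074 = N16542 := ded_32_1 (flp_h L141105) L141087 L204723
theorem L204729 : sm gf N24074 = N16764 := ded_47_1 (flp_h L142948) (flp_f L141090) L204723
theorem L204731 : sm gj N16541 = N24075 := rfl
theorem L204734 : sm gb N24075 = N16558 := ded_24_1 (flp_j L141249) (flp_b L141099) L204731
theorem L204736 : sm gd N24075 = N16543 := ded_37_1 (flp_j L141112) (flp_d L141101) L204731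
theorem L204757 : sm gi N16542 = N24078 := rfl
theorem L204760 : sm gb N24078 = N16561 := ded_26_1 (flp_i L141274) (flp_b L141108) L204757
theorem L204765 : sm gh N16543 = N24079 := rfl
theorem L204768 : sm gb N24079 = N16562 := ded_25_1 (flp_h L141282) (flp_b L141115) L204765
theorem L204775 : sm gj N24079 = N16544 := ded_52_1 (flp_h L141123) L141112 L204765
theorem L204777 : sm gd N16544 = N24080 := rfl
theorem L204783 : sm gg N24080 = N16545 := ded_36_2 (flp_d L141135) (flp_g L141133) L204777
theorem L204785 : sm gi N16544 = N24081 := rfl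
theorem L204795 : sm gg N24081 = N16546 := ded_51_1 (flp_i L141142) (flp_g L141133) L204785
theorem L204798 : sm gc N16545 = N24082 := rfl
theorem L204821 : sm gd N16547 = N24085 := rfl
theorem L204824 : sm gb N24085 = N16568 := ded_20_1 (flp_d L141334) (flp_b L141157) L204821
theorem L204826 : sm gf N24085 = N16631 := ded_35_2 (flp_d L141817) (flp_f L141161) L204821
theorem L204869 : sm ge N16550 = N24090 := rfl
theorem L204883 : sm gf N16551 = N24092 := rfl
theorem L204897 : sm gh N16552 = N24094 := rfl
theorem L204928 : sm gh N16554 = N24098 := rfl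
theorem L204953 : sm gh N16556 = N24101 := rfl
theorem L204960 : sm gg N24101 = N16647 := ded_50_1 (flp_h L141949) (flp_g L141239) L204953
theorem L204962 : sm gh N16558 = N24102 := rfl
theorem L204964 : sm ga N24102 = N16585 := ded_17_1 (flp_h L141478) (flp_a L141251) L204962
theorem L204968 : sm gj N24102 = N16559 := ded_52_1 (flp_h L141258) L141249 L204962
theorem L204970 : sm gd N16559 = N24103 := rfl
theorem L204972 : sm ga N24103 = N16586 := ded_12_1 (flp_d L141485) (flp_a L141260) L204970
theorem L204975 : sm gg N24103 = N16560 := ded_36_2 (flp_d L141266) (flp_g L141264) L204970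
theorem L204988 : sm gc N16560 = N24105 := rfl
theorem L204990 : sm ga N24105 = N16588 := ded_11_1 (flp_c L141501) (flp_a L141268) L204988
theorem L204992 : sm gf N24105 = N16782 := ded_29_2 (flp_c L143098) (flp_f L141270) L204988
theorem L204994 : sm gh N24105 = N16565 := ded_32_2 (flp_c L141312) (flp_h L141272) L204988
theorem L204997 : sm ge N16560 = N24106 := rfl
theorem L204999 : sm ga N24106 = N16589 := ded_13_1 (flp_e L141508) (flp_a L141268) L204997
theorem L205003 : sm gi N16560 = N24107 := rfl
theorem L205007 : sm gd N24107 = N16561 := ded_39_1 (flp_i L141274) L141266 L205003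
theorem L205009 : sm gf N24107 = N16784 := ded_48_1 (flp_i L143114) (flp_f L141270) L205003
theorem L205011 : sm gd N16562 = N24108 := rfl
theorem L205013 : sm ga N24108 = N16591 := ded_12_1 (flp_d L141520) (flp_a L141284) L205011
theorem L205030 : sm gc N16563 = N24110 := rfl
theorem L205035 : sm gg N24110 = N16565 := ded_30_2 (flp_c L141312) (flp_g L141298) L205030
theorem L205037 : sm gd N24110 = N16580 := ded_27_2 (flp_c L141434) (flp_d L97644) (flp_c L97545) L141293 L205030
theorem L205039 : sm ge N16563 = N24111 := rfl
theorem L205041 : sm ga N24111 = N16594 := ded_13_1 (flp_e L141544) (flp_a L141295) L205039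
theorem L205045 : sm gd N24111 = N16570 := ded_34_1 (flp_e L141353) (flp_d L97579) (flp_e L97547) L141293 L205039
theorem L205056 : sm gb N16565 = N24113 := rfl
theorem L205062 : sm ge N16565 = N24114 := rfl
theorem L205064 : sm ga N24114 = N16597 := ded_13_1 (flp_e L141566) (flp_a L141314) L205062
theorem L205066 : sm gc N24114 = N16566 := ded_28_1 (flp_e L141320) L141312 L205062
theorem L205078 : sm gf N16566 = N24116 := rfl
theorem L205080 : sm ga N24116 = N16599 := ded_14_1 (flp_f L141578) (flp_a L141322) L205078
theorem L205084 : sm ge N24116 = N16788 := ded_40_1 (flp_f L143143) (flp_e L98889) (flp_f L97556) L141320 L205078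
theorem L205094 : sm gh N16567 = N24118 := rfl
theorem L205101 : sm ge N16568 = N24119 := rfl
theorem L205103 : sm ga N24119 = N16602 := ded_13_1 (flp_e L141598) (flp_a L141336) L205101
theorem L205107 : sm gi N16568 = N24120 := rfl
theorem L205117 : sm gf N16570 = N24121 := rfl
theorem L205119 : sm ga N24121 = N16604 := ded_14_1 (flp_f L141612) (flp_a L141355) L205117
theorem L205123 : sm gi N16570 = N24122 := rfl
theorem L205125 : sm ga N24122 = N16605 := ded_18_1 (flp_i L141617) (flp_a L141355) L205123
theorem L205129 : sm gg N24122 = N16573 := ded_51_1 (flp_i L141375) (flp_g L141357) L205123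
theorem L205140 : sm gg N16572 = N24124 := rfl
theorem L205142 : sm ga N24124 = N16607 := ded_15_1 (flp_g L141632) (flp_a L141371) L205140
theorem L205144 : sm ge N24124 = N16575 := ded_41_1 (flp_g L141388) (flp_e L141373) L205140
theorem L205154 : sm gh N16573 = N24126 := rfl
theorem L205160 : sm gj N16575 = N24127 := rfl
theorem L205162 : sm ga N24127 = N16610 := ded_16_1 (flp_j L141649) (flp_a L141390) L205160
theorem L205166 : sm gf N24127 = N16656 := ded_46_1 (flp_j L142019) (flp_f L141394) L205160
theorem L205168 : sm gi N16575 = N24128 := rfl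
theorem L205178 : sm gh N16576 = N24129 := rfl
theorem L205184 : sm gd N16577 = N24130 := rfl
theorem L205191 : sm gh N24130 = N16797 := ded_38_2 (flp_d L143216) (flp_h L98944) (flp_d L97620) L141404 L205184
theorem L205201 : sm gi N16578 = N24132 := rfl
theorem L205210 : sm gj N24132 = N16581 := ded_53_1 (flp_i L141442) (flp_j L141419) L205201
theorem L205212 : sm gb N16580 = N24133 := rfl
theorem L205215 : sm gg N24133 = N16582 := ded_23_2 (flp_b L141453) (flp_g L141439) L205212
theorem L205229 : sm gh N16581 = N24135 := rfl
theorem L205236 : sm gg N24135 = N16584 := ded_50_1 (flp_h L141468) (flp_g L141451) L205229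
theorem L205249 : sm gi N16582 = N24137 := rfl
theorem L205266 : sm gd N16585 = N24139 := rfl
theorem L205270 : sm gj N24139 = N16586 := ded_37_2 (flp_d L141485) (flp_j L141483) L205266
theorem L205274 : sm gi N16585 = N24140 := rfl
theorem L205279 : sm gj N24140 = N16587 := ded_53_1 (flp_i L141493) (flp_j L141483) L205274
theorem L205282 : sm gc N16586 = N24141 := rfl
theorem L205285 : sm gg N24141 = N16588 := ded_30_2 (flp_c L141501) (flp_g L141489) L205282
theorem L205287 : sm gh N24141 = N16593 := ded_32_2 (flp_c L141537) (flp_h L141491) L205282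
theorem L205290 : sm ge N16586 = N24142 := rfl
theorem L205292 : sm gb N24142 = N24142 := ded_21_1 (flp_e L205290) L141487 L205290
theorem L205293 : sm gg N24142 = N16589 := ded_41_2 (flp_e L141508) (flp_g L141489) L205290
theorem L205295 : sm gh N24142 = N16594 := ded_43_2 (flp_e L141544) (flp_h L141491) L205290
theorem L205297 : sm gi N16586 = N24143 := rfl
theorem L205299 : sm gb N24143 = N24143 := ded_26_1 (flp_i L205297) L141487 L205297
theorem L205300 : sm gd N24143 = N16587 := ded_39_1 (flp_i L141493) L141485 L205297
theorem L205302 : sm gf N24143 = N24143 := ded_48_1 (flp_i L205297) L141488 L205297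
theorem L205303 : sm gg N24143 = N16590 := ded_51_1 (flp_i L141513) (flp_g L141489) L205297
theorem L205305 : sm gb N16588 = N24144 := rfl
theorem L205308 : sm gf N24144 = N16801 := ded_22_2 (flp_b L143250) (flp_f L141503) L205305
theorem L205313 : sm ge N16588 = N24145 := rfl
theorem L205315 : sm gc N24145 = N16589 := ded_28_1 (flp_e L141508) L141501 L205313
theorem L205317 : sm gh N24145 = N16597 := ded_43_2 (flp_e L141566) (flp_h L141505) L205313
theorem L205319 : sm gi N16588 = N24146 := rfl
theorem L205324 : sm gf N24146 = N16803 := ded_48_1 (flp_i L143264) (flp_f L141503) L205319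
theorem L205326 : sm gf N16589 = N24147 := rfl
theorem L205328 : sm gb N24147 = N24147 := ded_22_1 (flp_f L205326) L141510 L205326
theorem L205329 : sm gh N24147 = N16599 := ded_47_2 (flp_f L141578) (flp_h L141511) L205326
theorem L205331 : sm ge N24147 = N16804 := ded_40_1 (flp_f L143270) (flp_e L98985) (flp_f L97712) L141508 L205326
theorem L205333 : sm gi N16589 = N24148 := rfl
theorem L205335 : sm gb N24148 = N24148 := ded_26_1 (flp_i L205333) L141510 L205333
theorem L205336 : sm ge N24148 = N16590 := ded_44_1 (flp_i L141513) L141508 L205333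
theorem L205346 : sm gc N16591 = N24150 := rfl
theorem L205349 : sm gj N24150 = N16593 := ded_31_2 (flp_c L141537) (flp_j L141524) L205346
theorem L205353 : sm ge N16591 = N24151 := rfl
theorem L205356 : sm gj N24151 = N16594 := ded_42_2 (flp_e L141544) (flp_j L141524) L205353
theorem L205358 : sm gd N24151 = N16602 := ded_34_1 (flp_e L141598) (flp_d L97768) (flp_e L97728) L141520 L205353
theorem L205360 : sm gi N16591 = N24152 := rfl
theorem L205366 : sm gj N24152 = N16595 := ded_53_1 (flp_i L141551) (flp_j L141524) L205360
theorem L205376 : sm ge N16593 = N24154 := rfl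
theorem L205378 : sm gc N24154 = N16594 := ded_28_1 (flp_e L141544) L141537 L205376
theorem L205380 : sm gg N24154 = N16597 := ded_41_2 (flp_e L141566) (flp_g L141540) L205376
theorem L205382 : sm gi N16593 = N24155 := rfl
theorem L205384 : sm gc N24155 = N16595 := ded_33_1 (flp_i L141551) L141537 L205382
theorem L205391 : sm gf N16594 = N24156 := rfl
theorem L205393 : sm gb N24156 = N24156 := ded_22_1 (flp_f L205391) L141546 L205391
theorem L205394 : sm gd N24156 = N16604 := ded_35_1 (flp_f L141612) (flp_d L141549) L205391
theorem L205396 : sm ge N24156 = N24156 := ded_40_1 (flp_f L205391) (flp_e L141544) L97736 L141544 L205391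
theorem L205397 : sm gi N16594 = N24157 := rfl
theorem L205406 : sm gh N16595 = N24158 := rfl
theorem L205413 : sm ga N16596 = N24159 := rfl
theorem L205418 : sm gf N24159 = N16807 := ded_14_2 (flp_a L143290) (flp_f L141563) L205413
theorem L205420 : sm ge N16596 = N24160 := rfl
theorem L205422 : sm gb N24160 = N16597 := ded_21_1 (flp_e L141566) L141559 L205420
theorem L205434 : sm gf N16597 = N24162 := rfl
theorem L205436 : sm gc N24162 = N16599 := ded_29_1 (flp_f L141578) (flp_c L141568) L205434
theorem L205440 : sm gi N16597 = N24163 := rfl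
theorem L205442 : sm gc N24163 = N16600 := ded_33_1 (flp_i L141585) (flp_c L141568) L205440
theorem L205452 : sm gg N16599 = N24165 := rfl
theorem L205454 : sm gb N24165 = N24165 := ded_23_1 (flp_g L205452) L141580 L205452
theorem L205455 : sm gd N24165 = N16607 := ded_36_1 (flp_g L141632) (flp_d L141581) L205452
theorem L205457 : sm ge N24165 = N16813 := ded_41_1 (flp_g L143329) (flp_e L141583) L205452
theorem L205459 : sm gi N16599 = N24166 := rfl
theorem L205466 : sm gf N24166 = N16600 := ded_48_1 (flp_i L141585) L141578 L205459
theorem L205468 : sm gh N16600 = N24167 := rfl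
theorem L205473 : sm gf N16602 = N24168 := rfl
theorem L205475 : sm gb N24168 = N24168 := ded_22_1 (flp_f L205473) L141600 L205473
theorem L205476 : sm gj N24168 = N16604 := ded_46_2 (flp_f L141612) (flp_j L141601) L205473
theorem L205478 : sm ge N24168 = N16660 := ded_40_1 (flp_f L142049) (flp_e L98130) (flp_f L97771) L141598 L205473
theorem L205487 : sm gh N16603 = N24170 := rfl
theorem L205492 : sm gj N24170 = N16606 := ded_52_1 (flp_h L141624) (flp_j L141610) L205487
theorem L205495 : sm gg N16604 = N24171 := rfl
theorem L205497 : sm gb N24171 = N24171 := ded_23_1 (flp_g L205495) L141614 L205495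
theorem L205498 : sm ge N24171 = N16663 := ded_41_1 (flp_g L142071) (flp_e L141615) L205495
theorem L205500 : sm gf N24171 = N16607 := ded_45_1 (flp_g L141632) (flp_f L97799) (flp_g L97788) L141612 L205495
theorem L205502 : sm gi N16604 = N24172 := rfl
theorem L205516 : sm gj N16607 = N24174 := rfl
theorem L205518 : sm gb N24174 = N24174 := ded_24_1 (flp_j L205516) L141634 L205516
theorem L205519 : sm ge N24174 = N16610 := ded_42_1 (flp_j L141649) (flp_e L141635) L205516
theorem L205521 : sm gi N16607 = N24175 := rfl
theorem L205528 : sm gh N16608 = N24176 := rfl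
theorem L205539 : sm gi N16610 = N24178 := rfl
theorem L205555 : sm gd N16612 = N24180 := rfl
theorem L205558 : sm gf N24180 = N16613 := ded_35_2 (flp_d L141670) (flp_f L141668) L205555
theorem L205560 : sm gh N24180 = N16822 := ded_38_2 (flp_d L143397) (flp_h L99074) (flp_d L97825) L141665 L205555
theorem L205562 : sm gc N16613 = N24181 := rfl
theorem L205565 : sm gg N24181 = N16673 := ded_30_2 (flp_c L142140) (flp_g L141673) L205562
theorem L205567 : sm gh N24181 = N16823 := ded_32_2 (flp_c L143403) (flp_h L141676) L205562
theorem L205569 : sm gb N16614 = N24182 := rfl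
theorem L205572 : sm gj N24182 = N16616 := ded_24_2 (flp_b L141693) (flp_j L141681) L205569
theorem L205593 : sm ga N16616 = N24185 := rfl
theorem L205598 : sm gg N24185 = N16619 := ded_15_2 (flp_a L141717) (flp_g L141696) L205593
theorem L205650 : sm gi N16622 = N24192 := rfl
theorem L205656 : sm gj N24192 = N16626 := ded_53_1 (flp_i L141774) (flp_j L141743) L205650
theorem L205658 : sm gh N16623 = N24193 := rfl
theorem L205665 : sm gj N24193 = N16627 := ded_52_1 (flp_h L141782) (flp_j L141754) L205658
theorem L205678 : sm gh N16626 = N24195 := rfl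
theorem L205683 : sm gg N24195 = N16629 := ded_50_1 (flp_h L141801) (flp_g L141780) L205678
theorem L205737 : sm gi N16631 = N24202 := rfl
theorem L205745 : sm gj N24202 = N16635 := ded_53_1 (flp_i L141852) (flp_j L141823) L205737
theorem L205747 : sm ge N16633 = N24203 := rfl
theorem L205752 : sm gg N24203 = N16636 := ded_41_2 (flp_e L141861) (flp_g L141840) L205747
theorem L205779 : sm gh N16635 = N24207 := rfl
theorem L205802 : sm gi N16636 = N24210 := rfl
theorem L205807 : sm ge N24210 = N16637 := ded_44_1 (flp_i L141867) L141861 L205802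
theorem L205810 : sm gh N16637 = N24211 := rfl
theorem L205818 : sm gg N16638 = N24212 := rfl
theorem L205824 : sm ge N24212 = N16645 := ded_41_1 (flp_g L141932) (flp_e L141884) L205818
theorem L205826 : sm gi N16638 = N24213 := rfl
theorem L205829 : sm gb N24213 = N16654 := ded_26_1 (flp_i L142002) (flp_b L141880) L205826
theorem L205916 : sm gh N16646 = N24224 := rfl
theorem L205921 : sm gf N24224 = N16647 := ded_47_1 (flp_h L141949) (flp_f L141946) L205916
theorem L205933 : sm gf N16648 = N24226 := rfl
theorem L205935 : sm ga N24226 = N16660 := ded_14_1 (flp_f L142049) (flp_a L141959) L205933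
theorem L205938 : sm gj N24226 = N16650 := ded_46_2 (flp_f L141974) (flp_j L141962) L205933
theorem L205958 : sm gg N16650 = N24229 := rfl
theorem L205960 : sm ga N24229 = N16663 := ded_15_1 (flp_g L142071) (flp_a L141976) L205958
theorem L205965 : sm gi N16650 = N24230 := rfl
theorem L205980 : sm gj N16653 = N24232 := rfl
theorem L205982 : sm ga N24232 = N16666 := ded_16_1 (flp_j L142090) (flp_a L141997) L205980
theorem L205985 : sm ge N24232 = N16656 := ded_42_1 (flp_j L142019) (flp_e L142000) L205980
theorem L206013 : sm gi N16656 = N24236 := rfl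
theorem L206015 : sm ga N24236 = N16670 := ded_18_1 (flp_i L142119) (flp_a L142021) L206013
theorem L206028 : sm gd N16658 = N24238 := rfl
theorem L206030 : sm ga N24238 = N16672 := ded_12_1 (flp_d L142132) (flp_a L142036) L206028
theorem L206035 : sm gh N24238 = N16843 := ded_38_2 (flp_d L143571) (flp_h L99209) (flp_d L98118) L142034 L206028
theorem L206045 : sm gg N16660 = N24240 := rfl
theorem L206047 : sm gb N24240 = N24240 := ded_23_1 (flp_g L206045) L142051 L206045
theorem L206048 : sm gd N24240 = N24240 := ded_36_1 (flp_g L206045) L142052 L206045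
theorem L206049 : sm gf N24240 = N24240 := ded_45_1 (flp_g L206045) (flp_f L142049) L98133 L142049 L206045
theorem L206050 : sm gi N16660 = N24241 := rfl
theorem L206054 : sm gf N24241 = N16661 := ded_48_1 (flp_i L142055) L142049 L206050
theorem L206056 : sm gj N24241 = N16664 := ded_53_1 (flp_i L142077) (flp_j L142053) L206050
theorem L206058 : sm gh N16661 = N24242 := rfl
theorem L206066 : sm gj N16663 = N24243 := rfl
theorem L206068 : sm gb N24243 = N24243 := ded_24_1 (flp_j L206066) L142073 L206066
theorem L206069 : sm gd N24243 = N24243 := ded_37_1 (flp_j L206066) L142074 L206066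
theorem L206070 : sm gf N24243 = N16666 := ded_46_1 (flp_j L142090) (flp_f L142075) L206066
theorem L206072 : sm gi N16663 = N24244 := rfl
theorem L206078 : sm gg N24244 = N16664 := ded_51_1 (flp_i L142077) L142071 L206072
theorem L206080 : sm gh N16664 = N24245 := rfl
theorem L206092 : sm gi N16666 = N24247 := rfl
theorem L206108 : sm gd N16668 = N24249 := rfl
theorem L206111 : sm gf N24249 = N16669 := ded_35_2 (flp_d L142113) (flp_f L142110) L206108
theorem L206115 : sm gc N16669 = N24250 := rfl
theorem L206120 : sm gh N16670 = N24251 := rfl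
theorem L206124 : sm gj N24251 = N16671 := ded_52_1 (flp_h L142127) (flp_j L142125) L206120
theorem L206126 : sm gd N16671 = N24252 := rfl
theorem L206129 : sm gg N24252 = N16672 := ded_36_2 (flp_d L142132) (flp_g L142130) L206126
theorem L206131 : sm gh N24252 = N16846 := ded_38_2 (flp_d L143596) (flp_h L99234) (flp_d L98193) L142127 L206126
theorem L206133 : sm gc N16672 = N24253 := rfl
theorem L206138 : sm gh N24253 = N16847 := ded_32_2 (flp_c L143602) (flp_h L142138) L206133
theorem L206140 : sm ge N16672 = N24254 := rfl
theorem L206147 : sm gb N16673 = N24255 := rfl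
theorem L206154 : sm gg N16674 = N24256 := rfl
theorem L206158 : sm gc N24256 = N16675 := ded_30_1 (flp_g L142156) L142146 L206154
theorem L206160 : sm gd N24256 = N18946 := ded_36_1 (flp_g L160865) (flp_d L142154) L206154
theorem L206165 : sm gh N16674 = N24257 := rfl
theorem L206169 : sm gc N24257 = N16676 := ded_32_1 (flp_h L142166) L142146 L206165
theorem L206172 : sm gj N24257 = N16764 := ded_52_1 (flp_h L142948) (flp_j L142150) L206165
theorem L206174 : sm gf N16675 = N24258 := rfl
theorem L206177 : sm gb N24258 = N16691 := ded_22_1 (flp_f L142316) (flp_b L142159) L206174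
theorem L206183 : sm gh N16675 = N24259 := rfl
theorem L206186 : sm gb N24259 = N16692 := ded_25_1 (flp_h L142325) (flp_b L142159) L206183
theorem L206201 : sm gi N16676 = N24261 := rfl
theorem L206204 : sm gb N24261 = N16694 := ded_26_1 (flp_i L142342) (flp_b L142169) L206201
theorem L206229 : sm gi N16678 = N24264 := rfl
theorem L206236 : sm ge N24264 = N16682 := ded_44_1 (flp_i L142225) (flp_e L142191) L206229
theorem L206238 : sm gg N24264 = N16680 := ded_51_1 (flp_i L142203) (flp_g L142193) L206229
theorem L206249 : sm ge N16679 = N24266 := rfl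
theorem L206254 : sm gj N24266 = N16768 := ded_42_2 (flp_e L142978) (flp_j L142201) L206249
theorem L206256 : sm gd N24266 = N16684 := ded_34_1 (flp_e L142248) (flp_d L98252) (flp_e L98237) L142196 L206249
theorem L206258 : sm gi N16679 = N24267 := rfl
theorem L206261 : sm gb N24267 = N16700 := ded_26_1 (flp_i L142396) (flp_b L142199) L206258
theorem L206265 : sm gj N24267 = N16769 := ded_53_1 (flp_i L142986) (flp_j L142201) L206258
theorem L206298 : sm ge N16683 = N24271 := rfl
theorem L206304 : sm gj N24271 = N16770 := ded_42_2 (flp_e L142994) (flp_j L142242) L206298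
theorem L206307 : sm gi N16683 = N24272 := rfl
theorem L206315 : sm gf N24272 = N16687 := ded_48_1 (flp_i L142277) (flp_f L142240) L206307
theorem L206319 : sm gf N16684 = N24273 := rfl
theorem L206322 : sm gb N24273 = N16703 := ded_22_1 (flp_f L142424) (flp_b L142251) L206319
theorem L206324 : sm gj N24273 = N16772 := ded_46_2 (flp_f L143013) (flp_j L142253) L206319
theorem L206327 : sm ge N24273 = N16688 := ded_40_1 (flp_f L142288) (flp_e L98284) (flp_f L98257) L142248 L206319
theorem L206329 : sm gi N16684 = N24274 := rfl
theorem L206336 : sm gj N24274 = N16773 := ded_53_1 (flp_i L143021) (flp_j L142253) L206329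
theorem L206349 : sm gd N16686 = N24276 := rfl
theorem L206354 : sm gj N24276 = N16775 := ded_37_2 (flp_d L143039) (flp_j L142274) L206349
theorem L206358 : sm gf N16686 = N24277 := rfl
theorem L206364 : sm gj N24277 = N16776 := ded_46_2 (flp_f L143047) (flp_j L142274) L206358
theorem L206378 : sm gh N16687 = N24279 := rfl
theorem L206385 : sm gj N24279 = N16778 := ded_52_1 (flp_h L143064) (flp_j L142286) L206378
theorem L206388 : sm gg N16688 = N24280 := rfl
theorem L206395 : sm gi N16688 = N24281 := rfl
theorem L206400 : sm gf N24281 = N16689 := ded_48_1 (flp_i L142296) L142288 L206395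
theorem L206402 : sm gj N24281 = N16780 := ded_53_1 (flp_i L143081) (flp_j L142293) L206395
theorem L206404 : sm gh N16689 = N24282 := rfl
theorem L206432 : sm gd N16692 = N24285 := rfl
theorem L206434 : sm ga N24285 = N16718 := ded_12_1 (flp_d L142566) (flp_a L142327) L206432
theorem L206436 : sm gg N24285 = N16693 := ded_36_2 (flp_d L142334) (flp_g L142331) L206432
theorem L206439 : sm gh N24285 = N16696 := ded_38_2 (flp_d L142361) (flp_h L98330) (flp_d L98308) L142325 L206432
theorem L206441 : sm gi N16692 = N24286 := rfl
theorem L206443 : sm ga N24286 = N16719 := ded_18_1 (flp_i L142574) (flp_a L142327) L206441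
theorem L206447 : sm gg N24286 = N16694 := ded_51_1 (flp_i L142342) (flp_g L142331) L206441
theorem L206451 : sm gc N16693 = N24287 := rfl
theorem L206453 : sm ga N24287 = N16720 := ded_11_1 (flp_c L142583) (flp_a L142336) L206451
theorem L206455 : sm gj N24287 = N16782 := ded_31_2 (flp_c L143098) (flp_j L142338) L206451
theorem L206457 : sm gh N24287 = N16698 := ded_32_2 (flp_c L142380) (flp_h L142340) L206451
theorem L206469 : sm gi N16693 = N24289 := rfl
theorem L206473 : sm gd N24289 = N16694 := ded_39_1 (flp_i L142342) L142334 L206469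
theorem L206477 : sm gd N16695 = N24290 := rfl
theorem L206479 : sm ga N24290 = N16723 := ded_12_1 (flp_d L142605) (flp_a L142353) L206477
theorem L206481 : sm gf N24290 = N16696 := ded_35_2 (flp_d L142361) (flp_f L142358) L206477
theorem L206495 : sm gc N16696 = N24292 := rfl
theorem L206497 : sm ga N24292 = N16725 := ded_11_1 (flp_c L142621) (flp_a L142363) L206495
theorem L206499 : sm gg N24292 = N16698 := ded_30_2 (flp_c L142380) (flp_g L142365) L206495
theorem L206513 : sm gi N16696 = N24294 := rfl
theorem L206519 : sm gg N24294 = N16700 := ded_51_1 (flp_i L142396) (flp_g L142365) L206513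
theorem L206522 : sm gb N16698 = N24295 := rfl
theorem L206524 : sm gd N24295 = N16713 := ded_20_2 (flp_b L142523) (flp_d L142386) L206522
theorem L206526 : sm gj N24295 = N16785 := ded_24_2 (flp_b L143121) (flp_j L142384) L206522
theorem L206528 : sm ge N16698 = N24296 := rfl
theorem L206534 : sm gj N24296 = N16786 := ded_42_2 (flp_e L143126) (flp_j L142384) L206528
theorem L206547 : sm gf N16699 = N24298 := rfl
theorem L206549 : sm ga N24298 = N16731 := ded_14_1 (flp_f L142666) (flp_a L142390) L206547
theorem L206551 : sm gd N24298 = N16703 := ded_35_1 (flp_f L142424) (flp_d L142394) L206547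
theorem L206565 : sm gh N16700 = N24300 := rfl
theorem L206572 : sm gf N16701 = N24301 := rfl
theorem L206574 : sm ga N24301 = N16734 := ded_14_1 (flp_f L142688) (flp_a L142406) L206572
theorem L206601 : sm gg N16703 = N24304 := rfl
theorem L206603 : sm ga N24304 = N16737 := ded_15_1 (flp_g L142714) (flp_a L142426) L206601
theorem L206609 : sm gi N16703 = N24305 := rfl
theorem L206618 : sm gj N24305 = N16792 := ded_53_1 (flp_i L143173) (flp_j L142429) L206609
theorem L206657 : sm gd N16708 = N24310 := rfl
theorem L206659 : sm ga N24310 = N16743 := ded_12_1 (flp_d L142764) (flp_a L142472) L206657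
theorem L206662 : sm gj N24310 = N16797 := ded_37_2 (flp_d L143216) (flp_j L142478) L206657
theorem L206726 : sm ga N16713 = N24317 := rfl
theorem L206728 : sm gc N24317 = N19007 := ded_11_2 (flp_a L161438) (flp_c L142529) L206726
theorem L206736 : sm gi N16713 = N24318 := rfl
theorem L206755 : sm gh N16716 = N24320 := rfl
theorem L206759 : sm ge N24320 = N16717 := ded_43_1 (flp_h L142559) L142551 L206755
theorem L206763 : sm gd N16717 = N24321 := rfl
theorem L206766 : sm gf N24321 = N16718 := ded_35_2 (flp_d L142566) (flp_f L142563) L206763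
theorem L206771 : sm gi N16717 = N24322 := rfl
theorem L206779 : sm gc N16718 = N24323 := rfl
theorem L206781 : sm gg N24323 = N16720 := ded_30_2 (flp_c L142583) (flp_g L142569) L206779
theorem L206787 : sm ge N16718 = N24324 := rfl
theorem L206789 : sm gb N24324 = N24324 := ded_21_1 (flp_e L206787) L142568 L206787
theorem L206790 : sm gg N24324 = N16721 := ded_41_2 (flp_e L142590) (flp_g L142569) L206787
theorem L206792 : sm gj N24324 = N24324 := ded_42_2 (flp_e L206787) L142571 L206787
theorem L206793 : sm gh N24324 = N16726 := ded_43_2 (flp_e L142628) (flp_h L142572) L206787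
theorem L206795 : sm gd N24324 = N24324 := ded_34_1 (flp_e L206787) (flp_d L142566) L98490 L142566 L206787
theorem L206796 : sm gi N16718 = N24325 := rfl
theorem L206798 : sm gb N24325 = N24325 := ded_26_1 (flp_i L206796) L142568 L206796
theorem L206799 : sm gd N24325 = N16719 := ded_39_1 (flp_i L142574) L142566 L206796
theorem L206801 : sm gg N24325 = N16722 := ded_51_1 (flp_i L142598) (flp_g L142569) L206796
theorem L206803 : sm gj N24325 = N24325 := ded_53_1 (flp_i L206796) L142571 L206796
theorem L206804 : sm gb N16720 = N24326 := rfl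
theorem L206807 : sm gj N24326 = N16801 := ded_24_2 (flp_b L143250) (flp_j L142585) L206804
theorem L206809 : sm gh N24326 = N16728 := ded_25_2 (flp_b L142644) (flp_h L142587) L206804
theorem L206812 : sm ge N16720 = N24327 := rfl
theorem L206814 : sm gc N24327 = N16721 := ded_28_1 (flp_e L142590) L142583 L206812
theorem L206816 : sm gj N24327 = N16802 := ded_42_2 (flp_e L143257) (flp_j L142585) L206812
theorem L206820 : sm gi N16720 = N24328 := rfl
theorem L206822 : sm gc N24328 = N16722 := ded_33_1 (flp_i L142598) L142583 L206820
theorem L206827 : sm gf N16721 = N24329 := rfl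
theorem L206829 : sm gb N24329 = N24329 := ded_22_1 (flp_f L206827) L142592 L206827
theorem L206830 : sm gd N24329 = N24329 := ded_35_1 (flp_f L206827) L142597 L206827
theorem L206831 : sm gj N24329 = N16804 := ded_46_2 (flp_f L143270) (flp_j L142593) L206827
theorem L206833 : sm gh N24329 = N16731 := ded_47_2 (flp_f L142666) (flp_h L142595) L206827
theorem L206835 : sm gi N16721 = N24330 := rfl
theorem L206839 : sm ge N24330 = N16722 := ded_44_1 (flp_i L142598) L142590 L206835
theorem L206841 : sm gj N24330 = N16805 := ded_53_1 (flp_i L143276) (flp_j L142593) L206835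
theorem L206843 : sm gh N16722 = N24331 := rfl
theorem L206851 : sm gc N16723 = N24332 := rfl
theorem L206856 : sm gd N24332 = N16744 := ded_27_2 (flp_c L142772) (flp_d L98624) (flp_c L98512) L142605 L206851
theorem L206858 : sm ge N16723 = N24333 := rfl
theorem L206863 : sm gi N16723 = N24334 := rfl
theorem L206868 : sm gf N24334 = N16727 := ded_48_1 (flp_i L142636) (flp_f L142608) L206863
theorem L206879 : sm ge N16725 = N24336 := rfl
theorem L206912 : sm gh N16727 = N24340 := rfl
theorem L206926 : sm ge N16728 = N24342 := rfl
theorem L206931 : sm gj N24342 = N16808 := ded_42_2 (flp_e L143296) (flp_j L142648) L206926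
theorem L206934 : sm gi N16728 = N24343 := rfl
theorem L206943 : sm gf N16729 = N24344 := rfl
theorem L206945 : sm gc N24344 = N16731 := ded_29_1 (flp_f L142666) (flp_c L142653) L206943
theorem L206965 : sm gg N16731 = N24347 := rfl
theorem L206968 : sm gd N24347 = N16737 := ded_36_1 (flp_g L142714) (flp_d L142669) L206965
theorem L206979 : sm gh N16732 = N24349 := rfl
theorem L206986 : sm gg N16734 = N24350 := rfl
theorem L206992 : sm gf N24350 = N16737 := ded_45_1 (flp_g L142714) (flp_f L98573) (flp_g L98559) L142688 L206986
theorem L207002 : sm gh N16735 = N24352 := rfl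
theorem L207008 : sm gg N24352 = N16739 := ded_50_1 (flp_h L142731) (flp_g L142701) L207002
theorem L207012 : sm gj N16737 = N24353 := rfl
theorem L207016 : sm ge N24353 = N16740 := ded_42_1 (flp_j L142740) (flp_e L142718) L207012
theorem L207029 : sm gh N16738 = N24355 := rfl
theorem L207035 : sm gf N24355 = N16739 := ded_47_1 (flp_h L142731) (flp_f L142727) L207029
theorem L207037 : sm gj N24355 = N16818 := ded_52_1 (flp_h L143365) (flp_j L142729) L207029
theorem L207040 : sm gd N16739 = N24356 := rfl
theorem L207047 : sm gi N16740 = N24357 := rfl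
theorem L207052 : sm gg N24357 = N16820 := ded_51_1 (flp_i L143380) (flp_g L142746) L207047
theorem L207054 : sm gj N24357 = N16741 := ded_53_1 (flp_i L142748) L142740 L207047
theorem L207056 : sm gh N16741 = N24358 := rfl
theorem L207061 : sm gg N24358 = N16742 := ded_50_1 (flp_h L142755) (flp_g L142753) L207056
theorem L207072 : sm gc N16743 = N24360 := rfl
theorem L207095 : sm gi N16744 = N24363 := rfl
theorem L207099 : sm gf N24363 = N16748 := ded_48_1 (flp_i L142804) (flp_f L142774) L207095
theorem L207120 : sm ga N16747 = N24366 := rfl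
theorem L207122 : sm gc N24366 = N16758 := ded_11_2 (flp_a L142891) (flp_c L142802) L207120
theorem L207125 : sm gg N24366 = N16750 := ded_15_2 (flp_a L142822) (flp_g L142798) L207120
theorem L207139 : sm gh N16748 = N24368 := rfl
theorem L207144 : sm gg N24368 = N16752 := ded_50_1 (flp_h L142839) (flp_g L142809) L207139
theorem L207167 : sm gd N16752 = N24371 := rfl
theorem L207169 : sm gj N24371 = N16826 := ded_37_2 (flp_d L143427) (flp_j L142844) L207167
theorem L207189 : sm gi N16753 = N24374 := rfl
theorem L207194 : sm gf N24374 = N16759 := ded_48_1 (flp_i L142901) (flp_f L142850) L207189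
theorem L207215 : sm gh N16755 = N24377 := rfl
theorem L207217 : sm ga N24377 = N19067 := ded_17_1 (flp_h L161929) (flp_a L142865) L207215
theorem L207221 : sm gf N24377 = N16760 := ded_47_1 (flp_h L142910) (flp_f L142870) L207215
theorem L207234 : sm gi N16758 = N24379 := rfl
theorem L207242 : sm gg N24379 = N16761 := ded_51_1 (flp_i L142921) (flp_g L142895) L207234
theorem L207264 : sm gh N16761 = N24382 := rfl
theorem L207266 : sm ga N24382 = N16762 := ded_17_1 (flp_h L142931) (flp_a L142923) L207264
theorem L207274 : sm gd N16762 = N24383 := rfl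
theorem L207278 : sm gj N24383 = N16828 := ded_37_2 (flp_d L143441) (flp_j L142936) L207274
theorem L207299 : sm gi N16764 = N24386 := rfl
theorem L207303 : sm gc N24386 = N16766 := ded_33_1 (flp_i L142964) (flp_c L142952) L207299
theorem L207323 : sm gi N16765 = N24389 := rfl
theorem L207331 : sm gb N16767 = N24390 := rfl
theorem L207336 : sm gc N24390 = N16785 := ded_19_2 (flp_b L143121) (flp_c L98882) (flp_b L98783) L142972 L207331
theorem L207338 : sm ge N16767 = N24391 := rfl
theorem L207341 : sm gc N24391 = N16768 := ded_28_1 (flp_e L142978) L142972 L207338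
theorem L207359 : sm gi N16768 = N24394 := rfl
theorem L207369 : sm gh N16769 = N24395 := rfl
theorem L207376 : sm gd N16770 = N24396 := rfl
theorem L207420 : sm gi N16772 = N24401 := rfl
theorem L207425 : sm ge N24401 = N16780 := ded_44_1 (flp_i L143081) (flp_e L143019) L207420
theorem L207429 : sm gh N16773 = N24402 := rfl
theorem L207434 : sm ge N24402 = N16774 := ded_43_1 (flp_h L143029) (flp_e L143026) L207429
theorem L207444 : sm gh N16775 = N24404 := rfl
theorem L207448 : sm ge N24404 = N19094 := ded_43_1 (flp_h L162144) (flp_e L143045) L207444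
theorem L207450 : sm gg N24404 = N16831 := ded_50_1 (flp_h L143464) (flp_g L143043) L207444
theorem L207453 : sm gi N16775 = N24405 := rfl
theorem L207461 : sm gg N24405 = N16832 := ded_51_1 (flp_i L143472) (flp_g L143043) L207453
theorem L207463 : sm gg N16776 = N24406 := rfl
theorem L207467 : sm gc N24406 = N16779 := ded_30_1 (flp_g L143073) (flp_c L143051) L207463
theorem L207501 : sm gj N16779 = N24410 := rfl
theorem L207518 : sm gh N16780 = N24412 := rfl
theorem L207535 : sm gb N16782 = N24414 := rfl
theorem L207550 : sm gi N16782 = N24416 := rfl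
theorem L207558 : sm gf N16783 = N24417 := rfl
theorem L207560 : sm ga N24417 = N16804 := ded_14_1 (flp_f L143270) (flp_a L143108) L207558
theorem L207588 : sm ge N16785 = N24421 := rfl
theorem L207590 : sm gb N24421 = N16786 := ded_21_1 (flp_e L143126) L143121 L207588
theorem L207594 : sm gi N16785 = N24422 := rfl
theorem L207601 : sm gf N16786 = N24423 := rfl
theorem L207603 : sm ga N24423 = N16810 := ded_14_1 (flp_f L143311) (flp_a L143128) L207601
theorem L207605 : sm gc N24423 = N16788 := ded_29_1 (flp_f L143143) (flp_c L143130) L207601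
theorem L207608 : sm gi N16786 = N24424 := rfl
theorem L207625 : sm gg N16788 = N24426 := rfl
theorem L207627 : sm ga N24426 = N16813 := ded_15_1 (flp_g L143329) (flp_a L143145) L207625
theorem L207629 : sm gd N24426 = N16791 := ded_36_1 (flp_g L143164) (flp_d L143147) L207625
theorem L207647 : sm gj N16791 = N24429 := rfl
theorem L207656 : sm gi N16791 = N24430 := rfl
theorem L207658 : sm ga N24430 = N16817 := ded_18_1 (flp_i L143356) (flp_a L143166) L207656
theorem L207664 : sm gg N24430 = N16792 := ded_51_1 (flp_i L143173) L143164 L207656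
theorem L207666 : sm gh N16792 = N24431 := rfl
theorem L207744 : sm ga N16801 = N24440 := rfl
theorem L207749 : sm gh N24440 = N16807 := ded_17_2 (flp_a L143290) (flp_h L143254) L207744
theorem L207751 : sm ge N16801 = N24441 := rfl
theorem L207759 : sm gi N16801 = N24442 := rfl
theorem L207761 : sm gb N24442 = N16803 := ded_26_1 (flp_i L143264) L143250 L207759
theorem L207772 : sm gf N16802 = N24444 := rfl
theorem L207774 : sm gc N24444 = N16804 := ded_29_1 (flp_f L143270) (flp_c L143259) L207772
theorem L207776 : sm gh N24444 = N16810 := ded_47_2 (flp_f L143311) (flp_h L143262) L207772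
theorem L207785 : sm gh N16803 = N24446 := rfl
theorem L207790 : sm gi N24446 = N16812 := ded_54_2 (flp_h L143324) (flp_i L99010) (flp_h L98982) L143264 L207785
theorem L207792 : sm gg N16804 = N24447 := rfl
theorem L207794 : sm gb N24447 = N24447 := ded_23_1 (flp_g L207792) L143272 L207792
theorem L207795 : sm gd N24447 = N24447 := ded_36_1 (flp_g L207792) L143273 L207792
theorem L207796 : sm gh N24447 = N16813 := ded_50_2 (flp_g L143329) (flp_h L143274) L207792
theorem L207798 : sm gf N24447 = N24447 := ded_45_1 (flp_g L207792) (flp_f L143270) L98988 L143270 L207792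
theorem L207799 : sm gi N16804 = N24448 := rfl
theorem L207820 : sm gi N16807 = N24451 := rfl
theorem L207834 : sm gi N16808 = N24453 := rfl
theorem L207849 : sm gg N16810 = N24455 := rfl
theorem L207875 : sm gj N16813 = N24459 := rfl
theorem L207889 : sm gh N16814 = N24461 := rfl
theorem L207920 : sm gd N16818 = N24465 := rfl
theorem L207949 : sm gc N16822 = N24469 := rfl
theorem L207951 : sm gf N24469 = N16823 := ded_29_2 (flp_c L143403) (flp_f L143400) L207949
theorem L207960 : sm gb N16823 = N24471 := rfl
theorem L208119 : sm gh N16838 = N24491 := rfl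
theorem L208125 : sm gg N24491 = N16839 := ded_50_1 (flp_h L143535) (flp_g L143533) L208119
theorem L208169 : sm ge N16843 = N24497 := rfl
theorem L208190 : sm gc N16846 = N24500 := rfl
theorem L208192 : sm gg N24500 = N16847 := ded_30_2 (flp_c L143602) (flp_g L143599) L208190
theorem L208196 : sm ge N16846 = N24501 := rfl
theorem L208225 : sm gi N16850 = N24505 := rfl
theorem L208228 : sm gb N24505 = N24505 := ded_26_1 (flp_i L208225) L143626 L208225
theorem L208230 : sm gd N24505 = N16852 := ded_39_1 (flp_i L143645) L143623 L208225
theorem L208236 : sm gi N16851 = N24506 := rfl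
theorem L208240 : sm gc N24506 = N16861 := ded_33_1 (flp_i L143739) (flp_c L143637) L208236
theorem L208259 : sm gi N16853 = N24508 := rfl
theorem L208267 : sm gf N24508 = N16857 := ded_48_1 (flp_i L143698) (flp_f L143660) L208259
theorem L208283 : sm gd N16855 = N24510 := rfl
theorem L208287 : sm gf N24510 = N16859 := ded_35_2 (flp_d L143720) (flp_f L143683) L208283
theorem L208292 : sm gi N16856 = N24511 := rfl
theorem L208298 : sm ge N24511 = N16857 := ded_44_1 (flp_i L143698) L143687 L208292
theorem L208301 : sm gg N24511 = N16970 := ded_51_1 (flp_i L144671) (flp_g L143692) L208292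
theorem L208304 : sm gh N16857 = N24512 := rfl
theorem L208313 : sm gd N16858 = N24513 := rfl
theorem L208317 : sm gg N24513 = N16972 := ded_36_2 (flp_d L144690) (flp_g L143715) L208313
theorem L208320 : sm gi N24513 = N16859 := ded_39_2 (flp_d L143720) (flp_i L143718) L208313
theorem L208322 : sm gc N16859 = N24514 := rfl
theorem L208340 : sm gi N16860 = N24516 := rfl
theorem L208346 : sm gd N24516 = N16861 := ded_39_1 (flp_i L143739) L143728 L208340
theorem L208352 : sm gh N16861 = N24517 := rfl
theorem L208362 : sm gi N24517 = N16862 := ded_54_2 (flp_h L143749) (flp_i L99324) L99314 L143739 L208352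
theorem L208364 : sm gd N16862 = N24518 := rfl
theorem L208367 : sm gb N24518 = N16881 := ded_20_1 (flp_d L143933) (flp_b L143752) L208364
theorem L208385 : sm gc N16864 = N24520 := rfl
theorem L208394 : sm ge N16864 = N24521 := rfl
theorem L208403 : sm gc N16865 = N24522 := rfl
theorem L208406 : sm gg N24522 = N16975 := ded_30_2 (flp_c L144716) (flp_g L143786) L208403
theorem L208410 : sm gi N24522 = N16866 := ded_33_2 (flp_c L143792) (flp_i L143789) L208403
theorem L208433 : sm ge N16866 = N24525 := rfl
theorem L208441 : sm gh N24525 = N16871 := ded_43_2 (flp_e L143838) (flp_h L143798) L208433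
theorem L208500 : sm gd N16871 = N24532 := rfl
theorem L208503 : sm gg N24532 = N16982 := ded_36_2 (flp_d L144784) (flp_g L143843) L208500
theorem L208509 : sm ge N24532 = N24532 := ded_34_2 (flp_d L208500) (flp_e L143838) L99392 L143838 L208500
theorem L208539 : sm gd N16874 = N24536 := rfl
theorem L208541 : sm gb N24536 = N16875 := ded_20_1 (flp_d L143879) (flp_b L143870) L208539
theorem L208548 : sm gf N16874 = N24537 := rfl
theorem L208558 : sm gf N16875 = N24538 := rfl
theorem L208573 : sm gg N16876 = N24540 := rfl
theorem L208576 : sm gc N24540 = N16877 := ded_30_1 (flp_g L143896) (flp_c L143890) L208573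
theorem L208581 : sm gf N24540 = N16990 := ded_45_1 (flp_g L144857) (flp_f L100058) (flp_g L99420) L143887 L208573
theorem L208594 : sm gi N16878 = N24542 := rfl
theorem L208597 : sm gc N24542 = N16879 := ded_33_1 (flp_i L143915) L143906 L208594
theorem L208604 : sm gh N16879 = N24543 := rfl
theorem L208611 : sm gd N16880 = N24544 := rfl
theorem L208616 : sm gi N24544 = N16881 := ded_39_2 (flp_d L143933) (flp_i L143931) L208611
theorem L208618 : sm gc N16881 = N24545 := rfl
theorem L208625 : sm ge N16881 = N24546 := rfl
theorem L208632 : sm gc N16882 = N24547 := rfl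
theorem L208634 : sm gf N24547 = N16885 := ded_29_2 (flp_c L143963) (flp_f L143941) L208632
theorem L208639 : sm gi N24547 = N16883 := ded_33_2 (flp_c L143948) (flp_i L143945) L208632
theorem L208642 : sm ge N16882 = N24548 := rfl
theorem L208647 : sm gi N24548 = N16884 := ded_44_2 (flp_e L143957) (flp_i L143945) L208642
theorem L208649 : sm gb N16883 = N24549 := rfl
theorem L208658 : sm ge N16883 = N24550 := rfl
theorem L208664 : sm gh N24550 = N16891 := ded_43_2 (flp_e L144013) (flp_h L143954) L208658
theorem L208666 : sm gf N16884 = N24551 := rfl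
theorem L208669 : sm gh N24551 = N16892 := ded_47_2 (flp_f L144020) (flp_h L143961) L208666
theorem L208673 : sm gb N16885 = N24552 := rfl
theorem L208680 : sm gi N24552 = N16887 := ded_26_2 (flp_b L143981) (flp_i L143969) L208673
theorem L208707 : sm ge N16887 = N24556 := rfl
theorem L208714 : sm gh N24556 = N16894 := ded_43_2 (flp_e L144035) (flp_h L143987) L208707
theorem L208716 : sm gd N16888 = N24557 := rfl
theorem L208718 : sm gg N24557 = N16997 := ded_36_2 (flp_d L144920) (flp_g L143993) L208716
theorem L208769 : sm gg N16892 = N24564 := rfl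
theorem L208772 : sm ge N24564 = N16897 := ded_41_1 (flp_g L144059) (flp_e L144025) L208769
theorem L208800 : sm gf N16895 = N24568 := rfl
theorem L208808 : sm gh N16895 = N24569 := rfl
theorem L208824 : sm gj N16897 = N24571 := rfl
theorem L208826 : sm gd N24571 = N16904 := ded_37_1 (flp_j L144116) (flp_d L144061) L208824
theorem L208832 : sm gd N16898 = N24572 := rfl
theorem L208836 : sm gg N24572 = N17007 := ded_36_2 (flp_d L144996) (flp_g L144070) L208832
theorem L208842 : sm gf N16898 = N24573 := rfl
theorem L208849 : sm ge N24573 = N24573 := ded_40_1 (flp_f L208842) (flp_e L144066) L99539 L144066 L208842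
theorem L208850 : sm gc N16899 = N24574 := rfl
theorem L208852 : sm ge N24574 = N16919 := ded_28_2 (flp_c L144244) (flp_e L144083) L208850
theorem L208854 : sm gg N24574 = N17009 := ded_30_2 (flp_c L145015) (flp_g L144079) L208850
theorem L208924 : sm ge N16905 = N24583 := rfl
theorem L208926 : sm ga N24583 = N16906 := ded_13_1 (flp_e L144133) L144124 L208924
theorem L208928 : sm gc N24583 = N24583 := ded_28_1 (flp_e L208924) L144126 L208924
theorem L208933 : sm gd N16906 = N24584 := rfl
theorem L208935 : sm gb N24584 = N16907 := ded_20_1 (flp_d L144142) (flp_b L144135) L208933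
theorem L208950 : sm gf N16907 = N24586 := rfl
theorem L208952 : sm gc N24586 = N24586 := ded_29_1 (flp_f L208950) L144147 L208950
theorem L208957 : sm gh N16907 = N24587 := rfl
theorem L208959 : sm gc N24587 = N24587 := ded_32_1 (flp_h L208957) L144147 L208957
theorem L208963 : sm gg N16908 = N24588 := rfl
theorem L208965 : sm gc N24588 = N16909 := ded_30_1 (flp_g L144157) (flp_c L144150) L208963
theorem L208990 : sm gf N16910 = N24591 := rfl
theorem L208994 : sm gc N24591 = N24591 := ded_29_1 (flp_f L208990) L144170 L208990
theorem L209032 : sm ge N16913 = N24596 := rfl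
theorem L209034 : sm gc N24596 = N16923 := ded_28_1 (flp_e L144279) (flp_c L144194) L209032
theorem L209038 : sm gg N16913 = N24597 := rfl
theorem L209042 : sm gd N24597 = N16915 := ded_36_1 (flp_g L144208) (flp_d L144196) L209038
theorem L209045 : sm gf N24597 = N17025 := ded_45_1 (flp_g L145144) (flp_f L100240) (flp_g L99623) L144192 L209038
theorem L209064 : sm gj N16915 = N24600 := rfl
theorem L209068 : sm gf N24600 = N17028 := ded_46_1 (flp_j L145168) (flp_f L144214) L209064
theorem L209117 : sm gh N16919 = N24606 := rfl
theorem L209124 : sm ge N16920 = N24607 := rfl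
theorem L209126 : sm gb N24607 = N16923 := ded_21_1 (flp_e L144279) (flp_b L144253) L209124
theorem L209131 : sm gg N16920 = N24608 := rfl
theorem L209140 : sm gh N16920 = N24609 := rfl
theorem L209142 : sm gb N24609 = N16925 := ded_25_1 (flp_h L144291) (flp_b L144253) L209140
theorem L209159 : sm gj N16922 = N24611 := rfl
theorem L209165 : sm gf N24611 = N17039 := ded_46_1 (flp_j L145261) (flp_f L144277) L209159
theorem L209171 : sm gg N16923 = N24612 := rfl
theorem L209177 : sm gh N16923 = N24613 := rfl
theorem L209179 : sm ge N24613 = N16925 := ded_43_1 (flp_h L144291) L144279 L209177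
theorem L209198 : sm gi N16925 = N24616 := rfl
theorem L209206 : sm gb N16928 = N24617 := rfl
theorem L209210 : sm gg N24617 = N17045 := ded_23_2 (flp_b L145308) (flp_g L144322) L209206
theorem L209213 : sm gi N24617 = N16944 := ded_26_2 (flp_b L144460) (flp_i L144325) L209206
theorem L209236 : sm ge N16929 = N24620 := rfl
theorem L209238 : sm ga N24620 = N16934 := ded_13_1 (flp_e L144373) (flp_a L144330) L209236
theorem L209241 : sm gi N24620 = N16947 := ded_44_2 (flp_e L144486) (flp_i L144335) L209236
theorem L209245 : sm gg N16929 = N24621 := rfl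
theorem L209251 : sm gi N24621 = N16948 := ded_51_2 (flp_g L144493) (flp_i L144335) L209245
theorem L209253 : sm gf N24621 = N17049 := ded_45_1 (flp_g L145348) (flp_f L100373) (flp_g L99711) L144328 L209245
theorem L209255 : sm gh N16929 = N24622 := rfl
theorem L209259 : sm gf N24622 = N16930 := ded_47_1 (flp_h L144337) L144328 L209255
theorem L209283 : sm ge N16932 = N24625 := rfl
theorem L209285 : sm gb N24625 = N24625 := ded_21_1 (flp_e L209283) L144357 L209283
theorem L209289 : sm gi N24625 = N16952 := ded_44_2 (flp_e L144528) (flp_i L144362) L209283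
theorem L209317 : sm gi N16933 = N24629 := rfl
theorem L209326 : sm gh N24629 = N16956 := ded_54_1 (flp_i L144559) (flp_h L99846) (flp_i L99732) L144364 L209317
theorem L209328 : sm gg N16934 = N24630 := rfl
theorem L209333 : sm ge N24630 = N16935 := ded_41_1 (flp_g L144382) L144373 L209328
theorem L209337 : sm gh N16934 = N24631 := rfl
theorem L209356 : sm gh N16935 = N24633 := rfl
theorem L209358 : sm gb N24633 = N16942 := ded_25_1 (flp_h L144445) (flp_b L144384) L209356
theorem L209373 : sm gf N16939 = N24635 := rfl
theorem L209377 : sm gi N24635 = N16962 := ded_48_2 (flp_f L144609) (flp_i L144426) L209373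
theorem L209379 : sm ge N24635 = N17063 := ded_40_1 (flp_f L145472) L100469 (flp_f L99778) (flp_e L144424) L209373
theorem L209382 : sm gj N16939 = N24636 := rfl
theorem L209388 : sm gi N24636 = N16963 := ded_53_2 (flp_j L144616) (flp_i L144426) L209382
theorem L209420 : sm gi N16942 = N24641 := rfl
theorem L209427 : sm gh N24641 = N16968 := ded_54_1 (flp_i L144652) (flp_h L99918) (flp_i L99776) L144445 L209420
theorem L209429 : sm gf N16944 = N24642 := rfl
theorem L209490 : sm gg N16947 = N24649 := rfl
theorem L209495 : sm ge N24649 = N16948 := ded_41_1 (flp_g L144493) L144486 L209490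
theorem L209505 : sm gj N16948 = N24651 := rfl
theorem L209514 : sm gh N16948 = N24652 := rfl
theorem L209518 : sm gf N24652 = N17080 := ded_47_1 (flp_h L145613) (flp_f L144499) L209514
theorem L209520 : sm gg N24652 = N16949 := ded_50_1 (flp_h L144501) L144493 L209514
theorem L209523 : sm gi N16949 = N24653 := rfl
theorem L209538 : sm gg N16952 = N24655 := rfl
theorem L209541 : sm gc N24655 = N16957 := ded_30_1 (flp_g L144568) (flp_c L144531) L209538
theorem L209543 : sm ge N24655 = N16953 := ded_41_1 (flp_g L144535) L144528 L209538
theorem L209545 : sm gh N16952 = N24656 := rfl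
theorem L209548 : sm gc N24656 = N16958 := ded_32_1 (flp_h L144575) (flp_c L144531) L209545
theorem L209550 : sm ge N24656 = N16954 := ded_43_1 (flp_h L144543) L144528 L209545
theorem L209552 : sm gf N24656 = N24656 := ded_47_1 (flp_h L209545) L144534 L209545
theorem L209554 : sm gj N16953 = N24657 := rfl
theorem L209560 : sm gf N24657 = N17085 := ded_46_1 (flp_j L145655) (flp_f L144541) L209554
theorem L209563 : sm gh N16953 = N24658 := rfl
theorem L209568 : sm gf N24658 = N17086 := ded_47_1 (flp_h L145663) (flp_f L144541) L209563
theorem L209570 : sm gg N24658 = N16954 := ded_50_1 (flp_h L144543) L144535 L209563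
theorem L209572 : sm gd N16954 = N24659 := rfl
theorem L209574 : sm gb N24659 = N24659 := ded_20_1 (flp_d L209572) L144545 L209572
theorem L209575 : sm gf N24659 = N16955 := ded_35_2 (flp_d L144551) (flp_f L144548) L209572
theorem L209578 : sm gc N24659 = N24659 := ded_27_1 (flp_d L209572) L144546 L99877 (flp_c L144546) L209572
theorem L209580 : sm gi N16954 = N24660 := rfl
theorem L209585 : sm gf N24660 = N16956 := ded_48_1 (flp_i L144559) (flp_f L144548) L209580
theorem L209606 : sm gf N16957 = N24663 := rfl
theorem L209611 : sm ge N24663 = N17091 := ded_40_1 (flp_f L145704) L100615 (flp_f L99868) (flp_e L144573) L209606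
theorem L209614 : sm gj N16957 = N24664 := rfl
theorem L209638 : sm gi N16958 = N24667 := rfl
theorem L209673 : sm gh N16962 = N24671 := rfl
theorem L209678 : sm gf N24671 = N16964 := ded_47_1 (flp_h L144623) L144609 L209673
theorem L209681 : sm gh N16963 = N24672 := rfl
theorem L209684 : sm ge N24672 = N16967 := ded_43_1 (flp_h L144643) (flp_e L144620) L209681
theorem L209689 : sm gd N16964 = N24673 := rfl
theorem L209691 : sm gg N24673 = N16965 := ded_36_2 (flp_d L144630) (flp_g L144628) L209689
theorem L209716 : sm gi N16967 = N24677 := rfl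
theorem L209720 : sm gf N24677 = N17105 := ded_48_1 (flp_i L145817) (flp_f L144646) L209716
theorem L209723 : sm gj N24677 = N16968 := ded_53_1 (flp_i L144652) (flp_j L144649) L209716
theorem L209725 : sm gi N16969 = N24678 := rfl
theorem L209732 : sm gf N24678 = N16970 := ded_48_1 (flp_i L144671) L144660 L209725
theorem L209735 : sm gj N24678 = N17107 := ded_53_1 (flp_i L145835) (flp_j L144666) L209725
theorem L209737 : sm gh N16970 = N24679 := rfl
theorem L209744 : sm gj N24679 = N17108 := ded_52_1 (flp_h L145844) (flp_j L144679) L209737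
theorem L209747 : sm gd N16971 = N24680 := rfl
theorem L209754 : sm gi N24680 = N24680 := ded_39_2 (flp_d L209747) L144689 L209747
theorem L209755 : sm gh N24680 = N16972 := ded_38_2 (flp_d L144690) (flp_h L99952) (flp_d L99947) L144681 L209747
theorem L209757 : sm gc N16972 = N24681 := rfl
theorem L209802 : sm gb N16975 = N24686 := rfl
theorem L209805 : sm gj N24686 = N17115 := ded_24_2 (flp_b L145901) (flp_j L144720) L209802
theorem L209808 : sm gi N24686 = N16977 := ded_26_2 (flp_b L144736) (flp_i L144723) L209802
theorem L209812 : sm ge N16975 = N24687 := rfl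
theorem L209817 : sm gj N24687 = N17116 := ded_42_2 (flp_e L145910) (flp_j L144720) L209812
theorem L209854 : sm gd N16978 = N24691 := rfl
theorem L209857 : sm gj N24691 = N17120 := ded_37_2 (flp_d L145947) (flp_j L144750) L209854
theorem L209860 : sm gf N16978 = N24692 := rfl
theorem L209867 : sm gh N24692 = N16983 := ded_47_2 (flp_f L144793) (flp_h L144752) L209860
theorem L209879 : sm ge N16980 = N24694 := rfl
theorem L209881 : sm ga N24694 = N16981 := ded_13_1 (flp_e L144775) L144765 L209879
theorem L209889 : sm gd N16981 = N24695 := rfl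
theorem L209891 : sm gb N24695 = N16982 := ded_20_1 (flp_d L144784) (flp_b L144777) L209889
theorem L209917 : sm gh N16982 = N24698 := rfl
theorem L209923 : sm gj N24698 = N17127 := ded_52_1 (flp_h L146002) (flp_j L144787) L209917
theorem L209965 : sm gc N16986 = N24703 := rfl
theorem L209968 : sm gj N24703 = N17132 := ded_31_2 (flp_c L146046) (flp_j L144826) L209965
theorem L209982 : sm gh N16986 = N24705 := rfl
theorem L209986 : sm ge N24705 = N24705 := ded_43_1 (flp_h L209982) L144829 L209982
theorem L209987 : sm gj N24705 = N17134 := ded_52_1 (flp_h L146060) (flp_j L144826) L209982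
theorem L210000 : sm ge N16988 = N24707 := rfl
theorem L210006 : sm gd N24707 = N17318 := ded_34_1 (flp_e L147452) L101770 (flp_e L100067) (flp_d L144845) L210000
theorem L210009 : sm gg N16988 = N24708 := rfl
theorem L210015 : sm gh N16988 = N24709 := rfl
theorem L210020 : sm gj N24709 = N17138 := ded_52_1 (flp_h L146092) (flp_j L144847) L210015
theorem L210031 : sm gj N16990 = N24711 := rfl
theorem L210040 : sm gg N24711 = N17140 := ded_49_1 (flp_j L146105) (flp_g L100874) (flp_j L100063) L144857 L210031
theorem L210042 : sm ga N16992 = N24712 := rfl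
theorem L210046 : sm gj N24712 = N17141 := ded_16_2 (flp_a L146115) (flp_j L144881) L210042
theorem L210049 : sm gi N24712 = N16995 := ded_18_2 (flp_a L144904) (flp_i L144884) L210042
theorem L210060 : sm gd N16993 = N24714 := rfl
theorem L210062 : sm gj N24714 = N17143 := ded_37_2 (flp_d L146131) (flp_j L144890) L210060
theorem L210064 : sm gi N24714 = N16997 := ded_39_2 (flp_d L144920) (flp_i L144893) L210060
theorem L210078 : sm gg N16994 = N24716 := rfl
theorem L210083 : sm gi N24716 = N16999 := ded_51_2 (flp_g L144935) (flp_i L144901) L210078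
theorem L210085 : sm ge N16995 = N24717 := rfl
theorem L210089 : sm gj N24717 = N17146 := ded_42_2 (flp_e L146154) (flp_j L144908) L210085
theorem L210091 : sm gh N24717 = N17000 := ded_43_2 (flp_e L144941) (flp_h L144910) L210085
theorem L210116 : sm gh N16997 = N24721 := rfl
theorem L210139 : sm gd N17000 = N24724 := rfl
theorem L210143 : sm gj N24724 = N17153 := ded_37_2 (flp_d L146201) (flp_j L144945) L210139
theorem L210148 : sm gf N17000 = N24725 := rfl
theorem L210198 : sm gg N17003 = N24731 := rfl
theorem L210205 : sm gh N17003 = N24732 := rfl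
theorem L210211 : sm gj N24732 = N17161 := ded_52_1 (flp_h L146260) (flp_j L144971) L210205
theorem L210230 : sm gc N17007 = N24735 := rfl
theorem L210234 : sm ge N24735 = N17029 := ded_28_2 (flp_c L145177) (flp_e L145003) L210230
theorem L210236 : sm gj N24735 = N17164 := ded_31_2 (flp_c L146281) (flp_j L145000) L210230
theorem L210248 : sm gh N17007 = N24737 := rfl
theorem L210254 : sm gj N24737 = N17166 := ded_52_1 (flp_h L146296) (flp_j L145000) L210248
theorem L210257 : sm gg N17008 = N24738 := rfl
theorem L210272 : sm gh N17009 = N24740 := rfl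
theorem L210278 : sm gj N24740 = N17169 := ded_52_1 (flp_h L146318) (flp_j L145019) L210272
theorem L210291 : sm gg N17010 = N24742 := rfl
theorem L210298 : sm gh N17010 = N24743 := rfl
theorem L210304 : sm gj N24743 = N17172 := ded_52_1 (flp_h L146342) (flp_j L145028) L210298
theorem L210379 : sm gh N17018 = N24753 := rfl
theorem L210383 : sm gj N24753 = N17182 := ded_52_1 (flp_h L146412) (flp_j L145091) L210379
theorem L210386 : sm gg N17019 = N24754 := rfl
theorem L210420 : sm gg N17021 = N24758 := rfl
theorem L210422 : sm gb N24758 = N17025 := ded_23_1 (flp_g L145144) (flp_b L145114) L210420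
theorem L210479 : sm gh N17025 = N24765 := rfl
theorem L210486 : sm gi N17026 = N24766 := rfl
theorem L210491 : sm gf N24766 = N17027 := ded_48_1 (flp_i L145160) (flp_f L145155) L210486
theorem L210512 : sm gh N17029 = N24769 := rfl
theorem L210514 : sm ga N24769 = N17034 := ded_17_1 (flp_h L145220) (flp_a L145179) L210512
theorem L210529 : sm gg N17030 = N24771 := rfl
theorem L210555 : sm gj N17032 = N24774 := rfl
theorem L210565 : sm gg N24774 = N17203 := ded_49_1 (flp_j L146568) (flp_g L101178) (flp_j L100285) L145202 L210555
theorem L210574 : sm gg N17033 = N24776 := rfl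
theorem L210576 : sm gc N24776 = N17036 := ded_30_1 (flp_g L145235) (flp_c L145214) L210574
theorem L210580 : sm gh N17033 = N24777 := rfl
theorem L210595 : sm gi N17034 = N24779 := rfl
theorem L210599 : sm gj N24779 = N17208 := ded_53_1 (flp_i L146603) (flp_j L145224) L210595
theorem L210611 : sm gh N17035 = N24781 := rfl
theorem L210617 : sm gj N24781 = N17210 := ded_52_1 (flp_h L146618) (flp_j L145230) L210611
theorem L210628 : sm gh N17036 = N24783 := rfl
theorem L210630 : sm gb N24783 = N17043 := ded_25_1 (flp_h L145293) (flp_b L145237) L210628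
theorem L210682 : sm gh N17042 = N24790 := rfl
theorem L210686 : sm gj N24790 = N17043 := ded_52_1 (flp_h L145293) L145286 L210682
theorem L210690 : sm gi N17043 = N24791 := rfl
theorem L210697 : sm gf N17045 = N24792 := rfl
theorem L210703 : sm gj N24792 = N17221 := ded_46_2 (flp_f L146695) (flp_j L145312) L210697
theorem L210705 : sm gi N24792 = N17070 := ded_48_2 (flp_f L145529) (flp_i L145314) L210697
theorem L210707 : sm gh N17045 = N24793 := rfl
theorem L210713 : sm gj N24793 = N17222 := ded_52_1 (flp_h L146703) (flp_j L145312) L210707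
theorem L210735 : sm gh N17046 = N24796 := rfl
theorem L210741 : sm gf N24796 = N17047 := ded_47_1 (flp_h L145328) L145317 L210735
theorem L210743 : sm gj N24796 = N17225 := ded_52_1 (flp_h L146729) (flp_j L145324) L210735
theorem L210745 : sm gd N17047 = N24797 := rfl
theorem L210749 : sm gj N24797 = N17226 := ded_37_2 (flp_d L146737) (flp_j L145335) L210745
theorem L210763 : sm gg N17048 = N24799 := rfl
theorem L210767 : sm gd N24799 = N17371 := ded_36_1 (flp_g L147923) (flp_d L145345) L210763
theorem L210771 : sm gi N24799 = N17077 := ded_51_2 (flp_g L145588) (flp_i L145343) L210763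
theorem L210773 : sm gh N17048 = N24800 := rfl
theorem L210780 : sm gj N24800 = N17229 := ded_52_1 (flp_h L146763) (flp_j L145341) L210773
theorem L210782 : sm gj N17049 = N24801 := rfl
theorem L210790 : sm gg N24801 = N17230 := ded_49_1 (flp_j L146770) (flp_g L101307) (flp_j L100379) L145348 L210782
theorem L210792 : sm gh N17049 = N24802 := rfl
theorem L210808 : sm gd N17053 = N24804 := rfl
theorem L210812 : sm gj N24804 = N17233 := ded_37_2 (flp_d L146794) (flp_j L145389) L210808
theorem L210814 : sm gi N24804 = N17082 := ded_39_2 (flp_d L145629) (flp_i L145391) L210808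
theorem L210816 : sm gc N24804 = N17376 := ded_27_1 (flp_d L147968) L102119 (flp_d L100425) (flp_c L145387) L210808
theorem L210897 : sm gj N17058 = N24814 := rfl
theorem L210907 : sm gg N24814 = N17243 := ded_49_1 (flp_j L146874) (flp_g L101378) (flp_j L100421) L145427 L210897
theorem L210909 : sm gh N17058 = N24815 := rfl
theorem L210917 : sm gd N17059 = N24816 := rfl
theorem L210922 : sm gj N24816 = N17245 := ded_37_2 (flp_d L146892) (flp_j L145444) L210917
theorem L210924 : sm gh N24816 = N17388 := ded_38_2 (flp_d L148085) (flp_h L102174) (flp_d L100425) L145437 L210917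
theorem L210953 : sm gj N17063 = N24820 := rfl
theorem L210955 : sm gc N24820 = N24820 := ded_31_1 (flp_j L210953) L145474 L210953
theorem L210958 : sm gf N24820 = N17064 := ded_46_1 (flp_j L145480) L145472 L210953
theorem L210968 : sm gh N17064 = N24822 := rfl
theorem L210973 : sm gg N24822 = N17251 := ded_50_1 (flp_h L146941) (flp_g L145489) L210968
theorem L211000 : sm gi N17066 = N24826 := rfl
theorem L211016 : sm ge N17070 = N24828 := rfl
theorem L211021 : sm gj N24828 = N17257 := ded_42_2 (flp_e L146982) (flp_j L145535) L211016
theorem L211024 : sm gg N17070 = N24829 := rfl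
theorem L211039 : sm gd N17071 = N24831 := rfl
theorem L211041 : sm ga N24831 = N24831 := ded_12_1 (flp_d L211039) L145539 L211039
theorem L211044 : sm gj N24831 = N17260 := ded_37_2 (flp_d L147002) (flp_j L145543) L211039
theorem L211065 : sm gg N17072 = N24834 := rfl
theorem L211069 : sm gc N24834 = N17077 := ded_30_1 (flp_g L145588) (flp_c L145549) L211065
theorem L211071 : sm ge N24834 = N17073 := ded_41_1 (flp_g L145554) L145545 L211065
theorem L211093 : sm gh N17073 = N24837 := rfl
theorem L211099 : sm gg N24837 = N17074 := ded_50_1 (flp_h L145561) L145554 L211093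
theorem L211101 : sm gd N17074 = N24838 := rfl
theorem L211103 : sm ga N24838 = N17087 := ded_12_1 (flp_d L145670) (flp_a L145563) L211101
theorem L211107 : sm gj N24838 = N17267 := ded_37_2 (flp_d L147058) (flp_j L145569) L211101
theorem L211139 : sm gf N17077 = N24842 := rfl
theorem L211146 : sm gj N17077 = N24843 := rfl
theorem L211164 : sm gd N17078 = N24845 := rfl
theorem L211169 : sm gj N24845 = N17274 := ded_37_2 (flp_d L147114) (flp_j L145603) L211164
theorem L211174 : sm gi N17078 = N24846 := rfl
theorem L211176 : sm ga N24846 = N17095 := ded_18_1 (flp_i L145739) (flp_a L145598) L211174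
theorem L211192 : sm gi N17080 = N24848 := rfl
theorem L211199 : sm gg N17082 = N24849 := rfl
theorem L211204 : sm gd N24849 = N17083 := ded_36_1 (flp_g L145638) L145629 L211199
theorem L211207 : sm gh N17082 = N24850 := rfl
theorem L211214 : sm gj N24850 = N17279 := ded_52_1 (flp_h L147153) (flp_j L145633) L211207
theorem L211216 : sm gf N17083 = N24851 := rfl
theorem L211219 : sm gc N24851 = N17091 := ded_29_1 (flp_f L145704) (flp_c L145641) L211216
theorem L211231 : sm gh N17083 = N24853 := rfl
theorem L211238 : sm gg N24853 = N17084 := ded_50_1 (flp_h L145645) L145638 L211231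
theorem L211240 : sm gd N17084 = N24854 := rfl
theorem L211244 : sm gj N24854 = N17283 := ded_37_2 (flp_d L147183) (flp_j L145653) L211240
theorem L211256 : sm gh N17085 = N24856 := rfl
theorem L211279 : sm ge N17087 = N24859 := rfl
theorem L211283 : sm gj N24859 = N17288 := ded_42_2 (flp_e L147219) (flp_j L145675) L211279
theorem L211286 : sm gi N17087 = N24860 := rfl
theorem L211292 : sm gf N24860 = N17090 := ded_48_1 (flp_i L145696) (flp_f L145673) L211286
theorem L211294 : sm gj N24860 = N17289 := ded_53_1 (flp_i L147224) (flp_j L145675) L211286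
theorem L211313 : sm gh N17090 = N24863 := rfl
theorem L211320 : sm gj N17091 = N24864 := rfl
theorem L211326 : sm gf N24864 = N17092 := ded_46_1 (flp_j L145711) L145704 L211320
theorem L211328 : sm gh N17091 = N24865 := rfl
theorem L211332 : sm gf N24865 = N17093 := ded_47_1 (flp_h L145721) L145704 L211328
theorem L211335 : sm gh N17092 = N24866 := rfl
theorem L211339 : sm ge N24866 = N17096 := ded_43_1 (flp_h L145748) (flp_e L145717) L211335
theorem L211341 : sm gg N24866 = N17295 := ded_50_1 (flp_h L147269) (flp_g L145719) L211335
theorem L211343 : sm gj N24866 = N17093 := ded_52_1 (flp_h L145721) L145711 L211335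
theorem L211345 : sm gd N17093 = N24867 := rfl
theorem L211354 : sm gi N17093 = N24868 := rfl
theorem L211362 : sm gc N17094 = N24869 := rfl
theorem L211368 : sm gh N24869 = N17441 := ded_32_2 (flp_c L148555) (flp_h L145737) L211362
theorem L211380 : sm gi N17096 = N24871 := rfl
theorem L211382 : sm gb N24871 = N17105 := ded_26_1 (flp_i L145817) (flp_b L145750) L211380
theorem L211397 : sm gh N17098 = N24873 := rfl
theorem L211402 : sm gj N24873 = N17099 := ded_52_1 (flp_h L145771) L145764 L211397
theorem L211404 : sm gd N17099 = N24874 := rfl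
theorem L211409 : sm gh N24874 = N17446 := ded_38_2 (flp_d L148598) (flp_h L102527) (flp_d L100653) L145771 L211404
theorem L211443 : sm gi N17101 = N24879 := rfl
theorem L211448 : sm gg N24879 = N17104 := ded_51_1 (flp_i L145809) (flp_g L145788) L211443
theorem L211459 : sm gi N17103 = N24881 := rfl
theorem L211461 : sm gc N24881 = N17104 := ded_33_1 (flp_i L145809) L145800 L211459
theorem L211466 : sm gj N24881 = N17310 := ded_53_1 (flp_i L147381) (flp_j L145804) L211459
theorem L211476 : sm gi N17106 = N24883 := rfl
theorem L211484 : sm gg N24883 = N17107 := ded_51_1 (flp_i L145835) L145825 L211476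
theorem L211503 : sm gc N17109 = N24886 := rfl
theorem L211508 : sm gh N24886 = N17110 := ded_32_2 (flp_c L145862) (flp_h L145860) L211503
theorem L211510 : sm gi N24886 = N24886 := ded_33_2 (flp_c L211503) L145859 L211503
theorem L211520 : sm gb N17110 = N24888 := rfl
theorem L211526 : sm gi N24888 = N17112 := ded_26_2 (flp_b L145879) (flp_i L145867) L211520
theorem L211529 : sm ge N17110 = N24889 := rfl
theorem L211545 : sm ga N17112 = N24891 := rfl
theorem L211548 : sm gd N24891 = N17118 := ded_12_2 (flp_a L145929) (flp_d L145881) L211545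
theorem L211552 : sm gh N24891 = N24891 := ded_17_2 (flp_a L211545) L145885 L211545
theorem L211554 : sm ge N17112 = N24892 := rfl
theorem L211630 : sm ge N17118 = N24901 := rfl
theorem L211638 : sm gh N24901 = N17123 := ded_43_2 (flp_e L145970) (flp_h L145935) L211630
theorem L211640 : sm gd N17119 = N24902 := rfl
theorem L211645 : sm gf N17119 = N24903 := rfl
theorem L211647 : sm gb N24903 = N17121 := ded_22_1 (flp_f L145952) (flp_b L145940) L211645
theorem L211651 : sm gh N24903 = N17125 := ded_47_2 (flp_f L145986) (flp_h L145945) L211645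
theorem L211654 : sm gf N17120 = N24904 := rfl
theorem L211660 : sm gh N17120 = N24905 := rfl
theorem L211665 : sm gd N24905 = N17127 := ded_38_1 (flp_h L146002) (flp_d L100810) (flp_h L100782) L145947 L211660
theorem L211667 : sm gg N17121 = N24906 := rfl
theorem L211673 : sm gh N24906 = N17128 := ded_50_2 (flp_g L146009) (flp_h L145957) L211667
theorem L211694 : sm gf N17123 = N24909 := rfl
theorem L211696 : sm ga N24909 = N17125 := ded_14_1 (flp_f L145986) (flp_a L145972) L211694
theorem L211725 : sm gg N17125 = N24913 := rfl
theorem L211742 : sm gg N17126 = N24915 := rfl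
theorem L211747 : sm gd N24915 = N17128 := ded_36_1 (flp_g L146009) (flp_d L145999) L211742
theorem L211758 : sm gi N17127 = N24917 := rfl
theorem L211766 : sm gj N17128 = N24918 := rfl
theorem L211811 : sm gf N17132 = N24923 := rfl
theorem L211815 : sm gd N24923 = N17168 := ded_35_1 (flp_f L146313) (flp_d L146051) L211811
theorem L211824 : sm ge N17133 = N24925 := rfl
theorem L211829 : sm gd N24925 = N17461 := ded_34_1 (flp_e L148720) L102615 (flp_e L100860) (flp_d L146057) L211824
theorem L211832 : sm gg N17133 = N24926 := rfl
theorem L211840 : sm gh N17133 = N24927 := rfl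
theorem L211844 : sm gf N24927 = N17134 := ded_47_1 (flp_h L146060) L146053 L211840
theorem L211847 : sm gi N17134 = N24928 := rfl
theorem L211874 : sm gh N17136 = N24931 := rfl
theorem L211877 : sm ge N24931 = N17138 := ded_43_1 (flp_h L146092) L146078 L211874
theorem L211894 : sm gi N17138 = N24934 := rfl
theorem L211901 : sm ge N17141 = N24935 := rfl
theorem L211907 : sm gi N24935 = N17146 := ded_44_2 (flp_e L146154) (flp_i L146121) L211901
theorem L211909 : sm gd N17142 = N24936 := rfl
theorem L211911 : sm gb N24936 = N17143 := ded_20_1 (flp_d L146131) (flp_b L146125) L211909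
theorem L211914 : sm gi N24936 = N17147 := ded_39_2 (flp_d L146161) (flp_i L146129) L211909
theorem L211932 : sm gh N17143 = N24939 := rfl
theorem L211947 : sm gj N17145 = N24941 := rfl
theorem L211953 : sm gi N24941 = N17152 := ded_53_2 (flp_j L146194) (flp_i L146151) L211947
theorem L211961 : sm gf N17146 = N24943 := rfl
theorem L211968 : sm gc N17147 = N24944 := rfl
theorem L212036 : sm gf N17153 = N24954 := rfl
theorem L212043 : sm gh N17153 = N24955 := rfl
theorem L212047 : sm ge N24955 = N17182 := ded_43_1 (flp_h L146412) (flp_e L146207) L212043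
theorem L212110 : sm gg N17159 = N24964 := rfl
theorem L212115 : sm ge N24964 = N17160 := ded_41_1 (flp_g L146252) L146244 L212110
theorem L212126 : sm gj N17160 = N24966 := rfl
theorem L212134 : sm gh N17160 = N24967 := rfl
theorem L212141 : sm gi N17161 = N24968 := rfl
theorem L212145 : sm gf N24968 = N17162 := ded_48_1 (flp_i L146266) (flp_f L146264) L212141
theorem L212161 : sm gh N17164 = N24971 := rfl
theorem L212165 : sm gc N24971 = N17166 := ded_32_1 (flp_h L146296) L146281 L212161
theorem L212194 : sm gi N17166 = N24975 := rfl
theorem L212203 : sm gj N17167 = N24976 := rfl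
theorem L212207 : sm ge N24976 = N17478 := ded_42_1 (flp_j L148859) (flp_e L146308) L212203
theorem L212225 : sm gh N17168 = N24979 := rfl
theorem L212229 : sm gf N24979 = N17169 := ded_47_1 (flp_h L146318) L146313 L212225
theorem L212231 : sm gd N17169 = N24980 := rfl
theorem L212243 : sm gg N17170 = N24982 := rfl
theorem L212245 : sm gb N24982 = N17175 := ded_23_1 (flp_g L146367) (flp_b L146327) L212243
theorem L212247 : sm gd N24982 = N17484 := ded_36_1 (flp_g L148906) (flp_d L146330) L212243
theorem L212249 : sm ge N24982 = N17171 := ded_41_1 (flp_g L146334) L146325 L212243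
theorem L212252 : sm gh N17170 = N24983 := rfl
theorem L212260 : sm gj N17171 = N24984 := rfl
theorem L212268 : sm gh N17171 = N24985 := rfl
theorem L212273 : sm gg N24985 = N17172 := ded_50_1 (flp_h L146342) L146334 L212268
theorem L212276 : sm gi N17172 = N24986 := rfl
theorem L212284 : sm gf N17175 = N24987 := rfl
theorem L212290 : sm gg N24987 = N17214 := ded_45_2 (flp_f L146650) (flp_g L101242) (flp_f L101049) L146367 L212284
theorem L212354 : sm ge N17181 = N24997 := rfl
theorem L212356 : sm ga N24997 = N17186 := ded_13_1 (flp_e L146442) (flp_a L146407) L212354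
theorem L212360 : sm gg N17181 = N24998 := rfl
theorem L212364 : sm gd N24998 = N17183 := ded_36_1 (flp_g L146418) (flp_d L146409) L212360
theorem L212375 : sm gi N17182 = N25000 := rfl
theorem L212382 : sm gj N17183 = N25001 := rfl
theorem L212391 : sm ge N17184 = N25002 := rfl
theorem L212393 : sm gb N25002 = N17204 := ded_21_1 (flp_e L146579) (flp_b L146429) L212391
theorem L212395 : sm gc N25002 = N17186 := ded_28_1 (flp_e L146442) (flp_c L146431) L212391
theorem L212430 : sm gg N17186 = N25007 := rfl
theorem L212438 : sm gh N17186 = N25008 := rfl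
theorem L212440 : sm gb N25008 = N17192 := ded_25_1 (flp_h L146487) (flp_b L146444) L212438
theorem L212442 : sm ge N25008 = N17188 := ded_43_1 (flp_h L146456) L146442 L212438
theorem L212460 : sm gi N17188 = N25011 := rfl
theorem L212468 : sm gf N17191 = N25012 := rfl
theorem L212470 : sm gc N25012 = N17214 := ded_29_1 (flp_f L146650) (flp_c L146481) L212468
theorem L212475 : sm gj N17191 = N25013 := rfl
theorem L212480 : sm ge N25013 = N17193 := ded_42_1 (flp_j L146493) (flp_e L146484) L212475
theorem L212495 : sm gi N17192 = N25016 := rfl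
theorem L212502 : sm gh N17193 = N25017 := rfl
theorem L212507 : sm gj N25017 = N17194 := ded_52_1 (flp_h L146501) L146493 L212502
theorem L212519 : sm gf N17196 = N25019 := rfl
theorem L212521 : sm gb N25019 = N17197 := ded_22_1 (flp_f L146522) L146517 L212519
theorem L212525 : sm gh N17196 = N25020 := rfl
theorem L212530 : sm ge N17197 = N25021 := rfl
theorem L212532 : sm ga N25021 = N17204 := ded_13_1 (flp_e L146579) (flp_a L146524) L212530
theorem L212570 : sm gg N17199 = N25026 := rfl
theorem L212572 : sm ga N25026 = N17209 := ded_15_1 (flp_g L146609) (flp_a L146539) L212570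
theorem L212576 : sm ge N25026 = N17200 := ded_41_1 (flp_g L146544) L146537 L212570
theorem L212585 : sm gj N17200 = N25028 := rfl
theorem L212602 : sm gi N17201 = N25030 := rfl
theorem L212606 : sm gd N25030 = N17232 := ded_39_1 (flp_i L146786) (flp_d L146558) L212602
theorem L212624 : sm gh N17204 = N25033 := rfl
theorem L212671 : sm gf N17209 = N25040 := rfl
theorem L212675 : sm gd N25040 = N17517 := ded_35_1 (flp_f L149167) (flp_d L146613) L212671
theorem L212688 : sm gh N17209 = N25042 := rfl
theorem L212694 : sm gg N25042 = N17210 := ded_50_1 (flp_h L146618) L146609 L212688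
theorem L212704 : sm gi N17210 = N25044 := rfl
theorem L212738 : sm gh N17214 = N25048 := rfl
theorem L212749 : sm gd N17216 = N25050 := rfl
theorem L212751 : sm gg N25050 = N17217 := ded_36_2 (flp_d L146669) (flp_g L146667) L212749
theorem L212755 : sm gh N25050 = N17527 := ded_38_2 (flp_d L149245) (flp_h L102956) (flp_d L101244) L146663 L212749
theorem L212770 : sm gi N17217 = N25053 := rfl
theorem L212784 : sm ge N17221 = N25055 := rfl
theorem L212789 : sm gi N25055 = N17257 := ded_44_2 (flp_e L146982) (flp_i L146701) L212784
theorem L212792 : sm gg N17221 = N25056 := rfl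
theorem L212795 : sm gb N25056 = N17224 := ded_23_1 (flp_g L146719) (flp_b L146698) L212792
theorem L212798 : sm gi N25056 = N17258 := ded_51_2 (flp_g L146988) (flp_i L146701) L212792
theorem L212801 : sm gh N17221 = N25057 := rfl
theorem L212806 : sm gf N25057 = N17222 := ded_47_1 (flp_h L146703) L146695 L212801
theorem L212815 : sm gi N17222 = N25059 := rfl
theorem L212853 : sm gj N17224 = N25063 := rfl
theorem L212855 : sm ga N25063 = N17236 := ded_16_1 (flp_j L146820) (flp_a L146721) L212853
theorem L212861 : sm gi N25063 = N17265 := ded_53_2 (flp_j L147041) (flp_i L146726) L212853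
theorem L212863 : sm gh N17224 = N25064 := rfl
theorem L212870 : sm gg N25064 = N17225 := ded_50_1 (flp_h L146729) L146719 L212863
theorem L212896 : sm gi N17226 = N25068 := rfl
theorem L212900 : sm gd N25068 = N17227 := ded_39_1 (flp_i L146743) L146737 L212896
theorem L212923 : sm gh N17228 = N25071 := rfl
theorem L212929 : sm gg N25071 = N17229 := ded_50_1 (flp_h L146763) L146753 L212923
theorem L212947 : sm gh N17230 = N25074 := rfl
theorem L212963 : sm gg N17233 = N25076 := rfl
theorem L212971 : sm gi N25076 = N17278 := ded_51_2 (flp_g L147145) (flp_i L146798) L212963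
theorem L212973 : sm gh N17233 = N25077 := rfl
theorem L212989 : sm gj N17234 = N25079 := rfl
theorem L212992 : sm gc N25079 = N17243 := ded_31_1 (flp_j L146874) (flp_c L146806) L212989
theorem L212998 : sm gh N17234 = N25080 := rfl
theorem L213076 : sm gj N17242 = N25091 := rfl
theorem L213083 : sm gf N25091 = N17243 := ded_46_1 (flp_j L146874) L146864 L213076
theorem L213087 : sm gh N17242 = N25092 := rfl
theorem L213089 : sm gb N25092 = N17250 := ded_25_1 (flp_h L146934) (flp_b L146866) L213087
theorem L213095 : sm gh N17243 = N25093 := rfl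
theorem L213103 : sm gd N17244 = N25094 := rfl
theorem L213107 : sm gg N25094 = N17245 := ded_36_2 (flp_d L146892) (flp_g L146890) L213103
theorem L213109 : sm gh N25094 = N17571 := ded_38_2 (flp_d L149623) (flp_h L103195) (flp_d L101382) L146884 L213103
theorem L213121 : sm gc N17245 = N25096 := rfl
theorem L213142 : sm gg N17249 = N25099 := rfl
theorem L213148 : sm gi N25099 = N17301 := ded_51_2 (flp_g L147316) (flp_i L146932) L213142
theorem L213166 : sm gi N17250 = N25102 := rfl
theorem L213175 : sm gd N17251 = N25103 := rfl
theorem L213181 : sm gi N17251 = N25104 := rfl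
theorem L213188 : sm gh N25104 = N17306 := ded_54_1 (flp_i L147352) (flp_h L101694) (flp_i L101435) L146941 L213181
theorem L213190 : sm gc N17252 = N25105 := rfl
theorem L213192 : sm gg N25105 = N17254 := ded_30_2 (flp_c L146963) (flp_g L146950) L213190
theorem L213194 : sm gh N25105 = N17582 := ded_32_2 (flp_c L149708) (flp_h L146952) L213190
theorem L213209 : sm gi N17254 = N25108 := rfl
theorem L213222 : sm gd N17257 = N25110 := rfl
theorem L213225 : sm gb N25110 = N17262 := ded_20_1 (flp_d L147016) (flp_b L146985) L213222
theorem L213229 : sm gg N17257 = N25111 := rfl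
theorem L213234 : sm ge N25111 = N17258 := ded_41_1 (flp_g L146988) L146982 L213229
theorem L213236 : sm gh N17257 = N25112 := rfl
theorem L213251 : sm gh N17258 = N25114 := rfl
theorem L213254 : sm gb N25114 = N17266 := ded_25_1 (flp_h L147049) (flp_b L146991) L213251
theorem L213257 : sm gg N25114 = N17259 := ded_50_1 (flp_h L146995) L146988 L213251
theorem L213267 : sm gi N17259 = N25116 := rfl
theorem L213353 : sm gh N17265 = N25127 := rfl
theorem L213360 : sm gj N25127 = N17266 := ded_52_1 (flp_h L147049) L147041 L213353
theorem L213371 : sm gi N17266 = N25129 := rfl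
theorem L213380 : sm ge N17267 = N25130 := rfl
theorem L213382 : sm ga N25130 = N17288 := ded_13_1 (flp_e L147219) (flp_a L147060) L213380
theorem L213402 : sm gi N17269 = N25133 := rfl
theorem L213404 : sm ga N25133 = N17291 := ded_18_1 (flp_i L147238) (flp_a L147076) L213402
theorem L213408 : sm ge N25133 = N17270 := ded_44_1 (flp_i L147082) L147074 L213402
theorem L213411 : sm gh N17270 = N25134 := rfl
theorem L213435 : sm gh N17272 = N25137 := rfl
theorem L213439 : sm ge N25137 = N17276 := ded_43_1 (flp_h L147129) (flp_e L147104) L213435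
theorem L213441 : sm gj N25137 = N17273 := ded_52_1 (flp_h L147106) L147098 L213435
theorem L213443 : sm gd N17273 = N25138 := rfl
theorem L213445 : sm ga N25138 = N17296 := ded_12_1 (flp_d L147277) (flp_a L147108) L213443
theorem L213447 : sm gg N25138 = N17274 := ded_36_2 (flp_d L147114) (flp_g L147112) L213443
theorem L213452 : sm gi N17273 = N25139 := rfl
theorem L213460 : sm gc N17274 = N25140 := rfl
theorem L213466 : sm gh N25140 = N17617 := ded_32_2 (flp_c L149990) (flp_h L147120) L213460
theorem L213468 : sm gi N17274 = N25141 := rfl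
theorem L213476 : sm gi N17276 = N25142 := rfl
theorem L213492 : sm gj N17278 = N25144 := rfl
theorem L213495 : sm gc N25144 = N17621 := ded_31_1 (flp_j L150020) (flp_c L147148) L213492
theorem L213514 : sm gi N17279 = N25147 := rfl
theorem L213521 : sm gj N17280 = N25148 := rfl
theorem L213523 : sm gb N25148 = N25148 := ded_24_1 (flp_j L213521) L147162 L213521
theorem L213524 : sm gc N25148 = N17293 := ded_31_1 (flp_j L147252) (flp_c L147163) L213521
theorem L213538 : sm gh N17281 = N25150 := rfl
theorem L213543 : sm ge N25150 = N17285 := ded_43_1 (flp_h L147195) (flp_e L147172) L213538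
theorem L213545 : sm gj N25150 = N17282 := ded_52_1 (flp_h L147174) L147167 L213538
theorem L213552 : sm gi N17282 = N25152 := rfl
theorem L213577 : sm gd N17285 = N25156 := rfl
theorem L213581 : sm gj N25156 = N17286 := ded_37_2 (flp_d L147203) (flp_j L147201) L213577
theorem L213585 : sm gi N17285 = N25157 := rfl
theorem L213600 : sm gi N17286 = N25159 := rfl
theorem L213607 : sm gg N25159 = N17289 := ded_51_1 (flp_i L147224) (flp_g L147207) L213600
theorem L213622 : sm gh N17289 = N25162 := rfl
theorem L213643 : sm gh N17291 = N25165 := rfl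
theorem L213651 : sm gg N17293 = N25166 := rfl
theorem L213659 : sm gh N17293 = N25167 := rfl
theorem L213664 : sm gf N25167 = N17295 := ded_47_1 (flp_h L147269) (flp_f L147259) L213659
theorem L213666 : sm gj N25167 = N17294 := ded_52_1 (flp_h L147261) L147252 L213659
theorem L213668 : sm gd N17294 = N25168 := rfl
theorem L213672 : sm gf N25168 = N17296 := ded_35_2 (flp_d L147277) (flp_f L147266) L213668
theorem L213675 : sm gh N25168 = N17645 := ded_38_2 (flp_d L150218) (flp_h L103598) (flp_d L101628) L147261 L213668
theorem L213677 : sm gi N17294 = N25169 := rfl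
theorem L213685 : sm gd N17295 = N25170 := rfl
theorem L213689 : sm gj N25170 = N17296 := ded_37_2 (flp_d L147277) (flp_j L147275) L213685
theorem L213692 : sm gh N25170 = N17647 := ded_38_2 (flp_d L150234) (flp_h L103607) (flp_d L101636) L147269 L213685
theorem L213702 : sm gc N17296 = N25172 := rfl
theorem L213709 : sm gi N17296 = N25173 := rfl
theorem L213718 : sm gb N17298 = N25174 := rfl
theorem L213724 : sm gc N25174 = N17309 := ded_19_2 (flp_b L147374) (flp_c L101715) (flp_b L101650) L147294 L213718
theorem L213726 : sm gi N17298 = N25175 := rfl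
theorem L213740 : sm gh N17301 = N25177 := rfl
theorem L213747 : sm gd N17302 = N25178 := rfl
theorem L213751 : sm gj N25178 = N17303 := ded_37_2 (flp_d L147331) (flp_j L147329) L213747
theorem L213753 : sm gh N25178 = N17655 := ded_38_2 (flp_d L150290) (flp_h L103658) (flp_d L101682) L147323 L213747
theorem L213771 : sm ge N17303 = N25181 := rfl
theorem L213800 : sm gb N17307 = N25185 := rfl
theorem L213804 : sm gg N25185 = N17309 := ded_23_2 (flp_b L147374) (flp_g L147362) L213800
theorem L213808 : sm gi N17307 = N25186 := rfl
theorem L213830 : sm gi N17309 = N25189 := rfl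
theorem L213856 : sm gf N17312 = N25192 := rfl
theorem L213861 : sm gd N25192 = N17313 := ded_35_1 (flp_f L147404) L147394 L213856
theorem L213863 : sm gj N25192 = N17456 := ded_46_2 (flp_f L148676) (flp_j L147400) L213856
theorem L213866 : sm gh N17312 = N25193 := rfl
theorem L213868 : sm ga N25193 = N17316 := ded_17_1 (flp_h L147434) (flp_a L147396) L213866
theorem L213873 : sm gj N25193 = N17457 := ded_52_1 (flp_h L148684) (flp_j L147400) L213866
theorem L213896 : sm gh N17314 = N25196 := rfl
theorem L213903 : sm gj N25196 = N17460 := ded_52_1 (flp_h L148712) (flp_j L147419) L213896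
theorem L213905 : sm ge N17315 = N25197 := rfl
theorem L213907 : sm gb N25197 = N17318 := ded_21_1 (flp_e L147452) (flp_b L147427) L213905
theorem L213909 : sm gj N25197 = N17461 := ded_42_2 (flp_e L148720) (flp_j L147431) L213905
theorem L213930 : sm gi N17316 = N25200 := rfl
theorem L213958 : sm gh N17318 = N25203 := rfl
theorem L213977 : sm gh N17319 = N25205 := rfl
theorem L213981 : sm gf N25205 = N25205 := ded_47_1 (flp_h L213977) L147467 L213977
theorem L213985 : sm gi N17320 = N25206 := rfl
theorem L213990 : sm gf N25206 = N17321 := ded_48_1 (flp_i L147477) (flp_f L147472) L213985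
theorem L213992 : sm gj N25206 = N17470 := ded_53_1 (flp_i L148793) (flp_j L147474) L213985
theorem L213995 : sm gb N17323 = N25207 := rfl
theorem L213997 : sm ge N25207 = N17339 := ded_21_2 (flp_b L147637) (flp_e L147501) L213995
theorem L214000 : sm gj N25207 = N17471 := ded_24_2 (flp_b L148801) (flp_j L147504) L213995
theorem L214033 : sm gg N17324 = N25211 := rfl
theorem L214037 : sm gd N25211 = N17326 := ded_36_1 (flp_g L147526) (flp_d L147511) L214033
theorem L214041 : sm gh N17324 = N25212 := rfl
theorem L214047 : sm gj N25212 = N17476 := ded_52_1 (flp_h L148842) (flp_j L147513) L214041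
theorem L214050 : sm gi N17325 = N25213 := rfl
theorem L214058 : sm gj N25213 = N17477 := ded_53_1 (flp_i L148849) (flp_j L147523) L214050
theorem L214061 : sm gj N17326 = N25214 := rfl
theorem L214068 : sm gg N25214 = N17478 := ded_49_1 (flp_j L148859) (flp_g L102701) (flp_j L101817) L147526 L214061
theorem L214070 : sm ge N17327 = N25215 := rfl
theorem L214073 : sm gc N25215 = N17329 := ded_28_1 (flp_e L147551) (flp_c L147536) L214070
theorem L214080 : sm gg N17327 = N25216 := rfl
theorem L214086 : sm gf N25216 = N25216 := ded_45_1 (flp_g L214080) (flp_f L147533) L101825 L147533 L214080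
theorem L214087 : sm gh N17327 = N25217 := rfl
theorem L214092 : sm gf N25217 = N17328 := ded_47_1 (flp_h L147541) L147533 L214087
theorem L214094 : sm gj N25217 = N17481 := ded_52_1 (flp_h L148883) (flp_j L147538) L214087
theorem L214096 : sm gd N17328 = N25218 := rfl
theorem L214103 : sm gi N17328 = N25219 := rfl
theorem L214111 : sm gj N25219 = N17483 := ded_53_1 (flp_i L148896) (flp_j L147549) L214103
theorem L214114 : sm gg N17329 = N25220 := rfl
theorem L214121 : sm gh N17329 = N25221 := rfl
theorem L214129 : sm gj N25221 = N17485 := ded_52_1 (flp_h L148913) (flp_j L147555) L214121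
theorem L214159 : sm gf N17334 = N25225 := rfl
theorem L214163 : sm ge N25225 = N25225 := ded_40_1 (flp_f L214159) L147600 L101870 (flp_e L147600) L214159
theorem L214174 : sm gh N17334 = N25227 := rfl
theorem L214177 : sm ge N25227 = N17337 := ded_43_1 (flp_h L147621) (flp_e L147600) L214174
theorem L214198 : sm gh N17336 = N25230 := rfl
theorem L214202 : sm gg N25230 = N17494 := ded_50_1 (flp_h L148981) (flp_g L147619) L214198
theorem L214207 : sm gi N17337 = N25231 := rfl
theorem L214212 : sm gg N25231 = N17338 := ded_51_1 (flp_i L147628) (flp_g L147625) L214207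
theorem L214224 : sm gh N17339 = N25233 := rfl
theorem L214227 : sm gb N25233 = N17341 := ded_25_1 (flp_h L147655) L147637 L214224
theorem L214232 : sm ge N17340 = N25234 := rfl
theorem L214234 : sm ga N25234 = N17347 := ded_13_1 (flp_e L147710) (flp_a L147647) L214232
theorem L214238 : sm gj N25234 = N17498 := ded_42_2 (flp_e L149012) (flp_j L147652) L214232
theorem L214270 : sm gi N17341 = N25238 := rfl
theorem L214277 : sm gj N25238 = N17502 := ded_53_1 (flp_i L149046) (flp_j L147662) L214270
theorem L214325 : sm gd N17347 = N25244 := rfl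
theorem L214328 : sm gj N25244 = N17508 := ded_37_2 (flp_d L149096) (flp_j L147715) L214325
theorem L214332 : sm gg N17347 = N25245 := rfl
theorem L214340 : sm gh N17347 = N25246 := rfl
theorem L214347 : sm gj N25246 = N17510 := ded_52_1 (flp_h L149109) (flp_j L147715) L214340
theorem L214349 : sm gj N17348 = N25247 := rfl
theorem L214357 : sm gg N25247 = N17511 := ded_49_1 (flp_j L149116) (flp_g L102871) (flp_j L101940) L147718 L214349
theorem L214359 : sm gh N17348 = N25248 := rfl
theorem L214365 : sm gg N25248 = N17349 := ded_50_1 (flp_h L147726) L147718 L214359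
theorem L214367 : sm gd N17349 = N25249 := rfl
theorem L214372 : sm gj N25249 = N17513 := ded_37_2 (flp_d L149134) (flp_j L147733) L214367
theorem L214377 : sm gi N17349 = N25250 := rfl
theorem L214384 : sm gj N25250 = N17514 := ded_53_1 (flp_i L149142) (flp_j L147733) L214377
theorem L214387 : sm ge N17350 = N25251 := rfl
theorem L214393 : sm gj N25251 = N17515 := ded_42_2 (flp_e L149150) (flp_j L147739) L214387
theorem L214396 : sm gi N17350 = N25252 := rfl
theorem L214429 : sm gd N17353 = N25256 := rfl
theorem L214433 : sm gj N25256 = N17520 := ded_37_2 (flp_d L149189) (flp_j L147766) L214429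
theorem L214435 : sm ge N25256 = N17388 := ded_34_2 (flp_d L148085) L102178 (flp_d L101974) (flp_e L147764) L214429
theorem L214495 : sm gi N17359 = N25264 := rfl
theorem L214500 : sm gg N25264 = N17361 := ded_51_1 (flp_i L147824) (flp_g L147816) L214495
theorem L214510 : sm gi N17360 = N25266 := rfl
theorem L214514 : sm ge N25266 = N17398 := ded_44_1 (flp_i L148169) (flp_e L147822) L214510
theorem L214516 : sm gj N25266 = N17530 := ded_53_1 (flp_i L149264) (flp_j L147820) L214510
theorem L214518 : sm gi N17362 = N25267 := rfl
theorem L214526 : sm gj N25267 = N17363 := ded_53_1 (flp_i L147842) (flp_j L147838) L214518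
theorem L214529 : sm ge N17364 = N25268 := rfl
theorem L214537 : sm gi N25268 = N17400 := ded_44_2 (flp_e L148187) (flp_i L147860) L214529
theorem L214560 : sm gd N17365 = N25271 := rfl
theorem L214562 : sm ga N25271 = N17974 := ded_12_1 (flp_d L152898) (flp_a L147864) L214560
theorem L214564 : sm gb N25271 = N17369 := ded_20_1 (flp_d L147903) (flp_b L147866) L214560
theorem L214625 : sm gh N17367 = N25277 := rfl
theorem L214632 : sm gg N25277 = N17368 := ded_50_1 (flp_h L147893) L147883 L214625
theorem L214634 : sm gd N17368 = N25278 := rfl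
theorem L214640 : sm gj N25278 = N17542 := ded_37_2 (flp_d L149376) (flp_j L147901) L214634
theorem L214643 : sm gi N17368 = N25279 := rfl
theorem L214649 : sm gf N25279 = N17370 := ded_48_1 (flp_i L147911) (flp_f L147899) L214643
theorem L214653 : sm gh N25279 = N17411 := ded_54_1 (flp_i L148290) (flp_h L102307) (flp_i L102057) L147893 L214643
theorem L214664 : sm gi N17369 = N25281 := rfl
theorem L214666 : sm ga N25281 = N17384 := ded_18_1 (flp_i L148050) (flp_a L147905) L214664
theorem L214668 : sm gd N25281 = N17370 := ded_39_1 (flp_i L147911) L147903 L214664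
theorem L214671 : sm gj N25281 = N17545 := ded_53_1 (flp_i L149401) (flp_j L147908) L214664
theorem L214673 : sm gf N17371 = N25282 := rfl
theorem L214677 : sm gi N25282 = N17414 := ded_48_2 (flp_f L148320) (flp_i L147929) L214673
theorem L214691 : sm gh N17371 = N25284 := rfl
theorem L214697 : sm gg N25284 = N17372 := ded_50_1 (flp_h L147931) L147923 L214691
theorem L214699 : sm gd N17372 = N25285 := rfl
theorem L214704 : sm gj N25285 = N17549 := ded_37_2 (flp_d L149434) (flp_j L147938) L214699
theorem L214706 : sm gi N17372 = N25286 := rfl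
theorem L214715 : sm gh N25286 = N17418 := ded_54_1 (flp_i L148350) (flp_h L102342) (flp_i L102075) L147931 L214706
theorem L214717 : sm gh N17373 = N25287 := rfl
theorem L214719 : sm ga N25287 = N17390 := ded_17_1 (flp_h L148103) (flp_a L147942) L214717
theorem L214722 : sm gg N25287 = N17551 := ded_50_1 (flp_h L149448) (flp_g L147949) L214717
theorem L214735 : sm gg N17376 = N25289 := rfl
theorem L214737 : sm gb N25289 = N17992 := ded_23_1 (flp_g L153079) (flp_b L147970) L214735
theorem L214739 : sm gd N25289 = N17377 := ded_36_1 (flp_g L147978) L147968 L214735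
theorem L214742 : sm gi N25289 = N17421 := ded_51_2 (flp_g L148377) (flp_i L147975) L214735
theorem L214744 : sm gh N17376 = N25290 := rfl
theorem L214752 : sm gf N17377 = N25291 := rfl
theorem L214758 : sm gi N25291 = N17423 := ded_48_2 (flp_f L148392) (flp_i L147986) L214752
theorem L214774 : sm gh N17377 = N25293 := rfl
theorem L214791 : sm gi N17378 = N25295 := rfl
theorem L214795 : sm gc N25295 = N17389 := ded_33_1 (flp_i L148092) (flp_c L147992) L214791
theorem L214859 : sm gi N17383 = N25302 := rfl
theorem L214867 : sm gj N25302 = N17566 := ded_53_1 (flp_i L149578) (flp_j L148046) L214859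
theorem L214869 : sm gh N17384 = N25303 := rfl
theorem L214871 : sm gb N25303 = N18006 := ded_25_1 (flp_h L153192) (flp_b L148052) L214869
theorem L214896 : sm gh N17386 = N25306 := rfl
theorem L214900 : sm ge N25306 = N17390 := ded_43_1 (flp_h L148103) (flp_e L148071) L214896
theorem L214922 : sm gc N17388 = N25309 := rfl
theorem L214927 : sm gi N17388 = N25310 := rfl
theorem L214936 : sm gi N17390 = N25311 := rfl
theorem L214938 : sm gb N25311 = N17399 := ded_26_1 (flp_i L148176) (flp_b L148105) L214936
theorem L214966 : sm gd N17393 = N25314 := rfl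
theorem L214968 : sm gf N25314 = N17395 := ded_35_2 (flp_d L148148) (flp_f L148135) L214966
theorem L214971 : sm gi N17393 = N25315 := rfl
theorem L214979 : sm gh N25315 = N17447 := ded_54_1 (flp_i L148603) (flp_h L102527) (flp_i L102215) L148130 L214971
theorem L214981 : sm gd N17394 = N25316 := rfl
theorem L214985 : sm gj N25316 = N17395 := ded_37_2 (flp_d L148148) (flp_j L148146) L214981
theorem L214987 : sm gi N17394 = N25317 := rfl
theorem L214995 : sm gj N25317 = N17396 := ded_53_1 (flp_i L148152) (flp_j L148146) L214987
theorem L214999 : sm gc N17395 = N25318 := rfl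
theorem L215005 : sm gi N17395 = N25319 := rfl
theorem L215027 : sm gh N17398 = N25322 := rfl
theorem L215052 : sm gh N17400 = N25325 := rfl
theorem L215058 : sm ge N25325 = N17402 := ded_43_1 (flp_h L148204) L148187 L215052
theorem L215061 : sm gj N25325 = N17589 := ded_52_1 (flp_h L149753) (flp_j L148193) L215052
theorem L215063 : sm gj N17401 = N25326 := rfl
theorem L215065 : sm ga N25326 = N18029 := ded_16_1 (flp_j L153384) (flp_a L148198) L215063
theorem L215134 : sm gg N17405 = N25333 := rfl
theorem L215136 : sm ga N25333 = N17421 := ded_15_1 (flp_g L148377) (flp_a L148236) L215134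
theorem L215215 : sm gi N17409 = N25342 := rfl
theorem L215222 : sm gg N25342 = N17411 := ded_51_1 (flp_i L148290) (flp_g L148278) L215215
theorem L215224 : sm ge N17410 = N25343 := rfl
theorem L215229 : sm gj N25343 = N17607 := ded_42_2 (flp_e L149910) (flp_j L148286) L215224
theorem L215252 : sm gi N17412 = N25346 := rfl
theorem L215258 : sm ge N25346 = N17413 := ded_44_1 (flp_i L148310) L148300 L215252
theorem L215263 : sm gh N17413 = N25347 := rfl
theorem L215272 : sm gj N17414 = N25348 := rfl
theorem L215279 : sm gh N17414 = N25349 := rfl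
theorem L215281 : sm ga N25349 = N17437 := ded_17_1 (flp_h L148522) (flp_a L148322) L215279
theorem L215284 : sm gf N25349 = N17416 := ded_47_1 (flp_h L148334) L148320 L215279
theorem L215320 : sm gi N17417 = N25354 := rfl
theorem L215322 : sm ga N25354 = N17442 := ded_18_1 (flp_i L148561) (flp_a L148344) L215320
theorem L215328 : sm gj N25354 = N17618 := ded_53_1 (flp_i L149996) (flp_j L148347) L215320
theorem L215340 : sm gf N17421 = N25356 := rfl
theorem L215344 : sm gd N25356 = N17423 := ded_35_1 (flp_f L148392) (flp_d L148381) L215340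
theorem L215347 : sm gj N17421 = N25357 := rfl
theorem L215354 : sm gg N25357 = N17621 := ded_49_1 (flp_j L150020) (flp_g L103466) (flp_j L102382) L148377 L215347
theorem L215356 : sm gh N17421 = N25358 := rfl
theorem L215361 : sm gg N25358 = N17422 := ded_50_1 (flp_h L148384) L148377 L215356
theorem L215363 : sm gd N17422 = N25359 := rfl
theorem L215368 : sm gj N25359 = N17623 := ded_37_2 (flp_d L150034) (flp_j L148390) L215363
theorem L215370 : sm gh N25359 = N17426 := ded_38_2 (flp_d L148420) (flp_h L102393) L102377 L148384 L215363
theorem L215372 : sm gi N17422 = N25360 := rfl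
theorem L215380 : sm gj N17423 = N25361 := rfl
theorem L215382 : sm gb N25361 = N18064 := ded_24_1 (flp_j L153697) (flp_b L148394) L215380
theorem L215384 : sm gc N25361 = N17436 := ded_31_1 (flp_j L148515) (flp_c L148396) L215380
theorem L215389 : sm gh N17423 = N25362 := rfl
theorem L215396 : sm gf N25362 = N17425 := ded_47_1 (flp_h L148410) L148392 L215389
theorem L215417 : sm gi N17425 = N25365 := rfl
theorem L215442 : sm gi N17426 = N25368 := rfl
theorem L215449 : sm gj N25368 = N17632 := ded_53_1 (flp_i L150105) (flp_j L148425) L215442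
theorem L215557 : sm gh N17436 = N25380 := rfl
theorem L215562 : sm gf N25380 = N17438 := ded_47_1 (flp_h L148530) (flp_f L148520) L215557
theorem L215564 : sm gj N25380 = N17437 := ded_52_1 (flp_h L148522) L148515 L215557
theorem L215566 : sm gd N17437 = N25381 := rfl
theorem L215568 : sm gb N25381 = N17446 := ded_20_1 (flp_d L148598) (flp_b L148524) L215566
theorem L215570 : sm gf N25381 = N17439 := ded_35_2 (flp_d L148540) (flp_f L148527) L215566
theorem L215573 : sm gi N17437 = N25382 := rfl
theorem L215575 : sm gb N25382 = N17447 := ded_26_1 (flp_i L148603) (flp_b L148524) L215573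
theorem L215581 : sm gd N17438 = N25383 := rfl
theorem L215583 : sm gb N25383 = N17448 := ded_20_1 (flp_d L148611) (flp_b L148532) L215581
theorem L215590 : sm gi N17438 = N25384 := rfl
theorem L215600 : sm gc N17439 = N25385 := rfl
theorem L215603 : sm gg N25385 = N17441 := ded_30_2 (flp_c L148555) (flp_g L148544) L215600
theorem L215622 : sm gi N17441 = N25388 := rfl
theorem L215624 : sm gc N25388 = N17442 := ded_33_1 (flp_i L148561) L148555 L215622
theorem L215628 : sm gj N25388 = N17652 := ded_53_1 (flp_i L150269) (flp_j L148559) L215622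
theorem L215630 : sm gh N17442 = N25389 := rfl
theorem L215648 : sm gd N17445 = N25391 := rfl
theorem L215650 : sm gf N25391 = N17448 := ded_35_2 (flp_d L148611) (flp_f L148594) L215648
theorem L215654 : sm gi N17445 = N25392 := rfl
theorem L215661 : sm gj N25392 = N17447 := ded_53_1 (flp_i L148603) (flp_j L148596) L215654
theorem L215663 : sm gc N17446 = N25393 := rfl
theorem L215668 : sm gd N25393 = N18096 := ded_27_2 (flp_c L153964) (flp_d L106118) (flp_c L102529) L148598 L215663
theorem L215670 : sm ge N17446 = N25394 := rfl
theorem L215675 : sm gi N17446 = N25395 := rfl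
theorem L215677 : sm gd N25395 = N17447 := ded_39_1 (flp_i L148603) L148598 L215675
theorem L215691 : sm gi N17448 = N25397 := rfl
theorem L215696 : sm gg N25397 = N17661 := ded_51_1 (flp_i L150333) (flp_g L148613) L215691
theorem L215698 : sm gj N25397 = N17451 := ded_53_1 (flp_i L148635) (flp_j L148615) L215691
theorem L215716 : sm gh N17451 = N25400 := rfl
theorem L215739 : sm gh N17453 = N25403 := rfl
theorem L215745 : sm gj N25403 = N17667 := ded_52_1 (flp_h L150375) (flp_j L148658) L215739
theorem L215782 : sm gg N17456 = N25408 := rfl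
theorem L215790 : sm gf N25408 = N17672 := ded_45_1 (flp_g L150417) (flp_f L103736) (flp_g L102589) L148676 L215782
theorem L215792 : sm gh N17456 = N25409 := rfl
theorem L215800 : sm gi N17457 = N25410 := rfl
theorem L215845 : sm gd N17460 = N25415 := rfl
theorem L215848 : sm gg N25415 = N17679 := ded_36_2 (flp_d L150478) (flp_g L148718) L215845
theorem L215862 : sm gg N17461 = N25417 := rfl
theorem L215869 : sm gh N17461 = N25418 := rfl
theorem L215902 : sm gf N17466 = N25422 := rfl
theorem L215907 : sm ge N25422 = N17686 := ded_40_1 (flp_f L150533) L103825 (flp_f L102649) (flp_e L148765) L215902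
theorem L215917 : sm gh N17466 = N25424 := rfl
theorem L215923 : sm gg N25424 = N17467 := ded_50_1 (flp_h L148768) L148761 L215917
theorem L215925 : sm gd N17467 = N25425 := rfl
theorem L215938 : sm gh N17468 = N25427 := rfl
theorem L215942 : sm gf N25427 = N17691 := ded_47_1 (flp_h L150573) (flp_f L148781) L215938
theorem L215963 : sm gh N17471 = N25430 := rfl
theorem L215970 : sm gg N25430 = N17694 := ded_50_1 (flp_h L150596) (flp_g L148805) L215963
theorem L216040 : sm gh N17475 = N25439 := rfl
theorem L216046 : sm gg N25439 = N17476 := ded_50_1 (flp_h L148842) L148833 L216040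
theorem L216049 : sm gi N17476 = N25440 := rfl
theorem L216080 : sm gj N17480 = N25444 := rfl
theorem L216085 : sm gf N25444 = N17708 := ded_46_1 (flp_j L150713) (flp_f L148881) L216080
theorem L216088 : sm gh N17480 = N25445 := rfl
theorem L216095 : sm gg N25445 = N17481 := ded_50_1 (flp_h L148883) L148875 L216088
theorem L216103 : sm gi N17481 = N25447 := rfl
theorem L216136 : sm gj N17484 = N25451 := rfl
theorem L216143 : sm gh N17484 = N25452 := rfl
theorem L216149 : sm gg N25452 = N17485 := ded_50_1 (flp_h L148913) L148906 L216143
theorem L216151 : sm gd N17485 = N25453 := rfl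
theorem L216153 : sm gb N25453 = N17492 := ded_20_1 (flp_d L148968) (flp_b L148915) L216151
theorem L216155 : sm gf N25453 = N17520 := ded_35_2 (flp_d L149189) (flp_f L148919) L216151
theorem L216158 : sm gi N17485 = N25454 := rfl
theorem L216229 : sm gi N17492 = N25463 := rfl
theorem L216236 : sm gi N17494 = N25464 := rfl
theorem L216242 : sm gj N25464 = N17495 := ded_53_1 (flp_i L148989) (flp_j L148986) L216236
theorem L216251 : sm gg N17496 = N25466 := rfl
theorem L216254 : sm gb N25466 = N17499 := ded_23_1 (flp_g L149019) (flp_b L149001) L216251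
theorem L216260 : sm gh N17496 = N25467 := rfl
theorem L216265 : sm gf N25467 = N17497 := ded_47_1 (flp_h L149005) L148998 L216260
theorem L216267 : sm gd N17497 = N25468 := rfl
theorem L216272 : sm gg N25468 = N17732 := ded_36_2 (flp_d L150899) (flp_g L149010) L216267
theorem L216298 : sm gh N17498 = N25472 := rfl
theorem L216302 : sm gc N25472 = N17504 := ded_32_1 (flp_h L149062) (flp_c L149016) L216298
theorem L216316 : sm gh N17499 = N25474 := rfl
theorem L216322 : sm gf N25474 = N17738 := ded_47_1 (flp_h L150948) (flp_f L149027) L216316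
theorem L216335 : sm gi N17500 = N25476 := rfl
theorem L216339 : sm gc N25476 = N17507 := ded_33_1 (flp_i L149087) (flp_c L149033) L216335
theorem L216385 : sm gd N17504 = N25482 := rfl
theorem L216389 : sm ge N25482 = N17549 := ded_34_2 (flp_d L149434) L103068 (flp_d L102844) (flp_e L149066) L216385
theorem L216391 : sm gi N17504 = N25483 := rfl
theorem L216398 : sm gh N17505 = N25484 := rfl
theorem L216402 : sm gf N25484 = N17748 := ded_47_1 (flp_h L151032) (flp_f L149074) L216398
theorem L216406 : sm gd N25484 = N17551 := ded_38_1 (flp_h L149448) L103075 (flp_h L102862) (flp_d L149072) L216398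
theorem L216426 : sm gh N17508 = N25487 := rfl
theorem L216438 : sm gj N17509 = N25489 := rfl
theorem L216446 : sm gh N17509 = N25490 := rfl
theorem L216449 : sm gc N25490 = N17519 := ded_32_1 (flp_h L149181) (flp_c L149104) L216446
theorem L216455 : sm gd N17510 = N25491 := rfl
theorem L216466 : sm gh N17511 = N25493 := rfl
theorem L216471 : sm gf N25493 = N17757 := ded_47_1 (flp_h L151101) (flp_f L149122) L216466
theorem L216485 : sm gi N17512 = N25495 := rfl
theorem L216488 : sm gc N25495 = N17523 := ded_33_1 (flp_i L149212) (flp_c L149128) L216485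
theorem L216516 : sm gi N17515 = N25499 := rfl
theorem L216519 : sm gc N25499 = N17566 := ded_33_1 (flp_i L149578) (flp_c L149153) L216516
theorem L216534 : sm gj N17517 = N25501 := rfl
theorem L216543 : sm gh N17517 = N25502 := rfl
theorem L216549 : sm gf N25502 = N17519 := ded_47_1 (flp_h L149181) L149167 L216543
theorem L216567 : sm gi N17519 = N25505 := rfl
theorem L216626 : sm gd N17526 = N25513 := rfl
theorem L216628 : sm gj N25513 = N17527 := ded_37_2 (flp_d L149245) (flp_j L149243) L216626
theorem L216632 : sm gi N17526 = N25514 := rfl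
theorem L216647 : sm gi N17527 = N25516 := rfl
theorem L216667 : sm gh N17530 = N25519 := rfl
theorem L216672 : sm gd N17532 = N25520 := rfl
theorem L216676 : sm gb N25520 = N17537 := ded_20_1 (flp_d L149328) (flp_b L149284) L216672
theorem L216679 : sm gi N25520 = N17587 := ded_39_2 (flp_d L149737) (flp_i L149286) L216672
theorem L216682 : sm gg N17532 = N25521 := rfl
theorem L216690 : sm gi N25521 = N17588 := ded_51_2 (flp_g L149745) (flp_i L149286) L216682
theorem L216692 : sm gh N17532 = N25522 := rfl
theorem L216748 : sm ge N17535 = N25528 := rfl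
theorem L216752 : sm gb N25528 = N17544 := ded_21_1 (flp_e L149393) (flp_b L149312) L216748
theorem L216754 : sm gg N25528 = N17792 := ded_41_2 (flp_e L151386) (flp_g L149314) L216748
theorem L216768 : sm gg N17537 = N25530 := rfl
theorem L216775 : sm gi N25530 = N17597 := ded_51_2 (flp_g L149826) (flp_i L149333) L216768
theorem L216777 : sm gh N17537 = N25531 := rfl
theorem L216849 : sm gi N17541 = N25539 := rfl
theorem L216855 : sm gf N25539 = N17803 := ded_48_1 (flp_i L151486) (flp_f L149372) L216849
theorem L216859 : sm gh N25539 = N17606 := ded_54_1 (flp_i L149900) (flp_h L103370) (flp_i L103026) L149366 L216849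
theorem L216866 : sm gi N17542 = N25541 := rfl
theorem L216872 : sm gf N25541 = N17545 := ded_48_1 (flp_i L149401) (flp_f L149380) L216866
theorem L216880 : sm gi N17544 = N25543 := rfl
theorem L216889 : sm gh N17545 = N25544 := rfl
theorem L216898 : sm gj N17546 = N25545 := rfl
theorem L216904 : sm gf N25545 = N17547 := ded_46_1 (flp_j L149418) L149409 L216898
theorem L216906 : sm gi N25545 = N17612 := ded_53_2 (flp_j L149950) (flp_i L149413) L216898
theorem L216917 : sm gh N17547 = N25547 := rfl
theorem L216923 : sm gj N25547 = N17548 := ded_52_1 (flp_h L149426) L149418 L216917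
theorem L216931 : sm gi N17548 = N25549 := rfl
theorem L216939 : sm gh N25549 = N17616 := ded_54_1 (flp_i L149982) (flp_h L103427) (flp_i L103062) L149426 L216931
theorem L216946 : sm gi N17549 = N25551 := rfl
theorem L216953 : sm gi N17551 = N25552 := rfl
theorem L216972 : sm gj N17553 = N25554 := rfl
theorem L216976 : sm gd N25554 = N17556 := ded_37_1 (flp_j L149492) (flp_d L149470) L216972
theorem L216979 : sm gi N25554 = N17621 := ded_53_2 (flp_j L150020) (flp_i L149473) L216972
theorem L217026 : sm gh N17556 = N25560 := rfl
theorem L217042 : sm gi N17557 = N25562 := rfl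
theorem L217046 : sm gc N25562 = N17572 := ded_33_1 (flp_i L149629) (flp_c L149506) L217042
theorem L217147 : sm gh N17566 = N25575 := rfl
theorem L217153 : sm gg N25575 = N17839 := ded_50_1 (flp_h L151789) (flp_g L149585) L217147
theorem L217165 : sm gh N17568 = N25577 := rfl
theorem L217167 : sm gb N25577 = N17577 := ded_25_1 (flp_h L149668) (flp_b L149598) L217165
theorem L217171 : sm gf N25577 = N17570 := ded_47_1 (flp_h L149615) (flp_f L149602) L217165
theorem L217193 : sm gd N17570 = N25580 := rfl
theorem L217197 : sm gj N25580 = N17571 := ded_37_2 (flp_d L149623) (flp_j L149621) L217193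
theorem L217199 : sm gi N17570 = N25581 := rfl
theorem L217205 : sm gj N25581 = N17572 := ded_53_1 (flp_i L149629) (flp_j L149621) L217199
theorem L217209 : sm gc N17571 = N25582 := rfl
theorem L217213 : sm gi N17571 = N25583 := rfl
theorem L217238 : sm gh N17576 = N25587 := rfl
theorem L217240 : sm gc N25587 = N18174 := ded_32_1 (flp_h L154595) (flp_c L149661) L217238
theorem L217247 : sm gd N17577 = N25588 := rfl
theorem L217251 : sm gj N25588 = N17578 := ded_37_2 (flp_d L149678) (flp_j L149676) L217247
theorem L217277 : sm gi N17578 = N25592 := rfl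
theorem L217279 : sm gd N25592 = N17579 := ded_39_1 (flp_i L149683) L149678 L217277
theorem L217284 : sm gc N17580 = N25593 := rfl
theorem L217286 : sm gj N25593 = N17582 := ded_31_2 (flp_c L149708) (flp_j L149696) L217284
theorem L217288 : sm gd N25593 = N18180 := ded_27_2 (flp_c L154639) (flp_d L106582) (flp_c L103256) L149694 L217284
theorem L217328 : sm gh N17585 = N25600 := rfl
theorem L217333 : sm gc N17587 = N25601 := rfl
theorem L217335 : sm ga N25601 = N18188 := ded_11_1 (flp_c L154691) (flp_a L149739) L217333
theorem L217365 : sm gj N17588 = N25605 := rfl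
theorem L217371 : sm ge N25605 = N17590 := ded_42_1 (flp_j L149762) (flp_e L149751) L217365
theorem L217390 : sm gi N17589 = N25608 := rfl
theorem L217502 : sm gf N17597 = N25620 := rfl
theorem L217506 : sm gd N25620 = N17599 := ded_35_1 (flp_f L149839) (flp_d L149830) L217502
theorem L217509 : sm gj N17597 = N25621 := rfl
theorem L217530 : sm gi N17598 = N25624 := rfl
theorem L217567 : sm gd N17601 = N25628 := rfl
theorem L217571 : sm gg N25628 = N17602 := ded_36_2 (flp_d L149866) (flp_g L149864) L217567
theorem L217583 : sm gc N17602 = N25630 := rfl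
theorem L217588 : sm gd N25630 = N17617 := ded_27_2 (flp_c L149990) (flp_d L103435) (flp_c L103356) L149866 L217583
theorem L217590 : sm ge N17602 = N25631 := rfl
theorem L217594 : sm gd N25631 = N17607 := ded_34_1 (flp_e L149910) (flp_d L103380) (flp_e L103358) L149866 L217590
theorem L217596 : sm gi N17602 = N25632 := rfl
theorem L217642 : sm gf N17607 = N25637 := rfl
theorem L217650 : sm gi N17607 = N25638 := rfl
theorem L217655 : sm ge N25638 = N17608 := ded_44_1 (flp_i L149916) L149910 L217650
theorem L217665 : sm gg N17609 = N25640 := rfl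
theorem L217672 : sm gf N25640 = N17904 := ded_45_1 (flp_g L152326) (flp_f L104987) (flp_g L103401) L149925 L217665
theorem L217674 : sm gi N17609 = N25641 := rfl
theorem L217680 : sm gf N25641 = N17610 := ded_48_1 (flp_i L149932) L149925 L217674
theorem L217682 : sm gh N17610 = N25642 := rfl
theorem L217689 : sm gg N25642 = N17906 := ded_50_1 (flp_h L152342) (flp_g L149940) L217682
theorem L217699 : sm gh N17612 = N25644 := rfl
theorem L217707 : sm gj N25644 = N17613 := ded_52_1 (flp_h L149958) L149950 L217699
theorem L217716 : sm gi N17613 = N25646 := rfl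
theorem L217722 : sm gf N25646 = N17616 := ded_48_1 (flp_i L149982) (flp_f L149964) L217716
theorem L217725 : sm gd N17614 = N25647 := rfl
theorem L217732 : sm gi N17614 = N25648 := rfl
theorem L217738 : sm gj N25648 = N17616 := ded_53_1 (flp_i L149982) (flp_j L149973) L217732
theorem L217768 : sm gh N17618 = N25653 := rfl
theorem L217774 : sm ge N17620 = N25654 := rfl
theorem L217779 : sm gd N25654 = N17918 := ded_34_1 (flp_e L152440) L105080 (flp_e L103485) (flp_d L150017) L217774
theorem L217797 : sm gh N17621 = N25657 := rfl
theorem L217802 : sm gj N25657 = N17622 := ded_52_1 (flp_h L150027) L150020 L217797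
theorem L217804 : sm gd N17622 = N25658 := rfl
theorem L217808 : sm gg N25658 = N17623 := ded_36_2 (flp_d L150034) (flp_g L150032) L217804
theorem L217812 : sm gi N17622 = N25659 := rfl
theorem L217831 : sm gi N17623 = N25662 := rfl
theorem L217833 : sm gb N25662 = N18249 := ded_26_1 (flp_i L155173) (flp_b L150036) L217831
theorem L217838 : sm gg N17625 = N25663 := rfl
theorem L217840 : sm gb N25663 = N18250 := ded_23_1 (flp_g L155178) (flp_b L150049) L217838
theorem L217842 : sm gc N25663 = N17643 := ded_30_1 (flp_g L150201) (flp_c L150051) L217838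
theorem L217847 : sm gh N17625 = N25664 := rfl
theorem L217855 : sm gf N25664 = N17627 := ded_47_1 (flp_h L150068) (flp_f L150055) L217847
theorem L217866 : sm gi N17626 = N25666 := rfl
theorem L217868 : sm gb N25666 = N18253 := ded_26_1 (flp_i L155200) (flp_b L150059) L217866
theorem L217870 : sm gc N25666 = N17646 := ded_33_1 (flp_i L150225) (flp_c L150061) L217866
theorem L217883 : sm gi N17627 = N25668 := rfl
theorem L217893 : sm gc N17628 = N25669 := rfl
theorem L217895 : sm gg N25669 = N17630 := ded_30_2 (flp_c L150094) (flp_g L150082) L217893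
theorem L217897 : sm gd N25669 = N17649 := ded_27_2 (flp_c L150249) (flp_d L103615) (flp_c L103500) L150078 L217893
theorem L217915 : sm gb N17630 = N25672 := rfl
theorem L217917 : sm gd N25672 = N17651 := ded_20_2 (flp_b L150263) (flp_d L150097) L217915
theorem L217922 : sm ge N17630 = N25673 := rfl
theorem L217949 : sm gh N17632 = N25677 := rfl
theorem L217962 : sm gi N17633 = N25679 := rfl
theorem L217969 : sm gf N25679 = N17942 := ded_48_1 (flp_i L152636) (flp_f L150116) L217962
theorem L218060 : sm gh N17643 = N25690 := rfl
theorem L218062 : sm gb N25690 = N17654 := ded_25_1 (flp_h L150281) (flp_b L150203) L218060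
theorem L218066 : sm gg N25690 = N17644 := ded_50_1 (flp_h L150208) L150201 L218060
theorem L218069 : sm gd N17644 = N25691 := rfl
theorem L218075 : sm gj N25691 = N17645 := ded_37_2 (flp_d L150218) (flp_j L150216) L218069
theorem L218100 : sm gi N17645 = N25695 := rfl
theorem L218102 : sm gb N25695 = N17659 := ded_26_1 (flp_i L150319) (flp_b L150220) L218100
theorem L218104 : sm gd N25695 = N17646 := ded_39_1 (flp_i L150225) L150218 L218100
theorem L218106 : sm gf N25695 = N17650 := ded_48_1 (flp_i L150254) (flp_f L150222) L218100
theorem L218109 : sm gc N17647 = N25696 := rfl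
theorem L218112 : sm gj N25696 = N17649 := ded_31_2 (flp_c L150249) (flp_j L150238) L218109
theorem L218114 : sm gi N17647 = N25697 := rfl
theorem L218116 : sm gb N25697 = N17661 := ded_26_1 (flp_i L150333) (flp_b L150236) L218114
theorem L218121 : sm gj N25697 = N17650 := ded_53_1 (flp_i L150254) (flp_j L150238) L218114
theorem L218130 : sm gi N17649 = N25699 := rfl
theorem L218137 : sm gh N17650 = N25700 := rfl
theorem L218150 : sm gi N17651 = N25702 := rfl
theorem L218154 : sm gc N25702 = N17666 := ded_33_1 (flp_i L150367) (flp_c L150267) L218150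
theorem L218158 : sm gh N17652 = N25703 := rfl
theorem L218169 : sm gi N17654 = N25705 := rfl
theorem L218171 : sm gc N25705 = N18291 := ded_33_1 (flp_i L155485) (flp_c L150283) L218169
theorem L218175 : sm gg N25705 = N17656 := ded_51_1 (flp_i L150296) (flp_g L150287) L218169
theorem L218186 : sm ge N17655 = N25707 := rfl
theorem L218190 : sm gd N25707 = N17966 := ded_34_1 (flp_e L152835) (flp_d L105356) (flp_e L103662) L150290 L218186
theorem L218232 : sm gh N17659 = N25713 := rfl
theorem L218244 : sm gi N17660 = N25715 := rfl
theorem L218246 : sm gc N25715 = N17661 := ded_33_1 (flp_i L150333) L150326 L218244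
theorem L218251 : sm gj N25715 = N17663 := ded_53_1 (flp_i L150347) (flp_j L150329) L218244
theorem L218253 : sm gh N17661 = N25716 := rfl
theorem L218274 : sm gh N17663 = N25719 := rfl
theorem L218279 : sm gg N25719 = N17667 := ded_50_1 (flp_h L150375) (flp_g L150354) L218274
theorem L218336 : sm gh N17669 = N25727 := rfl
theorem L218342 : sm gf N25727 = N17670 := ded_47_1 (flp_h L150400) L150390 L218336
theorem L218345 : sm gd N17670 = N25728 := rfl
theorem L218347 : sm ga N25728 = N17679 := ded_12_1 (flp_d L150478) (flp_a L150402) L218345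
theorem L218371 : sm gh N17671 = N25731 := rfl
theorem L218373 : sm ga N25731 = N17682 := ded_17_1 (flp_h L150501) (flp_a L150410) L218371
theorem L218376 : sm ge N25731 = N17673 := ded_43_1 (flp_h L150425) L150408 L218371
theorem L218380 : sm gj N17672 = N25732 := rfl
theorem L218382 : sm ga N25732 = N17683 := ded_16_1 (flp_j L150509) (flp_a L150419) L218380
theorem L218397 : sm gi N17673 = N25734 := rfl
theorem L218407 : sm gd N17676 = N25735 := rfl
theorem L218414 : sm ge N25735 = N17705 := ded_34_2 (flp_d L150687) (flp_e L103925) (flp_d L103768) L150454 L218407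
theorem L218416 : sm gg N17676 = N25736 := rfl
theorem L218421 : sm ge N25736 = N17677 := ded_41_1 (flp_g L150462) L150454 L218416
theorem L218433 : sm gj N17677 = N25738 := rfl
theorem L218436 : sm gc N25738 = N17683 := ded_31_1 (flp_j L150509) (flp_c L150465) L218433
theorem L218441 : sm gg N25738 = N25738 := ded_49_1 (flp_j L218433) (flp_g L150462) L103770 L150462 L218433
theorem L218442 : sm gh N17677 = N25739 := rfl
theorem L218447 : sm gg N25739 = N17678 := ded_50_1 (flp_h L150470) L150462 L218442
theorem L218467 : sm ge N17679 = N25742 := rfl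
theorem L218472 : sm gh N25742 = N17712 := ded_43_2 (flp_e L150743) (flp_h L150483) L218467
theorem L218475 : sm gi N17679 = N25743 := rfl
theorem L218514 : sm gi N17682 = N25748 := rfl
theorem L218523 : sm gh N17683 = N25749 := rfl
theorem L218539 : sm gj N17686 = N25751 := rfl
theorem L218544 : sm gf N25751 = N17687 := ded_46_1 (flp_j L150540) L150533 L218539
theorem L218595 : sm gi N17691 = N25758 := rfl
theorem L218600 : sm gg N25758 = N25758 := ded_51_1 (flp_i L218595) L150577 L218595
theorem L218604 : sm ge N17693 = N25759 := rfl
theorem L218607 : sm gb N25759 = N17695 := ded_21_1 (flp_e L150604) (flp_b L150592) L218604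
theorem L218611 : sm gf N25759 = N17729 := ded_40_2 (flp_e L150877) (flp_f L104055) (flp_e L103862) L150589 L218604
theorem L218619 : sm gh N17693 = N25761 := rfl
theorem L218622 : sm gb N25761 = N17697 := ded_25_1 (flp_h L150621) (flp_b L150592) L218619
theorem L218624 : sm gf N25761 = N17694 := ded_47_1 (flp_h L150596) L150589 L218619
theorem L218627 : sm gd N17694 = N25762 := rfl
theorem L218633 : sm gi N17694 = N25763 := rfl
theorem L218660 : sm gh N17695 = N25766 := rfl
theorem L218664 : sm gc N25766 = N17701 := ded_32_1 (flp_h L150654) (flp_c L150608) L218660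
theorem L218687 : sm gd N17697 = N25769 := rfl
theorem L218755 : sm gi N17701 = N25777 := rfl
theorem L218765 : sm gh N17702 = N25778 := rfl
theorem L218767 : sm ga N25778 = N17719 := ded_17_1 (flp_h L150801) (flp_a L150665) L218765
theorem L218781 : sm gg N17705 = N25780 := rfl
theorem L218795 : sm gf N17706 = N25782 := rfl
theorem L218801 : sm gg N25782 = N17752 := ded_45_2 (flp_f L151064) (flp_g L104158) (flp_f L103932) L150695 L218795
theorem L218812 : sm gh N17706 = N25784 := rfl
theorem L218815 : sm gc N25784 = N17716 := ded_32_1 (flp_h L150774) (flp_c L150698) L218812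
theorem L218827 : sm gi N17707 = N25786 := rfl
theorem L218830 : sm gc N25786 = N17718 := ded_33_1 (flp_i L150791) (flp_c L150706) L218827
theorem L218832 : sm ge N25786 = N17711 := ded_44_1 (flp_i L150734) (flp_e L150708) L218827
theorem L218834 : sm gf N25786 = N17756 := ded_48_1 (flp_i L151092) (flp_f L150710) L218827
theorem L218838 : sm gh N17708 = N25787 := rfl
theorem L218841 : sm gc N25787 = N17719 := ded_32_1 (flp_h L150801) (flp_c L150716) L218838
theorem L218890 : sm gh N17713 = N25794 := rfl
theorem L218921 : sm gd N17716 = N25798 := rfl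
theorem L218923 : sm gb N25798 = N17724 := ded_20_1 (flp_d L150839) (flp_b L150776) L218921
theorem L218929 : sm gi N17716 = N25799 := rfl
theorem L218945 : sm gi N17717 = N25801 := rfl
theorem L218949 : sm gd N25801 = N17718 := ded_39_1 (flp_i L150791) L150782 L218945
theorem L218955 : sm gi N17719 = N25802 := rfl
theorem L218972 : sm gh N17721 = N25804 := rfl
theorem L218975 : sm gf N25804 = N17723 := ded_47_1 (flp_h L150831) (flp_f L150821) L218972
theorem L218977 : sm gj N25804 = N17722 := ded_52_1 (flp_h L150824) L150817 L218972
theorem L218986 : sm gi N17722 = N25806 := rfl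
theorem L219001 : sm gi N17723 = N25808 := rfl
theorem L219010 : sm gc N17724 = N25809 := rfl
theorem L219041 : sm gh N17727 = N25813 := rfl
theorem L219044 : sm gf N25813 = N17783 := ded_47_1 (flp_h L151303) (flp_f L150866) L219041
theorem L219049 : sm gd N17729 = N25814 := rfl
theorem L219052 : sm gb N25814 = N17734 := ded_20_1 (flp_d L150913) (flp_b L150880) L219049
theorem L219106 : sm gc N17732 = N25821 := rfl
theorem L219113 : sm ge N17732 = N25822 := rfl
theorem L219120 : sm gi N17732 = N25823 := rfl
theorem L219128 : sm gg N17734 = N25824 := rfl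
theorem L219130 : sm ga N25824 = N17750 := ded_15_1 (flp_g L151050) (flp_a L150915) L219128
theorem L219151 : sm gj N17735 = N25827 := rfl
theorem L219157 : sm ge N25827 = N17737 := ded_42_1 (flp_j L150939) (flp_e L150927) L219151
theorem L219161 : sm gh N17735 = N25828 := rfl
theorem L219165 : sm gc N25828 = N17745 := ded_32_1 (flp_h L151008) (flp_c L150925) L219161
theorem L219186 : sm gh N17737 = N25831 := rfl
theorem L219195 : sm gd N17738 = N25832 := rfl
theorem L219199 : sm gg N25832 = N17739 := ded_36_2 (flp_d L150956) (flp_g L150954) L219195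
theorem L219221 : sm gi N17739 = N25835 := rfl
theorem L219227 : sm gd N25835 = N17740 := ded_39_1 (flp_i L150966) L150956 L219221
theorem L219272 : sm gh N17744 = N25841 := rfl
theorem L219276 : sm ge N25841 = N17748 := ded_43_1 (flp_h L151032) (flp_e L151004) L219272
theorem L219279 : sm gj N25841 = N17745 := ded_52_1 (flp_h L151008) L150999 L219272
theorem L219281 : sm gd N17745 = N25842 := rfl
theorem L219285 : sm gg N25842 = N17746 := ded_36_2 (flp_d L151016) (flp_g L151014) L219281
theorem L219290 : sm gi N17745 = N25843 := rfl
theorem L219307 : sm gi N17746 = N25845 := rfl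
theorem L219313 : sm ge N25845 = N17815 := ded_44_1 (flp_i L151583) (flp_e L151021) L219307
theorem L219316 : sm gi N17748 = N25846 := rfl
theorem L219326 : sm gf N17750 = N25847 := rfl
theorem L219330 : sm gd N25847 = N17752 := ded_35_1 (flp_f L151064) (flp_d L151054) L219326
theorem L219333 : sm gj N17750 = N25848 := rfl
theorem L219337 : sm gd N25848 = N17753 := ded_37_1 (flp_j L151070) (flp_d L151054) L219333
theorem L219362 : sm gj N17752 = N25852 := rfl
theorem L219370 : sm gh N17752 = N25853 := rfl
theorem L219377 : sm gh N17753 = N25854 := rfl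
theorem L219385 : sm gj N25854 = N17754 := ded_52_1 (flp_h L151079) L151070 L219377
theorem L219428 : sm gi N17757 = N25861 := rfl
theorem L219434 : sm gj N25861 = N17759 := ded_53_1 (flp_i L151117) (flp_j L151107) L219428
theorem L219471 : sm gh N17761 = N25866 := rfl
theorem L219474 : sm gc N25866 = N17836 := ded_32_1 (flp_h L151765) (flp_c L151135) L219471
theorem L219476 : sm gf N25866 = N17764 := ded_47_1 (flp_h L151157) (flp_f L151139) L219471
theorem L219600 : sm gd N17774 = N25882 := rfl
theorem L219602 : sm gf N25882 = N17777 := ded_35_2 (flp_d L151255) (flp_f L151240) L219600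
theorem L219604 : sm gj N25882 = N17775 := ded_37_2 (flp_d L151244) (flp_j L151242) L219600
theorem L219607 : sm gi N17774 = N25883 := rfl
theorem L219621 : sm ge N17775 = N25885 := rfl
theorem L219626 : sm gi N17775 = N25886 := rfl
theorem L219632 : sm gc N17777 = N25887 := rfl
theorem L219637 : sm gj N25887 = N17779 := ded_31_2 (flp_c L151272) (flp_j L151258) L219632
theorem L219641 : sm gi N17777 = N25888 := rfl
theorem L219643 : sm gd N25888 = N17778 := ded_39_1 (flp_i L151263) L151255 L219641
theorem L219648 : sm gj N25888 = N17780 := ded_53_1 (flp_i L151280) (flp_j L151258) L219641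
theorem L219650 : sm gb N17779 = N25889 := rfl
theorem L219653 : sm ge N25889 = N17859 := ded_21_2 (flp_b L151944) (flp_e L151274) L219650
theorem L219655 : sm gg N25889 = N17781 := ded_23_2 (flp_b L151288) (flp_g L151276) L219650
theorem L219658 : sm gi N17779 = N25890 := rfl
theorem L219663 : sm ge N25890 = N17860 := ded_44_1 (flp_i L151951) (flp_e L151274) L219658
theorem L219675 : sm ga N17781 = N25892 := rfl
theorem L219682 : sm gi N17781 = N25893 := rfl
theorem L219758 : sm gd N17786 = N25901 := rfl
theorem L219760 : sm ga N25901 = N18312 := ded_12_1 (flp_d L155645) (flp_a L151333) L219758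
theorem L219762 : sm gb N25901 = N17799 := ded_20_1 (flp_d L151452) (flp_b L151335) L219758
theorem L219766 : sm gi N17786 = N25902 := rfl
theorem L219768 : sm ga N25902 = N18313 := ded_18_1 (flp_i L155651) (flp_a L151333) L219766
theorem L219770 : sm gb N25902 = N17800 := ded_26_1 (flp_i L151458) (flp_b L151335) L219766
theorem L219778 : sm gh N17787 = N25903 := rfl
theorem L219785 : sm gj N25903 = N17788 := ded_52_1 (flp_h L151351) L151341 L219778
theorem L219787 : sm gd N17788 = N25904 := rfl
theorem L219793 : sm gg N25904 = N17789 := ded_36_2 (flp_d L151359) (flp_g L151357) L219787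
theorem L219822 : sm gi N17789 = N25908 := rfl
theorem L219830 : sm gf N25908 = N17793 := ded_48_1 (flp_i L151395) (flp_f L151365) L219822
theorem L219857 : sm gi N17792 = N25912 := rfl
theorem L219864 : sm ge N25912 = N17793 := ded_44_1 (flp_i L151395) L151386 L219857
theorem L219867 : sm gh N17793 = N25913 := rfl
theorem L219877 : sm gf N17794 = N25914 := rfl
theorem L219879 : sm ga N25914 = N17817 := ded_14_1 (flp_f L151600) (flp_a L151406) L219877
theorem L219884 : sm gi N25914 = N17884 := ded_48_2 (flp_f L152157) (flp_i L151412) L219877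
theorem L219898 : sm gh N17794 = N25916 := rfl
theorem L219924 : sm gj N17796 = N25919 := rfl
theorem L219926 : sm ga N25919 = N17822 := ded_16_1 (flp_j L151647) (flp_a L151424) L219924
theorem L219932 : sm gi N25919 = N17889 := ded_53_2 (flp_j L152198) (flp_i L151428) L219924
theorem L219943 : sm gh N17797 = N25921 := rfl
theorem L219954 : sm gd N17798 = N25922 := rfl
theorem L219958 : sm gg N25922 = N17799 := ded_36_2 (flp_d L151452) (flp_g L151450) L219954
theorem L219960 : sm gi N17798 = N25923 := rfl
theorem L219968 : sm gg N25923 = N17800 := ded_51_1 (flp_i L151458) (flp_g L151450) L219960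
theorem L219987 : sm gi N17799 = N25926 := rfl
theorem L220110 : sm gd N17811 = N25941 := rfl
theorem L220112 : sm ga N25941 = N17844 := ded_12_1 (flp_d L151831) (flp_a L151552) L220110
theorem L220115 : sm gj N25941 = N17812 := ded_37_2 (flp_d L151559) (flp_j L151557) L220110
theorem L220129 : sm gc N17812 = N25943 := rfl
theorem L220136 : sm gi N17812 = N25944 := rfl
theorem L220142 : sm gg N25944 = N17815 := ded_51_1 (flp_i L151583) (flp_g L151563) L220136
theorem L220157 : sm gh N17815 = N25947 := rfl
theorem L220175 : sm gj N17817 = N25949 := rfl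
theorem L220180 : sm gd N25949 = N17822 := ded_37_1 (flp_j L151647) (flp_d L151605) L220175
theorem L220184 : sm gi N25949 = N17919 := ded_53_2 (flp_j L152447) (flp_i L151607) L220175
theorem L220236 : sm gi N17820 = N25956 := rfl
theorem L220244 : sm gg N17822 = N25957 := rfl
theorem L220264 : sm gd N17823 = N25959 := rfl
theorem L220268 : sm gf N25959 = N17825 := ded_35_2 (flp_d L151677) (flp_f L151663) L220264
theorem L220302 : sm gc N17825 = N25963 := rfl
theorem L220304 : sm gg N25963 = N17827 := ded_30_2 (flp_c L151695) (flp_g L151681) L220302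
theorem L220337 : sm gi N17827 = N25968 := rfl
theorem L220339 : sm gc N25968 = N17829 := ded_33_1 (flp_i L151708) L151695 L220337
theorem L220345 : sm gf N17828 = N25969 := rfl
theorem L220349 : sm gd N25969 = N17834 := ded_35_1 (flp_f L151750) (flp_d L151706) L220345
theorem L220353 : sm gi N17828 = N25970 := rfl
theorem L220362 : sm gh N17829 = N25971 := rfl
theorem L220378 : sm gi N17830 = N25973 := rfl
theorem L220382 : sm gd N25973 = N17831 := ded_39_1 (flp_i L151724) L151716 L220378
theorem L220409 : sm gg N17834 = N25977 := rfl
theorem L220413 : sm ge N25977 = N17837 := ded_41_1 (flp_g L151775) (flp_e L151756) L220409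
theorem L220416 : sm gi N17834 = N25978 := rfl
theorem L220433 : sm gj N17837 = N25980 := rfl
theorem L220440 : sm gi N17837 = N25981 := rfl
theorem L220445 : sm gg N25981 = N17838 := ded_51_1 (flp_i L151781) L151775 L220440
theorem L220447 : sm gh N17838 = N25982 := rfl
theorem L220449 : sm gb N25982 = N18392 := ded_25_1 (flp_h L156284) (flp_b L151783) L220447
theorem L220455 : sm gd N17839 = N25983 := rfl
theorem L220457 : sm gb N25983 = N18393 := ded_20_1 (flp_d L156291) (flp_b L151791) L220455
theorem L220472 : sm gd N17841 = N25985 := rfl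
theorem L220476 : sm gf N25985 = N17844 := ded_35_2 (flp_d L151831) (flp_f L151810) L220472
theorem L220478 : sm gj N25985 = N17842 := ded_37_2 (flp_d L151814) (flp_j L151812) L220472
theorem L220481 : sm gi N17841 = N25986 := rfl
theorem L220487 : sm gj N25986 = N17843 := ded_53_1 (flp_i L151822) (flp_j L151812) L220481
theorem L220489 : sm gh N25986 = N17955 := ded_54_1 (flp_i L152745) (flp_h L105275) (flp_i L104659) L151806 L220481
theorem L220491 : sm gc N17842 = N25987 := rfl
theorem L220503 : sm gi N17842 = N25989 := rfl
theorem L220507 : sm gd N25989 = N17843 := ded_39_1 (flp_i L151822) L151814 L220503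
theorem L220512 : sm gc N17844 = N25990 := rfl
theorem L220518 : sm gi N17844 = N25991 := rfl
theorem L220525 : sm gj N25991 = N17847 := ded_53_1 (flp_i L151855) (flp_j L151836) L220518
theorem L220540 : sm gh N17847 = N25994 := rfl
theorem L220544 : sm gg N25994 = N17850 := ded_50_1 (flp_h L151876) (flp_g L151861) L220540
theorem L220588 : sm gc N17852 = N26000 := rfl
theorem L220590 : sm gf N26000 = N17857 := ded_29_2 (flp_c L151929) (flp_f L151895) L220588
theorem L220592 : sm gj N26000 = N17854 := ded_31_2 (flp_c L151910) (flp_j L151897) L220588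
theorem L220595 : sm gd N26000 = N18408 := ded_27_2 (flp_c L156422) (flp_d L107795) (flp_c L104727) L151893 L220588
theorem L220597 : sm ge N17852 = N26001 := rfl
theorem L220646 : sm gb N17857 = N26008 := rfl
theorem L220651 : sm gj N26008 = N17859 := ded_24_2 (flp_b L151944) (flp_j L151932) L220646
theorem L220654 : sm gi N17857 = N26009 := rfl
theorem L220678 : sm gi N17859 = N26012 := rfl
theorem L220684 : sm gg N26012 = N17863 := ded_51_1 (flp_i L151973) (flp_g L151948) L220678
theorem L220702 : sm gh N17863 = N26015 := rfl
theorem L220704 : sm gb N26015 = N17864 := ded_25_1 (flp_h L151981) (flp_b L151975) L220702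
theorem L220710 : sm gg N17865 = N26016 := rfl
theorem L220712 : sm ga N26016 = N18420 := ded_15_1 (flp_g L156516) (flp_a L151991) L220710
theorem L220718 : sm gh N17865 = N26017 := rfl
theorem L220720 : sm ga N26017 = N18421 := ded_17_1 (flp_h L156523) (flp_a L151991) L220718
theorem L220723 : sm gc N26017 = N17867 := ded_32_1 (flp_h L152006) L151989 L220718
theorem L220766 : sm gi N17867 = N26022 := rfl
theorem L220770 : sm gb N26022 = N17888 := ded_26_1 (flp_i L152190) (flp_b L152010) L220766
theorem L220775 : sm gj N17868 = N26023 := rfl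
theorem L220777 : sm ga N26023 = N18427 := ded_16_1 (flp_j L156569) (flp_a L152017) L220775
theorem L220779 : sm gb N26023 = N17889 := ded_24_1 (flp_j L152198) (flp_b L152019) L220775
theorem L220821 : sm gc N17871 = N26028 := rfl
theorem L220823 : sm ga N26028 = N18432 := ded_11_1 (flp_c L156605) (flp_a L152043) L220821
theorem L220856 : sm gi N17873 = N26032 := rfl
theorem L221003 : sm ge N17884 = N26048 := rfl
theorem L221010 : sm gj N17884 = N26049 := rfl
theorem L221012 : sm ga N26049 = N17919 := ded_16_1 (flp_j L152447) (flp_a L152159) L221010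
theorem L221019 : sm gh N17884 = N26050 := rfl
theorem L221024 : sm gf N26050 = N17886 := ded_47_1 (flp_h L152174) L152157 L221019
theorem L221044 : sm gi N17886 = N26053 := rfl
theorem L221050 : sm gg N26053 = N17888 := ded_51_1 (flp_i L152190) (flp_g L152180) L221044
theorem L221052 : sm gc N17887 = N26054 := rfl
theorem L221058 : sm gh N26054 = N17894 := ded_32_2 (flp_c L152242) (flp_h L152188) L221052
theorem L221077 : sm gg N17889 = N26057 := rfl
theorem L221095 : sm gd N17890 = N26059 := rfl
theorem L221097 : sm ga N26059 = N17929 := ded_12_1 (flp_d L152531) (flp_a L152208) L221095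
theorem L221118 : sm gi N17891 = N26062 := rfl
theorem L221120 : sm ga N26062 = N17932 := ded_18_1 (flp_i L152554) (flp_a L152217) L221118
theorem L221153 : sm gb N17894 = N26066 := rfl
theorem L221270 : sm gj N17904 = N26080 := rfl
theorem L221272 : sm ga N26080 = N17949 := ded_16_1 (flp_j L152696) (flp_a L152328) L221270
theorem L221302 : sm gh N17907 = N26084 := rfl
theorem L221307 : sm gg N26084 = N17908 := ded_50_1 (flp_h L152358) L152351 L221302
theorem L221319 : sm gi N17908 = N26086 := rfl
theorem L221321 : sm ga N26086 = N17955 := ded_18_1 (flp_i L152745) (flp_a L152360) L221319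
theorem L221327 : sm gc N17909 = N26087 := rfl
theorem L221329 : sm ga N26087 = N17956 := ded_11_1 (flp_c L152753) (flp_a L152368) L221327
theorem L221335 : sm ge N17909 = N26088 := rfl
theorem L221360 : sm gi N17911 = N26091 := rfl
theorem L221362 : sm ga N26091 = N17960 := ded_18_1 (flp_i L152784) (flp_a L152383) L221360
theorem L221368 : sm gj N26091 = N17914 := ded_53_1 (flp_i L152407) (flp_j L152386) L221360
theorem L221377 : sm gi N17913 = N26093 := rfl
theorem L221381 : sm gc N26093 = N17914 := ded_33_1 (flp_i L152407) L152399 L221377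
theorem L221384 : sm gg N26093 = N17916 := ded_51_1 (flp_i L152423) (flp_g L152404) L221377
theorem L221394 : sm gi N17915 = N26095 := rfl
theorem L221397 : sm gb N26095 = N17916 := ded_26_1 (flp_i L152423) L152416 L221394
theorem L221402 : sm gh N17916 = N26096 := rfl
theorem L221412 : sm gj N17918 = N26097 := rfl
theorem L221417 : sm ge N26097 = N17919 := ded_42_1 (flp_j L152447) L152440 L221412
theorem L221429 : sm gg N17919 = N26099 := rfl
theorem L221438 : sm gh N17919 = N26100 := rfl
theorem L221464 : sm gd N17921 = N26103 := rfl
theorem L221469 : sm gj N26103 = N17922 := ded_37_2 (flp_d L152473) (flp_j L152471) L221464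
theorem L221471 : sm gh N26103 = N17931 := ded_38_2 (flp_d L152547) (flp_h L105133) (flp_d L105088) L152464 L221464
theorem L221490 : sm ge N17922 = N26106 := rfl
theorem L221492 : sm gb N26106 = N18493 := ded_21_1 (flp_e L157118) (flp_b L152475) L221490
theorem L221496 : sm gh N26106 = N17934 := ded_43_2 (flp_e L152572) (flp_h L152479) L221490
theorem L221515 : sm gi N17924 = N26109 := rfl
theorem L221518 : sm gc N26109 = N17926 := ded_33_1 (flp_i L152505) L152489 L221515
theorem L221523 : sm gf N17925 = N26110 := rfl
theorem L221525 : sm gb N26110 = N18495 := ded_22_1 (flp_f L157133) (flp_b L152499) L221523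
theorem L221529 : sm gh N26110 = N17938 := ded_47_2 (flp_f L152604) (flp_h L152502) L221523
theorem L221532 : sm gi N17925 = N26111 := rfl
theorem L221534 : sm gb N26111 = N18496 := ded_26_1 (flp_i L157141) (flp_b L152499) L221532
theorem L221537 : sm ge N26111 = N17926 := ded_44_1 (flp_i L152505) L152497 L221532
theorem L221558 : sm gd N17928 = N26114 := rfl
theorem L221562 : sm gf N26114 = N17931 := ded_35_2 (flp_d L152547) (flp_f L152527) L221558
theorem L221564 : sm gj N26114 = N17929 := ded_37_2 (flp_d L152531) (flp_j L152529) L221558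
theorem L221576 : sm gc N17929 = N26116 := rfl
theorem L221584 : sm ge N17929 = N26117 := rfl
theorem L221589 : sm gi N17929 = N26118 := rfl
theorem L221598 : sm gc N17931 = N26119 := rfl
theorem L221601 : sm gj N26119 = N17933 := ded_31_2 (flp_c L152565) (flp_j L152552) L221598
theorem L221604 : sm gd N26119 = N17959 := ded_27_2 (flp_c L152776) (flp_d L105298) (flp_c L105137) L152547 L221598
theorem L221606 : sm ge N17931 = N26120 := rfl
theorem L221611 : sm gj N26120 = N17934 := ded_42_2 (flp_e L152572) (flp_j L152552) L221606
theorem L221615 : sm gi N17931 = N26121 := rfl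
theorem L221617 : sm gb N26121 = N18504 := ded_26_1 (flp_i L157198) (flp_b L152549) L221615
theorem L221622 : sm gj N26121 = N17935 := ded_53_1 (flp_i L152580) (flp_j L152552) L221615
theorem L221632 : sm gi N17933 = N26123 := rfl
theorem L221635 : sm gc N26123 = N17935 := ded_33_1 (flp_i L152580) L152565 L221632
theorem L221639 : sm gg N26123 = N17937 := ded_51_1 (flp_i L152595) (flp_g L152567) L221632
theorem L221641 : sm gf N17934 = N26124 := rfl
theorem L221647 : sm gi N17934 = N26125 := rfl
theorem L221657 : sm gh N17935 = N26126 := rfl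
theorem L221680 : sm gh N17937 = N26129 := rfl
theorem L221687 : sm gg N17938 = N26130 := rfl
theorem L221691 : sm gd N26130 = N17946 := ded_36_1 (flp_g L152669) (flp_d L152608) L221687
theorem L221694 : sm gi N17938 = N26131 := rfl
theorem L221729 : sm gh N17942 = N26135 := rfl
theorem L221772 : sm gi N17946 = N26140 := rfl
theorem L221798 : sm gi N17949 = N26143 := rfl
theorem L221805 : sm gj N26143 = N17950 := ded_53_1 (flp_i L152704) L152696 L221798
theorem L221807 : sm gh N17950 = N26144 := rfl
theorem L221812 : sm gg N26144 = N17951 := ded_50_1 (flp_h L152712) (flp_g L152710) L221807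
theorem L221855 : sm ge N17954 = N26150 := rfl
theorem L221857 : sm gb N26150 = N17966 := ded_21_1 (flp_e L152835) (flp_b L152738) L221855
theorem L221863 : sm gi N17954 = N26151 := rfl
theorem L221865 : sm gb N26151 = N17967 := ded_26_1 (flp_i L152842) (flp_b L152738) L221863
theorem L221871 : sm gj N26151 = N17958 := ded_53_1 (flp_i L152767) (flp_j L152742) L221863
theorem L221873 : sm ge N17956 = N26152 := rfl
theorem L221876 : sm gc N26152 = N17957 := ded_28_1 (flp_e L152760) L152753 L221873
theorem L221881 : sm gi N17956 = N26153 := rfl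
theorem L221889 : sm gi N17957 = N26154 := rfl
theorem L221893 : sm ge N26154 = N17958 := ded_44_1 (flp_i L152767) L152760 L221889
theorem L221897 : sm gh N17958 = N26155 := rfl
theorem L221945 : sm gi N17964 = N26161 := rfl
theorem L221954 : sm gi N17966 = N26162 := rfl
theorem L221960 : sm gj N26162 = N17968 := ded_53_1 (flp_i L152851) (flp_j L152838) L221954
theorem L221962 : sm gh N17967 = N26163 := rfl
theorem L221970 : sm gh N17968 = N26164 := rfl
theorem L221988 : sm gg N17971 = N26166 := rfl
theorem L221990 : sm gb N26166 = N17977 := ded_23_1 (flp_g L152927) (flp_b L152875) L221988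
theorem L221994 : sm gi N26166 = N18027 := ded_51_2 (flp_g L153369) (flp_i L152879) L221988
theorem L222005 : sm gj N17972 = N26168 := rfl
theorem L222011 : sm gi N26168 = N18029 := ded_53_2 (flp_j L153384) (flp_i L152887) L222005
theorem L222013 : sm gg N26168 = N18110 := ded_49_1 (flp_j L154075) (flp_g L106194) (flp_j L105407) L152882 L222005
theorem L222015 : sm gh N17972 = N26169 := rfl
theorem L222017 : sm gb N26169 = N17980 := ded_25_1 (flp_h L152960) (flp_b L152884) L222015
theorem L222031 : sm gi N17973 = N26171 := rfl
theorem L222035 : sm gf N26171 = N17975 := ded_48_1 (flp_i L152906) (flp_f L152894) L222031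
theorem L222039 : sm gh N26171 = N18032 := ded_54_1 (flp_i L153408) (flp_h L105738) (flp_i L105409) L152890 L222031
theorem L222041 : sm gc N17974 = N26172 := rfl
theorem L222044 : sm gj N26172 = N18114 := ded_31_2 (flp_c L154107) (flp_j L152903) L222041
theorem L222057 : sm gi N17974 = N26174 := rfl
theorem L222066 : sm gg N17976 = N26175 := rfl
theorem L222068 : sm ga N26175 = N17992 := ded_15_1 (flp_g L153079) (flp_a L152918) L222066
theorem L222074 : sm gi N26175 = N18036 := ded_51_2 (flp_g L153442) (flp_i L152923) L222066
theorem L222076 : sm gh N17976 = N26176 := rfl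
theorem L222107 : sm gh N17977 = N26179 := rfl
theorem L222109 : sm ga N26179 = N17996 := ded_17_1 (flp_h L153112) (flp_a L152929) L222107
theorem L222148 : sm gd N17980 = N26183 := rfl
theorem L222153 : sm gg N26183 = N17981 := ded_36_2 (flp_d L152969) (flp_g L152967) L222148
theorem L222236 : sm gh N17986 = N26192 := rfl
theorem L222242 : sm gg N26192 = N18134 := ded_50_1 (flp_h L154287) (flp_g L153029) L222236
theorem L222273 : sm gi N17988 = N26196 := rfl
theorem L222281 : sm gj N26196 = N18138 := ded_53_1 (flp_i L154320) (flp_j L153044) L222273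
theorem L222283 : sm gi N17990 = N26197 := rfl
theorem L222291 : sm gj N26197 = N17991 := ded_53_1 (flp_i L153069) (flp_j L153066) L222283
theorem L222293 : sm gh N26197 = N18058 := ded_54_1 (flp_i L153652) (flp_h L105895) (flp_i L105496) L153059 L222283
theorem L222295 : sm gf N17992 = N26198 := rfl
theorem L222303 : sm gj N17992 = N26199 := rfl
theorem L222313 : sm gh N17992 = N26200 := rfl
theorem L222319 : sm gd N17993 = N26201 := rfl
theorem L222322 : sm gj N26201 = N18143 := ded_37_2 (flp_d L154361) (flp_j L153092) L222319
theorem L222324 : sm gh N26201 = N17997 := ded_38_2 (flp_d L153120) (flp_h L105536) L105519 L153087 L222319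
theorem L222335 : sm gj N17994 = N26203 := rfl
theorem L222337 : sm gc N26203 = N18007 := ded_31_1 (flp_j L153201) (flp_c L153096) L222335
theorem L222342 : sm gi N26203 = N18064 := ded_53_2 (flp_j L153697) (flp_i L153098) L222335
theorem L222366 : sm gi N17996 = N26207 := rfl
theorem L222368 : sm gc N26207 = N18011 := ded_33_1 (flp_i L153237) (flp_c L153114) L222366
theorem L222389 : sm gi N17997 = N26210 := rfl
theorem L222394 : sm gj N26210 = N18152 := ded_53_1 (flp_i L154423) (flp_j L153123) L222389
theorem L222405 : sm gi N17999 = N26212 := rfl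
theorem L222414 : sm gh N26212 = N18073 := ded_54_1 (flp_i L153764) (flp_h L105964) (flp_i L105551) L153136 L222405
theorem L222416 : sm ge N18000 = N26213 := rfl
theorem L222419 : sm gg N26213 = N18002 := ded_41_2 (flp_e L153161) (flp_g L153148) L222416
theorem L222422 : sm gi N18000 = N26214 := rfl
theorem L222425 : sm gd N26214 = N18001 := ded_39_1 (flp_i L153152) L153145 L222422
theorem L222489 : sm gh N18007 = N26222 := rfl
theorem L222491 : sm gb N26222 = N18016 := ded_25_1 (flp_h L153285) (flp_b L153203) L222489
theorem L222498 : sm gd N18008 = N26223 := rfl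
theorem L222500 : sm gb N26223 = N18017 := ded_20_1 (flp_d L153292) (flp_b L153213) L222498
theorem L222502 : sm gf N26223 = N18010 := ded_35_2 (flp_d L153229) (flp_f L153216) L222498
theorem L222505 : sm gh N26223 = N26223 := ded_38_2 (flp_d L222498) (flp_h L153211) L105600 L153211 L222498
theorem L222516 : sm gd N18009 = N26225 := rfl
theorem L222520 : sm gg N26225 = N18167 := ded_36_2 (flp_d L154540) (flp_g L153225) L222516
theorem L222522 : sm gj N26225 = N18010 := ded_37_2 (flp_d L153229) (flp_j L153227) L222516
theorem L222581 : sm gh N18015 = N26232 := rfl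
theorem L222584 : sm gf N26232 = N18174 := ded_47_1 (flp_h L154595) (flp_f L153282) L222581
theorem L222605 : sm gc N18017 = N26235 := rfl
theorem L222607 : sm gf N26235 = N18021 := ded_29_2 (flp_c L153324) (flp_f L153294) L222605
theorem L222611 : sm ge N18017 = N26236 := rfl
theorem L222617 : sm gi N18017 = N26237 := rfl
theorem L222621 : sm gf N26237 = N18022 := ded_48_1 (flp_i L153330) (flp_f L153294) L222617
theorem L222624 : sm gc N18019 = N26238 := rfl
theorem L222627 : sm gg N26238 = N18180 := ded_30_2 (flp_c L154639) (flp_g L153308) L222624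
theorem L222629 : sm gj N26238 = N18021 := ded_31_2 (flp_c L153324) (flp_j L153310) L222624
theorem L222641 : sm gb N18021 = N26240 := rfl
theorem L222677 : sm gh N18024 = N26245 := rfl
theorem L222679 : sm gc N26245 = N18025 := ded_32_1 (flp_h L153352) (flp_c L153346) L222677
theorem L222683 : sm gj N26245 = N18187 := ded_52_1 (flp_h L154684) (flp_j L153350) L222677
theorem L222700 : sm gh N18026 = N26248 := rfl
theorem L222730 : sm gd N18028 = N26252 := rfl
theorem L222732 : sm gb N26252 = N18041 := ded_20_1 (flp_d L153487) (flp_b L153377) L222730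
theorem L222746 : sm gh N18029 = N26254 := rfl
theorem L222753 : sm gj N26254 = N18030 := ded_52_1 (flp_h L153392) L153384 L222746
theorem L222786 : sm gi N18031 = N26259 := rfl
theorem L222794 : sm gj N26259 = N18201 := ded_53_1 (flp_i L154779) (flp_j L153405) L222786
theorem L222806 : sm gi N18033 = N26261 := rfl
theorem L222810 : sm gc N26261 = N18035 := ded_33_1 (flp_i L153433) L153416 L222806
theorem L222833 : sm gh N18035 = N26264 := rfl
theorem L222838 : sm gj N26264 = N18206 := ded_52_1 (flp_h L154819) (flp_j L153440) L222833
theorem L222841 : sm gf N18036 = N26265 := rfl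
theorem L222859 : sm gh N18036 = N26267 := rfl
theorem L222865 : sm gg N26267 = N18037 := ded_50_1 (flp_h L153450) L153442 L222859
theorem L222876 : sm gi N18037 = N26269 := rfl
theorem L222922 : sm gi N18040 = N26274 := rfl
theorem L222930 : sm gg N26274 = N18042 := ded_51_1 (flp_i L153494) (flp_g L153485) L222922
theorem L222949 : sm gi N18041 = N26277 := rfl
theorem L222956 : sm gj N26277 = N18219 := ded_53_1 (flp_i L154924) (flp_j L153492) L222949
theorem L223033 : sm gg N18048 = N26285 := rfl
theorem L223053 : sm gh N18049 = N26287 := rfl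
theorem L223055 : sm ga N26287 = N18081 := ded_17_1 (flp_h L153831) (flp_a L153568) L223053
theorem L223062 : sm gj N26287 = N18229 := ded_52_1 (flp_h L155018) (flp_j L153576) L223053
theorem L223195 : sm gd N18061 = N26303 := rfl
theorem L223197 : sm gg N26303 = N18062 := ded_36_2 (flp_d L153683) (flp_g L153681) L223195
theorem L223199 : sm gh N26303 = N18067 := ded_38_2 (flp_d L153722) (flp_h L105942) (flp_d L105918) L153677 L223195
theorem L223215 : sm ge N18062 = N26306 := rfl
theorem L223217 : sm gj N26306 = N18248 := ded_42_2 (flp_e L155168) (flp_j L153686) L223215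
theorem L223219 : sm gh N26306 = N18070 := ded_43_2 (flp_e L153741) (flp_h L153688) L223215
theorem L223222 : sm gi N18062 = N26307 := rfl
theorem L223227 : sm gj N26307 = N18249 := ded_53_1 (flp_i L155173) (flp_j L153686) L223222
theorem L223259 : sm gd N18066 = N26312 := rfl
theorem L223261 : sm gg N26312 = N18254 := ded_36_2 (flp_d L155209) (flp_g L153718) L223259
theorem L223263 : sm gj N26312 = N18067 := ded_37_2 (flp_d L153722) (flp_j L153720) L223259
theorem L223287 : sm gi N18067 = N26316 := rfl
theorem L223324 : sm gi N18070 = N26321 := rfl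
theorem L223330 : sm gj N26321 = N18263 := ded_53_1 (flp_i L155262) (flp_j L153743) L223324
theorem L223357 : sm gf N18074 = N26325 := rfl
theorem L223359 : sm gc N26325 = N18723 := ded_29_1 (flp_f L159069) (flp_c L153775) L223357
theorem L223363 : sm gi N18074 = N26326 := rfl
theorem L223367 : sm ge N26326 = N18075 := ded_44_1 (flp_i L153780) L153773 L223363
theorem L223371 : sm gh N18075 = N26327 := rfl
theorem L223379 : sm gg N18076 = N26328 := rfl
theorem L223386 : sm gi N18076 = N26329 := rfl
theorem L223394 : sm gj N26329 = N18271 := ded_53_1 (flp_i L155319) (flp_j L153793) L223386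
theorem L223431 : sm gd N18081 = N26334 := rfl
theorem L223434 : sm gj N26334 = N18276 := ded_37_2 (flp_d L155358) (flp_j L153838) L223431
theorem L223438 : sm gh N18082 = N26335 := rfl
theorem L223440 : sm gb N26335 = N18093 := ded_25_1 (flp_h L153942) (flp_b L153843) L223438
theorem L223445 : sm gg N26335 = N18083 := ded_50_1 (flp_h L153850) L153841 L223438
theorem L223448 : sm gd N18083 = N26336 := rfl
theorem L223454 : sm gj N26336 = N18084 := ded_37_2 (flp_d L153859) (flp_j L153857) L223448
theorem L223457 : sm gi N18083 = N26337 := rfl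
theorem L223459 : sm gb N26337 = N18095 := ded_26_1 (flp_i L153957) (flp_b L153852) L223457
theorem L223464 : sm gj N26337 = N18085 := ded_53_1 (flp_i L153867) (flp_j L153857) L223457
theorem L223466 : sm gc N18084 = N26338 := rfl
theorem L223468 : sm gf N26338 = N18088 := ded_29_2 (flp_c L153896) (flp_f L153863) L223466
theorem L223472 : sm ge N18084 = N26339 := rfl
theorem L223479 : sm gf N26339 = N18736 := ded_40_2 (flp_e L159175) L109765 (flp_e L106063) (flp_f L153863) L223472
theorem L223568 : sm gd N18093 = N26349 := rfl
theorem L223570 : sm gf N26349 = N18290 := ded_35_2 (flp_d L155478) (flp_f L153945) L223568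
theorem L223572 : sm gg N26349 = N18094 := ded_36_2 (flp_d L153950) (flp_g L153947) L223568
theorem L223584 : sm gc N18094 = N26351 := rfl
theorem L223588 : sm gj N26351 = N18096 := ded_31_2 (flp_c L153964) (flp_j L153954) L223584
theorem L223591 : sm ge N18094 = N26352 := rfl
theorem L223597 : sm gf N26352 = N18747 := ded_40_2 (flp_e L159268) L109842 (flp_e L106136) (flp_f L153952) L223591
theorem L223599 : sm gi N18094 = N26353 := rfl
theorem L223621 : sm gi N18096 = N26356 := rfl
theorem L223636 : sm gh N18098 = N26358 := rfl
theorem L223638 : sm gf N26358 = N18103 := ded_47_1 (flp_h L154018) (flp_f L153981) L223636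
theorem L223661 : sm gh N18100 = N26361 := rfl
theorem L223665 : sm gg N26361 = N18299 := ded_50_1 (flp_h L155546) (flp_g L153999) L223661
theorem L223667 : sm gj N26361 = N18103 := ded_52_1 (flp_h L154018) (flp_j L154001) L223661
theorem L223677 : sm gi N18101 = N26363 := rfl
theorem L223683 : sm gg N26363 = N18105 := ded_51_1 (flp_i L154033) (flp_g L154007) L223677
theorem L223703 : sm gh N18105 = N26366 := rfl
theorem L223707 : sm ge N26366 = N18761 := ded_43_1 (flp_h L159377) (flp_e L154037) L223703
theorem L223741 : sm gf N18108 = N26371 := rfl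
theorem L223745 : sm gi N26371 = N18191 := ded_48_2 (flp_f L154709) (flp_i L154066) L223741
theorem L223747 : sm ge N26371 = N18309 := ded_40_1 (flp_f L155621) L107258 (flp_f L106201) (flp_e L154064) L223741
theorem L223780 : sm gh N18110 = N26376 := rfl
theorem L223786 : sm gj N26376 = N18111 := ded_52_1 (flp_h L154084) L154075 L223780
theorem L223797 : sm gi N18111 = N26378 := rfl
theorem L223805 : sm gh N26378 = N18198 := ded_54_1 (flp_i L154759) (flp_h L106653) (flp_i L106199) L154084 L223797
theorem L223807 : sm gc N18112 = N26379 := rfl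
theorem L223809 : sm gf N26379 = N18114 := ded_29_2 (flp_c L154107) (flp_f L154096) L223807
theorem L223813 : sm ge N18112 = N26380 := rfl
theorem L223815 : sm gb N26380 = N18127 := ded_21_1 (flp_e L154225) (flp_b L154094) L223813
theorem L223826 : sm ge N18114 = N26382 := rfl
theorem L223831 : sm gg N26382 = N18320 := ded_41_2 (flp_e L155705) (flp_g L154109) L223826
theorem L223834 : sm gi N18114 = N26383 := rfl
theorem L223839 : sm gg N26383 = N18321 := ded_51_1 (flp_i L155712) (flp_g L154109) L223834
theorem L223885 : sm gh N18117 = N26389 := rfl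
theorem L223932 : sm gh N18120 = N26394 := rfl
theorem L223938 : sm ge N26394 = N18124 := ded_43_1 (flp_h L154193) (flp_e L154163) L223932
theorem L223942 : sm gd N18121 = N26395 := rfl
theorem L223944 : sm ga N26395 = N18148 := ded_12_1 (flp_d L154400) (flp_a L154169) L223942
theorem L223960 : sm gc N18122 = N26397 := rfl
theorem L223965 : sm gd N26397 = N18137 := ded_27_2 (flp_c L154313) (flp_d L106337) (flp_c L106248) L154177 L223960
theorem L223967 : sm ge N18122 = N26398 := rfl
theorem L223971 : sm gd N26398 = N18127 := ded_34_1 (flp_e L154225) (flp_d L106274) (flp_e L106250) L154177 L223967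
theorem L223990 : sm gi N18124 = N26401 := rfl
theorem L224000 : sm gh N26401 = N18221 := ded_54_1 (flp_i L154942) (flp_h L106753) (flp_i L106262) L154193 L223990
theorem L224010 : sm gi N18125 = N26403 := rfl
theorem L224017 : sm gf N26403 = N18341 := ded_48_1 (flp_i L155891) (flp_f L154207) L224010
theorem L224019 : sm gg N26403 = N18128 := ded_51_1 (flp_i L154231) (flp_g L154209) L224010
theorem L224021 : sm gf N18127 = N26404 := rfl
theorem L224036 : sm gh N18128 = N26406 := rfl
theorem L224063 : sm gh N18130 = N26409 := rfl
theorem L224070 : sm gg N26409 = N18347 := ded_50_1 (flp_h L155944) (flp_g L154255) L224063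
theorem L224112 : sm gd N18134 = N26414 := rfl
theorem L224114 : sm ga N26414 = N18167 := ded_12_1 (flp_d L154540) (flp_a L154289) L224112
theorem L224116 : sm gj N26414 = N18135 := ded_37_2 (flp_d L154295) (flp_j L154293) L224112
theorem L224138 : sm gi N18135 = N26417 := rfl
theorem L224147 : sm gb N18137 = N26418 := rfl
theorem L224152 : sm gi N18137 = N26419 := rfl
theorem L224160 : sm gh N18138 = N26420 := rfl
theorem L224178 : sm gj N18140 = N26422 := rfl
theorem L224181 : sm gd N26422 = N18145 := ded_37_1 (flp_j L154373) (flp_d L154342) L224178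
theorem L224187 : sm gh N18140 = N26423 := rfl
theorem L224199 : sm gd N18142 = N26425 := rfl
theorem L224201 : sm gg N26425 = N18143 := ded_36_2 (flp_d L154361) (flp_g L154359) L224199
theorem L224203 : sm gh N26425 = N18148 := ded_38_2 (flp_d L154400) (flp_h L106403) (flp_d L106376) L154355 L224199
theorem L224213 : sm gc N18143 = N26427 := rfl
theorem L224218 : sm gd N26427 = N26427 := ded_27_2 (flp_c L224213) (flp_d L154361) L106383 L154361 L224213
theorem L224219 : sm ge N18143 = N26428 := rfl
theorem L224224 : sm gi N18143 = N26429 := rfl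
theorem L224229 : sm gg N18145 = N26430 := rfl
theorem L224231 : sm gc N26430 = N18163 := ded_30_1 (flp_g L154501) (flp_c L154375) L224229
theorem L224235 : sm gi N26430 = N18250 := ded_51_2 (flp_g L155178) (flp_i L154381) L224229
theorem L224253 : sm gi N18146 = N26433 := rfl
theorem L224262 : sm gh N26433 = N18253 := ded_54_1 (flp_i L155200) (flp_h L106935) (flp_i L106390) L154383 L224253
theorem L224264 : sm gd N18147 = N26434 := rfl
theorem L224266 : sm gj N26434 = N18148 := ded_37_2 (flp_d L154400) (flp_j L154398) L224264
theorem L224278 : sm gc N18148 = N26436 := rfl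
theorem L224284 : sm ge N18148 = N26437 := rfl
theorem L224290 : sm gi N18148 = N26438 := rfl
theorem L224294 : sm gg N26438 = N18152 := ded_51_1 (flp_i L154423) (flp_g L154402) L224290
theorem L224324 : sm gh N18152 = N26444 := rfl
theorem L224373 : sm gi N18157 = N26451 := rfl
theorem L224376 : sm ge N26451 = N18161 := ded_44_1 (flp_i L154487) (flp_e L154465) L224373
theorem L224378 : sm gf N26451 = N18158 := ded_48_1 (flp_i L154467) L154461 L224373
theorem L224380 : sm gh N18158 = N26452 := rfl
theorem L224401 : sm gh N18161 = N26455 := rfl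
theorem L224415 : sm gh N18163 = N26457 := rfl
theorem L224421 : sm gg N26457 = N18164 := ded_50_1 (flp_h L154511) L154501 L224415
theorem L224424 : sm gd N18164 = N26458 := rfl
theorem L224428 : sm gf N26458 = N18167 := ded_35_2 (flp_d L154540) (flp_f L154517) L224424
theorem L224430 : sm gj N26458 = N18165 := ded_37_2 (flp_d L154521) (flp_j L154519) L224424
theorem L224433 : sm gi N18164 = N26459 := rfl
theorem L224439 : sm gf N26459 = N18168 := ded_48_1 (flp_i L154548) (flp_f L154517) L224433
theorem L224460 : sm gi N18165 = N26462 := rfl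
theorem L224466 : sm gf N26462 = N18170 := ded_48_1 (flp_i L154564) (flp_f L154525) L224460
theorem L224475 : sm gi N18167 = N26464 := rfl
theorem L224546 : sm gc N18175 = N26473 := rfl
theorem L224548 : sm gf N26473 = N18180 := ded_29_2 (flp_c L154639) (flp_f L154604) L224546
theorem L224550 : sm gj N26473 = N18177 := ded_31_2 (flp_c L154619) (flp_j L154606) L224546
theorem L224561 : sm gi N18175 = N26475 := rfl
theorem L224567 : sm gj N26475 = N18179 := ded_53_1 (flp_i L154632) (flp_j L154606) L224561
theorem L224569 : sm gb N18177 = N26476 := rfl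
theorem L224571 : sm gf N26476 = N18182 := ded_22_2 (flp_b L154652) (flp_f L154621) L224569
theorem L224597 : sm gh N18179 = N26480 := rfl
theorem L224599 : sm gf N26480 = N18184 := ded_47_1 (flp_h L154665) (flp_f L154636) L224597
theorem L224602 : sm gd N26480 = N18296 := ded_38_1 (flp_h L155524) L107181 (flp_h L106580) (flp_d L154634) L224597
theorem L224605 : sm gb N18180 = N26481 := rfl
theorem L224611 : sm gi N18180 = N26482 := rfl
theorem L224616 : sm gj N26482 = N18183 := ded_53_1 (flp_i L154658) (flp_j L154642) L224611
theorem L224618 : sm gh N18181 = N26483 := rfl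
theorem L224621 : sm gj N26483 = N18184 := ded_52_1 (flp_h L154665) (flp_j L154650) L224618
theorem L224632 : sm gi N18182 = N26485 := rfl
theorem L224637 : sm gg N26485 = N18186 := ded_51_1 (flp_i L154678) (flp_g L154655) L224632
theorem L224639 : sm gh N18183 = N26486 := rfl
theorem L224644 : sm gg N26486 = N18187 := ded_50_1 (flp_h L154684) (flp_g L154663) L224639
theorem L224666 : sm gg N18188 = N26490 := rfl
theorem L224669 : sm gc N26490 = N18189 := ded_30_1 (flp_g L154696) L154691 L224666
theorem L224672 : sm gh N18188 = N26491 := rfl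
theorem L224675 : sm gc N26491 = N18190 := ded_32_1 (flp_h L154703) L154691 L224672
theorem L224693 : sm gh N18189 = N26494 := rfl
theorem L224698 : sm gg N26494 = N18190 := ded_50_1 (flp_h L154703) L154696 L224693
theorem L224707 : sm gi N18190 = N26496 := rfl
theorem L224768 : sm gd N18196 = N26505 := rfl
theorem L224772 : sm gf N26505 = N18435 := ded_35_2 (flp_d L156625) (flp_f L154746) L224768
theorem L224774 : sm gj N26505 = N18197 := ded_37_2 (flp_d L154750) (flp_j L154748) L224768
theorem L224785 : sm gc N18197 = N26507 := rfl
theorem L224789 : sm gg N26507 = N18199 := ded_30_2 (flp_c L154767) (flp_g L154756) L224785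
theorem L224792 : sm gb N26507 = N18777 := ded_19_1 (flp_c L159520) L110015 (flp_c L106771) (flp_b L154752) L224785
theorem L224801 : sm gi N18197 = N26509 := rfl
theorem L224809 : sm gg N26509 = N18201 := ded_51_1 (flp_i L154779) (flp_g L154756) L224801
theorem L224811 : sm ge N18199 = N26510 := rfl
theorem L224853 : sm gf N18202 = N26516 := rfl
theorem L224860 : sm gi N18202 = N26517 := rfl
theorem L224868 : sm gg N26517 = N18447 := ded_51_1 (flp_i L156716) (flp_g L154793) L224860
theorem L224921 : sm gh N18207 = N26524 := rfl
theorem L224926 : sm gf N26524 = N18209 := ded_47_1 (flp_h L154842) L154826 L224921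
theorem L224929 : sm gh N18208 = N26525 := rfl
theorem L224935 : sm gj N26525 = N18209 := ded_52_1 (flp_h L154842) L154834 L224929
theorem L224937 : sm gd N18209 = N26526 := rfl
theorem L224941 : sm gg N26526 = N18210 := ded_36_2 (flp_d L154850) (flp_g L154848) L224937
theorem L224945 : sm gi N18209 = N26527 := rfl
theorem L224996 : sm gd N18213 = N26533 := rfl
theorem L225059 : sm ge N18217 = N26541 := rfl
theorem L225063 : sm gc N26541 = N18218 := ded_28_1 (flp_e L154918) L154911 L225059
theorem L225067 : sm gi N18217 = N26542 := rfl
theorem L225071 : sm gc N26542 = N18219 := ded_33_1 (flp_i L154924) L154911 L225067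
theorem L225083 : sm gi N18218 = N26544 := rfl
theorem L225091 : sm gh N18219 = N26545 := rfl
theorem L225105 : sm gi N18220 = N26547 := rfl
theorem L225111 : sm gd N26547 = N18221 := ded_39_1 (flp_i L154942) L154931 L225105
theorem L225156 : sm gi N18224 = N26552 := rfl
theorem L225162 : sm ge N26552 = N18228 := ded_44_1 (flp_i L155009) (flp_e L154980) L225156
theorem L225175 : sm gj N18227 = N26554 := rfl
theorem L225185 : sm gi N18227 = N26555 := rfl
theorem L225194 : sm gg N26555 = N18228 := ded_51_1 (flp_i L155009) L154999 L225185
theorem L225205 : sm gd N18229 = N26557 := rfl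
theorem L225209 : sm gg N26557 = N18482 := ded_36_2 (flp_d L157031) (flp_g L155026) L225205
theorem L225306 : sm ga N18238 = N26568 := rfl
theorem L225308 : sm ge N26568 = N18826 := ded_13_2 (flp_a L159926) (flp_e L155103) L225306
theorem L225312 : sm gb N26568 = N18287 := ded_10_2 (flp_a L155453) (flp_b L107126) (flp_a L106874) L155101 L225306
theorem L225366 : sm gi N18243 = N26576 := rfl
theorem L225372 : sm gd N18244 = N26577 := rfl
theorem L225374 : sm gj N26577 = N18245 := ded_37_2 (flp_d L155150) (flp_j L155148) L225372
theorem L225376 : sm gh N26577 = N18254 := ded_38_2 (flp_d L155209) (flp_h L106944) (flp_d L106908) L155144 L225372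
theorem L225384 : sm gc N18245 = N26579 := rfl
theorem L225386 : sm gg N26579 = N18247 := ded_30_2 (flp_c L155162) (flp_g L155152) L225384
theorem L225388 : sm gh N26579 = N18256 := ded_32_2 (flp_c L155221) (flp_h L155154) L225384
theorem L225391 : sm ge N18245 = N26580 := rfl
theorem L225395 : sm gh N26580 = N18257 := ded_43_2 (flp_e L155227) (flp_h L155154) L225391
theorem L225410 : sm ge N18247 = N26583 := rfl
theorem L225414 : sm gh N26583 = N18260 := ded_43_2 (flp_e L155244) (flp_h L155165) L225410
theorem L225416 : sm gi N18247 = N26584 := rfl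
theorem L225422 : sm gf N18248 = N26585 := rfl
theorem L225425 : sm gh N26585 = N18262 := ded_47_2 (flp_f L155257) (flp_h L155170) L225422
theorem L225433 : sm gh N18249 = N26587 := rfl
theorem L225482 : sm gc N18254 = N26594 := rfl
theorem L225484 : sm gj N26594 = N18256 := ded_31_2 (flp_c L155221) (flp_j L155211) L225482
theorem L225486 : sm gd N26594 = N18282 := ded_27_2 (flp_c L155410) (flp_d L107092) (flp_c L106946) L155209 L225482
theorem L225494 : sm gi N18254 = N26596 := rfl
theorem L225500 : sm gb N18256 = N26597 := rfl
theorem L225526 : sm gi N18257 = N26601 := rfl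
theorem L225532 : sm gg N26601 = N18263 := ded_51_1 (flp_i L155262) (flp_g L155229) L225526
theorem L225576 : sm gg N18262 = N26609 := rfl
theorem L225578 : sm gd N26609 = N18270 := ded_36_1 (flp_g L155312) (flp_d L155259) L225576
theorem L225581 : sm gi N18262 = N26610 := rfl
theorem L225588 : sm gh N18263 = N26611 := rfl
theorem L225644 : sm gj N18270 = N26618 := rfl
theorem L225651 : sm gi N18270 = N26619 := rfl
theorem L225659 : sm gh N18271 = N26620 := rfl
theorem L225665 : sm gf N26620 = N18272 := ded_47_1 (flp_h L155327) (flp_f L155325) L225659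
theorem L225712 : sm gi N18277 = N26627 := rfl
theorem L225721 : sm gc N18278 = N26628 := rfl
theorem L225724 : sm gf N26628 = N18282 := ded_29_2 (flp_c L155410) (flp_f L155377) L225721
theorem L225726 : sm gj N26628 = N18280 := ded_31_2 (flp_c L155393) (flp_j L155379) L225721
theorem L225740 : sm gb N18280 = N26630 := rfl
theorem L225743 : sm gf N26630 = N18284 := ded_22_2 (flp_b L155427) (flp_f L155396) L225740
theorem L225747 : sm gc N26630 = N18294 := ded_19_2 (flp_b L155509) (flp_c L107172) (flp_b L107076) L155393 L225740
theorem L225766 : sm gb N18282 = N26633 := rfl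
theorem L225792 : sm ga N18284 = N26636 := rfl
theorem L225798 : sm gg N26636 = N18287 := ded_15_2 (flp_a L155453) (flp_g L155431) L225792
theorem L225820 : sm gi N18287 = N26639 := rfl
theorem L225843 : sm gc N18290 = N26642 := rfl
theorem L225846 : sm gg N26642 = N18292 := ded_30_2 (flp_c L155492) (flp_g L155480) L225843
theorem L225850 : sm gi N18290 = N26643 := rfl
theorem L225858 : sm gb N18292 = N26644 := rfl
theorem L225863 : sm gj N26644 = N18294 := ded_24_2 (flp_b L155509) (flp_j L155497) L225858
theorem L225866 : sm gi N18292 = N26645 := rfl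
theorem L225875 : sm gh N18293 = N26646 := rfl
theorem L225878 : sm gf N26646 = N18299 := ded_47_1 (flp_h L155546) (flp_f L155505) L225875
theorem L225890 : sm gi N18294 = N26648 := rfl
theorem L225907 : sm ga N18297 = N26650 := rfl
theorem L225911 : sm gj N26650 = N18300 := ded_16_2 (flp_a L155553) (flp_j L155535) L225907
theorem L225931 : sm gi N18300 = N26653 := rfl
theorem L225937 : sm gg N26653 = N18303 := ded_51_1 (flp_i L155577) (flp_g L155557) L225931
theorem L225953 : sm gh N18303 = N26656 := rfl
theorem L225957 : sm ge N26656 = N18887 := ded_43_1 (flp_h L160384) (flp_e L155581) L225953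
theorem L225972 : sm gg N18306 = N26659 := rfl
theorem L225974 : sm gb N26659 = N18526 := ded_23_1 (flp_g L157360) (flp_b L155603) L225972
theorem L225981 : sm gh N18306 = N26660 := rfl
theorem L225983 : sm gb N26660 = N18527 := ded_25_1 (flp_h L157368) (flp_b L155603) L225981
theorem L225990 : sm gf N18307 = N26661 := rfl
theorem L225996 : sm gi N26661 = N18422 := ded_48_2 (flp_f L156532) (flp_i L155612) L225990
theorem L226009 : sm gh N18307 = N26663 := rfl
theorem L226014 : sm gg N26663 = N18308 := ded_50_1 (flp_h L155614) L155605 L226009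
theorem L226016 : sm gd N18308 = N26664 := rfl
theorem L226022 : sm gh N26664 = N18312 := ded_38_2 (flp_d L155645) (flp_h L107262) L107245 L155614 L226016
theorem L226041 : sm gh N18309 = N26667 := rfl
theorem L226048 : sm gh N18310 = N26668 := rfl
theorem L226084 : sm gi N18312 = N26673 := rfl
theorem L226137 : sm gi N18317 = N26680 := rfl
theorem L226142 : sm gf N26680 = N18321 := ded_48_1 (flp_i L155712) (flp_f L155685) L226137
theorem L226190 : sm gh N18321 = N26687 := rfl
theorem L226260 : sm gd N18327 = N26695 := rfl
theorem L226264 : sm gg N26695 = N18328 := ded_36_2 (flp_d L155773) (flp_g L155771) L226260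
theorem L226266 : sm gh N26695 = N18333 := ded_38_2 (flp_d L155822) (flp_h L107360) (flp_d L107326) L155764 L226260
theorem L226279 : sm gc N18328 = N26697 := rfl
theorem L226285 : sm gh N26697 = N18335 := ded_32_2 (flp_c L155840) (flp_h L155779) L226279
theorem L226287 : sm gd N26697 = N18553 := ded_27_2 (flp_c L157603) (flp_d L108642) (flp_c L107335) L155773 L226279
theorem L226289 : sm ge N18328 = N26698 := rfl
theorem L226291 : sm ga N26698 = N18365 := ded_13_1 (flp_e L156102) (flp_a L155775) L226289
theorem L226294 : sm gh N26698 = N18336 := ded_43_2 (flp_e L155848) (flp_h L155779) L226289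
theorem L226297 : sm gi N18328 = N26699 := rfl
theorem L226363 : sm gc N18333 = N26706 := rfl
theorem L226369 : sm gd N26706 = N18354 := ded_27_2 (flp_c L156010) (flp_d L107484) (flp_c L107364) L155822 L226363
theorem L226379 : sm gi N18333 = N26708 := rfl
theorem L226387 : sm gb N18335 = N26709 := rfl
theorem L226389 : sm gd N26709 = N18356 := ded_20_2 (flp_b L156029) (flp_d L155846) L226387
theorem L226419 : sm gi N18336 = N26713 := rfl
theorem L226425 : sm ge N26713 = N18337 := ded_44_1 (flp_i L155855) L155848 L226419
theorem L226428 : sm gh N18337 = N26714 := rfl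
theorem L226470 : sm gh N18341 = N26719 := rfl
theorem L226532 : sm gd N18347 = N26726 := rfl
theorem L226538 : sm ge N26726 = N18482 := ded_34_2 (flp_d L157031) L108212 (flp_d L107455) (flp_e L155949) L226532
theorem L226541 : sm gh N18348 = N26727 := rfl
theorem L226546 : sm gg N26727 = N18349 := ded_50_1 (flp_h L155963) L155953 L226541
theorem L226549 : sm gd N18349 = N26728 := rfl
theorem L226555 : sm gj N26728 = N18350 := ded_37_2 (flp_d L155971) (flp_j L155969) L226549
theorem L226557 : sm gh N26728 = N18570 := ded_38_2 (flp_d L157757) (flp_h L108765) (flp_d L107462) L155963 L226549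
theorem L226559 : sm gi N18349 = N26729 := rfl
theorem L226563 : sm gf N26729 = N18353 := ded_48_1 (flp_i L155999) (flp_f L155967) L226559
theorem L226565 : sm gj N26729 = N18351 := ded_53_1 (flp_i L155980) (flp_j L155969) L226559
theorem L226569 : sm gc N18350 = N26730 := rfl
theorem L226573 : sm gf N26730 = N18354 := ded_29_2 (flp_c L156010) (flp_f L155975) L226569
theorem L226578 : sm ge N18350 = N26731 := rfl
theorem L226580 : sm ga N26731 = N18398 := ded_13_1 (flp_e L156333) (flp_a L155973) L226578
theorem L226583 : sm gh N26731 = N18572 := ded_43_2 (flp_e L157774) (flp_h L155978) L226578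
theorem L226606 : sm gi N18352 = N26734 := rfl
theorem L226608 : sm ga N26734 = N18401 := ded_18_1 (flp_i L156359) (flp_a L155991) L226606
theorem L226617 : sm gb N18354 = N26735 := rfl
theorem L226620 : sm gg N26735 = N18356 := ded_23_2 (flp_b L156029) (flp_g L156015) L226617
theorem L226622 : sm gh N26735 = N18574 := ded_25_2 (flp_b L157791) (flp_h L156017) L226617
theorem L226624 : sm gi N18354 = N26736 := rfl
theorem L226634 : sm ga N18356 = N26737 := rfl
theorem L226641 : sm gb N26737 = N18404 := ded_10_2 (flp_a L156387) (flp_b L107772) (flp_a L107505) L156029 L226634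
theorem L226643 : sm gi N18356 = N26738 := rfl
theorem L226651 : sm gj N18358 = N26739 := rfl
theorem L226658 : sm gi N26739 = N18485 := ded_53_2 (flp_j L157056) (flp_i L156051) L226651
theorem L226678 : sm gh N18359 = N26742 := rfl
theorem L226684 : sm gj N26742 = N18360 := ded_52_1 (flp_h L156064) L156054 L226678
theorem L226719 : sm gc N18362 = N26747 := rfl
theorem L226721 : sm gg N26747 = N18364 := ded_30_2 (flp_c L156094) (flp_g L156081) L226719
theorem L226723 : sm gh N26747 = N18373 := ded_32_2 (flp_c L156160) (flp_h L156083) L226719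
theorem L226727 : sm ge N18362 = N26748 := rfl
theorem L226729 : sm gg N26748 = N18365 := ded_41_2 (flp_e L156102) (flp_g L156081) L226727
theorem L226731 : sm gh N26748 = N18374 := ded_43_2 (flp_e L156166) (flp_h L156083) L226727
theorem L226734 : sm gi N18362 = N26749 := rfl
theorem L226736 : sm gd N26749 = N18363 := ded_39_1 (flp_i L156085) L156079 L226734
theorem L226755 : sm gi N18364 = N26752 := rfl
theorem L226763 : sm gf N18365 = N26753 := rfl
theorem L226770 : sm gi N18365 = N26754 := rfl
theorem L226798 : sm gi N18368 = N26758 := rfl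
theorem L226802 : sm gf N26758 = N18372 := ded_48_1 (flp_i L156149) (flp_f L156126) L226798
theorem L226808 : sm gc N18369 = N26759 := rfl
theorem L226810 : sm gf N26759 = N18373 := ded_29_2 (flp_c L156160) (flp_f L156132) L226808
theorem L226813 : sm gd N26759 = N18397 := ded_27_2 (flp_c L156326) (flp_d L107716) (flp_c L107583) L156130 L226808
theorem L226871 : sm gi N18374 = N26769 := rfl
theorem L226875 : sm ge N26769 = N18375 := ded_44_1 (flp_i L156172) L156166 L226871
theorem L226879 : sm gh N18375 = N26770 := rfl
theorem L226920 : sm gh N18378 = N26776 := rfl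
theorem L227029 : sm gd N18392 = N26792 := rfl
theorem L227031 : sm gf N26792 = N18393 := ded_35_2 (flp_d L156291) (flp_f L156287) L227029
theorem L227072 : sm ge N18395 = N26797 := rfl
theorem L227074 : sm gb N26797 = N18409 := ded_21_1 (flp_e L156430) (flp_b L156308) L227072
theorem L227092 : sm gb N18397 = N26799 := rfl
theorem L227094 : sm gf N26799 = N18402 := ded_22_2 (flp_b L156370) (flp_f L156328) L227092
theorem L227097 : sm gh N26799 = N18611 := ded_25_2 (flp_b L158084) (flp_h L156331) L227092
theorem L227101 : sm ge N18397 = N26800 := rfl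
theorem L227106 : sm gh N26800 = N18612 := ded_43_2 (flp_e L158092) (flp_h L156331) L227101
theorem L227109 : sm gi N18397 = N26801 := rfl
theorem L227117 : sm gi N18398 = N26802 := rfl
theorem L227121 : sm ge N26802 = N18399 := ded_44_1 (flp_i L156341) L156333 L227117
theorem L227126 : sm gb N18400 = N26803 := rfl
theorem L227130 : sm gj N26803 = N18402 := ded_24_2 (flp_b L156370) (flp_j L156355) L227126
theorem L227136 : sm gi N18400 = N26804 := rfl
theorem L227154 : sm gi N18402 = N26806 := rfl
theorem L227164 : sm gi N18404 = N26807 := rfl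
theorem L227168 : sm gc N26807 = N18419 := ded_33_1 (flp_i L156508) (flp_c L156389) L227164
theorem L227182 : sm ge N18406 = N26809 := rfl
theorem L227184 : sm gg N26809 = N18409 := ded_41_2 (flp_e L156430) (flp_g L156409) L227182
theorem L227187 : sm gh N26809 = N18616 := ded_43_2 (flp_e L158124) (flp_h L156412) L227182
theorem L227198 : sm gb N18408 = N26811 := rfl
theorem L227202 : sm gj N26811 = N18411 := ded_24_2 (flp_b L156446) (flp_j L156426) L227198
theorem L227215 : sm gi N18408 = N26813 := rfl
theorem L227221 : sm gj N26813 = N18413 := ded_53_1 (flp_i L156461) (flp_j L156426) L227215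
theorem L227224 : sm gi N18409 = N26814 := rfl
theorem L227226 : sm ge N26814 = N18410 := ded_44_1 (flp_i L156437) L156430 L227224
theorem L227239 : sm ge N18411 = N26816 := rfl
theorem L227244 : sm gh N26816 = N18620 := ded_43_2 (flp_e L158154) (flp_h L156451) L227239
theorem L227247 : sm gi N18411 = N26817 := rfl
theorem L227259 : sm gi N18412 = N26819 := rfl
theorem L227263 : sm ge N26819 = N18413 := ded_44_1 (flp_i L156461) L156453 L227259
theorem L227285 : sm gi N18417 = N26822 := rfl
theorem L227290 : sm gg N26822 = N18419 := ded_51_1 (flp_i L156508) (flp_g L156496) L227285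
theorem L227293 : sm gf N18420 = N26823 := rfl
theorem L227297 : sm gc N26823 = N18422 := ded_29_1 (flp_f L156532) (flp_c L156520) L227293
theorem L227317 : sm gd N18421 = N26826 := rfl
theorem L227323 : sm gi N18421 = N26827 := rfl
theorem L227332 : sm ge N18422 = N26828 := rfl
theorem L227338 : sm gj N18422 = N26829 := rfl
theorem L227342 : sm gd N26829 = N18427 := ded_37_1 (flp_j L156569) (flp_d L156536) L227338
theorem L227346 : sm gh N18422 = N26830 := rfl
theorem L227353 : sm gh N18423 = N26831 := rfl
theorem L227359 : sm gj N26831 = N18424 := ded_52_1 (flp_h L156547) L156539 L227353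
theorem L227361 : sm gd N18424 = N26832 := rfl
theorem L227365 : sm gg N26832 = N18425 := ded_36_2 (flp_d L156554) (flp_g L156552) L227361
theorem L227369 : sm gi N18424 = N26833 := rfl
theorem L227391 : sm gi N18425 = N26836 := rfl
theorem L227399 : sm gg N18427 = N26837 := rfl
theorem L227413 : sm gd N18428 = N26839 := rfl
theorem L227415 : sm gb N26839 = N18462 := ded_20_1 (flp_d L156846) (flp_b L156577) L227413
theorem L227420 : sm gi N18428 = N26840 := rfl
theorem L227427 : sm gd N18429 = N26841 := rfl
theorem L227434 : sm gi N18429 = N26842 := rfl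
theorem L227443 : sm gc N18430 = N26843 := rfl
theorem L227445 : sm gg N26843 = N18432 := ded_30_2 (flp_c L156605) (flp_g L156595) L227443
theorem L227464 : sm ge N18432 = N26846 := rfl
theorem L227477 : sm gf N18433 = N26848 := rfl
theorem L227479 : sm gb N26848 = N18468 := ded_22_1 (flp_f L156900) (flp_b L156612) L227477
theorem L227485 : sm gi N18433 = N26849 := rfl
theorem L227487 : sm gb N26849 = N18469 := ded_26_1 (flp_i L156909) (flp_b L156612) L227485
theorem L227491 : sm ge N26849 = N18434 := ded_44_1 (flp_i L156617) L156610 L227485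
theorem L227494 : sm gh N18434 = N26850 := rfl
theorem L227508 : sm ge N18435 = N26852 := rfl
theorem L227513 : sm gj N26852 = N18438 := ded_42_2 (flp_e L156647) (flp_j L156630) L227508
theorem L227516 : sm gi N18435 = N26853 := rfl
theorem L227534 : sm gi N18437 = N26855 := rfl
theorem L227540 : sm gg N26855 = N18441 := ded_51_1 (flp_i L156670) (flp_g L156642) L227534
theorem L227547 : sm gi N18438 = N26857 := rfl
theorem L227553 : sm gg N26857 = N18443 := ded_51_1 (flp_i L156687) (flp_g L156651) L227547
theorem L227586 : sm gh N18441 = N26862 := rfl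
theorem L227592 : sm gf N26862 = N18448 := ded_47_1 (flp_h L156725) (flp_f L156676) L227586
theorem L227603 : sm gi N18442 = N26864 := rfl
theorem L227607 : sm ge N26864 = N18450 := ded_44_1 (flp_i L156739) (flp_e L156685) L227603
theorem L227609 : sm gf N26864 = N18443 := ded_48_1 (flp_i L156687) L156679 L227603
theorem L227612 : sm gh N18443 = N26865 := rfl
theorem L227659 : sm gh N18447 = N26871 := rfl
theorem L227665 : sm ge N26871 = N18448 := ded_43_1 (flp_h L156725) (flp_e L156722) L227659
theorem L227675 : sm gj N18449 = N26873 := rfl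
theorem L227677 : sm gb N26873 = N18479 := ded_24_1 (flp_j L157003) (flp_b L156735) L227675
theorem L227689 : sm gh N18450 = N26875 := rfl
theorem L227704 : sm gj N18452 = N26877 := rfl
theorem L227706 : sm ga N26877 = N18485 := ded_16_1 (flp_j L157056) (flp_a L156757) L227704
theorem L227708 : sm gc N26877 = N18634 := ded_31_1 (flp_j L158265) (flp_c L156759) L227704
theorem L227762 : sm gd N18455 = N26883 := rfl
theorem L227767 : sm gj N26883 = N18456 := ded_37_2 (flp_d L156792) (flp_j L156790) L227762
theorem L227770 : sm gh N26883 = N18464 := ded_38_2 (flp_d L156863) (flp_h L108076) (flp_d L108028) L156782 L227762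
theorem L227782 : sm ge N18456 = N26885 := rfl
theorem L227787 : sm gg N26885 = N18458 := ded_41_2 (flp_e L156810) (flp_g L156796) L227782
theorem L227829 : sm gh N18460 = N26890 := rfl
theorem L227833 : sm gc N26890 = N18483 := ded_32_1 (flp_h L157038) (flp_c L156832) L227829
theorem L227836 : sm gg N26890 = N18461 := ded_50_1 (flp_h L156836) L156828 L227829
theorem L227848 : sm gi N18461 = N26892 := rfl
theorem L227858 : sm ge N18462 = N26893 := rfl
theorem L227864 : sm gi N18462 = N26894 := rfl
theorem L227866 : sm ga N26894 = N18502 := ded_18_1 (flp_i L157182) (flp_a L156848) L227864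
theorem L227871 : sm gf N26894 = N18467 := ded_48_1 (flp_i L156891) (flp_f L156850) L227864
theorem L227874 : sm ge N18464 = N26895 := rfl
theorem L227880 : sm gj N26895 = N18466 := ded_42_2 (flp_e L156882) (flp_j L156868) L227874
theorem L227894 : sm gf N18466 = N26897 := rfl
theorem L227899 : sm gd N26897 = N18473 := ded_35_1 (flp_f L156947) (flp_d L156889) L227894
theorem L227901 : sm gi N18466 = N26898 := rfl
theorem L227908 : sm ge N26898 = N18467 := ded_44_1 (flp_i L156891) L156882 L227901
theorem L227910 : sm gg N26898 = N18469 := ded_51_1 (flp_i L156909) (flp_g L156887) L227901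
theorem L227912 : sm gh N18467 = N26899 := rfl
theorem L227927 : sm gi N18468 = N26901 := rfl
theorem L227938 : sm gh N18469 = N26902 := rfl
theorem L227976 : sm gg N18473 = N26906 := rfl
theorem L227980 : sm gc N26906 = N18919 := ded_30_1 (flp_g L160648) (flp_c L156951) L227976
theorem L228042 : sm gi N18479 = N26913 := rfl
theorem L228050 : sm gj N26913 = N18480 := ded_53_1 (flp_i L157012) L157003 L228042
theorem L228052 : sm gh N18480 = N26914 := rfl
theorem L228054 : sm ga N26914 = N18522 := ded_17_1 (flp_h L157330) (flp_a L157014) L228052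
theorem L228070 : sm gc N18482 = N26916 := rfl
theorem L228079 : sm gi N18483 = N26917 := rfl
theorem L228088 : sm gg N18485 = N26918 := rfl
theorem L228095 : sm gh N18485 = N26919 := rfl
theorem L228097 : sm gc N26919 = N18641 := ded_32_1 (flp_h L158322) (flp_c L157058) L228095
theorem L228102 : sm gj N26919 = N18486 := ded_52_1 (flp_h L157063) L157056 L228095
theorem L228116 : sm gh N18487 = N26922 := rfl
theorem L228121 : sm gg N26922 = N18488 := ded_50_1 (flp_h L157079) L157071 L228116
theorem L228124 : sm gd N18488 = N26923 := rfl
theorem L228126 : sm gf N26923 = N18491 := ded_35_2 (flp_d L157102) (flp_f L157083) L228124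
theorem L228128 : sm gj N26923 = N18489 := ded_37_2 (flp_d L157087) (flp_j L157085) L228124
theorem L228133 : sm gi N18488 = N26924 := rfl
theorem L228141 : sm ge N18489 = N26925 := rfl
theorem L228145 : sm gh N26925 = N18501 := ded_43_2 (flp_e L157178) (flp_h L157093) L228141
theorem L228164 : sm gi N18491 = N26928 := rfl
theorem L228170 : sm gj N26928 = N18494 := ded_53_1 (flp_i L157126) (flp_j L157105) L228164
theorem L228172 : sm gf N18493 = N26929 := rfl
theorem L228186 : sm gh N18494 = N26931 := rfl
theorem L228193 : sm gg N18495 = N26932 := rfl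
theorem L228198 : sm gh N26932 = N18508 := ded_50_2 (flp_g L157225) (flp_h L157138) L228193
theorem L228208 : sm gh N18496 = N26934 := rfl
theorem L228214 : sm gi N26934 = N18510 := ded_54_2 (flp_h L157240) (flp_i L108371) (flp_h L108298) L157141 L228208
theorem L228216 : sm gd N18498 = N26935 := rfl
theorem L228219 : sm gg N26935 = N18499 := ded_36_2 (flp_d L157163) (flp_g L157160) L228216
theorem L228231 : sm ge N18499 = N26937 := rfl
theorem L228234 : sm gj N26937 = N18501 := ded_42_2 (flp_e L157178) (flp_j L157167) L228231
theorem L228236 : sm gi N18499 = N26938 := rfl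
theorem L228241 : sm gf N26938 = N18504 := ded_48_1 (flp_i L157198) (flp_f L157165) L228236
theorem L228243 : sm gj N26938 = N18502 := ded_53_1 (flp_i L157182) (flp_j L157167) L228236
theorem L228245 : sm gf N18501 = N26939 := rfl
theorem L228256 : sm gh N18502 = N26941 := rfl
theorem L228279 : sm gh N18504 = N26944 := rfl
theorem L228306 : sm gj N18508 = N26948 := rfl
theorem L228309 : sm gd N26948 = N18517 := ded_37_1 (flp_j L157292) (flp_d L157228) L228306
theorem L228321 : sm gh N18509 = N26950 := rfl
theorem L228325 : sm gf N26950 = N18510 := ded_47_1 (flp_h L157240) (flp_f L157237) L228321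
theorem L228328 : sm gd N18510 = N26951 := rfl
theorem L228333 : sm gg N18511 = N26952 := rfl
theorem L228335 : sm gc N26952 = N18930 := ded_30_1 (flp_g L160743) (flp_c L157248) L228333
theorem L228339 : sm gi N18511 = N26953 := rfl
theorem L228343 : sm gf N26953 = N18512 := ded_48_1 (flp_i L157253) L157246 L228339
theorem L228345 : sm gj N26953 = N18515 := ded_53_1 (flp_i L157277) (flp_j L157250) L228339
theorem L228347 : sm gh N18512 = N26954 := rfl
theorem L228372 : sm gh N18515 = N26957 := rfl
theorem L228384 : sm gi N18517 = N26959 := rfl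
theorem L228391 : sm gj N26959 = N18518 := ded_53_1 (flp_i L157300) L157292 L228384
theorem L228393 : sm gh N18518 = N26960 := rfl
theorem L228399 : sm gg N26960 = N18519 := ded_50_1 (flp_h L157308) (flp_g L157306) L228393
theorem L228402 : sm gd N18519 = N26961 := rfl
theorem L228422 : sm gd N18522 = N26964 := rfl
theorem L228424 : sm gg N26964 = N18523 := ded_36_2 (flp_d L157337) (flp_g L157334) L228422
theorem L228437 : sm ge N18523 = N26966 := rfl
theorem L228449 : sm gf N18526 = N26968 := rfl
theorem L228454 : sm gi N26968 = N18623 := ded_48_2 (flp_f L158176) (flp_i L157366) L228449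
theorem L228457 : sm gj N18526 = N26969 := rfl
theorem L228460 : sm gc N26969 = N18529 := ded_31_1 (flp_j L157386) (flp_c L157363) L228457
theorem L228466 : sm gh N18526 = N26970 := rfl
theorem L228469 : sm gc N26970 = N18530 := ded_32_1 (flp_h L157397) (flp_c L157363) L228466
theorem L228472 : sm gg N26970 = N18527 := ded_50_1 (flp_h L157368) L157360 L228466
theorem L228479 : sm gi N18527 = N26972 := rfl
theorem L228499 : sm gj N18528 = N26974 := rfl
theorem L228504 : sm gd N26974 = N18533 := ded_37_1 (flp_j L157424) (flp_d L157381) L228499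
theorem L228506 : sm gf N26974 = N18529 := ded_46_1 (flp_j L157386) L157376 L228499
theorem L228508 : sm gi N26974 = N18629 := ded_53_2 (flp_j L158219) (flp_i L157383) L228499
theorem L228510 : sm gh N18528 = N26975 := rfl
theorem L228515 : sm gf N26975 = N18530 := ded_47_1 (flp_h L157397) L157376 L228510
theorem L228518 : sm gh N18529 = N26976 := rfl
theorem L228525 : sm gj N26976 = N18530 := ded_52_1 (flp_h L157397) L157386 L228518
theorem L228527 : sm gd N18530 = N26977 := rfl
theorem L228534 : sm gh N26977 = N18536 := ded_38_2 (flp_d L157455) (flp_h L108542) (flp_d L108510) L157397 L228527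
theorem L228536 : sm gi N18530 = N26978 := rfl
theorem L228539 : sm gb N26978 = N18552 := ded_26_1 (flp_i L157594) (flp_b L157400) L228536
theorem L228602 : sm gd N18535 = N26985 := rfl
theorem L228608 : sm gj N26985 = N18536 := ded_37_2 (flp_d L157455) (flp_j L157452) L228602
theorem L228661 : sm ge N18539 = N26992 := rfl
theorem L228667 : sm gj N26992 = N18541 := ded_42_2 (flp_e L157498) (flp_j L157485) L228661
theorem L228706 : sm gg N18543 = N26997 := rfl
theorem L228711 : sm ge N26997 = N18546 := ded_41_1 (flp_g L157543) (flp_e L157524) L228706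
theorem L228741 : sm gj N18546 = N27001 := rfl
theorem L228744 : sm gb N27001 = N18568 := ded_24_1 (flp_j L157737) (flp_b L157546) L228741
theorem L228751 : sm gj N18547 = N27002 := rfl
theorem L228759 : sm gi N27002 = N18634 := ded_53_2 (flp_j L158265) (flp_i L157557) L228751
theorem L228761 : sm gh N18547 = N27003 := rfl
theorem L228763 : sm ga N27003 = N18577 := ded_17_1 (flp_h L157814) (flp_a L157554) L228761
theorem L228779 : sm gh N18548 = N27005 := rfl
theorem L228787 : sm gd N18549 = N27006 := rfl
theorem L228791 : sm gf N27006 = N18551 := ded_35_2 (flp_d L157586) (flp_f L157575) L228787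
theorem L228794 : sm gh N27006 = N18558 := ded_38_2 (flp_d L157651) (flp_h L108670) (flp_d L108620) L157571 L228787
theorem L228824 : sm gc N18551 = N27010 := rfl
theorem L228828 : sm gg N27010 = N18553 := ded_30_2 (flp_c L157603) (flp_g L157590) L228824
theorem L228850 : sm gb N18553 = N27013 := rfl
theorem L228854 : sm gh N27013 = N18562 := ded_25_2 (flp_b L157685) (flp_h L157609) L228850
theorem L228856 : sm ge N18553 = N27014 := rfl
theorem L228863 : sm gh N27014 = N18563 := ded_43_2 (flp_e L157692) (flp_h L157609) L228856
theorem L228865 : sm gi N18553 = N27015 := rfl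
theorem L228904 : sm gd N18557 = N27019 := rfl
theorem L228910 : sm gj N27019 = N18558 := ded_37_2 (flp_d L157651) (flp_j L157648) L228904
theorem L228913 : sm gc N18558 = N27020 := rfl
theorem L228930 : sm gc N18559 = N27022 := rfl
theorem L228935 : sm gj N27022 = N18560 := ded_31_2 (flp_c L157667) (flp_j L157664) L228930
theorem L228950 : sm gb N18560 = N27024 := rfl
theorem L228954 : sm gg N27024 = N18562 := ded_23_2 (flp_b L157685) (flp_g L157671) L228950
theorem L228957 : sm ge N18560 = N27025 := rfl
theorem L228963 : sm gg N27025 = N18563 := ded_41_2 (flp_e L157692) (flp_g L157671) L228957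
theorem L229047 : sm gc N18570 = N27035 := rfl
theorem L229049 : sm ga N27035 = N18609 := ded_11_1 (flp_c L158068) (flp_a L157759) L229047
theorem L229056 : sm ge N18570 = N27036 := rfl
theorem L229058 : sm ga N27036 = N18610 := ded_13_1 (flp_e L158075) (flp_a L157759) L229056
theorem L229065 : sm gb N18571 = N27037 := rfl
theorem L229067 : sm gf N27037 = N18574 := ded_22_2 (flp_b L157791) (flp_f L157770) L229065
theorem L229087 : sm ga N18574 = N27040 := rfl
theorem L229104 : sm gh N18576 = N27042 := rfl
theorem L229110 : sm gj N27042 = N18577 := ded_52_1 (flp_h L157814) L157805 L229104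
theorem L229127 : sm gh N18578 = N27045 := rfl
theorem L229159 : sm ge N18580 = N27049 := rfl
theorem L229163 : sm gh N27049 = N18595 := ded_43_2 (flp_e L157956) (flp_h L157843) L229159
theorem L229165 : sm gi N18580 = N27050 := rfl
theorem L229170 : sm gf N27050 = N18586 := ded_48_1 (flp_i L157884) (flp_f L157840) L229165
theorem L229296 : sm gd N18592 = N27067 := rfl
theorem L229300 : sm gg N27067 = N18593 := ded_36_2 (flp_d L157940) (flp_g L157936) L229296
theorem L229313 : sm ge N18593 = N27069 := rfl
theorem L229316 : sm gj N27069 = N18595 := ded_42_2 (flp_e L157956) (flp_j L157945) L229313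
theorem L229448 : sm gc N18608 = N27086 := rfl
theorem L229451 : sm gg N27086 = N18609 := ded_30_2 (flp_c L158068) (flp_g L158064) L229448
theorem L229464 : sm gb N18609 = N27088 := rfl
theorem L229468 : sm gj N27088 = N18611 := ded_24_2 (flp_b L158084) (flp_j L158072) L229464
theorem L229473 : sm ge N18609 = N27089 := rfl
theorem L229477 : sm gj N27089 = N18612 := ded_42_2 (flp_e L158092) (flp_j L158072) L229473
theorem L229513 : sm gb N18615 = N27094 := rfl
theorem L229517 : sm gg N27094 = N18617 := ded_23_2 (flp_b L158131) (flp_g L158119) L229513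
theorem L229521 : sm ge N18615 = N27095 := rfl
theorem L229525 : sm gg N27095 = N18618 := ded_41_2 (flp_e L158139) (flp_g L158119) L229521
theorem L229536 : sm ga N18617 = N27097 := rfl
theorem L229539 : sm gf N27097 = N18622 := ded_14_2 (flp_a L158168) (flp_f L158134) L229536
theorem L229544 : sm ge N18617 = N27098 := rfl
theorem L229548 : sm gj N27098 = N18620 := ded_42_2 (flp_e L158154) (flp_j L158136) L229544
theorem L229552 : sm gd N18618 = N27099 := rfl
theorem L229588 : sm gj N18623 = N27104 := rfl
theorem L229591 : sm gc N27104 = N18629 := ded_31_1 (flp_j L158219) (flp_c L158179) L229588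
theorem L229593 : sm gf N27104 = N18624 := ded_46_1 (flp_j L158182) L158176 L229588
theorem L229603 : sm gh N18624 = N27106 := rfl
theorem L229606 : sm gc N27106 = N18631 := ded_32_1 (flp_h L158237) (flp_c L158185) L229603
theorem L229610 : sm gj N27106 = N18625 := ded_52_1 (flp_h L158189) L158182 L229603
theorem L229658 : sm gg N18629 = N27113 := rfl
theorem L229667 : sm gh N18629 = N27114 := rfl
theorem L229696 : sm gg N18634 = N27117 := rfl
theorem L229721 : sm gi N18635 = N27120 := rfl
theorem L229725 : sm ge N27120 = N18638 := ded_44_1 (flp_i L158298) (flp_e L158277) L229721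
theorem L229738 : sm gi N18637 = N27122 := rfl
theorem L229745 : sm gj N27122 = N18638 := ded_53_1 (flp_i L158298) (flp_j L158295) L229738
theorem L229754 : sm gh N18640 = N27124 := rfl
theorem L229757 : sm ge N27124 = N18644 := ded_43_1 (flp_h L158344) (flp_e L158319) L229754
theorem L229759 : sm gg N27124 = N18641 := ded_50_1 (flp_h L158322) L158315 L229754
theorem L229770 : sm gi N18641 = N27126 := rfl
theorem L229792 : sm gi N18644 = N27129 := rfl
theorem L229800 : sm gg N18646 = N27130 := rfl
theorem L229804 : sm gc N27130 = N18647 := ded_30_1 (flp_g L158370) L158360 L229800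
theorem L229808 : sm gh N18646 = N27131 := rfl
theorem L229815 : sm gf N27131 = N18947 := ded_47_1 (flp_h L160875) (flp_f L158364) L229808
theorem L229817 : sm gj N27131 = N18764 := ded_52_1 (flp_h L159404) (flp_j L158366) L229808
theorem L229840 : sm gh N18647 = N27134 := rfl
theorem L229901 : sm gd N18651 = N27140 := rfl
theorem L229906 : sm gg N27140 = N18652 := ded_36_2 (flp_d L158417) (flp_g L158415) L229901
theorem L229934 : sm gi N18652 = N27144 := rfl
theorem L229941 : sm gf N27144 = N18957 := ded_48_1 (flp_i L160965) (flp_f L158422) L229934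
theorem L229943 : sm gj N27144 = N18774 := ded_53_1 (flp_i L159491) (flp_j L158424) L229934
theorem L230009 : sm gf N18658 = N27152 := rfl
theorem L230012 : sm gb N27152 = N18682 := ded_22_1 (flp_f L158709) (flp_b L158477) L230009
theorem L230014 : sm gj N27152 = N18782 := ded_46_2 (flp_f L159560) (flp_j L158479) L230009
theorem L230017 : sm ge N27152 = N18662 := ded_40_1 (flp_f L158510) (flp_e L109312) (flp_f L109290) L158474 L230009
theorem L230019 : sm gi N18658 = N27153 := rfl
theorem L230074 : sm gg N18662 = N27159 := rfl
theorem L230094 : sm gh N18663 = N27161 := rfl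
theorem L230099 : sm ge N27161 = N18664 := ded_43_1 (flp_h L158532) (flp_e L158527) L230094
theorem L230102 : sm gj N27161 = N18791 := ded_52_1 (flp_h L159633) (flp_j L158530) L230094
theorem L230105 : sm ge N18665 = N27162 := rfl
theorem L230110 : sm gg N27162 = N18973 := ded_41_2 (flp_e L161125) (flp_g L158550) L230105
theorem L230126 : sm gh N18665 = N27164 := rfl
theorem L230133 : sm gg N27164 = N18974 := ded_50_1 (flp_h L161135) (flp_g L158550) L230126
theorem L230135 : sm gh N18666 = N27165 := rfl
theorem L230141 : sm gg N27165 = N18792 := ded_50_1 (flp_h L159643) (flp_g L158561) L230135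
theorem L230145 : sm gd N18667 = N27166 := rfl
theorem L230149 : sm gg N27166 = N18668 := ded_36_2 (flp_d L158571) (flp_g L158569) L230145
theorem L230151 : sm gh N27166 = N18673 := ded_38_2 (flp_d L158626) (flp_h L109373) (flp_d L109338) L158563 L230145
theorem L230162 : sm gc N18668 = N27168 := rfl
theorem L230164 : sm ga N27168 = N18704 := ded_11_1 (flp_c L158906) (flp_a L158573) L230162
theorem L230166 : sm gf N27168 = N18977 := ded_29_2 (flp_c L161163) (flp_f L158575) L230162
theorem L230168 : sm gj N27168 = N18795 := ded_31_2 (flp_c L159671) (flp_j L158577) L230162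
theorem L230170 : sm gh N27168 = N18675 := ded_32_2 (flp_c L158643) (flp_h L158579) L230162
theorem L230173 : sm ge N18668 = N27169 := rfl
theorem L230177 : sm gj N27169 = N18796 := ded_42_2 (flp_e L159680) (flp_j L158577) L230173
theorem L230212 : sm gi N18671 = N27173 := rfl
theorem L230214 : sm ga N27173 = N18709 := ded_18_1 (flp_i L158950) (flp_a L158605) L230212
theorem L230224 : sm gd N18672 = N27174 := rfl
theorem L230228 : sm gg N27174 = N18798 := ded_36_2 (flp_d L159695) (flp_g L158622) L230224
theorem L230253 : sm ge N18673 = N27177 := rfl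
theorem L230259 : sm gd N27177 = N18680 := ded_34_1 (flp_e L158693) (flp_d L109415) (flp_e L109379) L158626 L230253
theorem L230277 : sm ge N18675 = N27180 := rfl
theorem L230283 : sm gj N27180 = N18804 := ded_42_2 (flp_e L159746) (flp_j L158649) L230277
theorem L230285 : sm gi N18675 = N27181 := rfl
theorem L230295 : sm gj N27181 = N18805 := ded_53_1 (flp_i L159752) (flp_j L158649) L230285
theorem L230335 : sm gi N18678 = N27186 := rfl
theorem L230344 : sm gj N27186 = N18681 := ded_53_1 (flp_i L158700) (flp_j L158678) L230335
theorem L230346 : sm gf N18680 = N27187 := rfl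
theorem L230348 : sm ga N27187 = N18723 := ded_14_1 (flp_f L159069) (flp_a L158695) L230346
theorem L230352 : sm gi N18680 = N27188 := rfl
theorem L230360 : sm gh N18681 = N27189 := rfl
theorem L230365 : sm gg N27189 = N18684 := ded_50_1 (flp_h L158726) (flp_g L158707) L230360
theorem L230369 : sm gg N18682 = N27190 := rfl
theorem L230414 : sm gh N18686 = N27195 := rfl
theorem L230420 : sm gj N27195 = N18819 := ded_52_1 (flp_h L159868) (flp_j L158752) L230414
theorem L230482 : sm gc N18691 = N27202 := rfl
theorem L230488 : sm gj N27202 = N18693 := ded_31_2 (flp_c L158813) (flp_j L158799) L230482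
theorem L230501 : sm gb N18693 = N27204 := rfl
theorem L230503 : sm gg N27204 = N18695 := ded_23_2 (flp_b L158828) (flp_g L158817) L230501
theorem L230506 : sm gi N18693 = N27205 := rfl
theorem L230531 : sm gi N18695 = N27208 := rfl
theorem L230539 : sm gh N18696 = N27209 := rfl
theorem L230545 : sm gf N27209 = N19009 := ded_47_1 (flp_h L161453) (flp_f L158841) L230539
theorem L230547 : sm gj N27209 = N18828 := ded_52_1 (flp_h L159939) (flp_j L158843) L230539
theorem L230615 : sm gc N18702 = N27217 := rfl
theorem L230617 : sm gg N27217 = N18704 := ded_30_2 (flp_c L158906) (flp_g L158894) L230615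
theorem L230630 : sm gi N18702 = N27219 := rfl
theorem L230637 : sm gb N18704 = N27220 := rfl
theorem L230642 : sm gj N27220 = N18834 := ded_24_2 (flp_b L159989) (flp_j L158910) L230637
theorem L230644 : sm gh N27220 = N18715 := ded_25_2 (flp_b L159000) (flp_h L158912) L230637
theorem L230647 : sm ge N18704 = N27221 := rfl
theorem L230653 : sm gh N27221 = N18716 := ded_43_2 (flp_e L159009) (flp_h L158912) L230647
theorem L230655 : sm gi N18704 = N27222 := rfl
theorem L230700 : sm gi N18707 = N27227 := rfl
theorem L230709 : sm gj N27227 = N18709 := ded_53_1 (flp_i L158950) (flp_j L158941) L230700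
theorem L230735 : sm gc N18710 = N27231 := rfl
theorem L230737 : sm gg N27231 = N18840 := ded_30_2 (flp_c L160032) (flp_g L158964) L230735
theorem L230741 : sm gd N27231 = N18738 := ded_27_2 (flp_c L159193) (flp_d L109780) (flp_c L109621) L158961 L230735
theorem L230752 : sm gi N18710 = N27233 := rfl
theorem L230759 : sm gj N27233 = N18714 := ded_53_1 (flp_i L158993) (flp_j L158966) L230752
theorem L230796 : sm gh N18714 = N27239 := rfl
theorem L230818 : sm gi N18715 = N27242 := rfl
theorem L230820 : sm gb N27242 = N18717 := ded_26_1 (flp_i L159015) L159000 L230818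
theorem L230825 : sm gf N27242 = N19033 := ded_48_1 (flp_i L161646) (flp_f L159004) L230818
theorem L230829 : sm gf N18716 = N27243 := rfl
theorem L230835 : sm ge N27243 = N19034 := ded_40_1 (flp_f L161655) (flp_e L111511) (flp_f L109646) L159009 L230829
theorem L230837 : sm gi N18716 = N27244 := rfl
theorem L230841 : sm ge N27244 = N18717 := ded_44_1 (flp_i L159015) L159009 L230837
theorem L230843 : sm gj N27244 = N18853 := ded_53_1 (flp_i L160126) (flp_j L159013) L230837
theorem L230845 : sm gh N18717 = N27245 := rfl
theorem L230885 : sm gi N18721 = N27250 := rfl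
theorem L230892 : sm gj N27250 = N18724 := ded_53_1 (flp_i L159074) (flp_j L159056) L230885
theorem L230911 : sm gi N18723 = N27253 := rfl
theorem L230917 : sm gh N18724 = N27254 := rfl
theorem L230922 : sm gg N27254 = N18728 := ded_50_1 (flp_h L159104) (flp_g L159079) L230917
theorem L230967 : sm gh N18730 = N27260 := rfl
theorem L230974 : sm gd N18731 = N27261 := rfl
theorem L230979 : sm gj N27261 = N18870 := ded_37_2 (flp_d L160249) (flp_j L159134) L230974
theorem L230982 : sm gh N27261 = N19049 := ded_38_2 (flp_d L161782) (flp_h L111620) (flp_d L109736) L159129 L230974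
theorem L231010 : sm gi N18733 = N27265 := rfl
theorem L231019 : sm gj N27265 = N18737 := ded_53_1 (flp_i L159183) (flp_j L159154) L231010
theorem L231030 : sm ge N18735 = N27267 := rfl
theorem L231032 : sm gc N27267 = N18736 := ded_28_1 (flp_e L159175) L159168 L231030
theorem L231034 : sm gg N27267 = N19052 := ded_41_2 (flp_e L161808) (flp_g L159172) L231030
theorem L231045 : sm gi N18736 = N27269 := rfl
theorem L231054 : sm gh N18737 = N27270 := rfl
theorem L231060 : sm gg N27270 = N19055 := ded_50_1 (flp_h L161831) (flp_g L159191) L231054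
theorem L231064 : sm gb N18738 = N27271 := rfl
theorem L231068 : sm gj N27271 = N18740 := ded_24_2 (flp_b L159210) (flp_j L159197) L231064
theorem L231073 : sm gi N18738 = N27272 := rfl
theorem L231077 : sm gg N27272 = N18873 := ded_51_1 (flp_i L160273) (flp_g L159195) L231073
theorem L231079 : sm gj N27272 = N18741 := ded_53_1 (flp_i L159217) (flp_j L159197) L231073
theorem L231098 : sm gi N18740 = N27275 := rfl
theorem L231100 : sm gb N27275 = N18741 := ded_26_1 (flp_i L159217) L159210 L231098
theorem L231106 : sm gh N18741 = N27276 := rfl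
theorem L231113 : sm gi N18743 = N27277 := rfl
theorem L231119 : sm gf N27277 = N19059 := ded_48_1 (flp_i L161868) (flp_f L159235) L231113
theorem L231142 : sm gb N18746 = N27280 := rfl
theorem L231148 : sm gj N27280 = N18749 := ded_24_2 (flp_b L159284) (flp_j L159264) L231142
theorem L231151 : sm ge N18746 = N27281 := rfl
theorem L231153 : sm gc N27281 = N18747 := ded_28_1 (flp_e L159268) L159259 L231151
theorem L231156 : sm gj N27281 = N18750 := ded_42_2 (flp_e L159292) (flp_j L159264) L231151
theorem L231159 : sm gi N18746 = N27282 := rfl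
theorem L231164 : sm gf N27282 = N18755 := ded_48_1 (flp_i L159331) (flp_f L159261) L231159
theorem L231167 : sm gj N27282 = N18751 := ded_53_1 (flp_i L159299) (flp_j L159264) L231159
theorem L231169 : sm gi N18747 = N27283 := rfl
theorem L231186 : sm ga N18749 = N27285 := rfl
theorem L231191 : sm gg N27285 = N19062 := ded_15_2 (flp_a L161893) (flp_g L159289) L231186
theorem L231194 : sm ge N18749 = N27286 := rfl
theorem L231196 : sm gb N27286 = N18750 := ded_21_1 (flp_e L159292) L159284 L231194
theorem L231198 : sm gg N27286 = N19063 := ded_41_2 (flp_e L161900) (flp_g L159289) L231194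
theorem L231224 : sm gh N18751 = N27290 := rfl
theorem L231230 : sm gg N27290 = N19067 := ded_50_1 (flp_h L161929) (flp_g L159306) L231224
theorem L231257 : sm gh N18755 = N27294 := rfl
theorem L231313 : sm gj N18763 = N27301 := rfl
theorem L231322 : sm gh N18763 = N27302 := rfl
theorem L231330 : sm gg N27302 = N18764 := ded_50_1 (flp_h L159404) L159395 L231322
theorem L231338 : sm gi N18764 = N27304 := rfl
theorem L231392 : sm gi N18767 = N27310 := rfl
theorem L231420 : sm gc N18770 = N27313 := rfl
theorem L231424 : sm gg N27313 = N18772 := ded_30_2 (flp_c L159479) (flp_g L159466) L231420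
theorem L231451 : sm ge N18772 = N27317 := rfl
theorem L231454 : sm gc N27317 = N18773 := ded_28_1 (flp_e L159484) L159479 L231451
theorem L231481 : sm gh N18774 = N27321 := rfl
theorem L231505 : sm gi N18775 = N27324 := rfl
theorem L231514 : sm gj N27324 = N18779 := ded_53_1 (flp_i L159536) (flp_j L159507) L231505
theorem L231516 : sm ge N18777 = N27325 := rfl
theorem L231521 : sm gg N27325 = N18780 := ded_41_2 (flp_e L159547) (flp_g L159525) L231516
theorem L231550 : sm gh N18779 = N27329 := rfl
theorem L231557 : sm gg N27329 = N18784 := ded_50_1 (flp_h L159575) (flp_g L159545) L231550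
theorem L231561 : sm gd N18780 = N27330 := rfl
theorem L231572 : sm gi N18780 = N27332 := rfl
theorem L231587 : sm gg N18782 = N27334 := rfl
theorem L231592 : sm ge N27334 = N18789 := ded_41_1 (flp_g L159614) (flp_e L159566) L231587
theorem L231595 : sm gi N18782 = N27335 := rfl
theorem L231668 : sm gj N18789 = N27344 := rfl
theorem L231675 : sm gf N27344 = N18912 := ded_46_1 (flp_j L160584) (flp_f L159622) L231668
theorem L231697 : sm gd N18791 = N27347 := rfl
theorem L231706 : sm gh N27347 = N19103 := ded_38_2 (flp_d L162226) (flp_h L111941) (flp_d L110081) L159633 L231697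
theorem L231717 : sm gi N18792 = N27349 := rfl
theorem L231724 : sm gj N27349 = N18794 := ded_53_1 (flp_i L159661) (flp_j L159650) L231717
theorem L231770 : sm gi N18795 = N27355 := rfl
theorem L231788 : sm gi N18796 = N27357 := rfl
theorem L231804 : sm gc N18798 = N27359 := rfl
theorem L231809 : sm gj N27359 = N18800 := ded_31_2 (flp_c L159714) (flp_j L159700) L231804
theorem L231830 : sm gb N18800 = N27362 := rfl
theorem L231832 : sm gd N27362 = N18823 := ded_20_2 (flp_b L159902) (flp_d L159721) L231830
theorem L231901 : sm gf N18804 = N27371 := rfl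
theorem L231903 : sm ga N27371 = N18852 := ded_14_1 (flp_f L160120) (flp_a L159748) L231901
theorem L231907 : sm ge N27371 = N19113 := ded_40_1 (flp_f L162304) (flp_e L111981) (flp_f L110166) L159746 L231901
theorem L231917 : sm gh N18805 = N27373 := rfl
theorem L231943 : sm gh N18807 = N27376 := rfl
theorem L231993 : sm gh N18812 = N27382 := rfl
theorem L231995 : sm ga N27382 = N18863 := ded_17_1 (flp_h L160198) (flp_a L159811) L231993
theorem L232060 : sm gc N18820 = N27390 := rfl
theorem L232067 : sm gh N27390 = N19126 := ded_32_2 (flp_c L162417) (flp_h L159883) L232060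
theorem L232094 : sm ga N18823 = N27394 := rfl
theorem L232097 : sm gg N27394 = N18826 := ded_15_2 (flp_a L159926) (flp_g L159905) L232094
theorem L232109 : sm gh N18824 = N27396 := rfl
theorem L232116 : sm gg N27396 = N18828 := ded_50_1 (flp_h L159939) (flp_g L159915) L232109
theorem L232119 : sm gi N18826 = N27397 := rfl
theorem L232142 : sm gc N18829 = N27400 := rfl
theorem L232145 : sm gj N27400 = N18831 := ded_31_2 (flp_c L159965) (flp_j L159952) L232142
theorem L232147 : sm gh N27400 = N18840 := ded_32_2 (flp_c L160032) (flp_h L159954) L232142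
theorem L232158 : sm gi N18829 = N27402 := rfl
theorem L232166 : sm gb N18831 = N27403 := rfl
theorem L232170 : sm gg N27403 = N18834 := ded_23_2 (flp_b L159989) (flp_g L159968) L232166
theorem L232175 : sm ge N18831 = N27404 := rfl
theorem L232177 : sm gc N27404 = N18832 := ded_28_1 (flp_e L159973) L159965 L232175
theorem L232179 : sm gg N27404 = N18835 := ded_41_2 (flp_e L159997) (flp_g L159968) L232175
theorem L232181 : sm gh N27404 = N18844 := ded_43_2 (flp_e L160062) (flp_h L159970) L232175
theorem L232198 : sm gi N18832 = N27407 := rfl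
theorem L232215 : sm ga N18834 = N27409 := rfl
theorem L232221 : sm gh N27409 = N18849 := ded_17_2 (flp_a L160099) (flp_h L159994) L232215
theorem L232223 : sm ge N18834 = N27410 := rfl
theorem L232228 : sm gh N27410 = N18850 := ded_43_2 (flp_e L160106) (flp_h L159994) L232223
theorem L232238 : sm gd N18835 = N27412 := rfl
theorem L232250 : sm gi N18835 = N27414 := rfl
theorem L232264 : sm gg N18837 = N27416 := rfl
theorem L232268 : sm ge N27416 = N19137 := ded_41_1 (flp_g L162498) (flp_e L160016) L232264
theorem L232287 : sm gb N18840 = N27419 := rfl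
theorem L232318 : sm gi N18841 = N27423 := rfl
theorem L232323 : sm ge N27423 = N18842 := ded_44_1 (flp_i L160046) L160039 L232318
theorem L232325 : sm gj N27423 = N18847 := ded_53_1 (flp_i L160083) (flp_j L160042) L232318
theorem L232327 : sm gh N18842 = N27424 := rfl
theorem L232359 : sm gf N18844 = N27428 := rfl
theorem L232407 : sm gi N18849 = N27435 := rfl
theorem L232414 : sm gf N27435 = N19141 := ded_48_1 (flp_i L162528) (flp_f L160104) L232407
theorem L232416 : sm gf N18850 = N27436 := rfl
theorem L232421 : sm ge N27436 = N19142 := ded_40_1 (flp_f L162536) (flp_e L112154) (flp_f L110412) L160106 L232416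
theorem L232423 : sm gi N18850 = N27437 := rfl
theorem L232437 : sm gg N18852 = N27439 := rfl
theorem L232451 : sm gh N18853 = N27441 := rfl
theorem L232480 : sm gh N18856 = N27445 := rfl
theorem L232493 : sm gg N18858 = N27447 := rfl
theorem L232496 : sm ge N27447 = N18930 := ded_41_1 (flp_g L160743) (flp_e L160165) L232493
theorem L232499 : sm gi N18858 = N27448 := rfl
theorem L232506 : sm gj N27448 = N18862 := ded_53_1 (flp_i L160191) (flp_j L160162) L232499
theorem L232516 : sm gj N18861 = N27450 := rfl
theorem L232524 : sm gi N18861 = N27451 := rfl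
theorem L232531 : sm gg N27451 = N18862 := ded_51_1 (flp_i L160191) L160183 L232524
theorem L232533 : sm gh N18862 = N27452 := rfl
theorem L232541 : sm gd N18863 = N27453 := rfl
theorem L232544 : sm gg N27453 = N18867 := ded_36_2 (flp_d L160227) (flp_g L160203) L232541
theorem L232563 : sm gd N18866 = N27456 := rfl
theorem L232566 : sm gf N27456 = N18867 := ded_35_2 (flp_d L160227) (flp_f L160224) L232563
theorem L232573 : sm gh N18868 = N27458 := rfl
theorem L232576 : sm gf N27458 = N18941 := ded_47_1 (flp_h L160826) (flp_f L160237) L232573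
theorem L232581 : sm gd N18869 = N27459 := rfl
theorem L232586 : sm gg N27459 = N18870 := ded_36_2 (flp_d L160249) (flp_g L160246) L232581
theorem L232589 : sm gh N27459 = N19158 := ded_38_2 (flp_d L162653) (flp_h L112249) (flp_d L110514) L160241 L232581
theorem L232591 : sm gc N18870 = N27460 := rfl
theorem L232631 : sm gh N18873 = N27465 := rfl
theorem L232648 : sm gh N18876 = N27467 := rfl
theorem L232655 : sm gg N27467 = N18879 := ded_50_1 (flp_h L160322) (flp_g L160304) L232648
theorem L232693 : sm gh N18882 = N27473 := rfl
theorem L232698 : sm gj N27473 = N18885 := ded_52_1 (flp_h L160368) (flp_j L160350) L232693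
theorem L232717 : sm gd N18885 = N27476 := rfl
theorem L232722 : sm gg N27476 = N18888 := ded_36_2 (flp_d L160391) (flp_g L160373) L232717
theorem L232761 : sm ge N18890 = N27482 := rfl
theorem L232764 : sm gc N27482 = N18891 := ded_28_1 (flp_e L160411) L160404 L232761
theorem L232767 : sm gj N27482 = N18893 := ded_42_2 (flp_e L160431) (flp_j L160408) L232761
theorem L232778 : sm gf N18891 = N27484 := rfl
theorem L232808 : sm gd N18893 = N27487 := rfl
theorem L232811 : sm gg N27487 = N18898 := ded_36_2 (flp_d L160472) (flp_g L160436) L232808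
theorem L232814 : sm gf N18893 = N27488 := rfl
theorem L232854 : sm gh N18896 = N27493 := rfl
theorem L232857 : sm gb N27493 = N18921 := ded_25_1 (flp_h L160663) (flp_b L160456) L232854
theorem L232884 : sm gg N18899 = N27497 := rfl
theorem L232892 : sm gi N18899 = N27498 := rfl
theorem L232899 : sm gf N27498 = N18900 := ded_48_1 (flp_i L160486) L160477 L232892
theorem L233038 : sm gi N18912 = N27516 := rfl
theorem L233046 : sm gj N27516 = N18913 := ded_53_1 (flp_i L160593) L160584 L233038
theorem L233048 : sm gh N18913 = N27517 := rfl
theorem L233053 : sm gg N27517 = N18914 := ded_50_1 (flp_h L160602) (flp_g L160600) L233048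
theorem L233056 : sm gd N18914 = N27518 := rfl
theorem L233059 : sm gb N27518 = N18928 := ded_20_1 (flp_d L160724) (flp_b L160605) L233056
theorem L233065 : sm gh N27518 = N19182 := ded_38_2 (flp_d L162839) (flp_h L112394) (flp_d L110790) L160602 L233056
theorem L233101 : sm gj N18919 = N27523 := rfl
theorem L233106 : sm gf N27523 = N18922 := ded_46_1 (flp_j L160672) (flp_f L160654) L233101
theorem L233109 : sm gi N18919 = N27524 := rfl
theorem L233114 : sm gf N27524 = N18923 := ded_48_1 (flp_i L160681) (flp_f L160654) L233109
theorem L233116 : sm gg N27524 = N18920 := ded_51_1 (flp_i L160656) L160648 L233109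
theorem L233118 : sm gh N18920 = N27525 := rfl
theorem L233125 : sm gd N18921 = N27526 := rfl
theorem L233129 : sm gg N27526 = N18925 := ded_36_2 (flp_d L160700) (flp_g L160669) L233125
theorem L233144 : sm gh N18923 = N27528 := rfl
theorem L233153 : sm gd N18924 = N27529 := rfl
theorem L233157 : sm gf N27529 = N18925 := ded_35_2 (flp_d L160700) (flp_f L160696) L233153
theorem L233197 : sm ge N18928 = N27534 := rfl
theorem L233213 : sm gj N18930 = N27536 := rfl
theorem L233221 : sm gi N18930 = N27537 := rfl
theorem L233314 : sm gd N18941 = N27549 := rfl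
theorem L233318 : sm gj N27549 = N18942 := ded_37_2 (flp_d L160833) (flp_j L160830) L233314
theorem L233364 : sm gf N18946 = N27555 := rfl
theorem L233368 : sm gc N27555 = N18948 := ded_29_1 (flp_f L160885) (flp_c L160869) L233364
theorem L233389 : sm gi N18947 = N27558 := rfl
theorem L233410 : sm gh N18948 = N27560 := rfl
theorem L233415 : sm gf N27560 = N18949 := ded_47_1 (flp_h L160894) L160885 L233410
theorem L233418 : sm gd N18949 = N27561 := rfl
theorem L233423 : sm gg N27561 = N18950 := ded_36_2 (flp_d L160904) (flp_g L160901) L233418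
theorem L233428 : sm gi N18949 = N27562 := rfl
theorem L233439 : sm gc N18950 = N27563 := rfl
theorem L233444 : sm gh N27563 = N18955 := ded_32_2 (flp_c L160951) (flp_h L160911) L233439
theorem L233446 : sm ge N18950 = N27564 := rfl
theorem L233453 : sm gh N27564 = N18956 := ded_43_2 (flp_e L160956) (flp_h L160911) L233446
theorem L233455 : sm gd N27564 = N19204 := ded_34_1 (flp_e L163031) (flp_d L112528) (flp_e L111036) L160904 L233446
theorem L233457 : sm gi N18950 = N27565 := rfl
theorem L233500 : sm gi N18953 = N27570 := rfl
theorem L233507 : sm gg N27570 = N18957 := ded_51_1 (flp_i L160965) (flp_g L160937) L233500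
theorem L233516 : sm ge N18955 = N27572 := rfl
theorem L233519 : sm gc N27572 = N18956 := ded_28_1 (flp_e L160956) L160951 L233516
theorem L233521 : sm gj N27572 = N19081 := ded_42_2 (flp_e L162038) (flp_j L160954) L233516
theorem L233530 : sm gf N18956 = N27574 := rfl
theorem L233550 : sm gh N18957 = N27576 := rfl
theorem L233558 : sm ge N18958 = N27577 := rfl
theorem L233564 : sm gg N27577 = N18961 := ded_41_2 (flp_e L161005) (flp_g L160978) L233558
theorem L233567 : sm gh N27577 = N19217 := ded_43_2 (flp_e L163152) (flp_h L160981) L233558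
theorem L233579 : sm gf N18959 = N27579 := rfl
theorem L233585 : sm gh N27579 = N19219 := ded_47_2 (flp_f L163172) (flp_h L160992) L233579
theorem L233588 : sm gi N18959 = N27580 := rfl
theorem L233595 : sm gg N27580 = N18964 := ded_51_1 (flp_i L161036) (flp_g L160989) L233588
theorem L233598 : sm gh N18960 = N27581 := rfl
theorem L233604 : sm gg N27581 = N18965 := ded_50_1 (flp_h L161045) (flp_g L161002) L233598
theorem L233608 : sm gi N27581 = N19221 := ded_54_2 (flp_h L163189) (flp_i L112621) (flp_h L111084) L160994 L233598
theorem L233610 : sm gd N18961 = N27582 := rfl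
theorem L233628 : sm gi N18961 = N27584 := rfl
theorem L233636 : sm gj N27584 = N19088 := ded_53_1 (flp_i L162089) (flp_j L161011) L233628
theorem L233670 : sm gh N18964 = N27588 := rfl
theorem L233677 : sm gj N27588 = N19092 := ded_52_1 (flp_h L162128) (flp_j L161043) L233670
theorem L233679 : sm gi N27588 = N19228 := ded_54_2 (flp_h L163254) (flp_i L112660) (flp_h L111113) L161036 L233670
theorem L233681 : sm gf N18966 = N27589 := rfl
theorem L233685 : sm gd N27589 = N18967 := ded_35_1 (flp_f L161064) L161057 L233681
theorem L233687 : sm gj N27589 = N19093 := ded_46_2 (flp_f L162138) (flp_j L161062) L233681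
theorem L233716 : sm gi N18967 = N27593 := rfl
theorem L233799 : sm gd N18974 = N27601 := rfl
theorem L233806 : sm gh N27601 = N18980 := ded_38_2 (flp_d L161190) (flp_h L111213) (flp_d L111181) L161135 L233799
theorem L233808 : sm gi N18974 = N27602 := rfl
theorem L233817 : sm gc N18975 = N27603 := rfl
theorem L233821 : sm gg N27603 = N18977 := ded_30_2 (flp_c L161163) (flp_g L161147) L233817
theorem L233824 : sm gh N27603 = N18982 := ded_32_2 (flp_c L161208) (flp_h L161150) L233817
theorem L233827 : sm ge N18975 = N27604 := rfl
theorem L233834 : sm gh N27604 = N18983 := ded_43_2 (flp_e L161217) (flp_h L161150) L233827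
theorem L233836 : sm gd N27604 = N19244 := ded_34_1 (flp_e L163405) (flp_d L112761) (flp_e L111190) L161143 L233827
theorem L233838 : sm gi N18975 = N27605 := rfl
theorem L233844 : sm gg N27605 = N18979 := ded_51_1 (flp_i L161182) (flp_g L161147) L233838
theorem L233847 : sm gb N18977 = N27606 := rfl
theorem L233850 : sm gj N27606 = N19104 := ded_24_2 (flp_b L162236) (flp_j L161167) L233847
theorem L233883 : sm gi N18978 = N27610 := rfl
theorem L233891 : sm gj N27610 = N19108 := ded_53_1 (flp_i L162267) (flp_j L161176) L233883
theorem L233893 : sm gh N18979 = N27611 := rfl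
theorem L233897 : sm gj N27611 = N19109 := ded_52_1 (flp_h L162276) (flp_j L161188) L233893
theorem L233917 : sm gi N18980 = N27614 := rfl
theorem L233923 : sm gf N27614 = N18984 := ded_48_1 (flp_i L161226) (flp_f L161194) L233917
theorem L233926 : sm gb N18982 = N27615 := rfl
theorem L233930 : sm gg N27615 = N18985 := ded_23_2 (flp_b L161235) (flp_g L161212) L233926
theorem L233954 : sm gf N18983 = N27618 := rfl
theorem L233961 : sm gi N18983 = N27619 := rfl
theorem L233969 : sm gg N27619 = N18989 := ded_51_1 (flp_i L161268) (flp_g L161221) L233961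
theorem L233972 : sm gh N18984 = N27620 := rfl
theorem L233980 : sm ga N18985 = N27621 := rfl
theorem L233982 : sm gd N27621 = N19007 := ded_12_2 (flp_a L161438) (flp_d L161237) L233980
theorem L233988 : sm ge N18985 = N27622 := rfl
theorem L233992 : sm gj N27622 = N19111 := ded_42_2 (flp_e L162291) (flp_j L161239) L233988
theorem L234023 : sm gh N18987 = N27626 := rfl
theorem L234029 : sm gj N27626 = N19115 := ded_52_1 (flp_h L162321) (flp_j L161258) L234023
theorem L234037 : sm gi N18988 = N27628 := rfl
theorem L234043 : sm gf N27628 = N18989 := ded_48_1 (flp_i L161268) L161260 L234037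
theorem L234045 : sm gj N27628 = N19117 := ded_53_1 (flp_i L162335) (flp_j L161266) L234037
theorem L234047 : sm gh N18989 = N27629 := rfl
theorem L234065 : sm gi N18991 = N27631 := rfl
theorem L234071 : sm gf N27631 = N18992 := ded_48_1 (flp_i L161294) L161285 L234065
theorem L234074 : sm gh N18992 = N27632 := rfl
theorem L234081 : sm gg N27632 = N18996 := ded_50_1 (flp_h L161336) (flp_g L161301) L234074
theorem L234086 : sm gj N18994 = N27633 := rfl
theorem L234093 : sm gh N27633 = N19273 := ded_52_2 (flp_j L163667) (flp_h L161323) L234086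
theorem L234095 : sm gg N27633 = N19119 := ded_49_1 (flp_j L162350) (flp_g L112019) (flp_j L111292) L161316 L234086
theorem L234119 : sm gd N18996 = N27636 := rfl
theorem L234123 : sm gj N27636 = N19122 := ded_37_2 (flp_d L162381) (flp_j L161343) L234119
theorem L234125 : sm gi N27636 = N19276 := ded_39_2 (flp_d L163696) (flp_i L161345) L234119
theorem L234128 : sm gi N18997 = N27637 := rfl
theorem L234136 : sm gj N27637 = N18998 := ded_53_1 (flp_i L161357) L161347 L234128
theorem L234148 : sm gd N18999 = N27639 := rfl
theorem L234150 : sm ga N27639 = N19049 := ded_12_1 (flp_d L161782) (flp_a L161367) L234148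
theorem L234156 : sm gi N27639 = N19279 := ded_39_2 (flp_d L163722) (flp_i L161374) L234148
theorem L234169 : sm gb N19001 = N27641 := rfl
theorem L234171 : sm gf N27641 = N19004 := ded_22_2 (flp_b L161411) (flp_f L161390) L234169
theorem L234220 : sm gi N19004 = N27647 := rfl
theorem L234225 : sm gg N27647 = N19008 := ded_51_1 (flp_i L161446) (flp_g L161414) L234220
theorem L234239 : sm gi N19007 = N27649 := rfl
theorem L234248 : sm gh N19008 = N27650 := rfl
theorem L234253 : sm gj N27650 = N19128 := ded_52_1 (flp_h L162435) (flp_j L161451) L234248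
theorem L234256 : sm gd N19009 = N27651 := rfl
theorem L234264 : sm gd N19010 = N27652 := rfl
theorem L234267 : sm gf N27652 = N19292 := ded_35_2 (flp_d L163851) (flp_f L161469) L234264
theorem L234281 : sm gc N19011 = N27654 := rfl
theorem L234283 : sm gf N27654 = N19013 := ded_29_2 (flp_c L161488) (flp_f L161475) L234281
theorem L234286 : sm gh N27654 = N19022 := ded_32_2 (flp_c L161563) (flp_h L161478) L234281
theorem L234289 : sm ge N19011 = N27655 := rfl
theorem L234293 : sm gh N27655 = N19023 := ded_43_2 (flp_e L161570) (flp_h L161478) L234289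
theorem L234312 : sm ge N19013 = N27658 := rfl
theorem L234319 : sm gh N27658 = N19026 := ded_43_2 (flp_e L161591) (flp_h L161493) L234312
theorem L234321 : sm gi N19013 = N27659 := rfl
theorem L234337 : sm gi N19014 = N27661 := rfl
theorem L234344 : sm gg N27661 = N19020 := ded_51_1 (flp_i L161546) (flp_g L161499) L234337
theorem L234364 : sm ge N19016 = N27664 := rfl
theorem L234369 : sm gj N27664 = N19131 := ded_42_2 (flp_e L162456) (flp_j L161517) L234364
theorem L234371 : sm gh N27664 = N19032 := ded_43_2 (flp_e L161638) (flp_h L161519) L234364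
theorem L234381 : sm gd N19017 = N27666 := rfl
theorem L234383 : sm gj N27666 = N19133 := ded_37_2 (flp_d L162471) (flp_j L161526) L234381
theorem L234385 : sm gc N27666 = N19306 := ded_27_1 (flp_d L163967) L113147 (flp_d L111456) (flp_c L161524) L234381
theorem L234389 : sm gf N19017 = N27667 := rfl
theorem L234391 : sm gc N27667 = N19019 := ded_29_1 (flp_f L161537) (flp_c L161524) L234389
theorem L234420 : sm gi N19019 = N27671 := rfl
theorem L234425 : sm gf N27671 = N19020 := ded_48_1 (flp_i L161546) L161537 L234420
theorem L234429 : sm gh N19020 = N27672 := rfl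
theorem L234451 : sm gi N19022 = N27675 := rfl
theorem L234457 : sm gf N27675 = N19027 := ded_48_1 (flp_i L161599) (flp_f L161565) L234451
theorem L234460 : sm gf N19023 = N27676 := rfl
theorem L234465 : sm ge N27676 = N19028 := ded_40_1 (flp_f L161608) (flp_e L111488) (flp_f L111468) L161570 L234460
theorem L234467 : sm gi N19023 = N27677 := rfl
theorem L234508 : sm gf N19026 = N27682 := rfl
theorem L234510 : sm gc N27682 = N19028 := ded_29_1 (flp_f L161608) (flp_c L161593) L234508
theorem L234524 : sm gh N19027 = N27684 := rfl
theorem L234531 : sm gg N19028 = N27685 := rfl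
theorem L234534 : sm gd N27685 = N19040 := ded_36_1 (flp_g L161698) (flp_d L161611) L234531
theorem L234538 : sm gi N19028 = N27686 := rfl
theorem L234543 : sm gf N27686 = N19029 := ded_48_1 (flp_i L161614) L161608 L234538
theorem L234546 : sm gh N19029 = N27687 := rfl
theorem L234554 : sm ge N19031 = N27688 := rfl
theorem L234556 : sm ga N27688 = N19032 := ded_13_1 (flp_e L161638) L161631 L234554
theorem L234559 : sm gj N27688 = N19140 := ded_42_2 (flp_e L162521) (flp_j L161636) L234554
theorem L234589 : sm gh N19033 = N27692 := rfl
theorem L234594 : sm gj N27692 = N19144 := ded_52_1 (flp_h L162551) (flp_j L161653) L234589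
theorem L234596 : sm gg N19034 = N27693 := rfl
theorem L234625 : sm gj N19037 = N27697 := rfl
theorem L234630 : sm gg N27697 = N19149 := ded_49_1 (flp_j L162583) (flp_g L112187) (flp_j L111531) L161677 L234625
theorem L234632 : sm gi N19037 = N27698 := rfl
theorem L234637 : sm gg N27698 = N19038 := ded_51_1 (flp_i L161682) L161677 L234632
theorem L234639 : sm gh N19038 = N27699 := rfl
theorem L234642 : sm gf N27699 = N19039 := ded_47_1 (flp_h L161691) (flp_f L161687) L234639
theorem L234644 : sm gj N27699 = N19151 := ded_52_1 (flp_h L162597) (flp_j L161689) L234639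
theorem L234646 : sm gd N19039 = N27700 := rfl
theorem L234652 : sm gh N27700 = N19046 := ded_38_2 (flp_d L161756) (flp_h L111594) (flp_d L111536) L161691 L234646
theorem L234664 : sm gi N19040 = N27702 := rfl
theorem L234669 : sm gf N27702 = N19044 := ded_48_1 (flp_i L161736) (flp_f L161705) L234664
theorem L234702 : sm gh N19044 = N27706 := rfl
theorem L234710 : sm gi N27706 = N19346 := ded_54_2 (flp_h L164294) (flp_i L113361) (flp_h L111582) L161736 L234702
theorem L234721 : sm gc N19046 = N27708 := rfl
theorem L234724 : sm gj N27708 = N19156 := ded_31_2 (flp_c L162636) (flp_j L161759) L234721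
theorem L234726 : sm gi N27708 = N19348 := ded_33_2 (flp_c L164309) (flp_i L161761) L234721
theorem L234740 : sm gd N19048 = N27710 := rfl
theorem L234746 : sm gi N27710 = N19350 := ded_39_2 (flp_d L164324) (flp_i L161780) L234740
theorem L234748 : sm gc N19049 = N27711 := rfl
theorem L234757 : sm ge N19049 = N27712 := rfl
theorem L234760 : sm gj N27712 = N19160 := ded_42_2 (flp_e L162669) (flp_j L161787) L234757
theorem L234762 : sm gi N27712 = N19352 := ded_44_2 (flp_e L164339) (flp_i L161789) L234757
theorem L234775 : sm ga N19051 = N27714 := rfl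
theorem L234779 : sm gf N27714 = N19056 := ded_14_2 (flp_a L161840) (flp_f L161802) L234775
theorem L234783 : sm ge N19051 = N27715 := rfl
theorem L234785 : sm gb N27715 = N19052 := ded_21_1 (flp_e L161808) L161800 L234783
theorem L234787 : sm gc N27715 = N19063 := ded_28_1 (flp_e L161900) (flp_c L161806) L234783
theorem L234831 : sm gi N19056 = N27721 := rfl
theorem L234838 : sm gg N27721 = N19059 := ded_51_1 (flp_i L161868) (flp_g L161845) L234831
theorem L234859 : sm gh N19059 = N27724 := rfl
theorem L234890 : sm gi N19062 = N27728 := rfl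
theorem L234895 : sm gf N27728 = N19069 := ded_48_1 (flp_i L161944) (flp_f L161896) L234890
theorem L234905 : sm gi N19063 = N27730 := rfl
theorem L234945 : sm gd N19067 = N27735 := rfl
theorem L234960 : sm gh N19069 = N27737 := rfl
theorem L234962 : sm ga N27737 = N19070 := ded_17_1 (flp_h L161953) (flp_a L161946) L234960
theorem L234969 : sm gd N19070 = N27738 := rfl
theorem L234973 : sm gg N27738 = N19073 := ded_36_2 (flp_d L161978) (flp_g L161958) L234969
theorem L235108 : sm gd N19081 = N27756 := rfl
theorem L235114 : sm gf N19081 = N27757 := rfl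
theorem L235119 : sm gi N19081 = N27758 := rfl
theorem L235122 : sm gc N27758 = N19084 := ded_33_1 (flp_i L162057) (flp_c L162041) L235119
theorem L235124 : sm ge N27758 = N19082 := ded_44_1 (flp_i L162044) L162038 L235119
theorem L235127 : sm gh N19082 = N27759 := rfl
theorem L235150 : sm gh N19084 = N27762 := rfl
theorem L235199 : sm gh N19088 = N27768 := rfl
theorem L235240 : sm gh N19091 = N27772 := rfl
theorem L235247 : sm gf N27772 = N19092 := ded_47_1 (flp_h L162128) (flp_f L162126) L235240
theorem L235249 : sm gi N27772 = N19412 := ded_54_2 (flp_h L164857) (flp_i L113765) (flp_h L111868) L162119 L235240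
theorem L235251 : sm gd N19092 = N27773 := rfl
theorem L235280 : sm gi N19093 = N27777 := rfl
theorem L235312 : sm gi N19096 = N27781 := rfl
theorem L235320 : sm gg N27781 = N19097 := ded_51_1 (flp_i L162170) L162160 L235312
theorem L235322 : sm gh N19097 = N27782 := rfl
theorem L235330 : sm gi N27782 = N19422 := ded_54_2 (flp_h L164938) (flp_i L113815) (flp_h L111903) L162170 L235322
theorem L235358 : sm gh N19101 = N27786 := rfl
theorem L235363 : sm gf N27786 = N19181 := ded_47_1 (flp_h L162829) (flp_f L162213) L235358
theorem L235367 : sm gi N27786 = N19426 := ded_54_2 (flp_h L164970) (flp_i L113849) (flp_h L111930) L162208 L235358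
theorem L235401 : sm gi N19104 = N27791 := rfl
theorem L235451 : sm gi N19107 = N27797 := rfl
theorem L235457 : sm gf N27797 = N19108 := ded_48_1 (flp_i L162267) L162259 L235451
theorem L235459 : sm gh N19108 = N27798 := rfl
theorem L235461 : sm ga N27798 = N19139 := ded_17_1 (flp_h L162513) (flp_a L162269) L235459
theorem L235466 : sm gi N27798 = N19118 := ded_54_2 (flp_h L162343) (flp_i L112004) (flp_h L111965) L162267 L235459
theorem L235485 : sm gf N19111 = N27801 := rfl
theorem L235487 : sm gb N27801 = N19113 := ded_22_1 (flp_f L162304) (flp_b L162293) L235485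
theorem L235490 : sm gi N19111 = N27802 := rfl
theorem L235498 : sm gh N19112 = N27803 := rfl
theorem L235500 : sm gb N27803 = N19115 := ded_25_1 (flp_h L162321) (flp_b L162299) L235498
theorem L235503 : sm gg N19113 = N27804 := rfl
theorem L235529 : sm gd N19115 = N27807 := rfl
theorem L235553 : sm gh N19117 = N27810 := rfl
theorem L235559 : sm gd N19118 = N27811 := rfl
theorem L235565 : sm gh N27811 = N19122 := ded_38_2 (flp_d L162381) (flp_h L112038) (flp_d L112008) L162343 L235559
theorem L235567 : sm gi N19119 = N27812 := rfl
theorem L235597 : sm gc N19122 = N27815 := rfl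
theorem L235696 : sm gf N19131 = N27827 := rfl
theorem L235701 : sm gh N27827 = N19142 := ded_47_2 (flp_f L162536) (flp_h L162462) L235696
theorem L235711 : sm gh N19132 = N27829 := rfl
theorem L235717 : sm gi N27829 = N19144 := ded_54_2 (flp_h L162551) (flp_i L112161) (flp_h L112110) L162464 L235711
theorem L235747 : sm gh N19135 = N27834 := rfl
theorem L235754 : sm gi N27834 = N19147 := ded_54_2 (flp_h L162570) (flp_i L112174) (flp_h L112118) L162484 L235747
theorem L235771 : sm gi N19137 = N27837 := rfl
theorem L235786 : sm gd N19139 = N27839 := rfl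
theorem L235793 : sm gh N27839 = N19479 := ded_38_2 (flp_d L165395) (flp_h L114154) (flp_d L112136) L162513 L235786
theorem L235801 : sm gi N19140 = N27841 := rfl
theorem L235807 : sm ge N27841 = N19141 := ded_44_1 (flp_i L162528) L162521 L235801
theorem L235823 : sm gi N19142 = N27844 := rfl
theorem L235884 : sm gh N19150 = N27853 := rfl
theorem L235890 : sm gd N19151 = N27854 := rfl
theorem L235895 : sm gh N27854 = N19155 := ded_38_2 (flp_d L162629) (flp_h L112224) (flp_d L112196) L162597 L235890
theorem L235914 : sm gd N19154 = N27857 := rfl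
theorem L235918 : sm gg N27857 = N19155 := ded_36_2 (flp_d L162629) (flp_g L162625) L235914
theorem L235920 : sm gi N27857 = N19497 := ded_39_2 (flp_d L165529) (flp_i L162627) L235914
theorem L235937 : sm gb N19156 = N27860 := rfl
theorem L235942 : sm gi N27860 = N19500 := ded_26_2 (flp_b L165546) (flp_i L162640) L235937
theorem L235945 : sm gd N19157 = N27861 := rfl
theorem L235952 : sm gi N27861 = N19501 := ded_39_2 (flp_d L165552) (flp_i L162651) L235945
theorem L235954 : sm gc N19158 = N27862 := rfl
theorem L235960 : sm gi N27862 = N19502 := ded_33_2 (flp_c L165560) (flp_i L162660) L235954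
theorem L235978 : sm ge N19159 = N27865 := rfl
theorem L235980 : sm gc N27865 = N19160 := ded_28_1 (flp_e L162669) L162662 L235978
theorem L235982 : sm gi N27865 = N19505 := ded_44_2 (flp_e L165581) (flp_i L162666) L235978
theorem L236131 : sm gi N19175 = N27886 := rfl
theorem L236187 : sm gh N19180 = N27892 := rfl
theorem L236194 : sm gj N27892 = N19181 := ded_52_1 (flp_h L162829) (flp_j L162827) L236187
theorem L236196 : sm gi N27892 = N19532 := ded_54_2 (flp_h L165795) (flp_i L114463) (flp_h L112383) L162820 L236187
theorem L236198 : sm gd N19181 = N27893 := rfl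
theorem L236215 : sm ge N19182 = N27895 := rfl
theorem L236221 : sm gi N27895 = N19535 := ded_44_2 (flp_e L165819) (flp_i L162847) L236215
theorem L236372 : sm gd N19196 = N27913 := rfl
theorem L236376 : sm gg N27913 = N19197 := ded_36_2 (flp_d L162968) (flp_g L162965) L236372
theorem L236380 : sm gi N19196 = N27914 := rfl
theorem L236406 : sm gi N19197 = N27917 := rfl
theorem L236424 : sm gd N19200 = N27919 := rfl
theorem L236427 : sm gb N27919 = N19241 := ded_20_1 (flp_d L163375) (flp_b L162998) L236424
theorem L236433 : sm gh N27919 = N19206 := ded_38_2 (flp_d L163050) (flp_h L112547) (flp_d L112515) L162995 L236424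
theorem L236445 : sm gc N19201 = N27921 := rfl
theorem L236448 : sm gg N27921 = N19203 := ded_30_2 (flp_c L163023) (flp_g L163009) L236445
theorem L236451 : sm gh N27921 = N19208 := ded_32_2 (flp_c L163071) (flp_h L163012) L236445
theorem L236463 : sm gi N19201 = N27923 := rfl
theorem L236473 : sm gb N19203 = N27924 := rfl
theorem L236478 : sm gh N27924 = N19211 := ded_25_2 (flp_b L163098) (flp_h L163029) L236473
theorem L236480 : sm gc N27924 = N19246 := ded_19_2 (flp_b L163423) (flp_c L112779) (flp_b L112531) L163023 L236473
theorem L236482 : sm ge N19203 = N27925 := rfl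
theorem L236487 : sm gj N27925 = N19388 := ded_42_2 (flp_e L164662) (flp_j L163027) L236482
theorem L236499 : sm gf N19204 = N27927 := rfl
theorem L236506 : sm gh N27927 = N19214 := ded_47_2 (flp_f L163122) (flp_h L163038) L236499
theorem L236509 : sm gi N19204 = N27928 := rfl
theorem L236516 : sm gj N27928 = N19391 := ded_53_1 (flp_i L164685) (flp_j L163036) L236509
theorem L236537 : sm ge N19206 = N27931 := rfl
theorem L236545 : sm gi N19206 = N27932 := rfl
theorem L236552 : sm gf N27932 = N19210 := ded_48_1 (flp_i L163088) (flp_f L163055) L236545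
theorem L236556 : sm gb N19208 = N27933 := rfl
theorem L236562 : sm gc N27933 = N19255 := ded_19_2 (flp_b L163505) (flp_c L112826) (flp_b L112561) L163071 L236556
theorem L236564 : sm ge N19208 = N27934 := rfl
theorem L236601 : sm gh N19210 = N27938 := rfl
theorem L236627 : sm gi N19211 = N27941 := rfl
theorem L236629 : sm gb N27941 = N19213 := ded_26_1 (flp_i L163113) L163098 L236627
theorem L236662 : sm gh N19213 = N27945 := rfl
theorem L236668 : sm gj N27945 = N19399 := ded_52_1 (flp_h L164748) (flp_j L163120) L236662
theorem L236690 : sm gh N19215 = N27948 := rfl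
theorem L236699 : sm gd N19217 = N27949 := rfl
theorem L236703 : sm gg N27949 = N19222 := ded_36_2 (flp_d L163199) (flp_g L163158) L236699
theorem L236744 : sm gi N19219 = N27954 := rfl
theorem L236747 : sm gb N27954 = N19271 := ded_26_1 (flp_i L163648) (flp_b L163175) L236744
theorem L236753 : sm gh N19220 = N27955 := rfl
theorem L236756 : sm gb N27955 = N19272 := ded_25_1 (flp_h L163657) (flp_b L163182) L236753
theorem L236760 : sm gg N27955 = N19228 := ded_50_1 (flp_h L163254) (flp_g L163186) L236753
theorem L236763 : sm gf N19222 = N27956 := rfl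
theorem L236767 : sm gd N27956 = N19223 := ded_35_1 (flp_f L163206) L163199 L236763
theorem L236769 : sm gj N27956 = N19403 := ded_46_2 (flp_f L164782) (flp_j L163203) L236763
theorem L236787 : sm gg N19223 = N27959 := rfl
theorem L236791 : sm gc N27959 = N19226 := ded_30_1 (flp_g L163236) (flp_c L163210) L236787
theorem L236793 : sm ge N27959 = N19232 := ded_41_1 (flp_g L163292) (flp_e L163214) L236787
theorem L236807 : sm gh N19224 = N27961 := rfl
theorem L236836 : sm gi N19226 = N27964 := rfl
theorem L236841 : sm ge N27964 = N19237 := ded_44_1 (flp_i L163338) (flp_e L163241) L236836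
theorem L236856 : sm gd N19228 = N27966 := rfl
theorem L236864 : sm ge N19229 = N27967 := rfl
theorem L236872 : sm gg N19229 = N27968 := rfl
theorem L236877 : sm gd N27968 = N19232 := ded_36_1 (flp_g L163292) (flp_d L163268) L236872
theorem L236918 : sm gj N19232 = N27973 := rfl
theorem L236936 : sm gh N19233 = N27975 := rfl
theorem L236944 : sm gj N27975 = N19422 := ded_52_1 (flp_h L164938) (flp_j L163307) L236936
theorem L236973 : sm gh N19237 = N27979 := rfl
theorem L236979 : sm gg N27979 = N19238 := ded_50_1 (flp_h L163347) (flp_g L163345) L236973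
theorem L236981 : sm gd N19238 = N27980 := rfl
theorem L236988 : sm gj N27980 = N19427 := ded_37_2 (flp_d L164979) (flp_j L163354) L236981
theorem L237006 : sm gi N19240 = N27983 := rfl
theorem L237011 : sm ge N27983 = N19242 := ded_44_1 (flp_i L163385) (flp_e L163371) L237006
theorem L237016 : sm gc N19241 = N27984 := rfl
theorem L237024 : sm gh N27984 = N19252 := ded_32_2 (flp_c L163478) (flp_h L163383) L237016
theorem L237027 : sm ge N19241 = N27985 := rfl
theorem L237029 : sm ga N27985 = N19295 := ded_13_1 (flp_e L163875) (flp_a L163377) L237027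
theorem L237053 : sm ge N19243 = N27988 := rfl
theorem L237059 : sm gg N27988 = N19247 := ded_41_2 (flp_e L163431) (flp_g L163399) L237053
theorem L237064 : sm gi N19243 = N27989 := rfl
theorem L237074 : sm gf N19244 = N27990 := rfl
theorem L237081 : sm gi N19244 = N27991 := rfl
theorem L237118 : sm gi N19246 = N27995 := rfl
theorem L237124 : sm gj N27995 = N19431 := ded_53_1 (flp_i L165010) (flp_j L163427) L237118
theorem L237166 : sm gg N19249 = N28000 := rfl
theorem L237168 : sm ga N28000 = N19310 := ded_15_1 (flp_g L163999) (flp_a L163453) L237166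
theorem L237171 : sm gh N28000 = N19267 := ded_50_2 (flp_g L163614) (flp_h L163457) L237166
theorem L237173 : sm gi N19249 = N28001 := rfl
theorem L237180 : sm gj N28001 = N19437 := ded_53_1 (flp_i L165060) (flp_j L163455) L237173
theorem L237192 : sm gb N19252 = N28003 := rfl
theorem L237194 : sm gd N28003 = N19281 := ded_20_2 (flp_b L163741) (flp_d L163486) L237192
theorem L237200 : sm ge N19252 = N28004 := rfl
theorem L237255 : sm ge N19255 = N28010 := rfl
theorem L237257 : sm gb N28010 = N19256 := ded_21_1 (flp_e L163512) L163505 L237255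
theorem L237259 : sm gg N28010 = N19262 := ded_41_2 (flp_e L163568) (flp_g L163509) L237255
theorem L237272 : sm gf N19256 = N28012 := rfl
theorem L237292 : sm gh N19257 = N28014 := rfl
theorem L237318 : sm gh N19259 = N28017 := rfl
theorem L237401 : sm gd N19266 = N28026 := rfl
theorem L237406 : sm gj N28026 = N19447 := ded_37_2 (flp_d L165142) (flp_j L163612) L237401
theorem L237409 : sm gh N28026 = N19291 := ded_38_2 (flp_d L163842) (flp_h L113075) (flp_d L112875) L163605 L237401
theorem L237420 : sm gi N19267 = N28028 := rfl
theorem L237427 : sm gg N28028 = N19268 := ded_51_1 (flp_i L163621) L163614 L237420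
theorem L237429 : sm gh N19268 = N28029 := rfl
theorem L237466 : sm gh N19271 = N28033 := rfl
theorem L237475 : sm gd N19272 = N28034 := rfl
theorem L237479 : sm gg N28034 = N19276 := ded_36_2 (flp_d L163696) (flp_g L163664) L237475
theorem L237511 : sm gc N19276 = N28038 := rfl
theorem L237519 : sm gh N19277 = N28039 := rfl
theorem L237537 : sm gc N19279 = N28041 := rfl
theorem L237541 : sm gf N28041 = N19280 := ded_29_2 (flp_c L163731) (flp_f L163726) L237537
theorem L237563 : sm ga N19281 = N28044 := rfl
theorem L237571 : sm gb N28044 = N19354 := ded_10_2 (flp_a L164355) (flp_b L113418) (flp_a L112999) L163741 L237563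
theorem L237591 : sm gd N19282 = N28047 := rfl
theorem L237593 : sm ga N28047 = N19357 := ded_12_1 (flp_d L164384) (flp_a L163751) L237591
theorem L237610 : sm gh N19283 = N28049 := rfl
theorem L237616 : sm gf N28049 = N19288 := ded_47_1 (flp_h L163810) (flp_f L163765) L237610
theorem L237653 : sm gd N19288 = N28053 := rfl
theorem L237655 : sm ga N28053 = N19363 := ded_12_1 (flp_d L164439) (flp_a L163812) L237653
theorem L237657 : sm gg N28053 = N19291 := ded_36_2 (flp_d L163842) (flp_g L163817) L237653
theorem L237662 : sm gh N19289 = N28054 := rfl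
theorem L237671 : sm gj N28054 = N19461 := ded_52_1 (flp_h L165256) (flp_j L163830) L237662
theorem L237682 : sm ge N19291 = N28056 := rfl
theorem L237697 : sm ge N19292 = N28058 := rfl
theorem L237703 : sm gd N28058 = N19295 := ded_34_1 (flp_e L163875) (flp_d L113094) (flp_e L113090) L163851 L237697
theorem L237739 : sm gf N19295 = N28063 := rfl
theorem L237743 : sm gh N28063 = N19316 := ded_47_2 (flp_f L164047) (flp_h L163880) L237739
theorem L237747 : sm gi N19295 = N28064 := rfl
theorem L237764 : sm ga N19297 = N28066 := rfl
theorem L237768 : sm gg N28066 = N19303 := ded_15_2 (flp_a L163940) (flp_g L163894) L237764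
theorem L237783 : sm gi N19297 = N28068 := rfl
theorem L237785 : sm gb N28068 = N19299 := ded_26_1 (flp_i L163909) L163891 L237783
theorem L237799 : sm gf N19298 = N28070 := rfl
theorem L237804 : sm gh N28070 = N19322 := ded_47_2 (flp_f L164097) (flp_h L163907) L237799
theorem L237806 : sm gi N19298 = N28071 := rfl
theorem L237856 : sm gi N19303 = N28077 := rfl
theorem L237858 : sm ga N28077 = N19305 := ded_18_1 (flp_i L163958) L163940 L237856
theorem L237863 : sm gj N28077 = N19465 := ded_53_1 (flp_i L165290) (flp_j L163945) L237856
theorem L237883 : sm gi N19304 = N28080 := rfl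
theorem L237888 : sm ge N28080 = N19305 := ded_44_1 (flp_i L163958) L163949 L237883
theorem L237892 : sm gh N19305 = N28081 := rfl
theorem L237894 : sm gb N28081 = N19309 := ded_25_1 (flp_h L163990) (flp_b L163960) L237892
theorem L237900 : sm gi N28081 = N19332 := ded_54_2 (flp_h L164180) (flp_i L113272) (flp_h L113142) L163958 L237892
theorem L237902 : sm gf N19306 = N28082 := rfl
theorem L237904 : sm gd N28082 = N19307 := ded_35_1 (flp_f L163973) L163967 L237902
theorem L237906 : sm gj N28082 = N19470 := ded_46_2 (flp_f L165330) (flp_j L163969) L237902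
theorem L237909 : sm gi N19306 = N28083 := rfl
theorem L237914 : sm gj N28083 = N19471 := ded_53_1 (flp_i L165335) (flp_j L163969) L237909
theorem L237923 : sm gi N19307 = N28085 := rfl
theorem L237932 : sm gh N19308 = N28086 := rfl
theorem L237938 : sm gj N28086 = N19474 := ded_52_1 (flp_h L165356) (flp_j L163988) L237932
theorem L237940 : sm gi N28086 = N19335 := ded_54_2 (flp_h L164204) (flp_i L113290) (flp_h L113151) L163982 L237932
theorem L237942 : sm gd N19309 = N28087 := rfl
theorem L237945 : sm gj N28087 = N19475 := ded_37_2 (flp_d L165365) (flp_j L163995) L237942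
theorem L237947 : sm gi N28087 = N19336 := ded_39_2 (flp_d L164212) (flp_i L163997) L237942
theorem L237951 : sm gj N19310 = N28088 := rfl
theorem L237955 : sm gh N28088 = N19337 := ded_52_2 (flp_j L164220) (flp_h L164003) L237951
theorem L237957 : sm gg N28088 = N19476 := ded_49_1 (flp_j L165373) (flp_g L114141) (flp_j L113164) L163999 L237951
theorem L237959 : sm gi N19310 = N28089 := rfl
theorem L237992 : sm ge N19313 = N28093 := rfl
theorem L237994 : sm gb N28093 = N19314 := ded_21_1 (flp_e L164031) L164022 L237992
theorem L238024 : sm gi N19314 = N28097 := rfl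
theorem L238026 : sm gc N28097 = N19317 := ded_33_1 (flp_i L164054) (flp_c L164033) L238024
theorem L238056 : sm gh N19317 = N28101 := rfl
theorem L238063 : sm ge N19319 = N28102 := rfl
theorem L238065 : sm ga N28102 = N19320 := ded_13_1 (flp_e L164078) L164070 L238063
theorem L238068 : sm gg N28102 = N19328 := ded_41_2 (flp_e L164143) (flp_g L164075) L238063
theorem L238072 : sm gi N19319 = N28103 := rfl
theorem L238074 : sm ga N28103 = N19321 := ded_18_1 (flp_i L164087) L164070 L238072
theorem L238082 : sm gf N19320 = N28104 := rfl
theorem L238100 : sm gh N19321 = N28106 := rfl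
theorem L238105 : sm gg N28106 = N19332 := ded_50_1 (flp_h L164180) (flp_g L164094) L238100
theorem L238108 : sm gg N19322 = N28107 := rfl
theorem L238113 : sm gf N28107 = N19333 := ded_45_1 (flp_g L164188) (flp_f L113282) (flp_g L113220) L164097 L238108
theorem L238123 : sm gh N19323 = N28109 := rfl
theorem L238172 : sm gf N19328 = N28115 := rfl
theorem L238174 : sm ga N28115 = N19330 := ded_14_1 (flp_f L164161) (flp_a L164145) L238172
theorem L238181 : sm gi N19328 = N28116 := rfl
theorem L238199 : sm gg N19330 = N28118 := rfl
theorem L238243 : sm gi N19333 = N28123 := rfl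
theorem L238249 : sm gg N28123 = N19334 := ded_51_1 (flp_i L164194) L164188 L238243
theorem L238251 : sm gh N19334 = N28124 := rfl
theorem L238260 : sm gd N19335 = N28125 := rfl
theorem L238262 : sm gj N28125 = N19490 := ded_37_2 (flp_d L165481) (flp_j L164210) L238260
theorem L238272 : sm gi N19337 = N28127 := rfl
theorem L238280 : sm gj N28127 = N19338 := ded_53_1 (flp_i L164228) L164220 L238272
theorem L238282 : sm gh N19338 = N28128 := rfl
theorem L238288 : sm gd N19339 = N28129 := rfl
theorem L238293 : sm gj N28129 = N19494 := ded_37_2 (flp_d L165507) (flp_j L164242) L238288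
theorem L238295 : sm gh N28129 = N19347 := ded_38_2 (flp_d L164302) (flp_h L113369) (flp_d L113315) L164236 L238288
theorem L238314 : sm gh N19342 = N28132 := rfl
theorem L238336 : sm gh N19345 = N28135 := rfl
theorem L238342 : sm gg N28135 = N19496 := ded_50_1 (flp_h L165520) (flp_g L164290) L238336
theorem L238344 : sm gj N28135 = N19346 := ded_52_1 (flp_h L164294) (flp_j L164292) L238336
theorem L238346 : sm gd N19346 = N28136 := rfl
theorem L238351 : sm gc N19347 = N28137 := rfl
theorem L238353 : sm gf N28137 = N19348 := ded_29_2 (flp_c L164309) (flp_f L164305) L238351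
theorem L238355 : sm gj N28137 = N19498 := ded_31_2 (flp_c L165535) (flp_j L164307) L238351
theorem L238358 : sm ge N19347 = N28138 := rfl
theorem L238363 : sm gd N28138 = N19352 := ded_34_1 (flp_e L164339) (flp_d L113402) (flp_e L113373) L164302 L238358
theorem L238366 : sm gb N19348 = N28139 := rfl
theorem L238373 : sm gd N19349 = N28140 := rfl
theorem L238377 : sm gg N28140 = N19501 := ded_36_2 (flp_d L165552) (flp_g L164320) L238373
theorem L238379 : sm gj N28140 = N19350 := ded_37_2 (flp_d L164324) (flp_j L164322) L238373
theorem L238431 : sm gi N19354 = N28147 := rfl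
theorem L238433 : sm ga N28147 = N19356 := ded_18_1 (flp_i L164374) L164355 L238431
theorem L238441 : sm gd N19355 = N28148 := rfl

end Cfsg.Agent.Helper28.FicA
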