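import Cfsg.Agent.Helper28.FicB20

/-! # The Fi₂₃ presentation, cosets of the subgroup generated by a, …, i: the coset enumeration, part 21 (helper28; generated) -/

set_option autoImplicit false

noncomputable section

namespace Cfsg.Agent.Helper28.FicA

open Cfsg.Agent.Helper28.CosetTable

theorem L238443 : sm gb N28148 = N19357 := ded_20_1 (flp_d L164384) (flp_b L164366) L238441
theorem L238459 : sm gh N19356 = N28150 := rfl
theorem L238465 : sm gf N28150 = N19362 := ded_47_1 (flp_h L164428) (flp_f L164380) L238459
theorem L238470 : sm gh N19357 = N28151 := rfl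
theorem L238485 : sm gh N19358 = N28153 := rfl
theorem L238487 : sm gc N28153 = N19360 := ded_32_1 (flp_h L164408) (flp_c L164392) L238485
theorem L238503 : sm gd N19360 = N28155 := rfl
theorem L238505 : sm gb N28155 = N19376 := ded_20_1 (flp_d L164557) (flp_b L164410) L238503
theorem L238524 : sm gd N19362 = N28157 := rfl
theorem L238526 : sm gb N28157 = N19363 := ded_20_1 (flp_d L164439) (flp_b L164430) L238524
theorem L238532 : sm ge N19363 = N28158 := rfl
theorem L238573 : sm gd N19367 = N28163 := rfl
theorem L238575 : sm ga N28163 = N19369 := ded_12_1 (flp_d L164491) (flp_a L164474) L238573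
theorem L238582 : sm gi N19367 = N28164 := rfl
theorem L238602 : sm gc N19369 = N28166 := rfl
theorem L238609 : sm gh N19369 = N28167 := rfl
theorem L238611 : sm gb N28167 = N19372 := ded_25_1 (flp_h L164517) (flp_b L164493) L238609
theorem L238618 : sm gi N19369 = N28168 := rfl
theorem L238648 : sm gi N19372 = N28171 := rfl
theorem L238657 : sm gh N19373 = N28172 := rfl
theorem L238665 : sm gd N19374 = N28173 := rfl
theorem L238680 : sm gc N19376 = N28175 := rfl
theorem L238786 : sm gi N19384 = N28187 := rfl
theorem L238789 : sm gc N28187 = N19386 := ded_33_1 (flp_i L164646) L164632 L238786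
theorem L238791 : sm gd N28187 = N19389 := ded_39_1 (flp_i L164670) (flp_d L164638) L238786
theorem L238801 : sm gi N19385 = N28189 := rfl
theorem L238805 : sm ge N28189 = N19386 := ded_44_1 (flp_i L164646) L164640 L238801
theorem L238808 : sm gh N19386 = N28190 := rfl
theorem L238842 : sm gd N19388 = N28194 := rfl
theorem L238846 : sm gf N19388 = N28195 := rfl
theorem L238851 : sm gh N28195 = N19397 := ded_47_2 (flp_f L164734) (flp_h L164668) L238846
theorem L238947 : sm gf N19396 = N28207 := rfl
theorem L238950 : sm gc N28207 = N19403 := ded_29_1 (flp_f L164782) (flp_c L164731) L238947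
theorem L238952 : sm gd N28207 = N19397 := ded_35_1 (flp_f L164734) L164727 L238947
theorem L238970 : sm gg N19397 = N28210 := rfl
theorem L239020 : sm gh N19401 = N28216 := rfl
theorem L239037 : sm ge N19403 = N28218 := rfl
theorem L239057 : sm gi N19403 = N28221 := rfl
theorem L239061 : sm gd N28221 = N19407 := ded_39_1 (flp_i L164811) (flp_d L164786) L239057
theorem L239063 : sm gf N28221 = N19405 := ded_48_1 (flp_i L164794) L164782 L239057
theorem L239065 : sm gi N19404 = N28222 := rfl
theorem L239071 : sm gh N19405 = N28223 := rfl
theorem L239139 : sm gd N19412 = N28231 := rfl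
theorem L239183 : sm gh N19415 = N28237 := rfl
theorem L239188 : sm gf N28237 = N19520 := ded_47_1 (flp_h L165700) (flp_f L164886) L239183
theorem L239190 : sm gg N28237 = N19416 := ded_50_1 (flp_h L164888) L164879 L239183
theorem L239235 : sm gi N19420 = N28243 := rfl
theorem L239241 : sm gf N28243 = N19526 := ded_48_1 (flp_i L165748) (flp_f L164926) L239235
theorem L239243 : sm gj N28243 = N19421 := ded_53_1 (flp_i L164928) L164920 L239235
theorem L239291 : sm gd N19426 = N28250 := rfl
theorem L239298 : sm gg N28250 = N19427 := ded_36_2 (flp_d L164979) (flp_g L164977) L239291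
theorem L239361 : sm gh N19431 = N28259 := rfl
theorem L239367 : sm gi N28259 = N19443 := ded_54_2 (flp_h L165108) (flp_i L113937) (flp_h L113880) L165010 L239361
theorem L239384 : sm gg N19433 = N28262 := rfl
theorem L239391 : sm gh N28262 = N19444 := ded_50_2 (flp_g L165114) (flp_h L165030) L239384
theorem L239394 : sm gi N19433 = N28263 := rfl
theorem L239401 : sm gf N28263 = N19434 := ded_48_1 (flp_i L165033) L165024 L239394
theorem L239440 : sm gh N19437 = N28268 := rfl
theorem L239445 : sm gf N28268 = N19438 := ded_47_1 (flp_h L165067) (flp_f L165065) L239440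
theorem L239505 : sm gd N19443 = N28276 := rfl
theorem L239507 : sm gb N28276 = N19447 := ded_20_1 (flp_d L165142) (flp_b L165110) L239505
theorem L239511 : sm gh N28276 = N19462 := ded_38_2 (flp_d L165267) (flp_h L114073) (flp_d L113941) L165108 L239505
theorem L239513 : sm gj N19444 = N28277 := rfl
theorem L239517 : sm gc N28277 = N19448 := ded_31_1 (flp_j L165151) (flp_c L165118) L239513
theorem L239548 : sm ge N19447 = N28281 := rfl
theorem L239556 : sm gi N19448 = N28282 := rfl
theorem L239560 : sm gd N28282 = N19452 := ded_39_1 (flp_i L165184) (flp_d L165155) L239556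
theorem L239590 : sm gh N19452 = N28286 := rfl
theorem L239675 : sm gd N19461 = N28297 := rfl
theorem L239677 : sm ga N28297 = N19462 := ded_12_1 (flp_d L165267) (flp_a L165258) L239675
theorem L239691 : sm ge N19462 = N28299 := rfl
theorem L239729 : sm gh N19465 = N28304 := rfl
theorem L239731 : sm ga N28304 = N19469 := ded_17_1 (flp_h L165321) (flp_a L165292) L239729
theorem L239736 : sm gi N28304 = N19482 := ded_54_2 (flp_h L165418) (flp_i L114169) (flp_h L114096) L165290 L239729
theorem L239759 : sm gg N19467 = N28308 := rfl
theorem L239761 : sm gb N28308 = N19472 := ded_23_1 (flp_g L165341) (flp_b L165307) L239759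
theorem L239765 : sm gh N28308 = N19483 := ded_50_2 (flp_g L165425) (flp_h L165310) L239759
theorem L239768 : sm gi N19467 = N28309 := rfl
theorem L239786 : sm gd N19469 = N28311 := rfl
theorem L239792 : sm gi N28311 = N19486 := ded_39_2 (flp_d L165450) (flp_i L165328) L239786
theorem L239806 : sm gi N19470 = N28314 := rfl
theorem L239810 : sm gf N28314 = N19471 := ded_48_1 (flp_i L165335) L165330 L239806
theorem L239812 : sm gh N19471 = N28315 := rfl
theorem L239817 : sm gj N19472 = N28316 := rfl
theorem L239819 : sm gc N28316 = N19476 := ded_31_1 (flp_j L165373) (flp_c L165343) L239817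
theorem L239842 : sm gd N19474 = N28319 := rfl
theorem L239845 : sm gi N28319 = N19490 := ded_39_2 (flp_d L165481) (flp_i L165363) L239842
theorem L239847 : sm ge N19475 = N28320 := rfl
theorem L239852 : sm gi N28320 = N19491 := ded_44_2 (flp_e L165485) (flp_i L165369) L239847
theorem L239854 : sm gi N19476 = N28321 := rfl
theorem L239859 : sm gj N28321 = N19477 := ded_53_1 (flp_i L165380) L165373 L239854
theorem L239861 : sm gh N19477 = N28322 := rfl
theorem L239868 : sm gi N28322 = N19493 := ded_54_2 (flp_h L165500) (flp_i L114237) (flp_h L114145) L165380 L239861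
theorem L239916 : sm gj N19483 = N28329 := rfl
theorem L239924 : sm gi N19483 = N28330 := rfl
theorem L239932 : sm gg N28330 = N19484 := ded_51_1 (flp_i L165433) L165425 L239924
theorem L239934 : sm gh N19484 = N28331 := rfl
theorem L239956 : sm ge N19486 = N28334 := rfl
theorem L239961 : sm gh N28334 = N19509 := ded_43_2 (flp_e L165610) (flp_h L165456) L239956
theorem L239985 : sm gc N19490 = N28338 := rfl
theorem L239989 : sm gd N28338 = N19495 := ded_27_2 (flp_c L165514) (flp_d L114252) (flp_c L114218) L165481 L239985
theorem L239991 : sm ge N19490 = N28339 := rfl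
theorem L239995 : sm gd N28339 = N19491 := ded_34_1 (flp_e L165485) (flp_d L114223) (flp_e L114220) L165481 L239991
theorem L239997 : sm gf N19491 = N28340 := rfl
theorem L240018 : sm gc N19494 = N28343 := rfl
theorem L240022 : sm gh N28343 = N19498 := ded_32_2 (flp_c L165535) (flp_h L165512) L240018
theorem L240024 : sm ge N19494 = N28344 := rfl
theorem L240031 : sm gb N19495 = N28345 := rfl
theorem L240035 : sm gh N28345 = N19500 := ded_25_2 (flp_b L165546) (flp_h L165518) L240031
theorem L240038 : sm gd N19496 = N28346 := rfl
theorem L240042 : sm gj N28346 = N19497 := ded_37_2 (flp_d L165529) (flp_j L165527) L240038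
theorem L240063 : sm ge N19498 = N28350 := rfl
theorem L240068 : sm ga N19500 = N28351 := rfl
theorem L240292 : sm gi N19519 = N28380 := rfl
theorem L240300 : sm gj N28380 = N19521 := ded_53_1 (flp_i L165707) L165692 L240292
theorem L240357 : sm gh N19526 = N28388 := rfl
theorem L240414 : sm gd N19532 = N28396 := rfl
theorem L240420 : sm gj N28396 = N19533 := ded_37_2 (flp_d L165804) (flp_j L165802) L240414
theorem L240429 : sm ge N19533 = N28398 := rfl
theorem L240434 : sm gg N28398 = N19535 := ded_41_2 (flp_e L165819) (flp_g L165809) L240429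
theorem L240666 : sm gf N19555 = N28427 := rfl
theorem L240668 : sm gb N28427 = N19557 := ded_22_1 (flp_f L165999) (flp_b L165981) L240666
theorem L240702 : sm gj N19558 = N28431 := rfl
theorem L240706 : sm gd N28431 = N19583 := ded_37_1 (flp_j L166232) (flp_d L166011) L240702
theorem L240708 : sm gf N28431 = N19565 := ded_46_1 (flp_j L166072) (flp_f L166015) L240702
theorem L240751 : sm gh N19560 = N28436 := rfl
theorem L240753 : sm gb N28436 = N19563 := ded_25_1 (flp_h L166055) (flp_b L166029) L240751
theorem L240756 : sm gj N28436 = N19570 := ded_52_1 (flp_h L166115) (flp_j L166031) L240751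
theorem L240759 : sm gg N19561 = N28437 := rfl
theorem L240865 : sm ge N19569 = N28449 := rfl
theorem L240867 : sm gb N28449 = N19572 := ded_21_1 (flp_e L166131) (flp_b L166110) L240865
theorem L240880 : sm gh N19569 = N28451 := rfl
theorem L240884 : sm gf N28451 = N19570 := ded_47_1 (flp_h L166115) L166108 L240880
theorem L240887 : sm gi N19570 = N28452 := rfl
theorem L240913 : sm gh N19572 = N28455 := rfl
theorem L240948 : sm gd N19577 = N28459 := rfl
theorem L240953 : sm gg N28459 = N19584 := ded_36_2 (flp_d L166243) (flp_g L166180) L240948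
theorem L240958 : sm gf N19577 = N28460 := rfl
theorem L240965 : sm gh N28460 = N19696 := ded_47_2 (flp_f L167237) (flp_h L166183) L240958
theorem L240977 : sm gf N19578 = N28462 := rfl
theorem L240981 : sm gd N28462 = N19579 := ded_35_1 (flp_f L166195) L166186 L240977
theorem L241060 : sm gf N19584 = N28471 := rfl
theorem L241065 : sm gd N28471 = N19585 := ded_35_1 (flp_f L166252) L166243 L241060
theorem L241067 : sm gj N28471 = N19596 := ded_46_2 (flp_f L166353) (flp_j L166248) L241060
theorem L241080 : sm gg N19585 = N28473 := rfl
theorem L241088 : sm gh N28473 = N19720 := ded_50_2 (flp_g L167461) (flp_h L166260) L241080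
theorem L241091 : sm gf N19586 = N28474 := rfl
theorem L241093 : sm gc N28474 = N19587 := ded_29_1 (flp_f L166272) L166265 L241091
theorem L241096 : sm gj N28474 = N19599 := ded_46_2 (flp_f L166382) (flp_j L166268) L241091
theorem L241106 : sm ge N19587 = N28476 := rfl
theorem L241110 : sm gj N28476 = N19601 := ded_42_2 (flp_e L166394) (flp_j L166278) L241106
theorem L241133 : sm gi N19588 = N28479 := rfl
theorem L241140 : sm gj N28479 = N19604 := ded_53_1 (flp_i L166418) (flp_j L166286) L241133
theorem L241171 : sm gj N19591 = N28483 := rfl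
theorem L241177 : sm gg N28483 = N19608 := ded_49_1 (flp_j L166452) (flp_g L114907) (flp_j L114817) L166309 L241171
theorem L241219 : sm ge N19596 = N28489 := rfl
theorem L241221 : sm ga N28489 = N19601 := ded_13_1 (flp_e L166394) (flp_a L166355) L241219
theorem L241237 : sm gh N19596 = N28491 := rfl
theorem L241242 : sm gf N28491 = N19597 := ded_47_1 (flp_h L166361) L166353 L241237
theorem L241244 : sm gd N28491 = N19754 := ded_38_1 (flp_h L167755) L115792 (flp_h L114863) (flp_d L166358) L241237
theorem L241256 : sm gj N19598 = N28493 := rfl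
theorem L241258 : sm ga N28493 = N19605 := ded_16_1 (flp_j L166427) (flp_a L166372) L241256
theorem L241262 : sm ge N28493 = N19634 := ded_42_1 (flp_j L166691) (flp_e L166376) L241256
theorem L241293 : sm gi N19600 = N28498 := rfl
theorem L241295 : sm gc N28498 = N19604 := ded_33_1 (flp_i L166418) (flp_c L166390) L241293
theorem L241309 : sm gh N19601 = N28500 := rfl
theorem L241311 : sm gb N28500 = N19607 := ded_25_1 (flp_h L166446) (flp_b L166396) L241309
theorem L241324 : sm gh N19602 = N28502 := rfl
theorem L241331 : sm gd N28502 = N19765 := ded_38_1 (flp_h L167836) L115837 (flp_h L114896) (flp_d L166406) L241324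
theorem L241342 : sm gf N19606 = N28504 := rfl
theorem L241345 : sm gd N28504 = N19645 := ded_35_1 (flp_f L166784) (flp_d L166441) L241342
theorem L241350 : sm gj N19606 = N28505 := rfl
theorem L241353 : sm gd N28505 = N19646 := ded_37_1 (flp_j L166792) (flp_d L166441) L241350
theorem L241355 : sm ge N28505 = N19608 := ded_42_1 (flp_j L166452) (flp_e L166443) L241350
theorem L241358 : sm gh N19606 = N28506 := rfl
theorem L241365 : sm gd N19607 = N28507 := rfl
theorem L241371 : sm gh N28507 = N19648 := ded_38_2 (flp_d L166807) (flp_h L115149) (flp_d L114904) L166446 L241365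
theorem L241417 : sm gh N19611 = N28513 := rfl
theorem L241419 : sm ga N28513 = N19616 := ded_17_1 (flp_h L166525) (flp_a L166477) L241417
theorem L241421 : sm gc N28513 = N19613 := ded_32_1 (flp_h L166495) L166475 L241417
theorem L241425 : sm gj N28513 = N19629 := ded_52_1 (flp_h L166645) (flp_j L166481) L241417
theorem L241436 : sm gg N19612 = N28515 := rfl
theorem L241438 : sm ga N28515 = N19618 := ded_15_1 (flp_g L166542) (flp_a L166487) L241436
theorem L241445 : sm gh N19612 = N28516 := rfl
theorem L241447 : sm ga N28516 = N19619 := ded_17_1 (flp_h L166550) (flp_a L166487) L241445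
theorem L241452 : sm gj N28516 = N19632 := ded_52_1 (flp_h L166671) (flp_j L166492) L241445
theorem L241454 : sm gd N28516 = N19795 := ded_38_1 (flp_h L168121) L116031 (flp_h L114958) (flp_d L166490) L241445
theorem L241456 : sm gi N19613 = N28517 := rfl
theorem L241458 : sm ga N28517 = N19620 := ded_18_1 (flp_i L166560) (flp_a L166497) L241456
theorem L241460 : sm gb N28517 = N28517 := ded_26_1 (flp_i L241456) L166499 L241456
theorem L241461 : sm gd N28517 = N19796 := ded_39_1 (flp_i L168130) (flp_d L166504) L241456
theorem L241463 : sm ge N28517 = N28517 := ded_44_1 (flp_i L241456) L166500 L241456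
theorem L241464 : sm gg N28517 = N28517 := ded_51_1 (flp_i L241456) L166501 L241456
theorem L241465 : sm gj N28517 = N19633 := ded_53_1 (flp_i L166680) (flp_j L166502) L241456
theorem L241467 : sm gh N28517 = N28517 := ded_54_1 (flp_i L241456) (flp_h L166495) L114948 L166495 L241456
theorem L241489 : sm gg N19615 = N28520 := rfl
theorem L241492 : sm gc N28520 = N19618 := ded_30_1 (flp_g L166542) (flp_c L166519) L241489
theorem L241497 : sm gh N19615 = N28521 := rfl
theorem L241500 : sm gc N28521 = N19619 := ded_32_1 (flp_h L166550) (flp_c L166519) L241497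
theorem L241502 : sm gf N28521 = N19616 := ded_47_1 (flp_h L166525) L166516 L241497
theorem L241504 : sm gj N28521 = N19637 := ded_52_1 (flp_h L166718) (flp_j L166522) L241497
theorem L241506 : sm gd N19616 = N28522 := rfl
theorem L241508 : sm gb N28522 = N28522 := ded_20_1 (flp_d L241506) L166527 L241506
theorem L241509 : sm gg N28522 = N28522 := ded_36_2 (flp_d L241506) L166531 L241506
theorem L241510 : sm gj N28522 = N19638 := ded_37_2 (flp_d L166725) (flp_j L166532) L241506
theorem L241512 : sm gc N28522 = N19801 := ded_27_1 (flp_d L168177) L116065 (flp_d L114987) (flp_c L166528) L241506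
theorem L241514 : sm gh N28522 = N28522 := ded_38_2 (flp_d L241506) (flp_h L166525) L114969 L166525 L241506
theorem L241515 : sm gi N19616 = N28523 := rfl
theorem L241517 : sm gb N28523 = N28523 := ded_26_1 (flp_i L241515) L166527 L241515
theorem L241518 : sm gc N28523 = N19620 := ded_33_1 (flp_i L166560) (flp_c L166528) L241515
theorem L241520 : sm ge N28523 = N28523 := ded_44_1 (flp_i L241515) L166530 L241515
theorem L241521 : sm gg N28523 = N28523 := ded_51_1 (flp_i L241515) L166531 L241515
theorem L241522 : sm gj N28523 = N19639 := ded_53_1 (flp_i L166733) (flp_j L166532) L241515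
theorem L241524 : sm gh N28523 = N28523 := ded_54_1 (flp_i L241515) (flp_h L166525) L114967 L166525 L241515
theorem L241532 : sm gh N19617 = N28525 := rfl
theorem L241534 : sm gb N28525 = N19623 := ded_25_1 (flp_h L166589) (flp_b L166536) L241532
theorem L241536 : sm ge N28525 = N19619 := ded_43_1 (flp_h L166550) L166534 L241532
theorem L241539 : sm gj N28525 = N19641 := ded_52_1 (flp_h L166749) (flp_j L166538) L241532
theorem L241541 : sm gj N19618 = N28526 := rfl
theorem L241551 : sm gh N19618 = N28527 := rfl
theorem L241553 : sm gb N28527 = N19625 := ded_25_1 (flp_h L166608) (flp_b L166544) L241551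
theorem L241558 : sm gd N28527 = N19806 := ded_38_1 (flp_h L168221) L116084 (flp_h L114994) (flp_d L166546) L241551
theorem L241560 : sm gi N19619 = N28528 := rfl
theorem L241562 : sm gb N28528 = N19626 := ded_26_1 (flp_i L166617) (flp_b L166552) L241560
theorem L241564 : sm gd N28528 = N19807 := ded_39_1 (flp_i L168228) (flp_d L166558) L241560
theorem L241566 : sm gf N28528 = N19620 := ded_48_1 (flp_i L166560) (flp_f L166554) L241560
theorem L241568 : sm gj N28528 = N19644 := ded_53_1 (flp_i L166775) (flp_j L166556) L241560
theorem L241570 : sm gh N28528 = N28528 := ded_54_1 (flp_i L241560) (flp_h L166550) L114978 L166550 L241560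
theorem L241578 : sm gj N19622 = N28530 := rfl
theorem L241582 : sm ge N28530 = N19624 := ded_42_1 (flp_j L166598) (flp_e L166586) L241578
theorem L241585 : sm gg N28530 = N19646 := ded_49_1 (flp_j L166792) (flp_g L115142) (flp_j L115002) L166582 L241578
theorem L241587 : sm gh N19622 = N28531 := rfl
theorem L241591 : sm ge N28531 = N19625 := ded_43_1 (flp_h L166608) (flp_e L166586) L241587
theorem L241593 : sm gg N28531 = N19623 := ded_50_1 (flp_h L166589) L166582 L241587
theorem L241595 : sm gd N19623 = N28532 := rfl
theorem L241599 : sm gj N28532 = N19648 := ded_37_2 (flp_d L166807) (flp_j L166596) L241595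
theorem L241603 : sm gi N19623 = N28533 := rfl
theorem L241605 : sm ga N28533 = N28533 := ded_18_1 (flp_i L241603) L166591 L241603
theorem L241606 : sm gc N28533 = N28533 := ded_33_1 (flp_i L241603) L166592 L241603
theorem L241607 : sm ge N28533 = N19626 := ded_44_1 (flp_i L166617) (flp_e L166593) L241603
theorem L241609 : sm gf N28533 = N28533 := ded_48_1 (flp_i L241603) L166595 L241603
theorem L241610 : sm gj N28533 = N19649 := ded_53_1 (flp_i L166813) (flp_j L166596) L241603
theorem L241612 : sm gh N28533 = N28533 := ded_54_1 (flp_i L241603) (flp_h L166589) L115004 L166589 L241603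
theorem L241613 : sm gh N19624 = N28534 := rfl
theorem L241620 : sm gj N28534 = N19625 := ded_52_1 (flp_h L166608) L166598 L241613
theorem L241624 : sm gi N19625 = N28535 := rfl
theorem L241626 : sm ga N28535 = N28535 := ded_18_1 (flp_i L241624) L166610 L241624
theorem L241627 : sm gc N28535 = N28535 := ded_33_1 (flp_i L241624) L166611 L241624
theorem L241628 : sm gd N28535 = N19814 := ded_39_1 (flp_i L168290) (flp_d L166615) L241624
theorem L241630 : sm gf N28535 = N28535 := ded_48_1 (flp_i L241624) L166612 L241624
theorem L241631 : sm gg N28535 = N19626 := ded_51_1 (flp_i L166617) (flp_g L166613) L241624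
theorem L241633 : sm gh N28535 = N28535 := ded_54_1 (flp_i L241624) (flp_h L166608) L115012 L166608 L241624
theorem L241634 : sm gf N19627 = N28536 := rfl
theorem L241637 : sm gb N28536 = N19628 := ded_22_1 (flp_f L166637) L166628 L241634
theorem L241642 : sm gh N19627 = N28537 := rfl
theorem L241645 : sm gb N28537 = N19629 := ded_25_1 (flp_h L166645) L166628 L241642
theorem L241649 : sm gg N28537 = N19653 := ded_50_1 (flp_h L166851) (flp_g L166632) L241642
theorem L241659 : sm gg N19628 = N28539 := rfl
theorem L241663 : sm gc N28539 = N19631 := ded_30_1 (flp_g L166661) (flp_c L166641) L241659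
theorem L241669 : sm gh N19628 = N28540 := rfl
theorem L241671 : sm ga N28540 = N19637 := ded_17_1 (flp_h L166718) (flp_a L166639) L241669
theorem L241673 : sm gc N28540 = N19632 := ded_32_1 (flp_h L166671) (flp_c L166641) L241669
theorem L241675 : sm gf N28540 = N19629 := ded_47_1 (flp_h L166645) L166637 L241669
theorem L241677 : sm gd N19629 = N28541 := rfl
theorem L241679 : sm ga N28541 = N19638 := ded_12_1 (flp_d L166725) (flp_a L166647) L241677
theorem L241681 : sm gg N28541 = N19657 := ded_36_2 (flp_d L166885) (flp_g L166652) L241677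
theorem L241683 : sm gc N28541 = N19845 := ded_27_1 (flp_d L168585) L116333 (flp_d L115071) (flp_c L166649) L241677
theorem L241685 : sm gh N28541 = N28541 := ded_38_2 (flp_d L241677) (flp_h L166645) L115054 L166645 L241677
theorem L241686 : sm gi N19629 = N28542 := rfl
theorem L241688 : sm ga N28542 = N19639 := ded_18_1 (flp_i L166733) (flp_a L166647) L241686
theorem L241690 : sm gc N28542 = N19633 := ded_33_1 (flp_i L166680) (flp_c L166649) L241686
theorem L241692 : sm ge N28542 = N28542 := ded_44_1 (flp_i L241686) L166651 L241686
theorem L241693 : sm gg N28542 = N19658 := ded_51_1 (flp_i L166893) (flp_g L166652) L241686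
theorem L241695 : sm gh N28542 = N28542 := ded_54_1 (flp_i L241686) (flp_h L166645) L115053 L166645 L241686
theorem L241704 : sm gh N19630 = N28544 := rfl
theorem L241706 : sm ga N28544 = N19641 := ded_17_1 (flp_h L166749) (flp_a L166656) L241704
theorem L241709 : sm ge N28544 = N19632 := ded_43_1 (flp_h L166671) L166654 L241704
theorem L241712 : sm gj N19631 = N28545 := rfl
theorem L241714 : sm ga N28545 = N19642 := ded_16_1 (flp_j L166756) (flp_a L166663) L241712
theorem L241719 : sm gf N28545 = N19661 := ded_46_1 (flp_j L166920) (flp_f L166669) L241712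
theorem L241722 : sm gh N19631 = N28546 := rfl
theorem L241724 : sm ga N28546 = N19643 := ded_17_1 (flp_h L166765) (flp_a L166663) L241722
theorem L241727 : sm gf N28546 = N19662 := ded_47_1 (flp_h L166929) (flp_f L166669) L241722
theorem L241729 : sm gg N28546 = N19632 := ded_50_1 (flp_h L166671) L166661 L241722
theorem L241731 : sm gd N28546 = N19850 := ded_38_1 (flp_h L168627) L116351 (flp_h L115079) (flp_d L166666) L241722
theorem L241733 : sm gi N19632 = N28547 := rfl
theorem L241735 : sm ga N28547 = N19644 := ded_18_1 (flp_i L166775) (flp_a L166673) L241733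
theorem L241737 : sm gb N28547 = N28547 := ded_26_1 (flp_i L241733) L166675 L241733
theorem L241738 : sm gd N28547 = N19851 := ded_39_1 (flp_i L168636) (flp_d L166678) L241733
theorem L241740 : sm gf N28547 = N19633 := ded_48_1 (flp_i L166680) (flp_f L166676) L241733
theorem L241742 : sm gh N28547 = N28547 := ded_54_1 (flp_i L241733) (flp_h L166671) L115062 L166671 L241733
theorem L241749 : sm gg N19635 = N28549 := rfl
theorem L241752 : sm gc N28549 = N19640 := ded_30_1 (flp_g L166742) (flp_c L166705) L241749
theorem L241754 : sm ge N28549 = N19636 := ded_41_1 (flp_g L166709) L166702 L241749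
theorem L241757 : sm gh N19635 = N28550 := rfl
theorem L241760 : sm gc N28550 = N19641 := ded_32_1 (flp_h L166749) (flp_c L166705) L241757
theorem L241762 : sm ge N28550 = N19637 := ded_43_1 (flp_h L166718) L166702 L241757
theorem L241765 : sm gj N19636 = N28551 := rfl
theorem L241774 : sm gh N19636 = N28552 := rfl
theorem L241777 : sm gc N28552 = N19643 := ded_32_1 (flp_h L166765) (flp_c L166712) L241774
theorem L241779 : sm gf N28552 = N19668 := ded_47_1 (flp_h L166982) (flp_f L166716) L241774
theorem L241781 : sm gg N28552 = N19637 := ded_50_1 (flp_h L166718) L166709 L241774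
theorem L241783 : sm gd N19637 = N28553 := rfl
theorem L241785 : sm gb N28553 = N28553 := ded_20_1 (flp_d L241783) L166720 L241783
theorem L241786 : sm gf N28553 = N19638 := ded_35_2 (flp_d L166725) (flp_f L166723) L241783
theorem L241788 : sm gc N28553 = N19857 := ded_27_1 (flp_d L168687) L116400 (flp_d L115120) (flp_c L166721) L241783
theorem L241790 : sm gh N28553 = N28553 := ded_38_2 (flp_d L241783) (flp_h L166718) L115089 L166718 L241783
theorem L241791 : sm gi N19637 = N28554 := rfl
theorem L241793 : sm gb N28554 = N28554 := ded_26_1 (flp_i L241791) L166720 L241791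
theorem L241794 : sm gc N28554 = N19644 := ded_33_1 (flp_i L166775) (flp_c L166721) L241791
theorem L241796 : sm gf N28554 = N19639 := ded_48_1 (flp_i L166733) (flp_f L166723) L241791
theorem L241798 : sm gh N28554 = N28554 := ded_54_1 (flp_i L241791) (flp_h L166718) L115090 L166718 L241791
theorem L241799 : sm ge N19638 = N28555 := rfl
theorem L241801 : sm gb N28555 = N28555 := ded_21_1 (flp_e L241799) L166727 L241799
theorem L241802 : sm gc N28555 = N19859 := ded_28_1 (flp_e L168702) (flp_c L166730) L241799
theorem L241804 : sm gg N28555 = N19671 := ded_41_2 (flp_e L167007) (flp_g L166728) L241799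
theorem L241806 : sm gh N28555 = N28555 := ded_43_2 (flp_e L241799) L166732 L241799
theorem L241807 : sm gd N28555 = N28555 := ded_34_1 (flp_e L241799) (flp_d L166725) L115096 L166725 L241799
theorem L241808 : sm gi N19638 = N28556 := rfl
theorem L241810 : sm gb N28556 = N28556 := ded_26_1 (flp_i L241808) L166727 L241808
theorem L241811 : sm gc N28556 = N19860 := ded_33_1 (flp_i L168711) (flp_c L166730) L241808
theorem L241813 : sm gd N28556 = N19639 := ded_39_1 (flp_i L166733) L166725 L241808
theorem L241815 : sm gg N28556 = N19672 := ded_51_1 (flp_i L167015) (flp_g L166728) L241808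
theorem L241825 : sm gj N19640 = N28558 := rfl
theorem L241832 : sm gh N19640 = N28559 := rfl
theorem L241834 : sm gb N28559 = N19647 := ded_25_1 (flp_h L166799) (flp_b L166744) L241832
theorem L241836 : sm ge N28559 = N19643 := ded_43_1 (flp_h L166765) (flp_e L166746) L241832
theorem L241838 : sm gg N28559 = N19641 := ded_50_1 (flp_h L166749) L166742 L241832
theorem L241840 : sm gd N19641 = N28560 := rfl
theorem L241842 : sm gb N28560 = N19648 := ded_20_1 (flp_d L166807) (flp_b L166751) L241840
theorem L241844 : sm gf N28560 = N28560 := ded_35_2 (flp_d L241840) L166755 L241840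
theorem L241845 : sm ge N28560 = N19864 := ded_34_2 (flp_d L168741) L116431 (flp_d L115120) (flp_e L166753) L241840
theorem L241847 : sm gi N19641 = N28561 := rfl
theorem L241849 : sm gb N28561 = N19649 := ded_26_1 (flp_i L166813) (flp_b L166751) L241847
theorem L241851 : sm ge N28561 = N19644 := ded_44_1 (flp_i L166775) (flp_e L166753) L241847
theorem L241853 : sm gf N28561 = N28561 := ded_48_1 (flp_i L241847) L166755 L241847
theorem L241854 : sm gh N28561 = N28561 := ded_54_1 (flp_i L241847) (flp_h L166749) L115103 L166749 L241847
theorem L241855 : sm gh N19642 = N28562 := rfl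
theorem L241863 : sm gd N28562 = N19866 := ded_38_1 (flp_h L168755) L116439 (flp_h L115139) (flp_d L166760) L241855
theorem L241865 : sm gi N19643 = N28563 := rfl
theorem L241867 : sm gb N28563 = N19651 := ded_26_1 (flp_i L166831) (flp_b L166767) L241865
theorem L241869 : sm gd N28563 = N19867 := ded_39_1 (flp_i L168763) (flp_d L166773) L241865
theorem L241871 : sm gf N28563 = N19679 := ded_48_1 (flp_i L167074) (flp_f L166769) L241865
theorem L241873 : sm gg N28563 = N19644 := ded_51_1 (flp_i L166775) (flp_g L166771) L241865
theorem L241875 : sm gh N28563 = N28563 := ded_54_1 (flp_i L241865) (flp_h L166765) L115111 L166765 L241865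
theorem L241885 : sm gh N19645 = N28565 := rfl
theorem L241889 : sm ge N28565 = N19681 := ded_43_1 (flp_h L167091) (flp_e L166789) L241885
theorem L241891 : sm gf N28565 = N19647 := ded_47_1 (flp_h L166799) L166784 L241885
theorem L241894 : sm gh N19646 = N28566 := rfl
theorem L241898 : sm ge N28566 = N19650 := ded_43_1 (flp_h L166821) (flp_e L166796) L241894
theorem L241900 : sm gj N28566 = N19647 := ded_52_1 (flp_h L166799) L166792 L241894
theorem L241902 : sm gd N19647 = N28567 := rfl
theorem L241905 : sm gg N28567 = N19648 := ded_36_2 (flp_d L166807) (flp_g L166805) L241902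
theorem L241907 : sm ge N28567 = N19871 := ded_34_2 (flp_d L168800) L116478 (flp_d L115173) (flp_e L166803) L241902
theorem L241909 : sm gi N19647 = N28568 := rfl
theorem L241911 : sm ga N28568 = N28568 := ded_18_1 (flp_i L241909) L166801 L241909
theorem L241912 : sm gc N28568 = N28568 := ded_33_1 (flp_i L241909) L166802 L241909
theorem L241913 : sm ge N28568 = N19651 := ded_44_1 (flp_i L166831) (flp_e L166803) L241909
theorem L241915 : sm gg N28568 = N19649 := ded_51_1 (flp_i L166813) (flp_g L166805) L241909
theorem L241917 : sm gh N28568 = N28568 := ded_54_1 (flp_i L241909) (flp_h L166799) L115148 L166799 L241909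
theorem L241918 : sm gc N19648 = N28569 := rfl
theorem L241921 : sm ge N28569 = N19873 := ded_28_2 (flp_c L168814) (flp_e L166811) L241918
theorem L241925 : sm gi N19648 = N28570 := rfl
theorem L241927 : sm ga N28570 = N28570 := ded_18_1 (flp_i L241925) L166809 L241925
theorem L241928 : sm gd N28570 = N19649 := ded_39_1 (flp_i L166813) L166807 L241925
theorem L241930 : sm ge N28570 = N19874 := ded_44_1 (flp_i L168821) (flp_e L166811) L241925
theorem L241932 : sm gf N28570 = N28570 := ded_48_1 (flp_i L241925) L166810 L241925
theorem L241933 : sm gi N19650 = N28571 := rfl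
theorem L241935 : sm ga N28571 = N28571 := ded_18_1 (flp_i L241933) L166823 L241933
theorem L241936 : sm gc N28571 = N28571 := ded_33_1 (flp_i L241933) L166824 L241933
theorem L241937 : sm gd N28571 = N19875 := ded_39_1 (flp_i L168828) (flp_d L166829) L241933
theorem L241939 : sm gf N28571 = N19687 := ded_48_1 (flp_i L167142) (flp_f L166825) L241933
theorem L241941 : sm gj N28571 = N19651 := ded_53_1 (flp_i L166831) (flp_j L166827) L241933
theorem L241943 : sm gh N28571 = N28571 := ded_54_1 (flp_i L241933) (flp_h L166821) L115164 L166821 L241933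
theorem L241961 : sm gh N19652 = N28574 := rfl
theorem L241964 : sm gb N28574 = N19656 := ded_25_1 (flp_h L166876) (flp_b L166845) L241961
theorem L241967 : sm gf N28574 = N19653 := ded_47_1 (flp_h L166851) L166842 L241961
theorem L241970 : sm gd N19653 = N28575 := rfl
theorem L241972 : sm ga N28575 = N28575 := ded_12_1 (flp_d L241970) L166853 L241970
theorem L241973 : sm gb N28575 = N19657 := ded_20_1 (flp_d L166885) (flp_b L166854) L241970
theorem L241975 : sm gj N28575 = N28575 := ded_37_2 (flp_d L241970) L166858 L241970
theorem L241976 : sm gh N28575 = N28575 := ded_38_2 (flp_d L241970) (flp_h L166851) L115186 L166851 L241970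
theorem L241977 : sm gi N19653 = N28576 := rfl
theorem L241979 : sm ga N28576 = N28576 := ded_18_1 (flp_i L241977) L166853 L241977
theorem L241980 : sm gb N28576 = N19658 := ded_26_1 (flp_i L166893) (flp_b L166854) L241977
theorem L241982 : sm gc N28576 = N28576 := ded_33_1 (flp_i L241977) L166856 L241977
theorem L241983 : sm ge N28576 = N28576 := ded_44_1 (flp_i L241977) L166857 L241977
theorem L241984 : sm gj N28576 = N28576 := ded_53_1 (flp_i L241977) L166858 L241977
theorem L241985 : sm gh N28576 = N28576 := ded_54_1 (flp_i L241977) (flp_h L166851) L115189 L166851 L241977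
theorem L241995 : sm gg N19654 = N28578 := rfl
theorem L241997 : sm ga N28578 = N19665 := ded_15_1 (flp_g L166957) (flp_a L166861) L241995
theorem L241999 : sm gc N28578 = N19659 := ded_30_1 (flp_g L166902) (flp_c L166863) L241995
theorem L242001 : sm ge N28578 = N19655 := ded_41_1 (flp_g L166868) L166859 L241995
theorem L242004 : sm gh N19654 = N28579 := rfl
theorem L242006 : sm ga N28579 = N19666 := ded_17_1 (flp_h L166965) (flp_a L166861) L242004
theorem L242008 : sm gc N28579 = N19660 := ded_32_1 (flp_h L166911) (flp_c L166863) L242004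
theorem L242010 : sm ge N28579 = N19656 := ded_43_1 (flp_h L166876) L166859 L242004
theorem L242014 : sm gj N19655 = N28580 := rfl
theorem L242023 : sm gh N19655 = N28581 := rfl
theorem L242025 : sm ga N28581 = N19668 := ded_17_1 (flp_h L166982) (flp_a L166870) L242023
theorem L242027 : sm gc N28581 = N19662 := ded_32_1 (flp_h L166929) (flp_c L166872) L242023
theorem L242029 : sm gg N28581 = N19656 := ded_50_1 (flp_h L166876) L166868 L242023
theorem L242031 : sm gd N19656 = N28582 := rfl
theorem L242033 : sm ga N28582 = N19669 := ded_12_1 (flp_d L166989) (flp_a L166878) L242031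
theorem L242035 : sm gf N28582 = N19657 := ded_35_2 (flp_d L166885) (flp_f L166882) L242031
theorem L242037 : sm gj N28582 = N28582 := ded_37_2 (flp_d L242031) L166884 L242031
theorem L242038 : sm gc N28582 = N19922 := ded_27_1 (flp_d L169272) L116794 (flp_d L115234) (flp_c L166880) L242031
theorem L242040 : sm gh N28582 = N28582 := ded_38_2 (flp_d L242031) (flp_h L166876) L115198 L166876 L242031
theorem L242041 : sm gi N19656 = N28583 := rfl
theorem L242043 : sm ga N28583 = N19670 := ded_18_1 (flp_i L166998) (flp_a L166878) L242041
theorem L242045 : sm gc N28583 = N19663 := ded_33_1 (flp_i L166938) (flp_c L166880) L242041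
theorem L242047 : sm gf N28583 = N19658 := ded_48_1 (flp_i L166893) (flp_f L166882) L242041
theorem L242049 : sm gj N28583 = N28583 := ded_53_1 (flp_i L242041) L166884 L242041
theorem L242050 : sm gh N28583 = N28583 := ded_54_1 (flp_i L242041) (flp_h L166876) L115200 L166876 L242041
theorem L242051 : sm ge N19657 = N28584 := rfl
theorem L242053 : sm ga N28584 = N19671 := ded_13_1 (flp_e L167007) (flp_a L166887) L242051
theorem L242055 : sm gc N28584 = N19924 := ded_28_1 (flp_e L169289) (flp_c L166890) L242051
theorem L242057 : sm gj N28584 = N28584 := ded_42_2 (flp_e L242051) L166889 L242051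
theorem L242058 : sm gh N28584 = N28584 := ded_43_2 (flp_e L242051) L166892 L242051
theorem L242059 : sm gd N28584 = N28584 := ded_34_1 (flp_e L242051) (flp_d L166885) L115207 L166885 L242051
theorem L242060 : sm gi N19657 = N28585 := rfl
theorem L242062 : sm ga N28585 = N19672 := ded_18_1 (flp_i L167015) (flp_a L166887) L242060
theorem L242064 : sm gc N28585 = N19925 := ded_33_1 (flp_i L169297) (flp_c L166890) L242060
theorem L242066 : sm gd N28585 = N19658 := ded_39_1 (flp_i L166893) L166885 L242060
theorem L242068 : sm gj N28585 = N28585 := ded_53_1 (flp_i L242060) L166889 L242060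
theorem L242069 : sm gf N19659 = N28586 := rfl
theorem L242077 : sm gj N19659 = N28587 := rfl
theorem L242087 : sm gh N19659 = N28588 := rfl
theorem L242089 : sm ga N28588 = N19675 := ded_17_1 (flp_h L167039) (flp_a L166904) L242087
theorem L242092 : sm ge N28588 = N19662 := ded_43_1 (flp_h L166929) (flp_e L166908) L242087
theorem L242094 : sm gg N28588 = N19660 := ded_50_1 (flp_h L166911) L166902 L242087
theorem L242096 : sm gd N19660 = N28589 := rfl
theorem L242098 : sm ga N28589 = N19676 := ded_12_1 (flp_d L167047) (flp_a L166913) L242096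
theorem L242100 : sm gb N28589 = N28589 := ded_20_1 (flp_d L242096) L166915 L242096
theorem L242101 : sm gf N28589 = N28589 := ded_35_2 (flp_d L242096) L166918 L242096
theorem L242102 : sm gj N28589 = N28589 := ded_37_2 (flp_d L242096) L166919 L242096
theorem L242103 : sm ge N28589 = N19929 := ded_34_2 (flp_d L169330) L116827 (flp_d L115234) (flp_e L166916) L242096
theorem L242105 : sm gh N28589 = N28589 := ded_38_2 (flp_d L242096) (flp_h L166911) L115216 L166911 L242096
theorem L242106 : sm gi N19660 = N28590 := rfl
theorem L242108 : sm ga N28590 = N19677 := ded_18_1 (flp_i L167056) (flp_a L166913) L242106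
theorem L242110 : sm gb N28590 = N28590 := ded_26_1 (flp_i L242106) L166915 L242106
theorem L242111 : sm ge N28590 = N19663 := ded_44_1 (flp_i L166938) (flp_e L166916) L242106
theorem L242113 : sm gf N28590 = N28590 := ded_48_1 (flp_i L242106) L166918 L242106
theorem L242114 : sm gj N28590 = N28590 := ded_53_1 (flp_i L242106) L166919 L242106
theorem L242115 : sm gh N28590 = N28590 := ded_54_1 (flp_i L242106) (flp_h L166911) L115215 L166911 L242106
theorem L242116 : sm gh N19661 = N28591 := rfl
theorem L242124 : sm gd N28591 = N19931 := ded_38_1 (flp_h L169349) L116837 (flp_h L115253) (flp_d L166925) L242116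
theorem L242126 : sm gi N19662 = N28592 := rfl
theorem L242128 : sm ga N28592 = N19679 := ded_18_1 (flp_i L167074) (flp_a L166931) L242126
theorem L242130 : sm gb N28592 = N28592 := ded_26_1 (flp_i L242126) L166933 L242126
theorem L242131 : sm gd N28592 = N19932 := ded_39_1 (flp_i L169357) (flp_d L166936) L242126
theorem L242133 : sm gg N28592 = N19663 := ded_51_1 (flp_i L166938) (flp_g L166934) L242126
theorem L242135 : sm gh N28592 = N28592 := ded_54_1 (flp_i L242126) (flp_h L166929) L115225 L166929 L242126
theorem L242151 : sm gf N19665 = N28595 := rfl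
theorem L242167 : sm gh N19665 = N28597 := rfl
theorem L242170 : sm gc N28597 = N19675 := ded_32_1 (flp_h L167039) (flp_c L166960) L242167
theorem L242172 : sm ge N28597 = N19668 := ded_43_1 (flp_h L166982) (flp_e L166962) L242167
theorem L242174 : sm gg N28597 = N19666 := ded_50_1 (flp_h L166965) L166957 L242167
theorem L242176 : sm gd N19666 = N28598 := rfl
theorem L242181 : sm gi N19666 = N28599 := rfl
theorem L242183 : sm gb N28599 = N28599 := ded_26_1 (flp_i L242181) L166967 L242181
theorem L242184 : sm gc N28599 = N19677 := ded_33_1 (flp_i L167056) (flp_c L166968) L242181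
theorem L242186 : sm ge N28599 = N19670 := ded_44_1 (flp_i L166998) (flp_e L166970) L242181
theorem L242188 : sm gf N28599 = N28599 := ded_48_1 (flp_i L242181) L166972 L242181
theorem L242189 : sm gj N28599 = N28599 := ded_53_1 (flp_i L242181) L166973 L242181
theorem L242190 : sm gh N28599 = N28599 := ded_54_1 (flp_i L242181) (flp_h L166965) L115263 L166965 L242181
theorem L242191 : sm gh N19667 = N28600 := rfl
theorem L242194 : sm gc N28600 = N19678 := ded_32_1 (flp_h L167065) (flp_c L166977) L242191
theorem L242197 : sm gj N28600 = N19668 := ded_52_1 (flp_h L166982) L166974 L242191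
theorem L242199 : sm gd N19668 = N28601 := rfl
theorem L242201 : sm gb N28601 = N28601 := ded_20_1 (flp_d L242199) L166984 L242199
theorem L242202 : sm gg N28601 = N19669 := ded_36_2 (flp_d L166989) (flp_g L166987) L242199
theorem L242204 : sm gc N28601 = N19941 := ded_27_1 (flp_d L169435) L116895 (flp_d L115325) (flp_c L166985) L242199
theorem L242206 : sm gh N28601 = N28601 := ded_38_2 (flp_d L242199) (flp_h L166982) L115270 L166982 L242199
theorem L242207 : sm gi N19668 = N28602 := rfl
theorem L242209 : sm gb N28602 = N28602 := ded_26_1 (flp_i L242207) L166984 L242207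
theorem L242210 : sm gc N28602 = N19679 := ded_33_1 (flp_i L167074) (flp_c L166985) L242207
theorem L242212 : sm gg N28602 = N19670 := ded_51_1 (flp_i L166998) (flp_g L166987) L242207
theorem L242214 : sm gh N28602 = N28602 := ded_54_1 (flp_i L242207) (flp_h L166982) L115271 L166982 L242207
theorem L242215 : sm ge N19669 = N28603 := rfl
theorem L242217 : sm gb N28603 = N28603 := ded_21_1 (flp_e L242215) L166991 L242215
theorem L242218 : sm gc N28603 = N19943 := ded_28_1 (flp_e L169450) (flp_c L166995) L242215
theorem L242220 : sm gj N28603 = N28603 := ded_42_2 (flp_e L242215) L166994 L242215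
theorem L242221 : sm gh N28603 = N28603 := ded_43_2 (flp_e L242215) L166997 L242215
theorem L242222 : sm gi N19669 = N28604 := rfl
theorem L242224 : sm gb N28604 = N28604 := ded_26_1 (flp_i L242222) L166991 L242222
theorem L242225 : sm gc N28604 = N19944 := ded_33_1 (flp_i L169456) (flp_c L166995) L242222
theorem L242227 : sm gd N28604 = N19670 := ded_39_1 (flp_i L166998) L166989 L242222
theorem L242229 : sm gf N28604 = N19672 := ded_48_1 (flp_i L167015) (flp_f L166992) L242222
theorem L242231 : sm gj N28604 = N28604 := ded_53_1 (flp_i L242222) L166994 L242222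
theorem L242232 : sm gf N19671 = N28605 := rfl
theorem L242234 : sm gb N28605 = N28605 := ded_22_1 (flp_f L242232) L167009 L242232
theorem L242235 : sm gc N28605 = N19945 := ded_29_1 (flp_f L169465) (flp_c L167010) L242232
theorem L242237 : sm gd N28605 = N28605 := ded_35_1 (flp_f L242232) L167014 L242232
theorem L242238 : sm gj N28605 = N28605 := ded_46_2 (flp_f L242232) L167012 L242232
theorem L242239 : sm gh N28605 = N28605 := ded_47_2 (flp_f L242232) L167013 L242232
theorem L242240 : sm gi N19671 = N28606 := rfl
theorem L242242 : sm gb N28606 = N28606 := ded_26_1 (flp_i L242240) L167009 L242240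
theorem L242243 : sm gc N28606 = N19946 := ded_33_1 (flp_i L169473) (flp_c L167010) L242240
theorem L242245 : sm gd N28606 = N28606 := ded_39_1 (flp_i L242240) L167014 L242240
theorem L242246 : sm ge N28606 = N19672 := ded_44_1 (flp_i L167015) L167007 L242240
theorem L242248 : sm gj N28606 = N28606 := ded_53_1 (flp_i L242240) L167012 L242240
theorem L242249 : sm gh N19672 = N28607 := rfl
theorem L242251 : sm gb N28607 = N28607 := ded_25_1 (flp_h L242249) L167017 L242249
theorem L242252 : sm gc N28607 = N19947 := ded_32_1 (flp_h L169482) (flp_c L167018) L242249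
theorem L242254 : sm gj N28607 = N28607 := ded_52_1 (flp_h L242249) L167022 L242249
theorem L242255 : sm gd N28607 = N28607 := ded_38_1 (flp_h L242249) L167020 L115294 (flp_d L167020) L242249
theorem L242256 : sm gi N28607 = N28607 := ded_54_2 (flp_h L242249) (flp_i L167015) L115286 L167015 L242249
theorem L242257 : sm gj N19673 = N28608 := rfl
theorem L242259 : sm gb N28608 = N19680 := ded_24_1 (flp_j L167083) (flp_b L167025) L242257
theorem L242265 : sm gh N19673 = N28609 := rfl
theorem L242267 : sm gb N28609 = N19681 := ded_25_1 (flp_h L167091) (flp_b L167025) L242265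
theorem L242269 : sm gf N28609 = N19675 := ded_47_1 (flp_h L167039) L167023 L242265
theorem L242272 : sm gh N19674 = N28610 := rfl
theorem L242274 : sm gb N28610 = N19682 := ded_25_1 (flp_h L167098) (flp_b L167032) L242272
theorem L242276 : sm ge N28610 = N19678 := ded_43_1 (flp_h L167065) (flp_e L167035) L242272
theorem L242279 : sm gj N28610 = N19675 := ded_52_1 (flp_h L167039) L167030 L242272
theorem L242281 : sm gd N19675 = N28611 := rfl
theorem L242283 : sm gb N28611 = N19683 := ded_20_1 (flp_d L167107) (flp_b L167041) L242281
theorem L242285 : sm gg N28611 = N19676 := ded_36_2 (flp_d L167047) (flp_g L167045) L242281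
theorem L242287 : sm ge N28611 = N19951 := ded_34_2 (flp_d L169512) L116950 (flp_d L115325) (flp_e L167043) L242281
theorem L242289 : sm gh N28611 = N28611 := ded_38_2 (flp_d L242281) (flp_h L167039) L115299 L167039 L242281
theorem L242290 : sm gi N19675 = N28612 := rfl
theorem L242292 : sm gb N28612 = N19684 := ded_26_1 (flp_i L167115) (flp_b L167041) L242290
theorem L242294 : sm ge N28612 = N19679 := ded_44_1 (flp_i L167074) (flp_e L167043) L242290
theorem L242296 : sm gg N28612 = N19677 := ded_51_1 (flp_i L167056) (flp_g L167045) L242290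
theorem L242298 : sm gh N28612 = N28612 := ded_54_1 (flp_i L242290) (flp_h L167039) L115302 L167039 L242290
theorem L242299 : sm gc N19676 = N28613 := rfl
theorem L242301 : sm ge N28613 = N19953 := ded_28_2 (flp_c L169527) (flp_e L167053) L242299
theorem L242303 : sm gf N28613 = N28613 := ded_29_2 (flp_c L242299) L167051 L242299
theorem L242304 : sm gj N28613 = N28613 := ded_31_2 (flp_c L242299) L167052 L242299
theorem L242305 : sm gh N28613 = N28613 := ded_32_2 (flp_c L242299) L167055 L242299
theorem L242306 : sm gi N19676 = N28614 := rfl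
theorem L242308 : sm gb N28614 = N19686 := ded_26_1 (flp_i L167133) (flp_b L167049) L242306
theorem L242310 : sm gd N28614 = N19677 := ded_39_1 (flp_i L167056) L167047 L242306
theorem L242312 : sm ge N28614 = N19954 := ded_44_1 (flp_i L169533) (flp_e L167053) L242306
theorem L242314 : sm gf N28614 = N28614 := ded_48_1 (flp_i L242306) L167051 L242306
theorem L242315 : sm gj N28614 = N28614 := ded_53_1 (flp_i L242306) L167052 L242306
theorem L242316 : sm gi N19678 = N28615 := rfl
theorem L242318 : sm gb N28615 = N19687 := ded_26_1 (flp_i L167142) (flp_b L167067) L242316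
theorem L242320 : sm gd N28615 = N19955 := ded_39_1 (flp_i L169542) (flp_d L167072) L242316
theorem L242322 : sm gg N28615 = N28615 := ded_51_1 (flp_i L242316) L167069 L242316
theorem L242323 : sm gj N28615 = N19679 := ded_53_1 (flp_i L167074) (flp_j L167070) L242316
theorem L242325 : sm gh N28615 = N28615 := ded_54_1 (flp_i L242316) (flp_h L167065) L115317 L167065 L242316
theorem L242334 : sm gh N19680 = N28617 := rfl
theorem L242338 : sm gf N28617 = N19682 := ded_47_1 (flp_h L167098) (flp_f L167088) L242334
theorem L242340 : sm gj N28617 = N19681 := ded_52_1 (flp_h L167091) L167083 L242334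
theorem L242342 : sm gd N19681 = N28618 := rfl
theorem L242344 : sm ga N28618 = N28618 := ded_12_1 (flp_d L242342) L167093 L242342
theorem L242345 : sm gf N28618 = N19683 := ded_35_2 (flp_d L167107) (flp_f L167095) L242342
theorem L242347 : sm gg N28618 = N28618 := ded_36_2 (flp_d L242342) L167097 L242342
theorem L242348 : sm gh N28618 = N28618 := ded_38_2 (flp_d L242342) (flp_h L167091) L115341 L167091 L242342
theorem L242349 : sm gi N19681 = N28619 := rfl
theorem L242351 : sm ga N28619 = N28619 := ded_18_1 (flp_i L242349) L167093 L242349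
theorem L242352 : sm gc N28619 = N28619 := ded_33_1 (flp_i L242349) L167094 L242349
theorem L242353 : sm gf N28619 = N19684 := ded_48_1 (flp_i L167115) (flp_f L167095) L242349
theorem L242355 : sm gg N28619 = N28619 := ded_51_1 (flp_i L242349) L167097 L242349
theorem L242356 : sm gh N28619 = N28619 := ded_54_1 (flp_i L242349) (flp_h L167091) L115342 L167091 L242349
theorem L242357 : sm gd N19682 = N28620 := rfl
theorem L242359 : sm ga N28620 = N28620 := ded_12_1 (flp_d L242357) L167100 L242357
theorem L242360 : sm gg N28620 = N28620 := ded_36_2 (flp_d L242357) L167104 L242357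
theorem L242361 : sm gj N28620 = N19683 := ded_37_2 (flp_d L167107) (flp_j L167105) L242357
theorem L242363 : sm ge N28620 = N19960 := ded_34_2 (flp_d L169584) L117006 (flp_d L115385) (flp_e L167102) L242357
theorem L242365 : sm gh N28620 = N28620 := ded_38_2 (flp_d L242357) (flp_h L167098) L115348 L167098 L242357
theorem L242366 : sm gi N19682 = N28621 := rfl
theorem L242368 : sm ga N28621 = N28621 := ded_18_1 (flp_i L242366) L167100 L242366
theorem L242369 : sm gc N28621 = N28621 := ded_33_1 (flp_i L242366) L167101 L242366
theorem L242370 : sm ge N28621 = N19687 := ded_44_1 (flp_i L167142) (flp_e L167102) L242366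
theorem L242372 : sm gg N28621 = N28621 := ded_51_1 (flp_i L242366) L167104 L242366
theorem L242373 : sm gj N28621 = N19684 := ded_53_1 (flp_i L167115) (flp_j L167105) L242366
theorem L242375 : sm gh N28621 = N28621 := ded_54_1 (flp_i L242366) (flp_h L167098) L115351 L167098 L242366
theorem L242376 : sm gc N19683 = N28622 := rfl
theorem L242378 : sm ga N28622 = N28622 := ded_11_1 (flp_c L242376) L167109 L242376
theorem L242379 : sm ge N28622 = N19962 := ded_28_2 (flp_c L169601) (flp_e L167112) L242376
theorem L242381 : sm gg N28622 = N19685 := ded_30_2 (flp_c L167124) (flp_g L167110) L242376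
theorem L242383 : sm gh N28622 = N28622 := ded_32_2 (flp_c L242376) L167114 L242376
theorem L242384 : sm gd N28622 = N28622 := ded_27_2 (flp_c L242376) (flp_d L167107) L115356 L167107 L242376
theorem L242385 : sm gi N19683 = N28623 := rfl
theorem L242387 : sm ga N28623 = N28623 := ded_18_1 (flp_i L242385) L167109 L242385
theorem L242388 : sm gd N28623 = N19684 := ded_39_1 (flp_i L167115) L167107 L242385
theorem L242390 : sm ge N28623 = N19963 := ded_44_1 (flp_i L169609) (flp_e L167112) L242385
theorem L242392 : sm gg N28623 = N19686 := ded_51_1 (flp_i L167133) (flp_g L167110) L242385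
theorem L242394 : sm gb N19685 = N28624 := rfl
theorem L242396 : sm gd N28624 = N28624 := ded_20_2 (flp_b L242394) L167132 L242394
theorem L242397 : sm ge N28624 = N19964 := ded_21_2 (flp_b L169616) (flp_e L167127) L242394
theorem L242399 : sm gf N28624 = N28624 := ded_22_2 (flp_b L242394) L167129 L242394
theorem L242400 : sm gj N28624 = N28624 := ded_24_2 (flp_b L242394) L167130 L242394
theorem L242401 : sm gh N28624 = N28624 := ded_25_2 (flp_b L242394) L167131 L242394
theorem L242402 : sm gi N19685 = N28625 := rfl
theorem L242404 : sm ga N28625 = N28625 := ded_18_1 (flp_i L242402) L167126 L242402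
theorem L242405 : sm gc N28625 = N19686 := ded_33_1 (flp_i L167133) L167124 L242402
theorem L242407 : sm gd N28625 = N28625 := ded_39_1 (flp_i L242402) L167132 L242402
theorem L242408 : sm ge N28625 = N19965 := ded_44_1 (flp_i L169624) (flp_e L167127) L242402
theorem L242410 : sm gf N28625 = N28625 := ded_48_1 (flp_i L242402) L167129 L242402
theorem L242411 : sm gj N28625 = N28625 := ded_53_1 (flp_i L242402) L167130 L242402
theorem L242412 : sm gh N19686 = N28626 := rfl
theorem L242414 : sm ga N28626 = N28626 := ded_17_1 (flp_h L242412) L167135 L242412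
theorem L242415 : sm ge N28626 = N19966 := ded_43_1 (flp_h L169634) (flp_e L167138) L242412
theorem L242417 : sm gf N28626 = N28626 := ded_47_1 (flp_h L242412) L167140 L242412
theorem L242418 : sm gj N28626 = N28626 := ded_52_1 (flp_h L242412) L167141 L242412
theorem L242419 : sm gd N28626 = N28626 := ded_38_1 (flp_h L242412) L167136 L115377 (flp_d L167136) L242412
theorem L242420 : sm gi N28626 = N28626 := ded_54_2 (flp_h L242412) (flp_i L167133) L115368 L167133 L242412
theorem L242421 : sm gd N19688 = N28627 := rfl
theorem L242423 : sm ga N28627 = N19689 := ded_12_1 (flp_d L167164) (flp_a L167154) L242421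
theorem L242426 : sm gg N28627 = N19706 := ded_36_2 (flp_d L167319) (flp_g L167158) L242421
theorem L242429 : sm gi N28627 = N19695 := ded_39_2 (flp_d L167227) (flp_i L167162) L242421
theorem L242433 : sm gf N19688 = N28628 := rfl
theorem L242435 : sm ga N28628 = N19690 := ded_14_1 (flp_f L167175) (flp_a L167154) L242433
theorem L242441 : sm gi N28628 = N19696 := ded_48_2 (flp_f L167237) (flp_i L167162) L242433
theorem L242444 : sm gc N19689 = N28629 := rfl
theorem L242446 : sm ge N28629 = N20629 := ded_28_2 (flp_c L175334) (flp_e L167173) L242444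
theorem L242448 : sm gg N28629 = N19708 := ded_30_2 (flp_c L167343) (flp_g L167168) L242444
theorem L242450 : sm gj N28629 = N28629 := ded_31_2 (flp_c L242444) L167170 L242444
theorem L242451 : sm gi N28629 = N19697 := ded_33_2 (flp_c L167245) (flp_i L167171) L242444
theorem L242453 : sm gb N28629 = N28629 := ded_19_1 (flp_c L242444) L167166 L115428 (flp_b L167166) L242444
theorem L242454 : sm gd N28629 = N28629 := ded_27_2 (flp_c L242444) (flp_d L167164) L115413 L167164 L242444
theorem L242455 : sm gf N19689 = N28630 := rfl
theorem L242457 : sm gb N28630 = N19691 := ded_22_1 (flp_f L167185) (flp_b L167166) L242455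
theorem L242459 : sm gd N28630 = N19690 := ded_35_1 (flp_f L167175) L167164 L242455
theorem L242461 : sm gj N28630 = N28630 := ded_46_2 (flp_f L242455) L167170 L242455
theorem L242462 : sm gi N28630 = N19698 := ded_48_2 (flp_f L167254) (flp_i L167171) L242455
theorem L242464 : sm gh N19689 = N28631 := rfl
theorem L242466 : sm gb N28631 = N19692 := ded_25_1 (flp_h L167194) (flp_b L167166) L242464
theorem L242468 : sm ge N28631 = N20631 := ded_43_1 (flp_h L175353) (flp_e L167173) L242464
theorem L242470 : sm gg N28631 = N19710 := ded_50_1 (flp_h L167363) (flp_g L167168) L242464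
theorem L242472 : sm gj N28631 = N28631 := ded_52_1 (flp_h L242464) L167170 L242464
theorem L242473 : sm gd N28631 = N28631 := ded_38_1 (flp_h L242464) (flp_d L167164) L115417 L167164 L242464
theorem L242474 : sm gg N19690 = N28632 := rfl
theorem L242483 : sm gf N28632 = N19711 := ded_45_1 (flp_g L167372) (flp_f L115531) (flp_g L115414) L167175 L242474
theorem L242485 : sm ge N19691 = N28633 := rfl
theorem L242490 : sm gi N28633 = N19701 := ded_44_2 (flp_e L167278) (flp_i L167192) L242485
theorem L242495 : sm gg N19691 = N28634 := rfl
theorem L242503 : sm gf N28634 = N19713 := ded_45_1 (flp_g L167394) (flp_f L115543) (flp_g L115423) L167185 L242495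
theorem L242505 : sm gh N19691 = N28635 := rfl
theorem L242513 : sm gi N19692 = N28636 := rfl
theorem L242518 : sm ge N28636 = N20636 := ded_44_1 (flp_i L175396) (flp_e L167198) L242513
theorem L242520 : sm gg N28636 = N19715 := ded_51_1 (flp_i L167411) (flp_g L167200) L242513
theorem L242523 : sm gh N28636 = N19704 := ded_54_1 (flp_i L167301) (flp_h L115484) (flp_i L115426) L167194 L242513
theorem L242537 : sm gc N19695 = N28638 := rfl
theorem L242539 : sm ga N28638 = N19697 := ded_11_1 (flp_c L167245) (flp_a L167229) L242537
theorem L242543 : sm gg N28638 = N19717 := ded_30_2 (flp_c L167434) (flp_g L167232) L242537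
theorem L242547 : sm gf N19695 = N28639 := rfl
theorem L242549 : sm ga N28639 = N19698 := ded_14_1 (flp_f L167254) (flp_a L167229) L242547
theorem L242565 : sm gg N19696 = N28641 := rfl
theorem L242567 : sm ga N28641 = N19700 := ded_15_1 (flp_g L167270) (flp_a L167239) L242565
theorem L242574 : sm gf N19697 = N28642 := rfl
theorem L242576 : sm gb N28642 = N28642 := ded_22_1 (flp_f L242574) L167252 L242574
theorem L242577 : sm gc N28642 = N19698 := ded_29_1 (flp_f L167254) L167245 L242574
theorem L242579 : sm gd N28642 = N28642 := ded_35_1 (flp_f L242574) L167253 L242574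
theorem L242580 : sm gj N28642 = N28642 := ded_46_2 (flp_f L242574) L167251 L242574
theorem L242581 : sm gh N19697 = N28643 := rfl
theorem L242588 : sm gg N28643 = N19722 := ded_50_1 (flp_h L167477) (flp_g L167249) L242581
theorem L242591 : sm ge N19698 = N28644 := rfl
theorem L242597 : sm gf N28644 = N20644 := ded_40_2 (flp_e L175469) (flp_f L120977) (flp_e L115468) L167254 L242591
theorem L242599 : sm gg N19698 = N28645 := rfl
theorem L242601 : sm gb N28645 = N19702 := ded_23_1 (flp_g L167286) (flp_b L167256) L242599
theorem L242605 : sm gf N28645 = N19724 := ded_45_1 (flp_g L167496) (flp_f L115611) (flp_g L115465) L167254 L242599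
theorem L242607 : sm gh N19698 = N28646 := rfl
theorem L242632 : sm gg N19701 = N28649 := rfl
theorem L242672 : sm gc N19706 = N28654 := rfl
theorem L242674 : sm ga N28654 = N19708 := ded_11_1 (flp_c L167343) (flp_a L167321) L242672
theorem L242678 : sm gj N28654 = N19733 := ded_31_2 (flp_c L167567) (flp_j L167324) L242672
theorem L242680 : sm gi N28654 = N19717 := ded_33_2 (flp_c L167434) (flp_i L167326) L242672
theorem L242683 : sm gf N19706 = N28655 := rfl
theorem L242685 : sm ga N28655 = N19709 := ded_14_1 (flp_f L167353) (flp_a L167321) L242683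
theorem L242688 : sm gd N28655 = N19707 := ded_35_1 (flp_f L167330) L167319 L242683
theorem L242690 : sm gj N28655 = N19734 := ded_46_2 (flp_f L167577) (flp_j L167324) L242683
theorem L242692 : sm gi N28655 = N19718 := ded_48_2 (flp_f L167443) (flp_i L167326) L242683
theorem L242694 : sm gh N19706 = N28656 := rfl
theorem L242696 : sm ga N28656 = N19710 := ded_17_1 (flp_h L167363) (flp_a L167321) L242694
theorem L242699 : sm ge N28656 = N20674 := ded_43_1 (flp_h L175745) (flp_e L167328) L242694
theorem L242701 : sm gj N28656 = N19735 := ded_52_1 (flp_h L167586) (flp_j L167324) L242694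
theorem L242704 : sm gg N19707 = N28657 := rfl
theorem L242706 : sm ga N28657 = N19711 := ded_15_1 (flp_g L167372) (flp_a L167332) L242704
theorem L242710 : sm ge N28657 = N19777 := ded_41_1 (flp_g L167937) (flp_e L167341) L242704
theorem L242715 : sm gf N19708 = N28658 := rfl
theorem L242717 : sm gb N28658 = N28658 := ded_22_1 (flp_f L242715) L167351 L242715
theorem L242718 : sm gc N28658 = N19709 := ded_29_1 (flp_f L167353) L167343 L242715
theorem L242720 : sm gd N28658 = N28658 := ded_35_1 (flp_f L242715) L167352 L242715
theorem L242721 : sm gj N28658 = N19737 := ded_46_2 (flp_f L167607) (flp_j L167347) L242715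
theorem L242723 : sm gi N28658 = N19721 := ded_48_2 (flp_f L167469) (flp_i L167349) L242715
theorem L242725 : sm gh N19708 = N28659 := rfl
theorem L242730 : sm ge N28659 = N20677 := ded_43_1 (flp_h L175774) (flp_e L167345) L242725
theorem L242732 : sm gj N28659 = N19738 := ded_52_1 (flp_h L167615) (flp_j L167347) L242725
theorem L242734 : sm ge N19709 = N28660 := rfl
theorem L242736 : sm gb N28660 = N19712 := ded_21_1 (flp_e L167382) (flp_b L167355) L242734
theorem L242738 : sm gj N28660 = N19739 := ded_42_2 (flp_e L167623) (flp_j L167359) L242734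
theorem L242740 : sm gi N28660 = N19723 := ded_44_2 (flp_e L167486) (flp_i L167361) L242734
theorem L242742 : sm gd N28660 = N19780 := ded_34_1 (flp_e L167969) L115936 (flp_e L115541) (flp_d L167357) L242734
theorem L242744 : sm gf N28660 = N20678 := ded_40_2 (flp_e L175781) (flp_f L121194) (flp_e L115529) L167353 L242734
theorem L242746 : sm gg N19709 = N28661 := rfl
theorem L242748 : sm gb N28661 = N19713 := ded_23_1 (flp_g L167394) (flp_b L167355) L242746
theorem L242750 : sm gd N28661 = N19711 := ded_36_1 (flp_g L167372) (flp_d L167357) L242746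
theorem L242752 : sm gi N28661 = N19724 := ded_51_2 (flp_g L167496) (flp_i L167361) L242746
theorem L242754 : sm gh N19709 = N28662 := rfl
theorem L242756 : sm gb N28662 = N19714 := ded_25_1 (flp_h L167402) (flp_b L167355) L242754
theorem L242758 : sm gf N28662 = N19710 := ded_47_1 (flp_h L167363) L167353 L242754
theorem L242760 : sm gj N28662 = N19741 := ded_52_1 (flp_h L167642) (flp_j L167359) L242754
theorem L242762 : sm gd N28662 = N28662 := ded_38_1 (flp_h L242754) L167357 L115538 (flp_d L167357) L242754
theorem L242763 : sm gi N19710 = N28663 := rfl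
theorem L242765 : sm gb N28663 = N19715 := ded_26_1 (flp_i L167411) (flp_b L167365) L242763
theorem L242768 : sm ge N28663 = N20681 := ded_44_1 (flp_i L175807) (flp_e L167367) L242763
theorem L242774 : sm gj N19711 = N28664 := rfl
theorem L242784 : sm gg N28664 = N19743 := ded_49_1 (flp_j L167659) (flp_g L115721) (flp_j L115536) L167372 L242774
theorem L242786 : sm gg N19712 = N28665 := rfl
theorem L242788 : sm ga N28665 = N28665 := ded_15_1 (flp_g L242786) L167384 L242786
theorem L242789 : sm gc N28665 = N28665 := ded_30_1 (flp_g L242786) L167385 L242786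
theorem L242790 : sm gd N28665 = N19785 := ded_36_1 (flp_g L168020) (flp_d L167390) L242786
theorem L242792 : sm ge N28665 = N19713 := ded_41_1 (flp_g L167394) L167382 L242786
theorem L242794 : sm gi N28665 = N19728 := ded_51_2 (flp_g L167527) (flp_i L167388) L242786
theorem L242796 : sm gh N19712 = N28666 := rfl
theorem L242798 : sm ga N28666 = N28666 := ded_17_1 (flp_h L242796) L167384 L242796
theorem L242799 : sm gc N28666 = N28666 := ded_32_1 (flp_h L242796) L167385 L242796
theorem L242800 : sm ge N28666 = N19714 := ded_43_1 (flp_h L167402) L167382 L242796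
theorem L242802 : sm gf N28666 = N20684 := ded_47_1 (flp_h L175837) (flp_f L167392) L242796
theorem L242804 : sm gj N28666 = N19745 := ded_52_1 (flp_h L167680) (flp_j L167386) L242796
theorem L242806 : sm gj N19713 = N28667 := rfl
theorem L242810 : sm gd N28667 = N19716 := ded_37_1 (flp_j L167422) (flp_d L167398) L242806
theorem L242816 : sm gh N19713 = N28668 := rfl
theorem L242823 : sm gi N19714 = N28669 := rfl
theorem L242828 : sm gf N28669 = N19715 := ded_48_1 (flp_i L167411) (flp_f L167406) L242823
theorem L242830 : sm gj N28669 = N19748 := ded_53_1 (flp_i L167705) (flp_j L167408) L242823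
theorem L242834 : sm gb N19717 = N28670 := rfl
theorem L242837 : sm ge N28670 = N20688 := ded_21_2 (flp_b L175871) (flp_e L167438) L242834
theorem L242839 : sm gj N28670 = N19749 := ded_24_2 (flp_b L167714) (flp_j L167440) L242834
theorem L242843 : sm gf N19717 = N28671 := rfl
theorem L242845 : sm ga N28671 = N19721 := ded_14_1 (flp_f L167469) (flp_a L167436) L242843
theorem L242847 : sm gc N28671 = N19718 := ded_29_1 (flp_f L167443) L167434 L242843
theorem L242852 : sm gh N19717 = N28672 := rfl
theorem L242856 : sm gc N28672 = N19719 := ded_32_1 (flp_h L167452) L167434 L242852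
theorem L242862 : sm ge N19718 = N28673 := rfl
theorem L242864 : sm ga N28673 = N19723 := ded_13_1 (flp_e L167486) (flp_a L167445) L242862
theorem L242866 : sm gb N28673 = N28673 := ded_21_1 (flp_e L242862) L167447 L242862
theorem L242867 : sm gj N28673 = N19752 := ded_42_2 (flp_e L167738) (flp_j L167450) L242862
theorem L242869 : sm gd N28673 = N19793 := ded_34_1 (flp_e L168104) L116031 (flp_e L115601) (flp_d L167448) L242862
theorem L242871 : sm gf N28673 = N20691 := ded_40_2 (flp_e L175897) (flp_f L121273) (flp_e L115591) L167443 L242862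
theorem L242873 : sm gg N19718 = N28674 := rfl
theorem L242875 : sm ga N28674 = N19724 := ded_15_1 (flp_g L167496) (flp_a L167445) L242873
theorem L242878 : sm gd N28674 = N19720 := ded_36_1 (flp_g L167461) (flp_d L167448) L242873
theorem L242880 : sm gh N19718 = N28675 := rfl
theorem L242882 : sm ga N28675 = N19725 := ded_17_1 (flp_h L167502) (flp_a L167445) L242880
theorem L242889 : sm gi N19719 = N28676 := rfl
theorem L242896 : sm gj N28676 = N19755 := ded_53_1 (flp_i L167762) (flp_j L167459) L242889
theorem L242898 : sm gj N19720 = N28677 := rfl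
theorem L242900 : sm ga N28677 = N19727 := ded_16_1 (flp_j L167518) (flp_a L167463) L242898
theorem L242904 : sm ge N28677 = N19797 := ded_42_1 (flp_j L168140) (flp_e L167467) L242898
theorem L242908 : sm ge N19721 = N28678 := rfl
theorem L242910 : sm gb N28678 = N28678 := ded_21_1 (flp_e L242908) L167471 L242908
theorem L242911 : sm gc N28678 = N19723 := ded_28_1 (flp_e L167486) (flp_c L167472) L242908
theorem L242913 : sm gj N28678 = N19757 := ded_42_2 (flp_e L167779) (flp_j L167475) L242908
theorem L242915 : sm gf N28678 = N20696 := ded_40_2 (flp_e L175943) (flp_f L121300) (flp_e L115605) L167469 L242908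
theorem L242917 : sm gg N19721 = N28679 := rfl
theorem L242919 : sm gb N28679 = N28679 := ded_23_1 (flp_g L242917) L167471 L242917
theorem L242920 : sm gc N28679 = N19724 := ded_30_1 (flp_g L167496) (flp_c L167472) L242917
theorem L242922 : sm gd N28679 = N28679 := ded_36_1 (flp_g L242917) L167474 L242917
theorem L242932 : sm gd N19722 = N28681 := rfl
theorem L242935 : sm gj N28681 = N19760 := ded_37_2 (flp_d L167800) (flp_j L167484) L242932
theorem L242947 : sm gg N19723 = N28683 := rfl
theorem L242949 : sm gb N28683 = N19728 := ded_23_1 (flp_g L167527) (flp_b L167488) L242947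
theorem L242951 : sm gd N28683 = N19803 := ded_36_1 (flp_g L168196) (flp_d L167492) L242947
theorem L242953 : sm ge N28683 = N19724 := ded_41_1 (flp_g L167496) L167486 L242947
theorem L242955 : sm gh N19723 = N28684 := rfl
theorem L242957 : sm gb N28684 = N19729 := ded_25_1 (flp_h L167535) (flp_b L167488) L242955
theorem L242959 : sm ge N28684 = N19725 := ded_43_1 (flp_h L167502) L167486 L242955
theorem L242961 : sm gf N28684 = N20702 := ded_47_1 (flp_h L175989) (flp_f L167494) L242955
theorem L242963 : sm gj N28684 = N19763 := ded_52_1 (flp_h L167821) (flp_j L167490) L242955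
theorem L242965 : sm gj N19724 = N28685 := rfl
theorem L242973 : sm gh N19724 = N28686 := rfl
theorem L242975 : sm gb N28686 = N19731 := ded_25_1 (flp_h L167553) (flp_b L167498) L242973
theorem L242977 : sm gg N28686 = N19725 := ded_50_1 (flp_h L167502) L167496 L242973
theorem L242979 : sm gi N19725 = N28687 := rfl
theorem L242981 : sm gb N28687 = N19732 := ded_26_1 (flp_i L167559) (flp_b L167504) L242979
theorem L242983 : sm gf N28687 = N19726 := ded_48_1 (flp_i L167510) (flp_f L167506) L242979
theorem L242985 : sm gj N28687 = N19766 := ded_53_1 (flp_i L167843) (flp_j L167508) L242979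
theorem L242987 : sm gf N19728 = N28688 := rfl
theorem L242991 : sm gd N28688 = N19808 := ded_35_1 (flp_f L168236) (flp_d L167531) L242987
theorem L242995 : sm gj N19728 = N28689 := rfl
theorem L242999 : sm gd N28689 = N19809 := ded_37_1 (flp_j L168244) (flp_d L167531) L242995
theorem L243005 : sm gh N19728 = N28690 := rfl
theorem L243011 : sm gg N28690 = N19729 := ded_50_1 (flp_h L167535) L167527 L243005
theorem L243022 : sm gi N19729 = N28692 := rfl
theorem L243028 : sm gf N28692 = N20710 := ded_48_1 (flp_i L176053) (flp_f L167541) L243022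
theorem L243046 : sm gb N19733 = N28695 := rfl
theorem L243052 : sm gi N28695 = N19749 := ded_26_2 (flp_b L167714) (flp_i L167574) L243046
theorem L243056 : sm gf N19733 = N28696 := rfl
theorem L243058 : sm ga N28696 = N19737 := ded_14_1 (flp_f L167607) (flp_a L167569) L243056
theorem L243060 : sm gc N28696 = N19734 := ded_29_1 (flp_f L167577) L167567 L243056
theorem L243063 : sm gi N28696 = N19750 := ded_48_2 (flp_f L167722) (flp_i L167574) L243056
theorem L243074 : sm ge N19734 = N28698 := rfl
theorem L243076 : sm ga N28698 = N19739 := ded_13_1 (flp_e L167623) (flp_a L167579) L243074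
theorem L243079 : sm gi N28698 = N19752 := ded_44_2 (flp_e L167738) (flp_i L167584) L243074
theorem L243083 : sm gf N28698 = N20743 := ded_40_2 (flp_e L176331) (flp_f L121562) (flp_e L115683) L167577 L243074
theorem L243085 : sm gg N19734 = N28699 := rfl
theorem L243087 : sm ga N28699 = N19740 := ded_15_1 (flp_g L167633) (flp_a L167579) L243085
theorem L243092 : sm gi N28699 = N19753 := ded_51_2 (flp_g L167747) (flp_i L167584) L243085
theorem L243095 : sm gh N19734 = N28700 := rfl
theorem L243097 : sm ga N28700 = N19741 := ded_17_1 (flp_h L167642) (flp_a L167579) L243095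
theorem L243100 : sm gf N28700 = N19735 := ded_47_1 (flp_h L167586) L167577 L243095
theorem L243103 : sm gi N19735 = N28701 := rfl
theorem L243109 : sm ge N28701 = N20746 := ded_44_1 (flp_i L176357) (flp_e L167591) L243103
theorem L243114 : sm gj N19736 = N28702 := rfl
theorem L243116 : sm ga N28702 = N19743 := ded_16_1 (flp_j L167659) (flp_a L167597) L243114
theorem L243120 : sm ge N28702 = N19822 := ded_42_1 (flp_j L168369) (flp_e L167601) L243114
theorem L243126 : sm ge N19737 = N28703 := rfl
theorem L243128 : sm gb N28703 = N28703 := ded_21_1 (flp_e L243126) L167609 L243126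
theorem L243129 : sm gc N28703 = N19739 := ded_28_1 (flp_e L167623) (flp_c L167610) L243126
theorem L243131 : sm gi N28703 = N19757 := ded_44_2 (flp_e L167779) (flp_i L167613) L243126
theorem L243133 : sm gf N28703 = N20748 := ded_40_2 (flp_e L176377) (flp_f L121589) (flp_e L115698) L167607 L243126
theorem L243135 : sm gg N19737 = N28704 := rfl
theorem L243137 : sm gb N28704 = N28704 := ded_23_1 (flp_g L243135) L167609 L243135
theorem L243138 : sm gc N28704 = N19740 := ded_30_1 (flp_g L167633) (flp_c L167610) L243135
theorem L243140 : sm gd N28704 = N28704 := ded_36_1 (flp_g L243135) L167612 L243135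
theorem L243141 : sm gi N28704 = N19758 := ded_51_2 (flp_g L167786) (flp_i L167613) L243135
theorem L243143 : sm gf N28704 = N28704 := ded_45_1 (flp_g L243135) (flp_f L167607) L115700 L167607 L243135
theorem L243144 : sm gh N19737 = N28705 := rfl
theorem L243147 : sm gc N28705 = N19741 := ded_32_1 (flp_h L167642) (flp_c L167610) L243144
theorem L243149 : sm gf N28705 = N19738 := ded_47_1 (flp_h L167615) L167607 L243144
theorem L243157 : sm gi N19738 = N28707 := rfl
theorem L243160 : sm gc N28707 = N19742 := ded_33_1 (flp_i L167649) (flp_c L167618) L243157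
theorem L243162 : sm ge N28707 = N20752 := ded_44_1 (flp_i L176407) (flp_e L167620) L243157
theorem L243167 : sm gg N19739 = N28708 := rfl
theorem L243169 : sm gb N28708 = N19744 := ded_23_1 (flp_g L167670) (flp_b L167625) L243167
theorem L243171 : sm gd N28708 = N19828 := ded_36_1 (flp_g L168429) (flp_d L167629) L243167
theorem L243173 : sm ge N28708 = N19740 := ded_41_1 (flp_g L167633) L167623 L243167
theorem L243175 : sm gi N28708 = N19762 := ded_51_2 (flp_g L167813) (flp_i L167627) L243167
theorem L243177 : sm gh N19739 = N28709 := rfl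
theorem L243179 : sm gb N28709 = N19745 := ded_25_1 (flp_h L167680) (flp_b L167625) L243177
theorem L243181 : sm ge N28709 = N19741 := ded_43_1 (flp_h L167642) L167623 L243177
theorem L243183 : sm gf N28709 = N20754 := ded_47_1 (flp_h L176425) (flp_f L167631) L243177
theorem L243185 : sm gj N19740 = N28710 := rfl
theorem L243187 : sm gb N28710 = N19746 := ded_24_1 (flp_j L167688) (flp_b L167635) L243185
theorem L243189 : sm gd N28710 = N19743 := ded_37_1 (flp_j L167659) (flp_d L167637) L243185
theorem L243191 : sm gf N28710 = N28710 := ded_46_1 (flp_j L243185) L167641 L243185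
theorem L243192 : sm gi N28710 = N19764 := ded_53_2 (flp_j L167829) (flp_i L167639) L243185
theorem L243194 : sm gh N19740 = N28711 := rfl
theorem L243196 : sm gb N28711 = N19747 := ded_25_1 (flp_h L167697) (flp_b L167635) L243194
theorem L243198 : sm gf N28711 = N28711 := ded_47_1 (flp_h L243194) L167641 L243194
theorem L243199 : sm gg N28711 = N19741 := ded_50_1 (flp_h L167642) L167633 L243194
theorem L243201 : sm gd N28711 = N28711 := ded_38_1 (flp_h L243194) L167637 L115728 (flp_d L167637) L243194
theorem L243202 : sm gi N19741 = N28712 := rfl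
theorem L243204 : sm gb N28712 = N19748 := ded_26_1 (flp_i L167705) (flp_b L167644) L243202
theorem L243211 : sm gf N19744 = N28713 := rfl
theorem L243213 : sm ga N28713 = N28713 := ded_14_1 (flp_f L243211) L167672 L243211
theorem L243214 : sm gc N28713 = N28713 := ded_29_1 (flp_f L243211) L167673 L243211
theorem L243215 : sm gd N28713 = N19833 := ded_35_1 (flp_f L168473) (flp_d L167674) L243211
theorem L243217 : sm gi N28713 = N19767 := ded_48_2 (flp_f L167849) (flp_i L167678) L243211
theorem L243219 : sm ge N28713 = N28713 := ded_40_1 (flp_f L243211) L167676 L115750 (flp_e L167676) L243211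
theorem L243220 : sm gg N28713 = N20758 := ded_45_2 (flp_f L176455) (flp_g L121645) (flp_f L115740) L167670 L243211
theorem L243222 : sm gj N19744 = N28714 := rfl
theorem L243224 : sm ga N28714 = N28714 := ded_16_1 (flp_j L243222) L167672 L243222
theorem L243225 : sm gc N28714 = N28714 := ded_31_1 (flp_j L243222) L167673 L243222
theorem L243226 : sm gd N28714 = N19834 := ded_37_1 (flp_j L168484) (flp_d L167674) L243222
theorem L243228 : sm ge N28714 = N19746 := ded_42_1 (flp_j L167688) (flp_e L167676) L243222
theorem L243230 : sm gi N28714 = N19768 := ded_53_2 (flp_j L167858) (flp_i L167678) L243222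
theorem L243232 : sm gh N19744 = N28715 := rfl
theorem L243234 : sm ga N28715 = N28715 := ded_17_1 (flp_h L243232) L167672 L243232
theorem L243235 : sm gc N28715 = N28715 := ded_32_1 (flp_h L243232) L167673 L243232
theorem L243236 : sm ge N28715 = N19747 := ded_43_1 (flp_h L167697) (flp_e L167676) L243232
theorem L243238 : sm gg N28715 = N19745 := ded_50_1 (flp_h L167680) L167670 L243232
theorem L243240 : sm gd N19745 = N28716 := rfl
theorem L243242 : sm ga N28716 = N28716 := ded_12_1 (flp_d L243240) L167682 L243240
theorem L243243 : sm gf N28716 = N20761 := ded_35_2 (flp_d L176482) (flp_f L167686) L243240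
theorem L243245 : sm ge N28716 = N28716 := ded_34_2 (flp_d L243240) L167684 L115757 (flp_e L167684) L243240
theorem L243246 : sm gh N28716 = N19836 := ded_38_2 (flp_d L168502) (flp_h L116272) (flp_d L115738) L167680 L243240
theorem L243248 : sm gi N19745 = N28717 := rfl
theorem L243250 : sm ga N28717 = N28717 := ded_18_1 (flp_i L243248) L167682 L243248
theorem L243251 : sm gc N28717 = N28717 := ded_33_1 (flp_i L243248) L167683 L243248
theorem L243252 : sm ge N28717 = N19748 := ded_44_1 (flp_i L167705) (flp_e L167684) L243248
theorem L243254 : sm gf N28717 = N20762 := ded_48_1 (flp_i L176487) (flp_f L167686) L243248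
theorem L243256 : sm gh N28717 = N19771 := ded_54_1 (flp_i L167881) (flp_h L115869) (flp_i L115736) L167680 L243248
theorem L243258 : sm gh N19746 = N28718 := rfl
theorem L243263 : sm gj N28718 = N19747 := ded_52_1 (flp_h L167697) L167688 L243258
theorem L243266 : sm gi N19747 = N28719 := rfl
theorem L243272 : sm gg N28719 = N19748 := ded_51_1 (flp_i L167705) (flp_g L167702) L243266
theorem L243292 : sm ge N19750 = N28722 := rfl
theorem L243294 : sm ga N28722 = N19757 := ded_13_1 (flp_e L167779) (flp_a L167724) L243292
theorem L243296 : sm gc N28722 = N19752 := ded_28_1 (flp_e L167738) (flp_c L167726) L243292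
theorem L243300 : sm gg N19750 = N28723 := rfl
theorem L243302 : sm ga N28723 = N19758 := ded_15_1 (flp_g L167786) (flp_a L167724) L243300
theorem L243308 : sm gh N19750 = N28724 := rfl
theorem L243310 : sm ga N28724 = N19759 := ded_17_1 (flp_h L167793) (flp_a L167724) L243308
theorem L243331 : sm gg N19752 = N28727 := rfl
theorem L243333 : sm ga N28727 = N19762 := ded_15_1 (flp_g L167813) (flp_a L167740) L243331
theorem L243335 : sm gb N28727 = N28727 := ded_23_1 (flp_g L243331) L167742 L243331
theorem L243336 : sm gd N28727 = N19847 := ded_36_1 (flp_g L168602) (flp_d L167743) L243331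
theorem L243338 : sm ge N28727 = N19753 := ded_41_1 (flp_g L167747) L167738 L243331
theorem L243340 : sm gh N19752 = N28728 := rfl
theorem L243342 : sm ga N28728 = N19763 := ded_17_1 (flp_h L167821) (flp_a L167740) L243340
theorem L243347 : sm gf N28728 = N20773 := ded_47_1 (flp_h L176573) (flp_f L167745) L243340
theorem L243357 : sm gh N19753 = N28730 := rfl
theorem L243359 : sm ga N28730 = N19765 := ded_17_1 (flp_h L167836) (flp_a L167749) L243357
theorem L243372 : sm gd N19757 = N28732 := rfl
theorem L243374 : sm gb N28732 = N28732 := ded_20_1 (flp_d L243372) L167781 L243372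
theorem L243375 : sm gf N28732 = N20777 := ded_35_2 (flp_d L176605) (flp_f L167784) L243372
theorem L243377 : sm gc N28732 = N19852 := ded_27_1 (flp_d L168643) L116383 (flp_d L115829) (flp_c L167782) L243372
theorem L243379 : sm ge N28732 = N28732 := ded_34_2 (flp_d L243372) (flp_e L167779) L115816 L167779 L243372
theorem L243380 : sm gg N19757 = N28733 := rfl
theorem L243382 : sm gb N28733 = N28733 := ded_23_1 (flp_g L243380) L167781 L243380
theorem L243383 : sm gc N28733 = N19762 := ded_30_1 (flp_g L167813) (flp_c L167782) L243380
theorem L243385 : sm ge N28733 = N19758 := ded_41_1 (flp_g L167786) L167779 L243380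
theorem L243387 : sm gh N19757 = N28734 := rfl
theorem L243390 : sm gc N28734 = N19763 := ded_32_1 (flp_h L167821) (flp_c L167782) L243387
theorem L243394 : sm gf N28734 = N20779 := ded_47_1 (flp_h L176619) (flp_f L167784) L243387
theorem L243396 : sm gj N19758 = N28735 := rfl
theorem L243398 : sm gb N28735 = N28735 := ded_24_1 (flp_j L243396) L167788 L243396
theorem L243399 : sm gc N28735 = N19764 := ded_31_1 (flp_j L167829) (flp_c L167789) L243396
theorem L243401 : sm gd N28735 = N28735 := ded_37_1 (flp_j L243396) L167791 L243396
theorem L243402 : sm gf N28735 = N28735 := ded_46_1 (flp_j L243396) L167792 L243396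
theorem L243403 : sm gh N19758 = N28736 := rfl
theorem L243406 : sm gc N28736 = N19765 := ded_32_1 (flp_h L167836) (flp_c L167789) L243403
theorem L243417 : sm gi N19759 = N28738 := rfl
theorem L243424 : sm ge N19760 = N28739 := rfl
theorem L243429 : sm gd N28739 = N20784 := ded_34_1 (flp_e L176657) (flp_d L121768) (flp_e L115822) L167800 L243424
theorem L243431 : sm gi N19760 = N28740 := rfl
theorem L243437 : sm gf N19762 = N28741 := rfl
theorem L243439 : sm gb N28741 = N19767 := ded_22_1 (flp_f L167849) (flp_b L167815) L243437
theorem L243441 : sm gd N28741 = N19861 := ded_35_1 (flp_f L168719) (flp_d L167817) L243437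
theorem L243443 : sm ge N28741 = N28741 := ded_40_1 (flp_f L243437) L167819 L115839 (flp_e L167819) L243437
theorem L243444 : sm gg N28741 = N20786 := ded_45_2 (flp_f L176671) (flp_g L121781) (flp_f L115831) L167813 L243437
theorem L243446 : sm gj N19762 = N28742 := rfl
theorem L243448 : sm gb N28742 = N19768 := ded_24_1 (flp_j L167858) (flp_b L167815) L243446
theorem L243450 : sm gd N28742 = N19862 := ded_37_1 (flp_j L168727) (flp_d L167817) L243446
theorem L243452 : sm ge N28742 = N19764 := ded_42_1 (flp_j L167829) (flp_e L167819) L243446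
theorem L243454 : sm gh N19762 = N28743 := rfl
theorem L243456 : sm gb N28743 = N19769 := ded_25_1 (flp_h L167866) (flp_b L167815) L243454
theorem L243458 : sm ge N28743 = N19765 := ded_43_1 (flp_h L167836) (flp_e L167819) L243454
theorem L243460 : sm gg N28743 = N19763 := ded_50_1 (flp_h L167821) L167813 L243454
theorem L243462 : sm gd N19763 = N28744 := rfl
theorem L243464 : sm gb N28744 = N19770 := ded_20_1 (flp_d L167874) (flp_b L167823) L243462
theorem L243466 : sm gf N28744 = N20789 := ded_35_2 (flp_d L176694) (flp_f L167827) L243462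
theorem L243468 : sm gh N28744 = N19864 := ded_38_2 (flp_d L168741) (flp_h L116427) (flp_d L115829) L167821 L243462
theorem L243478 : sm gh N19764 = N28746 := rfl
theorem L243483 : sm gj N28746 = N19765 := ded_52_1 (flp_h L167836) L167829 L243478
theorem L243485 : sm gi N19765 = N28747 := rfl
theorem L243487 : sm gb N28747 = N19773 := ded_26_1 (flp_i L167896) (flp_b L167838) L243485
theorem L243492 : sm gj N19767 = N28748 := rfl
theorem L243494 : sm ga N28748 = N28748 := ded_16_1 (flp_j L243492) L167851 L243492
theorem L243495 : sm gc N28748 = N28748 := ded_31_1 (flp_j L243492) L167852 L243492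
theorem L243496 : sm gd N28748 = N19868 := ded_37_1 (flp_j L168771) (flp_d L167853) L243492
theorem L243498 : sm ge N28748 = N28748 := ded_42_1 (flp_j L243492) L167855 L243492
theorem L243499 : sm gf N28748 = N19768 := ded_46_1 (flp_j L167858) L167849 L243492
theorem L243501 : sm gh N19767 = N28749 := rfl
theorem L243503 : sm ga N28749 = N28749 := ded_17_1 (flp_h L243501) L167851 L243501
theorem L243504 : sm gc N28749 = N28749 := ded_32_1 (flp_h L243501) L167852 L243501
theorem L243505 : sm ge N28749 = N28749 := ded_43_1 (flp_h L243501) L167855 L243501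
theorem L243506 : sm gf N28749 = N19769 := ded_47_1 (flp_h L167866) L167849 L243501
theorem L243508 : sm gg N28749 = N20794 := ded_50_1 (flp_h L176732) (flp_g L167856) L243501
theorem L243510 : sm gh N19768 = N28750 := rfl
theorem L243514 : sm ge N28750 = N19772 := ded_43_1 (flp_h L167889) (flp_e L167864) L243510
theorem L243516 : sm gj N28750 = N19769 := ded_52_1 (flp_h L167866) L167858 L243510
theorem L243518 : sm gd N19769 = N28751 := rfl
theorem L243521 : sm gg N28751 = N19770 := ded_36_2 (flp_d L167874) (flp_g L167872) L243518
theorem L243523 : sm gh N28751 = N19871 := ded_38_2 (flp_d L168800) (flp_h L116473) (flp_d L115865) L167866 L243518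
theorem L243525 : sm gi N19769 = N28752 := rfl
theorem L243531 : sm gg N28752 = N19771 := ded_51_1 (flp_i L167881) (flp_g L167872) L243525
theorem L243533 : sm gc N19770 = N28753 := rfl
theorem L243536 : sm gf N28753 = N20798 := ded_29_2 (flp_c L176763) (flp_f L167877) L243533
theorem L243538 : sm gh N28753 = N19873 := ded_32_2 (flp_c L168814) (flp_h L167879) L243533
theorem L243548 : sm gi N19772 = N28755 := rfl
theorem L243555 : sm gb N19774 = N28756 := rfl
theorem L243558 : sm ge N28756 = N20817 := ded_21_2 (flp_b L176941) (flp_e L167907) L243555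
theorem L243561 : sm gj N28756 = N19815 := ded_24_2 (flp_b L168298) (flp_j L167910) L243555
theorem L243563 : sm gi N28756 = N19790 := ded_26_2 (flp_b L168073) (flp_i L167912) L243555
theorem L243565 : sm ga N28756 = N19983 := ded_10_1 (flp_b L169798) L117163 (flp_b L115929) (flp_a L167905) L243555
theorem L243568 : sm gf N19774 = N28757 := rfl
theorem L243570 : sm ga N28757 = N19778 := ded_14_1 (flp_f L167947) (flp_a L167905) L243568
theorem L243572 : sm gc N28757 = N19775 := ded_29_1 (flp_f L167915) L167903 L243568
theorem L243575 : sm gj N28757 = N19816 := ded_46_2 (flp_f L168310) (flp_j L167910) L243568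
theorem L243577 : sm gi N28757 = N19791 := ded_48_2 (flp_f L168084) (flp_i L167912) L243568
theorem L243579 : sm gh N19774 = N28758 := rfl
theorem L243581 : sm ga N28758 = N19779 := ded_17_1 (flp_h L167958) (flp_a L167905) L243579
theorem L243590 : sm ge N19775 = N28759 := rfl
theorem L243592 : sm ga N28759 = N19780 := ded_13_1 (flp_e L167969) (flp_a L167917) L243590
theorem L243597 : sm gi N28759 = N19793 := ded_44_2 (flp_e L168104) (flp_i L167924) L243590
theorem L243601 : sm gg N19775 = N28760 := rfl
theorem L243603 : sm ga N28760 = N19781 := ded_15_1 (flp_g L167979) (flp_a L167917) L243601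
theorem L243606 : sm gd N28760 = N19777 := ded_36_1 (flp_g L167937) (flp_d L167920) L243601
theorem L243611 : sm gh N19775 = N28761 := rfl
theorem L243616 : sm gf N28761 = N19776 := ded_47_1 (flp_h L167926) L167915 L243611
theorem L243621 : sm gi N19776 = N28762 := rfl
theorem L243627 : sm ge N28762 = N20823 := ded_44_1 (flp_i L177002) (flp_e L167931) L243621
theorem L243630 : sm gj N28762 = N19821 := ded_53_1 (flp_i L168357) (flp_j L167934) L243621
theorem L243632 : sm gh N28762 = N19796 := ded_54_1 (flp_i L168130) (flp_h L116035) (flp_i L115905) L167926 L243621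
theorem L243634 : sm gj N19777 = N28763 := rfl
theorem L243642 : sm gi N28763 = N19797 := ded_53_2 (flp_j L168140) (flp_i L167944) L243634
theorem L243644 : sm gg N28763 = N19822 := ded_49_1 (flp_j L168369) (flp_g L116187) (flp_j L115915) L167937 L243634
theorem L243646 : sm ge N19778 = N28764 := rfl
theorem L243648 : sm gb N28764 = N19991 := ded_21_1 (flp_e L169886) (flp_b L167949) L243646
theorem L243650 : sm gc N28764 = N19780 := ded_28_1 (flp_e L167969) (flp_c L167951) L243646
theorem L243652 : sm gj N28764 = N19823 := ded_42_2 (flp_e L168380) (flp_j L167954) L243646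
theorem L243654 : sm gi N28764 = N19798 := ded_44_2 (flp_e L168149) (flp_i L167956) L243646
theorem L243656 : sm gf N28764 = N20825 := ded_40_2 (flp_e L177024) (flp_f L122017) (flp_e L115922) L167947 L243646
theorem L243658 : sm gg N19778 = N28765 := rfl
theorem L243660 : sm gb N28765 = N19992 := ded_23_1 (flp_g L169896) (flp_b L167949) L243658
theorem L243662 : sm gc N28765 = N19781 := ded_30_1 (flp_g L167979) (flp_c L167951) L243658
theorem L243664 : sm gd N28765 = N28765 := ded_36_1 (flp_g L243658) L167953 L243658
theorem L243665 : sm gi N28765 = N19799 := ded_51_2 (flp_g L168159) (flp_i L167956) L243658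
theorem L243667 : sm gf N28765 = N28765 := ded_45_1 (flp_g L243658) (flp_f L167947) L115924 L167947 L243658
theorem L243668 : sm gh N19778 = N28766 := rfl
theorem L243670 : sm gb N28766 = N19993 := ded_25_1 (flp_h L169904) (flp_b L167949) L243668
theorem L243672 : sm gc N28766 = N19782 := ded_32_1 (flp_h L167988) (flp_c L167951) L243668
theorem L243674 : sm gf N28766 = N19779 := ded_47_1 (flp_h L167958) L167947 L243668
theorem L243676 : sm gj N28766 = N19825 := ded_52_1 (flp_h L168401) (flp_j L167954) L243668
theorem L243678 : sm gd N19779 = N28767 := rfl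
theorem L243680 : sm gb N28767 = N19994 := ded_20_1 (flp_d L169912) (flp_b L167960) L243678
theorem L243682 : sm gg N28767 = N28767 := ded_36_2 (flp_d L243678) L167966 L243678
theorem L243683 : sm gj N28767 = N19826 := ded_37_2 (flp_d L168409) (flp_j L167967) L243678
theorem L243685 : sm gc N28767 = N28767 := ded_27_1 (flp_d L243678) L167962 L115951 (flp_c L167962) L243678
theorem L243686 : sm gh N28767 = N28767 := ded_38_2 (flp_d L243678) (flp_h L167958) L115931 L167958 L243678
theorem L243687 : sm gi N19779 = N28768 := rfl
theorem L243689 : sm gb N28768 = N19995 := ded_26_1 (flp_i L169918) (flp_b L167960) L243687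
theorem L243691 : sm gc N28768 = N19783 := ded_33_1 (flp_i L167997) (flp_c L167962) L243687
theorem L243693 : sm ge N28768 = N20829 := ded_44_1 (flp_i L177064) (flp_e L167964) L243687
theorem L243695 : sm gg N28768 = N28768 := ded_51_1 (flp_i L243687) L167966 L243687
theorem L243696 : sm gj N28768 = N19827 := ded_53_1 (flp_i L168417) (flp_j L167967) L243687
theorem L243698 : sm gh N28768 = N19802 := ded_54_1 (flp_i L168185) (flp_h L116061) (flp_i L115927) L167958 L243687
theorem L243700 : sm gg N19780 = N28769 := rfl
theorem L243702 : sm gb N28769 = N19785 := ded_23_1 (flp_g L168020) (flp_b L167971) L243700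
theorem L243704 : sm ge N28769 = N19781 := ded_41_1 (flp_g L167979) L167969 L243700
theorem L243706 : sm gi N28769 = N19803 := ded_51_2 (flp_g L168196) (flp_i L167975) L243700
theorem L243708 : sm gh N19780 = N28770 := rfl
theorem L243710 : sm gb N28770 = N19786 := ded_25_1 (flp_h L168029) (flp_b L167971) L243708
theorem L243712 : sm ge N28770 = N19782 := ded_43_1 (flp_h L167988) L167969 L243708
theorem L243714 : sm gf N28770 = N20831 := ded_47_1 (flp_h L177083) (flp_f L167977) L243708
theorem L243716 : sm gj N28770 = N19829 := ded_52_1 (flp_h L168437) (flp_j L167973) L243708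
theorem L243718 : sm gj N19781 = N28771 := rfl
theorem L243720 : sm gb N28771 = N19787 := ded_24_1 (flp_j L168040) (flp_b L167981) L243718
theorem L243722 : sm gd N28771 = N19784 := ded_37_1 (flp_j L168009) (flp_d L167983) L243718
theorem L243724 : sm gf N28771 = N28771 := ded_46_1 (flp_j L243718) L167987 L243718
theorem L243725 : sm gi N28771 = N19805 := ded_53_2 (flp_j L168212) (flp_i L167985) L243718
theorem L243727 : sm gg N28771 = N19830 := ded_49_1 (flp_j L168445) (flp_g L116225) (flp_j L115938) L167979 L243718
theorem L243729 : sm gh N19781 = N28772 := rfl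
theorem L243731 : sm gb N28772 = N19788 := ded_25_1 (flp_h L168052) (flp_b L167981) L243729
theorem L243733 : sm gf N28772 = N28772 := ded_47_1 (flp_h L243729) L167987 L243729
theorem L243734 : sm gg N28772 = N19782 := ded_50_1 (flp_h L167988) L167979 L243729
theorem L243736 : sm gd N28772 = N28772 := ded_38_1 (flp_h L243729) L167983 L115957 (flp_d L167983) L243729
theorem L243737 : sm gi N19782 = N28773 := rfl
theorem L243739 : sm gb N28773 = N19789 := ded_26_1 (flp_i L168061) (flp_b L167990) L243737
theorem L243741 : sm gd N28773 = N28773 := ded_39_1 (flp_i L243737) L167996 L243737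
theorem L243742 : sm gf N28773 = N19783 := ded_48_1 (flp_i L167997) (flp_f L167992) L243737
theorem L243744 : sm gj N28773 = N19832 := ded_53_1 (flp_i L168464) (flp_j L167994) L243737
theorem L243746 : sm gh N28773 = N19807 := ded_54_1 (flp_i L168228) (flp_h L116087) (flp_i L115940) L167988 L243737
theorem L243748 : sm gf N19785 = N28774 := rfl
theorem L243750 : sm ga N28774 = N28774 := ded_14_1 (flp_f L243748) L168022 L243748
theorem L243751 : sm gc N28774 = N20001 := ded_29_1 (flp_f L169976) (flp_c L168023) L243748
theorem L243753 : sm gi N28774 = N19808 := ded_48_2 (flp_f L168236) (flp_i L168027) L243748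
theorem L243755 : sm ge N28774 = N28774 := ded_40_1 (flp_f L243748) L168025 L115981 (flp_e L168025) L243748
theorem L243756 : sm gg N28774 = N20835 := ded_45_2 (flp_f L177119) (flp_g L122083) (flp_f L115970) L168020 L243748
theorem L243758 : sm gj N19785 = N28775 := rfl
theorem L243760 : sm ga N28775 = N28775 := ded_16_1 (flp_j L243758) L168022 L243758
theorem L243761 : sm gc N28775 = N20002 := ded_31_1 (flp_j L169985) (flp_c L168023) L243758
theorem L243763 : sm ge N28775 = N19787 := ded_42_1 (flp_j L168040) (flp_e L168025) L243758
theorem L243765 : sm gi N28775 = N19809 := ded_53_2 (flp_j L168244) (flp_i L168027) L243758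
theorem L243767 : sm gg N28775 = N19834 := ded_49_1 (flp_j L168484) (flp_g L116263) (flp_j L115966) L168020 L243758
theorem L243769 : sm gh N19785 = N28776 := rfl
theorem L243771 : sm ga N28776 = N28776 := ded_17_1 (flp_h L243769) L168022 L243769
theorem L243772 : sm gc N28776 = N20003 := ded_32_1 (flp_h L169995) (flp_c L168023) L243769
theorem L243774 : sm ge N28776 = N19788 := ded_43_1 (flp_h L168052) (flp_e L168025) L243769
theorem L243776 : sm gg N28776 = N19786 := ded_50_1 (flp_h L168029) L168020 L243769
theorem L243778 : sm gd N19786 = N28777 := rfl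
theorem L243780 : sm ga N28777 = N28777 := ded_12_1 (flp_d L243778) L168031 L243778
theorem L243781 : sm gf N28777 = N20838 := ded_35_2 (flp_d L177147) (flp_f L168036) L243778
theorem L243783 : sm gj N28777 = N19836 := ded_37_2 (flp_d L168502) (flp_j L168038) L243778
theorem L243785 : sm ge N28777 = N28777 := ded_34_2 (flp_d L243778) L168034 L115991 (flp_e L168034) L243778
theorem L243786 : sm gi N19786 = N28778 := rfl
theorem L243788 : sm ga N28778 = N28778 := ded_18_1 (flp_i L243786) L168031 L243786
theorem L243789 : sm gc N28778 = N20005 := ded_33_1 (flp_i L170010) (flp_c L168032) L243786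
theorem L243791 : sm ge N28778 = N19789 := ded_44_1 (flp_i L168061) (flp_e L168034) L243786
theorem L243793 : sm gf N28778 = N20839 := ded_48_1 (flp_i L177152) (flp_f L168036) L243786
theorem L243795 : sm gj N28778 = N19837 := ded_53_1 (flp_i L168508) (flp_j L168038) L243786
theorem L243797 : sm gh N28778 = N19812 := ded_54_1 (flp_i L168269) (flp_h L116119) (flp_i L115968) L168029 L243786
theorem L243799 : sm gh N19787 = N28779 := rfl
theorem L243801 : sm ga N28779 = N28779 := ded_17_1 (flp_h L243799) L168042 L243799
theorem L243802 : sm gc N28779 = N20006 := ded_32_1 (flp_h L170021) (flp_c L168043) L243799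
theorem L243804 : sm gf N28779 = N28779 := ded_47_1 (flp_h L243799) L168047 L243799
theorem L243805 : sm gg N28779 = N19838 := ded_50_1 (flp_h L168519) (flp_g L168050) L243799
theorem L243807 : sm gj N28779 = N19788 := ded_52_1 (flp_h L168052) L168040 L243799
theorem L243809 : sm gd N28779 = N28779 := ded_38_1 (flp_h L243799) L168045 L116011 (flp_d L168045) L243799
theorem L243810 : sm gi N19788 = N28780 := rfl
theorem L243812 : sm ga N28780 = N28780 := ded_18_1 (flp_i L243810) L168054 L243810
theorem L243813 : sm gc N28780 = N20007 := ded_33_1 (flp_i L170029) (flp_c L168055) L243810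
theorem L243815 : sm gd N28780 = N28780 := ded_39_1 (flp_i L243810) L168060 L243810
theorem L243816 : sm gf N28780 = N28780 := ded_48_1 (flp_i L243810) L168057 L243810
theorem L243817 : sm gg N28780 = N19789 := ded_51_1 (flp_i L168061) (flp_g L168058) L243810
theorem L243819 : sm gh N28780 = N19814 := ded_54_1 (flp_i L168290) (flp_h L116140) (flp_i L115979) L168052 L243810
theorem L243821 : sm gf N19790 = N28781 := rfl
theorem L243823 : sm ga N28781 = N20008 := ded_14_1 (flp_f L170037) (flp_a L168081) L243821
theorem L243825 : sm gb N28781 = N19791 := ded_22_1 (flp_f L168084) L168073 L243821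
theorem L243827 : sm gc N28781 = N28781 := ded_29_1 (flp_f L243821) L168083 L243821
theorem L243828 : sm gd N28781 = N28781 := ded_35_1 (flp_f L243821) L168075 L243821
theorem L243829 : sm gj N28781 = N19840 := ded_46_2 (flp_f L168541) (flp_j L168079) L243821
theorem L243831 : sm gh N19790 = N28782 := rfl
theorem L243833 : sm ga N28782 = N20009 := ded_17_1 (flp_h L170045) (flp_a L168081) L243831
theorem L243835 : sm gb N28782 = N19792 := ded_25_1 (flp_h L168093) L168073 L243831
theorem L243837 : sm gc N28782 = N28782 := ded_32_1 (flp_h L243831) L168083 L243831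
theorem L243838 : sm ge N28782 = N20843 := ded_43_1 (flp_h L177194) (flp_e L168076) L243831
theorem L243840 : sm gg N28782 = N28782 := ded_50_1 (flp_h L243831) L168078 L243831
theorem L243841 : sm gj N28782 = N19841 := ded_52_1 (flp_h L168549) (flp_j L168079) L243831
theorem L243843 : sm ge N19791 = N28783 := rfl
theorem L243845 : sm ga N28783 = N19798 := ded_13_1 (flp_e L168149) (flp_a L168086) L243843
theorem L243847 : sm gc N28783 = N19793 := ded_28_1 (flp_e L168104) (flp_c L168088) L243843
theorem L243849 : sm gj N28783 = N19842 := ded_42_2 (flp_e L168560) (flp_j L168091) L243843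
theorem L243851 : sm gf N28783 = N20844 := ded_40_2 (flp_e L177204) (flp_f L122142) (flp_e L116020) L168084 L243843
theorem L243853 : sm gg N19791 = N28784 := rfl
theorem L243855 : sm ga N28784 = N19799 := ded_15_1 (flp_g L168159) (flp_a L168086) L243853
theorem L243857 : sm gc N28784 = N19794 := ded_30_1 (flp_g L168113) (flp_c L168088) L243853
theorem L243859 : sm gd N28784 = N28784 := ded_36_1 (flp_g L243853) L168090 L243853
theorem L243860 : sm gf N28784 = N28784 := ded_45_1 (flp_g L243853) (flp_f L168084) L116022 L168084 L243853
theorem L243861 : sm gh N19791 = N28785 := rfl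
theorem L243863 : sm ga N28785 = N19800 := ded_17_1 (flp_h L168167) (flp_a L168086) L243861
theorem L243865 : sm gc N28785 = N19795 := ded_32_1 (flp_h L168121) (flp_c L168088) L243861
theorem L243867 : sm gf N28785 = N19792 := ded_47_1 (flp_h L168093) L168084 L243861
theorem L243869 : sm gj N28785 = N19844 := ded_52_1 (flp_h L168577) (flp_j L168091) L243861
theorem L243871 : sm gd N19792 = N28786 := rfl
theorem L243873 : sm ga N28786 = N19801 := ded_12_1 (flp_d L168177) (flp_a L168095) L243871
theorem L243875 : sm gg N28786 = N28786 := ded_36_2 (flp_d L243871) L168101 L243871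
theorem L243876 : sm gj N28786 = N19845 := ded_37_2 (flp_d L168585) (flp_j L168102) L243871
theorem L243878 : sm gh N28786 = N28786 := ded_38_2 (flp_d L243871) (flp_h L168093) L116025 L168093 L243871
theorem L243879 : sm gi N19792 = N28787 := rfl
theorem L243881 : sm ga N28787 = N19802 := ded_18_1 (flp_i L168185) (flp_a L168095) L243879
theorem L243883 : sm gc N28787 = N19796 := ded_33_1 (flp_i L168130) (flp_c L168097) L243879
theorem L243885 : sm ge N28787 = N20848 := ded_44_1 (flp_i L177241) (flp_e L168099) L243879
theorem L243887 : sm gg N28787 = N28787 := ded_51_1 (flp_i L243879) L168101 L243879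
theorem L243888 : sm gj N28787 = N19846 := ded_53_1 (flp_i L168592) (flp_j L168102) L243879
theorem L243890 : sm gg N19793 = N28788 := rfl
theorem L243892 : sm ga N28788 = N19803 := ded_15_1 (flp_g L168196) (flp_a L168106) L243890
theorem L243894 : sm gb N28788 = N28788 := ded_23_1 (flp_g L243890) L168108 L243890
theorem L243895 : sm ge N28788 = N19794 := ded_41_1 (flp_g L168113) L168104 L243890
theorem L243897 : sm gh N19793 = N28789 := rfl
theorem L243899 : sm ga N28789 = N19804 := ded_17_1 (flp_h L168202) (flp_a L168106) L243897
theorem L243901 : sm gb N28789 = N28789 := ded_25_1 (flp_h L243897) L168108 L243897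
theorem L243902 : sm ge N28789 = N19795 := ded_43_1 (flp_h L168121) L168104 L243897
theorem L243904 : sm gf N28789 = N20850 := ded_47_1 (flp_h L177257) (flp_f L168111) L243897
theorem L243906 : sm gj N28789 = N19848 := ded_52_1 (flp_h L168609) (flp_j L168109) L243897
theorem L243908 : sm gj N19794 = N28790 := rfl
theorem L243916 : sm gg N28790 = N19849 := ded_49_1 (flp_j L168618) (flp_g L116346) (flp_j L116033) L168113 L243908
theorem L243918 : sm gh N19794 = N28791 := rfl
theorem L243920 : sm ga N28791 = N19806 := ded_17_1 (flp_h L168221) (flp_a L168115) L243918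
theorem L243926 : sm gi N19795 = N28792 := rfl
theorem L243928 : sm ga N28792 = N19807 := ded_18_1 (flp_i L168228) (flp_a L168123) L243926
theorem L243930 : sm gb N28792 = N28792 := ded_26_1 (flp_i L243926) L168125 L243926
theorem L243931 : sm gf N28792 = N19796 := ded_48_1 (flp_i L168130) (flp_f L168126) L243926
theorem L243933 : sm gj N28792 = N19851 := ded_53_1 (flp_i L168636) (flp_j L168128) L243926
theorem L243935 : sm gd N19798 = N28793 := rfl
theorem L243937 : sm gb N28793 = N20020 := ded_20_1 (flp_d L170151) (flp_b L168151) L243935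
theorem L243939 : sm gf N28793 = N20854 := ded_35_2 (flp_d L177295) (flp_f L168157) L243935
theorem L243941 : sm gj N28793 = N19852 := ded_37_2 (flp_d L168643) (flp_j L168155) L243935
theorem L243943 : sm ge N28793 = N28793 := ded_34_2 (flp_d L243935) (flp_e L168149) L116058 L168149 L243935
theorem L243944 : sm gg N19798 = N28794 := rfl
theorem L243946 : sm gb N28794 = N20021 := ded_23_1 (flp_g L170159) (flp_b L168151) L243944
theorem L243948 : sm gc N28794 = N19803 := ded_30_1 (flp_g L168196) (flp_c L168153) L243944
theorem L243950 : sm ge N28794 = N19799 := ded_41_1 (flp_g L168159) L168149 L243944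
theorem L243952 : sm gh N19798 = N28795 := rfl
theorem L243954 : sm gb N28795 = N20022 := ded_25_1 (flp_h L170165) (flp_b L168151) L243952
theorem L243956 : sm gc N28795 = N19804 := ded_32_1 (flp_h L168202) (flp_c L168153) L243952
theorem L243958 : sm ge N28795 = N19800 := ded_43_1 (flp_h L168167) L168149 L243952
theorem L243960 : sm gf N28795 = N20856 := ded_47_1 (flp_h L177311) (flp_f L168157) L243952
theorem L243962 : sm gj N28795 = N19854 := ded_52_1 (flp_h L168658) (flp_j L168155) L243952
theorem L243964 : sm gj N19799 = N28796 := rfl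
theorem L243966 : sm gb N28796 = N20023 := ded_24_1 (flp_j L170175) (flp_b L168161) L243964
theorem L243968 : sm gc N28796 = N19805 := ded_31_1 (flp_j L168212) (flp_c L168163) L243964
theorem L243970 : sm gd N28796 = N28796 := ded_37_1 (flp_j L243964) L168165 L243964
theorem L243971 : sm gf N28796 = N28796 := ded_46_1 (flp_j L243964) L168166 L243964
theorem L243972 : sm gg N28796 = N19855 := ded_49_1 (flp_j L168668) (flp_g L116387) (flp_j L116059) L168159 L243964
theorem L243974 : sm gh N19799 = N28797 := rfl
theorem L243976 : sm gb N28797 = N20024 := ded_25_1 (flp_h L170183) (flp_b L168161) L243974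
theorem L243978 : sm gc N28797 = N19806 := ded_32_1 (flp_h L168221) (flp_c L168163) L243974
theorem L243980 : sm gf N28797 = N28797 := ded_47_1 (flp_h L243974) L168166 L243974
theorem L243981 : sm gg N28797 = N19800 := ded_50_1 (flp_h L168167) L168159 L243974
theorem L243983 : sm gd N19800 = N28798 := rfl
theorem L243985 : sm gb N28798 = N20025 := ded_20_1 (flp_d L170190) (flp_b L168169) L243983
theorem L243987 : sm gf N28798 = N19801 := ded_35_2 (flp_d L168177) (flp_f L168173) L243983
theorem L243989 : sm gj N28798 = N19857 := ded_37_2 (flp_d L168687) (flp_j L168175) L243983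
theorem L243991 : sm gh N28798 = N28798 := ded_38_2 (flp_d L243983) (flp_h L168167) L116058 L168167 L243983
theorem L243992 : sm gi N19800 = N28799 := rfl
theorem L243994 : sm gb N28799 = N20026 := ded_26_1 (flp_i L170198) (flp_b L168169) L243992
theorem L243996 : sm gc N28799 = N19807 := ded_33_1 (flp_i L168228) (flp_c L168171) L243992
theorem L243998 : sm gf N28799 = N19802 := ded_48_1 (flp_i L168185) (flp_f L168173) L243992
theorem L244000 : sm gj N28799 = N19858 := ded_53_1 (flp_i L168694) (flp_j L168175) L243992
theorem L244002 : sm ge N19801 = N28800 := rfl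
theorem L244004 : sm gb N28800 = N20027 := ded_21_1 (flp_e L170206) (flp_b L168179) L244002
theorem L244006 : sm gg N28800 = N28800 := ded_41_2 (flp_e L244002) L168181 L244002
theorem L244007 : sm gj N28800 = N19859 := ded_42_2 (flp_e L168702) (flp_j L168182) L244002
theorem L244009 : sm gh N28800 = N28800 := ded_43_2 (flp_e L244002) L168184 L244002
theorem L244010 : sm gd N28800 = N20861 := ded_34_1 (flp_e L177362) (flp_d L122233) (flp_e L116067) L168177 L244002
theorem L244012 : sm gi N19801 = N28801 := rfl
theorem L244014 : sm gb N28801 = N20028 := ded_26_1 (flp_i L170215) (flp_b L168179) L244012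
theorem L244016 : sm gd N28801 = N19802 := ded_39_1 (flp_i L168185) L168177 L244012
theorem L244018 : sm gg N28801 = N28801 := ded_51_1 (flp_i L244012) L168181 L244012
theorem L244019 : sm gj N28801 = N19860 := ded_53_1 (flp_i L168711) (flp_j L168182) L244012
theorem L244021 : sm gf N19803 = N28802 := rfl
theorem L244023 : sm gb N28802 = N19808 := ded_22_1 (flp_f L168236) (flp_b L168198) L244021
theorem L244025 : sm ge N28802 = N28802 := ded_40_1 (flp_f L244021) L168200 L116086 (flp_e L168200) L244021
theorem L244026 : sm gg N28802 = N20863 := ded_45_2 (flp_f L177382) (flp_g L122252) (flp_f L116078) L168196 L244021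
theorem L244028 : sm gj N19803 = N28803 := rfl
theorem L244030 : sm gb N28803 = N19809 := ded_24_1 (flp_j L168244) (flp_b L168198) L244028
theorem L244032 : sm ge N28803 = N19805 := ded_42_1 (flp_j L168212) (flp_e L168200) L244028
theorem L244034 : sm gg N28803 = N19862 := ded_49_1 (flp_j L168727) (flp_g L116421) (flp_j L116076) L168196 L244028
theorem L244036 : sm gh N19803 = N28804 := rfl
theorem L244038 : sm gb N28804 = N19810 := ded_25_1 (flp_h L168253) (flp_b L168198) L244036
theorem L244040 : sm ge N28804 = N19806 := ded_43_1 (flp_h L168221) (flp_e L168200) L244036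
theorem L244042 : sm gg N28804 = N19804 := ded_50_1 (flp_h L168202) L168196 L244036
theorem L244044 : sm gd N19804 = N28805 := rfl
theorem L244046 : sm gb N28805 = N19811 := ded_20_1 (flp_d L168262) (flp_b L168204) L244044
theorem L244048 : sm gf N28805 = N20866 := ded_35_2 (flp_d L177403) (flp_f L168208) L244044
theorem L244050 : sm gj N28805 = N19864 := ded_37_2 (flp_d L168741) (flp_j L168210) L244044
theorem L244052 : sm gi N19804 = N28806 := rfl
theorem L244054 : sm gb N28806 = N19812 := ded_26_1 (flp_i L168269) (flp_b L168204) L244052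
theorem L244056 : sm ge N28806 = N19807 := ded_44_1 (flp_i L168228) (flp_e L168206) L244052
theorem L244058 : sm gf N28806 = N20867 := ded_48_1 (flp_i L177410) (flp_f L168208) L244052
theorem L244060 : sm gj N28806 = N19865 := ded_53_1 (flp_i L168747) (flp_j L168210) L244052
theorem L244062 : sm gh N19805 = N28807 := rfl
theorem L244067 : sm gg N28807 = N19866 := ded_50_1 (flp_h L168755) (flp_g L168219) L244062
theorem L244069 : sm gj N28807 = N19806 := ded_52_1 (flp_h L168221) L168212 L244062
theorem L244071 : sm gi N19806 = N28808 := rfl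
theorem L244073 : sm gb N28808 = N19814 := ded_26_1 (flp_i L168290) (flp_b L168223) L244071
theorem L244075 : sm gf N28808 = N28808 := ded_48_1 (flp_i L244071) L168225 L244071
theorem L244076 : sm gg N28808 = N19807 := ded_51_1 (flp_i L168228) (flp_g L168226) L244071
theorem L244078 : sm gj N19808 = N28809 := rfl
theorem L244081 : sm gc N28809 = N20036 := ded_31_1 (flp_j L170286) (flp_c L168239) L244078
theorem L244084 : sm gf N28809 = N19809 := ded_46_1 (flp_j L168244) L168236 L244078
theorem L244086 : sm gh N19808 = N28810 := rfl
theorem L244089 : sm gc N28810 = N20037 := ded_32_1 (flp_h L170293) (flp_c L168239) L244086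
theorem L244092 : sm gf N28810 = N19810 := ded_47_1 (flp_h L168253) L168236 L244086
theorem L244094 : sm gg N28810 = N20871 := ded_50_1 (flp_h L177444) (flp_g L168242) L244086
theorem L244096 : sm gh N19809 = N28811 := rfl
theorem L244099 : sm gc N28811 = N20038 := ded_32_1 (flp_h L170301) (flp_c L168247) L244096
theorem L244101 : sm ge N28811 = N19813 := ded_43_1 (flp_h L168280) (flp_e L168249) L244096
theorem L244103 : sm gg N28811 = N19870 := ded_50_1 (flp_h L168791) (flp_g L168251) L244096
theorem L244105 : sm gj N28811 = N19810 := ded_52_1 (flp_h L168253) L168244 L244096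
theorem L244107 : sm gd N19810 = N28812 := rfl
theorem L244110 : sm gg N28812 = N19811 := ded_36_2 (flp_d L168262) (flp_g L168260) L244107
theorem L244112 : sm gi N19810 = N28813 := rfl
theorem L244114 : sm ga N28813 = N28813 := ded_18_1 (flp_i L244112) L168255 L244112
theorem L244115 : sm gc N28813 = N20040 := ded_33_1 (flp_i L170317) (flp_c L168256) L244112
theorem L244117 : sm ge N28813 = N19814 := ded_44_1 (flp_i L168290) (flp_e L168258) L244112
theorem L244119 : sm gg N28813 = N19812 := ded_51_1 (flp_i L168269) (flp_g L168260) L244112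
theorem L244121 : sm gc N19811 = N28814 := rfl
theorem L244124 : sm gf N28814 = N20875 := ded_29_2 (flp_c L177478) (flp_f L168265) L244121
theorem L244126 : sm gj N28814 = N19873 := ded_31_2 (flp_c L168814) (flp_j L168267) L244121
theorem L244128 : sm gd N28814 = N20041 := ded_27_2 (flp_c L170324) (flp_d L117496) (flp_c L116122) L168262 L244121
theorem L244130 : sm gi N19811 = N28815 := rfl
theorem L244132 : sm ga N28815 = N28815 := ded_18_1 (flp_i L244130) L168264 L244130
theorem L244133 : sm gd N28815 = N19812 := ded_39_1 (flp_i L168269) L168262 L244130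
theorem L244135 : sm gf N28815 = N20876 := ded_48_1 (flp_i L177486) (flp_f L168265) L244130
theorem L244137 : sm gj N28815 = N19874 := ded_53_1 (flp_i L168821) (flp_j L168267) L244130
theorem L244139 : sm gi N19813 = N28816 := rfl
theorem L244141 : sm ga N28816 = N28816 := ded_18_1 (flp_i L244139) L168282 L244139
theorem L244142 : sm gc N28816 = N20043 := ded_33_1 (flp_i L170343) (flp_c L168283) L244139
theorem L244144 : sm gf N28816 = N28816 := ded_48_1 (flp_i L244139) L168285 L244139
theorem L244145 : sm gg N28816 = N19875 := ded_51_1 (flp_i L168828) (flp_g L168286) L244139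
theorem L244147 : sm gj N28816 = N19814 := ded_53_1 (flp_i L168290) (flp_j L168288) L244139
theorem L244149 : sm gf N19815 = N28817 := rfl
theorem L244151 : sm ga N28817 = N20069 := ded_14_1 (flp_f L170572) (flp_a L168307) L244149
theorem L244153 : sm gb N28817 = N19816 := ded_22_1 (flp_f L168310) L168298 L244149
theorem L244157 : sm gi N28817 = N19840 := ded_48_2 (flp_f L168541) (flp_i L168305) L244149
theorem L244159 : sm gh N19815 = N28818 := rfl
theorem L244161 : sm ga N28818 = N20070 := ded_17_1 (flp_h L170580) (flp_a L168307) L244159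
theorem L244168 : sm gg N28818 = N19877 := ded_50_1 (flp_h L168848) (flp_g L168303) L244159
theorem L244170 : sm ge N19816 = N28819 := rfl
theorem L244172 : sm ga N28819 = N19823 := ded_13_1 (flp_e L168380) (flp_a L168312) L244170
theorem L244176 : sm gi N28819 = N19842 := ded_44_2 (flp_e L168560) (flp_i L168317) L244170
theorem L244178 : sm gf N28819 = N20905 := ded_40_2 (flp_e L177744) (flp_f L122504) (flp_e L116161) L168310 L244170
theorem L244180 : sm gg N19816 = N28820 := rfl
theorem L244182 : sm ga N28820 = N19824 := ded_15_1 (flp_g L168390) (flp_a L168312) L244180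
theorem L244187 : sm gi N28820 = N19843 := ded_51_2 (flp_g L168568) (flp_i L168317) L244180
theorem L244191 : sm gh N19816 = N28821 := rfl
theorem L244193 : sm ga N28821 = N19825 := ded_17_1 (flp_h L168401) (flp_a L168312) L244191
theorem L244199 : sm gd N19817 = N28822 := rfl
theorem L244203 : sm gg N28822 = N19881 := ded_36_2 (flp_d L168887) (flp_g L168327) L244199
theorem L244207 : sm gi N19817 = N28823 := rfl
theorem L244211 : sm gc N28823 = N19821 := ded_33_1 (flp_i L168357) (flp_c L168323) L244207
theorem L244217 : sm gh N28823 = N19846 := ded_54_1 (flp_i L168592) (flp_h L116329) (flp_i L116165) L168319 L244207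
theorem L244219 : sm gg N19818 = N28824 := rfl
theorem L244221 : sm ga N28824 = N19828 := ded_15_1 (flp_g L168429) (flp_a L168331) L244219
theorem L244224 : sm ge N28824 = N19819 := ded_41_1 (flp_g L168338) L168329 L244219
theorem L244226 : sm gi N28824 = N19847 := ded_51_2 (flp_g L168602) (flp_i L168334) L244219
theorem L244228 : sm gh N19818 = N28825 := rfl
theorem L244230 : sm ga N28825 = N19829 := ded_17_1 (flp_h L168437) (flp_a L168331) L244228
theorem L244248 : sm gh N19819 = N28827 := rfl
theorem L244258 : sm gi N19820 = N28828 := rfl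
theorem L244260 : sm ga N28828 = N19832 := ded_18_1 (flp_i L168464) (flp_a L168351) L244258
theorem L244268 : sm gd N19823 = N28829 := rfl
theorem L244270 : sm gb N28829 = N20081 := ded_20_1 (flp_d L170685) (flp_b L168382) L244268
theorem L244272 : sm gf N28829 = N20915 := ded_35_2 (flp_d L177835) (flp_f L168388) L244268
theorem L244274 : sm gi N28829 = N19852 := ded_39_2 (flp_d L168643) (flp_i L168386) L244268
theorem L244276 : sm ge N28829 = N28829 := ded_34_2 (flp_d L244268) (flp_e L168380) L116204 L168380 L244268
theorem L244277 : sm gg N19823 = N28830 := rfl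
theorem L244279 : sm gb N28830 = N20082 := ded_23_1 (flp_g L170693) (flp_b L168382) L244277
theorem L244281 : sm gc N28830 = N19828 := ded_30_1 (flp_g L168429) (flp_c L168384) L244277
theorem L244283 : sm ge N28830 = N19824 := ded_41_1 (flp_g L168390) L168380 L244277
theorem L244285 : sm gi N28830 = N19853 := ded_51_2 (flp_g L168650) (flp_i L168386) L244277
theorem L244287 : sm gh N19823 = N28831 := rfl
theorem L244289 : sm gb N28831 = N20083 := ded_25_1 (flp_h L170701) (flp_b L168382) L244287
theorem L244291 : sm gc N28831 = N19829 := ded_32_1 (flp_h L168437) (flp_c L168384) L244287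
theorem L244293 : sm ge N28831 = N19825 := ded_43_1 (flp_h L168401) L168380 L244287
theorem L244295 : sm gf N28831 = N20917 := ded_47_1 (flp_h L177853) (flp_f L168388) L244287
theorem L244297 : sm gj N19824 = N28832 := rfl
theorem L244299 : sm gb N28832 = N20084 := ded_24_1 (flp_j L170709) (flp_b L168392) L244297
theorem L244301 : sm gc N28832 = N19830 := ded_31_1 (flp_j L168445) (flp_c L168394) L244297
theorem L244303 : sm gd N28832 = N28832 := ded_37_1 (flp_j L244297) L168396 L244297
theorem L244304 : sm gf N28832 = N19891 := ded_46_1 (flp_j L168986) (flp_f L168399) L244297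
theorem L244306 : sm gi N28832 = N19855 := ded_53_2 (flp_j L168668) (flp_i L168397) L244297
theorem L244308 : sm gh N19824 = N28833 := rfl
theorem L244310 : sm gb N28833 = N20085 := ded_25_1 (flp_h L170718) (flp_b L168392) L244308
theorem L244312 : sm gc N28833 = N19831 := ded_32_1 (flp_h L168455) (flp_c L168394) L244308
theorem L244314 : sm gf N28833 = N19892 := ded_47_1 (flp_h L168996) (flp_f L168399) L244308
theorem L244316 : sm gg N28833 = N19825 := ded_50_1 (flp_h L168401) L168390 L244308
theorem L244318 : sm gd N19825 = N28834 := rfl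
theorem L244320 : sm gb N28834 = N20086 := ded_20_1 (flp_d L170726) (flp_b L168403) L244318
theorem L244322 : sm gf N28834 = N19826 := ded_35_2 (flp_d L168409) (flp_f L168407) L244318
theorem L244324 : sm gc N28834 = N28834 := ded_27_1 (flp_d L244318) L168405 L116241 (flp_c L168405) L244318
theorem L244325 : sm gh N28834 = N28834 := ded_38_2 (flp_d L244318) (flp_h L168401) L116204 L168401 L244318
theorem L244326 : sm gi N19825 = N28835 := rfl
theorem L244328 : sm gb N28835 = N20087 := ded_26_1 (flp_i L170731) (flp_b L168403) L244326
theorem L244330 : sm gc N28835 = N19832 := ded_33_1 (flp_i L168464) (flp_c L168405) L244326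
theorem L244332 : sm gf N28835 = N19827 := ded_48_1 (flp_i L168417) (flp_f L168407) L244326
theorem L244334 : sm gh N28835 = N19858 := ded_54_1 (flp_i L168694) (flp_h L116396) (flp_i L116205) L168401 L244326
theorem L244336 : sm ge N19826 = N28836 := rfl
theorem L244338 : sm gb N28836 = N20088 := ded_21_1 (flp_e L170739) (flp_b L168411) L244336
theorem L244344 : sm gd N28836 = N20922 := ded_34_1 (flp_e L177901) (flp_d L122595) (flp_e L116213) L168409 L244336
theorem L244346 : sm gi N19826 = N28837 := rfl
theorem L244348 : sm gb N28837 = N20089 := ded_26_1 (flp_i L170746) (flp_b L168411) L244346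
theorem L244350 : sm gc N28837 = N28837 := ded_33_1 (flp_i L244346) L168415 L244346
theorem L244351 : sm gd N28837 = N19827 := ded_39_1 (flp_i L168417) L168409 L244346
theorem L244353 : sm gg N28837 = N19896 := ded_51_1 (flp_i L169033) (flp_g L168413) L244346
theorem L244355 : sm gf N19828 = N28838 := rfl
theorem L244357 : sm gb N28838 = N19833 := ded_22_1 (flp_f L168473) (flp_b L168431) L244355
theorem L244359 : sm gi N28838 = N19861 := ded_48_2 (flp_f L168719) (flp_i L168435) L244355
theorem L244361 : sm ge N28838 = N19897 := ded_40_1 (flp_f L169041) L116647 (flp_f L116233) (flp_e L168433) L244355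
theorem L244363 : sm gg N28838 = N20924 := ded_45_2 (flp_f L177917) (flp_g L122613) (flp_f L116223) L168429 L244355
theorem L244365 : sm gj N19828 = N28839 := rfl
theorem L244367 : sm gb N28839 = N19834 := ded_24_1 (flp_j L168484) (flp_b L168431) L244365
theorem L244369 : sm ge N28839 = N19830 := ded_42_1 (flp_j L168445) (flp_e L168433) L244365
theorem L244371 : sm gi N28839 = N19862 := ded_53_2 (flp_j L168727) (flp_i L168435) L244365
theorem L244373 : sm gh N19828 = N28840 := rfl
theorem L244375 : sm gb N28840 = N19835 := ded_25_1 (flp_h L168493) (flp_b L168431) L244373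
theorem L244377 : sm ge N28840 = N19831 := ded_43_1 (flp_h L168455) (flp_e L168433) L244373
theorem L244379 : sm gg N28840 = N19829 := ded_50_1 (flp_h L168437) L168429 L244373
theorem L244381 : sm gd N19829 = N28841 := rfl
theorem L244383 : sm gb N28841 = N19836 := ded_20_1 (flp_d L168502) (flp_b L168439) L244381
theorem L244385 : sm gf N28841 = N20927 := ded_35_2 (flp_d L177941) (flp_f L168443) L244381
theorem L244387 : sm ge N28841 = N28841 := ded_34_2 (flp_d L244381) L168441 L116241 (flp_e L168441) L244381
theorem L244388 : sm gi N19829 = N28842 := rfl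
theorem L244390 : sm gb N28842 = N19837 := ded_26_1 (flp_i L168508) (flp_b L168439) L244388
theorem L244392 : sm ge N28842 = N19832 := ded_44_1 (flp_i L168464) (flp_e L168441) L244388
theorem L244394 : sm gf N28842 = N20928 := ded_48_1 (flp_i L177945) (flp_f L168443) L244388
theorem L244396 : sm gh N28842 = N19865 := ded_54_1 (flp_i L168747) (flp_h L116427) (flp_i L116221) L168437 L244388
theorem L244398 : sm gh N19830 = N28843 := rfl
theorem L244400 : sm gb N28843 = N19838 := ded_25_1 (flp_h L168519) (flp_b L168447) L244398
theorem L244402 : sm gf N28843 = N19902 := ded_47_1 (flp_h L169088) (flp_f L168451) L244398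
theorem L244404 : sm gj N28843 = N19831 := ded_52_1 (flp_h L168455) L168445 L244398
theorem L244406 : sm gd N28843 = N28843 := ded_38_1 (flp_h L244398) L168449 L116260 (flp_d L168449) L244398
theorem L244407 : sm gi N19831 = N28844 := rfl
theorem L244409 : sm gb N28844 = N19839 := ded_26_1 (flp_i L168529) (flp_b L168457) L244407
theorem L244411 : sm gd N28844 = N28844 := ded_39_1 (flp_i L244407) L168463 L244407
theorem L244412 : sm gf N28844 = N19903 := ded_48_1 (flp_i L169096) (flp_f L168459) L244407
theorem L244414 : sm gg N28844 = N19832 := ded_51_1 (flp_i L168464) (flp_g L168461) L244407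
theorem L244416 : sm gh N28844 = N19867 := ded_54_1 (flp_i L168763) (flp_h L116443) (flp_i L116231) L168455 L244407
theorem L244418 : sm gj N19833 = N28845 := rfl
theorem L244420 : sm ga N28845 = N28845 := ded_16_1 (flp_j L244418) L168475 L244418
theorem L244421 : sm gc N28845 = N20097 := ded_31_1 (flp_j L170815) (flp_c L168476) L244418
theorem L244423 : sm ge N28845 = N19904 := ded_42_1 (flp_j L169105) (flp_e L168480) L244418
theorem L244425 : sm gf N28845 = N19834 := ded_46_1 (flp_j L168484) L168473 L244418
theorem L244427 : sm gi N28845 = N19868 := ded_53_2 (flp_j L168771) (flp_i L168478) L244418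
theorem L244429 : sm gh N19833 = N28846 := rfl
theorem L244431 : sm ga N28846 = N28846 := ded_17_1 (flp_h L244429) L168475 L244429
theorem L244432 : sm gc N28846 = N20098 := ded_32_1 (flp_h L170825) (flp_c L168476) L244429
theorem L244434 : sm ge N28846 = N19905 := ded_43_1 (flp_h L169115) (flp_e L168480) L244429
theorem L244436 : sm gf N28846 = N19835 := ded_47_1 (flp_h L168493) L168473 L244429
theorem L244438 : sm gg N28846 = N20932 := ded_50_1 (flp_h L177982) (flp_g L168482) L244429
theorem L244440 : sm gh N19834 = N28847 := rfl
theorem L244442 : sm ga N28847 = N28847 := ded_17_1 (flp_h L244440) L168486 L244440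
theorem L244443 : sm gc N28847 = N20099 := ded_32_1 (flp_h L170834) (flp_c L168487) L244440
theorem L244445 : sm ge N28847 = N19838 := ded_43_1 (flp_h L168519) (flp_e L168489) L244440
theorem L244447 : sm gj N28847 = N19835 := ded_52_1 (flp_h L168493) L168484 L244440
theorem L244449 : sm gd N19835 = N28848 := rfl
theorem L244451 : sm ga N28848 = N28848 := ded_12_1 (flp_d L244449) L168495 L244449
theorem L244452 : sm gg N28848 = N19836 := ded_36_2 (flp_d L168502) (flp_g L168500) L244449
theorem L244454 : sm ge N28848 = N28848 := ded_34_2 (flp_d L244449) L168498 L116301 (flp_e L168498) L244449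
theorem L244455 : sm gi N19835 = N28849 := rfl
theorem L244457 : sm ga N28849 = N28849 := ded_18_1 (flp_i L244455) L168495 L244455
theorem L244458 : sm gc N28849 = N20101 := ded_33_1 (flp_i L170847) (flp_c L168496) L244455
theorem L244460 : sm ge N28849 = N19839 := ded_44_1 (flp_i L168529) (flp_e L168498) L244455
theorem L244462 : sm gg N28849 = N19837 := ded_51_1 (flp_i L168508) (flp_g L168500) L244455
theorem L244464 : sm gh N28849 = N19872 := ded_54_1 (flp_i L168805) (flp_h L116473) (flp_i L116270) L168493 L244455
theorem L244466 : sm gc N19836 = N28850 := rfl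
theorem L244468 : sm ga N28850 = N28850 := ded_11_1 (flp_c L244466) L168504 L244466
theorem L244469 : sm ge N28850 = N28850 := ded_28_2 (flp_c L244466) L168507 L244466
theorem L244470 : sm gf N28850 = N20936 := ded_29_2 (flp_c L178016) (flp_f L168505) L244466
theorem L244472 : sm gd N28850 = N20102 := ded_27_2 (flp_c L170856) (flp_d L117857) (flp_c L116275) L168502 L244466
theorem L244474 : sm gi N19836 = N28851 := rfl
theorem L244476 : sm ga N28851 = N28851 := ded_18_1 (flp_i L244474) L168504 L244474
theorem L244477 : sm gd N28851 = N19837 := ded_39_1 (flp_i L168508) L168502 L244474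
theorem L244479 : sm ge N28851 = N28851 := ded_44_1 (flp_i L244474) L168507 L244474
theorem L244480 : sm gf N28851 = N20937 := ded_48_1 (flp_i L178021) (flp_f L168505) L244474
theorem L244482 : sm gi N19838 = N28852 := rfl
theorem L244484 : sm ga N28852 = N28852 := ded_18_1 (flp_i L244482) L168521 L244482
theorem L244485 : sm gc N28852 = N20104 := ded_33_1 (flp_i L170869) (flp_c L168522) L244482
theorem L244487 : sm gd N28852 = N28852 := ded_39_1 (flp_i L244482) L168528 L244482
theorem L244488 : sm gf N28852 = N19911 := ded_48_1 (flp_i L169171) (flp_f L168524) L244482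
theorem L244490 : sm gj N28852 = N19839 := ded_53_1 (flp_i L168529) (flp_j L168526) L244482
theorem L244492 : sm gh N28852 = N19875 := ded_54_1 (flp_i L168828) (flp_h L116496) (flp_i L116290) L168519 L244482
theorem L244494 : sm ge N19840 = N28853 := rfl
theorem L244496 : sm ga N28853 = N20105 := ded_13_1 (flp_e L170878) (flp_a L168543) L244494
theorem L244498 : sm gb N28853 = N19842 := ded_21_1 (flp_e L168560) (flp_b L168545) L244494
theorem L244500 : sm gc N28853 = N28853 := ded_28_1 (flp_e L244494) L168547 L244494
theorem L244501 : sm gf N28853 = N20939 := ded_40_2 (flp_e L178037) (flp_f L122712) (flp_e L116315) L168541 L244494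
theorem L244503 : sm gg N19840 = N28854 := rfl
theorem L244505 : sm ga N28854 = N20106 := ded_15_1 (flp_g L170885) (flp_a L168543) L244503
theorem L244507 : sm gb N28854 = N19843 := ded_23_1 (flp_g L168568) (flp_b L168545) L244503
theorem L244509 : sm gc N28854 = N28854 := ded_30_1 (flp_g L244503) L168547 L244503
theorem L244510 : sm gd N28854 = N28854 := ded_36_1 (flp_g L244503) L168548 L244503
theorem L244511 : sm gf N28854 = N19913 := ded_45_1 (flp_g L169192) (flp_f L116755) (flp_g L116317) L168541 L244503
theorem L244513 : sm gh N19840 = N28855 := rfl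
theorem L244515 : sm ga N28855 = N20107 := ded_17_1 (flp_h L170893) (flp_a L168543) L244513
theorem L244517 : sm gb N28855 = N19844 := ded_25_1 (flp_h L168577) (flp_b L168545) L244513
theorem L244519 : sm gc N28855 = N28855 := ded_32_1 (flp_h L244513) L168547 L244513
theorem L244520 : sm gf N28855 = N19841 := ded_47_1 (flp_h L168549) L168541 L244513
theorem L244522 : sm gd N19841 = N28856 := rfl
theorem L244524 : sm ga N28856 = N20108 := ded_12_1 (flp_d L170900) (flp_a L168551) L244522
theorem L244526 : sm gb N28856 = N19845 := ded_20_1 (flp_d L168585) (flp_b L168553) L244522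
theorem L244528 : sm gg N28856 = N19915 := ded_36_2 (flp_d L169210) (flp_g L168558) L244522
theorem L244530 : sm gh N28856 = N28856 := ded_38_2 (flp_d L244522) (flp_h L168549) L116314 L168549 L244522
theorem L244531 : sm gi N19841 = N28857 := rfl
theorem L244533 : sm ga N28857 = N20109 := ded_18_1 (flp_i L170907) (flp_a L168551) L244531
theorem L244535 : sm gb N28857 = N19846 := ded_26_1 (flp_i L168592) (flp_b L168553) L244531
theorem L244537 : sm gc N28857 = N28857 := ded_33_1 (flp_i L244531) L168555 L244531
theorem L244538 : sm ge N28857 = N20943 := ded_44_1 (flp_i L178074) (flp_e L168556) L244531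
theorem L244540 : sm gg N28857 = N19916 := ded_51_1 (flp_i L169218) (flp_g L168558) L244531
theorem L244542 : sm gd N19842 = N28858 := rfl
theorem L244544 : sm ga N28858 = N19852 := ded_12_1 (flp_d L168643) (flp_a L168562) L244542
theorem L244546 : sm gf N28858 = N20944 := ded_35_2 (flp_d L178083) (flp_f L168566) L244542
theorem L244548 : sm ge N28858 = N28858 := ded_34_2 (flp_d L244542) (flp_e L168560) L116328 L168560 L244542
theorem L244549 : sm gg N19842 = N28859 := rfl
theorem L244551 : sm ga N28859 = N19853 := ded_15_1 (flp_g L168650) (flp_a L168562) L244549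
theorem L244553 : sm gc N28859 = N19847 := ded_30_1 (flp_g L168602) (flp_c L168564) L244549
theorem L244555 : sm ge N28859 = N19843 := ded_41_1 (flp_g L168568) L168560 L244549
theorem L244557 : sm gh N19842 = N28860 := rfl
theorem L244559 : sm ga N28860 = N19854 := ded_17_1 (flp_h L168658) (flp_a L168562) L244557
theorem L244561 : sm gc N28860 = N19848 := ded_32_1 (flp_h L168609) (flp_c L168564) L244557
theorem L244563 : sm ge N28860 = N19844 := ded_43_1 (flp_h L168577) L168560 L244557
theorem L244565 : sm gf N28860 = N20946 := ded_47_1 (flp_h L178097) (flp_f L168566) L244557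
theorem L244567 : sm gj N19843 = N28861 := rfl
theorem L244569 : sm ga N28861 = N19855 := ded_16_1 (flp_j L168668) (flp_a L168570) L244567
theorem L244571 : sm gc N28861 = N19849 := ded_31_1 (flp_j L168618) (flp_c L168572) L244567
theorem L244573 : sm gd N28861 = N28861 := ded_37_1 (flp_j L244567) L168574 L244567
theorem L244574 : sm gf N28861 = N19920 := ded_46_1 (flp_j L169256) (flp_f L168575) L244567
theorem L244576 : sm gh N19843 = N28862 := rfl
theorem L244578 : sm ga N28862 = N19856 := ded_17_1 (flp_h L168677) (flp_a L168570) L244576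
theorem L244580 : sm gc N28862 = N19850 := ded_32_1 (flp_h L168627) (flp_c L168572) L244576
theorem L244582 : sm gf N28862 = N19921 := ded_47_1 (flp_h L169264) (flp_f L168575) L244576
theorem L244584 : sm gg N28862 = N19844 := ded_50_1 (flp_h L168577) L168568 L244576
theorem L244586 : sm gd N19844 = N28863 := rfl
theorem L244588 : sm ga N28863 = N19857 := ded_12_1 (flp_d L168687) (flp_a L168579) L244586
theorem L244590 : sm gf N28863 = N19845 := ded_35_2 (flp_d L168585) (flp_f L168583) L244586
theorem L244592 : sm gh N28863 = N28863 := ded_38_2 (flp_d L244586) (flp_h L168577) L116328 L168577 L244586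
theorem L244593 : sm gi N19844 = N28864 := rfl
theorem L244595 : sm ga N28864 = N19858 := ded_18_1 (flp_i L168694) (flp_a L168579) L244593
theorem L244597 : sm gc N28864 = N19851 := ded_33_1 (flp_i L168636) (flp_c L168581) L244593
theorem L244599 : sm gf N28864 = N19846 := ded_48_1 (flp_i L168592) (flp_f L168583) L244593
theorem L244601 : sm ge N19845 = N28865 := rfl
theorem L244603 : sm ga N28865 = N19859 := ded_13_1 (flp_e L168702) (flp_a L168587) L244601
theorem L244605 : sm gg N28865 = N19924 := ded_41_2 (flp_e L169289) (flp_g L168589) L244601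
theorem L244607 : sm gh N28865 = N28865 := ded_43_2 (flp_e L244601) L168591 L244601
theorem L244608 : sm gd N28865 = N20951 := ded_34_1 (flp_e L178142) (flp_d L122754) (flp_e L116335) L168585 L244601
theorem L244610 : sm gi N19845 = N28866 := rfl
theorem L244612 : sm ga N28866 = N19860 := ded_18_1 (flp_i L168711) (flp_a L168587) L244610
theorem L244614 : sm gd N28866 = N19846 := ded_39_1 (flp_i L168592) L168585 L244610
theorem L244616 : sm gg N28866 = N19925 := ded_51_1 (flp_i L169297) (flp_g L168589) L244610
theorem L244618 : sm gf N19847 = N28867 := rfl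
theorem L244620 : sm ga N28867 = N19861 := ded_14_1 (flp_f L168719) (flp_a L168604) L244618
theorem L244622 : sm gb N28867 = N28867 := ded_22_1 (flp_f L244618) L168606 L244618
theorem L244623 : sm ge N28867 = N19926 := ded_40_1 (flp_f L169304) L116820 (flp_f L116353) (flp_e L168607) L244618
theorem L244625 : sm gg N28867 = N20953 := ded_45_2 (flp_f L178160) (flp_g L122771) (flp_f L116344) L168602 L244618
theorem L244627 : sm gj N19847 = N28868 := rfl
theorem L244629 : sm ga N28868 = N19862 := ded_16_1 (flp_j L168727) (flp_a L168604) L244627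
theorem L244631 : sm gb N28868 = N28868 := ded_24_1 (flp_j L244627) L168606 L244627
theorem L244632 : sm ge N28868 = N19849 := ded_42_1 (flp_j L168618) (flp_e L168607) L244627
theorem L244634 : sm gh N19847 = N28869 := rfl
theorem L244636 : sm ga N28869 = N19863 := ded_17_1 (flp_h L168733) (flp_a L168604) L244634
theorem L244638 : sm gb N28869 = N28869 := ded_25_1 (flp_h L244634) L168606 L244634
theorem L244639 : sm ge N28869 = N19850 := ded_43_1 (flp_h L168627) (flp_e L168607) L244634
theorem L244641 : sm gg N28869 = N19848 := ded_50_1 (flp_h L168609) L168602 L244634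
theorem L244643 : sm gd N19848 = N28870 := rfl
theorem L244645 : sm ga N28870 = N19864 := ded_12_1 (flp_d L168741) (flp_a L168611) L244643
theorem L244647 : sm gb N28870 = N28870 := ded_20_1 (flp_d L244643) L168613 L244643
theorem L244648 : sm gf N28870 = N20956 := ded_35_2 (flp_d L178183) (flp_f L168616) L244643
theorem L244650 : sm gi N19848 = N28871 := rfl
theorem L244652 : sm ga N28871 = N19865 := ded_18_1 (flp_i L168747) (flp_a L168611) L244650
theorem L244654 : sm gb N28871 = N28871 := ded_26_1 (flp_i L244650) L168613 L244650
theorem L244655 : sm ge N28871 = N19851 := ded_44_1 (flp_i L168636) (flp_e L168614) L244650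
theorem L244657 : sm gf N28871 = N20957 := ded_48_1 (flp_i L178189) (flp_f L168616) L244650
theorem L244659 : sm gh N19849 = N28872 := rfl
theorem L244661 : sm ga N28872 = N19866 := ded_17_1 (flp_h L168755) (flp_a L168620) L244659
theorem L244664 : sm gf N28872 = N19931 := ded_47_1 (flp_h L169349) (flp_f L168625) L244659
theorem L244668 : sm gi N19850 = N28873 := rfl
theorem L244670 : sm ga N28873 = N19867 := ded_18_1 (flp_i L168763) (flp_a L168629) L244668
theorem L244672 : sm gb N28873 = N28873 := ded_26_1 (flp_i L244668) L168631 L244668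
theorem L244673 : sm gf N28873 = N19932 := ded_48_1 (flp_i L169357) (flp_f L168632) L244668
theorem L244675 : sm gg N28873 = N19851 := ded_51_1 (flp_i L168636) (flp_g L168634) L244668
theorem L244677 : sm gg N19852 = N28874 := rfl
theorem L244679 : sm gb N28874 = N20126 := ded_23_1 (flp_g L171061) (flp_b L168645) L244677
theorem L244681 : sm gd N28874 = N19853 := ded_36_1 (flp_g L168650) L168643 L244677
theorem L244683 : sm ge N28874 = N28874 := ded_41_1 (flp_g L244677) L168649 L244677
theorem L244684 : sm gh N19852 = N28875 := rfl
theorem L244686 : sm gb N28875 = N20127 := ded_25_1 (flp_h L171067) (flp_b L168645) L244684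
theorem L244688 : sm ge N28875 = N28875 := ded_43_1 (flp_h L244684) L168649 L244684
theorem L244689 : sm gf N28875 = N20961 := ded_47_1 (flp_h L178224) (flp_f L168647) L244684
theorem L244691 : sm gf N19853 = N28876 := rfl
theorem L244693 : sm gb N28876 = N20128 := ded_22_1 (flp_f L171073) (flp_b L168652) L244691
theorem L244695 : sm gc N28876 = N19861 := ded_29_1 (flp_f L168719) (flp_c L168654) L244691
theorem L244697 : sm ge N28876 = N19935 := ded_40_1 (flp_f L169381) L116870 (flp_f L116394) (flp_e L168656) L244691
theorem L244699 : sm gg N28876 = N20962 := ded_45_2 (flp_f L178230) (flp_g L122818) (flp_f L116385) L168650 L244691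
theorem L244701 : sm gj N19853 = N28877 := rfl
theorem L244703 : sm gb N28877 = N20129 := ded_24_1 (flp_j L171081) (flp_b L168652) L244701
theorem L244705 : sm gc N28877 = N19862 := ded_31_1 (flp_j L168727) (flp_c L168654) L244701
theorem L244707 : sm ge N28877 = N19855 := ded_42_1 (flp_j L168668) (flp_e L168656) L244701
theorem L244709 : sm gh N19853 = N28878 := rfl
theorem L244711 : sm gb N28878 = N20130 := ded_25_1 (flp_h L171087) (flp_b L168652) L244709
theorem L244713 : sm gc N28878 = N19863 := ded_32_1 (flp_h L168733) (flp_c L168654) L244709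
theorem L244715 : sm ge N28878 = N19856 := ded_43_1 (flp_h L168677) (flp_e L168656) L244709
theorem L244717 : sm gg N28878 = N19854 := ded_50_1 (flp_h L168658) L168650 L244709
theorem L244719 : sm gd N19854 = N28879 := rfl
theorem L244721 : sm gb N28879 = N20131 := ded_20_1 (flp_d L171095) (flp_b L168660) L244719
theorem L244723 : sm gf N28879 = N20965 := ded_35_2 (flp_d L178256) (flp_f L168666) L244719
theorem L244725 : sm gi N19854 = N28880 := rfl
theorem L244727 : sm gb N28880 = N20132 := ded_26_1 (flp_i L171099) (flp_b L168660) L244725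
theorem L244729 : sm gc N28880 = N19865 := ded_33_1 (flp_i L168747) (flp_c L168662) L244725
theorem L244731 : sm ge N28880 = N19858 := ded_44_1 (flp_i L168694) (flp_e L168664) L244725
theorem L244733 : sm gf N28880 = N20966 := ded_48_1 (flp_i L178260) (flp_f L168666) L244725
theorem L244735 : sm gh N19855 = N28881 := rfl
theorem L244737 : sm gb N28881 = N20133 := ded_25_1 (flp_h L171107) (flp_b L168670) L244735
theorem L244739 : sm gc N28881 = N19866 := ded_32_1 (flp_h L168755) (flp_c L168672) L244735
theorem L244741 : sm gf N28881 = N19940 := ded_47_1 (flp_h L169426) (flp_f L168675) L244735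
theorem L244743 : sm gj N28881 = N19856 := ded_52_1 (flp_h L168677) L168668 L244735
theorem L244745 : sm gd N19856 = N28882 := rfl
theorem L244747 : sm gb N28882 = N20134 := ded_20_1 (flp_d L171115) (flp_b L168679) L244745
theorem L244749 : sm gf N28882 = N19941 := ded_35_2 (flp_d L169435) (flp_f L168683) L244745
theorem L244751 : sm gg N28882 = N19857 := ded_36_2 (flp_d L168687) (flp_g L168685) L244745
theorem L244753 : sm gh N28882 = N28882 := ded_38_2 (flp_d L244745) (flp_h L168677) L116393 L168677 L244745
theorem L244754 : sm gi N19856 = N28883 := rfl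
theorem L244756 : sm gb N28883 = N20135 := ded_26_1 (flp_i L171123) (flp_b L168679) L244754
theorem L244758 : sm gc N28883 = N19867 := ded_33_1 (flp_i L168763) (flp_c L168681) L244754
theorem L244760 : sm gf N28883 = N19942 := ded_48_1 (flp_i L169442) (flp_f L168683) L244754
theorem L244762 : sm gg N28883 = N19858 := ded_51_1 (flp_i L168694) (flp_g L168685) L244754
theorem L244764 : sm ge N19857 = N28884 := rfl
theorem L244766 : sm gb N28884 = N20136 := ded_21_1 (flp_e L171131) (flp_b L168689) L244764
theorem L244768 : sm gh N28884 = N28884 := ded_43_2 (flp_e L244764) L168693 L244764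
theorem L244769 : sm gi N19857 = N28885 := rfl
theorem L244771 : sm gb N28885 = N20137 := ded_26_1 (flp_i L171135) (flp_b L168689) L244769
theorem L244773 : sm gd N28885 = N19858 := ded_39_1 (flp_i L168694) L168687 L244769
theorem L244775 : sm gf N28885 = N19860 := ded_48_1 (flp_i L168711) (flp_f L168691) L244769
theorem L244777 : sm gf N19859 = N28886 := rfl
theorem L244779 : sm gb N28886 = N20138 := ded_22_1 (flp_f L171142) (flp_b L168704) L244777
theorem L244781 : sm gd N28886 = N20972 := ded_35_1 (flp_f L178315) (flp_d L168709) L244777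
theorem L244783 : sm gh N28886 = N28886 := ded_47_2 (flp_f L244777) L168708 L244777
theorem L244784 : sm gi N19859 = N28887 := rfl
theorem L244786 : sm gb N28887 = N20139 := ded_26_1 (flp_i L171148) (flp_b L168704) L244784
theorem L244788 : sm gd N28887 = N20973 := ded_39_1 (flp_i L178322) (flp_d L168709) L244784
theorem L244790 : sm ge N28887 = N19860 := ded_44_1 (flp_i L168711) L168702 L244784
theorem L244792 : sm gg N28887 = N19946 := ded_51_1 (flp_i L169473) (flp_g L168706) L244784
theorem L244794 : sm gh N19860 = N28888 := rfl
theorem L244796 : sm gb N28888 = N20140 := ded_25_1 (flp_h L171157) (flp_b L168713) L244794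
theorem L244798 : sm gg N28888 = N19947 := ded_50_1 (flp_h L169482) (flp_g L168717) L244794
theorem L244800 : sm gi N28888 = N28888 := ded_54_2 (flp_h L244794) (flp_i L168711) L116410 L168711 L244794
theorem L244801 : sm gj N19861 = N28889 := rfl
theorem L244803 : sm gb N28889 = N19868 := ded_24_1 (flp_j L168771) (flp_b L168721) L244801
theorem L244805 : sm ge N28889 = N19948 := ded_42_1 (flp_j L169488) (flp_e L168723) L244801
theorem L244807 : sm gf N28889 = N19862 := ded_46_1 (flp_j L168727) L168719 L244801
theorem L244809 : sm gh N19861 = N28890 := rfl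
theorem L244811 : sm gb N28890 = N19869 := ded_25_1 (flp_h L168780) (flp_b L168721) L244809
theorem L244813 : sm ge N28890 = N19949 := ded_43_1 (flp_h L169495) (flp_e L168723) L244809
theorem L244815 : sm gf N28890 = N19863 := ded_47_1 (flp_h L168733) L168719 L244809
theorem L244817 : sm gg N28890 = N20976 := ded_50_1 (flp_h L178348) (flp_g L168725) L244809
theorem L244819 : sm gh N19862 = N28891 := rfl
theorem L244821 : sm gb N28891 = N19870 := ded_25_1 (flp_h L168791) (flp_b L168729) L244819
theorem L244823 : sm ge N28891 = N19866 := ded_43_1 (flp_h L168755) (flp_e L168731) L244819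
theorem L244825 : sm gj N28891 = N19863 := ded_52_1 (flp_h L168733) L168727 L244819
theorem L244827 : sm gd N19863 = N28892 := rfl
theorem L244829 : sm gb N28892 = N19871 := ded_20_1 (flp_d L168800) (flp_b L168735) L244827
theorem L244831 : sm gg N28892 = N19864 := ded_36_2 (flp_d L168741) (flp_g L168739) L244827
theorem L244833 : sm gi N19863 = N28893 := rfl
theorem L244835 : sm gb N28893 = N19872 := ded_26_1 (flp_i L168805) (flp_b L168735) L244833
theorem L244837 : sm ge N28893 = N19867 := ded_44_1 (flp_i L168763) (flp_e L168737) L244833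
theorem L244839 : sm gg N28893 = N19865 := ded_51_1 (flp_i L168747) (flp_g L168739) L244833
theorem L244841 : sm gc N19864 = N28894 := rfl
theorem L244843 : sm gf N28894 = N20980 := ded_29_2 (flp_c L178379) (flp_f L168745) L244841
theorem L244845 : sm gi N19864 = N28895 := rfl
theorem L244847 : sm gb N28895 = N19874 := ded_26_1 (flp_i L168821) (flp_b L168743) L244845
theorem L244849 : sm gd N28895 = N19865 := ded_39_1 (flp_i L168747) L168741 L244845
theorem L244851 : sm gf N28895 = N20981 := ded_48_1 (flp_i L178382) (flp_f L168745) L244845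
theorem L244853 : sm gi N19866 = N28896 := rfl
theorem L244855 : sm gb N28896 = N19875 := ded_26_1 (flp_i L168828) (flp_b L168757) L244853
theorem L244857 : sm gf N28896 = N19955 := ded_48_1 (flp_i L169542) (flp_f L168759) L244853
theorem L244859 : sm gj N28896 = N19867 := ded_53_1 (flp_i L168763) (flp_j L168761) L244853
theorem L244861 : sm gg N19868 = N28897 := rfl
theorem L244863 : sm ga N28897 = N28897 := ded_15_1 (flp_g L244861) L168773 L244861
theorem L244864 : sm gc N28897 = N20149 := ded_30_1 (flp_g L171230) (flp_c L168774) L244861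
theorem L244866 : sm ge N28897 = N19956 := ded_41_1 (flp_g L169549) (flp_e L168776) L244861
theorem L244868 : sm gj N28897 = N20983 := ded_49_2 (flp_g L178398) (flp_j L122938) (flp_g L116464) L168771 L244861
theorem L244870 : sm gh N19868 = N28898 := rfl
theorem L244872 : sm ga N28898 = N28898 := ded_17_1 (flp_h L244870) L168773 L244870
theorem L244873 : sm gc N28898 = N20150 := ded_32_1 (flp_h L171238) (flp_c L168774) L244870
theorem L244875 : sm ge N28898 = N19957 := ded_43_1 (flp_h L169558) (flp_e L168776) L244870
theorem L244877 : sm gf N28898 = N19870 := ded_47_1 (flp_h L168791) (flp_f L168778) L244870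
theorem L244879 : sm gj N28898 = N19869 := ded_52_1 (flp_h L168780) L168771 L244870
theorem L244881 : sm gd N19869 = N28899 := rfl
theorem L244883 : sm ga N28899 = N28899 := ded_12_1 (flp_d L244881) L168782 L244881
theorem L244884 : sm gf N28899 = N19871 := ded_35_2 (flp_d L168800) (flp_f L168787) L244881
theorem L244886 : sm gg N28899 = N20985 := ded_36_2 (flp_d L178416) (flp_g L168789) L244881
theorem L244888 : sm gi N19869 = N28900 := rfl
theorem L244890 : sm ga N28900 = N28900 := ded_18_1 (flp_i L244888) L168782 L244888
theorem L244891 : sm gc N28900 = N20152 := ded_33_1 (flp_i L171255) (flp_c L168783) L244888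
theorem L244893 : sm ge N28900 = N19959 := ded_44_1 (flp_i L169575) (flp_e L168785) L244888
theorem L244895 : sm gf N28900 = N19872 := ded_48_1 (flp_i L168805) (flp_f L168787) L244888
theorem L244897 : sm gg N28900 = N20986 := ded_51_1 (flp_i L178421) (flp_g L168789) L244888
theorem L244899 : sm gd N19870 = N28901 := rfl
theorem L244902 : sm gj N28901 = N19871 := ded_37_2 (flp_d L168800) (flp_j L168798) L244899
theorem L244904 : sm gi N19870 = N28902 := rfl
theorem L244906 : sm ga N28902 = N28902 := ded_18_1 (flp_i L244904) L168793 L244904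
theorem L244907 : sm gc N28902 = N20154 := ded_33_1 (flp_i L171271) (flp_c L168794) L244904
theorem L244909 : sm ge N28902 = N19875 := ded_44_1 (flp_i L168828) (flp_e L168796) L244904
theorem L244911 : sm gj N28902 = N19872 := ded_53_1 (flp_i L168805) (flp_j L168798) L244904
theorem L244913 : sm gc N19871 = N28903 := rfl
theorem L244916 : sm gg N28903 = N19873 := ded_30_2 (flp_c L168814) (flp_g L168803) L244913
theorem L244918 : sm gd N28903 = N20155 := ded_27_2 (flp_c L171278) (flp_d L118134) (flp_c L116476) L168800 L244913
theorem L244920 : sm gi N19871 = N28904 := rfl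
theorem L244922 : sm ga N28904 = N28904 := ded_18_1 (flp_i L244920) L168802 L244920
theorem L244923 : sm gd N28904 = N19872 := ded_39_1 (flp_i L168805) L168800 L244920
theorem L244925 : sm gg N28904 = N19874 := ded_51_1 (flp_i L168821) (flp_g L168803) L244920
theorem L244927 : sm gb N19873 = N28905 := rfl
theorem L244929 : sm gd N28905 = N20157 := ded_20_2 (flp_b L171293) (flp_d L168819) L244927
theorem L244931 : sm gf N28905 = N20991 := ded_22_2 (flp_b L178461) (flp_f L168817) L244927
theorem L244933 : sm gi N19873 = N28906 := rfl
theorem L244935 : sm ga N28906 = N28906 := ded_18_1 (flp_i L244933) L168816 L244933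
theorem L244936 : sm gc N28906 = N19874 := ded_33_1 (flp_i L168821) L168814 L244933
theorem L244938 : sm gd N28906 = N20158 := ded_39_1 (flp_i L171299) (flp_d L168819) L244933
theorem L244940 : sm gf N28906 = N20992 := ded_48_1 (flp_i L178466) (flp_f L168817) L244933
theorem L244942 : sm gh N19874 = N28907 := rfl
theorem L244944 : sm ga N28907 = N28907 := ded_17_1 (flp_h L244942) L168823 L244942
theorem L244945 : sm gf N28907 = N20993 := ded_47_1 (flp_h L178474) (flp_f L168826) L244942
theorem L244947 : sm ge N19876 = N28908 := rfl
theorem L244949 : sm ga N28908 = N20196 := ded_13_1 (flp_e L171632) (flp_a L168839) L244947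
theorem L244951 : sm gb N28908 = N19878 := ded_21_1 (flp_e L168858) (flp_b L168841) L244947
theorem L244955 : sm gi N28908 = N19912 := ded_44_2 (flp_e L169182) (flp_i L168846) L244947
theorem L244957 : sm gf N28908 = N21030 := ded_40_2 (flp_e L178795) (flp_f L123219) (flp_e L116517) L168837 L244947
theorem L244959 : sm gg N19876 = N28909 := rfl
theorem L244961 : sm ga N28909 = N20197 := ded_15_1 (flp_g L171642) (flp_a L168839) L244959
theorem L244963 : sm gb N28909 = N19879 := ded_23_1 (flp_g L168869) (flp_b L168841) L244959
theorem L244967 : sm gi N28909 = N19913 := ded_51_2 (flp_g L169192) (flp_i L168846) L244959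
theorem L244969 : sm gh N19876 = N28910 := rfl
theorem L244971 : sm ga N28910 = N20198 := ded_17_1 (flp_h L171650) (flp_a L168839) L244969
theorem L244973 : sm gb N28910 = N19880 := ded_25_1 (flp_h L168878) (flp_b L168841) L244969
theorem L244976 : sm gf N28910 = N19877 := ded_47_1 (flp_h L168848) L168837 L244969
theorem L244979 : sm gd N19877 = N28911 := rfl
theorem L244987 : sm gi N19877 = N28912 := rfl
theorem L244989 : sm ga N28912 = N20200 := ded_18_1 (flp_i L171664) (flp_a L168850) L244987
theorem L244997 : sm gh N28912 = N19916 := ded_54_1 (flp_i L169218) (flp_h L116764) (flp_i L116520) L168848 L244987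
theorem L244999 : sm gd N19878 = N28913 := rfl
theorem L245001 : sm ga N28913 = N19888 := ded_12_1 (flp_d L168954) (flp_a L168860) L244999
theorem L245006 : sm gi N28913 = N19917 := ded_39_2 (flp_d L169228) (flp_i L168865) L244999
theorem L245010 : sm gg N19878 = N28914 := rfl
theorem L245012 : sm ga N28914 = N19889 := ded_15_1 (flp_g L168965) (flp_a L168860) L245010
theorem L245014 : sm gc N28914 = N19883 := ded_30_1 (flp_g L168905) (flp_c L168862) L245010
theorem L245018 : sm gi N28914 = N19918 := ded_51_2 (flp_g L169237) (flp_i L168865) L245010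
theorem L245020 : sm gh N19878 = N28915 := rfl
theorem L245022 : sm ga N28915 = N19890 := ded_17_1 (flp_h L168975) (flp_a L168860) L245020
theorem L245031 : sm gj N19879 = N28916 := rfl
theorem L245038 : sm gi N28916 = N19920 := ded_53_2 (flp_j L169256) (flp_i L168876) L245031
theorem L245041 : sm gh N19879 = N28917 := rfl
theorem L245043 : sm ga N28917 = N19892 := ded_17_1 (flp_h L168996) (flp_a L168871) L245041
theorem L245049 : sm gd N19880 = N28918 := rfl
theorem L245053 : sm gf N28918 = N19881 := ded_35_2 (flp_d L168887) (flp_f L168884) L245049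
theorem L245069 : sm ge N19881 = N28920 := rfl
theorem L245078 : sm gi N19881 = N28921 := rfl
theorem L245080 : sm ga N28921 = N19896 := ded_18_1 (flp_i L169033) (flp_a L168889) L245078
theorem L245083 : sm gd N28921 = N19882 := ded_39_1 (flp_i L168894) L168887 L245078
theorem L245086 : sm gf N19883 = N28922 := rfl
theorem L245088 : sm ga N28922 = N19897 := ded_14_1 (flp_f L169041) (flp_a L168907) L245086
theorem L245092 : sm gi N28922 = N19926 := ded_48_2 (flp_f L169304) (flp_i L168913) L245086
theorem L245107 : sm gh N19883 = N28924 := rfl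
theorem L245109 : sm ga N28924 = N19899 := ded_17_1 (flp_h L169060) (flp_a L168907) L245107
theorem L245112 : sm ge N28924 = N19886 := ded_43_1 (flp_h L168935) (flp_e L168911) L245107
theorem L245114 : sm gg N28924 = N19884 := ded_50_1 (flp_h L168915) L168905 L245107
theorem L245116 : sm gd N19884 = N28925 := rfl
theorem L245118 : sm ga N28925 = N19900 := ded_12_1 (flp_d L169068) (flp_a L168917) L245116
theorem L245121 : sm gf N28925 = N21047 := ded_35_2 (flp_d L178955) (flp_f L168922) L245116
theorem L245126 : sm gi N19884 = N28926 := rfl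
theorem L245131 : sm ge N28926 = N19887 := ded_44_1 (flp_i L168943) (flp_e L168920) L245126
theorem L245136 : sm gh N28926 = N19930 := ded_54_1 (flp_i L169339) (flp_h L116822) (flp_i L116550) L168915 L245126
theorem L245138 : sm gh N19885 = N28927 := rfl
theorem L245140 : sm ga N28927 = N19902 := ded_17_1 (flp_h L169088) (flp_a L168927) L245138
theorem L245144 : sm gj N28927 = N19886 := ded_52_1 (flp_h L168935) L168925 L245138
theorem L245147 : sm gi N19886 = N28928 := rfl
theorem L245155 : sm gh N28928 = N19932 := ded_54_1 (flp_i L169357) (flp_h L116840) (flp_i L116562) L168935 L245147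
theorem L245157 : sm gg N19888 = N28929 := rfl
theorem L245159 : sm gb N28929 = N20217 := ded_23_1 (flp_g L171830) (flp_b L168956) L245157
theorem L245161 : sm gc N28929 = N28929 := ded_30_1 (flp_g L245157) L168963 L245157
theorem L245162 : sm gd N28929 = N19889 := ded_36_1 (flp_g L168965) L168954 L245157
theorem L245164 : sm ge N28929 = N28929 := ded_41_1 (flp_g L245157) L168964 L245157
theorem L245165 : sm gi N28929 = N19933 := ded_51_2 (flp_g L169364) (flp_i L168961) L245157
theorem L245167 : sm gh N19888 = N28930 := rfl
theorem L245169 : sm gb N28930 = N20218 := ded_25_1 (flp_h L171839) (flp_b L168956) L245167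
theorem L245171 : sm gc N28930 = N28930 := ded_32_1 (flp_h L245167) L168963 L245167
theorem L245172 : sm ge N28930 = N28930 := ded_43_1 (flp_h L245167) L168964 L245167
theorem L245173 : sm gf N28930 = N21052 := ded_47_1 (flp_h L179000) (flp_f L168958) L245167
theorem L245175 : sm gj N28930 = N28930 := ded_52_1 (flp_h L245167) L168960 L245167
theorem L245176 : sm gf N19889 = N28931 := rfl
theorem L245178 : sm gb N28931 = N20219 := ded_22_1 (flp_f L171847) (flp_b L168967) L245176
theorem L245180 : sm gc N28931 = N19897 := ded_29_1 (flp_f L169041) (flp_c L168969) L245176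
theorem L245182 : sm gi N28931 = N19935 := ded_48_2 (flp_f L169381) (flp_i L168973) L245176
theorem L245184 : sm gg N28931 = N21053 := ded_45_2 (flp_f L179008) (flp_g L123338) (flp_f L116604) L168965 L245176
theorem L245186 : sm gj N19889 = N28932 := rfl
theorem L245188 : sm gb N28932 = N20220 := ded_24_1 (flp_j L171855) (flp_b L168967) L245186
theorem L245190 : sm gc N28932 = N19898 := ded_31_1 (flp_j L169050) (flp_c L168969) L245186
theorem L245192 : sm ge N28932 = N19891 := ded_42_1 (flp_j L168986) (flp_e L168971) L245186
theorem L245194 : sm gi N28932 = N19936 := ded_53_2 (flp_j L169389) (flp_i L168973) L245186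
theorem L245196 : sm gg N28932 = N28932 := ded_49_1 (flp_j L245186) (flp_g L168965) L116601 L168965 L245186
theorem L245197 : sm gh N19889 = N28933 := rfl
theorem L245199 : sm gb N28933 = N20221 := ded_25_1 (flp_h L171864) (flp_b L168967) L245197
theorem L245201 : sm gc N28933 = N19899 := ded_32_1 (flp_h L169060) (flp_c L168969) L245197
theorem L245203 : sm ge N28933 = N19892 := ded_43_1 (flp_h L168996) (flp_e L168971) L245197
theorem L245205 : sm gg N28933 = N19890 := ded_50_1 (flp_h L168975) L168965 L245197
theorem L245207 : sm gd N19890 = N28934 := rfl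
theorem L245209 : sm gb N28934 = N20222 := ded_20_1 (flp_d L171872) (flp_b L168977) L245207
theorem L245211 : sm gf N28934 = N21056 := ded_35_2 (flp_d L179037) (flp_f L168983) L245207
theorem L245213 : sm gj N28934 = N28934 := ded_37_2 (flp_d L245207) L168985 L245207
theorem L245214 : sm gi N19890 = N28935 := rfl
theorem L245216 : sm gb N28935 = N20223 := ded_26_1 (flp_i L171877) (flp_b L168977) L245214
theorem L245218 : sm gc N28935 = N19901 := ded_33_1 (flp_i L169077) (flp_c L168979) L245214
theorem L245220 : sm ge N28935 = N19894 := ded_44_1 (flp_i L169013) (flp_e L168981) L245214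
theorem L245222 : sm gf N28935 = N21057 := ded_48_1 (flp_i L179042) (flp_f L168983) L245214
theorem L245224 : sm gj N28935 = N28935 := ded_53_1 (flp_i L245214) L168985 L245214
theorem L245225 : sm gh N28935 = N19939 := ded_54_1 (flp_i L169415) (flp_h L116872) (flp_i L116602) L168975 L245214
theorem L245227 : sm gh N19891 = N28936 := rfl
theorem L245229 : sm gb N28936 = N20224 := ded_25_1 (flp_h L171888) (flp_b L168988) L245227
theorem L245231 : sm gc N28936 = N19902 := ded_32_1 (flp_h L169088) (flp_c L168990) L245227
theorem L245233 : sm gg N28936 = N28936 := ded_50_1 (flp_h L245227) L168995 L245227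
theorem L245234 : sm gj N28936 = N19892 := ded_52_1 (flp_h L168996) L168986 L245227
theorem L245236 : sm gd N19892 = N28937 := rfl
theorem L245238 : sm gb N28937 = N20225 := ded_20_1 (flp_d L171895) (flp_b L168998) L245236
theorem L245240 : sm gg N28937 = N19893 := ded_36_2 (flp_d L169004) (flp_g L169002) L245236
theorem L245242 : sm gc N28937 = N28937 := ded_27_1 (flp_d L245236) L169000 L116675 (flp_c L169000) L245236
theorem L245243 : sm gh N28937 = N28937 := ded_38_2 (flp_d L245236) (flp_h L168996) L116612 L168996 L245236
theorem L245244 : sm gi N19892 = N28938 := rfl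
theorem L245246 : sm gb N28938 = N20226 := ded_26_1 (flp_i L171900) (flp_b L168998) L245244
theorem L245248 : sm gc N28938 = N19903 := ded_33_1 (flp_i L169096) (flp_c L169000) L245244
theorem L245250 : sm gg N28938 = N19894 := ded_51_1 (flp_i L169013) (flp_g L169002) L245244
theorem L245252 : sm gh N28938 = N19942 := ded_54_1 (flp_i L169442) (flp_h L116891) (flp_i L116613) L168996 L245244
theorem L245254 : sm ge N19893 = N28939 := rfl
theorem L245256 : sm gb N28939 = N20227 := ded_21_1 (flp_e L171908) (flp_b L169006) L245254
theorem L245258 : sm gc N28939 = N28939 := ded_28_1 (flp_e L245254) L169011 L245254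
theorem L245259 : sm gj N28939 = N28939 := ded_42_2 (flp_e L245254) L169010 L245254
theorem L245260 : sm gh N28939 = N28939 := ded_43_2 (flp_e L245254) L169012 L245254
theorem L245261 : sm gi N19893 = N28940 := rfl
theorem L245263 : sm gb N28940 = N20228 := ded_26_1 (flp_i L171912) (flp_b L169006) L245261
theorem L245265 : sm gc N28940 = N28940 := ded_33_1 (flp_i L245261) L169011 L245261
theorem L245266 : sm gd N28940 = N19894 := ded_39_1 (flp_i L169013) L169004 L245261
theorem L245268 : sm gf N28940 = N19896 := ded_48_1 (flp_i L169033) (flp_f L169008) L245261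
theorem L245270 : sm gj N28940 = N28940 := ded_53_1 (flp_i L245261) L169010 L245261
theorem L245271 : sm gf N19895 = N28941 := rfl
theorem L245273 : sm gb N28941 = N20229 := ded_22_1 (flp_f L171919) (flp_b L169026) L245271
theorem L245276 : sm gd N28941 = N21063 := ded_35_1 (flp_f L179096) (flp_d L169031) L245271
theorem L245280 : sm gi N19895 = N28942 := rfl
theorem L245282 : sm gb N28942 = N20230 := ded_26_1 (flp_i L171925) (flp_b L169026) L245280
theorem L245287 : sm ge N28942 = N19896 := ded_44_1 (flp_i L169033) L169024 L245280
theorem L245290 : sm gh N19896 = N28943 := rfl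
theorem L245292 : sm gb N28943 = N20231 := ded_25_1 (flp_h L171932) (flp_b L169035) L245290
theorem L245294 : sm gc N28943 = N28943 := ded_32_1 (flp_h L245290) L169037 L245290
theorem L245295 : sm gj N28943 = N28943 := ded_52_1 (flp_h L245290) L169040 L245290
theorem L245296 : sm gd N28943 = N19947 := ded_38_1 (flp_h L169482) L116928 (flp_h L116640) (flp_d L169038) L245290
theorem L245298 : sm gi N28943 = N28943 := ded_54_2 (flp_h L245290) (flp_i L169033) L116630 L169033 L245290
theorem L245299 : sm gj N19897 = N28944 := rfl
theorem L245301 : sm gb N28944 = N19904 := ded_24_1 (flp_j L169105) (flp_b L169043) L245299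
theorem L245303 : sm gd N28944 = N28944 := ded_37_1 (flp_j L245299) L169045 L245299
theorem L245304 : sm gf N28944 = N19898 := ded_46_1 (flp_j L169050) L169041 L245299
theorem L245306 : sm gi N28944 = N19948 := ded_53_2 (flp_j L169488) (flp_i L169046) L245299
theorem L245308 : sm gh N19897 = N28945 := rfl
theorem L245310 : sm gb N28945 = N19905 := ded_25_1 (flp_h L169115) (flp_b L169043) L245308
theorem L245312 : sm gf N28945 = N19899 := ded_47_1 (flp_h L169060) L169041 L245308
theorem L245314 : sm gg N28945 = N21067 := ded_50_1 (flp_h L179128) (flp_g L169048) L245308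
theorem L245316 : sm gh N19898 = N28946 := rfl
theorem L245318 : sm gb N28946 = N19906 := ded_25_1 (flp_h L169124) (flp_b L169052) L245316
theorem L245320 : sm ge N28946 = N19902 := ded_43_1 (flp_h L169088) (flp_e L169055) L245316
theorem L245322 : sm gg N28946 = N28946 := ded_50_1 (flp_h L245316) L169059 L245316
theorem L245323 : sm gj N28946 = N19899 := ded_52_1 (flp_h L169060) L169050 L245316
theorem L245325 : sm gd N19899 = N28947 := rfl
theorem L245327 : sm gb N28947 = N19907 := ded_20_1 (flp_d L169134) (flp_b L169062) L245325
theorem L245329 : sm gg N28947 = N19900 := ded_36_2 (flp_d L169068) (flp_g L169066) L245325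
theorem L245331 : sm ge N28947 = N28947 := ded_34_2 (flp_d L245325) L169064 L116675 (flp_e L169064) L245325
theorem L245332 : sm gh N28947 = N28947 := ded_38_2 (flp_d L245325) (flp_h L169060) L116646 L169060 L245325
theorem L245333 : sm gi N19899 = N28948 := rfl
theorem L245335 : sm gb N28948 = N19908 := ded_26_1 (flp_i L169141) (flp_b L169062) L245333
theorem L245337 : sm ge N28948 = N19903 := ded_44_1 (flp_i L169096) (flp_e L169064) L245333
theorem L245339 : sm gg N28948 = N19901 := ded_51_1 (flp_i L169077) (flp_g L169066) L245333
theorem L245341 : sm gh N28948 = N19952 := ded_54_1 (flp_i L169519) (flp_h L116946) (flp_i L116649) L169060 L245333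
theorem L245343 : sm gc N19900 = N28949 := rfl
theorem L245345 : sm ge N28949 = N28949 := ded_28_2 (flp_c L245343) L169075 L245343
theorem L245346 : sm gf N28949 = N21071 := ded_29_2 (flp_c L179160) (flp_f L169072) L245343
theorem L245348 : sm gj N28949 = N28949 := ded_31_2 (flp_c L245343) L169074 L245343
theorem L245349 : sm gh N28949 = N28949 := ded_32_2 (flp_c L245343) L169076 L245343
theorem L245350 : sm gi N19900 = N28950 := rfl
theorem L245352 : sm gb N28950 = N19910 := ded_26_1 (flp_i L169162) (flp_b L169070) L245350
theorem L245354 : sm gd N28950 = N19901 := ded_39_1 (flp_i L169077) L169068 L245350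
theorem L245356 : sm ge N28950 = N28950 := ded_44_1 (flp_i L245350) L169075 L245350
theorem L245357 : sm gf N28950 = N21072 := ded_48_1 (flp_i L179164) (flp_f L169072) L245350
theorem L245359 : sm gj N28950 = N28950 := ded_53_1 (flp_i L245350) L169074 L245350
theorem L245360 : sm gi N19902 = N28951 := rfl
theorem L245362 : sm gb N28951 = N19911 := ded_26_1 (flp_i L169171) (flp_b L169090) L245360
theorem L245364 : sm gd N28951 = N28951 := ded_39_1 (flp_i L245360) L169095 L245360
theorem L245365 : sm gg N28951 = N28951 := ded_51_1 (flp_i L245360) L169092 L245360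
theorem L245366 : sm gj N28951 = N19903 := ded_53_1 (flp_i L169096) (flp_j L169093) L245360
theorem L245368 : sm gh N28951 = N19955 := ded_54_1 (flp_i L169542) (flp_h L116971) (flp_i L116666) L169088 L245360
theorem L245370 : sm gg N19904 = N28952 := rfl
theorem L245372 : sm ga N28952 = N28952 := ded_15_1 (flp_g L245370) L169107 L245370
theorem L245373 : sm gc N28952 = N20240 := ded_30_1 (flp_g L172008) (flp_c L169108) L245370
theorem L245375 : sm gd N28952 = N28952 := ded_36_1 (flp_g L245370) L169110 L245370
theorem L245376 : sm gi N28952 = N19956 := ded_51_2 (flp_g L169549) (flp_i L169113) L245370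
theorem L245378 : sm gf N28952 = N28952 := ded_45_1 (flp_g L245370) L169111 L116706 (flp_f L169111) L245370
theorem L245379 : sm gj N28952 = N21074 := ded_49_2 (flp_g L179180) (flp_j L123465) (flp_g L116694) L169105 L245370
theorem L245381 : sm gh N19904 = N28953 := rfl
theorem L245383 : sm ga N28953 = N28953 := ded_17_1 (flp_h L245381) L169107 L245381
theorem L245384 : sm gc N28953 = N20241 := ded_32_1 (flp_h L172018) (flp_c L169108) L245381
theorem L245386 : sm gf N28953 = N19906 := ded_47_1 (flp_h L169124) (flp_f L169111) L245381
theorem L245388 : sm gj N28953 = N19905 := ded_52_1 (flp_h L169115) L169105 L245381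
theorem L245390 : sm gd N19905 = N28954 := rfl
theorem L245392 : sm ga N28954 = N28954 := ded_12_1 (flp_d L245390) L169117 L245390
theorem L245393 : sm gf N28954 = N19907 := ded_35_2 (flp_d L169134) (flp_f L169120) L245390
theorem L245395 : sm gg N28954 = N21076 := ded_36_2 (flp_d L179198) (flp_g L169122) L245390
theorem L245397 : sm gh N28954 = N28954 := ded_38_2 (flp_d L245390) (flp_h L169115) L116691 L169115 L245390
theorem L245398 : sm gi N19905 = N28955 := rfl
theorem L245400 : sm ga N28955 = N28955 := ded_18_1 (flp_i L245398) L169117 L245398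
theorem L245401 : sm gc N28955 = N20243 := ded_33_1 (flp_i L172034) (flp_c L169118) L245398
theorem L245403 : sm gf N28955 = N19908 := ded_48_1 (flp_i L169141) (flp_f L169120) L245398
theorem L245405 : sm gg N28955 = N21077 := ded_51_1 (flp_i L179204) (flp_g L169122) L245398
theorem L245407 : sm gh N28955 = N19959 := ded_54_1 (flp_i L169575) (flp_h L116992) (flp_i L116692) L169115 L245398
theorem L245409 : sm gd N19906 = N28956 := rfl
theorem L245411 : sm ga N28956 = N28956 := ded_12_1 (flp_d L245409) L169126 L245409
theorem L245412 : sm gg N28956 = N28956 := ded_36_2 (flp_d L245409) L169131 L245409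
theorem L245413 : sm gj N28956 = N19907 := ded_37_2 (flp_d L169134) (flp_j L169132) L245409
theorem L245415 : sm ge N28956 = N28956 := ded_34_2 (flp_d L245409) L169129 L116744 (flp_e L169129) L245409
theorem L245416 : sm gh N28956 = N28956 := ded_38_2 (flp_d L245409) (flp_h L169124) L116701 L169124 L245409
theorem L245417 : sm gi N19906 = N28957 := rfl
theorem L245419 : sm ga N28957 = N28957 := ded_18_1 (flp_i L245417) L169126 L245417
theorem L245420 : sm gc N28957 = N20245 := ded_33_1 (flp_i L172051) (flp_c L169127) L245417
theorem L245422 : sm ge N28957 = N19911 := ded_44_1 (flp_i L169171) (flp_e L169129) L245417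
theorem L245424 : sm gg N28957 = N28957 := ded_51_1 (flp_i L245417) L169131 L245417
theorem L245425 : sm gj N28957 = N19908 := ded_53_1 (flp_i L169141) (flp_j L169132) L245417
theorem L245427 : sm gh N28957 = N19961 := ded_54_1 (flp_i L169591) (flp_h L117001) (flp_i L116704) L169124 L245417
theorem L245429 : sm gc N19907 = N28958 := rfl
theorem L245431 : sm ga N28958 = N28958 := ded_11_1 (flp_c L245429) L169136 L245429
theorem L245432 : sm ge N28958 = N28958 := ded_28_2 (flp_c L245429) L169139 L245429
theorem L245433 : sm gg N28958 = N19909 := ded_30_2 (flp_c L169152) (flp_g L169137) L245429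
theorem L245435 : sm gh N28958 = N28958 := ded_32_2 (flp_c L245429) L169140 L245429
theorem L245436 : sm gd N28958 = N20246 := ded_27_2 (flp_c L172061) (flp_d L118655) (flp_c L116710) L169134 L245429
theorem L245438 : sm gi N19907 = N28959 := rfl
theorem L245440 : sm ga N28959 = N28959 := ded_18_1 (flp_i L245438) L169136 L245438
theorem L245441 : sm gd N28959 = N19908 := ded_39_1 (flp_i L169141) L169134 L245438
theorem L245443 : sm ge N28959 = N28959 := ded_44_1 (flp_i L245438) L169139 L245438
theorem L245444 : sm gg N28959 = N19910 := ded_51_1 (flp_i L169162) (flp_g L169137) L245438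
theorem L245446 : sm gb N19909 = N28960 := rfl
theorem L245448 : sm gd N28960 = N20248 := ded_20_2 (flp_b L172075) (flp_d L169160) L245446
theorem L245450 : sm ge N28960 = N28960 := ded_21_2 (flp_b L245446) L169155 L245446
theorem L245451 : sm gf N28960 = N21082 := ded_22_2 (flp_b L179247) (flp_f L169156) L245446
theorem L245453 : sm gj N28960 = N28960 := ded_24_2 (flp_b L245446) L169158 L245446
theorem L245454 : sm gh N28960 = N28960 := ded_25_2 (flp_b L245446) L169159 L245446
theorem L245455 : sm gi N19909 = N28961 := rfl
theorem L245457 : sm ga N28961 = N28961 := ded_18_1 (flp_i L245455) L169154 L245455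
theorem L245458 : sm gc N28961 = N19910 := ded_33_1 (flp_i L169162) L169152 L245455
theorem L245460 : sm gd N28961 = N20249 := ded_39_1 (flp_i L172082) (flp_d L169160) L245455
theorem L245462 : sm ge N28961 = N28961 := ded_44_1 (flp_i L245455) L169155 L245455
theorem L245463 : sm gf N28961 = N21083 := ded_48_1 (flp_i L179253) (flp_f L169156) L245455
theorem L245465 : sm gj N28961 = N28961 := ded_53_1 (flp_i L245455) L169158 L245455
theorem L245466 : sm gh N19910 = N28962 := rfl
theorem L245468 : sm ga N28962 = N28962 := ded_17_1 (flp_h L245466) L169164 L245466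
theorem L245469 : sm ge N28962 = N28962 := ded_43_1 (flp_h L245466) L169167 L245466
theorem L245470 : sm gf N28962 = N21084 := ded_47_1 (flp_h L179261) (flp_f L169168) L245466
theorem L245472 : sm gj N28962 = N28962 := ded_52_1 (flp_h L245466) L169170 L245466
theorem L245473 : sm gd N28962 = N19966 := ded_38_1 (flp_h L169634) L117038 (flp_h L116734) (flp_d L169165) L245466
theorem L245475 : sm gi N28962 = N28962 := ded_54_2 (flp_h L245466) (flp_i L169162) L116723 L169162 L245466
theorem L245476 : sm gd N19912 = N28963 := rfl
theorem L245478 : sm ga N28963 = N20251 := ded_12_1 (flp_d L172100) (flp_a L169184) L245476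
theorem L245480 : sm gb N28963 = N19917 := ded_20_1 (flp_d L169228) (flp_b L169186) L245476
theorem L245482 : sm gf N28963 = N21085 := ded_35_2 (flp_d L179268) (flp_f L169190) L245476
theorem L245484 : sm gj N28963 = N28963 := ded_37_2 (flp_d L245476) L169189 L245476
theorem L245485 : sm ge N28963 = N28963 := ded_34_2 (flp_d L245476) (flp_e L169182) L116762 L169182 L245476
theorem L245486 : sm gg N19912 = N28964 := rfl
theorem L245488 : sm ga N28964 = N20252 := ded_15_1 (flp_g L172108) (flp_a L169184) L245486
theorem L245490 : sm gb N28964 = N19918 := ded_23_1 (flp_g L169237) (flp_b L169186) L245486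
theorem L245492 : sm gc N28964 = N28964 := ded_30_1 (flp_g L245486) L169188 L245486
theorem L245493 : sm ge N28964 = N19913 := ded_41_1 (flp_g L169192) L169182 L245486
theorem L245495 : sm gh N19912 = N28965 := rfl
theorem L245497 : sm ga N28965 = N20253 := ded_17_1 (flp_h L172115) (flp_a L169184) L245495
theorem L245499 : sm gb N28965 = N19919 := ded_25_1 (flp_h L169245) (flp_b L169186) L245495
theorem L245501 : sm gc N28965 = N28965 := ded_32_1 (flp_h L245495) L169188 L245495
theorem L245502 : sm ge N28965 = N19914 := ded_43_1 (flp_h L169200) L169182 L245495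
theorem L245504 : sm gf N28965 = N21087 := ded_47_1 (flp_h L179286) (flp_f L169190) L245495
theorem L245506 : sm gj N28965 = N28965 := ded_52_1 (flp_h L245495) L169189 L245495
theorem L245507 : sm gj N19913 = N28966 := rfl
theorem L245509 : sm ga N28966 = N20254 := ded_16_1 (flp_j L172125) (flp_a L169194) L245507
theorem L245511 : sm gb N28966 = N19920 := ded_24_1 (flp_j L169256) (flp_b L169196) L245507
theorem L245513 : sm gc N28966 = N28966 := ded_31_1 (flp_j L245507) L169198 L245507
theorem L245514 : sm gd N28966 = N28966 := ded_37_1 (flp_j L245507) L169199 L245507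
theorem L245515 : sm gg N28966 = N28966 := ded_49_1 (flp_j L245507) (flp_g L169192) L116763 L169192 L245507
theorem L245516 : sm gh N19913 = N28967 := rfl
theorem L245518 : sm ga N28967 = N20255 := ded_17_1 (flp_h L172132) (flp_a L169194) L245516
theorem L245520 : sm gb N28967 = N19921 := ded_25_1 (flp_h L169264) (flp_b L169196) L245516
theorem L245522 : sm gc N28967 = N28967 := ded_32_1 (flp_h L245516) L169198 L245516
theorem L245523 : sm gg N28967 = N19914 := ded_50_1 (flp_h L169200) L169192 L245516
theorem L245525 : sm gd N19914 = N28968 := rfl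
theorem L245527 : sm ga N28968 = N20256 := ded_12_1 (flp_d L172139) (flp_a L169202) L245525
theorem L245529 : sm gb N28968 = N19922 := ded_20_1 (flp_d L169272) (flp_b L169204) L245525
theorem L245531 : sm gf N28968 = N19915 := ded_35_2 (flp_d L169210) (flp_f L169207) L245525
theorem L245533 : sm gj N28968 = N28968 := ded_37_2 (flp_d L245525) L169209 L245525
theorem L245534 : sm gh N28968 = N28968 := ded_38_2 (flp_d L245525) (flp_h L169200) L116762 L169200 L245525
theorem L245535 : sm gi N19914 = N28969 := rfl
theorem L245537 : sm ga N28969 = N20257 := ded_18_1 (flp_i L172147) (flp_a L169202) L245535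
theorem L245539 : sm gb N28969 = N19923 := ded_26_1 (flp_i L169280) (flp_b L169204) L245535
theorem L245541 : sm gc N28969 = N28969 := ded_33_1 (flp_i L245535) L169206 L245535
theorem L245542 : sm gf N28969 = N19916 := ded_48_1 (flp_i L169218) (flp_f L169207) L245535
theorem L245544 : sm gj N28969 = N28969 := ded_53_1 (flp_i L245535) L169209 L245535
theorem L245545 : sm gc N19915 = N28970 := rfl
theorem L245547 : sm ga N28970 = N20258 := ded_11_1 (flp_c L172155) (flp_a L169212) L245545
theorem L245549 : sm gj N28970 = N28970 := ded_31_2 (flp_c L245545) L169216 L245545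
theorem L245550 : sm gh N28970 = N28970 := ded_32_2 (flp_c L245545) L169217 L245545
theorem L245551 : sm gd N28970 = N28970 := ded_27_2 (flp_c L245545) (flp_d L169210) L116770 L169210 L245545
theorem L245552 : sm ge N19915 = N28971 := rfl
theorem L245556 : sm gb N28971 = N19924 := ded_21_1 (flp_e L169289) (flp_b L169214) L245552
theorem L245562 : sm gi N19915 = N28972 := rfl
theorem L245564 : sm ga N28972 = N20260 := ded_18_1 (flp_i L172169) (flp_a L169212) L245562
theorem L245566 : sm gb N28972 = N19925 := ded_26_1 (flp_i L169297) (flp_b L169214) L245562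
theorem L245568 : sm gd N28972 = N19916 := ded_39_1 (flp_i L169218) L169210 L245562
theorem L245570 : sm gj N28972 = N28972 := ded_53_1 (flp_i L245562) L169216 L245562
theorem L245571 : sm gg N19917 = N28973 := rfl
theorem L245573 : sm ga N28973 = N19933 := ded_15_1 (flp_g L169364) (flp_a L169230) L245571
theorem L245575 : sm gc N28973 = N28973 := ded_30_1 (flp_g L245571) L169235 L245571
theorem L245576 : sm gd N28973 = N19918 := ded_36_1 (flp_g L169237) L169228 L245571
theorem L245578 : sm ge N28973 = N28973 := ded_41_1 (flp_g L245571) L169236 L245571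
theorem L245579 : sm gh N19917 = N28974 := rfl
theorem L245581 : sm ga N28974 = N19934 := ded_17_1 (flp_h L169372) (flp_a L169230) L245579
theorem L245583 : sm gc N28974 = N28974 := ded_32_1 (flp_h L245579) L169235 L245579
theorem L245584 : sm ge N28974 = N28974 := ded_43_1 (flp_h L245579) L169236 L245579
theorem L245585 : sm gf N28974 = N21096 := ded_47_1 (flp_h L179372) (flp_f L169232) L245579
theorem L245587 : sm gj N28974 = N28974 := ded_52_1 (flp_h L245579) L169234 L245579
theorem L245588 : sm gf N19918 = N28975 := rfl
theorem L245590 : sm ga N28975 = N19935 := ded_14_1 (flp_f L169381) (flp_a L169239) L245588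
theorem L245592 : sm gc N28975 = N19926 := ded_29_1 (flp_f L169304) (flp_c L169241) L245588
theorem L245594 : sm gg N28975 = N21097 := ded_45_2 (flp_f L179380) (flp_g L123584) (flp_f L116781) L169237 L245588
theorem L245596 : sm gj N19918 = N28976 := rfl
theorem L245598 : sm ga N28976 = N19936 := ded_16_1 (flp_j L169389) (flp_a L169239) L245596
theorem L245600 : sm gc N28976 = N19927 := ded_31_1 (flp_j L169312) (flp_c L169241) L245596
theorem L245602 : sm ge N28976 = N19920 := ded_42_1 (flp_j L169256) (flp_e L169243) L245596
theorem L245604 : sm gg N28976 = N28976 := ded_49_1 (flp_j L245596) (flp_g L169237) L116780 L169237 L245596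
theorem L245605 : sm gh N19918 = N28977 := rfl
theorem L245607 : sm ga N28977 = N19937 := ded_17_1 (flp_h L169398) (flp_a L169239) L245605
theorem L245609 : sm gc N28977 = N19928 := ded_32_1 (flp_h L169321) (flp_c L169241) L245605
theorem L245611 : sm ge N28977 = N19921 := ded_43_1 (flp_h L169264) (flp_e L169243) L245605
theorem L245613 : sm gg N28977 = N19919 := ded_50_1 (flp_h L169245) L169237 L245605
theorem L245615 : sm gd N19919 = N28978 := rfl
theorem L245617 : sm ga N28978 = N19938 := ded_12_1 (flp_d L169408) (flp_a L169247) L245615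
theorem L245619 : sm gf N28978 = N21100 := ded_35_2 (flp_d L179405) (flp_f L169253) L245615
theorem L245621 : sm gj N28978 = N28978 := ded_37_2 (flp_d L245615) L169255 L245615
theorem L245622 : sm gi N19919 = N28979 := rfl
theorem L245624 : sm ga N28979 = N19939 := ded_18_1 (flp_i L169415) (flp_a L169247) L245622
theorem L245626 : sm gc N28979 = N19930 := ded_33_1 (flp_i L169339) (flp_c L169249) L245622
theorem L245628 : sm ge N28979 = N19923 := ded_44_1 (flp_i L169280) (flp_e L169251) L245622
theorem L245630 : sm gf N28979 = N21101 := ded_48_1 (flp_i L179410) (flp_f L169253) L245622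
theorem L245632 : sm gj N28979 = N28979 := ded_53_1 (flp_i L245622) L169255 L245622
theorem L245633 : sm gh N19920 = N28980 := rfl
theorem L245635 : sm ga N28980 = N19940 := ded_17_1 (flp_h L169426) (flp_a L169258) L245633
theorem L245637 : sm gc N28980 = N19931 := ded_32_1 (flp_h L169349) (flp_c L169260) L245633
theorem L245639 : sm gg N28980 = N28980 := ded_50_1 (flp_h L245633) L169263 L245633
theorem L245640 : sm gj N28980 = N19921 := ded_52_1 (flp_h L169264) L169256 L245633
theorem L245642 : sm gd N19921 = N28981 := rfl
theorem L245644 : sm ga N28981 = N19941 := ded_12_1 (flp_d L169435) (flp_a L169266) L245642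
theorem L245646 : sm gg N28981 = N19922 := ded_36_2 (flp_d L169272) (flp_g L169270) L245642
theorem L245648 : sm gh N28981 = N28981 := ded_38_2 (flp_d L245642) (flp_h L169264) L116789 L169264 L245642
theorem L245649 : sm gi N19921 = N28982 := rfl
theorem L245651 : sm ga N28982 = N19942 := ded_18_1 (flp_i L169442) (flp_a L169266) L245649
theorem L245653 : sm gc N28982 = N19932 := ded_33_1 (flp_i L169357) (flp_c L169268) L245649
theorem L245655 : sm gg N28982 = N19923 := ded_51_1 (flp_i L169280) (flp_g L169270) L245649
theorem L245657 : sm ge N19922 = N28983 := rfl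
theorem L245659 : sm ga N28983 = N19943 := ded_13_1 (flp_e L169450) (flp_a L169274) L245657
theorem L245661 : sm gj N28983 = N28983 := ded_42_2 (flp_e L245657) L169278 L245657
theorem L245662 : sm gh N28983 = N28983 := ded_43_2 (flp_e L245657) L169279 L245657
theorem L245663 : sm gi N19922 = N28984 := rfl
theorem L245665 : sm ga N28984 = N19944 := ded_18_1 (flp_i L169456) (flp_a L169274) L245663
theorem L245667 : sm gd N28984 = N19923 := ded_39_1 (flp_i L169280) L169272 L245663
theorem L245669 : sm gf N28984 = N19925 := ded_48_1 (flp_i L169297) (flp_f L169276) L245663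
theorem L245671 : sm gj N28984 = N28984 := ded_53_1 (flp_i L245663) L169278 L245663
theorem L245672 : sm gf N19924 = N28985 := rfl
theorem L245674 : sm ga N28985 = N19945 := ded_14_1 (flp_f L169465) (flp_a L169291) L245672
theorem L245676 : sm gd N28985 = N21107 := ded_35_1 (flp_f L179463) (flp_d L169295) L245672
theorem L245678 : sm gj N28985 = N28985 := ded_46_2 (flp_f L245672) L169293 L245672
theorem L245679 : sm gh N28985 = N28985 := ded_47_2 (flp_f L245672) L169294 L245672
theorem L245680 : sm gi N19924 = N28986 := rfl
theorem L245682 : sm ga N28986 = N19946 := ded_18_1 (flp_i L169473) (flp_a L169291) L245680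
theorem L245684 : sm gd N28986 = N21108 := ded_39_1 (flp_i L179471) (flp_d L169295) L245680
theorem L245686 : sm ge N28986 = N19925 := ded_44_1 (flp_i L169297) L169289 L245680
theorem L245688 : sm gj N28986 = N28986 := ded_53_1 (flp_i L245680) L169293 L245680
theorem L245689 : sm gh N19925 = N28987 := rfl
theorem L245691 : sm ga N28987 = N19947 := ded_17_1 (flp_h L169482) (flp_a L169299) L245689
theorem L245693 : sm gj N28987 = N28987 := ded_52_1 (flp_h L245689) L169303 L245689
theorem L245694 : sm gi N28987 = N28987 := ded_54_2 (flp_h L245689) (flp_i L169297) L116804 L169297 L245689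
theorem L245695 : sm gj N19926 = N28988 := rfl
theorem L245697 : sm ga N28988 = N19948 := ded_16_1 (flp_j L169488) (flp_a L169306) L245695
theorem L245699 : sm gb N28988 = N28988 := ded_24_1 (flp_j L245695) L169308 L245695
theorem L245700 : sm gd N28988 = N28988 := ded_37_1 (flp_j L245695) L169309 L245695
theorem L245701 : sm gf N28988 = N19927 := ded_46_1 (flp_j L169312) L169304 L245695
theorem L245703 : sm gh N19926 = N28989 := rfl
theorem L245705 : sm ga N28989 = N19949 := ded_17_1 (flp_h L169495) (flp_a L169306) L245703
theorem L245707 : sm gb N28989 = N28989 := ded_25_1 (flp_h L245703) L169308 L245703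
theorem L245708 : sm gf N28989 = N19928 := ded_47_1 (flp_h L169321) L169304 L245703
theorem L245710 : sm gg N28989 = N21111 := ded_50_1 (flp_h L179495) (flp_g L169310) L245703
theorem L245712 : sm gh N19927 = N28990 := rfl
theorem L245714 : sm ga N28990 = N19950 := ded_17_1 (flp_h L169503) (flp_a L169314) L245712
theorem L245716 : sm gb N28990 = N28990 := ded_25_1 (flp_h L245712) L169316 L245712
theorem L245717 : sm ge N28990 = N19931 := ded_43_1 (flp_h L169349) (flp_e L169318) L245712
theorem L245719 : sm gg N28990 = N28990 := ded_50_1 (flp_h L245712) L169320 L245712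
theorem L245720 : sm gj N28990 = N19928 := ded_52_1 (flp_h L169321) L169312 L245712
theorem L245722 : sm gd N19928 = N28991 := rfl
theorem L245724 : sm ga N28991 = N19951 := ded_12_1 (flp_d L169512) (flp_a L169323) L245722
theorem L245726 : sm gb N28991 = N28991 := ded_20_1 (flp_d L245722) L169325 L245722
theorem L245727 : sm gg N28991 = N19929 := ded_36_2 (flp_d L169330) (flp_g L169328) L245722
theorem L245729 : sm gh N28991 = N28991 := ded_38_2 (flp_d L245722) (flp_h L169321) L116819 L169321 L245722
theorem L245730 : sm gi N19928 = N28992 := rfl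
theorem L245732 : sm ga N28992 = N19952 := ded_18_1 (flp_i L169519) (flp_a L169323) L245730
theorem L245734 : sm gb N28992 = N28992 := ded_26_1 (flp_i L245730) L169325 L245730
theorem L245735 : sm ge N28992 = N19932 := ded_44_1 (flp_i L169357) (flp_e L169326) L245730
theorem L245737 : sm gg N28992 = N19930 := ded_51_1 (flp_i L169339) (flp_g L169328) L245730
theorem L245739 : sm gc N19929 = N28993 := rfl
theorem L245741 : sm ga N28993 = N19953 := ded_11_1 (flp_c L169527) (flp_a L169332) L245739
theorem L245743 : sm gf N28993 = N21115 := ded_29_2 (flp_c L179530) (flp_f L169335) L245739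
theorem L245745 : sm gj N28993 = N28993 := ded_31_2 (flp_c L245739) L169337 L245739
theorem L245746 : sm gh N28993 = N28993 := ded_32_2 (flp_c L245739) L169338 L245739
theorem L245747 : sm gi N19929 = N28994 := rfl
theorem L245749 : sm ga N28994 = N19954 := ded_18_1 (flp_i L169533) (flp_a L169332) L245747
theorem L245751 : sm gb N28994 = N28994 := ded_26_1 (flp_i L245747) L169334 L245747
theorem L245752 : sm gd N28994 = N19930 := ded_39_1 (flp_i L169339) L169330 L245747
theorem L245754 : sm gf N28994 = N21116 := ded_48_1 (flp_i L179537) (flp_f L169335) L245747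
theorem L245756 : sm gj N28994 = N28994 := ded_53_1 (flp_i L245747) L169337 L245747
theorem L245757 : sm gi N19931 = N28995 := rfl
theorem L245759 : sm ga N28995 = N19955 := ded_18_1 (flp_i L169542) (flp_a L169351) L245757
theorem L245761 : sm gb N28995 = N28995 := ded_26_1 (flp_i L245757) L169353 L245757
theorem L245762 : sm gg N28995 = N28995 := ded_51_1 (flp_i L245757) L169354 L245757
theorem L245763 : sm gj N28995 = N19932 := ded_53_1 (flp_i L169357) (flp_j L169355) L245757
theorem L245765 : sm gf N19933 = N28996 := rfl
theorem L245767 : sm gb N28996 = N20284 := ded_22_1 (flp_f L172385) (flp_b L169366) L245765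
theorem L245769 : sm gc N28996 = N28996 := ded_29_1 (flp_f L245765) L169368 L245765
theorem L245770 : sm gd N28996 = N19935 := ded_35_1 (flp_f L169381) (flp_d L169369) L245765
theorem L245772 : sm gg N28996 = N21118 := ded_45_2 (flp_f L179555) (flp_g L123710) (flp_f L116859) L169364 L245765
theorem L245774 : sm gj N19933 = N28997 := rfl
theorem L245776 : sm gb N28997 = N20285 := ded_24_1 (flp_j L172393) (flp_b L169366) L245774
theorem L245778 : sm gc N28997 = N28997 := ded_31_1 (flp_j L245774) L169368 L245774
theorem L245779 : sm gd N28997 = N19936 := ded_37_1 (flp_j L169389) (flp_d L169369) L245774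
theorem L245781 : sm ge N28997 = N28997 := ded_42_1 (flp_j L245774) L169371 L245774
theorem L245782 : sm gg N28997 = N28997 := ded_49_1 (flp_j L245774) (flp_g L169364) L116861 L169364 L245774
theorem L245783 : sm gh N19933 = N28998 := rfl
theorem L245785 : sm gb N28998 = N20286 := ded_25_1 (flp_h L172401) (flp_b L169366) L245783
theorem L245787 : sm gc N28998 = N28998 := ded_32_1 (flp_h L245783) L169368 L245783
theorem L245788 : sm ge N28998 = N28998 := ded_43_1 (flp_h L245783) L169371 L245783
theorem L245789 : sm gg N28998 = N19934 := ded_50_1 (flp_h L169372) L169364 L245783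
theorem L245791 : sm gd N19934 = N28999 := rfl
theorem L245793 : sm gb N28999 = N20287 := ded_20_1 (flp_d L172408) (flp_b L169374) L245791
theorem L245795 : sm gf N28999 = N21121 := ded_35_2 (flp_d L179581) (flp_f L169378) L245791
theorem L245797 : sm gj N28999 = N28999 := ded_37_2 (flp_d L245791) L169380 L245791
theorem L245798 : sm gh N28999 = N19938 := ded_38_2 (flp_d L169408) (flp_h L116872) L116855 L169372 L245791
theorem L245800 : sm gi N19934 = N29000 := rfl
theorem L245802 : sm gb N29000 = N20288 := ded_26_1 (flp_i L172415) (flp_b L169374) L245800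
theorem L245804 : sm gc N29000 = N29000 := ded_33_1 (flp_i L245800) L169376 L245800
theorem L245805 : sm ge N29000 = N29000 := ded_44_1 (flp_i L245800) L169377 L245800
theorem L245806 : sm gf N29000 = N21122 := ded_48_1 (flp_i L179588) (flp_f L169378) L245800
theorem L245808 : sm gj N29000 = N29000 := ded_53_1 (flp_i L245800) L169380 L245800
theorem L245809 : sm gj N19935 = N29001 := rfl
theorem L245811 : sm gb N29001 = N20289 := ded_24_1 (flp_j L172423) (flp_b L169383) L245809
theorem L245813 : sm gc N29001 = N19948 := ded_31_1 (flp_j L169488) (flp_c L169385) L245809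
theorem L245815 : sm gf N29001 = N19936 := ded_46_1 (flp_j L169389) L169381 L245809
theorem L245817 : sm gh N19935 = N29002 := rfl
theorem L245819 : sm gb N29002 = N20290 := ded_25_1 (flp_h L172429) (flp_b L169383) L245817
theorem L245821 : sm gc N29002 = N19949 := ded_32_1 (flp_h L169495) (flp_c L169385) L245817
theorem L245823 : sm gf N29002 = N19937 := ded_47_1 (flp_h L169398) L169381 L245817
theorem L245825 : sm gg N29002 = N21124 := ded_50_1 (flp_h L179604) (flp_g L169387) L245817
theorem L245827 : sm gh N19936 = N29003 := rfl
theorem L245829 : sm gb N29003 = N20291 := ded_25_1 (flp_h L172437) (flp_b L169391) L245827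
theorem L245831 : sm gc N29003 = N19950 := ded_32_1 (flp_h L169503) (flp_c L169393) L245827
theorem L245833 : sm ge N29003 = N19940 := ded_43_1 (flp_h L169426) (flp_e L169395) L245827
theorem L245835 : sm gg N29003 = N29003 := ded_50_1 (flp_h L245827) L169397 L245827
theorem L245836 : sm gj N29003 = N19937 := ded_52_1 (flp_h L169398) L169389 L245827
theorem L245838 : sm gd N19937 = N29004 := rfl
theorem L245840 : sm gb N29004 = N20292 := ded_20_1 (flp_d L172446) (flp_b L169400) L245838
theorem L245842 : sm gg N29004 = N19938 := ded_36_2 (flp_d L169408) (flp_g L169406) L245838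
theorem L245844 : sm gi N19937 = N29005 := rfl
theorem L245846 : sm gb N29005 = N20293 := ded_26_1 (flp_i L172450) (flp_b L169400) L245844
theorem L245848 : sm gc N29005 = N19952 := ded_33_1 (flp_i L169519) (flp_c L169402) L245844
theorem L245850 : sm ge N29005 = N19942 := ded_44_1 (flp_i L169442) (flp_e L169404) L245844
theorem L245852 : sm gg N29005 = N19939 := ded_51_1 (flp_i L169415) (flp_g L169406) L245844
theorem L245854 : sm gc N19938 = N29006 := rfl
theorem L245856 : sm gf N29006 = N21128 := ded_29_2 (flp_c L179639) (flp_f L169412) L245854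
theorem L245858 : sm gj N29006 = N29006 := ded_31_2 (flp_c L245854) L169414 L245854
theorem L245859 : sm gd N29006 = N19953 := ded_27_2 (flp_c L169527) (flp_d L116954) (flp_c L116876) L169408 L245854
theorem L245861 : sm ge N19938 = N29007 := rfl
theorem L245863 : sm gb N29007 = N20295 := ded_21_1 (flp_e L172465) (flp_b L169410) L245861
theorem L245865 : sm gj N29007 = N29007 := ded_42_2 (flp_e L245861) L169414 L245861
theorem L245866 : sm gd N29007 = N19943 := ded_34_1 (flp_e L169450) (flp_d L116899) (flp_e L116878) L169408 L245861
theorem L245868 : sm gi N19938 = N29008 := rfl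
theorem L245870 : sm gb N29008 = N20296 := ded_26_1 (flp_i L172470) (flp_b L169410) L245868
theorem L245872 : sm gd N29008 = N19939 := ded_39_1 (flp_i L169415) L169408 L245868
theorem L245874 : sm gf N29008 = N21130 := ded_48_1 (flp_i L179651) (flp_f L169412) L245868
theorem L245876 : sm gj N29008 = N29008 := ded_53_1 (flp_i L245868) L169414 L245868
theorem L245877 : sm gd N19940 = N29009 := rfl
theorem L245879 : sm gb N29009 = N20297 := ded_20_1 (flp_d L172477) (flp_b L169428) L245877
theorem L245881 : sm gg N29009 = N29009 := ded_36_2 (flp_d L245877) L169432 L245877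
theorem L245882 : sm gj N29009 = N19941 := ded_37_2 (flp_d L169435) (flp_j L169433) L245877
theorem L245884 : sm gh N29009 = N29009 := ded_38_2 (flp_d L245877) (flp_h L169426) L116889 L169426 L245877
theorem L245885 : sm gi N19940 = N29010 := rfl
theorem L245887 : sm gb N29010 = N20298 := ded_26_1 (flp_i L172484) (flp_b L169428) L245885
theorem L245889 : sm gc N29010 = N19955 := ded_33_1 (flp_i L169542) (flp_c L169430) L245885
theorem L245891 : sm gg N29010 = N29010 := ded_51_1 (flp_i L245885) L169432 L245885
theorem L245892 : sm gj N29010 = N19942 := ded_53_1 (flp_i L169442) (flp_j L169433) L245885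
theorem L245894 : sm ge N19941 = N29011 := rfl
theorem L245896 : sm gb N29011 = N20299 := ded_21_1 (flp_e L172491) (flp_b L169437) L245894
theorem L245898 : sm gg N29011 = N19943 := ded_41_2 (flp_e L169450) (flp_g L169439) L245894
theorem L245900 : sm gh N29011 = N29011 := ded_43_2 (flp_e L245894) L169441 L245894
theorem L245901 : sm gi N19941 = N29012 := rfl
theorem L245903 : sm gb N29012 = N20300 := ded_26_1 (flp_i L172497) (flp_b L169437) L245901
theorem L245905 : sm gd N29012 = N19942 := ded_39_1 (flp_i L169442) L169435 L245901
theorem L245907 : sm gg N29012 = N19944 := ded_51_1 (flp_i L169456) (flp_g L169439) L245901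
theorem L245909 : sm gf N19943 = N29013 := rfl
theorem L245911 : sm gb N29013 = N20301 := ded_22_1 (flp_f L172504) (flp_b L169452) L245909
theorem L245913 : sm gj N29013 = N29013 := ded_46_2 (flp_f L245909) L169454 L245909
theorem L245914 : sm gh N29013 = N29013 := ded_47_2 (flp_f L245909) L169455 L245909
theorem L245915 : sm ge N29013 = N19945 := ded_40_1 (flp_f L169465) (flp_e L116916) (flp_f L116903) L169450 L245909
theorem L245917 : sm gi N19943 = N29014 := rfl
theorem L245919 : sm gb N29014 = N20302 := ded_26_1 (flp_i L172511) (flp_b L169452) L245917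
theorem L245921 : sm ge N29014 = N19944 := ded_44_1 (flp_i L169456) L169450 L245917
theorem L245923 : sm gj N29014 = N29014 := ded_53_1 (flp_i L245917) L169454 L245917
theorem L245924 : sm gh N19944 = N29015 := rfl
theorem L245926 : sm gb N29015 = N20303 := ded_25_1 (flp_h L172517) (flp_b L169458) L245924
theorem L245928 : sm gf N29015 = N19947 := ded_47_1 (flp_h L169482) (flp_f L169462) L245924
theorem L245930 : sm gj N29015 = N29015 := ded_52_1 (flp_h L245924) L169464 L245924
theorem L245931 : sm gi N29015 = N29015 := ded_54_2 (flp_h L245924) (flp_i L169456) L116906 L169456 L245924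
theorem L245932 : sm gg N19945 = N29016 := rfl
theorem L245934 : sm gb N29016 = N20304 := ded_23_1 (flp_g L172524) (flp_b L169467) L245932
theorem L245936 : sm gd N29016 = N21138 := ded_36_1 (flp_g L179723) (flp_d L169469) L245932
theorem L245938 : sm gh N29016 = N29016 := ded_50_2 (flp_g L245932) L169472 L245932
theorem L245939 : sm gi N19945 = N29017 := rfl
theorem L245941 : sm gb N29017 = N20305 := ded_26_1 (flp_i L172530) (flp_b L169467) L245939
theorem L245943 : sm gd N29017 = N21139 := ded_39_1 (flp_i L179730) (flp_d L169469) L245939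
theorem L245945 : sm gf N29017 = N19946 := ded_48_1 (flp_i L169473) L169465 L245939
theorem L245947 : sm gj N29017 = N29017 := ded_53_1 (flp_i L245939) L169471 L245939
theorem L245948 : sm gh N19946 = N29018 := rfl
theorem L245950 : sm gb N29018 = N20306 := ded_25_1 (flp_h L172538) (flp_b L169475) L245948
theorem L245952 : sm ge N29018 = N19947 := ded_43_1 (flp_h L169482) (flp_e L169479) L245948
theorem L245954 : sm gj N29018 = N29018 := ded_52_1 (flp_h L245948) L169481 L245948
theorem L245955 : sm gi N29018 = N29018 := ded_54_2 (flp_h L245948) (flp_i L169473) L116921 L169473 L245948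
theorem L245956 : sm gg N19948 = N29019 := rfl
theorem L245958 : sm gb N29019 = N19956 := ded_23_1 (flp_g L169549) (flp_b L169490) L245956
theorem L245960 : sm gd N29019 = N29019 := ded_36_1 (flp_g L245956) L169492 L245956
theorem L245961 : sm gf N29019 = N29019 := ded_45_1 (flp_g L245956) L169493 L116945 (flp_f L169493) L245956
theorem L245962 : sm gj N29019 = N21141 := ded_49_2 (flp_g L179748) (flp_j L123834) (flp_g L116936) L169488 L245956
theorem L245964 : sm gh N19948 = N29020 := rfl
theorem L245966 : sm gb N29020 = N19957 := ded_25_1 (flp_h L169558) (flp_b L169490) L245964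
theorem L245968 : sm gf N29020 = N19950 := ded_47_1 (flp_h L169503) (flp_f L169493) L245964
theorem L245970 : sm gj N29020 = N19949 := ded_52_1 (flp_h L169495) L169488 L245964
theorem L245972 : sm gd N19949 = N29021 := rfl
theorem L245974 : sm gb N29021 = N19958 := ded_20_1 (flp_d L169567) (flp_b L169497) L245972
theorem L245976 : sm gf N29021 = N19951 := ded_35_2 (flp_d L169512) (flp_f L169499) L245972
theorem L245978 : sm gg N29021 = N21143 := ded_36_2 (flp_d L179762) (flp_g L169501) L245972
theorem L245980 : sm gh N29021 = N29021 := ded_38_2 (flp_d L245972) (flp_h L169495) L116935 L169495 L245972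
theorem L245981 : sm gi N19949 = N29022 := rfl
theorem L245983 : sm gb N29022 = N19959 := ded_26_1 (flp_i L169575) (flp_b L169497) L245981
theorem L245985 : sm gf N29022 = N19952 := ded_48_1 (flp_i L169519) (flp_f L169499) L245981
theorem L245987 : sm gg N29022 = N21144 := ded_51_1 (flp_i L179769) (flp_g L169501) L245981
theorem L245989 : sm gd N19950 = N29023 := rfl
theorem L245991 : sm gb N29023 = N19960 := ded_20_1 (flp_d L169584) (flp_b L169505) L245989
theorem L245993 : sm gg N29023 = N29023 := ded_36_2 (flp_d L245989) L169509 L245989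
theorem L245994 : sm gj N29023 = N19951 := ded_37_2 (flp_d L169512) (flp_j L169510) L245989
theorem L245996 : sm gh N29023 = N29023 := ded_38_2 (flp_d L245989) (flp_h L169503) L116942 L169503 L245989
theorem L245997 : sm gi N19950 = N29024 := rfl
theorem L245999 : sm gb N29024 = N19961 := ded_26_1 (flp_i L169591) (flp_b L169505) L245997
theorem L246001 : sm ge N29024 = N19955 := ded_44_1 (flp_i L169542) (flp_e L169507) L245997
theorem L246003 : sm gg N29024 = N29024 := ded_51_1 (flp_i L245997) L169509 L245997
theorem L246004 : sm gj N29024 = N19952 := ded_53_1 (flp_i L169519) (flp_j L169510) L245997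
theorem L246006 : sm gc N19951 = N29025 := rfl
theorem L246008 : sm gg N29025 = N19953 := ded_30_2 (flp_c L169527) (flp_g L169516) L246006
theorem L246010 : sm gh N29025 = N29025 := ded_32_2 (flp_c L246006) L169518 L246006
theorem L246011 : sm gi N19951 = N29026 := rfl
theorem L246013 : sm gb N29026 = N19963 := ded_26_1 (flp_i L169609) (flp_b L169514) L246011
theorem L246015 : sm gd N29026 = N19952 := ded_39_1 (flp_i L169519) L169512 L246011
theorem L246017 : sm gg N29026 = N19954 := ded_51_1 (flp_i L169533) (flp_g L169516) L246011
theorem L246019 : sm gb N19953 = N29027 := rfl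
theorem L246021 : sm gf N29027 = N21149 := ded_22_2 (flp_b L179808) (flp_f L169529) L246019
theorem L246023 : sm gj N29027 = N29027 := ded_24_2 (flp_b L246019) L169531 L246019
theorem L246024 : sm gh N29027 = N29027 := ded_25_2 (flp_b L246019) L169532 L246019
theorem L246025 : sm gc N29027 = N19964 := ded_19_2 (flp_b L169616) (flp_c L117026) (flp_b L116956) L169527 L246019
theorem L246027 : sm gi N19953 = N29028 := rfl
theorem L246029 : sm gc N29028 = N19954 := ded_33_1 (flp_i L169533) L169527 L246027
theorem L246031 : sm gf N29028 = N21150 := ded_48_1 (flp_i L179815) (flp_f L169529) L246027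
theorem L246033 : sm gj N29028 = N29028 := ded_53_1 (flp_i L246027) L169531 L246027
theorem L246034 : sm gh N19954 = N29029 := rfl
theorem L246036 : sm gb N29029 = N19966 := ded_25_1 (flp_h L169634) (flp_b L169535) L246034
theorem L246038 : sm gf N29029 = N21151 := ded_47_1 (flp_h L179821) (flp_f L169539) L246034
theorem L246040 : sm gj N29029 = N29029 := ded_52_1 (flp_h L246034) L169541 L246034
theorem L246041 : sm gi N29029 = N29029 := ded_54_2 (flp_h L246034) (flp_i L169533) L116961 L169533 L246034
theorem L246042 : sm gh N19956 = N29030 := rfl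
theorem L246044 : sm ga N29030 = N29030 := ded_17_1 (flp_h L246042) L169551 L246042
theorem L246045 : sm gc N29030 = N20318 := ded_32_1 (flp_h L172643) (flp_c L169552) L246042
theorem L246047 : sm gf N29030 = N29030 := ded_47_1 (flp_h L246042) L169555 L246042
theorem L246048 : sm gg N29030 = N19957 := ded_50_1 (flp_h L169558) L169549 L246042
theorem L246050 : sm gj N29030 = N21152 := ded_52_1 (flp_h L179828) (flp_j L169556) L246042
theorem L246052 : sm gd N19957 = N29031 := rfl
theorem L246054 : sm ga N29031 = N29031 := ded_12_1 (flp_d L246052) L169560 L246052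
theorem L246055 : sm gf N29031 = N19960 := ded_35_2 (flp_d L169584) (flp_f L169563) L246052
theorem L246057 : sm gj N29031 = N19958 := ded_37_2 (flp_d L169567) (flp_j L169565) L246052
theorem L246059 : sm gh N29031 = N29031 := ded_38_2 (flp_d L246052) (flp_h L169558) L116989 L169558 L246052
theorem L246060 : sm gi N19957 = N29032 := rfl
theorem L246062 : sm ga N29032 = N29032 := ded_18_1 (flp_i L246060) L169560 L246060
theorem L246063 : sm gc N29032 = N20320 := ded_33_1 (flp_i L172660) (flp_c L169561) L246060
theorem L246065 : sm gf N29032 = N19961 := ded_48_1 (flp_i L169591) (flp_f L169563) L246060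
theorem L246067 : sm gj N29032 = N19959 := ded_53_1 (flp_i L169575) (flp_j L169565) L246060
theorem L246069 : sm gc N19958 = N29033 := rfl
theorem L246071 : sm ga N29033 = N29033 := ded_11_1 (flp_c L246069) L169569 L246069
theorem L246072 : sm gf N29033 = N19962 := ded_29_2 (flp_c L169601) (flp_f L169570) L246069
theorem L246074 : sm gg N29033 = N21155 := ded_30_2 (flp_c L179853) (flp_g L169572) L246069
theorem L246076 : sm gh N29033 = N29033 := ded_32_2 (flp_c L246069) L169574 L246069
theorem L246077 : sm gd N29033 = N20321 := ded_27_2 (flp_c L172667) (flp_d L119062) (flp_c L116995) L169567 L246069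
theorem L246079 : sm ge N19958 = N29034 := rfl
theorem L246081 : sm ga N29034 = N29034 := ded_13_1 (flp_e L246079) L169569 L246079
theorem L246082 : sm gg N29034 = N21156 := ded_41_2 (flp_e L179861) (flp_g L169572) L246079
theorem L246084 : sm gh N29034 = N29034 := ded_43_2 (flp_e L246079) L169574 L246079
theorem L246085 : sm gi N19958 = N29035 := rfl
theorem L246087 : sm ga N29035 = N29035 := ded_18_1 (flp_i L246085) L169569 L246085
theorem L246088 : sm gd N29035 = N19959 := ded_39_1 (flp_i L169575) L169567 L246085
theorem L246090 : sm gf N29035 = N19963 := ded_48_1 (flp_i L169609) (flp_f L169570) L246085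
theorem L246092 : sm gg N29035 = N21157 := ded_51_1 (flp_i L179866) (flp_g L169572) L246085
theorem L246094 : sm gc N19960 = N29036 := rfl
theorem L246096 : sm ga N29036 = N29036 := ded_11_1 (flp_c L246094) L169586 L246094
theorem L246097 : sm gg N29036 = N29036 := ded_30_2 (flp_c L246094) L169587 L246094
theorem L246098 : sm gj N29036 = N19962 := ded_31_2 (flp_c L169601) (flp_j L169588) L246094
theorem L246100 : sm gh N29036 = N29036 := ded_32_2 (flp_c L246094) L169590 L246094
theorem L246101 : sm gd N29036 = N20324 := ded_27_2 (flp_c L172693) (flp_d L119078) (flp_c L117004) L169584 L246094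
theorem L246103 : sm gi N19960 = N29037 := rfl
theorem L246105 : sm ga N29037 = N29037 := ded_18_1 (flp_i L246103) L169586 L246103
theorem L246106 : sm gd N29037 = N19961 := ded_39_1 (flp_i L169591) L169584 L246103
theorem L246108 : sm gg N29037 = N29037 := ded_51_1 (flp_i L246103) L169587 L246103
theorem L246109 : sm gj N29037 = N19963 := ded_53_1 (flp_i L169609) (flp_j L169588) L246103
theorem L246111 : sm gb N19962 = N29038 := rfl
theorem L246113 : sm gd N29038 = N20326 := ded_20_2 (flp_b L172711) (flp_d L169607) L246111
theorem L246115 : sm gg N29038 = N19964 := ded_23_2 (flp_b L169616) (flp_g L169604) L246111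
theorem L246117 : sm gh N29038 = N29038 := ded_25_2 (flp_b L246111) L169606 L246111
theorem L246118 : sm gi N19962 = N29039 := rfl
theorem L246120 : sm ga N29039 = N29039 := ded_18_1 (flp_i L246118) L169603 L246118
theorem L246121 : sm gc N29039 = N19963 := ded_33_1 (flp_i L169609) L169601 L246118
theorem L246123 : sm gd N29039 = N20327 := ded_39_1 (flp_i L172718) (flp_d L169607) L246118
theorem L246125 : sm gg N29039 = N19965 := ded_51_1 (flp_i L169624) (flp_g L169604) L246118
theorem L246127 : sm gh N19963 = N29040 := rfl
theorem L246129 : sm ga N29040 = N29040 := ded_17_1 (flp_h L246127) L169611 L246127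
theorem L246130 : sm gg N29040 = N19966 := ded_50_1 (flp_h L169634) (flp_g L169614) L246127
theorem L246132 : sm gi N29040 = N29040 := ded_54_2 (flp_h L246127) (flp_i L169609) L117016 L169609 L246127
theorem L246133 : sm ga N19964 = N29041 := rfl
theorem L246135 : sm gd N29041 = N20329 := ded_12_2 (flp_a L172734) (flp_d L169618) L246133
theorem L246137 : sm gf N29041 = N21163 := ded_14_2 (flp_a L179917) (flp_f L169620) L246133
theorem L246139 : sm gj N29041 = N29041 := ded_16_2 (flp_a L246133) L169622 L246133
theorem L246140 : sm gh N29041 = N29041 := ded_17_2 (flp_a L246133) L169623 L246133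
theorem L246141 : sm gb N29041 = N29041 := ded_10_2 (flp_a L246133) (flp_b L169616) L117028 L169616 L246133
theorem L246142 : sm gi N19964 = N29042 := rfl
theorem L246144 : sm gb N29042 = N19965 := ded_26_1 (flp_i L169624) L169616 L246142
theorem L246146 : sm gd N29042 = N20330 := ded_39_1 (flp_i L172743) (flp_d L169618) L246142
theorem L246148 : sm gf N29042 = N21164 := ded_48_1 (flp_i L179925) (flp_f L169620) L246142
theorem L246150 : sm gj N29042 = N29042 := ded_53_1 (flp_i L246142) L169622 L246142
theorem L246151 : sm gh N19965 = N29043 := rfl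
theorem L246153 : sm ga N29043 = N29043 := ded_17_1 (flp_h L246151) L169626 L246151
theorem L246154 : sm gc N29043 = N19966 := ded_32_1 (flp_h L169634) (flp_c L169627) L246151
theorem L246156 : sm gf N29043 = N21165 := ded_47_1 (flp_h L179933) (flp_f L169631) L246151
theorem L246158 : sm gj N29043 = N29043 := ded_52_1 (flp_h L246151) L169633 L246151
theorem L246159 : sm gi N29043 = N29043 := ded_54_2 (flp_h L246151) (flp_i L169624) L117032 L169624 L246151
theorem L246160 : sm gb N19967 = N29044 := rfl
theorem L246162 : sm gd N29044 = N29044 := ded_20_2 (flp_b L246160) L169650 L246160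
theorem L246163 : sm ge N29044 = N29044 := ded_21_2 (flp_b L246160) L169645 L246160
theorem L246164 : sm gg N29044 = N29044 := ded_23_2 (flp_b L246160) L169646 L246160
theorem L246165 : sm gj N29044 = N20044 := ded_24_2 (flp_b L170352) (flp_j L169647) L246160
theorem L246167 : sm gi N29044 = N29044 := ded_26_2 (flp_b L246160) L169649 L246160
theorem L246168 : sm ga N29044 = N29044 := ded_10_1 (flp_b L246160) L169643 L117080 (flp_a L169643) L246160
theorem L246169 : sm gc N29044 = N29044 := ded_19_2 (flp_b L246160) (flp_c L169641) L117055 L169641 L246160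
theorem L246170 : sm gf N19967 = N29045 := rfl
theorem L246172 : sm ga N29045 = N19971 := ded_14_1 (flp_f L169683) (flp_a L169643) L246170
theorem L246174 : sm gc N29045 = N19968 := ded_29_1 (flp_f L169651) L169641 L246170
theorem L246176 : sm gd N29045 = N29045 := ded_35_1 (flp_f L246170) L169650 L246170
theorem L246177 : sm gj N29045 = N20045 := ded_46_2 (flp_f L170361) (flp_j L169647) L246170
theorem L246179 : sm gi N29045 = N29045 := ded_48_2 (flp_f L246170) L169649 L246170
theorem L246180 : sm gh N19967 = N29046 := rfl
theorem L246182 : sm ga N29046 = N19972 := ded_17_1 (flp_h L169692) (flp_a L169643) L246180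
theorem L246184 : sm gc N29046 = N19969 := ded_32_1 (flp_h L169661) L169641 L246180
theorem L246186 : sm ge N29046 = N29046 := ded_43_1 (flp_h L246180) L169645 L246180
theorem L246187 : sm gg N29046 = N29046 := ded_50_1 (flp_h L246180) L169646 L246180
theorem L246188 : sm gj N29046 = N20046 := ded_52_1 (flp_h L170369) (flp_j L169647) L246180
theorem L246190 : sm ge N19968 = N29047 := rfl
theorem L246192 : sm ga N29047 = N19973 := ded_13_1 (flp_e L169701) (flp_a L169653) L246190
theorem L246194 : sm gb N29047 = N29047 := ded_21_1 (flp_e L246190) L169655 L246190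
theorem L246195 : sm gj N29047 = N20047 := ded_42_2 (flp_e L170378) (flp_j L169658) L246190
theorem L246197 : sm gi N29047 = N29047 := ded_44_2 (flp_e L246190) L169660 L246190
theorem L246198 : sm gd N29047 = N29047 := ded_34_1 (flp_e L246190) L169656 L117072 (flp_d L169656) L246190
theorem L246199 : sm gf N29047 = N29047 := ded_40_2 (flp_e L246190) (flp_f L169651) L117060 L169651 L246190
theorem L246200 : sm gg N19968 = N29048 := rfl
theorem L246202 : sm ga N29048 = N19974 := ded_15_1 (flp_g L169710) (flp_a L169653) L246200
theorem L246204 : sm gb N29048 = N29048 := ded_23_1 (flp_g L246200) L169655 L246200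
theorem L246205 : sm gd N29048 = N19970 := ded_36_1 (flp_g L169672) (flp_d L169656) L246200
theorem L246207 : sm gi N29048 = N29048 := ded_51_2 (flp_g L246200) L169660 L246200
theorem L246208 : sm gf N29048 = N29048 := ded_45_1 (flp_g L246200) (flp_f L169651) L117056 L169651 L246200
theorem L246209 : sm gh N19968 = N29049 := rfl
theorem L246211 : sm ga N29049 = N19975 := ded_17_1 (flp_h L169718) (flp_a L169653) L246209
theorem L246213 : sm gb N29049 = N29049 := ded_25_1 (flp_h L246209) L169655 L246209
theorem L246214 : sm gf N29049 = N19969 := ded_47_1 (flp_h L169661) L169651 L246209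
theorem L246216 : sm gj N29049 = N20049 := ded_52_1 (flp_h L170396) (flp_j L169658) L246209
theorem L246218 : sm gd N29049 = N19988 := ded_38_1 (flp_h L169853) L117178 (flp_h L117069) (flp_d L169656) L246209
theorem L246220 : sm gi N19969 = N29050 := rfl
theorem L246222 : sm ga N29050 = N19976 := ded_18_1 (flp_i L169728) (flp_a L169663) L246220
theorem L246224 : sm gb N29050 = N29050 := ded_26_1 (flp_i L246220) L169665 L246220
theorem L246225 : sm gd N29050 = N19989 := ded_39_1 (flp_i L169862) (flp_d L169670) L246220
theorem L246227 : sm ge N29050 = N29050 := ded_44_1 (flp_i L246220) L169666 L246220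
theorem L246228 : sm gg N29050 = N29050 := ded_51_1 (flp_i L246220) L169667 L246220
theorem L246229 : sm gj N29050 = N20050 := ded_53_1 (flp_i L170405) (flp_j L169668) L246220
theorem L246231 : sm gh N29050 = N29050 := ded_54_1 (flp_i L246220) (flp_h L169661) L117059 L169661 L246220
theorem L246232 : sm gj N19970 = N29051 := rfl
theorem L246234 : sm ga N29051 = N19977 := ded_16_1 (flp_j L169739) (flp_a L169674) L246232
theorem L246236 : sm gb N29051 = N29051 := ded_24_1 (flp_j L246232) L169676 L246232
theorem L246237 : sm gc N29051 = N29051 := ded_31_1 (flp_j L246232) L169677 L246232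
theorem L246238 : sm ge N29051 = N29051 := ded_42_1 (flp_j L246232) L169678 L246232
theorem L246239 : sm gf N29051 = N29051 := ded_46_1 (flp_j L246232) L169682 L246232
theorem L246240 : sm gh N29051 = N19990 := ded_52_2 (flp_j L169874) (flp_h L169679) L246232
theorem L246242 : sm gi N29051 = N29051 := ded_53_2 (flp_j L246232) L169681 L246232
theorem L246243 : sm gg N29051 = N20051 := ded_49_1 (flp_j L170416) (flp_g L117557) (flp_j L117067) L169672 L246232
theorem L246245 : sm ge N19971 = N29052 := rfl
theorem L246248 : sm gc N29052 = N19973 := ded_28_1 (flp_e L169701) (flp_c L169686) L246245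
theorem L246250 : sm gj N29052 = N20052 := ded_42_2 (flp_e L170428) (flp_j L169689) L246245
theorem L246254 : sm gg N19971 = N29053 := rfl
theorem L246257 : sm gc N29053 = N19974 := ded_30_1 (flp_g L169710) (flp_c L169686) L246254
theorem L246262 : sm gh N19971 = N29054 := rfl
theorem L246264 : sm gb N29054 = N29054 := ded_25_1 (flp_h L246262) L169685 L246262
theorem L246265 : sm gc N29054 = N19975 := ded_32_1 (flp_h L169718) (flp_c L169686) L246262
theorem L246267 : sm gf N29054 = N19972 := ded_47_1 (flp_h L169692) L169683 L246262
theorem L246269 : sm gj N29054 = N20054 := ded_52_1 (flp_h L170444) (flp_j L169689) L246262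
theorem L246271 : sm gd N19972 = N29055 := rfl
theorem L246273 : sm gb N29055 = N29055 := ded_20_1 (flp_d L246271) L169694 L246271
theorem L246274 : sm gg N29055 = N29055 := ded_36_2 (flp_d L246271) L169698 L246271
theorem L246275 : sm gj N29055 = N20055 := ded_37_2 (flp_d L170451) (flp_j L169699) L246271
theorem L246277 : sm gc N29055 = N19994 := ded_27_1 (flp_d L169912) L117215 (flp_d L117099) (flp_c L169695) L246271
theorem L246279 : sm gh N29055 = N29055 := ded_38_2 (flp_d L246271) (flp_h L169692) L117081 L169692 L246271
theorem L246280 : sm gi N19972 = N29056 := rfl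
theorem L246282 : sm gb N29056 = N29056 := ded_26_1 (flp_i L246280) L169694 L246280
theorem L246283 : sm gc N29056 = N19976 := ded_33_1 (flp_i L169728) (flp_c L169695) L246280
theorem L246285 : sm ge N29056 = N29056 := ded_44_1 (flp_i L246280) L169697 L246280
theorem L246286 : sm gg N29056 = N29056 := ded_51_1 (flp_i L246280) L169698 L246280
theorem L246287 : sm gj N29056 = N20056 := ded_53_1 (flp_i L170459) (flp_j L169699) L246280
theorem L246289 : sm gh N29056 = N29056 := ded_54_1 (flp_i L246280) (flp_h L169692) L117079 L169692 L246280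
theorem L246290 : sm gg N19973 = N29057 := rfl
theorem L246292 : sm gb N29057 = N19978 := ded_23_1 (flp_g L169751) (flp_b L169703) L246290
theorem L246295 : sm ge N29057 = N19974 := ded_41_1 (flp_g L169710) L169701 L246290
theorem L246298 : sm gh N19973 = N29058 := rfl
theorem L246300 : sm gb N29058 = N19979 := ded_25_1 (flp_h L169759) (flp_b L169703) L246298
theorem L246302 : sm ge N29058 = N19975 := ded_43_1 (flp_h L169718) L169701 L246298
theorem L246304 : sm gf N29058 = N29058 := ded_47_1 (flp_h L246298) L169709 L246298
theorem L246305 : sm gj N29058 = N20058 := ded_52_1 (flp_h L170476) (flp_j L169705) L246298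
theorem L246307 : sm gj N19974 = N29059 := rfl
theorem L246309 : sm gb N29059 = N19980 := ded_24_1 (flp_j L169768) (flp_b L169712) L246307
theorem L246311 : sm gd N29059 = N19977 := ded_37_1 (flp_j L169739) (flp_d L169714) L246307
theorem L246313 : sm gf N29059 = N29059 := ded_46_1 (flp_j L246307) L169717 L246307
theorem L246314 : sm gi N29059 = N29059 := ded_53_2 (flp_j L246307) L169716 L246307
theorem L246315 : sm gg N29059 = N20059 := ded_49_1 (flp_j L170483) (flp_g L117591) (flp_j L117088) L169710 L246307
theorem L246317 : sm gh N19974 = N29060 := rfl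
theorem L246319 : sm gb N29060 = N19981 := ded_25_1 (flp_h L169778) (flp_b L169712) L246317
theorem L246321 : sm gf N29060 = N29060 := ded_47_1 (flp_h L246317) L169717 L246317
theorem L246322 : sm gg N29060 = N19975 := ded_50_1 (flp_h L169718) L169710 L246317
theorem L246324 : sm gd N29060 = N19999 := ded_38_1 (flp_h L169959) L117237 (flp_h L117107) (flp_d L169714) L246317
theorem L246326 : sm gi N19975 = N29061 := rfl
theorem L246328 : sm gb N29061 = N19982 := ded_26_1 (flp_i L169787) (flp_b L169720) L246326
theorem L246330 : sm gd N29061 = N20000 := ded_39_1 (flp_i L169966) (flp_d L169726) L246326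
theorem L246332 : sm gf N29061 = N19976 := ded_48_1 (flp_i L169728) (flp_f L169722) L246326
theorem L246334 : sm gj N29061 = N20061 := ded_53_1 (flp_i L170502) (flp_j L169724) L246326
theorem L246336 : sm gh N29061 = N29061 := ded_54_1 (flp_i L246326) (flp_h L169718) L117090 L169718 L246326
theorem L246337 : sm gf N19978 = N29062 := rfl
theorem L246345 : sm gj N19978 = N29063 := rfl
theorem L246347 : sm ga N29063 = N29063 := ded_16_1 (flp_j L246345) L169753 L246345
theorem L246348 : sm gc N29063 = N29063 := ded_31_1 (flp_j L246345) L169754 L246345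
theorem L246349 : sm gd N29063 = N29063 := ded_37_1 (flp_j L246345) L169755 L246345
theorem L246350 : sm ge N29063 = N19980 := ded_42_1 (flp_j L169768) (flp_e L169756) L246345
theorem L246352 : sm gi N29063 = N29063 := ded_53_2 (flp_j L246345) L169758 L246345
theorem L246353 : sm gg N29063 = N20063 := ded_49_1 (flp_j L170520) (flp_g L117629) (flp_j L117115) L169751 L246345
theorem L246355 : sm gh N19978 = N29064 := rfl
theorem L246357 : sm ga N29064 = N29064 := ded_17_1 (flp_h L246355) L169753 L246355
theorem L246358 : sm gc N29064 = N29064 := ded_32_1 (flp_h L246355) L169754 L246355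
theorem L246359 : sm ge N29064 = N19981 := ded_43_1 (flp_h L169778) (flp_e L169756) L246355
theorem L246361 : sm gg N29064 = N19979 := ded_50_1 (flp_h L169759) L169751 L246355
theorem L246363 : sm gd N19979 = N29065 := rfl
theorem L246365 : sm ga N29065 = N29065 := ded_12_1 (flp_d L246363) L169761 L246363
theorem L246366 : sm gf N29065 = N29065 := ded_35_2 (flp_d L246363) L169765 L246363
theorem L246367 : sm gj N29065 = N20065 := ded_37_2 (flp_d L170536) (flp_j L169766) L246363
theorem L246369 : sm ge N29065 = N20004 := ded_34_2 (flp_d L170002) L117283 (flp_d L117136) (flp_e L169763) L246363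
theorem L246371 : sm gh N29065 = N29065 := ded_38_2 (flp_d L246363) (flp_h L169759) L117118 L169759 L246363
theorem L246372 : sm gi N19979 = N29066 := rfl
theorem L246374 : sm ga N29066 = N29066 := ded_18_1 (flp_i L246372) L169761 L246372
theorem L246375 : sm gc N29066 = N29066 := ded_33_1 (flp_i L246372) L169762 L246372
theorem L246376 : sm ge N29066 = N19982 := ded_44_1 (flp_i L169787) (flp_e L169763) L246372
theorem L246378 : sm gf N29066 = N29066 := ded_48_1 (flp_i L246372) L169765 L246372
theorem L246379 : sm gj N29066 = N20066 := ded_53_1 (flp_i L170543) (flp_j L169766) L246372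
theorem L246381 : sm gh N29066 = N29066 := ded_54_1 (flp_i L246372) (flp_h L169759) L117117 L169759 L246372
theorem L246382 : sm gh N19980 = N29067 := rfl
theorem L246384 : sm ga N29067 = N29067 := ded_17_1 (flp_h L246382) L169770 L246382
theorem L246385 : sm gc N29067 = N29067 := ded_32_1 (flp_h L246382) L169771 L246382
theorem L246386 : sm gf N29067 = N29067 := ded_47_1 (flp_h L246382) L169774 L246382
theorem L246387 : sm gg N29067 = N20067 := ded_50_1 (flp_h L170551) (flp_g L169776) L246382
theorem L246389 : sm gj N29067 = N19981 := ded_52_1 (flp_h L169778) L169768 L246382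
theorem L246391 : sm gd N29067 = N20006 := ded_38_1 (flp_h L170021) L117292 (flp_h L117156) (flp_d L169772) L246382
theorem L246393 : sm gi N19981 = N29068 := rfl
theorem L246395 : sm ga N29068 = N29068 := ded_18_1 (flp_i L246393) L169780 L246393
theorem L246396 : sm gc N29068 = N29068 := ded_33_1 (flp_i L246393) L169781 L246393
theorem L246397 : sm gd N29068 = N20007 := ded_39_1 (flp_i L170029) (flp_d L169785) L246393
theorem L246399 : sm gf N29068 = N29068 := ded_48_1 (flp_i L246393) L169782 L246393
theorem L246400 : sm gg N29068 = N19982 := ded_51_1 (flp_i L169787) (flp_g L169783) L246393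
theorem L246402 : sm gh N29068 = N29068 := ded_54_1 (flp_i L246393) (flp_h L169778) L117126 L169778 L246393
theorem L246403 : sm gf N19983 = N29069 := rfl
theorem L246405 : sm gb N29069 = N19984 := ded_22_1 (flp_f L169809) L169798 L246403
theorem L246407 : sm gc N29069 = N29069 := ded_29_1 (flp_f L246403) L169808 L246403
theorem L246408 : sm gd N29069 = N29069 := ded_35_1 (flp_f L246403) L169800 L246403
theorem L246409 : sm gj N29069 = N20069 := ded_46_2 (flp_f L170572) (flp_j L169804) L246403
theorem L246411 : sm gi N29069 = N20008 := ded_48_2 (flp_f L170037) (flp_i L169806) L246403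
theorem L246413 : sm gh N19983 = N29070 := rfl
theorem L246415 : sm gb N29070 = N19985 := ded_25_1 (flp_h L169820) L169798 L246413
theorem L246417 : sm gc N29070 = N29070 := ded_32_1 (flp_h L246413) L169808 L246413
theorem L246418 : sm ge N29070 = N21167 := ded_43_1 (flp_h L179952) (flp_e L169801) L246413
theorem L246420 : sm gg N29070 = N29070 := ded_50_1 (flp_h L246413) L169803 L246413
theorem L246421 : sm gj N29070 = N20070 := ded_52_1 (flp_h L170580) (flp_j L169804) L246413
theorem L246423 : sm ge N19984 = N29071 := rfl
theorem L246425 : sm ga N29071 = N19991 := ded_13_1 (flp_e L169886) (flp_a L169811) L246423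
theorem L246427 : sm gc N29071 = N19986 := ded_28_1 (flp_e L169831) (flp_c L169813) L246423
theorem L246429 : sm gj N29071 = N20071 := ded_42_2 (flp_e L170589) (flp_j L169816) L246423
theorem L246431 : sm gi N29071 = N20010 := ded_44_2 (flp_e L170055) (flp_i L169818) L246423
theorem L246433 : sm gf N29071 = N21168 := ded_40_2 (flp_e L179960) (flp_f L123989) (flp_e L117165) L169809 L246423
theorem L246435 : sm gg N19984 = N29072 := rfl
theorem L246437 : sm ga N29072 = N19992 := ded_15_1 (flp_g L169896) (flp_a L169811) L246435
theorem L246439 : sm gc N29072 = N19987 := ded_30_1 (flp_g L169843) (flp_c L169813) L246435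
theorem L246441 : sm gd N29072 = N29072 := ded_36_1 (flp_g L246435) L169815 L246435
theorem L246442 : sm gi N29072 = N20011 := ded_51_2 (flp_g L170065) (flp_i L169818) L246435
theorem L246444 : sm gf N29072 = N29072 := ded_45_1 (flp_g L246435) (flp_f L169809) L117167 L169809 L246435
theorem L246445 : sm gh N19984 = N29073 := rfl
theorem L246447 : sm ga N29073 = N19993 := ded_17_1 (flp_h L169904) (flp_a L169811) L246445
theorem L246449 : sm gc N29073 = N19988 := ded_32_1 (flp_h L169853) (flp_c L169813) L246445
theorem L246451 : sm gf N29073 = N19985 := ded_47_1 (flp_h L169820) L169809 L246445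
theorem L246453 : sm gj N29073 = N20073 := ded_52_1 (flp_h L170610) (flp_j L169816) L246445
theorem L246455 : sm gd N19985 = N29074 := rfl
theorem L246457 : sm ga N29074 = N19994 := ded_12_1 (flp_d L169912) (flp_a L169822) L246455
theorem L246459 : sm gg N29074 = N29074 := ded_36_2 (flp_d L246455) L169828 L246455
theorem L246460 : sm gj N29074 = N20074 := ded_37_2 (flp_d L170618) (flp_j L169829) L246455
theorem L246462 : sm gh N29074 = N29074 := ded_38_2 (flp_d L246455) (flp_h L169820) L117172 L169820 L246455
theorem L246463 : sm gi N19985 = N29075 := rfl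
theorem L246465 : sm ga N29075 = N19995 := ded_18_1 (flp_i L169918) (flp_a L169822) L246463
theorem L246467 : sm gc N29075 = N19989 := ded_33_1 (flp_i L169862) (flp_c L169824) L246463
theorem L246469 : sm ge N29075 = N21172 := ded_44_1 (flp_i L180001) (flp_e L169826) L246463
theorem L246471 : sm gg N29075 = N29075 := ded_51_1 (flp_i L246463) L169828 L246463
theorem L246472 : sm gj N29075 = N20075 := ded_53_1 (flp_i L170625) (flp_j L169829) L246463
theorem L246474 : sm gh N29075 = N20014 := ded_54_1 (flp_i L170092) (flp_h L117332) (flp_i L117170) L169820 L246463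
theorem L246476 : sm gg N19986 = N29076 := rfl
theorem L246478 : sm ga N29076 = N19996 := ded_15_1 (flp_g L169929) (flp_a L169833) L246476
theorem L246480 : sm gb N29076 = N29076 := ded_23_1 (flp_g L246476) L169835 L246476
theorem L246481 : sm gd N29076 = N29076 := ded_36_1 (flp_g L246476) L169840 L246476
theorem L246482 : sm ge N29076 = N19987 := ded_41_1 (flp_g L169843) L169831 L246476
theorem L246484 : sm gi N29076 = N20015 := ded_51_2 (flp_g L170103) (flp_i L169838) L246476
theorem L246486 : sm gh N19986 = N29077 := rfl
theorem L246488 : sm ga N29077 = N19997 := ded_17_1 (flp_h L169938) (flp_a L169833) L246486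
theorem L246490 : sm gb N29077 = N29077 := ded_25_1 (flp_h L246486) L169835 L246486
theorem L246491 : sm ge N29077 = N19988 := ded_43_1 (flp_h L169853) L169831 L246486
theorem L246493 : sm gf N29077 = N21174 := ded_47_1 (flp_h L180022) (flp_f L169841) L246486
theorem L246495 : sm gj N29077 = N20077 := ded_52_1 (flp_h L170647) (flp_j L169836) L246486
theorem L246497 : sm gj N19987 = N29078 := rfl
theorem L246499 : sm ga N29078 = N19998 := ded_16_1 (flp_j L169948) (flp_a L169845) L246497
theorem L246501 : sm gb N29078 = N29078 := ded_24_1 (flp_j L246497) L169847 L246497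
theorem L246502 : sm gd N29078 = N19990 := ded_37_1 (flp_j L169874) (flp_d L169848) L246497
theorem L246504 : sm gf N29078 = N29078 := ded_46_1 (flp_j L246497) L169852 L246497
theorem L246505 : sm gi N29078 = N20017 := ded_53_2 (flp_j L170122) (flp_i L169850) L246497
theorem L246507 : sm gg N29078 = N20078 := ded_49_1 (flp_j L170656) (flp_g L117711) (flp_j L117180) L169843 L246497
theorem L246509 : sm gh N19987 = N29079 := rfl
theorem L246511 : sm ga N29079 = N19999 := ded_17_1 (flp_h L169959) (flp_a L169845) L246509
theorem L246513 : sm gb N29079 = N29079 := ded_25_1 (flp_h L246509) L169847 L246509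
theorem L246514 : sm gf N29079 = N29079 := ded_47_1 (flp_h L246509) L169852 L246509
theorem L246515 : sm gg N29079 = N19988 := ded_50_1 (flp_h L169853) L169843 L246509
theorem L246517 : sm gi N19988 = N29080 := rfl
theorem L246519 : sm ga N29080 = N20000 := ded_18_1 (flp_i L169966) (flp_a L169855) L246517
theorem L246521 : sm gb N29080 = N29080 := ded_26_1 (flp_i L246517) L169857 L246517
theorem L246522 : sm gf N29080 = N19989 := ded_48_1 (flp_i L169862) (flp_f L169858) L246517
theorem L246524 : sm gj N29080 = N20080 := ded_53_1 (flp_i L170676) (flp_j L169860) L246517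
theorem L246526 : sm gh N29080 = N20019 := ded_54_1 (flp_i L170141) (flp_h L117361) (flp_i L117182) L169853 L246517
theorem L246528 : sm gd N19991 = N29081 := rfl
theorem L246530 : sm gf N29081 = N21178 := ded_35_2 (flp_d L180064) (flp_f L169894) L246528
theorem L246532 : sm gj N29081 = N20081 := ded_37_2 (flp_d L170685) (flp_j L169890) L246528
theorem L246534 : sm gi N29081 = N20020 := ded_39_2 (flp_d L170151) (flp_i L169892) L246528
theorem L246536 : sm gc N29081 = N29081 := ded_27_1 (flp_d L246528) L169888 L117230 (flp_c L169888) L246528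
theorem L246537 : sm ge N29081 = N29081 := ded_34_2 (flp_d L246528) (flp_e L169886) L117208 L169886 L246528
theorem L246538 : sm gg N19991 = N29082 := rfl
theorem L246540 : sm gc N29082 = N19996 := ded_30_1 (flp_g L169929) (flp_c L169888) L246538
theorem L246542 : sm ge N29082 = N19992 := ded_41_1 (flp_g L169896) L169886 L246538
theorem L246544 : sm gi N29082 = N20021 := ded_51_2 (flp_g L170159) (flp_i L169892) L246538
theorem L246546 : sm gh N19991 = N29083 := rfl
theorem L246548 : sm gc N29083 = N19997 := ded_32_1 (flp_h L169938) (flp_c L169888) L246546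
theorem L246550 : sm ge N29083 = N19993 := ded_43_1 (flp_h L169904) L169886 L246546
theorem L246552 : sm gf N29083 = N21180 := ded_47_1 (flp_h L180081) (flp_f L169894) L246546
theorem L246554 : sm gj N29083 = N20083 := ded_52_1 (flp_h L170701) (flp_j L169890) L246546
theorem L246556 : sm gj N19992 = N29084 := rfl
theorem L246558 : sm gc N29084 = N19998 := ded_31_1 (flp_j L169948) (flp_c L169898) L246556
theorem L246560 : sm gd N29084 = N29084 := ded_37_1 (flp_j L246556) L169900 L246556
theorem L246561 : sm gf N29084 = N29084 := ded_46_1 (flp_j L246556) L169903 L246556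
theorem L246562 : sm gi N29084 = N20023 := ded_53_2 (flp_j L170175) (flp_i L169901) L246556
theorem L246564 : sm gg N29084 = N20084 := ded_49_1 (flp_j L170709) (flp_g L117759) (flp_j L117209) L169896 L246556
theorem L246566 : sm gh N19992 = N29085 := rfl
theorem L246568 : sm gc N29085 = N19999 := ded_32_1 (flp_h L169959) (flp_c L169898) L246566
theorem L246570 : sm gf N29085 = N29085 := ded_47_1 (flp_h L246566) L169903 L246566
theorem L246571 : sm gg N29085 = N19993 := ded_50_1 (flp_h L169904) L169896 L246566
theorem L246573 : sm gd N19993 = N29086 := rfl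
theorem L246575 : sm gf N29086 = N19994 := ded_35_2 (flp_d L169912) (flp_f L169908) L246573
theorem L246577 : sm gj N29086 = N20086 := ded_37_2 (flp_d L170726) (flp_j L169910) L246573
theorem L246579 : sm gh N29086 = N29086 := ded_38_2 (flp_d L246573) (flp_h L169904) L117208 L169904 L246573
theorem L246580 : sm gi N19993 = N29087 := rfl
theorem L246582 : sm gc N29087 = N20000 := ded_33_1 (flp_i L169966) (flp_c L169906) L246580
theorem L246584 : sm gf N29087 = N19995 := ded_48_1 (flp_i L169918) (flp_f L169908) L246580
theorem L246586 : sm gj N29087 = N20087 := ded_53_1 (flp_i L170731) (flp_j L169910) L246580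
theorem L246588 : sm gh N29087 = N20026 := ded_54_1 (flp_i L170198) (flp_h L117407) (flp_i L117211) L169904 L246580
theorem L246590 : sm ge N19994 = N29088 := rfl
theorem L246592 : sm gg N29088 = N29088 := ded_41_2 (flp_e L246590) L169914 L246590
theorem L246593 : sm gj N29088 = N20088 := ded_42_2 (flp_e L170739) (flp_j L169915) L246590
theorem L246595 : sm gh N29088 = N29088 := ded_43_2 (flp_e L246590) L169917 L246590
theorem L246596 : sm gd N29088 = N21185 := ded_34_1 (flp_e L180126) (flp_d L124090) (flp_e L117217) L169912 L246590
theorem L246598 : sm gi N19994 = N29089 := rfl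
theorem L246600 : sm gd N29089 = N19995 := ded_39_1 (flp_i L169918) L169912 L246598
theorem L246602 : sm gg N29089 = N29089 := ded_51_1 (flp_i L246598) L169914 L246598
theorem L246603 : sm gj N29089 = N20089 := ded_53_1 (flp_i L170746) (flp_j L169915) L246598
theorem L246605 : sm gf N19996 = N29090 := rfl
theorem L246607 : sm gb N29090 = N20001 := ded_22_1 (flp_f L169976) (flp_b L169931) L246605
theorem L246609 : sm gd N29090 = N29090 := ded_35_1 (flp_f L246605) L169933 L246605
theorem L246610 : sm gi N29090 = N20029 := ded_48_2 (flp_f L170223) (flp_i L169936) L246605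
theorem L246612 : sm ge N29090 = N29090 := ded_40_1 (flp_f L246605) L169934 L117241 (flp_e L169934) L246605
theorem L246613 : sm gg N29090 = N21187 := ded_45_2 (flp_f L180142) (flp_g L124107) (flp_f L117231) L169929 L246605
theorem L246615 : sm gj N19996 = N29091 := rfl
theorem L246617 : sm gb N29091 = N20002 := ded_24_1 (flp_j L169985) (flp_b L169931) L246615
theorem L246619 : sm gd N29091 = N29091 := ded_37_1 (flp_j L246615) L169933 L246615
theorem L246620 : sm ge N29091 = N19998 := ded_42_1 (flp_j L169948) (flp_e L169934) L246615
theorem L246622 : sm gi N29091 = N20030 := ded_53_2 (flp_j L170231) (flp_i L169936) L246615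
theorem L246624 : sm gg N29091 = N20091 := ded_49_1 (flp_j L170763) (flp_g L117789) (flp_j L117226) L169929 L246615
theorem L246626 : sm gh N19996 = N29092 := rfl
theorem L246628 : sm gb N29092 = N20003 := ded_25_1 (flp_h L169995) (flp_b L169931) L246626
theorem L246630 : sm ge N29092 = N19999 := ded_43_1 (flp_h L169959) (flp_e L169934) L246626
theorem L246632 : sm gg N29092 = N19997 := ded_50_1 (flp_h L169938) L169929 L246626
theorem L246634 : sm gd N19997 = N29093 := rfl
theorem L246636 : sm gb N29093 = N20004 := ded_20_1 (flp_d L170002) (flp_b L169940) L246634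
theorem L246638 : sm gf N29093 = N21190 := ded_35_2 (flp_d L180169) (flp_f L169944) L246634
theorem L246640 : sm gj N29093 = N20093 := ded_37_2 (flp_d L170780) (flp_j L169946) L246634
theorem L246642 : sm gh N29093 = N29093 := ded_38_2 (flp_d L246634) (flp_h L169938) L117230 L169938 L246634
theorem L246643 : sm gi N19997 = N29094 := rfl
theorem L246645 : sm gb N29094 = N20005 := ded_26_1 (flp_i L170010) (flp_b L169940) L246643
theorem L246647 : sm ge N29094 = N20000 := ded_44_1 (flp_i L169966) (flp_e L169942) L246643
theorem L246649 : sm gf N29094 = N21191 := ded_48_1 (flp_i L180177) (flp_f L169944) L246643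
theorem L246651 : sm gj N29094 = N20094 := ded_53_1 (flp_i L170787) (flp_j L169946) L246643
theorem L246653 : sm gh N29094 = N20033 := ded_54_1 (flp_i L170258) (flp_h L117438) (flp_i L117228) L169938 L246643
theorem L246655 : sm gh N19998 = N29095 := rfl
theorem L246657 : sm gb N29095 = N20006 := ded_25_1 (flp_h L170021) (flp_b L169950) L246655
theorem L246659 : sm gf N29095 = N29095 := ded_47_1 (flp_h L246655) L169954 L246655
theorem L246660 : sm gg N29095 = N20095 := ded_50_1 (flp_h L170797) (flp_g L169957) L246655
theorem L246662 : sm gj N29095 = N19999 := ded_52_1 (flp_h L169959) L169948 L246655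
theorem L246664 : sm gi N19999 = N29096 := rfl
theorem L246666 : sm gb N29096 = N20007 := ded_26_1 (flp_i L170029) (flp_b L169961) L246664
theorem L246668 : sm gf N29096 = N29096 := ded_48_1 (flp_i L246664) L169963 L246664
theorem L246669 : sm gg N29096 = N20000 := ded_51_1 (flp_i L169966) (flp_g L169964) L246664
theorem L246671 : sm gh N29096 = N20035 := ded_54_1 (flp_i L170278) (flp_h L117457) (flp_i L117239) L169959 L246664
theorem L246673 : sm gj N20001 = N29097 := rfl
theorem L246675 : sm ga N29097 = N29097 := ded_16_1 (flp_j L246673) L169978 L246673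
theorem L246676 : sm gd N29097 = N29097 := ded_37_1 (flp_j L246673) L169979 L246673
theorem L246677 : sm ge N29097 = N29097 := ded_42_1 (flp_j L246673) L169982 L246673
theorem L246678 : sm gf N29097 = N20002 := ded_46_1 (flp_j L169985) L169976 L246673
theorem L246680 : sm gi N29097 = N20036 := ded_53_2 (flp_j L170286) (flp_i L169980) L246673
theorem L246682 : sm gh N20001 = N29098 := rfl
theorem L246684 : sm ga N29098 = N29098 := ded_17_1 (flp_h L246682) L169978 L246682
theorem L246685 : sm ge N29098 = N29098 := ded_43_1 (flp_h L246682) L169982 L246682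
theorem L246686 : sm gf N29098 = N20003 := ded_47_1 (flp_h L169995) L169976 L246682
theorem L246688 : sm gg N29098 = N21195 := ded_50_1 (flp_h L180216) (flp_g L169983) L246682
theorem L246690 : sm gh N20002 = N29099 := rfl
theorem L246692 : sm ga N29099 = N29099 := ded_17_1 (flp_h L246690) L169987 L246690
theorem L246693 : sm ge N29099 = N20006 := ded_43_1 (flp_h L170021) (flp_e L169989) L246690
theorem L246695 : sm gg N29099 = N20099 := ded_50_1 (flp_h L170834) (flp_g L169993) L246690
theorem L246697 : sm gj N29099 = N20003 := ded_52_1 (flp_h L169995) L169985 L246690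
theorem L246699 : sm gd N20003 = N29100 := rfl
theorem L246701 : sm ga N29100 = N29100 := ded_12_1 (flp_d L246699) L169997 L246699
theorem L246702 : sm gg N29100 = N20004 := ded_36_2 (flp_d L170002) (flp_g L170000) L246699
theorem L246704 : sm gh N29100 = N29100 := ded_38_2 (flp_d L246699) (flp_h L169995) L117275 L169995 L246699
theorem L246705 : sm gi N20003 = N29101 := rfl
theorem L246707 : sm ga N29101 = N29101 := ded_18_1 (flp_i L246705) L169997 L246705
theorem L246708 : sm ge N29101 = N20007 := ded_44_1 (flp_i L170029) (flp_e L169998) L246705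
theorem L246710 : sm gg N29101 = N20005 := ded_51_1 (flp_i L170010) (flp_g L170000) L246705
theorem L246712 : sm gh N29101 = N20040 := ded_54_1 (flp_i L170317) (flp_h L117489) (flp_i L117278) L169995 L246705
theorem L246714 : sm gc N20004 = N29102 := rfl
theorem L246716 : sm ga N29102 = N29102 := ded_11_1 (flp_c L246714) L170004 L246714
theorem L246717 : sm gf N29102 = N21199 := ded_29_2 (flp_c L180247) (flp_f L170005) L246714
theorem L246719 : sm gj N29102 = N20102 := ded_31_2 (flp_c L170856) (flp_j L170007) L246714
theorem L246721 : sm gh N29102 = N29102 := ded_32_2 (flp_c L246714) L170009 L246714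
theorem L246722 : sm gi N20004 = N29103 := rfl
theorem L246724 : sm ga N29103 = N29103 := ded_18_1 (flp_i L246722) L170004 L246722
theorem L246725 : sm gd N29103 = N20005 := ded_39_1 (flp_i L170010) L170002 L246722
theorem L246727 : sm gf N29103 = N21200 := ded_48_1 (flp_i L180254) (flp_f L170005) L246722
theorem L246729 : sm gj N29103 = N20103 := ded_53_1 (flp_i L170862) (flp_j L170007) L246722
theorem L246731 : sm gi N20006 = N29104 := rfl
theorem L246733 : sm ga N29104 = N29104 := ded_18_1 (flp_i L246731) L170023 L246731
theorem L246734 : sm gf N29104 = N29104 := ded_48_1 (flp_i L246731) L170024 L246731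
theorem L246735 : sm gg N29104 = N20104 := ded_51_1 (flp_i L170869) (flp_g L170025) L246731
theorem L246737 : sm gj N29104 = N20007 := ded_53_1 (flp_i L170029) (flp_j L170027) L246731
theorem L246739 : sm gh N29104 = N20043 := ded_54_1 (flp_i L170343) (flp_h L117514) (flp_i L117295) L170021 L246731
theorem L246741 : sm ge N20008 = N29105 := rfl
theorem L246743 : sm gb N29105 = N20010 := ded_21_1 (flp_e L170055) (flp_b L170039) L246741
theorem L246745 : sm gc N29105 = N29105 := ded_28_1 (flp_e L246741) L170041 L246741
theorem L246746 : sm gj N29105 = N20105 := ded_42_2 (flp_e L170878) (flp_j L170043) L246741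
theorem L246748 : sm gf N29105 = N21202 := ded_40_2 (flp_e L180273) (flp_f L124212) (flp_e L117317) L170037 L246741
theorem L246750 : sm gg N20008 = N29106 := rfl
theorem L246752 : sm gb N29106 = N20011 := ded_23_1 (flp_g L170065) (flp_b L170039) L246750
theorem L246754 : sm gc N29106 = N29106 := ded_30_1 (flp_g L246750) L170041 L246750
theorem L246755 : sm gd N29106 = N29106 := ded_36_1 (flp_g L246750) L170042 L246750
theorem L246756 : sm gf N29106 = N29106 := ded_45_1 (flp_g L246750) (flp_f L170037) L117319 L170037 L246750
theorem L246757 : sm gh N20008 = N29107 := rfl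
theorem L246759 : sm gb N29107 = N20012 := ded_25_1 (flp_h L170073) (flp_b L170039) L246757
theorem L246761 : sm gc N29107 = N29107 := ded_32_1 (flp_h L246757) L170041 L246757
theorem L246762 : sm gf N29107 = N20009 := ded_47_1 (flp_h L170045) L170037 L246757
theorem L246764 : sm gj N29107 = N20107 := ded_52_1 (flp_h L170893) (flp_j L170043) L246757
theorem L246766 : sm gd N20009 = N29108 := rfl
theorem L246768 : sm gb N29108 = N20013 := ded_20_1 (flp_d L170083) (flp_b L170047) L246766
theorem L246771 : sm gj N29108 = N20108 := ded_37_2 (flp_d L170900) (flp_j L170053) L246766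
theorem L246774 : sm gi N20009 = N29109 := rfl
theorem L246776 : sm gb N29109 = N20014 := ded_26_1 (flp_i L170092) (flp_b L170047) L246774
theorem L246778 : sm gc N29109 = N29109 := ded_33_1 (flp_i L246774) L170049 L246774
theorem L246779 : sm ge N29109 = N21206 := ded_44_1 (flp_i L180306) (flp_e L170050) L246774
theorem L246781 : sm gg N29109 = N29109 := ded_51_1 (flp_i L246774) L170052 L246774
theorem L246782 : sm gj N29109 = N20109 := ded_53_1 (flp_i L170907) (flp_j L170053) L246774
theorem L246784 : sm gd N20010 = N29110 := rfl
theorem L246786 : sm ga N29110 = N20020 := ded_12_1 (flp_d L170151) (flp_a L170057) L246784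
theorem L246788 : sm gf N29110 = N21207 := ded_35_2 (flp_d L180314) (flp_f L170063) L246784
theorem L246790 : sm gj N29110 = N20110 := ded_37_2 (flp_d L170916) (flp_j L170061) L246784
theorem L246792 : sm gc N29110 = N29110 := ded_27_1 (flp_d L246784) L170059 L117350 (flp_c L170059) L246784
theorem L246793 : sm ge N29110 = N29110 := ded_34_2 (flp_d L246784) (flp_e L170055) L117329 L170055 L246784
theorem L246794 : sm gg N20010 = N29111 := rfl
theorem L246796 : sm ga N29111 = N20021 := ded_15_1 (flp_g L170159) (flp_a L170057) L246794
theorem L246798 : sm gc N29111 = N20015 := ded_30_1 (flp_g L170103) (flp_c L170059) L246794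
theorem L246800 : sm ge N29111 = N20011 := ded_41_1 (flp_g L170065) L170055 L246794
theorem L246802 : sm gh N20010 = N29112 := rfl
theorem L246804 : sm ga N29112 = N20022 := ded_17_1 (flp_h L170165) (flp_a L170057) L246802
theorem L246806 : sm gc N29112 = N20016 := ded_32_1 (flp_h L170111) (flp_c L170059) L246802
theorem L246808 : sm ge N29112 = N20012 := ded_43_1 (flp_h L170073) L170055 L246802
theorem L246810 : sm gf N29112 = N21209 := ded_47_1 (flp_h L180331) (flp_f L170063) L246802
theorem L246812 : sm gj N29112 = N20112 := ded_52_1 (flp_h L170932) (flp_j L170061) L246802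
theorem L246814 : sm gj N20011 = N29113 := rfl
theorem L246816 : sm ga N29113 = N20023 := ded_16_1 (flp_j L170175) (flp_a L170067) L246814
theorem L246818 : sm gc N29113 = N20017 := ded_31_1 (flp_j L170122) (flp_c L170069) L246814
theorem L246820 : sm gd N29113 = N29113 := ded_37_1 (flp_j L246814) L170071 L246814
theorem L246821 : sm gf N29113 = N29113 := ded_46_1 (flp_j L246814) L170072 L246814
theorem L246822 : sm gg N29113 = N20113 := ded_49_1 (flp_j L170942) (flp_g L117911) (flp_j L117330) L170065 L246814
theorem L246824 : sm gh N20011 = N29114 := rfl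
theorem L246826 : sm ga N29114 = N20024 := ded_17_1 (flp_h L170183) (flp_a L170067) L246824
theorem L246828 : sm gc N29114 = N20018 := ded_32_1 (flp_h L170132) (flp_c L170069) L246824
theorem L246830 : sm gf N29114 = N29114 := ded_47_1 (flp_h L246824) L170072 L246824
theorem L246831 : sm gg N29114 = N20012 := ded_50_1 (flp_h L170073) L170065 L246824
theorem L246833 : sm gd N20012 = N29115 := rfl
theorem L246835 : sm ga N29115 = N20025 := ded_12_1 (flp_d L170190) (flp_a L170075) L246833
theorem L246837 : sm gf N29115 = N20013 := ded_35_2 (flp_d L170083) (flp_f L170079) L246833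
theorem L246839 : sm gj N29115 = N20115 := ded_37_2 (flp_d L170961) (flp_j L170081) L246833
theorem L246841 : sm gc N29115 = N29115 := ded_27_1 (flp_d L246833) L170077 L117370 (flp_c L170077) L246833
theorem L246842 : sm gh N29115 = N29115 := ded_38_2 (flp_d L246833) (flp_h L170073) L117329 L170073 L246833
theorem L246843 : sm gi N20012 = N29116 := rfl
theorem L246845 : sm ga N29116 = N20026 := ded_18_1 (flp_i L170198) (flp_a L170075) L246843
theorem L246847 : sm gc N29116 = N20019 := ded_33_1 (flp_i L170141) (flp_c L170077) L246843
theorem L246849 : sm gf N29116 = N20014 := ded_48_1 (flp_i L170092) (flp_f L170079) L246843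
theorem L246851 : sm gj N29116 = N20116 := ded_53_1 (flp_i L170969) (flp_j L170081) L246843
theorem L246853 : sm ge N20013 = N29117 := rfl
theorem L246855 : sm ga N29117 = N20027 := ded_13_1 (flp_e L170206) (flp_a L170085) L246853
theorem L246859 : sm gj N29117 = N20117 := ded_42_2 (flp_e L170977) (flp_j L170088) L246853
theorem L246862 : sm gd N29117 = N21214 := ded_34_1 (flp_e L180383) (flp_d L124256) (flp_e L117338) L170083 L246853
theorem L246864 : sm gi N20013 = N29118 := rfl
theorem L246866 : sm ga N29118 = N20028 := ded_18_1 (flp_i L170215) (flp_a L170085) L246864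
theorem L246868 : sm gc N29118 = N29118 := ded_33_1 (flp_i L246864) L170090 L246864
theorem L246869 : sm gd N29118 = N20014 := ded_39_1 (flp_i L170092) L170083 L246864
theorem L246871 : sm gg N29118 = N29118 := ded_51_1 (flp_i L246864) L170087 L246864
theorem L246872 : sm gj N29118 = N20118 := ded_53_1 (flp_i L170987) (flp_j L170088) L246864
theorem L246874 : sm gf N20015 = N29119 := rfl
theorem L246876 : sm ga N29119 = N20029 := ded_14_1 (flp_f L170223) (flp_a L170105) L246874
theorem L246878 : sm gb N29119 = N29119 := ded_22_1 (flp_f L246874) L170107 L246874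
theorem L246879 : sm gd N29119 = N29119 := ded_35_1 (flp_f L246874) L170108 L246874
theorem L246880 : sm ge N29119 = N29119 := ded_40_1 (flp_f L246874) L170109 L117360 (flp_e L170109) L246874
theorem L246881 : sm gg N29119 = N21216 := ded_45_2 (flp_f L180405) (flp_g L124276) (flp_f L117351) L170103 L246874
theorem L246883 : sm gj N20015 = N29120 := rfl
theorem L246885 : sm ga N29120 = N20030 := ded_16_1 (flp_j L170231) (flp_a L170105) L246883
theorem L246887 : sm gb N29120 = N29120 := ded_24_1 (flp_j L246883) L170107 L246883
theorem L246888 : sm gd N29120 = N29120 := ded_37_1 (flp_j L246883) L170108 L246883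
theorem L246889 : sm ge N29120 = N20017 := ded_42_1 (flp_j L170122) (flp_e L170109) L246883
theorem L246891 : sm gg N29120 = N20120 := ded_49_1 (flp_j L171006) (flp_g L117946) (flp_j L117348) L170103 L246883
theorem L246893 : sm gh N20015 = N29121 := rfl
theorem L246895 : sm ga N29121 = N20031 := ded_17_1 (flp_h L170240) (flp_a L170105) L246893
theorem L246897 : sm gb N29121 = N29121 := ded_25_1 (flp_h L246893) L170107 L246893
theorem L246898 : sm ge N29121 = N20018 := ded_43_1 (flp_h L170132) (flp_e L170109) L246893
theorem L246900 : sm gg N29121 = N20016 := ded_50_1 (flp_h L170111) L170103 L246893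
theorem L246902 : sm gd N20016 = N29122 := rfl
theorem L246904 : sm ga N29122 = N20032 := ded_12_1 (flp_d L170248) (flp_a L170113) L246902
theorem L246906 : sm gb N29122 = N29122 := ded_20_1 (flp_d L246902) L170115 L246902
theorem L246907 : sm gf N29122 = N21219 := ded_35_2 (flp_d L180431) (flp_f L170118) L246902
theorem L246909 : sm gj N29122 = N20122 := ded_37_2 (flp_d L171023) (flp_j L170120) L246902
theorem L246911 : sm ge N29122 = N29122 := ded_34_2 (flp_d L246902) L170116 L117370 (flp_e L170116) L246902
theorem L246912 : sm gh N29122 = N29122 := ded_38_2 (flp_d L246902) (flp_h L170111) L117350 L170111 L246902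
theorem L246913 : sm gi N20016 = N29123 := rfl
theorem L246915 : sm ga N29123 = N20033 := ded_18_1 (flp_i L170258) (flp_a L170113) L246913
theorem L246917 : sm gb N29123 = N29123 := ded_26_1 (flp_i L246913) L170115 L246913
theorem L246918 : sm ge N29123 = N20019 := ded_44_1 (flp_i L170141) (flp_e L170116) L246913
theorem L246920 : sm gf N29123 = N21220 := ded_48_1 (flp_i L180441) (flp_f L170118) L246913
theorem L246922 : sm gj N29123 = N20123 := ded_53_1 (flp_i L171032) (flp_j L170120) L246913
theorem L246924 : sm gh N20017 = N29124 := rfl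
theorem L246926 : sm ga N29124 = N20034 := ded_17_1 (flp_h L170268) (flp_a L170124) L246924
theorem L246928 : sm gb N29124 = N29124 := ded_25_1 (flp_h L246924) L170126 L246924
theorem L246929 : sm gf N29124 = N29124 := ded_47_1 (flp_h L246924) L170129 L246924
theorem L246930 : sm gg N29124 = N20124 := ded_50_1 (flp_h L171041) (flp_g L170130) L246924
theorem L246932 : sm gj N29124 = N20018 := ded_52_1 (flp_h L170132) L170122 L246924
theorem L246934 : sm gd N29124 = N29124 := ded_38_1 (flp_h L246924) L170127 L117390 (flp_d L170127) L246924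
theorem L246935 : sm gi N20018 = N29125 := rfl
theorem L246937 : sm ga N29125 = N20035 := ded_18_1 (flp_i L170278) (flp_a L170134) L246935
theorem L246939 : sm gb N29125 = N29125 := ded_26_1 (flp_i L246935) L170136 L246935
theorem L246940 : sm gd N29125 = N29125 := ded_39_1 (flp_i L246935) L170140 L246935
theorem L246941 : sm gf N29125 = N29125 := ded_48_1 (flp_i L246935) L170137 L246935
theorem L246942 : sm gg N29125 = N20019 := ded_51_1 (flp_i L170141) (flp_g L170138) L246935
theorem L246944 : sm gg N20020 = N29126 := rfl
theorem L246946 : sm gc N29126 = N29126 := ded_30_1 (flp_g L246944) L170157 L246944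
theorem L246947 : sm gd N29126 = N20021 := ded_36_1 (flp_g L170159) L170151 L246944
theorem L246949 : sm ge N29126 = N29126 := ded_41_1 (flp_g L246944) L170158 L246944
theorem L246950 : sm gh N20020 = N29127 := rfl
theorem L246952 : sm gc N29127 = N29127 := ded_32_1 (flp_h L246950) L170157 L246950
theorem L246953 : sm ge N29127 = N29127 := ded_43_1 (flp_h L246950) L170158 L246950
theorem L246954 : sm gf N29127 = N21224 := ded_47_1 (flp_h L180479) (flp_f L170153) L246950
theorem L246956 : sm gj N29127 = N20127 := ded_52_1 (flp_h L171067) (flp_j L170155) L246950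
theorem L246958 : sm gf N20021 = N29128 := rfl
theorem L246960 : sm gc N29128 = N20029 := ded_29_1 (flp_f L170223) (flp_c L170161) L246958
theorem L246962 : sm ge N29128 = N29128 := ded_40_1 (flp_f L246958) L170163 L117406 (flp_e L170163) L246958
theorem L246963 : sm gg N29128 = N21225 := ded_45_2 (flp_f L180486) (flp_g L124331) (flp_f L117399) L170159 L246958
theorem L246965 : sm gj N20021 = N29129 := rfl
theorem L246967 : sm gc N29129 = N20030 := ded_31_1 (flp_j L170231) (flp_c L170161) L246965
theorem L246969 : sm ge N29129 = N20023 := ded_42_1 (flp_j L170175) (flp_e L170163) L246965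
theorem L246971 : sm gg N29129 = N20129 := ded_49_1 (flp_j L171081) (flp_g L117996) (flp_j L117397) L170159 L246965
theorem L246973 : sm gh N20021 = N29130 := rfl
theorem L246975 : sm gc N29130 = N20031 := ded_32_1 (flp_h L170240) (flp_c L170161) L246973
theorem L246977 : sm ge N29130 = N20024 := ded_43_1 (flp_h L170183) (flp_e L170163) L246973
theorem L246979 : sm gg N29130 = N20022 := ded_50_1 (flp_h L170165) L170159 L246973
theorem L246981 : sm gd N20022 = N29131 := rfl
theorem L246983 : sm gf N29131 = N21228 := ded_35_2 (flp_d L180507) (flp_f L170171) L246981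
theorem L246985 : sm gj N29131 = N20131 := ded_37_2 (flp_d L171095) (flp_j L170173) L246981
theorem L246987 : sm gi N20022 = N29132 := rfl
theorem L246989 : sm gc N29132 = N20033 := ded_33_1 (flp_i L170258) (flp_c L170167) L246987
theorem L246991 : sm ge N29132 = N20026 := ded_44_1 (flp_i L170198) (flp_e L170169) L246987
theorem L246993 : sm gf N29132 = N21229 := ded_48_1 (flp_i L180511) (flp_f L170171) L246987
theorem L246995 : sm gj N29132 = N20132 := ded_53_1 (flp_i L171099) (flp_j L170173) L246987
theorem L246997 : sm gh N20023 = N29133 := rfl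
theorem L246999 : sm gc N29133 = N20034 := ded_32_1 (flp_h L170268) (flp_c L170177) L246997
theorem L247001 : sm gf N29133 = N29133 := ded_47_1 (flp_h L246997) L170180 L246997
theorem L247002 : sm gg N29133 = N20133 := ded_50_1 (flp_h L171107) (flp_g L170181) L246997
theorem L247004 : sm gj N29133 = N20024 := ded_52_1 (flp_h L170183) L170175 L246997
theorem L247006 : sm gd N20024 = N29134 := rfl
theorem L247008 : sm gf N29134 = N29134 := ded_35_2 (flp_d L247006) L170187 L247006
theorem L247009 : sm gg N29134 = N20025 := ded_36_2 (flp_d L170190) (flp_g L170188) L247006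
theorem L247011 : sm gc N29134 = N29134 := ded_27_1 (flp_d L247006) L170185 L117464 (flp_c L170185) L247006
theorem L247012 : sm gh N29134 = N29134 := ded_38_2 (flp_d L247006) (flp_h L170183) L117405 L170183 L247006
theorem L247013 : sm gi N20024 = N29135 := rfl
theorem L247015 : sm gc N29135 = N20035 := ded_33_1 (flp_i L170278) (flp_c L170185) L247013
theorem L247017 : sm gf N29135 = N29135 := ded_48_1 (flp_i L247013) L170187 L247013
theorem L247018 : sm gg N29135 = N20026 := ded_51_1 (flp_i L170198) (flp_g L170188) L247013
theorem L247020 : sm ge N20025 = N29136 := rfl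
theorem L247022 : sm gc N29136 = N29136 := ded_28_1 (flp_e L247020) L170196 L247020
theorem L247023 : sm gj N29136 = N20136 := ded_42_2 (flp_e L171131) (flp_j L170194) L247020
theorem L247025 : sm gh N29136 = N29136 := ded_43_2 (flp_e L247020) L170197 L247020
theorem L247026 : sm gi N20025 = N29137 := rfl
theorem L247028 : sm gc N29137 = N29137 := ded_33_1 (flp_i L247026) L170196 L247026
theorem L247029 : sm gd N29137 = N20026 := ded_39_1 (flp_i L170198) L170190 L247026
theorem L247031 : sm gf N29137 = N20028 := ded_48_1 (flp_i L170215) (flp_f L170192) L247026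
theorem L247033 : sm gj N29137 = N20137 := ded_53_1 (flp_i L171135) (flp_j L170194) L247026
theorem L247035 : sm gf N20027 = N29138 := rfl
theorem L247037 : sm gc N29138 = N29138 := ded_29_1 (flp_f L247035) L170208 L247035
theorem L247038 : sm gd N29138 = N21235 := ded_35_1 (flp_f L180562) (flp_d L170213) L247035
theorem L247040 : sm gj N29138 = N20138 := ded_46_2 (flp_f L171142) (flp_j L170210) L247035
theorem L247042 : sm gh N29138 = N29138 := ded_47_2 (flp_f L247035) L170212 L247035
theorem L247043 : sm gi N20027 = N29139 := rfl
theorem L247045 : sm gc N29139 = N29139 := ded_33_1 (flp_i L247043) L170208 L247043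
theorem L247046 : sm gd N29139 = N21236 := ded_39_1 (flp_i L180570) (flp_d L170213) L247043
theorem L247048 : sm ge N29139 = N20028 := ded_44_1 (flp_i L170215) L170206 L247043
theorem L247050 : sm gg N29139 = N29139 := ded_51_1 (flp_i L247043) L170209 L247043
theorem L247051 : sm gj N29139 = N20139 := ded_53_1 (flp_i L171148) (flp_j L170210) L247043
theorem L247053 : sm gh N20028 = N29140 := rfl
theorem L247055 : sm gc N29140 = N29140 := ded_32_1 (flp_h L247053) L170217 L247053
theorem L247056 : sm gg N29140 = N29140 := ded_50_1 (flp_h L247053) L170220 L247053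
theorem L247057 : sm gj N29140 = N20140 := ded_52_1 (flp_h L171157) (flp_j L170221) L247053
theorem L247059 : sm gi N29140 = N29140 := ded_54_2 (flp_h L247053) (flp_i L170215) L117421 L170215 L247053
theorem L247060 : sm gj N20029 = N29141 := rfl
theorem L247062 : sm gb N29141 = N20036 := ded_24_1 (flp_j L170286) (flp_b L170225) L247060
theorem L247064 : sm gd N29141 = N29141 := ded_37_1 (flp_j L247060) L170227 L247060
theorem L247065 : sm ge N29141 = N29141 := ded_42_1 (flp_j L247060) L170228 L247060
theorem L247066 : sm gf N29141 = N20030 := ded_46_1 (flp_j L170231) L170223 L247060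
theorem L247068 : sm gh N20029 = N29142 := rfl
theorem L247070 : sm gb N29142 = N20037 := ded_25_1 (flp_h L170293) (flp_b L170225) L247068
theorem L247072 : sm ge N29142 = N29142 := ded_43_1 (flp_h L247068) L170228 L247068
theorem L247073 : sm gf N29142 = N20031 := ded_47_1 (flp_h L170240) L170223 L247068
theorem L247075 : sm gg N29142 = N21239 := ded_50_1 (flp_h L180596) (flp_g L170229) L247068
theorem L247077 : sm gh N20030 = N29143 := rfl
theorem L247079 : sm gb N29143 = N20038 := ded_25_1 (flp_h L170301) (flp_b L170233) L247077
theorem L247081 : sm ge N29143 = N20034 := ded_43_1 (flp_h L170268) (flp_e L170236) L247077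
theorem L247083 : sm gg N29143 = N20143 := ded_50_1 (flp_h L171182) (flp_g L170238) L247077
theorem L247085 : sm gj N29143 = N20031 := ded_52_1 (flp_h L170240) L170231 L247077
theorem L247087 : sm gd N20031 = N29144 := rfl
theorem L247089 : sm gb N29144 = N20039 := ded_20_1 (flp_d L170310) (flp_b L170242) L247087
theorem L247091 : sm gg N29144 = N20032 := ded_36_2 (flp_d L170248) (flp_g L170246) L247087
theorem L247093 : sm ge N29144 = N29144 := ded_34_2 (flp_d L247087) L170244 L117464 (flp_e L170244) L247087
theorem L247094 : sm gh N29144 = N29144 := ded_38_2 (flp_d L247087) (flp_h L170240) L117435 L170240 L247087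
theorem L247095 : sm gi N20031 = N29145 := rfl
theorem L247097 : sm gb N29145 = N20040 := ded_26_1 (flp_i L170317) (flp_b L170242) L247095
theorem L247099 : sm ge N29145 = N20035 := ded_44_1 (flp_i L170278) (flp_e L170244) L247095
theorem L247101 : sm gg N29145 = N20033 := ded_51_1 (flp_i L170258) (flp_g L170246) L247095
theorem L247103 : sm gc N20032 = N29146 := rfl
theorem L247105 : sm ge N29146 = N29146 := ded_28_2 (flp_c L247103) L170256 L247103
theorem L247106 : sm gf N29146 = N21243 := ded_29_2 (flp_c L180630) (flp_f L170252) L247103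
theorem L247108 : sm gj N29146 = N20146 := ded_31_2 (flp_c L171206) (flp_j L170254) L247103
theorem L247110 : sm gh N29146 = N29146 := ded_32_2 (flp_c L247103) L170257 L247103
theorem L247111 : sm gi N20032 = N29147 := rfl
theorem L247113 : sm gb N29147 = N20042 := ded_26_1 (flp_i L170333) (flp_b L170250) L247111
theorem L247115 : sm gd N29147 = N20033 := ded_39_1 (flp_i L170258) L170248 L247111
theorem L247117 : sm ge N29147 = N29147 := ded_44_1 (flp_i L247111) L170256 L247111
theorem L247118 : sm gf N29147 = N21244 := ded_48_1 (flp_i L180637) (flp_f L170252) L247111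
theorem L247120 : sm gj N29147 = N20147 := ded_53_1 (flp_i L171212) (flp_j L170254) L247111
theorem L247122 : sm gi N20034 = N29148 := rfl
theorem L247124 : sm gb N29148 = N20043 := ded_26_1 (flp_i L170343) (flp_b L170270) L247122
theorem L247126 : sm gd N29148 = N29148 := ded_39_1 (flp_i L247122) L170277 L247122
theorem L247127 : sm gf N29148 = N29148 := ded_48_1 (flp_i L247122) L170272 L247122
theorem L247128 : sm gg N29148 = N20148 := ded_51_1 (flp_i L171221) (flp_g L170273) L247122
theorem L247130 : sm gj N29148 = N20035 := ded_53_1 (flp_i L170278) (flp_j L170275) L247122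
theorem L247132 : sm gg N20036 = N29149 := rfl
theorem L247134 : sm ga N29149 = N29149 := ded_15_1 (flp_g L247132) L170288 L247132
theorem L247135 : sm gd N29149 = N29149 := ded_36_1 (flp_g L247132) L170289 L247132
theorem L247136 : sm ge N29149 = N29149 := ded_41_1 (flp_g L247132) L170290 L247132
theorem L247137 : sm gf N29149 = N20149 := ded_45_1 (flp_g L171230) L118116 (flp_g L117487) (flp_f L170291) L247132
theorem L247139 : sm gj N29149 = N21246 := ded_49_2 (flp_g L180658) (flp_j L124457) (flp_g L117479) L170286 L247132
theorem L247141 : sm gh N20036 = N29150 := rfl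
theorem L247145 : sm gf N29150 = N20038 := ded_47_1 (flp_h L170301) (flp_f L170291) L247141
theorem L247147 : sm gj N29150 = N20037 := ded_52_1 (flp_h L170293) L170286 L247141
theorem L247149 : sm gd N20037 = N29151 := rfl
theorem L247152 : sm gf N29151 = N20039 := ded_35_2 (flp_d L170310) (flp_f L170297) L247149
theorem L247154 : sm gg N29151 = N21248 := ded_36_2 (flp_d L180673) (flp_g L170299) L247149
theorem L247157 : sm gi N20037 = N29152 := rfl
theorem L247159 : sm ga N29152 = N29152 := ded_18_1 (flp_i L247157) L170295 L247157
theorem L247160 : sm ge N29152 = N29152 := ded_44_1 (flp_i L247157) L170296 L247157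
theorem L247161 : sm gf N29152 = N20040 := ded_48_1 (flp_i L170317) (flp_f L170297) L247157
theorem L247163 : sm gg N29152 = N21249 := ded_51_1 (flp_i L180679) (flp_g L170299) L247157
theorem L247165 : sm gd N20038 = N29153 := rfl
theorem L247168 : sm gg N29153 = N20153 := ded_36_2 (flp_d L171264) (flp_g L170306) L247165
theorem L247170 : sm gj N29153 = N20039 := ded_37_2 (flp_d L170310) (flp_j L170308) L247165
theorem L247174 : sm gi N20038 = N29154 := rfl
theorem L247176 : sm ga N29154 = N29154 := ded_18_1 (flp_i L247174) L170303 L247174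
theorem L247177 : sm ge N29154 = N20043 := ded_44_1 (flp_i L170343) (flp_e L170304) L247174
theorem L247179 : sm gg N29154 = N20154 := ded_51_1 (flp_i L171271) (flp_g L170306) L247174
theorem L247181 : sm gj N29154 = N20040 := ded_53_1 (flp_i L170317) (flp_j L170308) L247174
theorem L247183 : sm gc N20039 = N29155 := rfl
theorem L247187 : sm gg N29155 = N20041 := ded_30_2 (flp_c L170324) (flp_g L170313) L247183
theorem L247190 : sm gi N20039 = N29156 := rfl
theorem L247192 : sm ga N29156 = N29156 := ded_18_1 (flp_i L247190) L170312 L247190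
theorem L247193 : sm gd N29156 = N20040 := ded_39_1 (flp_i L170317) L170310 L247190
theorem L247195 : sm ge N29156 = N29156 := ded_44_1 (flp_i L247190) L170315 L247190
theorem L247196 : sm gg N29156 = N20042 := ded_51_1 (flp_i L170333) (flp_g L170313) L247190
theorem L247198 : sm gb N20041 = N29157 := rfl
theorem L247200 : sm ge N29157 = N29157 := ded_21_2 (flp_b L247198) L170327 L247198
theorem L247201 : sm gf N29157 = N21254 := ded_22_2 (flp_b L180721) (flp_f L170328) L247198
theorem L247203 : sm gj N29157 = N20157 := ded_24_2 (flp_b L171293) (flp_j L170330) L247198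
theorem L247205 : sm gh N29157 = N29157 := ded_25_2 (flp_b L247198) L170332 L247198
theorem L247206 : sm gi N20041 = N29158 := rfl
theorem L247208 : sm ga N29158 = N29158 := ded_18_1 (flp_i L247206) L170326 L247206
theorem L247209 : sm gc N29158 = N20042 := ded_33_1 (flp_i L170333) L170324 L247206
theorem L247211 : sm ge N29158 = N29158 := ded_44_1 (flp_i L247206) L170327 L247206
theorem L247212 : sm gf N29158 = N21255 := ded_48_1 (flp_i L180728) (flp_f L170328) L247206
theorem L247214 : sm gj N29158 = N20158 := ded_53_1 (flp_i L171299) (flp_j L170330) L247206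
theorem L247216 : sm gh N20042 = N29159 := rfl
theorem L247218 : sm ga N29159 = N29159 := ded_17_1 (flp_h L247216) L170335 L247216
theorem L247219 : sm ge N29159 = N29159 := ded_43_1 (flp_h L247216) L170338 L247216
theorem L247220 : sm gf N29159 = N21256 := ded_47_1 (flp_h L180737) (flp_f L170339) L247216
theorem L247222 : sm gj N29159 = N20159 := ded_52_1 (flp_h L171307) (flp_j L170341) L247216
theorem L247224 : sm gi N29159 = N29159 := ded_54_2 (flp_h L247216) (flp_i L170333) L117504 L170333 L247216
theorem L247225 : sm gf N20044 = N29160 := rfl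
theorem L247228 : sm gb N29160 = N20045 := ded_22_1 (flp_f L170361) L170352 L247225
theorem L247233 : sm gh N20044 = N29161 := rfl
theorem L247235 : sm ga N29161 = N29161 := ded_17_1 (flp_h L247233) L170359 L247233
theorem L247236 : sm gb N29161 = N20046 := ded_25_1 (flp_h L170369) L170352 L247233
theorem L247238 : sm gc N29161 = N29161 := ded_32_1 (flp_h L247233) L170360 L247233
theorem L247239 : sm ge N29161 = N29161 := ded_43_1 (flp_h L247233) L170355 L247233
theorem L247240 : sm gg N29161 = N20161 := ded_50_1 (flp_h L171323) (flp_g L170356) L247233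
theorem L247242 : sm ge N20045 = N29162 := rfl
theorem L247244 : sm ga N29162 = N20052 := ded_13_1 (flp_e L170428) (flp_a L170363) L247242
theorem L247246 : sm gc N29162 = N20047 := ded_28_1 (flp_e L170378) (flp_c L170365) L247242
theorem L247250 : sm gg N20045 = N29163 := rfl
theorem L247252 : sm ga N29163 = N20053 := ded_15_1 (flp_g L170435) (flp_a L170363) L247250
theorem L247254 : sm gc N29163 = N20048 := ded_30_1 (flp_g L170386) (flp_c L170365) L247250
theorem L247256 : sm gd N29163 = N29163 := ded_36_1 (flp_g L247250) L170367 L247250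
theorem L247257 : sm gi N29163 = N29163 := ded_51_2 (flp_g L247250) L170368 L247250
theorem L247258 : sm gf N29163 = N20163 := ded_45_1 (flp_g L171340) (flp_f L118179) (flp_g L117535) L170361 L247250
theorem L247260 : sm gh N20045 = N29164 := rfl
theorem L247262 : sm ga N29164 = N20054 := ded_17_1 (flp_h L170444) (flp_a L170363) L247260
theorem L247264 : sm gc N29164 = N20049 := ded_32_1 (flp_h L170396) (flp_c L170365) L247260
theorem L247266 : sm gf N29164 = N20046 := ded_47_1 (flp_h L170369) L170361 L247260
theorem L247268 : sm gd N20046 = N29165 := rfl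
theorem L247270 : sm ga N29165 = N20055 := ded_12_1 (flp_d L170451) (flp_a L170371) L247268
theorem L247272 : sm gg N29165 = N20165 := ded_36_2 (flp_d L171357) (flp_g L170376) L247268
theorem L247274 : sm gc N29165 = N20074 := ded_27_1 (flp_d L170618) L117695 (flp_d L117555) (flp_c L170373) L247268
theorem L247276 : sm gh N29165 = N29165 := ded_38_2 (flp_d L247268) (flp_h L170369) L117538 L170369 L247268
theorem L247277 : sm gi N20046 = N29166 := rfl
theorem L247279 : sm ga N29166 = N20056 := ded_18_1 (flp_i L170459) (flp_a L170371) L247277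
theorem L247281 : sm gc N29166 = N20050 := ded_33_1 (flp_i L170405) (flp_c L170373) L247277
theorem L247283 : sm ge N29166 = N29166 := ded_44_1 (flp_i L247277) L170375 L247277
theorem L247284 : sm gg N29166 = N20166 := ded_51_1 (flp_i L171365) (flp_g L170376) L247277
theorem L247286 : sm gh N29166 = N29166 := ded_54_1 (flp_i L247277) (flp_h L170369) L117537 L170369 L247277
theorem L247287 : sm gg N20047 = N29167 := rfl
theorem L247289 : sm ga N29167 = N20057 := ded_15_1 (flp_g L170468) (flp_a L170380) L247287
theorem L247291 : sm gb N29167 = N29167 := ded_23_1 (flp_g L247287) L170382 L247287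
theorem L247292 : sm gd N29167 = N29167 := ded_36_1 (flp_g L247287) L170384 L247287
theorem L247293 : sm ge N29167 = N20048 := ded_41_1 (flp_g L170386) L170378 L247287
theorem L247295 : sm gi N29167 = N29167 := ded_51_2 (flp_g L247287) L170383 L247287
theorem L247296 : sm gh N20047 = N29168 := rfl
theorem L247298 : sm ga N29168 = N20058 := ded_17_1 (flp_h L170476) (flp_a L170380) L247296
theorem L247300 : sm gb N29168 = N29168 := ded_25_1 (flp_h L247296) L170382 L247296
theorem L247301 : sm ge N29168 = N20049 := ded_43_1 (flp_h L170396) L170378 L247296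
theorem L247303 : sm gf N29168 = N29168 := ded_47_1 (flp_h L247296) L170385 L247296
theorem L247304 : sm gj N20048 = N29169 := rfl
theorem L247306 : sm ga N29169 = N20059 := ded_16_1 (flp_j L170483) (flp_a L170388) L247304
theorem L247308 : sm gb N29169 = N29169 := ded_24_1 (flp_j L247304) L170390 L247304
theorem L247309 : sm gd N29169 = N20051 := ded_37_1 (flp_j L170416) (flp_d L170391) L247304
theorem L247311 : sm gf N29169 = N20169 := ded_46_1 (flp_j L171393) (flp_f L170394) L247304
theorem L247313 : sm gi N29169 = N29169 := ded_53_2 (flp_j L247304) L170393 L247304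
theorem L247314 : sm gh N20048 = N29170 := rfl
theorem L247316 : sm ga N29170 = N20060 := ded_17_1 (flp_h L170492) (flp_a L170388) L247314
theorem L247318 : sm gb N29170 = N29170 := ded_25_1 (flp_h L247314) L170390 L247314
theorem L247319 : sm gf N29170 = N20170 := ded_47_1 (flp_h L171402) (flp_f L170394) L247314
theorem L247321 : sm gg N29170 = N20049 := ded_50_1 (flp_h L170396) L170386 L247314
theorem L247323 : sm gd N29170 = N20079 := ded_38_1 (flp_h L170667) L117716 (flp_h L117564) (flp_d L170391) L247314
theorem L247325 : sm gi N20049 = N29171 := rfl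
theorem L247327 : sm ga N29171 = N20061 := ded_18_1 (flp_i L170502) (flp_a L170398) L247325
theorem L247329 : sm gb N29171 = N29171 := ded_26_1 (flp_i L247325) L170400 L247325
theorem L247330 : sm gd N29171 = N20080 := ded_39_1 (flp_i L170676) (flp_d L170403) L247325
theorem L247332 : sm gf N29171 = N20050 := ded_48_1 (flp_i L170405) (flp_f L170401) L247325
theorem L247334 : sm gh N29171 = N29171 := ded_54_1 (flp_i L247325) (flp_h L170396) L117546 L170396 L247325
theorem L247335 : sm gd N20052 = N29172 := rfl
theorem L247342 : sm gg N20052 = N29173 := rfl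
theorem L247345 : sm gc N29173 = N20057 := ded_30_1 (flp_g L170468) (flp_c L170431) L247342
theorem L247347 : sm ge N29173 = N20053 := ded_41_1 (flp_g L170435) L170428 L247342
theorem L247350 : sm gh N20052 = N29174 := rfl
theorem L247352 : sm gb N29174 = N29174 := ded_25_1 (flp_h L247350) L170430 L247350
theorem L247353 : sm gc N29174 = N20058 := ded_32_1 (flp_h L170476) (flp_c L170431) L247350
theorem L247355 : sm ge N29174 = N20054 := ded_43_1 (flp_h L170444) L170428 L247350
theorem L247357 : sm gf N29174 = N29174 := ded_47_1 (flp_h L247350) L170434 L247350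
theorem L247358 : sm gj N20053 = N29175 := rfl
theorem L247361 : sm gc N29175 = N20059 := ded_31_1 (flp_j L170483) (flp_c L170438) L247358
theorem L247364 : sm gf N29175 = N20175 := ded_46_1 (flp_j L171448) (flp_f L170442) L247358
theorem L247367 : sm gh N20053 = N29176 := rfl
theorem L247369 : sm gb N29176 = N29176 := ded_25_1 (flp_h L247367) L170437 L247367
theorem L247370 : sm gc N29176 = N20060 := ded_32_1 (flp_h L170492) (flp_c L170438) L247367
theorem L247372 : sm gf N29176 = N20176 := ded_47_1 (flp_h L171456) (flp_f L170442) L247367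
theorem L247374 : sm gg N29176 = N20054 := ded_50_1 (flp_h L170444) L170435 L247367
theorem L247376 : sm gd N20054 = N29177 := rfl
theorem L247378 : sm gb N29177 = N29177 := ded_20_1 (flp_d L247376) L170446 L247376
theorem L247379 : sm gf N29177 = N20055 := ded_35_2 (flp_d L170451) (flp_f L170449) L247376
theorem L247381 : sm gc N29177 = N20086 := ded_27_1 (flp_d L170726) L117770 (flp_d L117606) (flp_c L170447) L247376
theorem L247383 : sm gh N29177 = N29177 := ded_38_2 (flp_d L247376) (flp_h L170444) L117574 L170444 L247376
theorem L247384 : sm gi N20054 = N29178 := rfl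
theorem L247386 : sm gb N29178 = N29178 := ded_26_1 (flp_i L247384) L170446 L247384
theorem L247387 : sm gc N29178 = N20061 := ded_33_1 (flp_i L170502) (flp_c L170447) L247384
theorem L247389 : sm gf N29178 = N20056 := ded_48_1 (flp_i L170459) (flp_f L170449) L247384
theorem L247391 : sm gh N29178 = N29178 := ded_54_1 (flp_i L247384) (flp_h L170444) L117575 L170444 L247384
theorem L247392 : sm ge N20055 = N29179 := rfl
theorem L247394 : sm gb N29179 = N29179 := ded_21_1 (flp_e L247392) L170453 L247392
theorem L247395 : sm gc N29179 = N20088 := ded_28_1 (flp_e L170739) (flp_c L170456) L247392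
theorem L247397 : sm gg N29179 = N20179 := ded_41_2 (flp_e L171481) (flp_g L170454) L247392
theorem L247399 : sm gh N29179 = N29179 := ded_43_2 (flp_e L247392) L170458 L247392
theorem L247400 : sm gd N29179 = N29179 := ded_34_1 (flp_e L247392) (flp_d L170451) L117581 L170451 L247392
theorem L247401 : sm gi N20055 = N29180 := rfl
theorem L247403 : sm gb N29180 = N29180 := ded_26_1 (flp_i L247401) L170453 L247401
theorem L247404 : sm gc N29180 = N20089 := ded_33_1 (flp_i L170746) (flp_c L170456) L247401
theorem L247406 : sm gd N29180 = N20056 := ded_39_1 (flp_i L170459) L170451 L247401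
theorem L247408 : sm gg N29180 = N20180 := ded_51_1 (flp_i L171489) (flp_g L170454) L247401
theorem L247410 : sm gf N20057 = N29181 := rfl
theorem L247412 : sm gb N29181 = N20062 := ded_22_1 (flp_f L170511) (flp_b L170470) L247410
theorem L247414 : sm gd N29181 = N29181 := ded_35_1 (flp_f L247410) L170472 L247410
theorem L247415 : sm gi N29181 = N29181 := ded_48_2 (flp_f L247410) L170475 L247410
theorem L247416 : sm ge N29181 = N20181 := ded_40_1 (flp_f L171497) L118290 (flp_f L117598) (flp_e L170473) L247410
theorem L247418 : sm gg N29181 = N29181 := ded_45_2 (flp_f L247410) (flp_g L170468) L117590 L170468 L247410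
theorem L247419 : sm gj N20057 = N29182 := rfl
theorem L247421 : sm gb N29182 = N20063 := ded_24_1 (flp_j L170520) (flp_b L170470) L247419
theorem L247424 : sm ge N29182 = N20059 := ded_42_1 (flp_j L170483) (flp_e L170473) L247419
theorem L247427 : sm gh N20057 = N29183 := rfl
theorem L247429 : sm gb N29183 = N20064 := ded_25_1 (flp_h L170528) (flp_b L170470) L247427
theorem L247431 : sm ge N29183 = N20060 := ded_43_1 (flp_h L170492) (flp_e L170473) L247427
theorem L247433 : sm gg N29183 = N20058 := ded_50_1 (flp_h L170476) L170468 L247427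
theorem L247435 : sm gd N20058 = N29184 := rfl
theorem L247437 : sm gb N29184 = N20065 := ded_20_1 (flp_d L170536) (flp_b L170478) L247435
theorem L247439 : sm gf N29184 = N29184 := ded_35_2 (flp_d L247435) L170482 L247435
theorem L247440 : sm ge N29184 = N20093 := ded_34_2 (flp_d L170780) L117802 (flp_d L117606) (flp_e L170480) L247435
theorem L247442 : sm gh N29184 = N29184 := ded_38_2 (flp_d L247435) (flp_h L170476) L117589 L170476 L247435
theorem L247443 : sm gi N20058 = N29185 := rfl
theorem L247445 : sm gb N29185 = N20066 := ded_26_1 (flp_i L170543) (flp_b L170478) L247443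
theorem L247447 : sm ge N29185 = N20061 := ded_44_1 (flp_i L170502) (flp_e L170480) L247443
theorem L247449 : sm gf N29185 = N29185 := ded_48_1 (flp_i L247443) L170482 L247443
theorem L247450 : sm gh N29185 = N29185 := ded_54_1 (flp_i L247443) (flp_h L170476) L117588 L170476 L247443
theorem L247451 : sm gh N20059 = N29186 := rfl
theorem L247453 : sm gb N29186 = N20067 := ded_25_1 (flp_h L170551) (flp_b L170485) L247451
theorem L247455 : sm gf N29186 = N20186 := ded_47_1 (flp_h L171542) (flp_f L170489) L247451
theorem L247457 : sm gj N29186 = N20060 := ded_52_1 (flp_h L170492) L170483 L247451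
theorem L247459 : sm gd N29186 = N20095 := ded_38_1 (flp_h L170797) L117810 (flp_h L117626) (flp_d L170487) L247451
theorem L247461 : sm gi N20060 = N29187 := rfl
theorem L247463 : sm gb N29187 = N20068 := ded_26_1 (flp_i L170561) (flp_b L170494) L247461
theorem L247465 : sm gd N29187 = N20096 := ded_39_1 (flp_i L170805) (flp_d L170500) L247461
theorem L247467 : sm gf N29187 = N20187 := ded_48_1 (flp_i L171551) (flp_f L170496) L247461
theorem L247469 : sm gg N29187 = N20061 := ded_51_1 (flp_i L170502) (flp_g L170498) L247461
theorem L247471 : sm gh N29187 = N29187 := ded_54_1 (flp_i L247461) (flp_h L170492) L117597 L170492 L247461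
theorem L247472 : sm gj N20062 = N29188 := rfl
theorem L247474 : sm ga N29188 = N29188 := ded_16_1 (flp_j L247472) L170513 L247472
theorem L247475 : sm gc N29188 = N29188 := ded_31_1 (flp_j L247472) L170514 L247472
theorem L247476 : sm gd N29188 = N29188 := ded_37_1 (flp_j L247472) L170515 L247472
theorem L247477 : sm ge N29188 = N20188 := ded_42_1 (flp_j L171560) (flp_e L170517) L247472
theorem L247479 : sm gf N29188 = N20063 := ded_46_1 (flp_j L170520) L170511 L247472
theorem L247481 : sm gi N29188 = N29188 := ded_53_2 (flp_j L247472) L170516 L247472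
theorem L247482 : sm gh N20062 = N29189 := rfl
theorem L247484 : sm ga N29189 = N29189 := ded_17_1 (flp_h L247482) L170513 L247482
theorem L247485 : sm gc N29189 = N29189 := ded_32_1 (flp_h L247482) L170514 L247482
theorem L247486 : sm ge N29189 = N20189 := ded_43_1 (flp_h L171569) (flp_e L170517) L247482
theorem L247488 : sm gf N29189 = N20064 := ded_47_1 (flp_h L170528) L170511 L247482
theorem L247490 : sm gg N29189 = N29189 := ded_50_1 (flp_h L247482) L170519 L247482
theorem L247491 : sm gh N20063 = N29190 := rfl
theorem L247493 : sm ga N29190 = N29190 := ded_17_1 (flp_h L247491) L170522 L247491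
theorem L247494 : sm gc N29190 = N29190 := ded_32_1 (flp_h L247491) L170523 L247491
theorem L247495 : sm ge N29190 = N20067 := ded_43_1 (flp_h L170551) (flp_e L170525) L247491
theorem L247497 : sm gj N29190 = N20064 := ded_52_1 (flp_h L170528) L170520 L247491
theorem L247499 : sm gd N20064 = N29191 := rfl
theorem L247501 : sm ga N29191 = N29191 := ded_12_1 (flp_d L247499) L170530 L247499
theorem L247502 : sm gg N29191 = N20065 := ded_36_2 (flp_d L170536) (flp_g L170534) L247499
theorem L247504 : sm ge N29191 = N20100 := ded_34_2 (flp_d L170841) L117853 (flp_d L117661) (flp_e L170532) L247499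
theorem L247506 : sm gh N29191 = N29191 := ded_38_2 (flp_d L247499) (flp_h L170528) L117633 L170528 L247499
theorem L247507 : sm gi N20064 = N29192 := rfl
theorem L247509 : sm ga N29192 = N29192 := ded_18_1 (flp_i L247507) L170530 L247507
theorem L247510 : sm gc N29192 = N29192 := ded_33_1 (flp_i L247507) L170531 L247507
theorem L247511 : sm ge N29192 = N20068 := ded_44_1 (flp_i L170561) (flp_e L170532) L247507
theorem L247513 : sm gg N29192 = N20066 := ded_51_1 (flp_i L170543) (flp_g L170534) L247507
theorem L247515 : sm gh N29192 = N29192 := ded_54_1 (flp_i L247507) (flp_h L170528) L117636 L170528 L247507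
theorem L247516 : sm gc N20065 = N29193 := rfl
theorem L247518 : sm ga N29193 = N29193 := ded_11_1 (flp_c L247516) L170538 L247516
theorem L247519 : sm ge N29193 = N20102 := ded_28_2 (flp_c L170856) (flp_e L170540) L247516
theorem L247521 : sm gf N29193 = N29193 := ded_29_2 (flp_c L247516) L170539 L247516
theorem L247522 : sm gh N29193 = N29193 := ded_32_2 (flp_c L247516) L170542 L247516
theorem L247523 : sm gd N29193 = N29193 := ded_27_2 (flp_c L247516) (flp_d L170536) L117640 L170536 L247516
theorem L247524 : sm gi N20065 = N29194 := rfl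
theorem L247526 : sm ga N29194 = N29194 := ded_18_1 (flp_i L247524) L170538 L247524
theorem L247527 : sm gd N29194 = N20066 := ded_39_1 (flp_i L170543) L170536 L247524
theorem L247529 : sm ge N29194 = N20103 := ded_44_1 (flp_i L170862) (flp_e L170540) L247524
theorem L247531 : sm gf N29194 = N29194 := ded_48_1 (flp_i L247524) L170539 L247524
theorem L247532 : sm gi N20067 = N29195 := rfl
theorem L247534 : sm ga N29195 = N29195 := ded_18_1 (flp_i L247532) L170553 L247532
theorem L247535 : sm gc N29195 = N29195 := ded_33_1 (flp_i L247532) L170554 L247532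
theorem L247536 : sm gd N29195 = N20104 := ded_39_1 (flp_i L170869) (flp_d L170559) L247532
theorem L247538 : sm gf N29195 = N20195 := ded_48_1 (flp_i L171622) (flp_f L170555) L247532
theorem L247540 : sm gj N29195 = N20068 := ded_53_1 (flp_i L170561) (flp_j L170557) L247532
theorem L247542 : sm gh N29195 = N29195 := ded_54_1 (flp_i L247532) (flp_h L170551) L117652 L170551 L247532
theorem L247543 : sm ge N20069 = N29196 := rfl
theorem L247545 : sm gb N29196 = N20071 := ded_21_1 (flp_e L170589) (flp_b L170574) L247543
theorem L247547 : sm gc N29196 = N29196 := ded_28_1 (flp_e L247543) L170576 L247543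
theorem L247548 : sm gi N29196 = N20105 := ded_44_2 (flp_e L170878) (flp_i L170578) L247543
theorem L247550 : sm gf N29196 = N21257 := ded_40_2 (flp_e L180745) (flp_f L124521) (flp_e L117675) L170572 L247543
theorem L247552 : sm gg N20069 = N29197 := rfl
theorem L247554 : sm gb N29197 = N20072 := ded_23_1 (flp_g L170599) (flp_b L170574) L247552
theorem L247556 : sm gc N29197 = N29197 := ded_30_1 (flp_g L247552) L170576 L247552
theorem L247557 : sm gd N29197 = N29197 := ded_36_1 (flp_g L247552) L170577 L247552
theorem L247558 : sm gi N29197 = N20106 := ded_51_2 (flp_g L170885) (flp_i L170578) L247552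
theorem L247560 : sm gf N29197 = N20197 := ded_45_1 (flp_g L171642) (flp_f L118389) (flp_g L117677) L170572 L247552
theorem L247562 : sm gh N20069 = N29198 := rfl
theorem L247564 : sm gb N29198 = N20073 := ded_25_1 (flp_h L170610) (flp_b L170574) L247562
theorem L247566 : sm gc N29198 = N29198 := ded_32_1 (flp_h L247562) L170576 L247562
theorem L247567 : sm gf N29198 = N20070 := ded_47_1 (flp_h L170580) L170572 L247562
theorem L247569 : sm gd N20070 = N29199 := rfl
theorem L247571 : sm gb N29199 = N20074 := ded_20_1 (flp_d L170618) (flp_b L170582) L247569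
theorem L247573 : sm gg N29199 = N20199 := ded_36_2 (flp_d L171658) (flp_g L170587) L247569
theorem L247576 : sm gi N20070 = N29200 := rfl
theorem L247578 : sm gb N29200 = N20075 := ded_26_1 (flp_i L170625) (flp_b L170582) L247576
theorem L247580 : sm gc N29200 = N29200 := ded_33_1 (flp_i L247576) L170584 L247576
theorem L247581 : sm ge N29200 = N21261 := ded_44_1 (flp_i L180778) (flp_e L170585) L247576
theorem L247583 : sm gg N29200 = N20200 := ded_51_1 (flp_i L171664) (flp_g L170587) L247576
theorem L247585 : sm gh N29200 = N20109 := ded_54_1 (flp_i L170907) (flp_h L117894) (flp_i L117679) L170580 L247576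
theorem L247587 : sm gd N20071 = N29201 := rfl
theorem L247589 : sm ga N29201 = N20081 := ded_12_1 (flp_d L170685) (flp_a L170591) L247587
theorem L247591 : sm gf N29201 = N21262 := ded_35_2 (flp_d L180787) (flp_f L170597) L247587
theorem L247593 : sm gi N29201 = N20110 := ded_39_2 (flp_d L170916) (flp_i L170595) L247587
theorem L247595 : sm gc N29201 = N29201 := ded_27_1 (flp_d L247587) L170593 L117708 (flp_c L170593) L247587
theorem L247596 : sm ge N29201 = N29201 := ded_34_2 (flp_d L247587) (flp_e L170589) L117688 L170589 L247587
theorem L247597 : sm gg N20071 = N29202 := rfl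
theorem L247599 : sm ga N29202 = N20082 := ded_15_1 (flp_g L170693) (flp_a L170591) L247597
theorem L247601 : sm gc N29202 = N20076 := ded_30_1 (flp_g L170637) (flp_c L170593) L247597
theorem L247603 : sm ge N29202 = N20072 := ded_41_1 (flp_g L170599) L170589 L247597
theorem L247605 : sm gi N29202 = N20111 := ded_51_2 (flp_g L170924) (flp_i L170595) L247597
theorem L247607 : sm gh N20071 = N29203 := rfl
theorem L247609 : sm ga N29203 = N20083 := ded_17_1 (flp_h L170701) (flp_a L170591) L247607
theorem L247611 : sm gc N29203 = N20077 := ded_32_1 (flp_h L170647) (flp_c L170593) L247607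
theorem L247613 : sm ge N29203 = N20073 := ded_43_1 (flp_h L170610) L170589 L247607
theorem L247615 : sm gf N29203 = N21264 := ded_47_1 (flp_h L180806) (flp_f L170597) L247607
theorem L247617 : sm gj N20072 = N29204 := rfl
theorem L247619 : sm ga N29204 = N20084 := ded_16_1 (flp_j L170709) (flp_a L170601) L247617
theorem L247621 : sm gc N29204 = N20078 := ded_31_1 (flp_j L170656) (flp_c L170603) L247617
theorem L247623 : sm gd N29204 = N29204 := ded_37_1 (flp_j L247617) L170605 L247617
theorem L247624 : sm gf N29204 = N20204 := ded_46_1 (flp_j L171707) (flp_f L170608) L247617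
theorem L247626 : sm gi N29204 = N20113 := ded_53_2 (flp_j L170942) (flp_i L170606) L247617
theorem L247628 : sm gh N20072 = N29205 := rfl
theorem L247630 : sm ga N29205 = N20085 := ded_17_1 (flp_h L170718) (flp_a L170601) L247628
theorem L247632 : sm gc N29205 = N20079 := ded_32_1 (flp_h L170667) (flp_c L170603) L247628
theorem L247634 : sm gf N29205 = N20205 := ded_47_1 (flp_h L171717) (flp_f L170608) L247628
theorem L247636 : sm gg N29205 = N20073 := ded_50_1 (flp_h L170610) L170599 L247628
theorem L247638 : sm gd N20073 = N29206 := rfl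
theorem L247640 : sm ga N29206 = N20086 := ded_12_1 (flp_d L170726) (flp_a L170612) L247638
theorem L247642 : sm gf N29206 = N20074 := ded_35_2 (flp_d L170618) (flp_f L170616) L247638
theorem L247644 : sm gh N29206 = N29206 := ded_38_2 (flp_d L247638) (flp_h L170610) L117688 L170610 L247638
theorem L247645 : sm gi N20073 = N29207 := rfl
theorem L247647 : sm ga N29207 = N20087 := ded_18_1 (flp_i L170731) (flp_a L170612) L247645
theorem L247649 : sm gc N29207 = N20080 := ded_33_1 (flp_i L170676) (flp_c L170614) L247645
theorem L247651 : sm gf N29207 = N20075 := ded_48_1 (flp_i L170625) (flp_f L170616) L247645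
theorem L247653 : sm gh N29207 = N20116 := ded_54_1 (flp_i L170969) (flp_h L117920) (flp_i L117689) L170610 L247645
theorem L247655 : sm ge N20074 = N29208 := rfl
theorem L247657 : sm ga N29208 = N20088 := ded_13_1 (flp_e L170739) (flp_a L170620) L247655
theorem L247659 : sm gg N29208 = N20208 := ded_41_2 (flp_e L171744) (flp_g L170622) L247655
theorem L247662 : sm gd N29208 = N21269 := ded_34_1 (flp_e L180855) (flp_d L124565) (flp_e L117697) L170618 L247655
theorem L247664 : sm gi N20074 = N29209 := rfl
theorem L247666 : sm ga N29209 = N20089 := ded_18_1 (flp_i L170746) (flp_a L170620) L247664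
theorem L247668 : sm gd N29209 = N20075 := ded_39_1 (flp_i L170625) L170618 L247664
theorem L247670 : sm gg N29209 = N20209 := ded_51_1 (flp_i L171752) (flp_g L170622) L247664
theorem L247672 : sm gf N20076 = N29210 := rfl
theorem L247674 : sm ga N29210 = N20090 := ded_14_1 (flp_f L170752) (flp_a L170639) L247672
theorem L247676 : sm gb N29210 = N29210 := ded_22_1 (flp_f L247672) L170641 L247672
theorem L247677 : sm gd N29210 = N29210 := ded_35_1 (flp_f L247672) L170642 L247672
theorem L247678 : sm gi N29210 = N20119 := ded_48_2 (flp_f L170996) (flp_i L170645) L247672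
theorem L247680 : sm ge N29210 = N20210 := ded_40_1 (flp_f L171759) L118459 (flp_f L117720) (flp_e L170643) L247672
theorem L247682 : sm gg N29210 = N21271 := ded_45_2 (flp_f L180873) (flp_g L124584) (flp_f L117709) L170637 L247672
theorem L247684 : sm gj N20076 = N29211 := rfl
theorem L247686 : sm ga N29211 = N20091 := ded_16_1 (flp_j L170763) (flp_a L170639) L247684
theorem L247688 : sm gb N29211 = N29211 := ded_24_1 (flp_j L247684) L170641 L247684
theorem L247689 : sm gd N29211 = N29211 := ded_37_1 (flp_j L247684) L170642 L247684
theorem L247690 : sm ge N29211 = N20078 := ded_42_1 (flp_j L170656) (flp_e L170643) L247684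
theorem L247692 : sm gi N29211 = N20120 := ded_53_2 (flp_j L171006) (flp_i L170645) L247684
theorem L247694 : sm gh N20076 = N29212 := rfl
theorem L247696 : sm ga N29212 = N20092 := ded_17_1 (flp_h L170772) (flp_a L170639) L247694
theorem L247698 : sm gb N29212 = N29212 := ded_25_1 (flp_h L247694) L170641 L247694
theorem L247699 : sm ge N29212 = N20079 := ded_43_1 (flp_h L170667) (flp_e L170643) L247694
theorem L247701 : sm gg N29212 = N20077 := ded_50_1 (flp_h L170647) L170637 L247694
theorem L247703 : sm gd N20077 = N29213 := rfl
theorem L247705 : sm ga N29213 = N20093 := ded_12_1 (flp_d L170780) (flp_a L170649) L247703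
theorem L247707 : sm gb N29213 = N29213 := ded_20_1 (flp_d L247703) L170651 L247703
theorem L247708 : sm gf N29213 = N21274 := ded_35_2 (flp_d L180902) (flp_f L170654) L247703
theorem L247710 : sm gh N29213 = N29213 := ded_38_2 (flp_d L247703) (flp_h L170647) L117708 L170647 L247703
theorem L247711 : sm gi N20077 = N29214 := rfl
theorem L247713 : sm ga N29214 = N20094 := ded_18_1 (flp_i L170787) (flp_a L170649) L247711
theorem L247715 : sm gb N29214 = N29214 := ded_26_1 (flp_i L247711) L170651 L247711
theorem L247716 : sm ge N29214 = N20080 := ded_44_1 (flp_i L170676) (flp_e L170652) L247711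
theorem L247718 : sm gf N29214 = N21275 := ded_48_1 (flp_i L180909) (flp_f L170654) L247711
theorem L247720 : sm gh N29214 = N20123 := ded_54_1 (flp_i L171032) (flp_h L117954) (flp_i L117706) L170647 L247711
theorem L247722 : sm gh N20078 = N29215 := rfl
theorem L247724 : sm ga N29215 = N20095 := ded_17_1 (flp_h L170797) (flp_a L170658) L247722
theorem L247726 : sm gb N29215 = N29215 := ded_25_1 (flp_h L247722) L170660 L247722
theorem L247727 : sm gf N29215 = N20215 := ded_47_1 (flp_h L171813) (flp_f L170663) L247722
theorem L247729 : sm gj N29215 = N20079 := ded_52_1 (flp_h L170667) L170656 L247722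
theorem L247731 : sm gi N20079 = N29216 := rfl
theorem L247733 : sm ga N29216 = N20096 := ded_18_1 (flp_i L170805) (flp_a L170669) L247731
theorem L247735 : sm gb N29216 = N29216 := ded_26_1 (flp_i L247731) L170671 L247731
theorem L247736 : sm gf N29216 = N20216 := ded_48_1 (flp_i L171821) (flp_f L170672) L247731
theorem L247738 : sm gg N29216 = N20080 := ded_51_1 (flp_i L170676) (flp_g L170674) L247731
theorem L247740 : sm gh N29216 = N20125 := ded_54_1 (flp_i L171051) (flp_h L117972) (flp_i L117718) L170667 L247731
theorem L247742 : sm gg N20081 = N29217 := rfl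
theorem L247744 : sm gc N29217 = N29217 := ded_30_1 (flp_g L247742) L170691 L247742
theorem L247745 : sm gd N29217 = N20082 := ded_36_1 (flp_g L170693) L170685 L247742
theorem L247747 : sm ge N29217 = N29217 := ded_41_1 (flp_g L247742) L170692 L247742
theorem L247748 : sm gi N29217 = N20126 := ded_51_2 (flp_g L171061) (flp_i L170689) L247742
theorem L247750 : sm gh N20081 = N29218 := rfl
theorem L247752 : sm gc N29218 = N29218 := ded_32_1 (flp_h L247750) L170691 L247750
theorem L247753 : sm ge N29218 = N29218 := ded_43_1 (flp_h L247750) L170692 L247750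
theorem L247754 : sm gf N29218 = N21279 := ded_47_1 (flp_h L180949) (flp_f L170687) L247750
theorem L247756 : sm gf N20082 = N29219 := rfl
theorem L247758 : sm gc N29219 = N20090 := ded_29_1 (flp_f L170752) (flp_c L170695) L247756
theorem L247760 : sm gi N29219 = N20128 := ded_48_2 (flp_f L171073) (flp_i L170699) L247756
theorem L247762 : sm ge N29219 = N20219 := ded_40_1 (flp_f L171847) L118514 (flp_f L117766) (flp_e L170697) L247756
theorem L247764 : sm gg N29219 = N21280 := ded_45_2 (flp_f L180954) (flp_g L124639) (flp_f L117757) L170693 L247756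
theorem L247766 : sm gj N20082 = N29220 := rfl
theorem L247768 : sm gc N29220 = N20091 := ded_31_1 (flp_j L170763) (flp_c L170695) L247766
theorem L247770 : sm ge N29220 = N20084 := ded_42_1 (flp_j L170709) (flp_e L170697) L247766
theorem L247772 : sm gi N29220 = N20129 := ded_53_2 (flp_j L171081) (flp_i L170699) L247766
theorem L247774 : sm gh N20082 = N29221 := rfl
theorem L247776 : sm gc N29221 = N20092 := ded_32_1 (flp_h L170772) (flp_c L170695) L247774
theorem L247778 : sm ge N29221 = N20085 := ded_43_1 (flp_h L170718) (flp_e L170697) L247774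
theorem L247780 : sm gg N29221 = N20083 := ded_50_1 (flp_h L170701) L170693 L247774
theorem L247782 : sm gd N20083 = N29222 := rfl
theorem L247784 : sm gf N29222 = N21283 := ded_35_2 (flp_d L180978) (flp_f L170707) L247782
theorem L247786 : sm gi N20083 = N29223 := rfl
theorem L247788 : sm gc N29223 = N20094 := ded_33_1 (flp_i L170787) (flp_c L170703) L247786
theorem L247790 : sm ge N29223 = N20087 := ded_44_1 (flp_i L170731) (flp_e L170705) L247786
theorem L247792 : sm gf N29223 = N21284 := ded_48_1 (flp_i L180980) (flp_f L170707) L247786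
theorem L247794 : sm gh N29223 = N20132 := ded_54_1 (flp_i L171099) (flp_h L118002) (flp_i L117755) L170701 L247786
theorem L247796 : sm gh N20084 = N29224 := rfl
theorem L247798 : sm gc N29224 = N20095 := ded_32_1 (flp_h L170797) (flp_c L170711) L247796
theorem L247800 : sm gf N29224 = N20224 := ded_47_1 (flp_h L171888) (flp_f L170714) L247796
theorem L247802 : sm gj N29224 = N20085 := ded_52_1 (flp_h L170718) L170709 L247796
theorem L247804 : sm gd N20085 = N29225 := rfl
theorem L247806 : sm gf N29225 = N20225 := ded_35_2 (flp_d L171895) (flp_f L170722) L247804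
theorem L247808 : sm gg N29225 = N20086 := ded_36_2 (flp_d L170726) (flp_g L170724) L247804
theorem L247810 : sm gh N29225 = N29225 := ded_38_2 (flp_d L247804) (flp_h L170718) L117763 L170718 L247804
theorem L247811 : sm gi N20085 = N29226 := rfl
theorem L247813 : sm gc N29226 = N20096 := ded_33_1 (flp_i L170805) (flp_c L170720) L247811
theorem L247815 : sm gf N29226 = N20226 := ded_48_1 (flp_i L171900) (flp_f L170722) L247811
theorem L247817 : sm gg N29226 = N20087 := ded_51_1 (flp_i L170731) (flp_g L170724) L247811
theorem L247819 : sm gh N29226 = N20135 := ded_54_1 (flp_i L171123) (flp_h L118017) (flp_i L117764) L170718 L247811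
theorem L247821 : sm ge N20086 = N29227 := rfl
theorem L247823 : sm gh N29227 = N29227 := ded_43_2 (flp_e L247821) L170730 L247821
theorem L247824 : sm gi N20086 = N29228 := rfl
theorem L247826 : sm gd N29228 = N20087 := ded_39_1 (flp_i L170731) L170726 L247824
theorem L247828 : sm gf N29228 = N20089 := ded_48_1 (flp_i L170746) (flp_f L170728) L247824
theorem L247830 : sm gf N20088 = N29229 := rfl
theorem L247832 : sm gd N29229 = N21290 := ded_35_1 (flp_f L181027) (flp_d L170744) L247830
theorem L247834 : sm gh N29229 = N29229 := ded_47_2 (flp_f L247830) L170743 L247830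
theorem L247835 : sm gi N20088 = N29230 := rfl
theorem L247837 : sm gd N29230 = N21291 := ded_39_1 (flp_i L181032) (flp_d L170744) L247835
theorem L247839 : sm ge N29230 = N20089 := ded_44_1 (flp_i L170746) L170739 L247835
theorem L247841 : sm gg N29230 = N20230 := ded_51_1 (flp_i L171925) (flp_g L170741) L247835
theorem L247843 : sm gh N20089 = N29231 := rfl
theorem L247845 : sm gg N29231 = N20231 := ded_50_1 (flp_h L171932) (flp_g L170750) L247843
theorem L247847 : sm gd N29231 = N20140 := ded_38_1 (flp_h L171157) L118048 (flp_h L117787) (flp_d L170748) L247843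
theorem L247849 : sm gi N29231 = N29231 := ded_54_2 (flp_h L247843) (flp_i L170746) L117778 L170746 L247843
theorem L247850 : sm gj N20090 = N29232 := rfl
theorem L247852 : sm gb N29232 = N20097 := ded_24_1 (flp_j L170815) (flp_b L170754) L247850
theorem L247854 : sm gd N29232 = N29232 := ded_37_1 (flp_j L247850) L170756 L247850
theorem L247855 : sm ge N29232 = N20232 := ded_42_1 (flp_j L171938) (flp_e L170759) L247850
theorem L247857 : sm gf N29232 = N20091 := ded_46_1 (flp_j L170763) L170752 L247850
theorem L247859 : sm gi N29232 = N20141 := ded_53_2 (flp_j L171163) (flp_i L170757) L247850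
theorem L247861 : sm gh N20090 = N29233 := rfl
theorem L247863 : sm gb N29233 = N20098 := ded_25_1 (flp_h L170825) (flp_b L170754) L247861
theorem L247865 : sm ge N29233 = N20233 := ded_43_1 (flp_h L171948) (flp_e L170759) L247861
theorem L247867 : sm gf N29233 = N20092 := ded_47_1 (flp_h L170772) L170752 L247861
theorem L247869 : sm gg N29233 = N21294 := ded_50_1 (flp_h L181059) (flp_g L170761) L247861
theorem L247871 : sm gh N20091 = N29234 := rfl
theorem L247873 : sm gb N29234 = N20099 := ded_25_1 (flp_h L170834) (flp_b L170765) L247871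
theorem L247875 : sm ge N29234 = N20095 := ded_43_1 (flp_h L170797) (flp_e L170768) L247871
theorem L247877 : sm gj N29234 = N20092 := ded_52_1 (flp_h L170772) L170763 L247871
theorem L247879 : sm gd N20092 = N29235 := rfl
theorem L247881 : sm gb N29235 = N20100 := ded_20_1 (flp_d L170841) (flp_b L170774) L247879
theorem L247883 : sm gg N29235 = N20093 := ded_36_2 (flp_d L170780) (flp_g L170778) L247879
theorem L247885 : sm gh N29235 = N29235 := ded_38_2 (flp_d L247879) (flp_h L170772) L117793 L170772 L247879
theorem L247886 : sm gi N20092 = N29236 := rfl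
theorem L247888 : sm gb N29236 = N20101 := ded_26_1 (flp_i L170847) (flp_b L170774) L247886
theorem L247890 : sm ge N29236 = N20096 := ded_44_1 (flp_i L170805) (flp_e L170776) L247886
theorem L247892 : sm gg N29236 = N20094 := ded_51_1 (flp_i L170787) (flp_g L170778) L247886
theorem L247894 : sm gh N29236 = N20145 := ded_54_1 (flp_i L171198) (flp_h L118068) (flp_i L117796) L170772 L247886
theorem L247896 : sm gc N20093 = N29237 := rfl
theorem L247898 : sm gf N29237 = N21298 := ded_29_2 (flp_c L181093) (flp_f L170784) L247896
theorem L247900 : sm gh N29237 = N29237 := ded_32_2 (flp_c L247896) L170786 L247896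
theorem L247901 : sm gi N20093 = N29238 := rfl
theorem L247903 : sm gb N29238 = N20103 := ded_26_1 (flp_i L170862) (flp_b L170782) L247901
theorem L247905 : sm gd N29238 = N20094 := ded_39_1 (flp_i L170787) L170780 L247901
theorem L247907 : sm gf N29238 = N21299 := ded_48_1 (flp_i L181097) (flp_f L170784) L247901
theorem L247909 : sm gi N20095 = N29239 := rfl
theorem L247911 : sm gb N29239 = N20104 := ded_26_1 (flp_i L170869) (flp_b L170799) L247909
theorem L247913 : sm gf N29239 = N20239 := ded_48_1 (flp_i L171999) (flp_f L170801) L247909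
theorem L247915 : sm gj N29239 = N20096 := ded_53_1 (flp_i L170805) (flp_j L170803) L247909
theorem L247917 : sm gh N29239 = N20148 := ded_54_1 (flp_i L171221) (flp_h L118092) (flp_i L117814) L170797 L247909
theorem L247919 : sm gg N20097 = N29240 := rfl
theorem L247921 : sm ga N29240 = N29240 := ded_15_1 (flp_g L247919) L170817 L247919
theorem L247922 : sm gd N29240 = N29240 := ded_36_1 (flp_g L247919) L170818 L247919
theorem L247923 : sm ge N29240 = N20240 := ded_41_1 (flp_g L172008) (flp_e L170819) L247919
theorem L247925 : sm gi N29240 = N20149 := ded_51_2 (flp_g L171230) (flp_i L170823) L247919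
theorem L247927 : sm gj N29240 = N21301 := ded_49_2 (flp_g L181115) (flp_j L124760) (flp_g L117840) L170815 L247919
theorem L247929 : sm gh N20097 = N29241 := rfl
theorem L247931 : sm ga N29241 = N29241 := ded_17_1 (flp_h L247929) L170817 L247929
theorem L247932 : sm ge N29241 = N20241 := ded_43_1 (flp_h L172018) (flp_e L170819) L247929
theorem L247934 : sm gf N29241 = N20099 := ded_47_1 (flp_h L170834) (flp_f L170821) L247929
theorem L247936 : sm gj N29241 = N20098 := ded_52_1 (flp_h L170825) L170815 L247929
theorem L247938 : sm gd N20098 = N29242 := rfl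
theorem L247940 : sm ga N29242 = N29242 := ded_12_1 (flp_d L247938) L170827 L247938
theorem L247941 : sm gf N29242 = N20100 := ded_35_2 (flp_d L170841) (flp_f L170830) L247938
theorem L247943 : sm gg N29242 = N21303 := ded_36_2 (flp_d L181132) (flp_g L170832) L247938
theorem L247945 : sm gh N29242 = N29242 := ded_38_2 (flp_d L247938) (flp_h L170825) L117835 L170825 L247938
theorem L247946 : sm gi N20098 = N29243 := rfl
theorem L247948 : sm ga N29243 = N29243 := ded_18_1 (flp_i L247946) L170827 L247946
theorem L247949 : sm ge N29243 = N20243 := ded_44_1 (flp_i L172034) (flp_e L170828) L247946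
theorem L247951 : sm gf N29243 = N20101 := ded_48_1 (flp_i L170847) (flp_f L170830) L247946
theorem L247953 : sm gg N29243 = N21304 := ded_51_1 (flp_i L181138) (flp_g L170832) L247946
theorem L247955 : sm gh N29243 = N20152 := ded_54_1 (flp_i L171255) (flp_h L118118) (flp_i L117836) L170825 L247946
theorem L247957 : sm gd N20099 = N29244 := rfl
theorem L247959 : sm ga N29244 = N29244 := ded_12_1 (flp_d L247957) L170836 L247957
theorem L247960 : sm gj N29244 = N20100 := ded_37_2 (flp_d L170841) (flp_j L170839) L247957
theorem L247962 : sm gh N29244 = N29244 := ded_38_2 (flp_d L247957) (flp_h L170834) L117845 L170834 L247957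
theorem L247963 : sm gi N20099 = N29245 := rfl
theorem L247965 : sm ga N29245 = N29245 := ded_18_1 (flp_i L247963) L170836 L247963
theorem L247966 : sm ge N29245 = N20104 := ded_44_1 (flp_i L170869) (flp_e L170837) L247963
theorem L247968 : sm gj N29245 = N20101 := ded_53_1 (flp_i L170847) (flp_j L170839) L247963
theorem L247970 : sm gh N29245 = N20154 := ded_54_1 (flp_i L171271) (flp_h L118127) (flp_i L117848) L170834 L247963
theorem L247972 : sm gc N20100 = N29246 := rfl
theorem L247974 : sm ga N29246 = N29246 := ded_11_1 (flp_c L247972) L170843 L247972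
theorem L247975 : sm gg N29246 = N20102 := ded_30_2 (flp_c L170856) (flp_g L170844) L247972
theorem L247977 : sm gh N29246 = N29246 := ded_32_2 (flp_c L247972) L170846 L247972
theorem L247978 : sm gi N20100 = N29247 := rfl
theorem L247980 : sm ga N29247 = N29247 := ded_18_1 (flp_i L247978) L170843 L247978
theorem L247981 : sm gd N29247 = N20101 := ded_39_1 (flp_i L170847) L170841 L247978
theorem L247983 : sm gg N29247 = N20103 := ded_51_1 (flp_i L170862) (flp_g L170844) L247978
theorem L247985 : sm gb N20102 = N29248 := rfl
theorem L247987 : sm gf N29248 = N21309 := ded_22_2 (flp_b L181178) (flp_f L170859) L247985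
theorem L247989 : sm gh N29248 = N29248 := ded_25_2 (flp_b L247985) L170861 L247985
theorem L247990 : sm gi N20102 = N29249 := rfl
theorem L247992 : sm ga N29249 = N29249 := ded_18_1 (flp_i L247990) L170858 L247990
theorem L247993 : sm gc N29249 = N20103 := ded_33_1 (flp_i L170862) L170856 L247990
theorem L247995 : sm gf N29249 = N21310 := ded_48_1 (flp_i L181182) (flp_f L170859) L247990
theorem L247997 : sm gh N20103 = N29250 := rfl
theorem L247999 : sm ga N29250 = N29250 := ded_17_1 (flp_h L247997) L170864 L247997
theorem L248000 : sm gf N29250 = N21311 := ded_47_1 (flp_h L181188) (flp_f L170867) L247997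
theorem L248002 : sm gd N29250 = N20159 := ded_38_1 (flp_h L171307) L118158 (flp_h L117870) (flp_d L170865) L247997
theorem L248004 : sm gi N29250 = N29250 := ded_54_2 (flp_h L247997) (flp_i L170862) L117862 L170862 L247997
theorem L248005 : sm gd N20105 = N29251 := rfl
theorem L248007 : sm gb N29251 = N20110 := ded_20_1 (flp_d L170916) (flp_b L170880) L248005
theorem L248009 : sm gf N29251 = N21312 := ded_35_2 (flp_d L181195) (flp_f L170883) L248005
theorem L248011 : sm ge N29251 = N29251 := ded_34_2 (flp_d L248005) (flp_e L170878) L117893 L170878 L248005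
theorem L248012 : sm gg N20105 = N29252 := rfl
theorem L248014 : sm gb N29252 = N20111 := ded_23_1 (flp_g L170924) (flp_b L170880) L248012
theorem L248016 : sm gc N29252 = N29252 := ded_30_1 (flp_g L248012) L170882 L248012
theorem L248017 : sm ge N29252 = N20106 := ded_41_1 (flp_g L170885) L170878 L248012
theorem L248019 : sm gh N20105 = N29253 := rfl
theorem L248021 : sm gb N29253 = N20112 := ded_25_1 (flp_h L170932) (flp_b L170880) L248019
theorem L248023 : sm gc N29253 = N29253 := ded_32_1 (flp_h L248019) L170882 L248019
theorem L248024 : sm ge N29253 = N20107 := ded_43_1 (flp_h L170893) L170878 L248019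
theorem L248026 : sm gf N29253 = N21314 := ded_47_1 (flp_h L181208) (flp_f L170883) L248019
theorem L248028 : sm gj N20106 = N29254 := rfl
theorem L248030 : sm gb N29254 = N20113 := ded_24_1 (flp_j L170942) (flp_b L170887) L248028
theorem L248032 : sm gc N29254 = N29254 := ded_31_1 (flp_j L248028) L170889 L248028
theorem L248033 : sm gd N29254 = N29254 := ded_37_1 (flp_j L248028) L170890 L248028
theorem L248034 : sm gf N29254 = N20254 := ded_46_1 (flp_j L172125) (flp_f L170891) L248028
theorem L248036 : sm gh N20106 = N29255 := rfl
theorem L248038 : sm gb N29255 = N20114 := ded_25_1 (flp_h L170951) (flp_b L170887) L248036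
theorem L248040 : sm gc N29255 = N29255 := ded_32_1 (flp_h L248036) L170889 L248036
theorem L248041 : sm gf N29255 = N20255 := ded_47_1 (flp_h L172132) (flp_f L170891) L248036
theorem L248043 : sm gg N29255 = N20107 := ded_50_1 (flp_h L170893) L170885 L248036
theorem L248045 : sm gd N20107 = N29256 := rfl
theorem L248047 : sm gb N29256 = N20115 := ded_20_1 (flp_d L170961) (flp_b L170895) L248045
theorem L248052 : sm gi N20107 = N29257 := rfl
theorem L248054 : sm gb N29257 = N20116 := ded_26_1 (flp_i L170969) (flp_b L170895) L248052
theorem L248056 : sm gc N29257 = N29257 := ded_33_1 (flp_i L248052) L170897 L248052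
theorem L248057 : sm gf N29257 = N20109 := ded_48_1 (flp_i L170907) (flp_f L170898) L248052
theorem L248059 : sm gc N20108 = N29258 := rfl
theorem L248061 : sm gg N29258 = N20258 := ded_30_2 (flp_c L172155) (flp_g L170904) L248059
theorem L248066 : sm ge N20108 = N29259 := rfl
theorem L248068 : sm gb N29259 = N20117 := ded_21_1 (flp_e L170977) (flp_b L170902) L248066
theorem L248070 : sm gg N29259 = N20259 := ded_41_2 (flp_e L172161) (flp_g L170904) L248066
theorem L248075 : sm gi N20108 = N29260 := rfl
theorem L248077 : sm gb N29260 = N20118 := ded_26_1 (flp_i L170987) (flp_b L170902) L248075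
theorem L248079 : sm gd N29260 = N20109 := ded_39_1 (flp_i L170907) L170900 L248075
theorem L248081 : sm gg N29260 = N20260 := ded_51_1 (flp_i L172169) (flp_g L170904) L248075
theorem L248083 : sm gg N20110 = N29261 := rfl
theorem L248085 : sm ga N29261 = N20126 := ded_15_1 (flp_g L171061) (flp_a L170918) L248083
theorem L248087 : sm gc N29261 = N29261 := ded_30_1 (flp_g L248083) L170922 L248083
theorem L248088 : sm gd N29261 = N20111 := ded_36_1 (flp_g L170924) L170916 L248083
theorem L248090 : sm ge N29261 = N29261 := ded_41_1 (flp_g L248083) L170923 L248083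
theorem L248091 : sm gh N20110 = N29262 := rfl
theorem L248093 : sm ga N29262 = N20127 := ded_17_1 (flp_h L171067) (flp_a L170918) L248091
theorem L248095 : sm gc N29262 = N29262 := ded_32_1 (flp_h L248091) L170922 L248091
theorem L248096 : sm ge N29262 = N29262 := ded_43_1 (flp_h L248091) L170923 L248091
theorem L248097 : sm gf N29262 = N21323 := ded_47_1 (flp_h L181282) (flp_f L170920) L248091
theorem L248099 : sm gf N20111 = N29263 := rfl
theorem L248101 : sm ga N29263 = N20128 := ded_14_1 (flp_f L171073) (flp_a L170926) L248099
theorem L248103 : sm gc N29263 = N20119 := ded_29_1 (flp_f L170996) (flp_c L170928) L248099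
theorem L248105 : sm ge N29263 = N20263 := ded_40_1 (flp_f L172195) L118747 (flp_f L117918) (flp_e L170930) L248099
theorem L248107 : sm gg N29263 = N21324 := ded_45_2 (flp_f L181289) (flp_g L124864) (flp_f L117909) L170924 L248099
theorem L248109 : sm gj N20111 = N29264 := rfl
theorem L248111 : sm ga N29264 = N20129 := ded_16_1 (flp_j L171081) (flp_a L170926) L248109
theorem L248113 : sm gc N29264 = N20120 := ded_31_1 (flp_j L171006) (flp_c L170928) L248109
theorem L248115 : sm ge N29264 = N20113 := ded_42_1 (flp_j L170942) (flp_e L170930) L248109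
theorem L248117 : sm gh N20111 = N29265 := rfl
theorem L248119 : sm ga N29265 = N20130 := ded_17_1 (flp_h L171087) (flp_a L170926) L248117
theorem L248121 : sm gc N29265 = N20121 := ded_32_1 (flp_h L171014) (flp_c L170928) L248117
theorem L248123 : sm ge N29265 = N20114 := ded_43_1 (flp_h L170951) (flp_e L170930) L248117
theorem L248125 : sm gg N29265 = N20112 := ded_50_1 (flp_h L170932) L170924 L248117
theorem L248127 : sm gd N20112 = N29266 := rfl
theorem L248129 : sm ga N29266 = N20131 := ded_12_1 (flp_d L171095) (flp_a L170934) L248127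
theorem L248131 : sm gf N29266 = N21327 := ded_35_2 (flp_d L181315) (flp_f L170940) L248127
theorem L248133 : sm gi N20112 = N29267 := rfl
theorem L248135 : sm ga N29267 = N20132 := ded_18_1 (flp_i L171099) (flp_a L170934) L248133
theorem L248137 : sm gc N29267 = N20123 := ded_33_1 (flp_i L171032) (flp_c L170936) L248133
theorem L248139 : sm ge N29267 = N20116 := ded_44_1 (flp_i L170969) (flp_e L170938) L248133
theorem L248141 : sm gf N29267 = N21328 := ded_48_1 (flp_i L181319) (flp_f L170940) L248133
theorem L248143 : sm gh N20113 = N29268 := rfl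
theorem L248145 : sm ga N29268 = N20133 := ded_17_1 (flp_h L171107) (flp_a L170944) L248143
theorem L248147 : sm gc N29268 = N20124 := ded_32_1 (flp_h L171041) (flp_c L170946) L248143
theorem L248149 : sm gf N29268 = N20268 := ded_47_1 (flp_h L172240) (flp_f L170949) L248143
theorem L248151 : sm gj N29268 = N20114 := ded_52_1 (flp_h L170951) L170942 L248143
theorem L248153 : sm gd N20114 = N29269 := rfl
theorem L248155 : sm ga N29269 = N20134 := ded_12_1 (flp_d L171115) (flp_a L170953) L248153
theorem L248157 : sm gf N29269 = N20269 := ded_35_2 (flp_d L172249) (flp_f L170957) L248153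
theorem L248159 : sm gg N29269 = N20115 := ded_36_2 (flp_d L170961) (flp_g L170959) L248153
theorem L248161 : sm gc N29269 = N29269 := ded_27_1 (flp_d L248153) L170955 L117981 (flp_c L170955) L248153
theorem L248162 : sm gh N29269 = N29269 := ded_38_2 (flp_d L248153) (flp_h L170951) L117917 L170951 L248153
theorem L248163 : sm gi N20114 = N29270 := rfl
theorem L248165 : sm ga N29270 = N20135 := ded_18_1 (flp_i L171123) (flp_a L170953) L248163
theorem L248167 : sm gc N29270 = N20125 := ded_33_1 (flp_i L171051) (flp_c L170955) L248163
theorem L248169 : sm gf N29270 = N20270 := ded_48_1 (flp_i L172257) (flp_f L170957) L248163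
theorem L248171 : sm gg N29270 = N20116 := ded_51_1 (flp_i L170969) (flp_g L170959) L248163
theorem L248173 : sm ge N20115 = N29271 := rfl
theorem L248175 : sm ga N29271 = N20136 := ded_13_1 (flp_e L171131) (flp_a L170963) L248173
theorem L248177 : sm gc N29271 = N29271 := ded_28_1 (flp_e L248173) L170967 L248173
theorem L248178 : sm gh N29271 = N29271 := ded_43_2 (flp_e L248173) L170968 L248173
theorem L248179 : sm gi N20115 = N29272 := rfl
theorem L248181 : sm ga N29272 = N20137 := ded_18_1 (flp_i L171135) (flp_a L170963) L248179
theorem L248183 : sm gc N29272 = N29272 := ded_33_1 (flp_i L248179) L170967 L248179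
theorem L248184 : sm gd N29272 = N20116 := ded_39_1 (flp_i L170969) L170961 L248179
theorem L248186 : sm gf N29272 = N20118 := ded_48_1 (flp_i L170987) (flp_f L170965) L248179
theorem L248188 : sm gf N20117 = N29273 := rfl
theorem L248190 : sm ga N29273 = N20138 := ded_14_1 (flp_f L171142) (flp_a L170979) L248188
theorem L248196 : sm gi N20117 = N29274 := rfl
theorem L248198 : sm ga N29274 = N20139 := ded_18_1 (flp_i L171148) (flp_a L170979) L248196
theorem L248203 : sm ge N29274 = N20118 := ded_44_1 (flp_i L170987) L170977 L248196
theorem L248205 : sm gg N29274 = N20274 := ded_51_1 (flp_i L172291) (flp_g L170982) L248196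
theorem L248207 : sm gh N20118 = N29275 := rfl
theorem L248209 : sm ga N29275 = N20140 := ded_17_1 (flp_h L171157) (flp_a L170989) L248207
theorem L248211 : sm gc N29275 = N29275 := ded_32_1 (flp_h L248207) L170991 L248207
theorem L248212 : sm gg N29275 = N20275 := ded_50_1 (flp_h L172301) (flp_g L170994) L248207
theorem L248214 : sm gi N29275 = N29275 := ded_54_2 (flp_h L248207) (flp_i L170987) L117935 L170987 L248207
theorem L248215 : sm gj N20119 = N29276 := rfl
theorem L248217 : sm ga N29276 = N20141 := ded_16_1 (flp_j L171163) (flp_a L170998) L248215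
theorem L248219 : sm gb N29276 = N29276 := ded_24_1 (flp_j L248215) L171000 L248215
theorem L248220 : sm gd N29276 = N29276 := ded_37_1 (flp_j L248215) L171001 L248215
theorem L248221 : sm ge N29276 = N20276 := ded_42_1 (flp_j L172308) (flp_e L171002) L248215
theorem L248223 : sm gf N29276 = N20120 := ded_46_1 (flp_j L171006) L170996 L248215
theorem L248225 : sm gh N20119 = N29277 := rfl
theorem L248227 : sm ga N29277 = N20142 := ded_17_1 (flp_h L171172) (flp_a L170998) L248225
theorem L248229 : sm gb N29277 = N29277 := ded_25_1 (flp_h L248225) L171000 L248225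
theorem L248230 : sm ge N29277 = N20277 := ded_43_1 (flp_h L172317) (flp_e L171002) L248225
theorem L248232 : sm gf N29277 = N20121 := ded_47_1 (flp_h L171014) L170996 L248225
theorem L248234 : sm gg N29277 = N21338 := ded_50_1 (flp_h L181415) (flp_g L171004) L248225
theorem L248236 : sm gh N20120 = N29278 := rfl
theorem L248238 : sm ga N29278 = N20143 := ded_17_1 (flp_h L171182) (flp_a L171008) L248236
theorem L248240 : sm gb N29278 = N29278 := ded_25_1 (flp_h L248236) L171010 L248236
theorem L248241 : sm ge N29278 = N20124 := ded_43_1 (flp_h L171041) (flp_e L171012) L248236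
theorem L248243 : sm gj N29278 = N20121 := ded_52_1 (flp_h L171014) L171006 L248236
theorem L248245 : sm gd N20121 = N29279 := rfl
theorem L248247 : sm ga N29279 = N20144 := ded_12_1 (flp_d L171190) (flp_a L171016) L248245
theorem L248249 : sm gb N29279 = N29279 := ded_20_1 (flp_d L248245) L171018 L248245
theorem L248250 : sm gg N29279 = N20122 := ded_36_2 (flp_d L171023) (flp_g L171021) L248245
theorem L248252 : sm ge N29279 = N29279 := ded_34_2 (flp_d L248245) L171019 L117981 (flp_e L171019) L248245
theorem L248253 : sm gh N29279 = N29279 := ded_38_2 (flp_d L248245) (flp_h L171014) L117951 L171014 L248245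
theorem L248254 : sm gi N20121 = N29280 := rfl
theorem L248256 : sm ga N29280 = N20145 := ded_18_1 (flp_i L171198) (flp_a L171016) L248254
theorem L248258 : sm gb N29280 = N29280 := ded_26_1 (flp_i L248254) L171018 L248254
theorem L248259 : sm ge N29280 = N20125 := ded_44_1 (flp_i L171051) (flp_e L171019) L248254
theorem L248261 : sm gg N29280 = N20123 := ded_51_1 (flp_i L171032) (flp_g L171021) L248254
theorem L248263 : sm gc N20122 = N29281 := rfl
theorem L248265 : sm ga N29281 = N20146 := ded_11_1 (flp_c L171206) (flp_a L171025) L248263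
theorem L248267 : sm ge N29281 = N29281 := ded_28_2 (flp_c L248263) L171030 L248263
theorem L248268 : sm gf N29281 = N21342 := ded_29_2 (flp_c L181452) (flp_f L171028) L248263
theorem L248270 : sm gh N29281 = N29281 := ded_32_2 (flp_c L248263) L171031 L248263
theorem L248271 : sm gi N20122 = N29282 := rfl
theorem L248273 : sm ga N29282 = N20147 := ded_18_1 (flp_i L171212) (flp_a L171025) L248271
theorem L248275 : sm gb N29282 = N29282 := ded_26_1 (flp_i L248271) L171027 L248271
theorem L248276 : sm gd N29282 = N20123 := ded_39_1 (flp_i L171032) L171023 L248271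
theorem L248278 : sm ge N29282 = N29282 := ded_44_1 (flp_i L248271) L171030 L248271
theorem L248279 : sm gf N29282 = N21343 := ded_48_1 (flp_i L181459) (flp_f L171028) L248271
theorem L248281 : sm gi N20124 = N29283 := rfl
theorem L248283 : sm ga N29283 = N20148 := ded_18_1 (flp_i L171221) (flp_a L171043) L248281
theorem L248285 : sm gb N29283 = N29283 := ded_26_1 (flp_i L248281) L171045 L248281
theorem L248286 : sm gd N29283 = N29283 := ded_39_1 (flp_i L248281) L171050 L248281
theorem L248287 : sm gf N29283 = N20283 := ded_48_1 (flp_i L172376) (flp_f L171046) L248281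
theorem L248289 : sm gj N29283 = N20125 := ded_53_1 (flp_i L171051) (flp_j L171048) L248281
theorem L248291 : sm gf N20126 = N29284 := rfl
theorem L248293 : sm gc N29284 = N29284 := ded_29_1 (flp_f L248291) L171063 L248291
theorem L248294 : sm gd N29284 = N20128 := ded_35_1 (flp_f L171073) (flp_d L171064) L248291
theorem L248296 : sm gg N29284 = N21345 := ded_45_2 (flp_f L181479) (flp_g L125000) (flp_f L117992) L171061 L248291
theorem L248298 : sm gj N20126 = N29285 := rfl
theorem L248300 : sm gc N29285 = N29285 := ded_31_1 (flp_j L248298) L171063 L248298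
theorem L248301 : sm gd N29285 = N20129 := ded_37_1 (flp_j L171081) (flp_d L171064) L248298
theorem L248303 : sm ge N29285 = N29285 := ded_42_1 (flp_j L248298) L171066 L248298
theorem L248304 : sm gh N20126 = N29286 := rfl
theorem L248306 : sm gc N29286 = N29286 := ded_32_1 (flp_h L248304) L171063 L248304
theorem L248307 : sm ge N29286 = N29286 := ded_43_1 (flp_h L248304) L171066 L248304
theorem L248308 : sm gg N29286 = N20127 := ded_50_1 (flp_h L171067) L171061 L248304
theorem L248310 : sm gd N20127 = N29287 := rfl
theorem L248312 : sm gf N29287 = N21348 := ded_35_2 (flp_d L181498) (flp_f L171071) L248310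
theorem L248314 : sm gh N29287 = N20131 := ded_38_2 (flp_d L171095) (flp_h L118002) L117990 L171067 L248310
theorem L248316 : sm gi N20127 = N29288 := rfl
theorem L248318 : sm gc N29288 = N29288 := ded_33_1 (flp_i L248316) L171069 L248316
theorem L248319 : sm ge N29288 = N29288 := ded_44_1 (flp_i L248316) L171070 L248316
theorem L248320 : sm gf N29288 = N21349 := ded_48_1 (flp_i L181502) (flp_f L171071) L248316
theorem L248322 : sm gj N20128 = N29289 := rfl
theorem L248324 : sm gc N29289 = N20141 := ded_31_1 (flp_j L171163) (flp_c L171075) L248322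
theorem L248326 : sm ge N29289 = N20289 := ded_42_1 (flp_j L172423) (flp_e L171077) L248322
theorem L248328 : sm gf N29289 = N20129 := ded_46_1 (flp_j L171081) L171073 L248322
theorem L248330 : sm gh N20128 = N29290 := rfl
theorem L248332 : sm gc N29290 = N20142 := ded_32_1 (flp_h L171172) (flp_c L171075) L248330
theorem L248334 : sm ge N29290 = N20290 := ded_43_1 (flp_h L172429) (flp_e L171077) L248330
theorem L248336 : sm gf N29290 = N20130 := ded_47_1 (flp_h L171087) L171073 L248330
theorem L248338 : sm gg N29290 = N21351 := ded_50_1 (flp_h L181515) (flp_g L171079) L248330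
theorem L248340 : sm gh N20129 = N29291 := rfl
theorem L248342 : sm gc N29291 = N20143 := ded_32_1 (flp_h L171182) (flp_c L171083) L248340
theorem L248344 : sm ge N29291 = N20133 := ded_43_1 (flp_h L171107) (flp_e L171085) L248340
theorem L248346 : sm gj N29291 = N20130 := ded_52_1 (flp_h L171087) L171081 L248340
theorem L248348 : sm gd N20130 = N29292 := rfl
theorem L248350 : sm gg N29292 = N20131 := ded_36_2 (flp_d L171095) (flp_g L171093) L248348
theorem L248352 : sm gi N20130 = N29293 := rfl
theorem L248354 : sm gc N29293 = N20145 := ded_33_1 (flp_i L171198) (flp_c L171089) L248352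
theorem L248356 : sm ge N29293 = N20135 := ded_44_1 (flp_i L171123) (flp_e L171091) L248352
theorem L248358 : sm gg N29293 = N20132 := ded_51_1 (flp_i L171099) (flp_g L171093) L248352
theorem L248360 : sm gc N20131 = N29294 := rfl
theorem L248362 : sm gf N29294 = N21355 := ded_29_2 (flp_c L181543) (flp_f L171097) L248360
theorem L248364 : sm gd N29294 = N20146 := ded_27_2 (flp_c L171206) (flp_d L118076) (flp_c L118004) L171095 L248360
theorem L248366 : sm ge N20131 = N29295 := rfl
theorem L248368 : sm gd N29295 = N20136 := ded_34_1 (flp_e L171131) (flp_d L118025) (flp_e L118006) L171095 L248366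
theorem L248370 : sm gi N20131 = N29296 := rfl
theorem L248372 : sm gd N29296 = N20132 := ded_39_1 (flp_i L171099) L171095 L248370
theorem L248374 : sm gf N29296 = N21357 := ded_48_1 (flp_i L181551) (flp_f L171097) L248370
theorem L248376 : sm gd N20133 = N29297 := rfl
theorem L248378 : sm gf N29297 = N20297 := ded_35_2 (flp_d L172477) (flp_f L171111) L248376
theorem L248380 : sm gj N29297 = N20134 := ded_37_2 (flp_d L171115) (flp_j L171113) L248376
theorem L248382 : sm gc N29297 = N29297 := ded_27_1 (flp_d L248376) L171109 L118100 (flp_c L171109) L248376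
theorem L248383 : sm gh N29297 = N29297 := ded_38_2 (flp_d L248376) (flp_h L171107) L118014 L171107 L248376
theorem L248384 : sm gi N20133 = N29298 := rfl
theorem L248386 : sm gc N29298 = N20148 := ded_33_1 (flp_i L171221) (flp_c L171109) L248384
theorem L248388 : sm gf N29298 = N20298 := ded_48_1 (flp_i L172484) (flp_f L171111) L248384
theorem L248390 : sm gj N29298 = N20135 := ded_53_1 (flp_i L171123) (flp_j L171113) L248384
theorem L248392 : sm ge N20134 = N29299 := rfl
theorem L248394 : sm gc N29299 = N29299 := ded_28_1 (flp_e L248392) L171121 L248392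
theorem L248395 : sm gg N29299 = N20136 := ded_41_2 (flp_e L171131) (flp_g L171119) L248392
theorem L248397 : sm gh N29299 = N29299 := ded_43_2 (flp_e L248392) L171122 L248392
theorem L248398 : sm gi N20134 = N29300 := rfl
theorem L248400 : sm gc N29300 = N29300 := ded_33_1 (flp_i L248398) L171121 L248398
theorem L248401 : sm gd N29300 = N20135 := ded_39_1 (flp_i L171123) L171115 L248398
theorem L248403 : sm gf N29300 = N20300 := ded_48_1 (flp_i L172497) (flp_f L171117) L248398
theorem L248405 : sm gg N29300 = N20137 := ded_51_1 (flp_i L171135) (flp_g L171119) L248398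
theorem L248407 : sm gf N20136 = N29301 := rfl
theorem L248409 : sm gc N29301 = N29301 := ded_29_1 (flp_f L248407) L171133 L248407
theorem L248410 : sm gh N29301 = N29301 := ded_47_2 (flp_f L248407) L171134 L248407
theorem L248411 : sm ge N29301 = N20138 := ded_40_1 (flp_f L171142) (flp_e L118037) (flp_f L118027) L171131 L248407
theorem L248413 : sm gi N20136 = N29302 := rfl
theorem L248415 : sm gc N29302 = N29302 := ded_33_1 (flp_i L248413) L171133 L248413
theorem L248416 : sm ge N29302 = N20137 := ded_44_1 (flp_i L171135) L171131 L248413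
theorem L248418 : sm gh N20137 = N29303 := rfl
theorem L248420 : sm gc N29303 = N29303 := ded_32_1 (flp_h L248418) L171137 L248418
theorem L248421 : sm gf N29303 = N20140 := ded_47_1 (flp_h L171157) (flp_f L171140) L248418
theorem L248423 : sm gi N29303 = N29303 := ded_54_2 (flp_h L248418) (flp_i L171135) L118030 L171135 L248418
theorem L248424 : sm gg N20138 = N29304 := rfl
theorem L248426 : sm gc N29304 = N29304 := ded_30_1 (flp_g L248424) L171144 L248424
theorem L248427 : sm gd N29304 = N21365 := ded_36_1 (flp_g L181613) (flp_d L171145) L248424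
theorem L248429 : sm gh N29304 = N29304 := ded_50_2 (flp_g L248424) L171147 L248424
theorem L248430 : sm gf N29304 = N20304 := ded_45_1 (flp_g L172524) (flp_f L118959) (flp_g L118040) L171142 L248424
theorem L248432 : sm gi N20138 = N29305 := rfl
theorem L248434 : sm gc N29305 = N29305 := ded_33_1 (flp_i L248432) L171144 L248432
theorem L248435 : sm gd N29305 = N21366 := ded_39_1 (flp_i L181621) (flp_d L171145) L248432
theorem L248437 : sm gf N29305 = N20139 := ded_48_1 (flp_i L171148) L171142 L248432
theorem L248439 : sm gh N20139 = N29306 := rfl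
theorem L248441 : sm gc N29306 = N29306 := ded_32_1 (flp_h L248439) L171150 L248439
theorem L248442 : sm ge N29306 = N20140 := ded_43_1 (flp_h L171157) (flp_e L171153) L248439
theorem L248444 : sm gg N29306 = N20306 := ded_50_1 (flp_h L172538) (flp_g L171155) L248439
theorem L248446 : sm gi N29306 = N29306 := ded_54_2 (flp_h L248439) (flp_i L171148) L118042 L171148 L248439
theorem L248447 : sm gg N20141 = N29307 := rfl
theorem L248449 : sm gb N29307 = N20149 := ded_23_1 (flp_g L171230) (flp_b L171165) L248447
theorem L248451 : sm gd N29307 = N29307 := ded_36_1 (flp_g L248447) L171167 L248447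
theorem L248452 : sm ge N29307 = N20307 := ded_41_1 (flp_g L172545) (flp_e L171168) L248447
theorem L248454 : sm gj N29307 = N21368 := ded_49_2 (flp_g L181637) (flp_j L125102) (flp_g L118059) L171163 L248447
theorem L248456 : sm gh N20141 = N29308 := rfl
theorem L248458 : sm gb N29308 = N20150 := ded_25_1 (flp_h L171238) (flp_b L171165) L248456
theorem L248460 : sm ge N29308 = N20308 := ded_43_1 (flp_h L172554) (flp_e L171168) L248456
theorem L248462 : sm gf N29308 = N20143 := ded_47_1 (flp_h L171182) (flp_f L171170) L248456
theorem L248464 : sm gj N29308 = N20142 := ded_52_1 (flp_h L171172) L171163 L248456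
theorem L248466 : sm gd N20142 = N29309 := rfl
theorem L248468 : sm gb N29309 = N20151 := ded_20_1 (flp_d L171247) (flp_b L171174) L248466
theorem L248470 : sm gf N29309 = N20144 := ded_35_2 (flp_d L171190) (flp_f L171178) L248466
theorem L248472 : sm gg N29309 = N21370 := ded_36_2 (flp_d L181654) (flp_g L171180) L248466
theorem L248474 : sm gh N29309 = N29309 := ded_38_2 (flp_d L248466) (flp_h L171172) L118056 L171172 L248466
theorem L248475 : sm gi N20142 = N29310 := rfl
theorem L248477 : sm gb N29310 = N20152 := ded_26_1 (flp_i L171255) (flp_b L171174) L248475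
theorem L248479 : sm ge N29310 = N20310 := ded_44_1 (flp_i L172572) (flp_e L171176) L248475
theorem L248481 : sm gf N29310 = N20145 := ded_48_1 (flp_i L171198) (flp_f L171178) L248475
theorem L248483 : sm gg N29310 = N21371 := ded_51_1 (flp_i L181661) (flp_g L171180) L248475
theorem L248485 : sm gd N20143 = N29311 := rfl
theorem L248487 : sm gb N29311 = N20153 := ded_20_1 (flp_d L171264) (flp_b L171184) L248485
theorem L248489 : sm gj N29311 = N20144 := ded_37_2 (flp_d L171190) (flp_j L171188) L248485
theorem L248491 : sm ge N29311 = N29311 := ded_34_2 (flp_d L248485) L171186 L118100 (flp_e L171186) L248485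
theorem L248492 : sm gh N29311 = N29311 := ded_38_2 (flp_d L248485) (flp_h L171182) L118065 L171182 L248485
theorem L248493 : sm gi N20143 = N29312 := rfl
theorem L248495 : sm gb N29312 = N20154 := ded_26_1 (flp_i L171271) (flp_b L171184) L248493
theorem L248497 : sm ge N29312 = N20148 := ded_44_1 (flp_i L171221) (flp_e L171186) L248493
theorem L248499 : sm gj N29312 = N20145 := ded_53_1 (flp_i L171198) (flp_j L171188) L248493
theorem L248501 : sm gc N20144 = N29313 := rfl
theorem L248503 : sm ge N29313 = N29313 := ded_28_2 (flp_c L248501) L171196 L248501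
theorem L248504 : sm gg N29313 = N20146 := ded_30_2 (flp_c L171206) (flp_g L171194) L248501
theorem L248506 : sm gh N29313 = N29313 := ded_32_2 (flp_c L248501) L171197 L248501
theorem L248507 : sm gi N20144 = N29314 := rfl
theorem L248509 : sm gb N29314 = N20156 := ded_26_1 (flp_i L171285) (flp_b L171192) L248507
theorem L248511 : sm gd N29314 = N20145 := ded_39_1 (flp_i L171198) L171190 L248507
theorem L248513 : sm ge N29314 = N29314 := ded_44_1 (flp_i L248507) L171196 L248507
theorem L248514 : sm gg N29314 = N20147 := ded_51_1 (flp_i L171212) (flp_g L171194) L248507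
theorem L248516 : sm gb N20146 = N29315 := rfl
theorem L248518 : sm ge N29315 = N29315 := ded_21_2 (flp_b L248516) L171208 L248516
theorem L248519 : sm gf N29315 = N21376 := ded_22_2 (flp_b L181703) (flp_f L171209) L248516
theorem L248521 : sm gh N29315 = N29315 := ded_25_2 (flp_b L248516) L171211 L248516
theorem L248522 : sm gc N29315 = N20157 := ded_19_2 (flp_b L171293) (flp_c L118148) (flp_b L118078) L171206 L248516
theorem L248524 : sm gi N20146 = N29316 := rfl
theorem L248526 : sm gc N29316 = N20147 := ded_33_1 (flp_i L171212) L171206 L248524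
theorem L248528 : sm ge N29316 = N29316 := ded_44_1 (flp_i L248524) L171208 L248524
theorem L248529 : sm gf N29316 = N21377 := ded_48_1 (flp_i L181710) (flp_f L171209) L248524
theorem L248531 : sm gh N20147 = N29317 := rfl
theorem L248533 : sm gb N29317 = N20159 := ded_25_1 (flp_h L171307) (flp_b L171214) L248531
theorem L248535 : sm ge N29317 = N29317 := ded_43_1 (flp_h L248531) L171218 L248531
theorem L248536 : sm gf N29317 = N21378 := ded_47_1 (flp_h L181716) (flp_f L171219) L248531
theorem L248538 : sm gi N29317 = N29317 := ded_54_2 (flp_h L248531) (flp_i L171212) L118083 L171212 L248531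
theorem L248539 : sm gh N20149 = N29318 := rfl
theorem L248541 : sm ga N29318 = N29318 := ded_17_1 (flp_h L248539) L171232 L248539
theorem L248542 : sm ge N29318 = N20318 := ded_43_1 (flp_h L172643) (flp_e L171234) L248539
theorem L248544 : sm gg N29318 = N20150 := ded_50_1 (flp_h L171238) L171230 L248539
theorem L248546 : sm gj N29318 = N21379 := ded_52_1 (flp_h L181723) (flp_j L171236) L248539
theorem L248548 : sm gd N20150 = N29319 := rfl
theorem L248550 : sm ga N29319 = N29319 := ded_12_1 (flp_d L248548) L171240 L248548
theorem L248551 : sm gf N29319 = N20153 := ded_35_2 (flp_d L171264) (flp_f L171243) L248548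
theorem L248553 : sm gj N29319 = N20151 := ded_37_2 (flp_d L171247) (flp_j L171245) L248548
theorem L248555 : sm gh N29319 = N29319 := ded_38_2 (flp_d L248548) (flp_h L171238) L118113 L171238 L248548
theorem L248556 : sm gi N20150 = N29320 := rfl
theorem L248558 : sm ga N29320 = N29320 := ded_18_1 (flp_i L248556) L171240 L248556
theorem L248559 : sm ge N29320 = N20320 := ded_44_1 (flp_i L172660) (flp_e L171241) L248556
theorem L248561 : sm gf N29320 = N20154 := ded_48_1 (flp_i L171271) (flp_f L171243) L248556
theorem L248563 : sm gj N29320 = N20152 := ded_53_1 (flp_i L171255) (flp_j L171245) L248556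
theorem L248565 : sm gc N20151 = N29321 := rfl
theorem L248567 : sm ga N29321 = N29321 := ded_11_1 (flp_c L248565) L171249 L248565
theorem L248568 : sm gf N29321 = N20155 := ded_29_2 (flp_c L171278) (flp_f L171250) L248565
theorem L248570 : sm gg N29321 = N21382 := ded_30_2 (flp_c L181747) (flp_g L171252) L248565
theorem L248572 : sm gh N29321 = N29321 := ded_32_2 (flp_c L248565) L171254 L248565
theorem L248573 : sm ge N20151 = N29322 := rfl
theorem L248575 : sm ga N29322 = N29322 := ded_13_1 (flp_e L248573) L171249 L248573
theorem L248576 : sm gg N29322 = N21383 := ded_41_2 (flp_e L181753) (flp_g L171252) L248573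
theorem L248578 : sm gh N29322 = N29322 := ded_43_2 (flp_e L248573) L171254 L248573
theorem L248579 : sm gd N29322 = N20322 := ded_34_1 (flp_e L172676) (flp_d L119062) (flp_e L118121) L171247 L248573
theorem L248581 : sm gf N29322 = N29322 := ded_40_2 (flp_e L248573) L171250 L118139 (flp_f L171250) L248573
theorem L248582 : sm gi N20151 = N29323 := rfl
theorem L248584 : sm ga N29323 = N29323 := ded_18_1 (flp_i L248582) L171249 L248582
theorem L248585 : sm gd N29323 = N20152 := ded_39_1 (flp_i L171255) L171247 L248582
theorem L248587 : sm gf N29323 = N20156 := ded_48_1 (flp_i L171285) (flp_f L171250) L248582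
theorem L248589 : sm gg N29323 = N21384 := ded_51_1 (flp_i L181761) (flp_g L171252) L248582
theorem L248591 : sm gc N20153 = N29324 := rfl
theorem L248595 : sm gj N29324 = N20155 := ded_31_2 (flp_c L171278) (flp_j L171267) L248591
theorem L248598 : sm gi N20153 = N29325 := rfl
theorem L248600 : sm ga N29325 = N29325 := ded_18_1 (flp_i L248598) L171266 L248598
theorem L248601 : sm gd N29325 = N20154 := ded_39_1 (flp_i L171271) L171264 L248598
theorem L248603 : sm ge N29325 = N29325 := ded_44_1 (flp_i L248598) L171269 L248598
theorem L248604 : sm gj N29325 = N20156 := ded_53_1 (flp_i L171285) (flp_j L171267) L248598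
theorem L248606 : sm gb N20155 = N29326 := rfl
theorem L248608 : sm ge N29326 = N29326 := ded_21_2 (flp_b L248606) L171281 L248606
theorem L248609 : sm gg N29326 = N20157 := ded_23_2 (flp_b L171293) (flp_g L171282) L248606
theorem L248611 : sm gh N29326 = N29326 := ded_25_2 (flp_b L248606) L171284 L248606
theorem L248612 : sm gi N20155 = N29327 := rfl
theorem L248614 : sm ga N29327 = N29327 := ded_18_1 (flp_i L248612) L171280 L248612
theorem L248615 : sm gc N29327 = N20156 := ded_33_1 (flp_i L171285) L171278 L248612
theorem L248617 : sm ge N29327 = N29327 := ded_44_1 (flp_i L248612) L171281 L248612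
theorem L248618 : sm gg N29327 = N20158 := ded_51_1 (flp_i L171299) (flp_g L171282) L248612
theorem L248620 : sm gh N20156 = N29328 := rfl
theorem L248622 : sm ga N29328 = N29328 := ded_17_1 (flp_h L248620) L171287 L248620
theorem L248623 : sm ge N29328 = N29328 := ded_43_1 (flp_h L248620) L171290 L248620
theorem L248624 : sm gg N29328 = N20159 := ded_50_1 (flp_h L171307) (flp_g L171291) L248620
theorem L248626 : sm gi N29328 = N29328 := ded_54_2 (flp_h L248620) (flp_i L171285) L118140 L171285 L248620
theorem L248627 : sm ga N20157 = N29329 := rfl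
theorem L248629 : sm ge N29329 = N29329 := ded_13_2 (flp_a L248627) L171295 L248627
theorem L248630 : sm gf N29329 = N21390 := ded_14_2 (flp_a L181809) (flp_f L171296) L248627
theorem L248632 : sm gh N29329 = N29329 := ded_17_2 (flp_a L248627) L171298 L248627
theorem L248633 : sm gb N29329 = N29329 := ded_10_2 (flp_a L248627) (flp_b L171293) L118150 L171293 L248627
theorem L248634 : sm gi N20157 = N29330 := rfl
theorem L248636 : sm gb N29330 = N20158 := ded_26_1 (flp_i L171299) L171293 L248634
theorem L248638 : sm ge N29330 = N29330 := ded_44_1 (flp_i L248634) L171295 L248634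
theorem L248639 : sm gf N29330 = N21391 := ded_48_1 (flp_i L181815) (flp_f L171296) L248634
theorem L248641 : sm gh N20158 = N29331 := rfl
theorem L248643 : sm ga N29331 = N29331 := ded_17_1 (flp_h L248641) L171301 L248641
theorem L248644 : sm gc N29331 = N20159 := ded_32_1 (flp_h L171307) (flp_c L171302) L248641
theorem L248646 : sm ge N29331 = N29331 := ded_43_1 (flp_h L248641) L171304 L248641
theorem L248647 : sm gf N29331 = N21392 := ded_47_1 (flp_h L181821) (flp_f L171305) L248641
theorem L248649 : sm gi N29331 = N29331 := ded_54_2 (flp_h L248641) (flp_i L171299) L118154 L171299 L248641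
theorem L248659 : sm gg N20160 = N29333 := rfl
theorem L248662 : sm gb N29333 = N20163 := ded_23_1 (flp_g L171340) (flp_b L171317) L248659
theorem L248667 : sm gh N20160 = N29334 := rfl
theorem L248669 : sm ga N29334 = N29334 := ded_17_1 (flp_h L248667) L171316 L248667
theorem L248670 : sm gb N29334 = N20164 := ded_25_1 (flp_h L171348) (flp_b L171317) L248667
theorem L248672 : sm gc N29334 = N29334 := ded_32_1 (flp_h L248667) L171319 L248667
theorem L248673 : sm gf N29334 = N20161 := ded_47_1 (flp_h L171323) L171314 L248667
theorem L248675 : sm gj N29334 = N29334 := ded_52_1 (flp_h L248667) L171321 L248667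
theorem L248676 : sm gd N20161 = N29335 := rfl
theorem L248678 : sm ga N29335 = N29335 := ded_12_1 (flp_d L248676) L171325 L248676
theorem L248679 : sm gb N29335 = N20165 := ded_20_1 (flp_d L171357) (flp_b L171326) L248676
theorem L248681 : sm gj N29335 = N29335 := ded_37_2 (flp_d L248676) L171330 L248676
theorem L248682 : sm gh N29335 = N29335 := ded_38_2 (flp_d L248676) (flp_h L171323) L118173 L171323 L248676
theorem L248683 : sm gi N20161 = N29336 := rfl
theorem L248685 : sm ga N29336 = N29336 := ded_18_1 (flp_i L248683) L171325 L248683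
theorem L248686 : sm gb N29336 = N20166 := ded_26_1 (flp_i L171365) (flp_b L171326) L248683
theorem L248688 : sm gc N29336 = N29336 := ded_33_1 (flp_i L248683) L171328 L248683
theorem L248689 : sm ge N29336 = N29336 := ded_44_1 (flp_i L248683) L171329 L248683
theorem L248690 : sm gj N29336 = N29336 := ded_53_1 (flp_i L248683) L171330 L248683
theorem L248691 : sm gh N29336 = N29336 := ded_54_1 (flp_i L248683) (flp_h L171323) L118176 L171323 L248683
theorem L248692 : sm gd N20162 = N29337 := rfl
theorem L248694 : sm ga N29337 = N20172 := ded_12_1 (flp_d L171422) (flp_a L171333) L248692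
theorem L248699 : sm gc N29337 = N20373 := ded_27_1 (flp_d L173132) L119385 (flp_d L118203) (flp_c L171335) L248692
theorem L248702 : sm gg N20162 = N29338 := rfl
theorem L248704 : sm ga N29338 = N20173 := ded_15_1 (flp_g L171431) (flp_a L171333) L248702
theorem L248706 : sm gc N29338 = N20167 := ded_30_1 (flp_g L171374) (flp_c L171335) L248702
theorem L248711 : sm gh N20162 = N29339 := rfl
theorem L248713 : sm ga N29339 = N20174 := ded_17_1 (flp_h L171439) (flp_a L171333) L248711
theorem L248715 : sm gc N29339 = N20168 := ded_32_1 (flp_h L171384) (flp_c L171335) L248711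
theorem L248717 : sm ge N29339 = N20164 := ded_43_1 (flp_h L171348) L171331 L248711
theorem L248721 : sm gj N20163 = N29340 := rfl
theorem L248723 : sm ga N29340 = N20175 := ded_16_1 (flp_j L171448) (flp_a L171342) L248721
theorem L248725 : sm gc N29340 = N20169 := ded_31_1 (flp_j L171393) (flp_c L171344) L248721
theorem L248730 : sm gh N20163 = N29341 := rfl
theorem L248732 : sm ga N29341 = N20176 := ded_17_1 (flp_h L171456) (flp_a L171342) L248730
theorem L248734 : sm gc N29341 = N20170 := ded_32_1 (flp_h L171402) (flp_c L171344) L248730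
theorem L248736 : sm gg N29341 = N20164 := ded_50_1 (flp_h L171348) L171340 L248730
theorem L248738 : sm gd N20164 = N29342 := rfl
theorem L248740 : sm ga N29342 = N20177 := ded_12_1 (flp_d L171463) (flp_a L171350) L248738
theorem L248742 : sm gf N29342 = N20165 := ded_35_2 (flp_d L171357) (flp_f L171354) L248738
theorem L248744 : sm gj N29342 = N29342 := ded_37_2 (flp_d L248738) L171356 L248738
theorem L248745 : sm gc N29342 = N20206 := ded_27_1 (flp_d L171725) L118430 (flp_d L118222) (flp_c L171352) L248738
theorem L248747 : sm gh N29342 = N29342 := ded_38_2 (flp_d L248738) (flp_h L171348) L118185 L171348 L248738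
theorem L248748 : sm gi N20164 = N29343 := rfl
theorem L248750 : sm ga N29343 = N20178 := ded_18_1 (flp_i L171472) (flp_a L171350) L248748
theorem L248752 : sm gc N29343 = N20171 := ded_33_1 (flp_i L171411) (flp_c L171352) L248748
theorem L248754 : sm gf N29343 = N20166 := ded_48_1 (flp_i L171365) (flp_f L171354) L248748
theorem L248756 : sm gj N29343 = N29343 := ded_53_1 (flp_i L248748) L171356 L248748
theorem L248757 : sm gh N29343 = N29343 := ded_54_1 (flp_i L248748) (flp_h L171348) L118187 L171348 L248748
theorem L248758 : sm ge N20165 = N29344 := rfl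
theorem L248760 : sm ga N29344 = N20179 := ded_13_1 (flp_e L171481) (flp_a L171359) L248758
theorem L248762 : sm gc N29344 = N20208 := ded_28_1 (flp_e L171744) (flp_c L171362) L248758
theorem L248767 : sm gi N20165 = N29345 := rfl
theorem L248769 : sm ga N29345 = N20180 := ded_18_1 (flp_i L171489) (flp_a L171359) L248767
theorem L248771 : sm gc N29345 = N20209 := ded_33_1 (flp_i L171752) (flp_c L171362) L248767
theorem L248773 : sm gd N29345 = N20166 := ded_39_1 (flp_i L171365) L171357 L248767
theorem L248775 : sm gj N29345 = N29345 := ded_53_1 (flp_i L248767) L171361 L248767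
theorem L248776 : sm gf N20167 = N29346 := rfl
theorem L248778 : sm ga N29346 = N20181 := ded_14_1 (flp_f L171497) (flp_a L171376) L248776
theorem L248781 : sm gd N29346 = N20382 := ded_35_1 (flp_f L173218) (flp_d L171379) L248776
theorem L248785 : sm gj N20167 = N29347 := rfl
theorem L248787 : sm ga N29347 = N20182 := ded_16_1 (flp_j L171505) (flp_a L171376) L248785
theorem L248796 : sm gh N20167 = N29348 := rfl
theorem L248801 : sm ge N29348 = N20170 := ded_43_1 (flp_h L171402) (flp_e L171381) L248796
theorem L248816 : sm gi N20168 = N29350 := rfl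
theorem L248818 : sm ga N29350 = N20185 := ded_18_1 (flp_i L171533) (flp_a L171386) L248816
theorem L248821 : sm ge N29350 = N20171 := ded_44_1 (flp_i L171411) (flp_e L171389) L248816
theorem L248826 : sm gh N20169 = N29351 := rfl
theorem L248828 : sm ga N29351 = N20186 := ded_17_1 (flp_h L171542) (flp_a L171395) L248826
theorem L248830 : sm gb N29351 = N29351 := ded_25_1 (flp_h L248826) L171397 L248826
theorem L248831 : sm gg N29351 = N29351 := ded_50_1 (flp_h L248826) L171401 L248826
theorem L248832 : sm gj N29351 = N20170 := ded_52_1 (flp_h L171402) L171393 L248826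
theorem L248834 : sm gd N29351 = N20215 := ded_38_1 (flp_h L171813) L118478 (flp_h L118242) (flp_d L171398) L248826
theorem L248836 : sm gi N20170 = N29352 := rfl
theorem L248838 : sm ga N29352 = N20187 := ded_18_1 (flp_i L171551) (flp_a L171404) L248836
theorem L248840 : sm gb N29352 = N29352 := ded_26_1 (flp_i L248836) L171406 L248836
theorem L248841 : sm gd N29352 = N20216 := ded_39_1 (flp_i L171821) (flp_d L171409) L248836
theorem L248843 : sm gg N29352 = N20171 := ded_51_1 (flp_i L171411) (flp_g L171407) L248836
theorem L248845 : sm gh N29352 = N29352 := ded_54_1 (flp_i L248836) (flp_h L171402) L118213 L171402 L248836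
theorem L248846 : sm gg N20172 = N29353 := rfl
theorem L248849 : sm gc N29353 = N20389 := ded_30_1 (flp_g L173285) (flp_c L171428) L248846
theorem L248851 : sm gd N29353 = N20173 := ded_36_1 (flp_g L171431) L171422 L248846
theorem L248855 : sm gh N20172 = N29354 := rfl
theorem L248863 : sm gf N20173 = N29355 := rfl
theorem L248866 : sm gc N29355 = N20181 := ded_29_1 (flp_f L171497) (flp_c L171434) L248863
theorem L248870 : sm gj N20173 = N29356 := rfl
theorem L248873 : sm gc N29356 = N20182 := ded_31_1 (flp_j L171505) (flp_c L171434) L248870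
theorem L248875 : sm ge N29356 = N20175 := ded_42_1 (flp_j L171448) (flp_e L171436) L248870
theorem L248879 : sm gh N20173 = N29357 := rfl
theorem L248881 : sm gb N29357 = N29357 := ded_25_1 (flp_h L248879) L171433 L248879
theorem L248882 : sm gc N29357 = N20183 := ded_32_1 (flp_h L171515) (flp_c L171434) L248879
theorem L248884 : sm ge N29357 = N20176 := ded_43_1 (flp_h L171456) (flp_e L171436) L248879
theorem L248886 : sm gg N29357 = N20174 := ded_50_1 (flp_h L171439) L171431 L248879
theorem L248888 : sm gd N20174 = N29358 := rfl
theorem L248890 : sm gb N29358 = N29358 := ded_20_1 (flp_d L248888) L171441 L248888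
theorem L248891 : sm gf N29358 = N29358 := ded_35_2 (flp_d L248888) L171446 L248888
theorem L248892 : sm gj N29358 = N29358 := ded_37_2 (flp_d L248888) L171447 L248888
theorem L248893 : sm gi N20174 = N29359 := rfl
theorem L248895 : sm gb N29359 = N29359 := ded_26_1 (flp_i L248893) L171441 L248893
theorem L248896 : sm gc N29359 = N20185 := ded_33_1 (flp_i L171533) (flp_c L171442) L248893
theorem L248898 : sm ge N29359 = N20178 := ded_44_1 (flp_i L171472) (flp_e L171444) L248893
theorem L248900 : sm gf N29359 = N29359 := ded_48_1 (flp_i L248893) L171446 L248893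
theorem L248901 : sm gj N29359 = N29359 := ded_53_1 (flp_i L248893) L171447 L248893
theorem L248902 : sm gh N29359 = N29359 := ded_54_1 (flp_i L248893) (flp_h L171439) L118252 L171439 L248893
theorem L248903 : sm gh N20175 = N29360 := rfl
theorem L248905 : sm gb N29360 = N29360 := ded_25_1 (flp_h L248903) L171450 L248903
theorem L248906 : sm gc N29360 = N20186 := ded_32_1 (flp_h L171542) (flp_c L171451) L248903
theorem L248908 : sm gg N29360 = N29360 := ded_50_1 (flp_h L248903) L171455 L248903
theorem L248909 : sm gj N29360 = N20176 := ded_52_1 (flp_h L171456) L171448 L248903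
theorem L248911 : sm gd N20176 = N29361 := rfl
theorem L248913 : sm gb N29361 = N29361 := ded_20_1 (flp_d L248911) L171458 L248911
theorem L248914 : sm gg N29361 = N20177 := ded_36_2 (flp_d L171463) (flp_g L171461) L248911
theorem L248916 : sm gc N29361 = N20225 := ded_27_1 (flp_d L171895) L118537 (flp_d L118315) (flp_c L171459) L248911
theorem L248918 : sm gh N29361 = N29361 := ded_38_2 (flp_d L248911) (flp_h L171456) L118259 L171456 L248911
theorem L248919 : sm gi N20176 = N29362 := rfl
theorem L248921 : sm gb N29362 = N29362 := ded_26_1 (flp_i L248919) L171458 L248919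
theorem L248922 : sm gc N29362 = N20187 := ded_33_1 (flp_i L171551) (flp_c L171459) L248919
theorem L248924 : sm gg N29362 = N20178 := ded_51_1 (flp_i L171472) (flp_g L171461) L248919
theorem L248926 : sm gh N29362 = N29362 := ded_54_1 (flp_i L248919) (flp_h L171456) L118260 L171456 L248919
theorem L248927 : sm ge N20177 = N29363 := rfl
theorem L248929 : sm gb N29363 = N29363 := ded_21_1 (flp_e L248927) L171465 L248927
theorem L248930 : sm gc N29363 = N20227 := ded_28_1 (flp_e L171908) (flp_c L171469) L248927
theorem L248932 : sm gj N29363 = N29363 := ded_42_2 (flp_e L248927) L171468 L248927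
theorem L248933 : sm gh N29363 = N29363 := ded_43_2 (flp_e L248927) L171471 L248927
theorem L248934 : sm gi N20177 = N29364 := rfl
theorem L248936 : sm gb N29364 = N29364 := ded_26_1 (flp_i L248934) L171465 L248934
theorem L248937 : sm gc N29364 = N20228 := ded_33_1 (flp_i L171912) (flp_c L171469) L248934
theorem L248939 : sm gd N29364 = N20178 := ded_39_1 (flp_i L171472) L171463 L248934
theorem L248941 : sm gf N29364 = N20180 := ded_48_1 (flp_i L171489) (flp_f L171466) L248934
theorem L248943 : sm gj N29364 = N29364 := ded_53_1 (flp_i L248934) L171468 L248934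
theorem L248944 : sm gf N20179 = N29365 := rfl
theorem L248946 : sm gb N29365 = N29365 := ded_22_1 (flp_f L248944) L171483 L248944
theorem L248947 : sm gc N29365 = N20229 := ded_29_1 (flp_f L171919) (flp_c L171484) L248944
theorem L248949 : sm gd N29365 = N29365 := ded_35_1 (flp_f L248944) L171488 L248944
theorem L248950 : sm gj N29365 = N29365 := ded_46_2 (flp_f L248944) L171486 L248944
theorem L248951 : sm gh N29365 = N29365 := ded_47_2 (flp_f L248944) L171487 L248944
theorem L248952 : sm gi N20179 = N29366 := rfl
theorem L248954 : sm gb N29366 = N29366 := ded_26_1 (flp_i L248952) L171483 L248952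
theorem L248955 : sm gc N29366 = N20230 := ded_33_1 (flp_i L171925) (flp_c L171484) L248952
theorem L248957 : sm gd N29366 = N29366 := ded_39_1 (flp_i L248952) L171488 L248952
theorem L248958 : sm ge N29366 = N20180 := ded_44_1 (flp_i L171489) L171481 L248952
theorem L248960 : sm gj N29366 = N29366 := ded_53_1 (flp_i L248952) L171486 L248952
theorem L248961 : sm gh N20180 = N29367 := rfl
theorem L248963 : sm gb N29367 = N29367 := ded_25_1 (flp_h L248961) L171491 L248961
theorem L248964 : sm gc N29367 = N20231 := ded_32_1 (flp_h L171932) (flp_c L171492) L248961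
theorem L248966 : sm gj N29367 = N29367 := ded_52_1 (flp_h L248961) L171496 L248961
theorem L248967 : sm gd N29367 = N29367 := ded_38_1 (flp_h L248961) L171494 L118283 (flp_d L171494) L248961
theorem L248968 : sm gi N29367 = N29367 := ded_54_2 (flp_h L248961) (flp_i L171489) L118275 L171489 L248961
theorem L248969 : sm gj N20181 = N29368 := rfl
theorem L248971 : sm gb N29368 = N20188 := ded_24_1 (flp_j L171560) (flp_b L171499) L248969
theorem L248973 : sm gd N29368 = N20404 := ded_37_1 (flp_j L173395) (flp_d L171501) L248969
theorem L248978 : sm gh N20181 = N29369 := rfl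
theorem L248980 : sm gb N29369 = N20189 := ded_25_1 (flp_h L171569) (flp_b L171499) L248978
theorem L248982 : sm gf N29369 = N20183 := ded_47_1 (flp_h L171515) L171497 L248978
theorem L248984 : sm gg N29369 = N29369 := ded_50_1 (flp_h L248978) L171504 L248978
theorem L248985 : sm gh N20182 = N29370 := rfl
theorem L248987 : sm gb N29370 = N20190 := ded_25_1 (flp_h L171576) (flp_b L171507) L248985
theorem L248989 : sm ge N29370 = N20186 := ded_43_1 (flp_h L171542) (flp_e L171511) L248985
theorem L248991 : sm gg N29370 = N29370 := ded_50_1 (flp_h L248985) L171514 L248985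
theorem L248992 : sm gj N29370 = N20183 := ded_52_1 (flp_h L171515) L171505 L248985
theorem L248994 : sm gd N20183 = N29371 := rfl
theorem L248996 : sm gb N29371 = N20191 := ded_20_1 (flp_d L171585) (flp_b L171517) L248994
theorem L248998 : sm gg N29371 = N20184 := ded_36_2 (flp_d L171523) (flp_g L171521) L248994
theorem L249000 : sm ge N29371 = N20235 := ded_34_2 (flp_d L171965) L118592 (flp_d L118315) (flp_e L171519) L248994
theorem L249002 : sm gh N29371 = N20407 := ded_38_2 (flp_d L173420) (flp_h L119558) (flp_d L118288) L171515 L248994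
theorem L249004 : sm gi N20183 = N29372 := rfl
theorem L249006 : sm gb N29372 = N20192 := ded_26_1 (flp_i L171594) (flp_b L171517) L249004
theorem L249008 : sm ge N29372 = N20187 := ded_44_1 (flp_i L171551) (flp_e L171519) L249004
theorem L249010 : sm gg N29372 = N20185 := ded_51_1 (flp_i L171533) (flp_g L171521) L249004
theorem L249012 : sm gh N29372 = N29372 := ded_54_1 (flp_i L249004) (flp_h L171515) L118292 L171515 L249004
theorem L249013 : sm gc N20184 = N29373 := rfl
theorem L249015 : sm ge N29373 = N20237 := ded_28_2 (flp_c L171983) (flp_e L171529) L249013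
theorem L249019 : sm gh N29373 = N20409 := ded_32_2 (flp_c L173437) (flp_h L171531) L249013
theorem L249021 : sm gi N20184 = N29374 := rfl
theorem L249023 : sm gb N29374 = N20194 := ded_26_1 (flp_i L171613) (flp_b L171525) L249021
theorem L249025 : sm gd N29374 = N20185 := ded_39_1 (flp_i L171533) L171523 L249021
theorem L249031 : sm gi N20186 = N29375 := rfl
theorem L249033 : sm gb N29375 = N20195 := ded_26_1 (flp_i L171622) (flp_b L171544) L249031
theorem L249035 : sm gd N29375 = N20239 := ded_39_1 (flp_i L171999) (flp_d L171549) L249031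
theorem L249037 : sm gg N29375 = N29375 := ded_51_1 (flp_i L249031) L171546 L249031
theorem L249038 : sm gj N29375 = N20187 := ded_53_1 (flp_i L171551) (flp_j L171547) L249031
theorem L249040 : sm gh N29375 = N29375 := ded_54_1 (flp_i L249031) (flp_h L171542) L118307 L171542 L249031
theorem L249041 : sm gg N20188 = N29376 := rfl
theorem L249045 : sm gd N29376 = N20412 := ded_36_1 (flp_g L173464) (flp_d L171564) L249041
theorem L249050 : sm gh N20188 = N29377 := rfl
theorem L249052 : sm ga N29377 = N29377 := ded_17_1 (flp_h L249050) L171562 L249050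
theorem L249053 : sm gc N29377 = N29377 := ded_32_1 (flp_h L249050) L171563 L249050
theorem L249054 : sm gf N29377 = N20190 := ded_47_1 (flp_h L171576) (flp_f L171566) L249050
theorem L249056 : sm gj N29377 = N20189 := ded_52_1 (flp_h L171569) L171560 L249050
theorem L249058 : sm gd N20189 = N29378 := rfl
theorem L249060 : sm ga N29378 = N29378 := ded_12_1 (flp_d L249058) L171571 L249058
theorem L249061 : sm gf N29378 = N20191 := ded_35_2 (flp_d L171585) (flp_f L171573) L249058
theorem L249063 : sm gg N29378 = N29378 := ded_36_2 (flp_d L249058) L171575 L249058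
theorem L249064 : sm gh N29378 = N20414 := ded_38_2 (flp_d L173479) (flp_h L119610) (flp_d L118331) L171569 L249058
theorem L249066 : sm gi N20189 = N29379 := rfl
theorem L249068 : sm ga N29379 = N29379 := ded_18_1 (flp_i L249066) L171571 L249066
theorem L249069 : sm gc N29379 = N29379 := ded_33_1 (flp_i L249066) L171572 L249066
theorem L249070 : sm gf N29379 = N20192 := ded_48_1 (flp_i L171594) (flp_f L171573) L249066
theorem L249072 : sm gg N29379 = N29379 := ded_51_1 (flp_i L249066) L171575 L249066
theorem L249073 : sm gh N29379 = N29379 := ded_54_1 (flp_i L249066) (flp_h L171569) L118333 L171569 L249066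
theorem L249074 : sm gd N20190 = N29380 := rfl
theorem L249076 : sm ga N29380 = N29380 := ded_12_1 (flp_d L249074) L171578 L249074
theorem L249077 : sm gg N29380 = N29380 := ded_36_2 (flp_d L249074) L171582 L249074
theorem L249078 : sm gj N29380 = N20191 := ded_37_2 (flp_d L171585) (flp_j L171583) L249074
theorem L249080 : sm ge N29380 = N20244 := ded_34_2 (flp_d L172043) L118650 (flp_d L118378) (flp_e L171580) L249074
theorem L249082 : sm gh N29380 = N20416 := ded_38_2 (flp_d L173493) (flp_h L119617) (flp_d L118339) L171576 L249074
theorem L249084 : sm gi N20190 = N29381 := rfl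
theorem L249086 : sm ga N29381 = N29381 := ded_18_1 (flp_i L249084) L171578 L249084
theorem L249087 : sm gc N29381 = N29381 := ded_33_1 (flp_i L249084) L171579 L249084
theorem L249088 : sm ge N29381 = N20195 := ded_44_1 (flp_i L171622) (flp_e L171580) L249084
theorem L249090 : sm gg N29381 = N29381 := ded_51_1 (flp_i L249084) L171582 L249084
theorem L249091 : sm gj N29381 = N20192 := ded_53_1 (flp_i L171594) (flp_j L171583) L249084
theorem L249093 : sm gh N29381 = N29381 := ded_54_1 (flp_i L249084) (flp_h L171576) L118343 L171576 L249084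
theorem L249094 : sm gc N20191 = N29382 := rfl
theorem L249096 : sm ga N29382 = N29382 := ded_11_1 (flp_c L249094) L171587 L249094
theorem L249097 : sm ge N29382 = N20246 := ded_28_2 (flp_c L172061) (flp_e L171590) L249094
theorem L249099 : sm gg N29382 = N20193 := ded_30_2 (flp_c L171603) (flp_g L171588) L249094
theorem L249101 : sm gh N29382 = N20418 := ded_32_2 (flp_c L173510) (flp_h L171592) L249094
theorem L249103 : sm gd N29382 = N29382 := ded_27_2 (flp_c L249094) (flp_d L171585) L118348 L171585 L249094
theorem L249104 : sm gi N20191 = N29383 := rfl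
theorem L249106 : sm ga N29383 = N29383 := ded_18_1 (flp_i L249104) L171587 L249104
theorem L249107 : sm gd N29383 = N20192 := ded_39_1 (flp_i L171594) L171585 L249104
theorem L249109 : sm ge N29383 = N20247 := ded_44_1 (flp_i L172068) (flp_e L171590) L249104
theorem L249111 : sm gg N29383 = N20194 := ded_51_1 (flp_i L171613) (flp_g L171588) L249104
theorem L249113 : sm gb N20193 = N29384 := rfl
theorem L249115 : sm gd N29384 = N29384 := ded_20_2 (flp_b L249113) L171612 L249113
theorem L249116 : sm ge N29384 = N20248 := ded_21_2 (flp_b L172075) (flp_e L171606) L249113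
theorem L249118 : sm gf N29384 = N29384 := ded_22_2 (flp_b L249113) L171608 L249113
theorem L249119 : sm gj N29384 = N29384 := ded_24_2 (flp_b L249113) L171609 L249113
theorem L249120 : sm gh N29384 = N20420 := ded_25_2 (flp_b L173526) (flp_h L171610) L249113
theorem L249122 : sm gi N20193 = N29385 := rfl
theorem L249124 : sm ga N29385 = N29385 := ded_18_1 (flp_i L249122) L171605 L249122
theorem L249125 : sm gc N29385 = N20194 := ded_33_1 (flp_i L171613) L171603 L249122
theorem L249127 : sm gd N29385 = N29385 := ded_39_1 (flp_i L249122) L171612 L249122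
theorem L249128 : sm ge N29385 = N20249 := ded_44_1 (flp_i L172082) (flp_e L171606) L249122
theorem L249130 : sm gf N29385 = N29385 := ded_48_1 (flp_i L249122) L171608 L249122
theorem L249131 : sm gj N29385 = N29385 := ded_53_1 (flp_i L249122) L171609 L249122
theorem L249132 : sm gh N20194 = N29386 := rfl
theorem L249135 : sm ge N29386 = N20250 := ded_43_1 (flp_h L172090) (flp_e L171618) L249132
theorem L249142 : sm gd N20196 = N29387 := rfl
theorem L249149 : sm gi N29387 = N20251 := ded_39_2 (flp_d L172100) (flp_i L171638) L249142
theorem L249152 : sm gg N20196 = N29388 := rfl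
theorem L249154 : sm gb N29388 = N20202 := ded_23_1 (flp_g L171686) (flp_b L171634) L249152
theorem L249156 : sm gc N29388 = N29388 := ded_30_1 (flp_g L249152) L171636 L249152
theorem L249157 : sm ge N29388 = N20197 := ded_41_1 (flp_g L171642) L171632 L249152
theorem L249159 : sm gi N29388 = N20252 := ded_51_2 (flp_g L172108) (flp_i L171638) L249152
theorem L249161 : sm gh N20196 = N29389 := rfl
theorem L249163 : sm gb N29389 = N20203 := ded_25_1 (flp_h L171696) (flp_b L171634) L249161
theorem L249165 : sm gc N29389 = N29389 := ded_32_1 (flp_h L249161) L171636 L249161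
theorem L249166 : sm ge N29389 = N20198 := ded_43_1 (flp_h L171650) L171632 L249161
theorem L249168 : sm gf N29389 = N21395 := ded_47_1 (flp_h L181847) (flp_f L171640) L249161
theorem L249170 : sm gj N29389 = N29389 := ded_52_1 (flp_h L249161) L171637 L249161
theorem L249171 : sm gj N20197 = N29390 := rfl
theorem L249173 : sm gb N29390 = N20204 := ded_24_1 (flp_j L171707) (flp_b L171644) L249171
theorem L249175 : sm gc N29390 = N29390 := ded_31_1 (flp_j L249171) L171646 L249171
theorem L249176 : sm gd N29390 = N29390 := ded_37_1 (flp_j L249171) L171647 L249171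
theorem L249177 : sm gi N29390 = N20254 := ded_53_2 (flp_j L172125) (flp_i L171648) L249171
theorem L249179 : sm gg N29390 = N29390 := ded_49_1 (flp_j L249171) (flp_g L171642) L118395 L171642 L249171
theorem L249180 : sm gh N20197 = N29391 := rfl
theorem L249182 : sm gb N29391 = N20205 := ded_25_1 (flp_h L171717) (flp_b L171644) L249180
theorem L249184 : sm gc N29391 = N29391 := ded_32_1 (flp_h L249180) L171646 L249180
theorem L249185 : sm gg N29391 = N20198 := ded_50_1 (flp_h L171650) L171642 L249180
theorem L249187 : sm gd N20198 = N29392 := rfl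
theorem L249189 : sm gb N29392 = N20206 := ded_20_1 (flp_d L171725) (flp_b L171652) L249187
theorem L249195 : sm gi N20198 = N29393 := rfl
theorem L249197 : sm gb N29393 = N20207 := ded_26_1 (flp_i L171733) (flp_b L171652) L249195
theorem L249199 : sm gc N29393 = N29393 := ded_33_1 (flp_i L249195) L171654 L249195
theorem L249200 : sm gf N29393 = N20200 := ded_48_1 (flp_i L171664) (flp_f L171655) L249195
theorem L249202 : sm gj N29393 = N29393 := ded_53_1 (flp_i L249195) L171657 L249195
theorem L249203 : sm gh N29393 = N20257 := ded_54_1 (flp_i L172147) (flp_h L118709) (flp_i L118396) L171650 L249195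
theorem L249205 : sm gc N20199 = N29394 := rfl
theorem L249218 : sm gi N20199 = N29396 := rfl
theorem L249220 : sm gb N29396 = N20209 := ded_26_1 (flp_i L171752) (flp_b L171660) L249218
theorem L249222 : sm gd N29396 = N20200 := ded_39_1 (flp_i L171664) L171658 L249218
theorem L249225 : sm gg N20201 = N29397 := rfl
theorem L249227 : sm ga N29397 = N20217 := ded_15_1 (flp_g L171830) (flp_a L171676) L249225
theorem L249234 : sm gi N29397 = N20261 := ded_51_2 (flp_g L172176) (flp_i L171681) L249225
theorem L249236 : sm gh N20201 = N29398 := rfl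
theorem L249238 : sm ga N29398 = N20218 := ded_17_1 (flp_h L171839) (flp_a L171676) L249236
theorem L249243 : sm gf N29398 = N21404 := ded_47_1 (flp_h L181924) (flp_f L171678) L249236
theorem L249246 : sm gf N20202 = N29399 := rfl
theorem L249248 : sm ga N29399 = N20219 := ded_14_1 (flp_f L171847) (flp_a L171688) L249246
theorem L249250 : sm gc N29399 = N20210 := ded_29_1 (flp_f L171759) (flp_c L171690) L249246
theorem L249252 : sm gi N29399 = N20263 := ded_48_2 (flp_f L172195) (flp_i L171694) L249246
theorem L249254 : sm gg N29399 = N21405 := ded_45_2 (flp_f L181933) (flp_g L125296) (flp_f L118415) L171686 L249246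
theorem L249256 : sm gj N20202 = N29400 := rfl
theorem L249258 : sm ga N29400 = N20220 := ded_16_1 (flp_j L171855) (flp_a L171688) L249256
theorem L249260 : sm gc N29400 = N20211 := ded_31_1 (flp_j L171770) (flp_c L171690) L249256
theorem L249262 : sm ge N29400 = N20204 := ded_42_1 (flp_j L171707) (flp_e L171692) L249256
theorem L249264 : sm gi N29400 = N20264 := ded_53_2 (flp_j L172203) (flp_i L171694) L249256
theorem L249266 : sm gg N29400 = N29400 := ded_49_1 (flp_j L249256) (flp_g L171686) L118412 L171686 L249256
theorem L249267 : sm gh N20202 = N29401 := rfl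
theorem L249269 : sm ga N29401 = N20221 := ded_17_1 (flp_h L171864) (flp_a L171688) L249267
theorem L249271 : sm gc N29401 = N20212 := ded_32_1 (flp_h L171782) (flp_c L171690) L249267
theorem L249273 : sm ge N29401 = N20205 := ded_43_1 (flp_h L171717) (flp_e L171692) L249267
theorem L249275 : sm gg N29401 = N20203 := ded_50_1 (flp_h L171696) L171686 L249267
theorem L249277 : sm gd N20203 = N29402 := rfl
theorem L249279 : sm ga N29402 = N20222 := ded_12_1 (flp_d L171872) (flp_a L171698) L249277
theorem L249281 : sm gf N29402 = N21408 := ded_35_2 (flp_d L181962) (flp_f L171704) L249277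
theorem L249283 : sm gj N29402 = N29402 := ded_37_2 (flp_d L249277) L171706 L249277
theorem L249284 : sm gi N20203 = N29403 := rfl
theorem L249286 : sm ga N29403 = N20223 := ded_18_1 (flp_i L171877) (flp_a L171698) L249284
theorem L249288 : sm gc N29403 = N20214 := ded_33_1 (flp_i L171801) (flp_c L171700) L249284
theorem L249290 : sm ge N29403 = N20207 := ded_44_1 (flp_i L171733) (flp_e L171702) L249284
theorem L249292 : sm gf N29403 = N21409 := ded_48_1 (flp_i L181967) (flp_f L171704) L249284
theorem L249294 : sm gj N29403 = N29403 := ded_53_1 (flp_i L249284) L171706 L249284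
theorem L249295 : sm gh N29403 = N20267 := ded_54_1 (flp_i L172229) (flp_h L118749) (flp_i L118413) L171696 L249284
theorem L249297 : sm gh N20204 = N29404 := rfl
theorem L249299 : sm ga N29404 = N20224 := ded_17_1 (flp_h L171888) (flp_a L171709) L249297
theorem L249301 : sm gc N29404 = N20215 := ded_32_1 (flp_h L171813) (flp_c L171711) L249297
theorem L249303 : sm gg N29404 = N29404 := ded_50_1 (flp_h L249297) L171716 L249297
theorem L249304 : sm gj N29404 = N20205 := ded_52_1 (flp_h L171717) L171707 L249297
theorem L249306 : sm gd N20205 = N29405 := rfl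
theorem L249308 : sm ga N29405 = N20225 := ded_12_1 (flp_d L171895) (flp_a L171719) L249306
theorem L249310 : sm gg N29405 = N20206 := ded_36_2 (flp_d L171725) (flp_g L171723) L249306
theorem L249312 : sm gh N29405 = N29405 := ded_38_2 (flp_d L249306) (flp_h L171717) L118423 L171717 L249306
theorem L249313 : sm gi N20205 = N29406 := rfl
theorem L249315 : sm ga N29406 = N20226 := ded_18_1 (flp_i L171900) (flp_a L171719) L249313
theorem L249317 : sm gc N29406 = N20216 := ded_33_1 (flp_i L171821) (flp_c L171721) L249313
theorem L249319 : sm gg N29406 = N20207 := ded_51_1 (flp_i L171733) (flp_g L171723) L249313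
theorem L249321 : sm gh N29406 = N20270 := ded_54_1 (flp_i L172257) (flp_h L118768) (flp_i L118424) L171717 L249313
theorem L249323 : sm ge N20206 = N29407 := rfl
theorem L249325 : sm ga N29407 = N20227 := ded_13_1 (flp_e L171908) (flp_a L171727) L249323
theorem L249327 : sm gj N29407 = N29407 := ded_42_2 (flp_e L249323) L171731 L249323
theorem L249328 : sm gh N29407 = N29407 := ded_43_2 (flp_e L249323) L171732 L249323
theorem L249329 : sm gi N20206 = N29408 := rfl
theorem L249331 : sm ga N29408 = N20228 := ded_18_1 (flp_i L171912) (flp_a L171727) L249329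
theorem L249333 : sm gd N29408 = N20207 := ded_39_1 (flp_i L171733) L171725 L249329
theorem L249335 : sm gf N29408 = N20209 := ded_48_1 (flp_i L171752) (flp_f L171729) L249329
theorem L249337 : sm gj N29408 = N29408 := ded_53_1 (flp_i L249329) L171731 L249329
theorem L249338 : sm gf N20208 = N29409 := rfl
theorem L249340 : sm ga N29409 = N20229 := ded_14_1 (flp_f L171919) (flp_a L171746) L249338
theorem L249342 : sm gd N29409 = N21415 := ded_35_1 (flp_f L182024) (flp_d L171750) L249338
theorem L249346 : sm gi N20208 = N29410 := rfl
theorem L249348 : sm ga N29410 = N20230 := ded_18_1 (flp_i L171925) (flp_a L171746) L249346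
theorem L249352 : sm ge N29410 = N20209 := ded_44_1 (flp_i L171752) L171744 L249346
theorem L249355 : sm gh N20209 = N29411 := rfl
theorem L249357 : sm ga N29411 = N20231 := ded_17_1 (flp_h L171932) (flp_a L171754) L249355
theorem L249359 : sm gj N29411 = N29411 := ded_52_1 (flp_h L249355) L171758 L249355
theorem L249360 : sm gd N29411 = N20275 := ded_38_1 (flp_h L172301) L118808 (flp_h L118450) (flp_d L171756) L249355
theorem L249362 : sm gi N29411 = N29411 := ded_54_2 (flp_h L249355) (flp_i L171752) L118440 L171752 L249355
theorem L249363 : sm gj N20210 = N29412 := rfl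
theorem L249365 : sm ga N29412 = N20232 := ded_16_1 (flp_j L171938) (flp_a L171761) L249363
theorem L249367 : sm gb N29412 = N29412 := ded_24_1 (flp_j L249363) L171763 L249363
theorem L249368 : sm gd N29412 = N20448 := ded_37_1 (flp_j L173787) (flp_d L171764) L249363
theorem L249370 : sm gf N29412 = N20211 := ded_46_1 (flp_j L171770) L171759 L249363
theorem L249372 : sm gi N29412 = N20276 := ded_53_2 (flp_j L172308) (flp_i L171766) L249363
theorem L249374 : sm gh N20210 = N29413 := rfl
theorem L249376 : sm ga N29413 = N20233 := ded_17_1 (flp_h L171948) (flp_a L171761) L249374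
theorem L249378 : sm gb N29413 = N29413 := ded_25_1 (flp_h L249374) L171763 L249374
theorem L249379 : sm gf N29413 = N20212 := ded_47_1 (flp_h L171782) L171759 L249374
theorem L249381 : sm gg N29413 = N21419 := ded_50_1 (flp_h L182061) (flp_g L171768) L249374
theorem L249383 : sm gh N20211 = N29414 := rfl
theorem L249385 : sm ga N29414 = N20234 := ded_17_1 (flp_h L171956) (flp_a L171772) L249383
theorem L249387 : sm gb N29414 = N29414 := ded_25_1 (flp_h L249383) L171774 L249383
theorem L249388 : sm ge N29414 = N20215 := ded_43_1 (flp_h L171813) (flp_e L171777) L249383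
theorem L249390 : sm gg N29414 = N29414 := ded_50_1 (flp_h L249383) L171781 L249383
theorem L249391 : sm gj N29414 = N20212 := ded_52_1 (flp_h L171782) L171770 L249383
theorem L249393 : sm gd N20212 = N29415 := rfl
theorem L249395 : sm ga N29415 = N20235 := ded_12_1 (flp_d L171965) (flp_a L171784) L249393
theorem L249398 : sm gg N29415 = N20213 := ded_36_2 (flp_d L171791) (flp_g L171789) L249393
theorem L249400 : sm gh N29415 = N20451 := ded_38_2 (flp_d L173817) (flp_h L119823) (flp_d L118457) L171782 L249393
theorem L249402 : sm gi N20212 = N29416 := rfl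
theorem L249404 : sm ga N29416 = N20236 := ded_18_1 (flp_i L171973) (flp_a L171784) L249402
theorem L249406 : sm gb N29416 = N29416 := ded_26_1 (flp_i L249402) L171786 L249402
theorem L249407 : sm ge N29416 = N20216 := ded_44_1 (flp_i L171821) (flp_e L171787) L249402
theorem L249409 : sm gg N29416 = N20214 := ded_51_1 (flp_i L171801) (flp_g L171789) L249402
theorem L249411 : sm gh N29416 = N20280 := ded_54_1 (flp_i L172346) (flp_h L118830) (flp_i L118461) L171782 L249402
theorem L249413 : sm gc N20213 = N29417 := rfl
theorem L249415 : sm ga N29417 = N20237 := ded_11_1 (flp_c L171983) (flp_a L171793) L249413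
theorem L249422 : sm gi N20213 = N29418 := rfl
theorem L249424 : sm ga N29418 = N20238 := ded_18_1 (flp_i L171990) (flp_a L171793) L249422
theorem L249427 : sm gd N29418 = N20214 := ded_39_1 (flp_i L171801) L171791 L249422
theorem L249432 : sm gi N20215 = N29419 := rfl
theorem L249434 : sm ga N29419 = N20239 := ded_18_1 (flp_i L171999) (flp_a L171815) L249432
theorem L249436 : sm gb N29419 = N29419 := ded_26_1 (flp_i L249432) L171817 L249432
theorem L249437 : sm gg N29419 = N29419 := ded_51_1 (flp_i L249432) L171818 L249432
theorem L249438 : sm gj N29419 = N20216 := ded_53_1 (flp_i L171821) (flp_j L171819) L249432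
theorem L249440 : sm gh N29419 = N20283 := ded_54_1 (flp_i L172376) (flp_h L118860) (flp_i L118480) L171813 L249432
theorem L249442 : sm gf N20217 = N29420 := rfl
theorem L249444 : sm gc N29420 = N20456 := ded_29_1 (flp_f L173863) (flp_c L171832) L249442
theorem L249446 : sm gd N29420 = N20219 := ded_35_1 (flp_f L171847) (flp_d L171834) L249442
theorem L249448 : sm gi N29420 = N20284 := ded_48_2 (flp_f L172385) (flp_i L171837) L249442
theorem L249450 : sm gg N29420 = N21426 := ded_45_2 (flp_f L182127) (flp_g L125439) (flp_f L118502) L171830 L249442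
theorem L249452 : sm gj N20217 = N29421 := rfl
theorem L249454 : sm gc N29421 = N20457 := ded_31_1 (flp_j L173872) (flp_c L171832) L249452
theorem L249456 : sm gd N29421 = N20220 := ded_37_1 (flp_j L171855) (flp_d L171834) L249452
theorem L249458 : sm ge N29421 = N29421 := ded_42_1 (flp_j L249452) L171836 L249452
theorem L249459 : sm gi N29421 = N20285 := ded_53_2 (flp_j L172393) (flp_i L171837) L249452
theorem L249461 : sm gg N29421 = N29421 := ded_49_1 (flp_j L249452) (flp_g L171830) L118504 L171830 L249452
theorem L249462 : sm gh N20217 = N29422 := rfl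
theorem L249464 : sm gc N29422 = N20458 := ded_32_1 (flp_h L173881) (flp_c L171832) L249462
theorem L249466 : sm ge N29422 = N29422 := ded_43_1 (flp_h L249462) L171836 L249462
theorem L249467 : sm gg N29422 = N20218 := ded_50_1 (flp_h L171839) L171830 L249462
theorem L249469 : sm gd N20218 = N29423 := rfl
theorem L249471 : sm gf N29423 = N21429 := ded_35_2 (flp_d L182154) (flp_f L171844) L249469
theorem L249473 : sm gj N29423 = N29423 := ded_37_2 (flp_d L249469) L171846 L249469
theorem L249474 : sm gh N29423 = N20222 := ded_38_2 (flp_d L171872) (flp_h L118518) L118500 L171839 L249469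
theorem L249476 : sm gi N20218 = N29424 := rfl
theorem L249478 : sm gc N29424 = N20460 := ded_33_1 (flp_i L173895) (flp_c L171841) L249476
theorem L249480 : sm ge N29424 = N29424 := ded_44_1 (flp_i L249476) L171843 L249476
theorem L249481 : sm gf N29424 = N21430 := ded_48_1 (flp_i L182159) (flp_f L171844) L249476
theorem L249483 : sm gj N29424 = N29424 := ded_53_1 (flp_i L249476) L171846 L249476
theorem L249484 : sm gh N29424 = N20288 := ded_54_1 (flp_i L172415) (flp_h L118884) (flp_i L118505) L171839 L249476
theorem L249486 : sm gj N20219 = N29425 := rfl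
theorem L249488 : sm gc N29425 = N20232 := ded_31_1 (flp_j L171938) (flp_c L171849) L249486
theorem L249490 : sm gf N29425 = N20220 := ded_46_1 (flp_j L171855) L171847 L249486
theorem L249492 : sm gi N29425 = N20289 := ded_53_2 (flp_j L172423) (flp_i L171851) L249486
theorem L249494 : sm gh N20219 = N29426 := rfl
theorem L249496 : sm gc N29426 = N20233 := ded_32_1 (flp_h L171948) (flp_c L171849) L249494
theorem L249498 : sm gf N29426 = N20221 := ded_47_1 (flp_h L171864) L171847 L249494
theorem L249500 : sm gg N29426 = N21432 := ded_50_1 (flp_h L182176) (flp_g L171853) L249494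
theorem L249502 : sm gh N20220 = N29427 := rfl
theorem L249504 : sm gc N29427 = N20234 := ded_32_1 (flp_h L171956) (flp_c L171857) L249502
theorem L249506 : sm ge N29427 = N20224 := ded_43_1 (flp_h L171888) (flp_e L171859) L249502
theorem L249508 : sm gg N29427 = N29427 := ded_50_1 (flp_h L249502) L171863 L249502
theorem L249509 : sm gj N29427 = N20221 := ded_52_1 (flp_h L171864) L171855 L249502
theorem L249511 : sm gd N20221 = N29428 := rfl
theorem L249513 : sm gg N29428 = N20222 := ded_36_2 (flp_d L171872) (flp_g L171870) L249511
theorem L249515 : sm gi N20221 = N29429 := rfl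
theorem L249517 : sm gc N29429 = N20236 := ded_33_1 (flp_i L171973) (flp_c L171866) L249515
theorem L249519 : sm ge N29429 = N20226 := ded_44_1 (flp_i L171900) (flp_e L171868) L249515
theorem L249521 : sm gg N29429 = N20223 := ded_51_1 (flp_i L171877) (flp_g L171870) L249515
theorem L249523 : sm gh N29429 = N20293 := ded_54_1 (flp_i L172450) (flp_h L118905) (flp_i L118516) L171864 L249515
theorem L249525 : sm gc N20222 = N29430 := rfl
theorem L249527 : sm gf N29430 = N21436 := ded_29_2 (flp_c L182205) (flp_f L171874) L249525
theorem L249529 : sm gj N29430 = N29430 := ded_31_2 (flp_c L249525) L171876 L249525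
theorem L249530 : sm gd N29430 = N20237 := ded_27_2 (flp_c L171983) (flp_d L118596) (flp_c L118520) L171872 L249525
theorem L249532 : sm ge N20222 = N29431 := rfl
theorem L249534 : sm gj N29431 = N29431 := ded_42_2 (flp_e L249532) L171876 L249532
theorem L249535 : sm gd N29431 = N20227 := ded_34_1 (flp_e L171908) (flp_d L118541) (flp_e L118522) L171872 L249532
theorem L249537 : sm gi N20222 = N29432 := rfl
theorem L249539 : sm gd N29432 = N20223 := ded_39_1 (flp_i L171877) L171872 L249537
theorem L249541 : sm gf N29432 = N21438 := ded_48_1 (flp_i L182215) (flp_f L171874) L249537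
theorem L249543 : sm gj N29432 = N29432 := ded_53_1 (flp_i L249537) L171876 L249537
theorem L249544 : sm gd N20224 = N29433 := rfl
theorem L249546 : sm gg N29433 = N29433 := ded_36_2 (flp_d L249544) L171892 L249544
theorem L249547 : sm gj N29433 = N20225 := ded_37_2 (flp_d L171895) (flp_j L171893) L249544
theorem L249549 : sm gh N29433 = N29433 := ded_38_2 (flp_d L249544) (flp_h L171888) L118531 L171888 L249544
theorem L249550 : sm gi N20224 = N29434 := rfl
theorem L249552 : sm gc N29434 = N20239 := ded_33_1 (flp_i L171999) (flp_c L171890) L249550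
theorem L249554 : sm gg N29434 = N29434 := ded_51_1 (flp_i L249550) L171892 L249550
theorem L249555 : sm gj N29434 = N20226 := ded_53_1 (flp_i L171900) (flp_j L171893) L249550
theorem L249557 : sm gh N29434 = N20298 := ded_54_1 (flp_i L172484) (flp_h L118927) (flp_i L118532) L171888 L249550
theorem L249559 : sm ge N20225 = N29435 := rfl
theorem L249561 : sm gg N29435 = N20227 := ded_41_2 (flp_e L171908) (flp_g L171897) L249559
theorem L249563 : sm gh N29435 = N29435 := ded_43_2 (flp_e L249559) L171899 L249559
theorem L249564 : sm gi N20225 = N29436 := rfl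
theorem L249566 : sm gd N29436 = N20226 := ded_39_1 (flp_i L171900) L171895 L249564
theorem L249568 : sm gg N29436 = N20228 := ded_51_1 (flp_i L171912) (flp_g L171897) L249564
theorem L249570 : sm gf N20227 = N29437 := rfl
theorem L249572 : sm gj N29437 = N29437 := ded_46_2 (flp_f L249570) L171910 L249570
theorem L249573 : sm gh N29437 = N29437 := ded_47_2 (flp_f L249570) L171911 L249570
theorem L249574 : sm ge N29437 = N20229 := ded_40_1 (flp_f L171919) (flp_e L118556) (flp_f L118543) L171908 L249570
theorem L249576 : sm gi N20227 = N29438 := rfl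
theorem L249578 : sm ge N29438 = N20228 := ded_44_1 (flp_i L171912) L171908 L249576
theorem L249580 : sm gj N29438 = N29438 := ded_53_1 (flp_i L249576) L171910 L249576
theorem L249581 : sm gh N20228 = N29439 := rfl
theorem L249583 : sm gf N29439 = N20231 := ded_47_1 (flp_h L171932) (flp_f L171916) L249581
theorem L249585 : sm gj N29439 = N29439 := ded_52_1 (flp_h L249581) L171918 L249581
theorem L249586 : sm gd N29439 = N20303 := ded_38_1 (flp_h L172517) L118954 (flp_h L118554) (flp_d L171914) L249581
theorem L249588 : sm gi N29439 = N29439 := ded_54_2 (flp_h L249581) (flp_i L171912) L118546 L171912 L249581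
theorem L249589 : sm gg N20229 = N29440 := rfl
theorem L249591 : sm gd N29440 = N21446 := ded_36_1 (flp_g L182275) (flp_d L171921) L249589
theorem L249593 : sm gh N29440 = N29440 := ded_50_2 (flp_g L249589) L171924 L249589
theorem L249594 : sm gi N20229 = N29441 := rfl
theorem L249596 : sm gd N29441 = N21447 := ded_39_1 (flp_i L182280) (flp_d L171921) L249594
theorem L249598 : sm gf N29441 = N20230 := ded_48_1 (flp_i L171925) L171919 L249594
theorem L249600 : sm gj N29441 = N29441 := ded_53_1 (flp_i L249594) L171923 L249594
theorem L249601 : sm gh N20230 = N29442 := rfl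
theorem L249603 : sm ge N29442 = N20231 := ded_43_1 (flp_h L171932) (flp_e L171929) L249601
theorem L249605 : sm gj N29442 = N29442 := ded_52_1 (flp_h L249601) L171931 L249601
theorem L249606 : sm gi N29442 = N29442 := ded_54_2 (flp_h L249601) (flp_i L171925) L118559 L171925 L249601
theorem L249607 : sm gg N20232 = N29443 := rfl
theorem L249609 : sm gb N29443 = N20240 := ded_23_1 (flp_g L172008) (flp_b L171940) L249607
theorem L249611 : sm gd N29443 = N20479 := ded_36_1 (flp_g L174050) (flp_d L171942) L249607
theorem L249613 : sm gi N29443 = N20307 := ded_51_2 (flp_g L172545) (flp_i L171946) L249607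
theorem L249615 : sm gf N29443 = N29443 := ded_45_1 (flp_g L249607) L171944 L118587 (flp_f L171944) L249607
theorem L249616 : sm gj N29443 = N21449 := ded_49_2 (flp_g L182294) (flp_j L125547) (flp_g L118575) L171938 L249607
theorem L249618 : sm gh N20232 = N29444 := rfl
theorem L249620 : sm gb N29444 = N20241 := ded_25_1 (flp_h L172018) (flp_b L171940) L249618
theorem L249622 : sm gf N29444 = N20234 := ded_47_1 (flp_h L171956) (flp_f L171944) L249618
theorem L249624 : sm gj N29444 = N20233 := ded_52_1 (flp_h L171948) L171938 L249618
theorem L249626 : sm gd N20233 = N29445 := rfl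
theorem L249628 : sm gb N29445 = N20242 := ded_20_1 (flp_d L172025) (flp_b L171950) L249626
theorem L249630 : sm gf N29445 = N20235 := ded_35_2 (flp_d L171965) (flp_f L171952) L249626
theorem L249632 : sm gg N29445 = N21451 := ded_36_2 (flp_d L182311) (flp_g L171954) L249626
theorem L249634 : sm gh N29445 = N20481 := ded_38_2 (flp_d L174069) (flp_h L120005) (flp_d L118571) L171948 L249626
theorem L249636 : sm gi N20233 = N29446 := rfl
theorem L249638 : sm gb N29446 = N20243 := ded_26_1 (flp_i L172034) (flp_b L171950) L249636
theorem L249640 : sm gf N29446 = N20236 := ded_48_1 (flp_i L171973) (flp_f L171952) L249636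
theorem L249642 : sm gg N29446 = N21452 := ded_51_1 (flp_i L182319) (flp_g L171954) L249636
theorem L249644 : sm gh N29446 = N20310 := ded_54_1 (flp_i L172572) (flp_h L118987) (flp_i L118573) L171948 L249636
theorem L249646 : sm gd N20234 = N29447 := rfl
theorem L249648 : sm gb N29447 = N20244 := ded_20_1 (flp_d L172043) (flp_b L171958) L249646
theorem L249650 : sm gg N29447 = N29447 := ded_36_2 (flp_d L249646) L171962 L249646
theorem L249651 : sm gj N29447 = N20235 := ded_37_2 (flp_d L171965) (flp_j L171963) L249646
theorem L249653 : sm gh N29447 = N20483 := ded_38_2 (flp_d L174088) (flp_h L120014) (flp_d L118581) L171956 L249646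
theorem L249655 : sm gi N20234 = N29448 := rfl
theorem L249657 : sm gb N29448 = N20245 := ded_26_1 (flp_i L172051) (flp_b L171958) L249655
theorem L249659 : sm ge N29448 = N20239 := ded_44_1 (flp_i L171999) (flp_e L171960) L249655
theorem L249661 : sm gg N29448 = N29448 := ded_51_1 (flp_i L249655) L171962 L249655
theorem L249662 : sm gj N29448 = N20236 := ded_53_1 (flp_i L171973) (flp_j L171963) L249655
theorem L249664 : sm gh N29448 = N20312 := ded_54_1 (flp_i L172590) (flp_h L118995) (flp_i L118585) L171956 L249655
theorem L249666 : sm gc N20235 = N29449 := rfl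
theorem L249668 : sm gg N29449 = N20237 := ded_30_2 (flp_c L171983) (flp_g L171969) L249666
theorem L249670 : sm gh N29449 = N20485 := ded_32_2 (flp_c L174106) (flp_h L171971) L249666
theorem L249672 : sm gi N20235 = N29450 := rfl
theorem L249674 : sm gb N29450 = N20247 := ded_26_1 (flp_i L172068) (flp_b L171967) L249672
theorem L249676 : sm gd N29450 = N20236 := ded_39_1 (flp_i L171973) L171965 L249672
theorem L249678 : sm gg N29450 = N20238 := ded_51_1 (flp_i L171990) (flp_g L171969) L249672
theorem L249680 : sm gb N20237 = N29451 := rfl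
theorem L249682 : sm gf N29451 = N21457 := ded_22_2 (flp_b L182364) (flp_f L171985) L249680
theorem L249684 : sm gj N29451 = N29451 := ded_24_2 (flp_b L249680) L171987 L249680
theorem L249685 : sm gh N29451 = N20487 := ded_25_2 (flp_b L174118) (flp_h L171988) L249680
theorem L249687 : sm gc N29451 = N20248 := ded_19_2 (flp_b L172075) (flp_c L118671) (flp_b L118598) L171983 L249680
theorem L249689 : sm gi N20237 = N29452 := rfl
theorem L249691 : sm gc N29452 = N20238 := ded_33_1 (flp_i L171990) L171983 L249689
theorem L249693 : sm gf N29452 = N21458 := ded_48_1 (flp_i L182372) (flp_f L171985) L249689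
theorem L249695 : sm gj N29452 = N29452 := ded_53_1 (flp_i L249689) L171987 L249689
theorem L249696 : sm gh N20238 = N29453 := rfl
theorem L249698 : sm gb N29453 = N20250 := ded_25_1 (flp_h L172090) (flp_b L171992) L249696
theorem L249707 : sm gh N20240 = N29454 := rfl
theorem L249709 : sm ga N29454 = N29454 := ded_17_1 (flp_h L249707) L172010 L249707
theorem L249710 : sm gf N29454 = N29454 := ded_47_1 (flp_h L249707) L172015 L249707
theorem L249711 : sm gg N29454 = N20241 := ded_50_1 (flp_h L172018) L172008 L249707
theorem L249713 : sm gj N29454 = N21460 := ded_52_1 (flp_h L182388) (flp_j L172016) L249707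
theorem L249715 : sm gd N20241 = N29455 := rfl
theorem L249717 : sm ga N29455 = N29455 := ded_12_1 (flp_d L249715) L172020 L249715
theorem L249718 : sm gf N29455 = N20244 := ded_35_2 (flp_d L172043) (flp_f L172021) L249715
theorem L249720 : sm gj N29455 = N20242 := ded_37_2 (flp_d L172025) (flp_j L172023) L249715
theorem L249722 : sm gh N29455 = N20491 := ded_38_2 (flp_d L174151) (flp_h L120073) (flp_d L118634) L172018 L249715
theorem L249724 : sm gi N20241 = N29456 := rfl
theorem L249726 : sm ga N29456 = N29456 := ded_18_1 (flp_i L249724) L172020 L249724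
theorem L249727 : sm gf N29456 = N20245 := ded_48_1 (flp_i L172051) (flp_f L172021) L249724
theorem L249729 : sm gj N29456 = N20243 := ded_53_1 (flp_i L172034) (flp_j L172023) L249724
theorem L249731 : sm gh N29456 = N20320 := ded_54_1 (flp_i L172660) (flp_h L119055) (flp_i L118638) L172018 L249724
theorem L249733 : sm gc N20242 = N29457 := rfl
theorem L249735 : sm ga N29457 = N29457 := ded_11_1 (flp_c L249733) L172027 L249733
theorem L249736 : sm gf N29457 = N20246 := ded_29_2 (flp_c L172061) (flp_f L172028) L249733
theorem L249738 : sm gg N29457 = N21463 := ded_30_2 (flp_c L182412) (flp_g L172030) L249733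
theorem L249740 : sm gh N29457 = N20493 := ded_32_2 (flp_c L174169) (flp_h L172032) L249733
theorem L249742 : sm ge N20242 = N29458 := rfl
theorem L249744 : sm ga N29458 = N29458 := ded_13_1 (flp_e L249742) L172027 L249742
theorem L249745 : sm gg N29458 = N21464 := ded_41_2 (flp_e L182419) (flp_g L172030) L249742
theorem L249747 : sm gh N29458 = N20494 := ded_43_2 (flp_e L174177) (flp_h L172032) L249742
theorem L249749 : sm gi N20242 = N29459 := rfl
theorem L249751 : sm ga N29459 = N29459 := ded_18_1 (flp_i L249749) L172027 L249749
theorem L249752 : sm gd N29459 = N20243 := ded_39_1 (flp_i L172034) L172025 L249749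
theorem L249754 : sm gf N29459 = N20247 := ded_48_1 (flp_i L172068) (flp_f L172028) L249749
theorem L249756 : sm gg N29459 = N21465 := ded_51_1 (flp_i L182425) (flp_g L172030) L249749
theorem L249758 : sm gc N20244 = N29460 := rfl
theorem L249760 : sm ga N29460 = N29460 := ded_11_1 (flp_c L249758) L172045 L249758
theorem L249761 : sm gg N29460 = N29460 := ded_30_2 (flp_c L249758) L172046 L249758
theorem L249762 : sm gj N29460 = N20246 := ded_31_2 (flp_c L172061) (flp_j L172047) L249758
theorem L249764 : sm gh N29460 = N20496 := ded_32_2 (flp_c L174192) (flp_h L172049) L249758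
theorem L249766 : sm gi N20244 = N29461 := rfl
theorem L249768 : sm ga N29461 = N29461 := ded_18_1 (flp_i L249766) L172045 L249766
theorem L249769 : sm gd N29461 = N20245 := ded_39_1 (flp_i L172051) L172043 L249766
theorem L249771 : sm gg N29461 = N29461 := ded_51_1 (flp_i L249766) L172046 L249766
theorem L249772 : sm gj N29461 = N20247 := ded_53_1 (flp_i L172068) (flp_j L172047) L249766
theorem L249774 : sm gb N20246 = N29462 := rfl
theorem L249776 : sm gg N29462 = N20248 := ded_23_2 (flp_b L172075) (flp_g L172064) L249774
theorem L249778 : sm gh N29462 = N20498 := ded_25_2 (flp_b L174207) (flp_h L172066) L249774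
theorem L249780 : sm gi N20246 = N29463 := rfl
theorem L249782 : sm ga N29463 = N29463 := ded_18_1 (flp_i L249780) L172063 L249780
theorem L249783 : sm gc N29463 = N20247 := ded_33_1 (flp_i L172068) L172061 L249780
theorem L249785 : sm gg N29463 = N20249 := ded_51_1 (flp_i L172082) (flp_g L172064) L249780
theorem L249787 : sm gh N20247 = N29464 := rfl
theorem L249789 : sm ga N29464 = N29464 := ded_17_1 (flp_h L249787) L172070 L249787
theorem L249790 : sm gg N29464 = N20250 := ded_50_1 (flp_h L172090) (flp_g L172073) L249787
theorem L249792 : sm gd N29464 = N20328 := ded_38_1 (flp_h L172726) L119106 (flp_h L118669) (flp_d L172071) L249787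
theorem L249794 : sm gi N29464 = N20500 := ded_54_2 (flp_h L174220) (flp_i L120123) (flp_h L118660) L172068 L249787
theorem L249796 : sm ga N20248 = N29465 := rfl
theorem L249798 : sm gf N29465 = N21471 := ded_14_2 (flp_a L182475) (flp_f L172077) L249796
theorem L249800 : sm gj N29465 = N29465 := ded_16_2 (flp_a L249796) L172079 L249796
theorem L249801 : sm gh N29465 = N20501 := ded_17_2 (flp_a L174227) (flp_h L172080) L249796
theorem L249803 : sm gb N29465 = N29465 := ded_10_2 (flp_a L249796) (flp_b L172075) L118673 L172075 L249796
theorem L249804 : sm gi N20248 = N29466 := rfl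
theorem L249806 : sm gb N29466 = N20249 := ded_26_1 (flp_i L172082) L172075 L249804
theorem L249808 : sm gf N29466 = N21472 := ded_48_1 (flp_i L182482) (flp_f L172077) L249804
theorem L249810 : sm gj N29466 = N29466 := ded_53_1 (flp_i L249804) L172079 L249804
theorem L249811 : sm gh N20249 = N29467 := rfl
theorem L249813 : sm ga N29467 = N29467 := ded_17_1 (flp_h L249811) L172084 L249811
theorem L249814 : sm gc N29467 = N20250 := ded_32_1 (flp_h L172090) (flp_c L172085) L249811
theorem L249816 : sm gf N29467 = N21473 := ded_47_1 (flp_h L182488) (flp_f L172087) L249811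
theorem L249818 : sm gj N29467 = N29467 := ded_52_1 (flp_h L249811) L172089 L249811
theorem L249819 : sm gi N29467 = N20503 := ded_54_2 (flp_h L174242) (flp_i L120136) (flp_h L118677) L172082 L249811
theorem L249821 : sm gc N20251 = N29468 := rfl
theorem L249827 : sm gb N29468 = N20504 := ded_19_1 (flp_c L174250) L120156 (flp_c L118738) (flp_b L172102) L249821
theorem L249830 : sm gg N20251 = N29469 := rfl
theorem L249832 : sm gb N29469 = N20261 := ded_23_1 (flp_g L172176) (flp_b L172102) L249830
theorem L249834 : sm gd N29469 = N20252 := ded_36_1 (flp_g L172108) L172100 L249830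
theorem L249836 : sm ge N29469 = N29469 := ded_41_1 (flp_g L249830) L172107 L249830
theorem L249837 : sm gh N20251 = N29470 := rfl
theorem L249839 : sm gb N29470 = N20262 := ded_25_1 (flp_h L172185) (flp_b L172102) L249837
theorem L249841 : sm ge N29470 = N29470 := ded_43_1 (flp_h L249837) L172107 L249837
theorem L249842 : sm gf N29470 = N21476 := ded_47_1 (flp_h L182513) (flp_f L172104) L249837
theorem L249844 : sm gj N29470 = N29470 := ded_52_1 (flp_h L249837) L172106 L249837
theorem L249845 : sm gf N20252 = N29471 := rfl
theorem L249847 : sm gb N29471 = N20263 := ded_22_1 (flp_f L172195) (flp_b L172110) L249845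
theorem L249849 : sm gc N29471 = N29471 := ded_29_1 (flp_f L249845) L172112 L249845
theorem L249850 : sm gg N29471 = N21477 := ded_45_2 (flp_f L182520) (flp_g L125708) (flp_f L118701) L172108 L249845
theorem L249852 : sm gj N20252 = N29472 := rfl
theorem L249854 : sm gb N29472 = N20264 := ded_24_1 (flp_j L172203) (flp_b L172110) L249852
theorem L249856 : sm gc N29472 = N29472 := ded_31_1 (flp_j L249852) L172112 L249852
theorem L249857 : sm ge N29472 = N20254 := ded_42_1 (flp_j L172125) (flp_e L172113) L249852
theorem L249859 : sm gg N29472 = N29472 := ded_49_1 (flp_j L249852) (flp_g L172108) L118700 L172108 L249852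
theorem L249860 : sm gh N20252 = N29473 := rfl
theorem L249862 : sm gb N29473 = N20265 := ded_25_1 (flp_h L172212) (flp_b L172110) L249860
theorem L249864 : sm gc N29473 = N29473 := ded_32_1 (flp_h L249860) L172112 L249860
theorem L249865 : sm ge N29473 = N20255 := ded_43_1 (flp_h L172132) (flp_e L172113) L249860
theorem L249867 : sm gg N29473 = N20253 := ded_50_1 (flp_h L172115) L172108 L249860
theorem L249869 : sm gd N20253 = N29474 := rfl
theorem L249871 : sm gb N29474 = N20266 := ded_20_1 (flp_d L172222) (flp_b L172117) L249869
theorem L249873 : sm gf N29474 = N21480 := ded_35_2 (flp_d L182542) (flp_f L172122) L249869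
theorem L249875 : sm gj N29474 = N29474 := ded_37_2 (flp_d L249869) L172124 L249869
theorem L249876 : sm gi N20253 = N29475 := rfl
theorem L249878 : sm gb N29475 = N20267 := ded_26_1 (flp_i L172229) (flp_b L172117) L249876
theorem L249880 : sm gc N29475 = N29475 := ded_33_1 (flp_i L249876) L172119 L249876
theorem L249881 : sm ge N29475 = N20257 := ded_44_1 (flp_i L172147) (flp_e L172120) L249876
theorem L249883 : sm gf N29475 = N21481 := ded_48_1 (flp_i L182547) (flp_f L172122) L249876
theorem L249885 : sm gj N29475 = N29475 := ded_53_1 (flp_i L249876) L172124 L249876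
theorem L249886 : sm gh N20254 = N29476 := rfl
theorem L249888 : sm gb N29476 = N20268 := ded_25_1 (flp_h L172240) (flp_b L172127) L249886
theorem L249890 : sm gc N29476 = N29476 := ded_32_1 (flp_h L249886) L172129 L249886
theorem L249891 : sm gg N29476 = N29476 := ded_50_1 (flp_h L249886) L172131 L249886
theorem L249892 : sm gj N29476 = N20255 := ded_52_1 (flp_h L172132) L172125 L249886
theorem L249894 : sm gd N20255 = N29477 := rfl
theorem L249896 : sm gb N29477 = N20269 := ded_20_1 (flp_d L172249) (flp_b L172134) L249894
theorem L249898 : sm gg N29477 = N20256 := ded_36_2 (flp_d L172139) (flp_g L172137) L249894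
theorem L249901 : sm gi N20255 = N29478 := rfl
theorem L249903 : sm gb N29478 = N20270 := ded_26_1 (flp_i L172257) (flp_b L172134) L249901
theorem L249905 : sm gc N29478 = N29478 := ded_33_1 (flp_i L249901) L172136 L249901
theorem L249906 : sm gg N29478 = N20257 := ded_51_1 (flp_i L172147) (flp_g L172137) L249901
theorem L249908 : sm gc N20256 = N29479 := rfl
theorem L249916 : sm ge N20256 = N29480 := rfl
theorem L249918 : sm gb N29480 = N20271 := ded_21_1 (flp_e L172265) (flp_b L172141) L249916
theorem L249922 : sm gi N20256 = N29481 := rfl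
theorem L249924 : sm gb N29481 = N20272 := ded_26_1 (flp_i L172272) (flp_b L172141) L249922
theorem L249928 : sm gf N29481 = N20260 := ded_48_1 (flp_i L172169) (flp_f L172143) L249922
theorem L249931 : sm ge N20258 = N29482 := rfl
theorem L249934 : sm gc N29482 = N20259 := ded_28_1 (flp_e L172161) L172155 L249931
theorem L249945 : sm gf N20259 = N29484 := rfl
theorem L249947 : sm gb N29484 = N20273 := ded_22_1 (flp_f L172282) (flp_b L172163) L249945
theorem L249953 : sm gi N20259 = N29485 := rfl
theorem L249962 : sm gh N20260 = N29486 := rfl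
theorem L249964 : sm gb N29486 = N20275 := ded_25_1 (flp_h L172301) (flp_b L172171) L249962
theorem L249968 : sm gf N20261 = N29487 := rfl
theorem L249970 : sm ga N29487 = N20284 := ded_14_1 (flp_f L172385) (flp_a L172178) L249968
theorem L249972 : sm gc N29487 = N20520 := ded_29_1 (flp_f L174396) (flp_c L172180) L249968
theorem L249974 : sm gd N29487 = N20263 := ded_35_1 (flp_f L172195) (flp_d L172182) L249968
theorem L249976 : sm gg N29487 = N21493 := ded_45_2 (flp_f L182642) (flp_g L125777) (flp_f L118735) L172176 L249968
theorem L249978 : sm gj N20261 = N29488 := rfl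
theorem L249980 : sm ga N29488 = N20285 := ded_16_1 (flp_j L172393) (flp_a L172178) L249978
theorem L249982 : sm gc N29488 = N20521 := ded_31_1 (flp_j L174404) (flp_c L172180) L249978
theorem L249984 : sm gd N29488 = N20264 := ded_37_1 (flp_j L172203) (flp_d L172182) L249978
theorem L249986 : sm ge N29488 = N29488 := ded_42_1 (flp_j L249978) L172184 L249978
theorem L249987 : sm gg N29488 = N29488 := ded_49_1 (flp_j L249978) (flp_g L172176) L118737 L172176 L249978
theorem L249988 : sm gh N20261 = N29489 := rfl
theorem L249990 : sm ga N29489 = N20286 := ded_17_1 (flp_h L172401) (flp_a L172178) L249988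
theorem L249992 : sm gc N29489 = N20522 := ded_32_1 (flp_h L174412) (flp_c L172180) L249988
theorem L249994 : sm ge N29489 = N29489 := ded_43_1 (flp_h L249988) L172184 L249988
theorem L249995 : sm gg N29489 = N20262 := ded_50_1 (flp_h L172185) L172176 L249988
theorem L249997 : sm gd N20262 = N29490 := rfl
theorem L249999 : sm ga N29490 = N20287 := ded_12_1 (flp_d L172408) (flp_a L172187) L249997
theorem L250001 : sm gf N29490 = N21496 := ded_35_2 (flp_d L182671) (flp_f L172192) L249997
theorem L250003 : sm gj N29490 = N29490 := ded_37_2 (flp_d L249997) L172194 L249997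
theorem L250004 : sm gh N29490 = N20266 := ded_38_2 (flp_d L172222) (flp_h L118749) L118731 L172185 L249997
theorem L250006 : sm gi N20262 = N29491 := rfl
theorem L250008 : sm ga N29491 = N20288 := ded_18_1 (flp_i L172415) (flp_a L172187) L250006
theorem L250010 : sm gc N29491 = N20524 := ded_33_1 (flp_i L174428) (flp_c L172189) L250006
theorem L250012 : sm ge N29491 = N29491 := ded_44_1 (flp_i L250006) L172191 L250006
theorem L250013 : sm gf N29491 = N21497 := ded_48_1 (flp_i L182678) (flp_f L172192) L250006
theorem L250015 : sm gj N29491 = N29491 := ded_53_1 (flp_i L250006) L172194 L250006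
theorem L250016 : sm gj N20263 = N29492 := rfl
theorem L250018 : sm ga N29492 = N20289 := ded_16_1 (flp_j L172423) (flp_a L172197) L250016
theorem L250020 : sm gc N29492 = N20276 := ded_31_1 (flp_j L172308) (flp_c L172199) L250016
theorem L250022 : sm gf N29492 = N20264 := ded_46_1 (flp_j L172203) L172195 L250016
theorem L250024 : sm gh N20263 = N29493 := rfl
theorem L250026 : sm ga N29493 = N20290 := ded_17_1 (flp_h L172429) (flp_a L172197) L250024
theorem L250028 : sm gc N29493 = N20277 := ded_32_1 (flp_h L172317) (flp_c L172199) L250024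
theorem L250030 : sm gf N29493 = N20265 := ded_47_1 (flp_h L172212) L172195 L250024
theorem L250032 : sm gg N29493 = N21499 := ded_50_1 (flp_h L182695) (flp_g L172201) L250024
theorem L250034 : sm gh N20264 = N29494 := rfl
theorem L250036 : sm ga N29494 = N20291 := ded_17_1 (flp_h L172437) (flp_a L172205) L250034
theorem L250038 : sm gc N29494 = N20278 := ded_32_1 (flp_h L172326) (flp_c L172207) L250034
theorem L250040 : sm ge N29494 = N20268 := ded_43_1 (flp_h L172240) (flp_e L172209) L250034
theorem L250042 : sm gg N29494 = N29494 := ded_50_1 (flp_h L250034) L172211 L250034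
theorem L250043 : sm gj N29494 = N20265 := ded_52_1 (flp_h L172212) L172203 L250034
theorem L250045 : sm gd N20265 = N29495 := rfl
theorem L250047 : sm ga N29495 = N20292 := ded_12_1 (flp_d L172446) (flp_a L172214) L250045
theorem L250049 : sm gg N29495 = N20266 := ded_36_2 (flp_d L172222) (flp_g L172220) L250045
theorem L250051 : sm gi N20265 = N29496 := rfl
theorem L250053 : sm ga N29496 = N20293 := ded_18_1 (flp_i L172450) (flp_a L172214) L250051
theorem L250055 : sm gc N29496 = N20280 := ded_33_1 (flp_i L172346) (flp_c L172216) L250051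
theorem L250057 : sm ge N29496 = N20270 := ded_44_1 (flp_i L172257) (flp_e L172218) L250051
theorem L250059 : sm gg N29496 = N20267 := ded_51_1 (flp_i L172229) (flp_g L172220) L250051
theorem L250061 : sm gc N20266 = N29497 := rfl
theorem L250063 : sm ga N29497 = N20294 := ded_11_1 (flp_c L172458) (flp_a L172224) L250061
theorem L250065 : sm gf N29497 = N21503 := ded_29_2 (flp_c L182730) (flp_f L172226) L250061
theorem L250067 : sm gj N29497 = N29497 := ded_31_2 (flp_c L250061) L172228 L250061
theorem L250068 : sm gd N29497 = N20281 := ded_27_2 (flp_c L172355) (flp_d L118839) (flp_c L118753) L172222 L250061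
theorem L250070 : sm ge N20266 = N29498 := rfl
theorem L250072 : sm ga N29498 = N20295 := ded_13_1 (flp_e L172465) (flp_a L172224) L250070
theorem L250074 : sm gj N29498 = N29498 := ded_42_2 (flp_e L250070) L172228 L250070
theorem L250075 : sm gd N29498 = N20271 := ded_34_1 (flp_e L172265) (flp_d L118776) (flp_e L118755) L172222 L250070
theorem L250077 : sm gi N20266 = N29499 := rfl
theorem L250079 : sm ga N29499 = N20296 := ded_18_1 (flp_i L172470) (flp_a L172224) L250077
theorem L250081 : sm gd N29499 = N20267 := ded_39_1 (flp_i L172229) L172222 L250077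
theorem L250083 : sm gf N29499 = N21505 := ded_48_1 (flp_i L182744) (flp_f L172226) L250077
theorem L250085 : sm gj N29499 = N29499 := ded_53_1 (flp_i L250077) L172228 L250077
theorem L250086 : sm gd N20268 = N29500 := rfl
theorem L250088 : sm ga N29500 = N20297 := ded_12_1 (flp_d L172477) (flp_a L172242) L250086
theorem L250090 : sm gg N29500 = N29500 := ded_36_2 (flp_d L250086) L172246 L250086
theorem L250091 : sm gj N29500 = N20269 := ded_37_2 (flp_d L172249) (flp_j L172247) L250086
theorem L250093 : sm gc N29500 = N29500 := ded_27_1 (flp_d L250086) L172244 L118868 (flp_c L172244) L250086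
theorem L250094 : sm gh N29500 = N29500 := ded_38_2 (flp_d L250086) (flp_h L172240) L118766 L172240 L250086
theorem L250095 : sm gi N20268 = N29501 := rfl
theorem L250097 : sm ga N29501 = N20298 := ded_18_1 (flp_i L172484) (flp_a L172242) L250095
theorem L250099 : sm gc N29501 = N20283 := ded_33_1 (flp_i L172376) (flp_c L172244) L250095
theorem L250101 : sm gg N29501 = N29501 := ded_51_1 (flp_i L250095) L172246 L250095
theorem L250102 : sm gj N29501 = N20270 := ded_53_1 (flp_i L172257) (flp_j L172247) L250095
theorem L250104 : sm ge N20269 = N29502 := rfl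
theorem L250106 : sm ga N29502 = N20299 := ded_13_1 (flp_e L172491) (flp_a L172251) L250104
theorem L250108 : sm gc N29502 = N29502 := ded_28_1 (flp_e L250104) L172255 L250104
theorem L250109 : sm gg N29502 = N20271 := ded_41_2 (flp_e L172265) (flp_g L172253) L250104
theorem L250111 : sm gh N29502 = N29502 := ded_43_2 (flp_e L250104) L172256 L250104
theorem L250112 : sm gi N20269 = N29503 := rfl
theorem L250114 : sm ga N29503 = N20300 := ded_18_1 (flp_i L172497) (flp_a L172251) L250112
theorem L250116 : sm gc N29503 = N29503 := ded_33_1 (flp_i L250112) L172255 L250112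
theorem L250117 : sm gd N29503 = N20270 := ded_39_1 (flp_i L172257) L172249 L250112
theorem L250119 : sm gg N29503 = N20272 := ded_51_1 (flp_i L172272) (flp_g L172253) L250112
theorem L250121 : sm gf N20271 = N29504 := rfl
theorem L250123 : sm ga N29504 = N20301 := ded_14_1 (flp_f L172504) (flp_a L172267) L250121
theorem L250128 : sm ge N29504 = N20273 := ded_40_1 (flp_f L172282) (flp_e L118794) (flp_f L118780) L172265 L250121
theorem L250130 : sm gi N20271 = N29505 := rfl
theorem L250132 : sm ga N29505 = N20302 := ded_18_1 (flp_i L172511) (flp_a L172267) L250130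
theorem L250134 : sm gc N29505 = N29505 := ded_33_1 (flp_i L250130) L172269 L250130
theorem L250135 : sm ge N29505 = N20272 := ded_44_1 (flp_i L172272) L172265 L250130
theorem L250137 : sm gj N29505 = N29505 := ded_53_1 (flp_i L250130) L172270 L250130
theorem L250138 : sm gh N20272 = N29506 := rfl
theorem L250140 : sm ga N29506 = N20303 := ded_17_1 (flp_h L172517) (flp_a L172274) L250138
theorem L250142 : sm gc N29506 = N29506 := ded_32_1 (flp_h L250138) L172276 L250138
theorem L250143 : sm gf N29506 = N20275 := ded_47_1 (flp_h L172301) (flp_f L172279) L250138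
theorem L250145 : sm gj N29506 = N29506 := ded_52_1 (flp_h L250138) L172281 L250138
theorem L250146 : sm gi N29506 = N29506 := ded_54_2 (flp_h L250138) (flp_i L172272) L118784 L172272 L250138
theorem L250147 : sm gg N20273 = N29507 := rfl
theorem L250149 : sm ga N29507 = N20304 := ded_15_1 (flp_g L172524) (flp_a L172284) L250147
theorem L250152 : sm gd N29507 = N21513 := ded_36_1 (flp_g L182822) (flp_d L172287) L250147
theorem L250155 : sm gi N20273 = N29508 := rfl
theorem L250157 : sm ga N29508 = N20305 := ded_18_1 (flp_i L172530) (flp_a L172284) L250155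
theorem L250162 : sm gf N29508 = N20274 := ded_48_1 (flp_i L172291) L172282 L250155
theorem L250165 : sm gh N20274 = N29509 := rfl
theorem L250174 : sm gg N20276 = N29510 := rfl
theorem L250176 : sm ga N29510 = N20307 := ded_15_1 (flp_g L172545) (flp_a L172310) L250174
theorem L250178 : sm gb N29510 = N29510 := ded_23_1 (flp_g L250174) L172312 L250174
theorem L250179 : sm gd N29510 = N20539 := ded_36_1 (flp_g L174565) (flp_d L172313) L250174
theorem L250181 : sm gf N29510 = N29510 := ded_45_1 (flp_g L250174) L172315 L118829 (flp_f L172315) L250174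
theorem L250182 : sm gj N29510 = N21516 := ded_49_2 (flp_g L182850) (flp_j L125909) (flp_g L118818) L172308 L250174
theorem L250184 : sm gh N20276 = N29511 := rfl
theorem L250186 : sm ga N29511 = N20308 := ded_17_1 (flp_h L172554) (flp_a L172310) L250184
theorem L250188 : sm gb N29511 = N29511 := ded_25_1 (flp_h L250184) L172312 L250184
theorem L250189 : sm gf N29511 = N20278 := ded_47_1 (flp_h L172326) (flp_f L172315) L250184
theorem L250191 : sm gj N29511 = N20277 := ded_52_1 (flp_h L172317) L172308 L250184
theorem L250193 : sm gd N20277 = N29512 := rfl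
theorem L250195 : sm ga N29512 = N20309 := ded_12_1 (flp_d L172562) (flp_a L172319) L250193
theorem L250197 : sm gb N29512 = N29512 := ded_20_1 (flp_d L250193) L172321 L250193
theorem L250198 : sm gf N29512 = N20279 := ded_35_2 (flp_d L172336) (flp_f L172322) L250193
theorem L250200 : sm gg N29512 = N21518 := ded_36_2 (flp_d L182867) (flp_g L172324) L250193
theorem L250202 : sm gh N29512 = N20541 := ded_38_2 (flp_d L174584) (flp_h L120360) (flp_d L118816) L172317 L250193
theorem L250204 : sm gi N20277 = N29513 := rfl
theorem L250206 : sm ga N29513 = N20310 := ded_18_1 (flp_i L172572) (flp_a L172319) L250204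
theorem L250208 : sm gb N29513 = N29513 := ded_26_1 (flp_i L250204) L172321 L250204
theorem L250209 : sm gf N29513 = N20280 := ded_48_1 (flp_i L172346) (flp_f L172322) L250204
theorem L250211 : sm gg N29513 = N21519 := ded_51_1 (flp_i L182876) (flp_g L172324) L250204
theorem L250213 : sm gd N20278 = N29514 := rfl
theorem L250215 : sm ga N29514 = N20311 := ded_12_1 (flp_d L172580) (flp_a L172328) L250213
theorem L250217 : sm gb N29514 = N29514 := ded_20_1 (flp_d L250213) L172330 L250213
theorem L250218 : sm gg N29514 = N29514 := ded_36_2 (flp_d L250213) L172333 L250213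
theorem L250219 : sm gj N29514 = N20279 := ded_37_2 (flp_d L172336) (flp_j L172334) L250213
theorem L250221 : sm ge N29514 = N29514 := ded_34_2 (flp_d L250213) L172331 L118868 (flp_e L172331) L250213
theorem L250222 : sm gh N29514 = N20543 := ded_38_2 (flp_d L174603) (flp_h L120370) (flp_d L118825) L172326 L250213
theorem L250224 : sm gi N20278 = N29515 := rfl
theorem L250226 : sm ga N29515 = N20312 := ded_18_1 (flp_i L172590) (flp_a L172328) L250224
theorem L250228 : sm gb N29515 = N29515 := ded_26_1 (flp_i L250224) L172330 L250224
theorem L250229 : sm ge N29515 = N20283 := ded_44_1 (flp_i L172376) (flp_e L172331) L250224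
theorem L250231 : sm gg N29515 = N29515 := ded_51_1 (flp_i L250224) L172333 L250224
theorem L250232 : sm gj N29515 = N20280 := ded_53_1 (flp_i L172346) (flp_j L172334) L250224
theorem L250234 : sm gc N20279 = N29516 := rfl
theorem L250236 : sm ga N29516 = N20313 := ded_11_1 (flp_c L172599) (flp_a L172338) L250234
theorem L250238 : sm ge N29516 = N29516 := ded_28_2 (flp_c L250234) L172343 L250234
theorem L250239 : sm gg N29516 = N20281 := ded_30_2 (flp_c L172355) (flp_g L172341) L250234
theorem L250241 : sm gh N29516 = N20545 := ded_32_2 (flp_c L174622) (flp_h L172344) L250234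
theorem L250243 : sm gi N20279 = N29517 := rfl
theorem L250245 : sm ga N29517 = N20314 := ded_18_1 (flp_i L172606) (flp_a L172338) L250243
theorem L250247 : sm gb N29517 = N29517 := ded_26_1 (flp_i L250243) L172340 L250243
theorem L250248 : sm gd N29517 = N20280 := ded_39_1 (flp_i L172346) L172336 L250243
theorem L250250 : sm ge N29517 = N29517 := ded_44_1 (flp_i L250243) L172343 L250243
theorem L250251 : sm gg N29517 = N20282 := ded_51_1 (flp_i L172365) (flp_g L172341) L250243
theorem L250253 : sm gb N20281 = N29518 := rfl
theorem L250255 : sm ge N29518 = N29518 := ded_21_2 (flp_b L250253) L172359 L250253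
theorem L250256 : sm gf N29518 = N21524 := ded_22_2 (flp_b L182926) (flp_f L172360) L250253
theorem L250258 : sm gj N29518 = N29518 := ded_24_2 (flp_b L250253) L172362 L250253
theorem L250259 : sm gh N29518 = N20547 := ded_25_2 (flp_b L174639) (flp_h L172363) L250253
theorem L250261 : sm gc N29518 = N29518 := ded_19_2 (flp_b L250253) (flp_c L172355) L118843 L172355 L250253
theorem L250262 : sm gi N20281 = N29519 := rfl
theorem L250264 : sm ga N29519 = N20316 := ded_18_1 (flp_i L172625) (flp_a L172357) L250262
theorem L250266 : sm gc N29519 = N20282 := ded_33_1 (flp_i L172365) L172355 L250262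
theorem L250268 : sm ge N29519 = N29519 := ded_44_1 (flp_i L250262) L172359 L250262
theorem L250269 : sm gf N29519 = N21525 := ded_48_1 (flp_i L182934) (flp_f L172360) L250262
theorem L250271 : sm gj N29519 = N29519 := ded_53_1 (flp_i L250262) L172362 L250262
theorem L250272 : sm gh N20282 = N29520 := rfl
theorem L250283 : sm ge N20284 = N29521 := rfl
theorem L250285 : sm gc N29521 = N20550 := ded_28_1 (flp_e L174665) (flp_c L172387) L250283
theorem L250287 : sm gg N29521 = N21527 := ded_41_2 (flp_e L182953) (flp_g L172391) L250283
theorem L250289 : sm gf N29521 = N29521 := ded_40_2 (flp_e L250283) (flp_f L172385) L118883 L172385 L250283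
theorem L250290 : sm gj N20284 = N29522 := rfl
theorem L250292 : sm gc N29522 = N20551 := ded_31_1 (flp_j L174672) (flp_c L172387) L250290
theorem L250294 : sm gd N29522 = N20289 := ded_37_1 (flp_j L172423) (flp_d L172389) L250290
theorem L250296 : sm gf N29522 = N20285 := ded_46_1 (flp_j L172393) L172385 L250290
theorem L250298 : sm gh N20284 = N29523 := rfl
theorem L250300 : sm gc N29523 = N20552 := ded_32_1 (flp_h L174679) (flp_c L172387) L250298
theorem L250302 : sm gf N29523 = N20286 := ded_47_1 (flp_h L172401) L172385 L250298
theorem L250304 : sm gg N29523 = N21529 := ded_50_1 (flp_h L182967) (flp_g L172391) L250298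
theorem L250306 : sm gh N20285 = N29524 := rfl
theorem L250308 : sm gc N29524 = N20553 := ded_32_1 (flp_h L174686) (flp_c L172395) L250306
theorem L250310 : sm ge N29524 = N29524 := ded_43_1 (flp_h L250306) L172399 L250306
theorem L250311 : sm gg N29524 = N29524 := ded_50_1 (flp_h L250306) L172400 L250306
theorem L250312 : sm gj N29524 = N20286 := ded_52_1 (flp_h L172401) L172393 L250306
theorem L250314 : sm gd N20286 = N29525 := rfl
theorem L250316 : sm gg N29525 = N20287 := ded_36_2 (flp_d L172408) (flp_g L172406) L250314
theorem L250318 : sm gh N29525 = N20292 := ded_38_2 (flp_d L172446) (flp_h L118905) (flp_d L118881) L172401 L250314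
theorem L250320 : sm gi N20286 = N29526 := rfl
theorem L250322 : sm gc N29526 = N20555 := ded_33_1 (flp_i L174700) (flp_c L172403) L250320
theorem L250324 : sm ge N29526 = N29526 := ded_44_1 (flp_i L250320) L172405 L250320
theorem L250325 : sm gg N29526 = N20288 := ded_51_1 (flp_i L172415) (flp_g L172406) L250320
theorem L250327 : sm gc N20287 = N29527 := rfl
theorem L250329 : sm gf N29527 = N21533 := ded_29_2 (flp_c L182996) (flp_f L172410) L250327
theorem L250331 : sm gj N29527 = N29527 := ded_31_2 (flp_c L250327) L172412 L250327
theorem L250332 : sm gh N29527 = N20294 := ded_32_2 (flp_c L172458) (flp_h L172413) L250327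
theorem L250334 : sm gd N29527 = N20556 := ded_27_2 (flp_c L174706) (flp_d L120446) (flp_c L118886) L172408 L250327
theorem L250336 : sm ge N20287 = N29528 := rfl
theorem L250338 : sm gj N29528 = N29528 := ded_42_2 (flp_e L250336) L172412 L250336
theorem L250339 : sm gh N29528 = N20295 := ded_43_2 (flp_e L172465) (flp_h L172413) L250336
theorem L250341 : sm gd N29528 = N29528 := ded_34_1 (flp_e L250336) (flp_d L172408) L118888 L172408 L250336
theorem L250342 : sm gi N20287 = N29529 := rfl
theorem L250344 : sm gd N29529 = N20288 := ded_39_1 (flp_i L172415) L172408 L250342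
theorem L250346 : sm gf N29529 = N21535 := ded_48_1 (flp_i L183010) (flp_f L172410) L250342
theorem L250348 : sm gj N29529 = N29529 := ded_53_1 (flp_i L250342) L172412 L250342
theorem L250349 : sm gg N20289 = N29530 := rfl
theorem L250351 : sm gc N29530 = N20307 := ded_30_1 (flp_g L172545) (flp_c L172425) L250349
theorem L250353 : sm gf N29530 = N29530 := ded_45_1 (flp_g L250349) L172427 L118904 (flp_f L172427) L250349
theorem L250354 : sm gj N29530 = N21536 := ded_49_2 (flp_g L183015) (flp_j L126019) (flp_g L118896) L172423 L250349
theorem L250356 : sm gh N20289 = N29531 := rfl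
theorem L250358 : sm gc N29531 = N20308 := ded_32_1 (flp_h L172554) (flp_c L172425) L250356
theorem L250360 : sm gf N29531 = N20291 := ded_47_1 (flp_h L172437) (flp_f L172427) L250356
theorem L250362 : sm gj N29531 = N20290 := ded_52_1 (flp_h L172429) L172423 L250356
theorem L250364 : sm gd N20290 = N29532 := rfl
theorem L250366 : sm gf N29532 = N20292 := ded_35_2 (flp_d L172446) (flp_f L172433) L250364
theorem L250368 : sm gg N29532 = N21538 := ded_36_2 (flp_d L183028) (flp_g L172435) L250364
theorem L250370 : sm gi N20290 = N29533 := rfl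
theorem L250372 : sm gc N29533 = N20310 := ded_33_1 (flp_i L172572) (flp_c L172431) L250370
theorem L250374 : sm gf N29533 = N20293 := ded_48_1 (flp_i L172450) (flp_f L172433) L250370
theorem L250376 : sm gg N29533 = N21539 := ded_51_1 (flp_i L183032) (flp_g L172435) L250370
theorem L250378 : sm gd N20291 = N29534 := rfl
theorem L250380 : sm gg N29534 = N29534 := ded_36_2 (flp_d L250378) L172443 L250378
theorem L250381 : sm gj N29534 = N20292 := ded_37_2 (flp_d L172446) (flp_j L172444) L250378
theorem L250383 : sm gi N20291 = N29535 := rfl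
theorem L250385 : sm gc N29535 = N20312 := ded_33_1 (flp_i L172590) (flp_c L172439) L250383
theorem L250387 : sm ge N29535 = N20298 := ded_44_1 (flp_i L172484) (flp_e L172441) L250383
theorem L250389 : sm gg N29535 = N29535 := ded_51_1 (flp_i L250383) L172443 L250383
theorem L250390 : sm gj N29535 = N20293 := ded_53_1 (flp_i L172450) (flp_j L172444) L250383
theorem L250392 : sm gc N20292 = N29536 := rfl
theorem L250394 : sm gg N29536 = N20294 := ded_30_2 (flp_c L172458) (flp_g L172448) L250392
theorem L250396 : sm gd N29536 = N20313 := ded_27_2 (flp_c L172599) (flp_d L119004) (flp_c L118907) L172446 L250392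
theorem L250398 : sm ge N20292 = N29537 := rfl
theorem L250400 : sm gg N29537 = N20295 := ded_41_2 (flp_e L172465) (flp_g L172448) L250398
theorem L250402 : sm gd N29537 = N20299 := ded_34_1 (flp_e L172491) (flp_d L118934) (flp_e L118909) L172446 L250398
theorem L250404 : sm gi N20292 = N29538 := rfl
theorem L250406 : sm gd N29538 = N20293 := ded_39_1 (flp_i L172450) L172446 L250404
theorem L250408 : sm gg N29538 = N20296 := ded_51_1 (flp_i L172470) (flp_g L172448) L250404
theorem L250410 : sm gb N20294 = N29539 := rfl
theorem L250412 : sm gd N29539 = N20315 := ded_20_2 (flp_b L172615) (flp_d L172463) L250410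
theorem L250414 : sm gf N29539 = N21545 := ded_22_2 (flp_b L183070) (flp_f L172460) L250410
theorem L250416 : sm gj N29539 = N29539 := ded_24_2 (flp_b L250410) L172462 L250410
theorem L250417 : sm ge N20294 = N29540 := rfl
theorem L250419 : sm gc N29540 = N20295 := ded_28_1 (flp_e L172465) L172458 L250417
theorem L250421 : sm gj N29540 = N29540 := ded_42_2 (flp_e L250417) L172462 L250417
theorem L250422 : sm gd N29540 = N29540 := ded_34_1 (flp_e L250417) L172463 L119023 (flp_d L172463) L250417
theorem L250423 : sm gi N20294 = N29541 := rfl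
theorem L250425 : sm gc N29541 = N20296 := ded_33_1 (flp_i L172470) L172458 L250423
theorem L250427 : sm gd N29541 = N20316 := ded_39_1 (flp_i L172625) (flp_d L172463) L250423
theorem L250429 : sm gf N29541 = N21547 := ded_48_1 (flp_i L183082) (flp_f L172460) L250423
theorem L250431 : sm gj N29541 = N29541 := ded_53_1 (flp_i L250423) L172462 L250423
theorem L250432 : sm gf N20295 = N29542 := rfl
theorem L250434 : sm gd N29542 = N20301 := ded_35_1 (flp_f L172504) (flp_d L172468) L250432
theorem L250436 : sm gj N29542 = N29542 := ded_46_2 (flp_f L250432) L172467 L250432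
theorem L250437 : sm ge N29542 = N21548 := ded_40_1 (flp_f L183089) (flp_e L126057) (flp_f L118915) L172465 L250432
theorem L250439 : sm gi N20295 = N29543 := rfl
theorem L250441 : sm gd N29543 = N20302 := ded_39_1 (flp_i L172511) (flp_d L172468) L250439
theorem L250443 : sm ge N29543 = N20296 := ded_44_1 (flp_i L172470) L172465 L250439
theorem L250445 : sm gj N29543 = N29543 := ded_53_1 (flp_i L250439) L172467 L250439
theorem L250446 : sm gh N20296 = N29544 := rfl
theorem L250448 : sm gf N29544 = N21550 := ded_47_1 (flp_h L183101) (flp_f L172474) L250446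
theorem L250450 : sm gj N29544 = N29544 := ded_52_1 (flp_h L250446) L172476 L250446
theorem L250451 : sm ge N20297 = N29545 := rfl
theorem L250453 : sm gc N29545 = N29545 := ded_28_1 (flp_e L250451) L172482 L250451
theorem L250454 : sm gg N29545 = N29545 := ded_41_2 (flp_e L250451) L172479 L250451
theorem L250455 : sm gj N29545 = N20299 := ded_42_2 (flp_e L172491) (flp_j L172480) L250451
theorem L250457 : sm gh N29545 = N29545 := ded_43_2 (flp_e L250451) L172483 L250451
theorem L250458 : sm gi N20297 = N29546 := rfl
theorem L250460 : sm gc N29546 = N29546 := ded_33_1 (flp_i L250458) L172482 L250458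
theorem L250461 : sm gd N29546 = N20298 := ded_39_1 (flp_i L172484) L172477 L250458
theorem L250463 : sm gg N29546 = N29546 := ded_51_1 (flp_i L250458) L172479 L250458
theorem L250464 : sm gj N29546 = N20300 := ded_53_1 (flp_i L172497) (flp_j L172480) L250458
theorem L250466 : sm gf N20299 = N29547 := rfl
theorem L250468 : sm gc N29547 = N29547 := ded_29_1 (flp_f L250466) L172493 L250466
theorem L250469 : sm gh N29547 = N29547 := ded_47_2 (flp_f L250466) L172496 L250466
theorem L250470 : sm gi N20299 = N29548 := rfl
theorem L250472 : sm gc N29548 = N29548 := ded_33_1 (flp_i L250470) L172493 L250470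
theorem L250473 : sm ge N29548 = N20300 := ded_44_1 (flp_i L172497) L172491 L250470
theorem L250475 : sm gg N29548 = N20302 := ded_51_1 (flp_i L172511) (flp_g L172494) L250470
theorem L250477 : sm gh N20300 = N29549 := rfl
theorem L250479 : sm gc N29549 = N29549 := ded_32_1 (flp_h L250477) L172499 L250477
theorem L250480 : sm gg N29549 = N20303 := ded_50_1 (flp_h L172517) (flp_g L172502) L250477
theorem L250482 : sm gi N29549 = N29549 := ded_54_2 (flp_h L250477) (flp_i L172497) L118939 L172497 L250477
theorem L250483 : sm gg N20301 = N29550 := rfl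
theorem L250485 : sm gc N29550 = N29550 := ded_30_1 (flp_g L250483) L172506 L250483
theorem L250486 : sm ge N29550 = N20304 := ded_41_1 (flp_g L172524) (flp_e L172509) L250483
theorem L250488 : sm gh N29550 = N29550 := ded_50_2 (flp_g L250483) L172508 L250483
theorem L250489 : sm gi N20301 = N29551 := rfl
theorem L250491 : sm gc N29551 = N29551 := ded_33_1 (flp_i L250489) L172506 L250489
theorem L250492 : sm ge N29551 = N20305 := ded_44_1 (flp_i L172530) (flp_e L172509) L250489
theorem L250494 : sm gf N29551 = N20302 := ded_48_1 (flp_i L172511) L172504 L250489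
theorem L250496 : sm gj N29551 = N29551 := ded_53_1 (flp_i L250489) L172507 L250489
theorem L250497 : sm gh N20302 = N29552 := rfl
theorem L250499 : sm gc N29552 = N29552 := ded_32_1 (flp_h L250497) L172513 L250497
theorem L250500 : sm ge N29552 = N20303 := ded_43_1 (flp_h L172517) (flp_e L172514) L250497
theorem L250502 : sm gj N29552 = N29552 := ded_52_1 (flp_h L250497) L172516 L250497
theorem L250503 : sm gi N29552 = N29552 := ded_54_2 (flp_h L250497) (flp_i L172511) L118950 L172511 L250497
theorem L250504 : sm gj N20304 = N29553 := rfl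
theorem L250506 : sm gc N29553 = N29553 := ded_31_1 (flp_j L250504) L172526 L250504
theorem L250507 : sm gd N29553 = N21559 := ded_37_1 (flp_j L183170) (flp_d L172527) L250504
theorem L250509 : sm gh N29553 = N29553 := ded_52_2 (flp_j L250504) L172529 L250504
theorem L250510 : sm gg N29553 = N29553 := ded_49_1 (flp_j L250504) (flp_g L172524) L118964 L172524 L250504
theorem L250511 : sm gi N20304 = N29554 := rfl
theorem L250513 : sm gc N29554 = N29554 := ded_33_1 (flp_i L250511) L172526 L250511
theorem L250514 : sm gd N29554 = N21560 := ded_39_1 (flp_i L183177) (flp_d L172527) L250511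
theorem L250516 : sm gg N29554 = N20305 := ded_51_1 (flp_i L172530) L172524 L250511
theorem L250518 : sm gh N20305 = N29555 := rfl
theorem L250520 : sm gc N29555 = N29555 := ded_32_1 (flp_h L250518) L172532 L250518
theorem L250521 : sm gf N29555 = N20306 := ded_47_1 (flp_h L172538) (flp_f L172535) L250518
theorem L250523 : sm gj N29555 = N29555 := ded_52_1 (flp_h L250518) L172537 L250518
theorem L250524 : sm gi N29555 = N29555 := ded_54_2 (flp_h L250518) (flp_i L172530) L118965 L172530 L250518
theorem L250525 : sm gd N20306 = N29556 := rfl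
theorem L250531 : sm gh N20307 = N29557 := rfl
theorem L250533 : sm gb N29557 = N20318 := ded_25_1 (flp_h L172643) (flp_b L172547) L250531
theorem L250535 : sm gf N29557 = N29557 := ded_47_1 (flp_h L250531) L172551 L250531
theorem L250536 : sm gg N29557 = N20308 := ded_50_1 (flp_h L172554) L172545 L250531
theorem L250538 : sm gj N29557 = N21563 := ded_52_1 (flp_h L183197) (flp_j L172552) L250531
theorem L250540 : sm gd N20308 = N29558 := rfl
theorem L250542 : sm gb N29558 = N20319 := ded_20_1 (flp_d L172651) (flp_b L172556) L250540
theorem L250544 : sm gf N29558 = N20311 := ded_35_2 (flp_d L172580) (flp_f L172558) L250540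
theorem L250546 : sm gj N29558 = N20309 := ded_37_2 (flp_d L172562) (flp_j L172560) L250540
theorem L250548 : sm gh N29558 = N20580 := ded_38_2 (flp_d L174900) (flp_h L120583) (flp_d L118983) L172554 L250540
theorem L250550 : sm gi N20308 = N29559 := rfl
theorem L250552 : sm gb N29559 = N20320 := ded_26_1 (flp_i L172660) (flp_b L172556) L250550
theorem L250554 : sm gf N29559 = N20312 := ded_48_1 (flp_i L172590) (flp_f L172558) L250550
theorem L250556 : sm gj N29559 = N20310 := ded_53_1 (flp_i L172572) (flp_j L172560) L250550
theorem L250558 : sm gc N20309 = N29560 := rfl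
theorem L250560 : sm gf N29560 = N20313 := ded_29_2 (flp_c L172599) (flp_f L172566) L250558
theorem L250562 : sm gg N29560 = N21566 := ded_30_2 (flp_c L183222) (flp_g L172568) L250558
theorem L250564 : sm gh N29560 = N20582 := ded_32_2 (flp_c L174917) (flp_h L172570) L250558
theorem L250566 : sm ge N20309 = N29561 := rfl
theorem L250568 : sm gb N29561 = N20322 := ded_21_1 (flp_e L172676) (flp_b L172564) L250566
theorem L250570 : sm gg N29561 = N21567 := ded_41_2 (flp_e L183228) (flp_g L172568) L250566
theorem L250572 : sm gh N29561 = N20583 := ded_43_2 (flp_e L174923) (flp_h L172570) L250566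
theorem L250574 : sm gf N29561 = N29561 := ded_40_2 (flp_e L250566) L172566 L119010 (flp_f L172566) L250566
theorem L250575 : sm gi N20309 = N29562 := rfl
theorem L250577 : sm gb N29562 = N20323 := ded_26_1 (flp_i L172684) (flp_b L172564) L250575
theorem L250579 : sm gd N29562 = N20310 := ded_39_1 (flp_i L172572) L172562 L250575
theorem L250581 : sm gf N29562 = N20314 := ded_48_1 (flp_i L172606) (flp_f L172566) L250575
theorem L250583 : sm gg N29562 = N21568 := ded_51_1 (flp_i L183236) (flp_g L172568) L250575
theorem L250585 : sm gc N20311 = N29563 := rfl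
theorem L250587 : sm ge N29563 = N29563 := ded_28_2 (flp_c L250585) L172587 L250585
theorem L250588 : sm gg N29563 = N29563 := ded_30_2 (flp_c L250585) L172584 L250585
theorem L250589 : sm gj N29563 = N20313 := ded_31_2 (flp_c L172599) (flp_j L172585) L250585
theorem L250591 : sm gh N29563 = N20585 := ded_32_2 (flp_c L174941) (flp_h L172588) L250585
theorem L250593 : sm gi N20311 = N29564 := rfl
theorem L250595 : sm gb N29564 = N20325 := ded_26_1 (flp_i L172702) (flp_b L172582) L250593
theorem L250597 : sm gd N29564 = N20312 := ded_39_1 (flp_i L172590) L172580 L250593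
theorem L250599 : sm ge N29564 = N29564 := ded_44_1 (flp_i L250593) L172587 L250593
theorem L250600 : sm gg N29564 = N29564 := ded_51_1 (flp_i L250593) L172584 L250593
theorem L250601 : sm gj N29564 = N20314 := ded_53_1 (flp_i L172606) (flp_j L172585) L250593
theorem L250603 : sm gb N20313 = N29565 := rfl
theorem L250605 : sm ge N29565 = N29565 := ded_21_2 (flp_b L250603) L172601 L250603
theorem L250606 : sm gg N29565 = N20315 := ded_23_2 (flp_b L172615) (flp_g L172602) L250603
theorem L250608 : sm gh N29565 = N20587 := ded_25_2 (flp_b L174957) (flp_h L172604) L250603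
theorem L250610 : sm gc N29565 = N20326 := ded_19_2 (flp_b L172711) (flp_c L119095) (flp_b L119006) L172599 L250603
theorem L250612 : sm gi N20313 = N29566 := rfl
theorem L250614 : sm gc N29566 = N20314 := ded_33_1 (flp_i L172606) L172599 L250612
theorem L250616 : sm ge N29566 = N29566 := ded_44_1 (flp_i L250612) L172601 L250612
theorem L250617 : sm gg N29566 = N20316 := ded_51_1 (flp_i L172625) (flp_g L172602) L250612
theorem L250619 : sm gh N20314 = N29567 := rfl
theorem L250621 : sm gb N29567 = N20328 := ded_25_1 (flp_h L172726) (flp_b L172608) L250619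
theorem L250623 : sm ge N29567 = N29567 := ded_43_1 (flp_h L250619) L172612 L250619
theorem L250624 : sm gg N29567 = N20317 := ded_50_1 (flp_h L172633) (flp_g L172613) L250619
theorem L250626 : sm gi N29567 = N20589 := ded_54_2 (flp_h L174971) (flp_i L120631) (flp_h L119011) L172606 L250619
theorem L250628 : sm ga N20315 = N29568 := rfl
theorem L250630 : sm gc N29568 = N20329 := ded_11_2 (flp_a L172734) (flp_c L172623) L250628
theorem L250632 : sm ge N29568 = N29568 := ded_13_2 (flp_a L250628) L172617 L250628
theorem L250633 : sm gf N29568 = N21574 := ded_14_2 (flp_a L183292) (flp_f L172618) L250628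
theorem L250635 : sm gj N29568 = N29568 := ded_16_2 (flp_a L250628) L172620 L250628
theorem L250636 : sm gh N29568 = N20590 := ded_17_2 (flp_a L174978) (flp_h L172621) L250628
theorem L250638 : sm gi N20315 = N29569 := rfl
theorem L250640 : sm gb N29569 = N20316 := ded_26_1 (flp_i L172625) L172615 L250638
theorem L250642 : sm gc N29569 = N20330 := ded_33_1 (flp_i L172743) (flp_c L172623) L250638
theorem L250644 : sm ge N29569 = N29569 := ded_44_1 (flp_i L250638) L172617 L250638
theorem L250645 : sm gf N29569 = N21575 := ded_48_1 (flp_i L183301) (flp_f L172618) L250638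
theorem L250647 : sm gj N29569 = N29569 := ded_53_1 (flp_i L250638) L172620 L250638
theorem L250648 : sm gh N20316 = N29570 := rfl
theorem L250650 : sm gc N29570 = N20317 := ded_32_1 (flp_h L172633) (flp_c L172627) L250648
theorem L250652 : sm ge N29570 = N29570 := ded_43_1 (flp_h L250648) L172629 L250648
theorem L250653 : sm gf N29570 = N21576 := ded_47_1 (flp_h L183310) (flp_f L172630) L250648
theorem L250655 : sm gj N29570 = N29570 := ded_52_1 (flp_h L250648) L172632 L250648
theorem L250656 : sm gi N29570 = N20592 := ded_54_2 (flp_h L174996) (flp_i L120648) (flp_h L119027) L172625 L250648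
theorem L250658 : sm gd N20318 = N29571 := rfl
theorem L250660 : sm ga N29571 = N29571 := ded_12_1 (flp_d L250658) L172645 L250658
theorem L250661 : sm gf N29571 = N29571 := ded_35_2 (flp_d L250658) L172646 L250658
theorem L250662 : sm gg N29571 = N20319 := ded_36_2 (flp_d L172651) (flp_g L172647) L250658
theorem L250664 : sm gj N29571 = N21577 := ded_37_2 (flp_d L183319) (flp_j L172649) L250658
theorem L250666 : sm gh N29571 = N20593 := ded_38_2 (flp_d L175004) (flp_h L120664) (flp_d L119050) L172643 L250658
theorem L250668 : sm gi N20318 = N29572 := rfl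
theorem L250670 : sm ga N29572 = N29572 := ded_18_1 (flp_i L250668) L172645 L250668
theorem L250671 : sm gf N29572 = N29572 := ded_48_1 (flp_i L250668) L172646 L250668
theorem L250672 : sm gg N29572 = N20320 := ded_51_1 (flp_i L172660) (flp_g L172647) L250668
theorem L250674 : sm gj N29572 = N21578 := ded_53_1 (flp_i L183327) (flp_j L172649) L250668
theorem L250676 : sm gc N20319 = N29573 := rfl
theorem L250678 : sm ga N29573 = N29573 := ded_11_1 (flp_c L250676) L172653 L250676
theorem L250679 : sm gf N29573 = N20324 := ded_29_2 (flp_c L172693) (flp_f L172654) L250676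
theorem L250681 : sm gj N29573 = N20321 := ded_31_2 (flp_c L172667) (flp_j L172656) L250676
theorem L250683 : sm gh N29573 = N20595 := ded_32_2 (flp_c L175022) (flp_h L172658) L250676
theorem L250685 : sm ge N20319 = N29574 := rfl
theorem L250687 : sm ga N29574 = N29574 := ded_13_1 (flp_e L250685) L172653 L250685
theorem L250688 : sm gj N29574 = N20322 := ded_42_2 (flp_e L172676) (flp_j L172656) L250685
theorem L250690 : sm gh N29574 = N20596 := ded_43_2 (flp_e L175030) (flp_h L172658) L250685
theorem L250692 : sm gf N29574 = N29574 := ded_40_2 (flp_e L250685) L172654 L119084 (flp_f L172654) L250685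
theorem L250693 : sm gi N20319 = N29575 := rfl
theorem L250695 : sm ga N29575 = N29575 := ded_18_1 (flp_i L250693) L172653 L250693
theorem L250696 : sm gd N29575 = N20320 := ded_39_1 (flp_i L172660) L172651 L250693
theorem L250698 : sm gf N29575 = N20325 := ded_48_1 (flp_i L172702) (flp_f L172654) L250693
theorem L250700 : sm gj N29575 = N20323 := ded_53_1 (flp_i L172684) (flp_j L172656) L250693
theorem L250702 : sm gb N20321 = N29576 := rfl
theorem L250704 : sm gf N29576 = N20326 := ded_22_2 (flp_b L172711) (flp_f L172670) L250702
theorem L250706 : sm gg N29576 = N21582 := ded_23_2 (flp_b L183360) (flp_g L172672) L250702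
theorem L250708 : sm gh N29576 = N20598 := ded_25_2 (flp_b L175046) (flp_h L172674) L250702
theorem L250710 : sm ge N20321 = N29577 := rfl
theorem L250712 : sm ga N29577 = N29577 := ded_13_1 (flp_e L250710) L172669 L250710
theorem L250713 : sm gc N29577 = N20322 := ded_28_1 (flp_e L172676) L172667 L250710
theorem L250715 : sm gg N29577 = N21583 := ded_41_2 (flp_e L183366) (flp_g L172672) L250710
theorem L250717 : sm gh N29577 = N20599 := ded_43_2 (flp_e L175053) (flp_h L172674) L250710
theorem L250719 : sm gf N29577 = N29577 := ded_40_2 (flp_e L250710) L172670 L119098 (flp_f L172670) L250710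
theorem L250720 : sm gi N20321 = N29578 := rfl
theorem L250722 : sm ga N29578 = N29578 := ded_18_1 (flp_i L250720) L172669 L250720
theorem L250723 : sm gc N29578 = N20323 := ded_33_1 (flp_i L172684) L172667 L250720
theorem L250725 : sm gf N29578 = N20327 := ded_48_1 (flp_i L172718) (flp_f L172670) L250720
theorem L250727 : sm gg N29578 = N21584 := ded_51_1 (flp_i L183375) (flp_g L172672) L250720
theorem L250729 : sm gi N20322 = N29579 := rfl
theorem L250731 : sm ga N29579 = N29579 := ded_18_1 (flp_i L250729) L172678 L250729
theorem L250732 : sm ge N29579 = N20323 := ded_44_1 (flp_i L172684) L172676 L250729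
theorem L250734 : sm gf N29579 = N29579 := ded_48_1 (flp_i L250729) L172683 L250729
theorem L250735 : sm gg N29579 = N21585 := ded_51_1 (flp_i L183382) (flp_g L172679) L250729
theorem L250737 : sm gh N20323 = N29580 := rfl
theorem L250739 : sm ga N29580 = N29580 := ded_17_1 (flp_h L250737) L172686 L250737
theorem L250740 : sm gf N29580 = N20328 := ded_47_1 (flp_h L172726) (flp_f L172689) L250737
theorem L250742 : sm gg N29580 = N21586 := ded_50_1 (flp_h L183389) (flp_g L172691) L250737
theorem L250744 : sm gi N29580 = N20602 := ded_54_2 (flp_h L175080) (flp_i L120705) (flp_h L119069) L172684 L250737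
theorem L250746 : sm gb N20324 = N29581 := rfl
theorem L250748 : sm ge N29581 = N29581 := ded_21_2 (flp_b L250746) L172696 L250746
theorem L250749 : sm gg N29581 = N29581 := ded_23_2 (flp_b L250746) L172697 L250746
theorem L250750 : sm gj N29581 = N20326 := ded_24_2 (flp_b L172711) (flp_j L172698) L250746
theorem L250752 : sm gh N29581 = N20603 := ded_25_2 (flp_b L175087) (flp_h L172700) L250746
theorem L250754 : sm gi N20324 = N29582 := rfl
theorem L250756 : sm ga N29582 = N29582 := ded_18_1 (flp_i L250754) L172695 L250754
theorem L250757 : sm gc N29582 = N20325 := ded_33_1 (flp_i L172702) L172693 L250754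
theorem L250759 : sm ge N29582 = N29582 := ded_44_1 (flp_i L250754) L172696 L250754
theorem L250760 : sm gg N29582 = N29582 := ded_51_1 (flp_i L250754) L172697 L250754
theorem L250761 : sm gj N29582 = N20327 := ded_53_1 (flp_i L172718) (flp_j L172698) L250754
theorem L250763 : sm gh N20325 = N29583 := rfl
theorem L250765 : sm ga N29583 = N29583 := ded_17_1 (flp_h L250763) L172704 L250763
theorem L250766 : sm ge N29583 = N29583 := ded_43_1 (flp_h L250763) L172707 L250763
theorem L250767 : sm gg N29583 = N29583 := ded_50_1 (flp_h L250763) L172708 L250763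
theorem L250768 : sm gj N29583 = N20328 := ded_52_1 (flp_h L172726) (flp_j L172709) L250763
theorem L250770 : sm gi N29583 = N20605 := ded_54_2 (flp_h L175104) (flp_i L120722) (flp_h L119085) L172702 L250763
theorem L250772 : sm ga N20326 = N29584 := rfl
theorem L250774 : sm ge N29584 = N29584 := ded_13_2 (flp_a L250772) L172713 L250772
theorem L250775 : sm gg N29584 = N20329 := ded_15_2 (flp_a L172734) (flp_g L172714) L250772
theorem L250777 : sm gh N29584 = N20606 := ded_17_2 (flp_a L175111) (flp_h L172716) L250772
theorem L250779 : sm gb N29584 = N29584 := ded_10_2 (flp_a L250772) (flp_b L172711) L119097 L172711 L250772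
theorem L250780 : sm gi N20326 = N29585 := rfl
theorem L250782 : sm gb N29585 = N20327 := ded_26_1 (flp_i L172718) L172711 L250780
theorem L250784 : sm ge N29585 = N29585 := ded_44_1 (flp_i L250780) L172713 L250780
theorem L250785 : sm gg N29585 = N20330 := ded_51_1 (flp_i L172743) (flp_g L172714) L250780
theorem L250787 : sm gh N20327 = N29586 := rfl
theorem L250789 : sm ga N29586 = N29586 := ded_17_1 (flp_h L250787) L172720 L250787
theorem L250790 : sm gc N29586 = N20328 := ded_32_1 (flp_h L172726) (flp_c L172721) L250787
theorem L250792 : sm ge N29586 = N29586 := ded_43_1 (flp_h L250787) L172723 L250787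
theorem L250793 : sm gg N29586 = N20331 := ded_50_1 (flp_h L172751) (flp_g L172724) L250787
theorem L250795 : sm gi N29586 = N20608 := ded_54_2 (flp_h L175126) (flp_i L120737) (flp_h L119101) L172718 L250787
theorem L250797 : sm gi N20329 = N29587 := rfl
theorem L250799 : sm ga N29587 = N20330 := ded_18_1 (flp_i L172743) L172734 L250797
theorem L250801 : sm gb N29587 = N29587 := ded_26_1 (flp_i L250797) L172742 L250797
theorem L250802 : sm ge N29587 = N29587 := ded_44_1 (flp_i L250797) L172736 L250797
theorem L250803 : sm gf N29587 = N21593 := ded_48_1 (flp_i L183453) (flp_f L172737) L250797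
theorem L250805 : sm gj N29587 = N29587 := ded_53_1 (flp_i L250797) L172739 L250797
theorem L250806 : sm gh N20330 = N29588 := rfl
theorem L250808 : sm gb N29588 = N20331 := ded_25_1 (flp_h L172751) (flp_b L172745) L250806
theorem L250810 : sm ge N29588 = N29588 := ded_43_1 (flp_h L250806) L172747 L250806
theorem L250811 : sm gf N29588 = N21594 := ded_47_1 (flp_h L183461) (flp_f L172748) L250806
theorem L250813 : sm gj N29588 = N29588 := ded_52_1 (flp_h L250806) L172750 L250806
theorem L250814 : sm gi N29588 = N20610 := ded_54_2 (flp_h L175144) (flp_i L120760) (flp_h L119117) L172743 L250806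
theorem L250816 : sm gd N20331 = N29589 := rfl
theorem L250818 : sm ga N29589 = N29589 := ded_12_1 (flp_d L250816) L172753 L250816
theorem L250819 : sm gf N29589 = N21595 := ded_35_2 (flp_d L183470) (flp_f L172757) L250816
theorem L250821 : sm gj N29589 = N29589 := ded_37_2 (flp_d L250816) L172759 L250816
theorem L250822 : sm gi N29589 = N20611 := ded_39_2 (flp_d L175152) (flp_i L172760) L250816
theorem L250892 : sm gh N20334 = N29597 := rfl
theorem L250896 : sm gc N29597 = N20340 := ded_32_1 (flp_h L172836) (flp_c L172786) L250892
theorem L250898 : sm ge N29597 = N20336 := ded_43_1 (flp_h L172800) L172782 L250892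
theorem L250902 : sm gj N20335 = N29598 := rfl
theorem L250904 : sm ga N29598 = N20347 := ded_16_1 (flp_j L172902) (flp_a L172793) L250902
theorem L250906 : sm gc N29598 = N20341 := ded_31_1 (flp_j L172845) (flp_c L172795) L250902
theorem L250930 : sm gi N20336 = N29601 := rfl
theorem L250967 : sm gj N20339 = N29605 := rfl
theorem L250969 : sm ga N29605 = N20354 := ded_16_1 (flp_j L172966) (flp_a L172829) L250967
theorem L250973 : sm ge N29605 = N20341 := ded_42_1 (flp_j L172845) (flp_e L172833) L250967
theorem L250977 : sm gh N20339 = N29606 := rfl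
theorem L250979 : sm ga N29606 = N20355 := ded_17_1 (flp_h L172975) (flp_a L172829) L250977
theorem L250995 : sm gi N20340 = N29608 := rfl
theorem L251005 : sm gh N20341 = N29609 := rfl
theorem L251007 : sm ga N29609 = N20358 := ded_17_1 (flp_h L173000) (flp_a L172847) L251005
theorem L251012 : sm gj N29609 = N20342 := ded_52_1 (flp_h L172855) L172845 L251005
theorem L251015 : sm gi N20342 = N29610 := rfl
theorem L251017 : sm ga N29610 = N20359 := ded_18_1 (flp_i L173009) (flp_a L172857) L251015
theorem L251025 : sm gg N20344 = N29611 := rfl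
theorem L251027 : sm gb N29611 = N20389 := ded_23_1 (flp_g L173285) (flp_b L172876) L251025
theorem L251030 : sm gd N29611 = N20345 := ded_36_1 (flp_g L172883) L172874 L251025
theorem L251042 : sm gf N20345 = N29613 := rfl
theorem L251044 : sm gb N29613 = N20391 := ded_22_1 (flp_f L173296) (flp_b L172885) L251042
theorem L251046 : sm gc N29613 = N20353 := ded_29_1 (flp_f L172958) (flp_c L172887) L251042
theorem L251049 : sm ge N29613 = N29613 := ded_40_1 (flp_f L251042) L172889 L119230 (flp_e L172889) L251042
theorem L251051 : sm gj N20345 = N29614 := rfl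
theorem L251055 : sm gc N29614 = N20354 := ded_31_1 (flp_j L172966) (flp_c L172887) L251051
theorem L251088 : sm gh N20347 = N29618 := rfl
theorem L251096 : sm gj N29618 = N20348 := ded_52_1 (flp_h L172912) L172902 L251088
theorem L251098 : sm gd N20348 = N29619 := rfl
theorem L251103 : sm gg N29619 = N20349 := ded_36_2 (flp_d L172921) (flp_g L172919) L251098
theorem L251107 : sm gi N20348 = N29620 := rfl
theorem L251111 : sm gc N29620 = N20359 := ded_33_1 (flp_i L173009) (flp_c L172916) L251107
theorem L251124 : sm gi N20349 = N29622 := rfl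
theorem L251126 : sm gb N29622 = N20400 := ded_26_1 (flp_i L173362) (flp_b L172923) L251124
theorem L251131 : sm gf N29622 = N20352 := ded_48_1 (flp_i L172949) (flp_f L172925) L251124
theorem L251134 : sm gf N20351 = N29623 := rfl
theorem L251136 : sm gb N29623 = N20401 := ded_22_1 (flp_f L173371) (flp_b L172942) L251134
theorem L251142 : sm gi N20351 = N29624 := rfl
theorem L251152 : sm gh N20352 = N29625 := rfl
theorem L251157 : sm gg N29625 = N29625 := ded_50_1 (flp_h L251152) L172956 L251152
theorem L251170 : sm gh N20353 = N29627 := rfl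
theorem L251172 : sm gb N29627 = N20361 := ded_25_1 (flp_h L173028) (flp_b L172960) L251170
theorem L251178 : sm gh N20354 = N29628 := rfl
theorem L251182 : sm ge N29628 = N20358 := ded_43_1 (flp_h L173000) (flp_e L172971) L251178
theorem L251185 : sm gj N29628 = N20355 := ded_52_1 (flp_h L172975) L172966 L251178
theorem L251204 : sm gc N20356 = N29631 := rfl
theorem L251210 : sm gi N20356 = N29632 := rfl
theorem L251212 : sm gb N29632 = N20366 := ded_26_1 (flp_i L173073) (flp_b L172985) L251210
theorem L251219 : sm gi N20358 = N29633 := rfl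
theorem L251226 : sm gj N29633 = N20359 := ded_53_1 (flp_i L173009) (flp_j L173006) L251219
theorem L251229 : sm gg N20360 = N29634 := rfl
theorem L251232 : sm gc N29634 = N20412 := ded_30_1 (flp_g L173464) (flp_c L173021) L251229
theorem L251239 : sm gh N20360 = N29635 := rfl
theorem L251242 : sm gc N29635 = N20413 := ded_32_1 (flp_h L173471) (flp_c L173021) L251239
theorem L251245 : sm gf N29635 = N20362 := ded_47_1 (flp_h L173037) (flp_f L173025) L251239
theorem L251247 : sm gj N29635 = N20361 := ded_52_1 (flp_h L173028) L173018 L251239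
theorem L251249 : sm gd N20361 = N29636 := rfl
theorem L251252 : sm gf N29636 = N20363 := ded_35_2 (flp_d L173047) (flp_f L173034) L251249
theorem L251256 : sm gi N20361 = N29637 := rfl
theorem L251262 : sm gf N29637 = N20364 := ded_48_1 (flp_i L173054) (flp_f L173034) L251256
theorem L251266 : sm gd N20362 = N29638 := rfl
theorem L251270 : sm gj N29638 = N20363 := ded_37_2 (flp_d L173047) (flp_j L173045) L251266
theorem L251274 : sm gi N20362 = N29639 := rfl
theorem L251277 : sm gc N29639 = N20417 := ded_33_1 (flp_i L173501) (flp_c L173040) L251274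
theorem L251282 : sm gj N29639 = N20364 := ded_53_1 (flp_i L173054) (flp_j L173045) L251274
theorem L251285 : sm gc N20363 = N29640 := rfl
theorem L251289 : sm gg N29640 = N20365 := ded_30_2 (flp_c L173064) (flp_g L173050) L251285
theorem L251292 : sm gd N29640 = N20418 := ded_27_2 (flp_c L173510) (flp_d L119625) (flp_c L119322) L173047 L251285
theorem L251302 : sm gb N20365 = N29642 := rfl
theorem L251304 : sm gd N29642 = N20420 := ded_20_2 (flp_b L173526) (flp_d L173071) L251302
theorem L251310 : sm gi N20365 = N29643 := rfl
theorem L251313 : sm gc N29643 = N20366 := ded_33_1 (flp_i L173073) L173064 L251310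
theorem L251315 : sm gd N29643 = N20421 := ded_39_1 (flp_i L173532) (flp_d L173071) L251310
theorem L251320 : sm gh N20366 = N29644 := rfl
theorem L251336 : sm gg N20368 = N29646 := rfl
theorem L251340 : sm gc N29646 = N29646 := ded_30_1 (flp_g L251336) L173096 L251336
theorem L251344 : sm gh N20368 = N29647 := rfl
theorem L251346 : sm gb N29647 = N20375 := ded_25_1 (flp_h L173149) (flp_b L173094) L251344
theorem L251349 : sm ge N29647 = N20370 := ded_43_1 (flp_h L173108) L173092 L251344
theorem L251362 : sm gh N20369 = N29649 := rfl
theorem L251364 : sm gb N29649 = N20377 := ded_25_1 (flp_h L173169) (flp_b L173102) L251362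
theorem L251368 : sm gg N29649 = N20370 := ded_50_1 (flp_h L173108) L173100 L251362
theorem L251378 : sm gi N20370 = N29651 := rfl
theorem L251387 : sm gc N20371 = N29652 := rfl
theorem L251392 : sm gb N29652 = N20430 := ded_19_1 (flp_c L173621) L119699 (flp_c L119414) (flp_b L173118) L251387
theorem L251403 : sm gi N20371 = N29654 := rfl
theorem L251411 : sm gg N20373 = N29655 := rfl
theorem L251413 : sm ga N29655 = N20389 := ded_15_1 (flp_g L173285) (flp_a L173134) L251411
theorem L251415 : sm gd N29655 = N20374 := ded_36_1 (flp_g L173140) L173132 L251411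
theorem L251435 : sm gj N20374 = N29658 := rfl
theorem L251437 : sm ga N29658 = N20392 := ded_16_1 (flp_j L173303) (flp_a L173142) L251435
theorem L251439 : sm gc N29658 = N20383 := ded_31_1 (flp_j L173226) (flp_c L173144) L251435
theorem L251445 : sm gh N20374 = N29659 := rfl
theorem L251447 : sm ga N29659 = N20393 := ded_17_1 (flp_h L173311) (flp_a L173142) L251445
theorem L251455 : sm gd N20375 = N29660 := rfl
theorem L251461 : sm gi N20375 = N29661 := rfl
theorem L251482 : sm gd N20377 = N29663 := rfl
theorem L251487 : sm gg N29663 = N20378 := ded_36_2 (flp_d L173178) (flp_g L173176) L251482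
theorem L251510 : sm gi N20378 = N29666 := rfl
theorem L251518 : sm gf N29666 = N20381 := ded_48_1 (flp_i L173208) (flp_f L173182) L251510
theorem L251530 : sm gi N20380 = N29668 := rfl
theorem L251537 : sm ge N29668 = N20381 := ded_44_1 (flp_i L173208) L173198 L251530
theorem L251541 : sm gh N20381 = N29669 := rfl
theorem L251551 : sm gj N20382 = N29670 := rfl
theorem L251553 : sm ga N29670 = N20404 := ded_16_1 (flp_j L173395) (flp_a L173220) L251551
theorem L251598 : sm gc N20385 = N29675 := rfl
theorem L251600 : sm ga N29675 = N20409 := ded_11_1 (flp_c L173437) (flp_a L173246) L251598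
theorem L251602 : sm ge N29675 = N20453 := ded_28_2 (flp_c L173835) (flp_e L173251) L251598
theorem L251635 : sm gj N20389 = N29679 := rfl
theorem L251642 : sm gh N20389 = N29680 := rfl
theorem L251645 : sm gg N29680 = N20390 := ded_50_1 (flp_h L173291) L173285 L251642
theorem L251647 : sm gd N20390 = N29681 := rfl
theorem L251651 : sm gh N29681 = N20394 := ded_38_2 (flp_d L173319) (flp_h L119488) L119475 L173291 L251647
theorem L251653 : sm gi N20390 = N29682 := rfl
theorem L251667 : sm gh N20391 = N29684 := rfl
theorem L251672 : sm gf N29684 = N20393 := ded_47_1 (flp_h L173311) L173296 L251667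
theorem L251684 : sm gd N20393 = N29686 := rfl
theorem L251686 : sm gg N29686 = N20394 := ded_36_2 (flp_d L173319) (flp_g L173317) L251684
theorem L251688 : sm gi N20393 = N29687 := rfl
theorem L251708 : sm gi N20394 = N29690 := rfl
theorem L251772 : sm gg N20401 = N29698 := rfl
theorem L251774 : sm gc N29698 = N20476 := ded_30_1 (flp_g L174026) (flp_c L173373) L251772
theorem L251779 : sm gi N20401 = N29699 := rfl
theorem L251796 : sm gg N20404 = N29701 := rfl
theorem L251798 : sm gb N29701 = N20412 := ded_23_1 (flp_g L173464) (flp_b L173397) L251796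
theorem L251804 : sm gh N20404 = N29702 := rfl
theorem L251806 : sm gb N29702 = N20413 := ded_25_1 (flp_h L173471) (flp_b L173397) L251804
theorem L251809 : sm gf N29702 = N20406 := ded_47_1 (flp_h L173411) (flp_f L173400) L251804
theorem L251811 : sm gj N29702 = N20405 := ded_52_1 (flp_h L173403) L173395 L251804
theorem L251813 : sm gd N20405 = N29703 := rfl
theorem L251815 : sm gb N29703 = N20414 := ded_20_1 (flp_d L173479) (flp_b L173405) L251813
theorem L251817 : sm gf N29703 = N20407 := ded_35_2 (flp_d L173420) (flp_f L173408) L251813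
theorem L251820 : sm gi N20405 = N29704 := rfl
theorem L251822 : sm gb N29704 = N20415 := ded_26_1 (flp_i L173485) (flp_b L173405) L251820
theorem L251829 : sm gd N20406 = N29705 := rfl
theorem L251831 : sm gb N29705 = N20416 := ded_20_1 (flp_d L173493) (flp_b L173413) L251829
theorem L251834 : sm gj N29705 = N20407 := ded_37_2 (flp_d L173420) (flp_j L173418) L251829
theorem L251836 : sm ge N29705 = N20483 := ded_34_2 (flp_d L174088) L120018 (flp_d L119591) (flp_e L173415) L251829
theorem L251838 : sm gi N20406 = N29706 := rfl
theorem L251848 : sm gc N20407 = N29707 := rfl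
theorem L251850 : sm ge N29707 = N20485 := ded_28_2 (flp_c L174106) (flp_e L173426) L251848
theorem L251854 : sm gi N20407 = N29708 := rfl
theorem L251856 : sm gb N29708 = N20419 := ded_26_1 (flp_i L173517) (flp_b L173422) L251854
theorem L251862 : sm gg N29708 = N20410 := ded_51_1 (flp_i L173443) (flp_g L173424) L251854
theorem L251864 : sm gb N20409 = N29709 := rfl
theorem L251870 : sm gc N29709 = N20420 := ded_19_2 (flp_b L173526) (flp_c L119640) (flp_b L119568) L173437 L251864
theorem L251872 : sm gi N20409 = N29710 := rfl
theorem L251874 : sm gc N29710 = N20410 := ded_33_1 (flp_i L173443) L173437 L251872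
theorem L251880 : sm gh N20410 = N29711 := rfl
theorem L251882 : sm gb N29711 = N20422 := ded_25_1 (flp_h L173541) (flp_b L173445) L251880
theorem L251889 : sm gh N20412 = N29712 := rfl
theorem L251894 : sm gg N29712 = N20413 := ded_50_1 (flp_h L173471) L173464 L251889
theorem L251897 : sm gd N20413 = N29713 := rfl
theorem L251900 : sm gf N29713 = N20416 := ded_35_2 (flp_d L173493) (flp_f L173475) L251897
theorem L251902 : sm gj N29713 = N20414 := ded_37_2 (flp_d L173479) (flp_j L173477) L251897
theorem L251913 : sm gc N20414 = N29715 := rfl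
theorem L251919 : sm ge N20414 = N29716 := rfl
theorem L251921 : sm ga N29716 = N29716 := ded_13_1 (flp_e L251919) L173481 L251919
theorem L251922 : sm gg N29716 = N29716 := ded_41_2 (flp_e L251919) L173484 L251919
theorem L251923 : sm gd N29716 = N29716 := ded_34_1 (flp_e L251919) (flp_d L173479) L119613 L173479 L251919
theorem L251924 : sm gf N29716 = N20494 := ded_40_2 (flp_e L174177) L120085 (flp_e L119630) (flp_f L173482) L251919
theorem L251926 : sm gi N20414 = N29717 := rfl
theorem L251934 : sm gc N20416 = N29718 := rfl
theorem L251937 : sm ge N29718 = N20496 := ded_28_2 (flp_c L174192) (flp_e L173499) L251934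
theorem L251942 : sm gi N20416 = N29719 := rfl
theorem L251952 : sm gb N20418 = N29720 := rfl
theorem L251954 : sm ge N29720 = N20498 := ded_21_2 (flp_b L174207) (flp_e L173513) L251952
theorem L251956 : sm gg N29720 = N20420 := ded_23_2 (flp_b L173526) (flp_g L173515) L251952
theorem L251958 : sm gi N20418 = N29721 := rfl
theorem L251963 : sm ge N29721 = N20499 := ded_44_1 (flp_i L174212) (flp_e L173513) L251958
theorem L251967 : sm gh N20419 = N29722 := rfl
theorem L251970 : sm ge N29722 = N20500 := ded_43_1 (flp_h L174220) (flp_e L173522) L251967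
theorem L251975 : sm ga N20420 = N29723 := rfl
theorem L251977 : sm ge N29723 = N20501 := ded_13_2 (flp_a L174227) (flp_e L173528) L251975
theorem L251982 : sm gi N20420 = N29724 := rfl
theorem L251984 : sm gb N29724 = N20421 := ded_26_1 (flp_i L173532) L173526 L251982
theorem L251986 : sm ge N29724 = N20502 := ded_44_1 (flp_i L174234) (flp_e L173528) L251982
theorem L251990 : sm gh N20421 = N29725 := rfl
theorem L251992 : sm ga N29725 = N29725 := ded_17_1 (flp_h L251990) L173534 L251990
theorem L252009 : sm gg N20423 = N29727 := rfl
theorem L252012 : sm gb N29727 = N20433 := ded_23_1 (flp_g L173647) (flp_b L173552) L252009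
theorem L252017 : sm gi N29727 = N20505 := ded_51_2 (flp_g L174258) (flp_i L173557) L252009
theorem L252028 : sm gf N20424 = N29729 := rfl
theorem L252031 : sm gb N29729 = N20435 := ded_22_1 (flp_f L173664) (flp_b L173563) L252028
theorem L252034 : sm gi N29729 = N20507 := ded_48_2 (flp_f L174275) (flp_i L173568) L252028
theorem L252081 : sm gh N20426 = N29734 := rfl
theorem L252091 : sm gd N20427 = N29735 := rfl
theorem L252097 : sm gg N29735 = N20428 := ded_36_2 (flp_d L173601) (flp_g L173599) L252091
theorem L252111 : sm gc N20428 = N29737 := rfl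
theorem L252114 : sm gf N29737 = N20430 := ded_29_2 (flp_c L173621) (flp_f L173606) L252111
theorem L252126 : sm gi N20428 = N29739 := rfl
theorem L252131 : sm gd N29739 = N20429 := ded_39_1 (flp_i L173610) L173601 L252126
theorem L252133 : sm gf N29739 = N20432 := ded_48_1 (flp_i L173638) (flp_f L173606) L252126
theorem L252144 : sm gi N20430 = N29741 := rfl
theorem L252147 : sm gc N29741 = N20432 := ded_33_1 (flp_i L173638) L173621 L252144
theorem L252172 : sm gh N20432 = N29744 := rfl
theorem L252182 : sm gf N20433 = N29745 := rfl
theorem L252184 : sm ga N29745 = N20456 := ded_14_1 (flp_f L173863) (flp_a L173649) L252182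
theorem L252186 : sm gd N29745 = N20435 := ded_35_1 (flp_f L173664) (flp_d L173651) L252182
theorem L252188 : sm gi N29745 = N20520 := ded_48_2 (flp_f L174396) (flp_i L173654) L252182
theorem L252192 : sm gj N20433 = N29746 := rfl
theorem L252199 : sm gi N29746 = N20521 := ded_53_2 (flp_j L174404) (flp_i L173654) L252192
theorem L252202 : sm gh N20433 = N29747 := rfl
theorem L252204 : sm ga N29747 = N20458 := ded_17_1 (flp_h L173881) (flp_a L173649) L252202
theorem L252209 : sm gd N20434 = N29748 := rfl
theorem L252211 : sm ga N29748 = N20459 := ded_12_1 (flp_d L173887) (flp_a L173658) L252209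
theorem L252213 : sm gf N29748 = N21617 := ded_35_2 (flp_d L183676) (flp_f L173661) L252209
theorem L252216 : sm gh N29748 = N20438 := ded_38_2 (flp_d L173696) (flp_h L119736) L119716 L173656 L252209
theorem L252218 : sm gi N20434 = N29749 := rfl
theorem L252226 : sm gh N29749 = N20524 := ded_54_1 (flp_i L174428) (flp_h L120243) (flp_i L119723) L173656 L252218
theorem L252228 : sm gj N20435 = N29750 := rfl
theorem L252230 : sm ga N29750 = N20461 := ded_16_1 (flp_j L173904) (flp_a L173666) L252228
theorem L252232 : sm gc N29750 = N20448 := ded_31_1 (flp_j L173787) (flp_c L173668) L252228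
theorem L252235 : sm gf N29750 = N20436 := ded_46_1 (flp_j L173675) L173664 L252228
theorem L252237 : sm gi N29750 = N20525 := ded_53_2 (flp_j L174436) (flp_i L173670) L252228
theorem L252250 : sm gh N20436 = N29752 := rfl
theorem L252252 : sm ga N29752 = N20463 := ded_17_1 (flp_h L173924) (flp_a L173677) L252250
theorem L252254 : sm gc N29752 = N20450 := ded_32_1 (flp_h L173807) (flp_c L173679) L252250
theorem L252259 : sm gj N29752 = N20437 := ded_52_1 (flp_h L173686) L173675 L252250
theorem L252261 : sm gd N20437 = N29753 := rfl
theorem L252265 : sm gg N29753 = N20438 := ded_36_2 (flp_d L173696) (flp_g L173694) L252261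
theorem L252279 : sm gc N20438 = N29755 := rfl
theorem L252283 : sm gf N29755 = N21624 := ded_29_2 (flp_c L183741) (flp_f L173700) L252279
theorem L252286 : sm gd N29755 = N20453 := ded_27_2 (flp_c L173835) (flp_d L119832) (flp_c L119740) L173696 L252279
theorem L252325 : sm ge N20441 = N29760 := rfl
theorem L252327 : sm ga N29760 = N20471 := ded_13_1 (flp_e L173990) (flp_a L173728) L252325
theorem L252383 : sm gh N20446 = N29767 := rfl
theorem L252385 : sm ga N29767 = N20478 := ded_17_1 (flp_h L174041) (flp_a L173770) L252383
theorem L252393 : sm gg N20448 = N29768 := rfl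
theorem L252395 : sm ga N29768 = N20479 := ded_15_1 (flp_g L174050) (flp_a L173789) L252393
theorem L252397 : sm gb N29768 = N29768 := ded_23_1 (flp_g L252393) L173791 L252393
theorem L252398 : sm ge N29768 = N29768 := ded_41_1 (flp_g L252393) L173792 L252393
theorem L252399 : sm gi N29768 = N20539 := ded_51_2 (flp_g L174565) (flp_i L173795) L252393
theorem L252401 : sm gf N29768 = N29768 := ded_45_1 (flp_g L252393) L173793 L119822 (flp_f L173793) L252393
theorem L252402 : sm gj N29768 = N21635 := ded_49_2 (flp_g L183841) (flp_j L126582) (flp_g L119811) L173787 L252393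
theorem L252404 : sm gh N20448 = N29769 := rfl
theorem L252406 : sm ga N29769 = N20480 := ded_17_1 (flp_h L174060) (flp_a L173789) L252404
theorem L252410 : sm gf N29769 = N20450 := ded_47_1 (flp_h L173807) (flp_f L173793) L252404
theorem L252414 : sm gd N20449 = N29770 := rfl
theorem L252416 : sm ga N29770 = N20481 := ded_12_1 (flp_d L174069) (flp_a L173799) L252414
theorem L252419 : sm gf N29770 = N20451 := ded_35_2 (flp_d L173817) (flp_f L173803) L252414
theorem L252421 : sm gg N29770 = N21637 := ded_36_2 (flp_d L183860) (flp_g L173805) L252414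
theorem L252423 : sm gi N20449 = N29771 := rfl
theorem L252433 : sm gh N29771 = N20542 := ded_54_1 (flp_i L174593) (flp_h L120360) (flp_i L119808) L173797 L252423
theorem L252435 : sm gd N20450 = N29772 := rfl
theorem L252437 : sm ga N29772 = N20483 := ded_12_1 (flp_d L174088) (flp_a L173809) L252435
theorem L252441 : sm gj N29772 = N20451 := ded_37_2 (flp_d L173817) (flp_j L173815) L252435
theorem L252455 : sm gc N20451 = N29774 := rfl
theorem L252457 : sm ga N29774 = N20485 := ded_11_1 (flp_c L174106) (flp_a L173819) L252455
theorem L252476 : sm gi N20453 = N29777 := rfl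
theorem L252478 : sm ga N29777 = N20488 := ded_18_1 (flp_i L174125) (flp_a L173837) L252476
theorem L252485 : sm gh N20454 = N29778 := rfl
theorem L252487 : sm ga N29778 = N20489 := ded_17_1 (flp_h L174132) (flp_a L173844) L252485
theorem L252495 : sm ge N20456 = N29779 := rfl
theorem L252497 : sm gb N29779 = N29779 := ded_21_1 (flp_e L252495) L173865 L252495
theorem L252498 : sm gg N29779 = N21646 := ded_41_2 (flp_e L183937) (flp_g L173870) L252495
theorem L252500 : sm gi N29779 = N20550 := ded_44_2 (flp_e L174665) (flp_i L173868) L252495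
theorem L252502 : sm gd N29779 = N29779 := ded_34_1 (flp_e L252495) L173866 L119893 (flp_d L173866) L252495
theorem L252503 : sm gf N29779 = N29779 := ded_40_2 (flp_e L252495) (flp_f L173863) L119876 L173863 L252495
theorem L252504 : sm gj N20456 = N29780 := rfl
theorem L252506 : sm gb N29780 = N29780 := ded_24_1 (flp_j L252504) L173865 L252504
theorem L252507 : sm gd N29780 = N20461 := ded_37_1 (flp_j L173904) (flp_d L173866) L252504
theorem L252509 : sm gf N29780 = N20457 := ded_46_1 (flp_j L173872) L173863 L252504
theorem L252511 : sm gi N29780 = N20551 := ded_53_2 (flp_j L174672) (flp_i L173868) L252504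
theorem L252513 : sm gh N20456 = N29781 := rfl
theorem L252515 : sm gb N29781 = N29781 := ded_25_1 (flp_h L252513) L173865 L252513
theorem L252516 : sm gf N29781 = N20458 := ded_47_1 (flp_h L173881) L173863 L252513
theorem L252518 : sm gg N29781 = N21648 := ded_50_1 (flp_h L183954) (flp_g L173870) L252513
theorem L252520 : sm gh N20457 = N29782 := rfl
theorem L252522 : sm gb N29782 = N29782 := ded_25_1 (flp_h L252520) L173874 L252520
theorem L252523 : sm ge N29782 = N29782 := ded_43_1 (flp_h L252520) L173877 L252520
theorem L252524 : sm gg N29782 = N29782 := ded_50_1 (flp_h L252520) L173880 L252520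
theorem L252525 : sm gj N29782 = N20458 := ded_52_1 (flp_h L173881) L173872 L252520
theorem L252527 : sm gd N20458 = N29783 := rfl
theorem L252534 : sm gi N20458 = N29784 := rfl
theorem L252536 : sm gb N29784 = N29784 := ded_26_1 (flp_i L252534) L173883 L252534
theorem L252537 : sm ge N29784 = N29784 := ded_44_1 (flp_i L252534) L173884 L252534
theorem L252538 : sm gg N29784 = N20460 := ded_51_1 (flp_i L173895) (flp_g L173885) L252534
theorem L252540 : sm gh N29784 = N20555 := ded_54_1 (flp_i L174700) (flp_h L120440) (flp_i L119877) L173881 L252534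
theorem L252542 : sm gc N20459 = N29785 := rfl
theorem L252544 : sm gf N29785 = N21652 := ded_29_2 (flp_c L183983) (flp_f L173890) L252542
theorem L252547 : sm gh N29785 = N20466 := ded_32_2 (flp_c L173950) (flp_h L173893) L252542
theorem L252549 : sm ge N20459 = N29786 := rfl
theorem L252553 : sm gh N29786 = N20467 := ded_43_2 (flp_e L173957) (flp_h L173893) L252549
theorem L252564 : sm gg N20461 = N29788 := rfl
theorem L252566 : sm gb N29788 = N29788 := ded_23_1 (flp_g L252564) L173906 L252564
theorem L252567 : sm gc N29788 = N20479 := ded_30_1 (flp_g L174050) (flp_c L173907) L252564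
theorem L252569 : sm ge N29788 = N29788 := ded_41_1 (flp_g L252564) L173909 L252564
theorem L252570 : sm gi N29788 = N20559 := ded_51_2 (flp_g L174729) (flp_i L173912) L252564
theorem L252572 : sm gf N29788 = N29788 := ded_45_1 (flp_g L252564) L173910 L119905 (flp_f L173910) L252564
theorem L252573 : sm gj N29788 = N21655 := ded_49_2 (flp_g L184002) (flp_j L126694) (flp_g L119894) L173904 L252564
theorem L252585 : sm gd N20462 = N29790 := rfl
theorem L252588 : sm gf N29790 = N20464 := ded_35_2 (flp_d L173934) (flp_f L173920) L252585
theorem L252622 : sm gc N20464 = N29794 := rfl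
theorem L252624 : sm gg N29794 = N20466 := ded_30_2 (flp_c L173950) (flp_g L173937) L252622
theorem L252626 : sm gd N29794 = N20485 := ded_27_2 (flp_c L174106) (flp_d L120023) (flp_c L119909) L173934 L252622
theorem L252635 : sm gi N20464 = N29796 := rfl
theorem L252638 : sm gd N29796 = N20465 := ded_39_1 (flp_i L173939) L173934 L252635
theorem L252640 : sm gg N29796 = N20468 := ded_51_1 (flp_i L173963) (flp_g L173937) L252635
theorem L252642 : sm gb N20466 = N29797 := rfl
theorem L252644 : sm gd N29797 = N20487 := ded_20_2 (flp_b L174118) (flp_d L173955) L252642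
theorem L252650 : sm ge N20466 = N29798 := rfl
theorem L252652 : sm gc N29798 = N20467 := ded_28_1 (flp_e L173957) L173950 L252650
theorem L252664 : sm gf N20467 = N29800 := rfl
theorem L252667 : sm gd N29800 = N20473 := ded_35_1 (flp_f L174004) (flp_d L173961) L252664
theorem L252672 : sm gi N20467 = N29801 := rfl
theorem L252680 : sm gh N20468 = N29802 := rfl
theorem L252683 : sm gf N29802 = N21669 := ded_47_1 (flp_h L184107) (flp_f L173968) L252680
theorem L252688 : sm ge N20469 = N29803 := rfl
theorem L252692 : sm gj N29803 = N20471 := ded_42_2 (flp_e L173990) (flp_j L173976) L252688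
theorem L252695 : sm gi N20469 = N29804 := rfl
theorem L252702 : sm gj N29804 = N20472 := ded_53_1 (flp_i L173996) (flp_j L173976) L252695
theorem L252704 : sm gf N20471 = N29805 := rfl
theorem L252716 : sm gh N20472 = N29807 := rfl
theorem L252720 : sm gg N29807 = N20475 := ded_50_1 (flp_h L174017) (flp_g L174002) L252716
theorem L252725 : sm gg N20473 = N29808 := rfl
theorem L252731 : sm gi N20473 = N29809 := rfl
theorem L252746 : sm gj N20476 = N29811 := rfl
theorem L252754 : sm gi N20476 = N29812 := rfl
theorem L252760 : sm gg N29812 = N20477 := ded_51_1 (flp_i L174033) L174026 L252754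
theorem L252762 : sm gh N20477 = N29813 := rfl
theorem L252765 : sm gf N29813 = N20478 := ded_47_1 (flp_h L174041) (flp_f L174038) L252762
theorem L252770 : sm gh N20479 = N29814 := rfl
theorem L252772 : sm gb N29814 = N20490 := ded_25_1 (flp_h L174141) (flp_b L174052) L252770
theorem L252774 : sm ge N29814 = N29814 := ded_43_1 (flp_h L252770) L174054 L252770
theorem L252775 : sm gf N29814 = N29814 := ded_47_1 (flp_h L252770) L174057 L252770
theorem L252776 : sm gg N29814 = N20480 := ded_50_1 (flp_h L174060) L174050 L252770
theorem L252778 : sm gj N29814 = N21678 := ded_52_1 (flp_h L184183) (flp_j L174058) L252770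
theorem L252780 : sm gd N20480 = N29815 := rfl
theorem L252782 : sm gb N29815 = N20491 := ded_20_1 (flp_d L174151) (flp_b L174062) L252780
theorem L252784 : sm gf N29815 = N20483 := ded_35_2 (flp_d L174088) (flp_f L174065) L252780
theorem L252786 : sm gj N29815 = N20481 := ded_37_2 (flp_d L174069) (flp_j L174067) L252780
theorem L252788 : sm gi N20480 = N29816 := rfl
theorem L252790 : sm gb N29816 = N20492 := ded_26_1 (flp_i L174158) (flp_b L174062) L252788
theorem L252799 : sm gc N20481 = N29817 := rfl
theorem L252801 : sm gf N29817 = N20485 := ded_29_2 (flp_c L174106) (flp_f L174073) L252799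
theorem L252803 : sm gg N29817 = N21681 := ded_30_2 (flp_c L184210) (flp_g L174075) L252799
theorem L252805 : sm ge N20481 = N29818 := rfl
theorem L252807 : sm gb N29818 = N20494 := ded_21_1 (flp_e L174177) (flp_b L174071) L252805
theorem L252809 : sm gg N29818 = N21682 := ded_41_2 (flp_e L184214) (flp_g L174075) L252805
theorem L252811 : sm gd N29818 = N29818 := ded_34_1 (flp_e L252805) (flp_d L174069) L120009 L174069 L252805
theorem L252812 : sm gi N20481 = N29819 := rfl
theorem L252814 : sm gb N29819 = N20495 := ded_26_1 (flp_i L174183) (flp_b L174071) L252812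
theorem L252822 : sm gc N20483 = N29820 := rfl
theorem L252824 : sm gg N29820 = N29820 := ded_30_2 (flp_c L252822) L174092 L252822
theorem L252825 : sm gj N29820 = N20485 := ded_31_2 (flp_c L174106) (flp_j L174093) L252822
theorem L252827 : sm gi N20483 = N29821 := rfl
theorem L252829 : sm gb N29821 = N20497 := ded_26_1 (flp_i L174199) (flp_b L174090) L252827
theorem L252831 : sm gd N29821 = N20484 := ded_39_1 (flp_i L174095) L174088 L252827
theorem L252836 : sm gb N20485 = N29822 := rfl
theorem L252838 : sm gg N29822 = N20487 := ded_23_2 (flp_b L174118) (flp_g L174108) L252836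
theorem L252840 : sm gc N29822 = N20498 := ded_19_2 (flp_b L174207) (flp_c L120117) (flp_b L120025) L174106 L252836
theorem L252842 : sm gi N20485 = N29823 := rfl
theorem L252846 : sm gg N29823 = N20488 := ded_51_1 (flp_i L174125) (flp_g L174108) L252842
theorem L252848 : sm gh N20486 = N29824 := rfl
theorem L252850 : sm gb N29824 = N20500 := ded_25_1 (flp_h L174220) (flp_b L174112) L252848
theorem L252854 : sm gd N29824 = N20589 := ded_38_1 (flp_h L174971) L120635 (flp_h L120037) (flp_d L174114) L252848
theorem L252856 : sm ga N20487 = N29825 := rfl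
theorem L252858 : sm gc N29825 = N20501 := ded_11_2 (flp_a L174227) (flp_c L174123) L252856
theorem L252860 : sm gf N29825 = N21689 := ded_14_2 (flp_a L184267) (flp_f L174120) L252856
theorem L252863 : sm gi N20487 = N29826 := rfl
theorem L252865 : sm gb N29826 = N20488 := ded_26_1 (flp_i L174125) L174118 L252863
theorem L252867 : sm gc N29826 = N20502 := ded_33_1 (flp_i L174234) (flp_c L174123) L252863
theorem L252872 : sm gh N20488 = N29827 := rfl
theorem L252874 : sm gc N29827 = N20489 := ded_32_1 (flp_h L174132) (flp_c L174127) L252872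
theorem L252879 : sm gd N20490 = N29828 := rfl
theorem L252881 : sm ga N29828 = N29828 := ded_12_1 (flp_d L252879) L174143 L252879
theorem L252882 : sm gf N29828 = N29828 := ded_35_2 (flp_d L252879) L174146 L252879
theorem L252883 : sm gg N29828 = N20491 := ded_36_2 (flp_d L174151) (flp_g L174147) L252879
theorem L252885 : sm gj N29828 = N21692 := ded_37_2 (flp_d L184287) (flp_j L174149) L252879
theorem L252887 : sm gi N20490 = N29829 := rfl
theorem L252889 : sm ga N29829 = N29829 := ded_18_1 (flp_i L252887) L174143 L252887
theorem L252890 : sm gc N29829 = N29829 := ded_33_1 (flp_i L252887) L174144 L252887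
theorem L252891 : sm ge N29829 = N29829 := ded_44_1 (flp_i L252887) L174145 L252887
theorem L252892 : sm gf N29829 = N29829 := ded_48_1 (flp_i L252887) L174146 L252887
theorem L252893 : sm gg N29829 = N20492 := ded_51_1 (flp_i L174158) (flp_g L174147) L252887
theorem L252895 : sm gj N29829 = N21693 := ded_53_1 (flp_i L184293) (flp_j L174149) L252887
theorem L252897 : sm gh N29829 = N20594 := ded_54_1 (flp_i L175012) (flp_h L120664) (flp_i L120068) L174141 L252887
theorem L252899 : sm gc N20491 = N29830 := rfl
theorem L252901 : sm ga N29830 = N29830 := ded_11_1 (flp_c L252899) L174153 L252899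
theorem L252902 : sm gf N29830 = N20496 := ded_29_2 (flp_c L174192) (flp_f L174154) L252899
theorem L252904 : sm gj N29830 = N20493 := ded_31_2 (flp_c L174169) (flp_j L174156) L252899
theorem L252906 : sm gd N29830 = N29830 := ded_27_2 (flp_c L252899) (flp_d L174151) L120076 L174151 L252899
theorem L252907 : sm ge N20491 = N29831 := rfl
theorem L252909 : sm ga N29831 = N29831 := ded_13_1 (flp_e L252907) L174153 L252907
theorem L252910 : sm gj N29831 = N20494 := ded_42_2 (flp_e L174177) (flp_j L174156) L252907
theorem L252912 : sm gd N29831 = N29831 := ded_34_1 (flp_e L252907) (flp_d L174151) L120077 L174151 L252907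
theorem L252913 : sm gi N20491 = N29832 := rfl
theorem L252915 : sm ga N29832 = N29832 := ded_18_1 (flp_i L252913) L174153 L252913
theorem L252916 : sm gd N29832 = N20492 := ded_39_1 (flp_i L174158) L174151 L252913
theorem L252918 : sm gf N29832 = N20497 := ded_48_1 (flp_i L174199) (flp_f L174154) L252913
theorem L252920 : sm gj N29832 = N20495 := ded_53_1 (flp_i L174183) (flp_j L174156) L252913
theorem L252922 : sm gb N20493 = N29833 := rfl
theorem L252924 : sm gd N29833 = N29833 := ded_20_2 (flp_b L252922) L174176 L252922
theorem L252925 : sm gf N29833 = N20498 := ded_22_2 (flp_b L174207) (flp_f L174172) L252922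
theorem L252927 : sm gg N29833 = N21697 := ded_23_2 (flp_b L184327) (flp_g L174174) L252922
theorem L252929 : sm ge N20493 = N29834 := rfl
theorem L252934 : sm gg N29834 = N21698 := ded_41_2 (flp_e L184332) (flp_g L174174) L252929
theorem L252936 : sm gi N20493 = N29835 := rfl
theorem L252939 : sm gc N29835 = N20495 := ded_33_1 (flp_i L174183) L174169 L252936
theorem L252942 : sm gf N29835 = N20499 := ded_48_1 (flp_i L174212) (flp_f L174172) L252936
theorem L252944 : sm gg N29835 = N21699 := ded_51_1 (flp_i L184338) (flp_g L174174) L252936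
theorem L252946 : sm gi N20494 = N29836 := rfl
theorem L252950 : sm ge N29836 = N20495 := ded_44_1 (flp_i L174183) L174177 L252946
theorem L252952 : sm gg N29836 = N21700 := ded_51_1 (flp_i L184346) (flp_g L174180) L252946
theorem L252954 : sm gh N20495 = N29837 := rfl
theorem L252956 : sm ga N29837 = N29837 := ded_17_1 (flp_h L252954) L174185 L252954
theorem L252957 : sm gf N29837 = N20500 := ded_47_1 (flp_h L174220) (flp_f L174188) L252954
theorem L252959 : sm gg N29837 = N21701 := ded_50_1 (flp_h L184353) (flp_g L174190) L252954
theorem L252961 : sm gd N29837 = N20602 := ded_38_1 (flp_h L175080) L120708 (flp_h L120098) (flp_d L174186) L252954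
theorem L252963 : sm gb N20496 = N29838 := rfl
theorem L252967 : sm gj N29838 = N20498 := ded_24_2 (flp_b L174207) (flp_j L174196) L252963
theorem L252969 : sm gi N20496 = N29839 := rfl
theorem L252972 : sm gc N29839 = N20497 := ded_33_1 (flp_i L174199) L174192 L252969
theorem L252976 : sm gj N29839 = N20499 := ded_53_1 (flp_i L174212) (flp_j L174196) L252969
theorem L252978 : sm gh N20497 = N29840 := rfl
theorem L252980 : sm ga N29840 = N29840 := ded_17_1 (flp_h L252978) L174201 L252978
theorem L252981 : sm gg N29840 = N29840 := ded_50_1 (flp_h L252978) L174204 L252978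
theorem L252982 : sm gj N29840 = N20500 := ded_52_1 (flp_h L174220) (flp_j L174205) L252978
theorem L252984 : sm gd N29840 = N20605 := ded_38_1 (flp_h L175104) L120725 (flp_h L120115) (flp_d L174202) L252978
theorem L252986 : sm ga N20498 = N29841 := rfl
theorem L252989 : sm gg N29841 = N20501 := ded_15_2 (flp_a L174227) (flp_g L174210) L252986
theorem L252992 : sm gi N20498 = N29842 := rfl
theorem L252994 : sm gb N29842 = N20499 := ded_26_1 (flp_i L174212) L174207 L252992
theorem L252996 : sm gd N29842 = N29842 := ded_39_1 (flp_i L252992) L174209 L252992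
theorem L252997 : sm gg N29842 = N20502 := ded_51_1 (flp_i L174234) (flp_g L174210) L252992
theorem L252999 : sm gh N20499 = N29843 := rfl
theorem L253001 : sm ga N29843 = N29843 := ded_17_1 (flp_h L252999) L174214 L252999
theorem L253002 : sm gc N29843 = N20500 := ded_32_1 (flp_h L174220) (flp_c L174215) L252999
theorem L253004 : sm gg N29843 = N20503 := ded_50_1 (flp_h L174242) (flp_g L174218) L252999
theorem L253006 : sm gi N20501 = N29844 := rfl
theorem L253008 : sm ga N29844 = N20502 := ded_18_1 (flp_i L174234) L174227 L253006
theorem L253010 : sm gb N29844 = N29844 := ded_26_1 (flp_i L253006) L174233 L253006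
theorem L253011 : sm gd N29844 = N29844 := ded_39_1 (flp_i L253006) L174229 L253006
theorem L253012 : sm gf N29844 = N21708 := ded_48_1 (flp_i L184409) (flp_f L174230) L253006
theorem L253014 : sm gj N29844 = N29844 := ded_53_1 (flp_i L253006) L174232 L253006
theorem L253015 : sm gh N20502 = N29845 := rfl
theorem L253017 : sm gb N29845 = N20503 := ded_25_1 (flp_h L174242) (flp_b L174236) L253015
theorem L253019 : sm gf N29845 = N21709 := ded_47_1 (flp_h L184417) (flp_f L174239) L253015
theorem L253021 : sm gj N29845 = N29845 := ded_52_1 (flp_h L253015) L174241 L253015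
theorem L253022 : sm gd N20503 = N29846 := rfl
theorem L253024 : sm ga N29846 = N29846 := ded_12_1 (flp_d L253022) L174244 L253022
theorem L253025 : sm gf N29846 = N21710 := ded_35_2 (flp_d L184423) (flp_f L174247) L253022
theorem L253027 : sm gj N29846 = N29846 := ded_37_2 (flp_d L253022) L174249 L253022
theorem L253028 : sm gc N29846 = N20611 := ded_27_1 (flp_d L175152) L120772 (flp_d L120151) (flp_c L174245) L253022
theorem L253030 : sm gh N29846 = N29846 := ded_38_2 (flp_d L253022) (flp_h L174242) L120141 L174242 L253022
theorem L253031 : sm gg N20504 = N29847 := rfl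
theorem L253034 : sm gc N29847 = N20505 := ded_30_1 (flp_g L174258) L174250 L253031
theorem L253038 : sm gh N20504 = N29848 := rfl
theorem L253047 : sm gf N20505 = N29849 := rfl
theorem L253050 : sm gb N29849 = N20520 := ded_22_1 (flp_f L174396) (flp_b L174261) L253047
theorem L253052 : sm gd N29849 = N20507 := ded_35_1 (flp_f L174275) (flp_d L174263) L253047
theorem L253056 : sm gj N20505 = N29850 := rfl
theorem L253059 : sm gb N29850 = N20521 := ded_24_1 (flp_j L174404) (flp_b L174261) L253056
theorem L253065 : sm gh N20505 = N29851 := rfl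
theorem L253073 : sm gd N20506 = N29852 := rfl
theorem L253078 : sm gf N29852 = N21716 := ded_35_2 (flp_d L184472) (flp_f L174272) L253073
theorem L253081 : sm gh N29852 = N20510 := ded_38_2 (flp_d L174303) (flp_h L120170) L120153 L174266 L253073
theorem L253083 : sm gi N20506 = N29853 := rfl
theorem L253086 : sm gb N29853 = N20524 := ded_26_1 (flp_i L174428) (flp_b L174269) L253083
theorem L253092 : sm gj N20507 = N29854 := rfl
theorem L253095 : sm gb N29854 = N20525 := ded_24_1 (flp_j L174436) (flp_b L174278) L253092
theorem L253101 : sm gh N20507 = N29855 := rfl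
theorem L253104 : sm gb N29855 = N20526 := ded_25_1 (flp_h L174445) (flp_b L174278) L253101
theorem L253110 : sm gg N29855 = N21719 := ded_50_1 (flp_h L184498) (flp_g L174282) L253101
theorem L253123 : sm gd N20509 = N29857 := rfl
theorem L253126 : sm gb N29857 = N20528 := ded_20_1 (flp_d L174467) (flp_b L174296) L253123
theorem L253128 : sm gg N29857 = N20510 := ded_36_2 (flp_d L174303) (flp_g L174301) L253123
theorem L253156 : sm gi N20510 = N29861 := rfl
theorem L253166 : sm gd N20512 = N29862 := rfl
theorem L253173 : sm gj N29862 = N20513 := ded_37_2 (flp_d L174332) (flp_j L174330) L253166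
theorem L253176 : sm gi N20512 = N29863 := rfl
theorem L253241 : sm gh N20517 = N29870 := rfl
theorem L253260 : sm ge N20520 = N29872 := rfl
theorem L253262 : sm ga N29872 = N20550 := ded_13_1 (flp_e L174665) (flp_a L174398) L253260
theorem L253264 : sm gg N29872 = N21726 := ded_41_2 (flp_e L184562) (flp_g L174402) L253260
theorem L253266 : sm gd N29872 = N29872 := ded_34_1 (flp_e L253260) L174400 L120257 (flp_d L174400) L253260
theorem L253267 : sm gf N29872 = N29872 := ded_40_2 (flp_e L253260) (flp_f L174396) L120242 L174396 L253260
theorem L253268 : sm gj N20520 = N29873 := rfl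
theorem L253270 : sm ga N29873 = N20551 := ded_16_1 (flp_j L174672) (flp_a L174398) L253268
theorem L253272 : sm gd N29873 = N20525 := ded_37_1 (flp_j L174436) (flp_d L174400) L253268
theorem L253274 : sm gf N29873 = N20521 := ded_46_1 (flp_j L174404) L174396 L253268
theorem L253276 : sm gh N20520 = N29874 := rfl
theorem L253278 : sm ga N29874 = N20552 := ded_17_1 (flp_h L174679) (flp_a L174398) L253276
theorem L253280 : sm gf N29874 = N20522 := ded_47_1 (flp_h L174412) L174396 L253276
theorem L253282 : sm gg N29874 = N21728 := ded_50_1 (flp_h L184577) (flp_g L174402) L253276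
theorem L253284 : sm gh N20521 = N29875 := rfl
theorem L253286 : sm ga N29875 = N20553 := ded_17_1 (flp_h L174686) (flp_a L174406) L253284
theorem L253288 : sm ge N29875 = N29875 := ded_43_1 (flp_h L253284) L174410 L253284
theorem L253289 : sm gg N29875 = N29875 := ded_50_1 (flp_h L253284) L174411 L253284
theorem L253290 : sm gj N29875 = N20522 := ded_52_1 (flp_h L174412) L174404 L253284
theorem L253292 : sm gd N20522 = N29876 := rfl
theorem L253294 : sm ga N29876 = N20554 := ded_12_1 (flp_d L174693) (flp_a L174414) L253292
theorem L253296 : sm gg N29876 = N20523 := ded_36_2 (flp_d L174419) (flp_g L174417) L253292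
theorem L253300 : sm gi N20522 = N29877 := rfl
theorem L253302 : sm ga N29877 = N20555 := ded_18_1 (flp_i L174700) (flp_a L174414) L253300
theorem L253304 : sm ge N29877 = N29877 := ded_44_1 (flp_i L253300) L174416 L253300
theorem L253305 : sm gg N29877 = N20524 := ded_51_1 (flp_i L174428) (flp_g L174417) L253300
theorem L253307 : sm gc N20523 = N29878 := rfl
theorem L253314 : sm gh N29878 = N20530 := ded_32_2 (flp_c L174483) (flp_h L174426) L253307
theorem L253316 : sm ge N20523 = N29879 := rfl
theorem L253321 : sm gh N29879 = N20531 := ded_43_2 (flp_e L174492) (flp_h L174426) L253316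
theorem L253325 : sm gi N20523 = N29880 := rfl
theorem L253327 : sm ga N29880 = N20558 := ded_18_1 (flp_i L174721) (flp_a L174421) L253325
theorem L253329 : sm gd N29880 = N20524 := ded_39_1 (flp_i L174428) L174419 L253325
theorem L253334 : sm gg N20525 = N29881 := rfl
theorem L253336 : sm ga N29881 = N20559 := ded_15_1 (flp_g L174729) (flp_a L174438) L253334
theorem L253338 : sm gc N29881 = N20539 := ded_30_1 (flp_g L174565) (flp_c L174440) L253334
theorem L253340 : sm ge N29881 = N29881 := ded_41_1 (flp_g L253334) L174442 L253334
theorem L253341 : sm gf N29881 = N29881 := ded_45_1 (flp_g L253334) L174443 L120268 (flp_f L174443) L253334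
theorem L253342 : sm gj N29881 = N21734 := ded_49_2 (flp_g L184625) (flp_j L127140) (flp_g L120258) L174436 L253334
theorem L253344 : sm gh N20525 = N29882 := rfl
theorem L253346 : sm ga N29882 = N20560 := ded_17_1 (flp_h L174738) (flp_a L174438) L253344
theorem L253348 : sm gc N29882 = N20540 := ded_32_1 (flp_h L174574) (flp_c L174440) L253344
theorem L253351 : sm gf N29882 = N20527 := ded_47_1 (flp_h L174456) (flp_f L174443) L253344
theorem L253355 : sm gd N20526 = N29883 := rfl
theorem L253357 : sm ga N29883 = N20561 := ded_12_1 (flp_d L174748) (flp_a L174447) L253355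
theorem L253374 : sm gd N20527 = N29885 := rfl
theorem L253376 : sm ga N29885 = N20563 := ded_12_1 (flp_d L174765) (flp_a L174458) L253374
theorem L253381 : sm gi N20527 = N29886 := rfl
theorem L253383 : sm ga N29886 = N20564 := ded_18_1 (flp_i L174771) (flp_a L174458) L253381
theorem L253385 : sm gc N29886 = N20544 := ded_33_1 (flp_i L174612) (flp_c L174460) L253381
theorem L253392 : sm gc N20528 = N29887 := rfl
theorem L253394 : sm ga N29887 = N20565 := ded_11_1 (flp_c L174781) (flp_a L174469) L253392
theorem L253398 : sm gd N29887 = N20545 := ded_27_2 (flp_c L174622) (flp_d L120380) (flp_c L120273) L174467 L253392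
theorem L253400 : sm ge N20528 = N29888 := rfl
theorem L253404 : sm gg N29888 = N20531 := ded_41_2 (flp_e L174492) (flp_g L174471) L253400
theorem L253408 : sm gi N20528 = N29889 := rfl
theorem L253416 : sm gb N20530 = N29890 := rfl
theorem L253418 : sm gd N29890 = N20547 := ded_20_2 (flp_b L174639) (flp_d L174490) L253416
theorem L253420 : sm gf N29890 = N21742 := ded_22_2 (flp_b L184696) (flp_f L174487) L253416
theorem L253516 : sm gh N20539 = N29901 := rfl
theorem L253518 : sm ga N29901 = N20579 := ded_17_1 (flp_h L174890) (flp_a L174567) L253516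
theorem L253520 : sm gb N29901 = N29901 := ded_25_1 (flp_h L253516) L174569 L253516
theorem L253521 : sm ge N29901 = N29901 := ded_43_1 (flp_h L253516) L174570 L253516
theorem L253522 : sm gf N29901 = N29901 := ded_47_1 (flp_h L253516) L174571 L253516
theorem L253523 : sm gg N29901 = N20540 := ded_50_1 (flp_h L174574) L174565 L253516
theorem L253525 : sm gj N29901 = N21745 := ded_52_1 (flp_h L184718) (flp_j L174572) L253516
theorem L253527 : sm gd N20540 = N29902 := rfl
theorem L253529 : sm ga N29902 = N20580 := ded_12_1 (flp_d L174900) (flp_a L174576) L253527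
theorem L253531 : sm gb N29902 = N29902 := ded_20_1 (flp_d L253527) L174578 L253527
theorem L253532 : sm gf N29902 = N20543 := ded_35_2 (flp_d L174603) (flp_f L174580) L253527
theorem L253534 : sm gj N29902 = N20541 := ded_37_2 (flp_d L174584) (flp_j L174582) L253527
theorem L253546 : sm gc N20541 = N29904 := rfl
theorem L253548 : sm ga N29904 = N20582 := ded_11_1 (flp_c L174917) (flp_a L174586) L253546
theorem L253550 : sm gf N29904 = N20545 := ded_29_2 (flp_c L174622) (flp_f L174589) L253546
theorem L253552 : sm gg N29904 = N21748 := ded_30_2 (flp_c L184746) (flp_g L174591) L253546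
theorem L253554 : sm ge N20541 = N29905 := rfl
theorem L253556 : sm ga N29905 = N20583 := ded_13_1 (flp_e L174923) (flp_a L174586) L253554
theorem L253558 : sm gb N29905 = N29905 := ded_21_1 (flp_e L253554) L174588 L253554
theorem L253559 : sm gg N29905 = N21749 := ded_41_2 (flp_e L184752) (flp_g L174591) L253554
theorem L253561 : sm gd N29905 = N29905 := ded_34_1 (flp_e L253554) (flp_d L174584) L120365 L174584 L253554
theorem L253562 : sm gf N29905 = N29905 := ded_40_2 (flp_e L253554) L174589 L120387 (flp_f L174589) L253554
theorem L253563 : sm gi N20541 = N29906 := rfl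
theorem L253568 : sm gd N29906 = N20542 := ded_39_1 (flp_i L174593) L174584 L253563
theorem L253572 : sm gg N29906 = N21750 := ded_51_1 (flp_i L184760) (flp_g L174591) L253563
theorem L253574 : sm gc N20543 = N29907 := rfl
theorem L253576 : sm ga N29907 = N20585 := ded_11_1 (flp_c L174941) (flp_a L174605) L253574
theorem L253578 : sm ge N29907 = N29907 := ded_28_2 (flp_c L253574) L174611 L253574
theorem L253579 : sm gg N29907 = N29907 := ded_30_2 (flp_c L253574) L174608 L253574
theorem L253580 : sm gj N29907 = N20545 := ded_31_2 (flp_c L174622) (flp_j L174609) L253574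
theorem L253582 : sm gi N20543 = N29908 := rfl
theorem L253584 : sm ga N29908 = N20586 := ded_18_1 (flp_i L174947) (flp_a L174605) L253582
theorem L253593 : sm gb N20545 = N29909 := rfl
theorem L253595 : sm ge N29909 = N29909 := ded_21_2 (flp_b L253593) L174626 L253593
theorem L253596 : sm gg N29909 = N20547 := ded_23_2 (flp_b L174639) (flp_g L174627) L253593
theorem L253598 : sm gc N29909 = N29909 := ded_19_2 (flp_b L253593) (flp_c L174622) L120384 L174622 L253593
theorem L253599 : sm gi N20545 = N29910 := rfl
theorem L253601 : sm ga N29910 = N20588 := ded_18_1 (flp_i L174964) (flp_a L174624) L253599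
theorem L253606 : sm gg N29910 = N20548 := ded_51_1 (flp_i L174646) (flp_g L174627) L253599
theorem L253608 : sm gh N20546 = N29911 := rfl
theorem L253610 : sm ga N29911 = N20589 := ded_17_1 (flp_h L174971) (flp_a L174631) L253608
theorem L253616 : sm ga N20547 = N29912 := rfl
theorem L253618 : sm gc N29912 = N29912 := ded_11_2 (flp_a L253616) L174645 L253616
theorem L253619 : sm ge N29912 = N29912 := ded_13_2 (flp_a L253616) L174641 L253616
theorem L253620 : sm gf N29912 = N21756 := ded_14_2 (flp_a L184816) (flp_f L174642) L253616
theorem L253622 : sm gj N29912 = N29912 := ded_16_2 (flp_a L253616) L174644 L253616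
theorem L253623 : sm gb N29912 = N20590 := ded_10_2 (flp_a L174978) (flp_b L120640) (flp_a L120399) L174639 L253616
theorem L253625 : sm gi N20547 = N29913 := rfl
theorem L253627 : sm gb N29913 = N20548 := ded_26_1 (flp_i L174646) L174639 L253625
theorem L253634 : sm gh N20548 = N29914 := rfl
theorem L253636 : sm ga N29914 = N20592 := ded_17_1 (flp_h L174996) (flp_a L174648) L253634
theorem L253644 : sm gj N20550 = N29915 := rfl
theorem L253646 : sm gb N29915 = N29915 := ded_24_1 (flp_j L253644) L174667 L253644
theorem L253647 : sm gd N29915 = N29915 := ded_37_1 (flp_j L253644) L174670 L253644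
theorem L253648 : sm ge N29915 = N20551 := ded_42_1 (flp_j L174672) L174665 L253644
theorem L253650 : sm gf N29915 = N29915 := ded_46_1 (flp_j L253644) L174671 L253644
theorem L253651 : sm gh N20550 = N29916 := rfl
theorem L253653 : sm gb N29916 = N29916 := ded_25_1 (flp_h L253651) L174667 L253651
theorem L253654 : sm ge N29916 = N20552 := ded_43_1 (flp_h L174679) L174665 L253651
theorem L253656 : sm gf N29916 = N29916 := ded_47_1 (flp_h L253651) L174671 L253651
theorem L253657 : sm gg N29916 = N21760 := ded_50_1 (flp_h L184849) (flp_g L174668) L253651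
theorem L253659 : sm gg N20551 = N29917 := rfl
theorem L253661 : sm gb N29917 = N29917 := ded_23_1 (flp_g L253659) L174674 L253659
theorem L253662 : sm gd N29917 = N20559 := ded_36_1 (flp_g L174729) (flp_d L174675) L253659
theorem L253664 : sm gf N29917 = N29917 := ded_45_1 (flp_g L253659) L174677 L120439 (flp_f L174677) L253659
theorem L253665 : sm gj N29917 = N21761 := ded_49_2 (flp_g L184856) (flp_j L127313) (flp_g L120431) L174672 L253659
theorem L253667 : sm gh N20551 = N29918 := rfl
theorem L253669 : sm gb N29918 = N29918 := ded_25_1 (flp_h L253667) L174674 L253667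
theorem L253670 : sm gf N29918 = N20553 := ded_47_1 (flp_h L174686) (flp_f L174677) L253667
theorem L253672 : sm gj N29918 = N20552 := ded_52_1 (flp_h L174679) L174672 L253667
theorem L253674 : sm gd N20552 = N29919 := rfl
theorem L253676 : sm gb N29919 = N29919 := ded_20_1 (flp_d L253674) L174681 L253674
theorem L253677 : sm gf N29919 = N20554 := ded_35_2 (flp_d L174693) (flp_f L174682) L253674
theorem L253679 : sm gg N29919 = N21763 := ded_36_2 (flp_d L184869) (flp_g L174684) L253674
theorem L253681 : sm gh N29919 = N20561 := ded_38_2 (flp_d L174748) (flp_h L120469) (flp_d L120429) L174679 L253674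
theorem L253683 : sm gi N20552 = N29920 := rfl
theorem L253685 : sm gb N29920 = N29920 := ded_26_1 (flp_i L253683) L174681 L253683
theorem L253686 : sm gf N29920 = N20555 := ded_48_1 (flp_i L174700) (flp_f L174682) L253683
theorem L253688 : sm gg N29920 = N21764 := ded_51_1 (flp_i L184876) (flp_g L174684) L253683
theorem L253690 : sm gd N20553 = N29921 := rfl
theorem L253692 : sm gb N29921 = N29921 := ded_20_1 (flp_d L253690) L174688 L253690
theorem L253693 : sm gg N29921 = N29921 := ded_36_2 (flp_d L253690) L174690 L253690
theorem L253694 : sm gj N29921 = N20554 := ded_37_2 (flp_d L174693) (flp_j L174691) L253690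
theorem L253696 : sm gh N29921 = N20563 := ded_38_2 (flp_d L174765) (flp_h L120479) (flp_d L120436) L174686 L253690
theorem L253698 : sm gi N20553 = N29922 := rfl
theorem L253700 : sm gb N29922 = N29922 := ded_26_1 (flp_i L253698) L174688 L253698
theorem L253701 : sm ge N29922 = N29922 := ded_44_1 (flp_i L253698) L174689 L253698
theorem L253702 : sm gg N29922 = N29922 := ded_51_1 (flp_i L253698) L174690 L253698
theorem L253703 : sm gj N29922 = N20555 := ded_53_1 (flp_i L174700) (flp_j L174691) L253698
theorem L253705 : sm gc N20554 = N29923 := rfl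
theorem L253707 : sm gg N29923 = N20556 := ded_30_2 (flp_c L174706) (flp_g L174696) L253705
theorem L253709 : sm gh N29923 = N20565 := ded_32_2 (flp_c L174781) (flp_h L174698) L253705
theorem L253711 : sm ge N20554 = N29924 := rfl
theorem L253716 : sm gh N29924 = N20566 := ded_43_2 (flp_e L174787) (flp_h L174698) L253711
theorem L253719 : sm gi N20554 = N29925 := rfl
theorem L253721 : sm gb N29925 = N29925 := ded_26_1 (flp_i L253719) L174695 L253719
theorem L253722 : sm gd N29925 = N20555 := ded_39_1 (flp_i L174700) L174693 L253719
theorem L253724 : sm gg N29925 = N20558 := ded_51_1 (flp_i L174721) (flp_g L174696) L253719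
theorem L253726 : sm gb N20556 = N29926 := rfl
theorem L253728 : sm gf N29926 = N21769 := ded_22_2 (flp_b L184913) (flp_f L174708) L253726
theorem L253730 : sm gj N29926 = N29926 := ded_24_2 (flp_b L253726) L174710 L253726
theorem L253731 : sm gh N29926 = N20568 := ded_25_2 (flp_b L174801) (flp_h L174711) L253726
theorem L253733 : sm gc N29926 = N29926 := ded_19_2 (flp_b L253726) (flp_c L174706) L120448 L174706 L253726
theorem L253742 : sm gi N20556 = N29928 := rfl
theorem L253744 : sm gc N29928 = N20558 := ded_33_1 (flp_i L174721) L174706 L253742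
theorem L253746 : sm gf N29928 = N21770 := ded_48_1 (flp_i L184920) (flp_f L174708) L253742
theorem L253748 : sm gj N29928 = N29928 := ded_53_1 (flp_i L253742) L174710 L253742
theorem L253749 : sm gi N20557 = N29929 := rfl
theorem L253753 : sm ge N29929 = N20558 := ded_44_1 (flp_i L174721) L174713 L253749
theorem L253757 : sm gh N20558 = N29930 := rfl
theorem L253765 : sm gh N20559 = N29931 := rfl
theorem L253767 : sm gb N29931 = N29931 := ded_25_1 (flp_h L253765) L174731 L253765
theorem L253768 : sm gc N29931 = N20579 := ded_32_1 (flp_h L174890) (flp_c L174732) L253765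
theorem L253770 : sm ge N29931 = N29931 := ded_43_1 (flp_h L253765) L174734 L253765
theorem L253771 : sm gf N29931 = N29931 := ded_47_1 (flp_h L253765) L174735 L253765
theorem L253772 : sm gg N29931 = N20560 := ded_50_1 (flp_h L174738) L174729 L253765
theorem L253774 : sm gj N29931 = N21772 := ded_52_1 (flp_h L184933) (flp_j L174736) L253765
theorem L253776 : sm gd N20560 = N29932 := rfl
theorem L253778 : sm gb N29932 = N29932 := ded_20_1 (flp_d L253776) L174740 L253776
theorem L253779 : sm gf N29932 = N20563 := ded_35_2 (flp_d L174765) (flp_f L174744) L253776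
theorem L253781 : sm gj N29932 = N20561 := ded_37_2 (flp_d L174748) (flp_j L174746) L253776
theorem L253793 : sm gc N20561 = N29934 := rfl
theorem L253795 : sm gf N29934 = N20565 := ded_29_2 (flp_c L174781) (flp_f L174751) L253793
theorem L253797 : sm gg N29934 = N21775 := ded_30_2 (flp_c L184959) (flp_g L174753) L253793
theorem L253799 : sm gd N29934 = N20582 := ded_27_2 (flp_c L174917) (flp_d L120592) (flp_c L120472) L174748 L253793
theorem L253801 : sm ge N20561 = N29935 := rfl
theorem L253803 : sm gb N29935 = N29935 := ded_21_1 (flp_e L253801) L174750 L253801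
theorem L253804 : sm gg N29935 = N21776 := ded_41_2 (flp_e L184965) (flp_g L174753) L253801
theorem L253806 : sm gd N29935 = N29935 := ded_34_1 (flp_e L253801) (flp_d L174748) L120474 L174748 L253801
theorem L253807 : sm gi N20561 = N29936 := rfl
theorem L253814 : sm gg N29936 = N21777 := ded_51_1 (flp_i L184970) (flp_g L174753) L253807
theorem L253816 : sm gc N20563 = N29937 := rfl
theorem L253818 : sm gg N29937 = N29937 := ded_30_2 (flp_c L253816) L174768 L253816
theorem L253819 : sm gj N29937 = N20565 := ded_31_2 (flp_c L174781) (flp_j L174769) L253816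
theorem L253821 : sm gd N29937 = N20585 := ded_27_2 (flp_c L174941) (flp_d L120609) (flp_c L120482) L174765 L253816
theorem L253823 : sm ge N20563 = N29938 := rfl
theorem L253831 : sm gi N20563 = N29939 := rfl
theorem L253839 : sm gb N20565 = N29940 := rfl
theorem L253841 : sm gd N29940 = N20587 := ded_20_2 (flp_b L174957) (flp_d L174785) L253839
theorem L253843 : sm gg N29940 = N20568 := ded_23_2 (flp_b L174801) (flp_g L174783) L253839
theorem L253845 : sm gc N29940 = N29940 := ded_19_2 (flp_b L253839) (flp_c L174781) L120491 L174781 L253839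
theorem L253846 : sm ge N20565 = N29941 := rfl
theorem L253853 : sm gi N20565 = N29942 := rfl
theorem L253861 : sm gf N20566 = N29943 := rfl
theorem L253864 : sm gd N29943 = N20575 := ded_35_1 (flp_f L174858) (flp_d L174792) L253861
theorem L253876 : sm gh N20567 = N29945 := rfl
theorem L253881 : sm ga N20568 = N29946 := rfl
theorem L253883 : sm gc N29946 = N29946 := ded_11_2 (flp_a L253881) L174808 L253881
theorem L253884 : sm gd N29946 = N20590 := ded_12_2 (flp_a L174978) (flp_d L174803) L253881
theorem L253886 : sm gf N29946 = N21783 := ded_14_2 (flp_a L185017) (flp_f L174805) L253881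
theorem L253888 : sm gj N29946 = N29946 := ded_16_2 (flp_a L253881) L174807 L253881
theorem L253889 : sm ge N20568 = N29947 := rfl
theorem L253897 : sm gi N20568 = N29948 := rfl
theorem L253916 : sm gh N20570 = N29950 := rfl
theorem L253938 : sm gi N20573 = N29953 := rfl
theorem L253942 : sm ge N29953 = N20574 := ded_44_1 (flp_i L174848) L174840 L253938
theorem L253945 : sm gj N29953 = N20576 := ded_53_1 (flp_i L174865) (flp_j L174845) L253938
theorem L253947 : sm gh N20574 = N29954 := rfl
theorem L253956 : sm gi N20575 = N29955 := rfl
theorem L253961 : sm gf N29955 = N20576 := ded_48_1 (flp_i L174865) L174858 L253956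
theorem L253964 : sm gh N20576 = N29956 := rfl
theorem L253979 : sm gd N20579 = N29958 := rfl
theorem L253981 : sm gb N29958 = N20593 := ded_20_1 (flp_d L175004) (flp_b L174892) L253979
theorem L253983 : sm gf N29958 = N29958 := ded_35_2 (flp_d L253979) L174895 L253979
theorem L253984 : sm gg N29958 = N20580 := ded_36_2 (flp_d L174900) (flp_g L174896) L253979
theorem L253986 : sm gj N29958 = N21786 := ded_37_2 (flp_d L185039) (flp_j L174898) L253979
theorem L253988 : sm gi N20579 = N29959 := rfl
theorem L253990 : sm gb N29959 = N20594 := ded_26_1 (flp_i L175012) (flp_b L174892) L253988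
theorem L253992 : sm ge N29959 = N29959 := ded_44_1 (flp_i L253988) L174894 L253988
theorem L253993 : sm gf N29959 = N29959 := ded_48_1 (flp_i L253988) L174895 L253988
theorem L253994 : sm gg N29959 = N20581 := ded_51_1 (flp_i L174908) (flp_g L174896) L253988
theorem L253996 : sm gj N29959 = N21787 := ded_53_1 (flp_i L185046) (flp_j L174898) L253988
theorem L253998 : sm gc N20580 = N29960 := rfl
theorem L254000 : sm gf N29960 = N20585 := ded_29_2 (flp_c L174941) (flp_f L174904) L253998
theorem L254002 : sm gj N29960 = N20582 := ded_31_2 (flp_c L174917) (flp_j L174906) L253998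
theorem L254004 : sm ge N20580 = N29961 := rfl
theorem L254006 : sm gb N29961 = N20596 := ded_21_1 (flp_e L175030) (flp_b L174902) L254004
theorem L254008 : sm gj N29961 = N20583 := ded_42_2 (flp_e L174923) (flp_j L174906) L254004
theorem L254010 : sm gd N29961 = N29961 := ded_34_1 (flp_e L254004) (flp_d L174900) L120587 L174900 L254004
theorem L254011 : sm gf N29961 = N29961 := ded_40_2 (flp_e L254004) L174904 L120616 (flp_f L174904) L254004
theorem L254012 : sm gi N20580 = N29962 := rfl
theorem L254014 : sm gb N29962 = N20597 := ded_26_1 (flp_i L175037) (flp_b L174902) L254012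
theorem L254016 : sm gd N29962 = N20581 := ded_39_1 (flp_i L174908) L174900 L254012
theorem L254018 : sm gf N29962 = N20586 := ded_48_1 (flp_i L174947) (flp_f L174904) L254012
theorem L254020 : sm gj N29962 = N20584 := ded_53_1 (flp_i L174931) (flp_j L174906) L254012
theorem L254022 : sm gb N20582 = N29963 := rfl
theorem L254024 : sm gf N29963 = N20587 := ded_22_2 (flp_b L174957) (flp_f L174919) L254022
theorem L254026 : sm gg N29963 = N21791 := ded_23_2 (flp_b L185079) (flp_g L174921) L254022
theorem L254028 : sm gc N29963 = N20598 := ded_19_2 (flp_b L175046) (flp_c L120690) (flp_b L120594) L174917 L254022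
theorem L254030 : sm ge N20582 = N29964 := rfl
theorem L254032 : sm gc N29964 = N20583 := ded_28_1 (flp_e L174923) L174917 L254030
theorem L254034 : sm gg N29964 = N21792 := ded_41_2 (flp_e L185085) (flp_g L174921) L254030
theorem L254036 : sm gf N29964 = N29964 := ded_40_2 (flp_e L254030) L174919 L120628 (flp_f L174919) L254030
theorem L254037 : sm gi N20582 = N29965 := rfl
theorem L254039 : sm gc N29965 = N20584 := ded_33_1 (flp_i L174931) L174917 L254037
theorem L254041 : sm gf N29965 = N20588 := ded_48_1 (flp_i L174964) (flp_f L174919) L254037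
theorem L254043 : sm gg N29965 = N21793 := ded_51_1 (flp_i L185091) (flp_g L174921) L254037
theorem L254045 : sm gi N20583 = N29966 := rfl
theorem L254047 : sm gb N29966 = N20601 := ded_26_1 (flp_i L175071) (flp_b L174925) L254045
theorem L254049 : sm gd N29966 = N29966 := ded_39_1 (flp_i L254045) L174929 L254045
theorem L254050 : sm ge N29966 = N20584 := ded_44_1 (flp_i L174931) L174923 L254045
theorem L254052 : sm gf N29966 = N29966 := ded_48_1 (flp_i L254045) L174930 L254045
theorem L254053 : sm gg N29966 = N21794 := ded_51_1 (flp_i L185097) (flp_g L174927) L254045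
theorem L254055 : sm gh N20584 = N29967 := rfl
theorem L254057 : sm gb N29967 = N20602 := ded_25_1 (flp_h L175080) (flp_b L174933) L254055
theorem L254059 : sm gf N29967 = N20589 := ded_47_1 (flp_h L174971) (flp_f L174937) L254055
theorem L254061 : sm gg N29967 = N21795 := ded_50_1 (flp_h L185106) (flp_g L174939) L254055
theorem L254063 : sm gb N20585 = N29968 := rfl
theorem L254065 : sm ge N29968 = N29968 := ded_21_2 (flp_b L254063) L174943 L254063
theorem L254066 : sm gg N29968 = N29968 := ded_23_2 (flp_b L254063) L174944 L254063
theorem L254067 : sm gj N29968 = N20587 := ded_24_2 (flp_b L174957) (flp_j L174945) L254063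
theorem L254069 : sm gc N29968 = N20603 := ded_19_2 (flp_b L175087) (flp_c L120714) (flp_b L120611) L174941 L254063
theorem L254071 : sm gi N20585 = N29969 := rfl
theorem L254073 : sm gc N29969 = N20586 := ded_33_1 (flp_i L174947) L174941 L254071
theorem L254075 : sm ge N29969 = N29969 := ded_44_1 (flp_i L254071) L174943 L254071
theorem L254076 : sm gg N29969 = N29969 := ded_51_1 (flp_i L254071) L174944 L254071
theorem L254077 : sm gj N29969 = N20588 := ded_53_1 (flp_i L174964) (flp_j L174945) L254071
theorem L254079 : sm gh N20586 = N29970 := rfl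
theorem L254081 : sm gb N29970 = N20605 := ded_25_1 (flp_h L175104) (flp_b L174949) L254079
theorem L254083 : sm ge N29970 = N29970 := ded_43_1 (flp_h L254079) L174953 L254079
theorem L254084 : sm gg N29970 = N29970 := ded_50_1 (flp_h L254079) L174954 L254079
theorem L254085 : sm gj N29970 = N20589 := ded_52_1 (flp_h L174971) (flp_j L174955) L254079
theorem L254087 : sm ga N20587 = N29971 := rfl
theorem L254089 : sm gc N29971 = N20606 := ded_11_2 (flp_a L175111) (flp_c L174962) L254087
theorem L254091 : sm ge N29971 = N29971 := ded_13_2 (flp_a L254087) L174959 L254087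
theorem L254092 : sm gg N29971 = N20590 := ded_15_2 (flp_a L174978) (flp_g L174960) L254087
theorem L254094 : sm gi N20587 = N29972 := rfl
theorem L254096 : sm gb N29972 = N20588 := ded_26_1 (flp_i L174964) L174957 L254094
theorem L254098 : sm gc N29972 = N20607 := ded_33_1 (flp_i L175118) (flp_c L174962) L254094
theorem L254100 : sm ge N29972 = N29972 := ded_44_1 (flp_i L254094) L174959 L254094
theorem L254101 : sm gg N29972 = N20591 := ded_51_1 (flp_i L174986) (flp_g L174960) L254094
theorem L254103 : sm gh N20588 = N29973 := rfl
theorem L254105 : sm gc N29973 = N20589 := ded_32_1 (flp_h L174971) (flp_c L174966) L254103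
theorem L254107 : sm ge N29973 = N29973 := ded_43_1 (flp_h L254103) L174968 L254103
theorem L254108 : sm gg N29973 = N20592 := ded_50_1 (flp_h L174996) (flp_g L174969) L254103
theorem L254110 : sm gi N20590 = N29974 := rfl
theorem L254112 : sm ga N29974 = N20591 := ded_18_1 (flp_i L174986) L174978 L254110
theorem L254114 : sm gc N29974 = N20609 := ded_33_1 (flp_i L175134) (flp_c L174980) L254110
theorem L254116 : sm ge N29974 = N29974 := ded_44_1 (flp_i L254110) L174982 L254110
theorem L254117 : sm gf N29974 = N21802 := ded_48_1 (flp_i L185165) (flp_f L174983) L254110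
theorem L254119 : sm gj N29974 = N29974 := ded_53_1 (flp_i L254110) L174985 L254110
theorem L254120 : sm gh N20591 = N29975 := rfl
theorem L254122 : sm gb N29975 = N20592 := ded_25_1 (flp_h L174996) (flp_b L174988) L254120
theorem L254124 : sm gc N29975 = N20610 := ded_32_1 (flp_h L175144) (flp_c L174990) L254120
theorem L254126 : sm ge N29975 = N29975 := ded_43_1 (flp_h L254120) L174992 L254120
theorem L254127 : sm gf N29975 = N21803 := ded_47_1 (flp_h L185174) (flp_f L174993) L254120
theorem L254129 : sm gj N29975 = N29975 := ded_52_1 (flp_h L254120) L174995 L254120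
theorem L254130 : sm gd N20592 = N29976 := rfl
theorem L254132 : sm gf N29976 = N21804 := ded_35_2 (flp_d L185183) (flp_f L175001) L254130
theorem L254134 : sm gj N29976 = N29976 := ded_37_2 (flp_d L254130) L175003 L254130
theorem L254135 : sm gc N20593 = N29977 := rfl
theorem L254137 : sm ga N29977 = N29977 := ded_11_1 (flp_c L254135) L175006 L254135
theorem L254138 : sm gf N29977 = N29977 := ded_29_2 (flp_c L254135) L175007 L254135
theorem L254139 : sm gg N29977 = N20595 := ded_30_2 (flp_c L175022) (flp_g L175008) L254135
theorem L254141 : sm gj N29977 = N21805 := ded_31_2 (flp_c L185186) (flp_j L175010) L254135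
theorem L254143 : sm gd N29977 = N29977 := ded_27_2 (flp_c L254135) (flp_d L175004) L120667 L175004 L254135
theorem L254144 : sm ge N20593 = N29978 := rfl
theorem L254146 : sm ga N29978 = N29978 := ded_13_1 (flp_e L254144) L175006 L254144
theorem L254147 : sm gg N29978 = N20596 := ded_41_2 (flp_e L175030) (flp_g L175008) L254144
theorem L254149 : sm gj N29978 = N21806 := ded_42_2 (flp_e L185193) (flp_j L175010) L254144
theorem L254151 : sm gd N29978 = N29978 := ded_34_1 (flp_e L254144) (flp_d L175004) L120668 L175004 L254144
theorem L254152 : sm gi N20593 = N29979 := rfl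
theorem L254154 : sm ga N29979 = N29979 := ded_18_1 (flp_i L254152) L175006 L254152
theorem L254155 : sm gd N29979 = N20594 := ded_39_1 (flp_i L175012) L175004 L254152
theorem L254157 : sm gf N29979 = N29979 := ded_48_1 (flp_i L254152) L175007 L254152
theorem L254158 : sm gg N29979 = N20597 := ded_51_1 (flp_i L175037) (flp_g L175008) L254152
theorem L254160 : sm gj N29979 = N21807 := ded_53_1 (flp_i L185199) (flp_j L175010) L254152
theorem L254162 : sm gb N20595 = N29980 := rfl
theorem L254164 : sm gd N29980 = N29980 := ded_20_2 (flp_b L254162) L175029 L254162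
theorem L254165 : sm gf N29980 = N20603 := ded_22_2 (flp_b L175087) (flp_f L175025) L254162
theorem L254167 : sm gj N29980 = N20598 := ded_24_2 (flp_b L175046) (flp_j L175027) L254162
theorem L254169 : sm ge N20595 = N29981 := rfl
theorem L254174 : sm gj N29981 = N20599 := ded_42_2 (flp_e L175053) (flp_j L175027) L254169
theorem L254177 : sm gi N20595 = N29982 := rfl
theorem L254180 : sm gc N29982 = N20597 := ded_33_1 (flp_i L175037) L175022 L254177
theorem L254183 : sm gf N29982 = N20604 := ded_48_1 (flp_i L175094) (flp_f L175025) L254177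
theorem L254185 : sm gj N29982 = N20600 := ded_53_1 (flp_i L175061) (flp_j L175027) L254177
theorem L254187 : sm gi N20596 = N29983 := rfl
theorem L254191 : sm ge N29983 = N20597 := ded_44_1 (flp_i L175037) L175030 L254187
theorem L254194 : sm gj N29983 = N20601 := ded_53_1 (flp_i L175071) (flp_j L175033) L254187
theorem L254196 : sm gh N20597 = N29984 := rfl
theorem L254198 : sm ga N29984 = N29984 := ded_17_1 (flp_h L254196) L175039 L254196
theorem L254199 : sm gf N29984 = N20605 := ded_47_1 (flp_h L175104) (flp_f L175042) L254196
theorem L254201 : sm gj N29984 = N20602 := ded_52_1 (flp_h L175080) (flp_j L175044) L254196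
theorem L254203 : sm ga N20598 = N29985 := rfl
theorem L254205 : sm gd N29985 = N29985 := ded_12_2 (flp_a L254203) L175048 L254203
theorem L254206 : sm gf N29985 = N20606 := ded_14_2 (flp_a L175111) (flp_f L175049) L254203
theorem L254208 : sm gg N29985 = N21813 := ded_15_2 (flp_a L185250) (flp_g L175051) L254203
theorem L254210 : sm gb N29985 = N29985 := ded_10_2 (flp_a L254203) (flp_b L175046) L120692 L175046 L254203
theorem L254211 : sm ge N20598 = N29986 := rfl
theorem L254213 : sm gb N29986 = N20599 := ded_21_1 (flp_e L175053) L175046 L254211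
theorem L254215 : sm gg N29986 = N21814 := ded_41_2 (flp_e L185256) (flp_g L175051) L254211
theorem L254217 : sm gf N29986 = N29986 := ded_40_2 (flp_e L254211) L175049 L120734 (flp_f L175049) L254211
theorem L254218 : sm gi N20598 = N29987 := rfl
theorem L254220 : sm gb N29987 = N20600 := ded_26_1 (flp_i L175061) L175046 L254218
theorem L254222 : sm gd N29987 = N29987 := ded_39_1 (flp_i L254218) L175048 L254218
theorem L254223 : sm gf N29987 = N20607 := ded_48_1 (flp_i L175118) (flp_f L175049) L254218
theorem L254225 : sm gg N29987 = N21815 := ded_51_1 (flp_i L185262) (flp_g L175051) L254218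
theorem L254227 : sm gd N20599 = N29988 := rfl
theorem L254231 : sm gg N29988 = N21816 := ded_36_2 (flp_d L185269) (flp_g L175058) L254227
theorem L254235 : sm gi N20599 = N29989 := rfl
theorem L254238 : sm gc N29989 = N20601 := ded_33_1 (flp_i L175071) (flp_c L175056) L254235
theorem L254245 : sm gh N20600 = N29990 := rfl
theorem L254247 : sm ga N29990 = N29990 := ded_17_1 (flp_h L254245) L175063 L254245
theorem L254248 : sm gc N29990 = N20602 := ded_32_1 (flp_h L175080) (flp_c L175064) L254245
theorem L254250 : sm gf N29990 = N20608 := ded_47_1 (flp_h L175126) (flp_f L175067) L254245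
theorem L254252 : sm gg N29990 = N21818 := ded_50_1 (flp_h L185285) (flp_g L175069) L254245
theorem L254254 : sm gh N20601 = N29991 := rfl
theorem L254256 : sm ga N29991 = N29991 := ded_17_1 (flp_h L254254) L175073 L254254
theorem L254257 : sm ge N29991 = N20602 := ded_43_1 (flp_h L175080) (flp_e L175075) L254254
theorem L254259 : sm gf N29991 = N29991 := ded_47_1 (flp_h L254254) L175077 L254254
theorem L254260 : sm gg N29991 = N21819 := ded_50_1 (flp_h L185292) (flp_g L175078) L254254
theorem L254262 : sm ga N20603 = N29992 := rfl
theorem L254264 : sm gd N29992 = N29992 := ded_12_2 (flp_a L254262) L175089 L254262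
theorem L254265 : sm ge N29992 = N29992 := ded_13_2 (flp_a L254262) L175090 L254262
theorem L254266 : sm gg N29992 = N29992 := ded_15_2 (flp_a L254262) L175091 L254262
theorem L254267 : sm gj N29992 = N20606 := ded_16_2 (flp_a L175111) (flp_j L175092) L254262
theorem L254269 : sm gb N29992 = N29992 := ded_10_2 (flp_a L254262) (flp_b L175087) L120716 L175087 L254262
theorem L254270 : sm gi N20603 = N29993 := rfl
theorem L254272 : sm gb N29993 = N20604 := ded_26_1 (flp_i L175094) L175087 L254270
theorem L254274 : sm gd N29993 = N29993 := ded_39_1 (flp_i L254270) L175089 L254270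
theorem L254275 : sm ge N29993 = N29993 := ded_44_1 (flp_i L254270) L175090 L254270
theorem L254276 : sm gg N29993 = N29993 := ded_51_1 (flp_i L254270) L175091 L254270
theorem L254277 : sm gj N29993 = N20607 := ded_53_1 (flp_i L175118) (flp_j L175092) L254270
theorem L254279 : sm gh N20604 = N29994 := rfl
theorem L254281 : sm ga N29994 = N29994 := ded_17_1 (flp_h L254279) L175096 L254279
theorem L254282 : sm gc N29994 = N20605 := ded_32_1 (flp_h L175104) (flp_c L175097) L254279
theorem L254284 : sm ge N29994 = N29994 := ded_43_1 (flp_h L254279) L175100 L254279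
theorem L254285 : sm gg N29994 = N29994 := ded_50_1 (flp_h L254279) L175101 L254279
theorem L254286 : sm gj N29994 = N20608 := ded_52_1 (flp_h L175126) (flp_j L175102) L254279
theorem L254288 : sm gi N20606 = N29995 := rfl
theorem L254290 : sm ga N29995 = N20607 := ded_18_1 (flp_i L175118) L175111 L254288
theorem L254292 : sm gb N29995 = N29995 := ded_26_1 (flp_i L254288) L175117 L254288
theorem L254293 : sm gd N29995 = N29995 := ded_39_1 (flp_i L254288) L175113 L254288
theorem L254294 : sm ge N29995 = N29995 := ded_44_1 (flp_i L254288) L175114 L254288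
theorem L254295 : sm gg N29995 = N20609 := ded_51_1 (flp_i L175134) (flp_g L175115) L254288
theorem L254297 : sm gh N20607 = N29996 := rfl
theorem L254299 : sm gb N29996 = N20608 := ded_25_1 (flp_h L175126) (flp_b L175120) L254297
theorem L254301 : sm ge N29996 = N29996 := ded_43_1 (flp_h L254297) L175123 L254297
theorem L254302 : sm gg N29996 = N20610 := ded_50_1 (flp_h L175144) (flp_g L175124) L254297
theorem L254304 : sm gd N20608 = N29997 := rfl
theorem L254306 : sm ga N29997 = N29997 := ded_12_1 (flp_d L254304) L175128 L254304
theorem L254307 : sm gg N29997 = N20611 := ded_36_2 (flp_d L175152) (flp_g L175132) L254304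
theorem L254309 : sm gh N29997 = N29997 := ded_38_2 (flp_d L254304) (flp_h L175126) L120742 L175126 L254304
theorem L254310 : sm gh N20609 = N29998 := rfl
theorem L254312 : sm ga N29998 = N20610 := ded_17_1 (flp_h L175144) (flp_a L175136) L254310
theorem L254314 : sm gb N29998 = N29998 := ded_25_1 (flp_h L254310) L175138 L254310
theorem L254315 : sm ge N29998 = N29998 := ded_43_1 (flp_h L254310) L175140 L254310
theorem L254316 : sm gf N29998 = N21826 := ded_47_1 (flp_h L185352) (flp_f L175141) L254310
theorem L254318 : sm gj N29998 = N29998 := ded_52_1 (flp_h L254310) L175143 L254310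
theorem L254319 : sm gd N20610 = N29999 := rfl
theorem L254321 : sm gb N29999 = N20611 := ded_20_1 (flp_d L175152) (flp_b L175146) L254319
theorem L254323 : sm gf N29999 = N21827 := ded_35_2 (flp_d L185360) (flp_f L175149) L254319
theorem L254325 : sm gj N29999 = N29999 := ded_37_2 (flp_d L254319) L175151 L254319
theorem L254326 : sm gh N29999 = N29999 := ded_38_2 (flp_d L254319) (flp_h L175144) L120764 L175144 L254319
theorem L254327 : sm ge N20611 = N30000 := rfl
theorem L254329 : sm ga N30000 = N30000 := ded_13_1 (flp_e L254327) L175154 L254327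
theorem L254330 : sm gj N30000 = N30000 := ded_42_2 (flp_e L254327) L175157 L254327
theorem L254331 : sm gh N30000 = N30000 := ded_43_2 (flp_e L254327) L175158 L254327
theorem L254332 : sm gd N30000 = N30000 := ded_34_1 (flp_e L254327) (flp_d L175152) L120774 L175152 L254327
theorem L254363 : sm gf N20613 = N30004 := rfl
theorem L254366 : sm gc N30004 = N20614 := ded_29_1 (flp_f L175179) (flp_c L175173) L254363
theorem L254373 : sm gg N20614 = N30005 := rfl
theorem L254376 : sm gb N30005 = N22329 := ded_23_1 (flp_g L189630) (flp_b L175182) L254373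
theorem L254384 : sm ge N20615 = N30006 := rfl
theorem L254389 : sm gc N30006 = N22330 := ded_28_1 (flp_e L189640) (flp_c L175192) L254384
theorem L254391 : sm gg N30006 = N20654 := ded_41_2 (flp_e L175550) (flp_g L175195) L254384
theorem L254396 : sm gd N20616 = N30007 := rfl
theorem L254400 : sm gg N30007 = N20655 := ded_36_2 (flp_d L175561) (flp_g L175207) L254396
theorem L254414 : sm gf N20617 = N30009 := rfl
theorem L254417 : sm gc N30009 = N20623 := ded_29_1 (flp_f L175274) (flp_c L175219) L254414
theorem L254419 : sm gd N30009 = N20618 := ded_35_1 (flp_f L175222) L175212 L254414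
theorem L254423 : sm gh N20617 = N30010 := rfl
theorem L254426 : sm gc N30010 = N20624 := ded_32_1 (flp_h L175281) (flp_c L175219) L254423
theorem L254429 : sm gg N30010 = N20658 := ded_50_1 (flp_h L175590) (flp_g L175215) L254423
theorem L254454 : sm gd N20620 = N30013 := rfl
theorem L254459 : sm gg N30013 = N20661 := ded_36_2 (flp_d L175619) (flp_g L175248) L254454
theorem L254464 : sm gf N20620 = N30014 := rfl
theorem L254466 : sm ga N30014 = N20622 := ded_14_1 (flp_f L175263) (flp_a L175243) L254464
theorem L254472 : sm gh N30014 = N20628 := ded_47_2 (flp_f L175323) (flp_h L175251) L254464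
theorem L254485 : sm gf N20621 = N30016 := rfl
theorem L254487 : sm gb N30016 = N20623 := ded_22_1 (flp_f L175274) (flp_b L175256) L254485
theorem L254493 : sm gh N20621 = N30017 := rfl
theorem L254495 : sm gb N30017 = N20624 := ded_25_1 (flp_h L175281) (flp_b L175256) L254493
theorem L254501 : sm gd N30017 = N20631 := ded_38_1 (flp_h L175353) (flp_d L120894) (flp_h L120850) L175254 L254493
theorem L254522 : sm gg N20623 = N30020 := rfl
theorem L254528 : sm gf N30020 = N20668 := ded_45_1 (flp_g L175688) (flp_f L121125) (flp_g L120856) L175274 L254522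
theorem L254530 : sm gh N20623 = N30021 := rfl
theorem L254533 : sm gf N30021 = N20624 := ded_47_1 (flp_h L175281) L175274 L254530
theorem L254536 : sm gd N30021 = N20635 := ded_38_1 (flp_h L175389) L120917 (flp_h L120867) (flp_d L175277) L254530
theorem L254538 : sm gi N20624 = N30022 := rfl
theorem L254541 : sm gd N30022 = N20636 := ded_39_1 (flp_i L175396) (flp_d L175288) L254538
theorem L254560 : sm gc N20627 = N30024 := rfl
theorem L254562 : sm ga N30024 = N20629 := ded_11_1 (flp_c L175334) (flp_a L175315) L254560
theorem L254567 : sm gi N30024 = N20638 := ded_33_2 (flp_c L175416) (flp_i L175321) L254560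
theorem L254569 : sm gd N30024 = N22348 := ded_27_2 (flp_c L189809) (flp_d L130824) (flp_c L120887) L175313 L254560
theorem L254571 : sm gf N20627 = N30025 := rfl
theorem L254573 : sm ga N30025 = N20630 := ded_14_1 (flp_f L175344) (flp_a L175315) L254571
theorem L254581 : sm gh N20627 = N30026 := rfl
theorem L254583 : sm ga N30026 = N20631 := ded_17_1 (flp_h L175353) (flp_a L175315) L254581
theorem L254586 : sm gg N30026 = N20674 := ded_50_1 (flp_h L175745) (flp_g L175318) L254581
theorem L254589 : sm gg N20628 = N30027 := rfl
theorem L254597 : sm gi N30027 = N20641 := ded_51_2 (flp_g L175442) (flp_i L175331) L254589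
theorem L254601 : sm gf N20629 = N30028 := rfl
theorem L254609 : sm gi N30028 = N20642 := ded_48_2 (flp_f L175453) (flp_i L175339) L254601
theorem L254611 : sm gh N20629 = N30029 := rfl
theorem L254614 : sm gc N30029 = N20631 := ded_32_1 (flp_h L175353) L175334 L254611
theorem L254619 : sm ge N20630 = N30030 := rfl
theorem L254621 : sm gb N30030 = N20633 := ded_21_1 (flp_e L175371) (flp_b L175346) L254619
theorem L254627 : sm gg N20630 = N30031 := rfl
theorem L254631 : sm gd N30031 = N20632 := ded_36_1 (flp_g L175360) (flp_d L175348) L254627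
theorem L254633 : sm gi N30031 = N20645 := ded_51_2 (flp_g L175475) (flp_i L175351) L254627
theorem L254635 : sm gf N30031 = N20679 := ded_45_1 (flp_g L175791) (flp_f L121194) (flp_g L120898) L175344 L254627
theorem L254644 : sm gi N20631 = N30033 := rfl
theorem L254648 : sm gg N30033 = N20681 := ded_51_1 (flp_i L175807) (flp_g L175357) L254644
theorem L254653 : sm gj N20632 = N30034 := rfl
theorem L254657 : sm gc N30034 = N22358 := ded_31_1 (flp_j L189904) (flp_c L175364) L254653
theorem L254660 : sm gf N30034 = N20682 := ded_46_1 (flp_j L175815) (flp_f L175369) L254653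
theorem L254662 : sm gi N30034 = N20648 := ded_53_2 (flp_j L175499) (flp_i L175367) L254653
theorem L254665 : sm gg N20633 = N30035 := rfl
theorem L254670 : sm ge N30035 = N20634 := ded_41_1 (flp_g L175379) L175371 L254665
theorem L254672 : sm gi N30035 = N20649 := ded_51_2 (flp_g L175510) (flp_i L175376) L254665
theorem L254700 : sm gi N20635 = N30039 := rfl
theorem L254707 : sm gh N30039 = N20653 := ded_54_1 (flp_i L175542) (flp_h L121016) (flp_i L120920) L175389 L254700
theorem L254718 : sm gf N20638 = N30041 := rfl
theorem L254722 : sm gc N30041 = N20639 := ded_29_1 (flp_f L175425) L175416 L254718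
theorem L254736 : sm ge N20639 = N30043 := rfl
theorem L254738 : sm ga N30043 = N20644 := ded_13_1 (flp_e L175469) (flp_a L175427) L254736
theorem L254752 : sm gh N20639 = N30045 := rfl
theorem L254757 : sm gf N30045 = N20640 := ded_47_1 (flp_h L175433) L175425 L254752
theorem L254761 : sm gi N20640 = N30046 := rfl
theorem L254763 : sm ga N30046 = N20647 := ded_18_1 (flp_i L175491) (flp_a L175435) L254761
theorem L254767 : sm gg N30046 = N20694 := ded_51_1 (flp_i L175923) (flp_g L175438) L254761
theorem L254770 : sm gj N20641 = N30047 := rfl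
theorem L254778 : sm gf N30047 = N20695 := ded_46_1 (flp_j L175931) (flp_f L175451) L254770
theorem L254782 : sm ge N20642 = N30048 := rfl
theorem L254785 : sm gc N30048 = N20644 := ded_28_1 (flp_e L175469) (flp_c L175456) L254782
theorem L254797 : sm gh N20642 = N30050 := rfl
theorem L254800 : sm gc N30050 = N20646 := ded_32_1 (flp_h L175483) (flp_c L175456) L254797
theorem L254802 : sm gf N30050 = N20643 := ded_47_1 (flp_h L175461) L175453 L254797
theorem L254805 : sm gd N20643 = N30051 := rfl
theorem L254808 : sm gg N30051 = N20699 := ded_36_2 (flp_d L175966) (flp_g L175466) L254805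
theorem L254812 : sm gh N30051 = N22375 := ded_38_2 (flp_d L190063) (flp_h L130977) (flp_d L120975) L175461 L254805
theorem L254814 : sm gi N20643 = N30052 := rfl
theorem L254822 : sm gg N20644 = N30053 := rfl
theorem L254827 : sm ge N30053 = N20645 := ded_41_1 (flp_g L175475) L175469 L254822
theorem L254829 : sm gh N20644 = N30054 := rfl
theorem L254833 : sm ge N30054 = N20646 := ded_43_1 (flp_h L175483) L175469 L254829
theorem L254845 : sm gh N20645 = N30056 := rfl
theorem L254847 : sm gb N30056 = N20652 := ded_25_1 (flp_h L175533) (flp_b L175477) L254845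
theorem L254849 : sm gf N30056 = N20704 := ded_47_1 (flp_h L176005) (flp_f L175481) L254845
theorem L254851 : sm gg N30056 = N20646 := ded_50_1 (flp_h L175483) L175475 L254845
theorem L254854 : sm gi N20646 = N30057 := rfl
theorem L254862 : sm gf N20649 = N30058 := rfl
theorem L254869 : sm gj N20649 = N30059 := rfl
theorem L254874 : sm ge N30059 = N20651 := ded_42_1 (flp_j L175524) (flp_e L175515) L254869
theorem L254877 : sm gh N20649 = N30060 := rfl
theorem L254898 : sm gh N20651 = N30063 := rfl
theorem L254902 : sm gf N30063 = N20711 := ded_47_1 (flp_h L176061) (flp_f L175530) L254898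
theorem L254908 : sm gi N20652 = N30064 := rfl
theorem L254917 : sm gd N20654 = N30065 := rfl
theorem L254919 : sm ga N30065 = N20655 := ded_12_1 (flp_d L175561) (flp_a L175552) L254917
theorem L254922 : sm gj N30065 = N20713 := ded_37_2 (flp_d L176077) (flp_j L175557) L254917
theorem L254938 : sm gc N20655 = N30067 := rfl
theorem L254941 : sm gj N30067 = N20715 := ded_31_2 (flp_c L176095) (flp_j L175565) L254938
theorem L254948 : sm gf N20655 = N30068 := rfl
theorem L254954 : sm gj N30068 = N20716 := ded_46_2 (flp_f L176104) (flp_j L175565) L254948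
theorem L254992 : sm gh N20657 = N30073 := rfl
theorem L254997 : sm gf N30073 = N20658 := ded_47_1 (flp_h L175590) L175580 L254992
theorem L254999 : sm gj N30073 = N20721 := ded_52_1 (flp_h L176145) (flp_j L175587) L254992
theorem L255002 : sm gi N20658 = N30074 := rfl
theorem L255005 : sm gc N30074 = N20670 := ded_33_1 (flp_i L175703) (flp_c L175593) L255002
theorem L255009 : sm gj N30074 = N20722 := ded_53_1 (flp_i L176153) (flp_j L175596) L255002
theorem L255012 : sm gj N20659 = N30075 := rfl
theorem L255020 : sm gg N30075 = N20723 := ded_49_1 (flp_j L176162) (flp_g L121439) (flp_j L121077) L175599 L255012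
theorem L255022 : sm gc N20661 = N30076 := rfl
theorem L255030 : sm gd N30076 = N22426 := ded_27_2 (flp_c L190543) (flp_d L131310) (flp_c L121097) L175619 L255022
theorem L255032 : sm gf N20661 = N30077 := rfl
theorem L255039 : sm gj N30077 = N20725 := ded_46_2 (flp_f L176180) (flp_j L175624) L255032
theorem L255073 : sm gh N20663 = N30081 := rfl
theorem L255078 : sm gj N30081 = N20729 := ded_52_1 (flp_h L176217) (flp_j L175645) L255073
theorem L255080 : sm ge N20664 = N30082 := rfl
theorem L255082 : sm gb N30082 = N20667 := ded_21_1 (flp_e L175679) (flp_b L175652) L255080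
theorem L255084 : sm gj N30082 = N20730 := ded_42_2 (flp_e L176223) (flp_j L175656) L255080
theorem L255090 : sm gg N20664 = N30083 := rfl
theorem L255097 : sm gh N20664 = N30084 := rfl
theorem L255099 : sm gb N30084 = N20669 := ded_25_1 (flp_h L175694) (flp_b L175652) L255097
theorem L255101 : sm gf N30084 = N20665 := ded_47_1 (flp_h L175659) L175650 L255097
theorem L255107 : sm gi N20665 = N30085 := rfl
theorem L255114 : sm gj N30085 = N20733 := ded_53_1 (flp_i L176247) (flp_j L175664) L255107
theorem L255130 : sm gg N20667 = N30087 := rfl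
theorem L255133 : sm gd N30087 = N20812 := ded_36_1 (flp_g L176895) (flp_d L175685) L255130
theorem L255138 : sm gh N20667 = N30088 := rfl
theorem L255144 : sm gj N30088 = N20736 := ded_52_1 (flp_h L176276) (flp_j L175682) L255138
theorem L255146 : sm gj N20668 = N30089 := rfl
theorem L255149 : sm gd N30089 = N20671 := ded_37_1 (flp_j L175712) (flp_d L175691) L255146
theorem L255152 : sm gg N30089 = N20737 := ded_49_1 (flp_j L176282) (flp_g L121520) (flp_j L121130) L175688 L255146
theorem L255154 : sm gh N20668 = N30090 := rfl
theorem L255171 : sm gb N20672 = N30092 := rfl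
theorem L255175 : sm gj N30092 = N20740 := ded_24_2 (flp_b L176305) (flp_j L175728) L255171
theorem L255177 : sm gi N30092 = N20688 := ded_26_2 (flp_b L175871) (flp_i L175730) L255171
theorem L255181 : sm gf N20672 = N30093 := rfl
theorem L255183 : sm ga N30093 = N20676 := ded_14_1 (flp_f L175763) (flp_a L175726) L255181
theorem L255185 : sm gc N30093 = N20673 := ded_29_1 (flp_f L175734) L175724 L255181
theorem L255187 : sm gd N30093 = N22443 := ded_35_1 (flp_f L190696) (flp_d L175732) L255181
theorem L255191 : sm gi N30093 = N20689 := ded_48_2 (flp_f L175879) (flp_i L175730) L255181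
theorem L255193 : sm gh N20672 = N30094 := rfl
theorem L255195 : sm ga N30094 = N20677 := ded_17_1 (flp_h L175774) (flp_a L175726) L255193
theorem L255197 : sm gc N30094 = N20674 := ded_32_1 (flp_h L175745) L175724 L255193
theorem L255201 : sm ge N20673 = N30095 := rfl
theorem L255203 : sm ga N30095 = N20678 := ded_13_1 (flp_e L175781) (flp_a L175736) L255201
theorem L255208 : sm gi N30095 = N20691 := ded_44_2 (flp_e L175897) (flp_i L175743) L255201
theorem L255210 : sm gd N30095 = N20820 := ded_34_1 (flp_e L176974) L121993 (flp_e L121183) (flp_d L175739) L255201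
theorem L255212 : sm gg N20673 = N30096 := rfl
theorem L255219 : sm gi N30096 = N20692 := ded_51_2 (flp_g L175906) (flp_i L175743) L255212
theorem L255221 : sm gh N20673 = N30097 := rfl
theorem L255223 : sm ga N30097 = N20680 := ded_17_1 (flp_h L175799) (flp_a L175736) L255221
theorem L255226 : sm gf N30097 = N20674 := ded_47_1 (flp_h L175745) L175734 L255221
theorem L255230 : sm gi N20674 = N30098 := rfl
theorem L255232 : sm ga N30098 = N20681 := ded_18_1 (flp_i L175807) (flp_a L175747) L255230
theorem L255239 : sm gj N20675 = N30099 := rfl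
theorem L255246 : sm ge N30099 = N20824 := ded_42_1 (flp_j L177012) (flp_e L175759) L255239
theorem L255248 : sm gi N30099 = N20695 := ded_53_2 (flp_j L175931) (flp_i L175761) L255239
theorem L255252 : sm ge N20676 = N30100 := rfl
theorem L255254 : sm gb N30100 = N30100 := ded_21_1 (flp_e L255252) L175765 L255252
theorem L255255 : sm gc N30100 = N20678 := ded_28_1 (flp_e L175781) (flp_c L175766) L255252
theorem L255257 : sm gj N30100 = N20748 := ded_42_2 (flp_e L176377) (flp_j L175770) L255252
theorem L255259 : sm gi N30100 = N20696 := ded_44_2 (flp_e L175943) (flp_i L175772) L255252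
theorem L255261 : sm gg N20676 = N30101 := rfl
theorem L255264 : sm gc N30101 = N20679 := ded_30_1 (flp_g L175791) (flp_c L175766) L255261
theorem L255266 : sm gd N30101 = N22451 := ded_36_1 (flp_g L190781) (flp_d L175768) L255261
theorem L255270 : sm gh N20676 = N30102 := rfl
theorem L255273 : sm gc N30102 = N20680 := ded_32_1 (flp_h L175799) (flp_c L175766) L255270
theorem L255275 : sm gf N30102 = N20677 := ded_47_1 (flp_h L175774) L175763 L255270
theorem L255277 : sm gj N30102 = N20750 := ded_52_1 (flp_h L176394) (flp_j L175770) L255270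
theorem L255279 : sm gd N20677 = N30103 := rfl
theorem L255286 : sm gi N20677 = N30104 := rfl
theorem L255291 : sm gj N30104 = N20752 := ded_53_1 (flp_i L176407) (flp_j L175779) L255286
theorem L255295 : sm gg N20678 = N30105 := rfl
theorem L255299 : sm gd N30105 = N20830 := ded_36_1 (flp_g L177075) (flp_d L175789) L255295
theorem L255303 : sm gi N30105 = N20701 := ded_51_2 (flp_g L175981) (flp_i L175787) L255295
theorem L255305 : sm gh N20678 = N30106 := rfl
theorem L255307 : sm gb N30106 = N20684 := ded_25_1 (flp_h L175837) (flp_b L175783) L255305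
theorem L255311 : sm gj N30106 = N20754 := ded_52_1 (flp_h L176425) (flp_j L175785) L255305
theorem L255313 : sm gj N20679 = N30107 := rfl
theorem L255321 : sm gg N30107 = N20755 := ded_49_1 (flp_j L176431) (flp_g L121612) (flp_j L121200) L175791 L255313
theorem L255323 : sm gh N20679 = N30108 := rfl
theorem L255327 : sm gg N30108 = N20680 := ded_50_1 (flp_h L175799) L175791 L255323
theorem L255329 : sm gi N20680 = N30109 := rfl
theorem L255333 : sm gf N30109 = N20681 := ded_48_1 (flp_i L175807) (flp_f L175803) L255329
theorem L255335 : sm gj N30109 = N20757 := ded_53_1 (flp_i L176447) (flp_j L175805) L255329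
theorem L255337 : sm gh N30109 = N20705 := ded_54_1 (flp_i L176012) (flp_h L121330) (flp_i L121202) L175799 L255329
theorem L255339 : sm gf N20683 = N30110 := rfl
theorem L255347 : sm gj N20683 = N30111 := rfl
theorem L255351 : sm gd N30111 = N20836 := ded_37_1 (flp_j L177127) (flp_d L175831) L255347
theorem L255357 : sm gg N30111 = N20759 := ded_49_1 (flp_j L176464) (flp_g L121645) (flp_j L121224) L175827 L255347
theorem L255359 : sm gh N20683 = N30112 := rfl
theorem L255365 : sm gg N30112 = N20684 := ded_50_1 (flp_h L175837) L175827 L255359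
theorem L255374 : sm gi N20684 = N30114 := rfl
theorem L255380 : sm gj N30114 = N20762 := ded_53_1 (flp_i L176487) (flp_j L175843) L255374
theorem L255384 : sm gh N20685 = N30115 := rfl
theorem L255418 : sm ge N20689 = N30119 := rfl
theorem L255420 : sm ga N30119 = N20696 := ded_13_1 (flp_e L175943) (flp_a L175881) L255418
theorem L255422 : sm gc N30119 = N20691 := ded_28_1 (flp_e L175897) (flp_c L175883) L255418
theorem L255424 : sm gj N30119 = N20767 := ded_42_2 (flp_e L176526) (flp_j L175887) L255418
theorem L255426 : sm gg N20689 = N30120 := rfl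
theorem L255428 : sm ga N30120 = N20697 := ded_15_1 (flp_g L175950) (flp_a L175881) L255426
theorem L255430 : sm gc N30120 = N20692 := ded_30_1 (flp_g L175906) (flp_c L175883) L255426
theorem L255434 : sm gh N20689 = N30121 := rfl
theorem L255440 : sm gf N30121 = N20690 := ded_47_1 (flp_h L175889) L175879 L255434
theorem L255461 : sm gg N20691 = N30124 := rfl
theorem L255463 : sm ga N30124 = N20701 := ded_15_1 (flp_g L175981) (flp_a L175899) L255461
theorem L255466 : sm gd N30124 = N20849 := ded_36_1 (flp_g L177250) (flp_d L175904) L255461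
theorem L255470 : sm gh N20691 = N30125 := rfl
theorem L255472 : sm ga N30125 = N20702 := ded_17_1 (flp_h L175989) (flp_a L175899) L255470
theorem L255475 : sm ge N30125 = N20693 := ded_43_1 (flp_h L175913) L175897 L255470
theorem L255477 : sm gj N30125 = N20773 := ded_52_1 (flp_h L176573) (flp_j L175902) L255470
theorem L255488 : sm gh N20692 = N30127 := rfl
theorem L255490 : sm ga N30127 = N20704 := ded_17_1 (flp_h L176005) (flp_a L175908) L255488
theorem L255493 : sm gg N30127 = N20693 := ded_50_1 (flp_h L175913) L175906 L255488
theorem L255496 : sm gi N20693 = N30128 := rfl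
theorem L255498 : sm ga N30128 = N20705 := ded_18_1 (flp_i L176012) (flp_a L175915) L255496
theorem L255502 : sm gf N30128 = N20694 := ded_48_1 (flp_i L175923) (flp_f L175918) L255496
theorem L255506 : sm gd N20696 = N30129 := rfl
theorem L255509 : sm gj N30129 = N20777 := ded_37_2 (flp_d L176605) (flp_j L175948) L255506
theorem L255511 : sm gc N30129 = N20854 := ded_27_1 (flp_d L177295) L122210 (flp_d L121322) (flp_c L175946) L255506
theorem L255515 : sm gg N20696 = N30130 := rfl
theorem L255518 : sm gc N30130 = N20701 := ded_30_1 (flp_g L175981) (flp_c L175946) L255515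
theorem L255522 : sm gh N20696 = N30131 := rfl
theorem L255525 : sm gc N30131 = N20702 := ded_32_1 (flp_h L175989) (flp_c L175946) L255522
theorem L255527 : sm ge N30131 = N20698 := ded_43_1 (flp_h L175957) L175943 L255522
theorem L255529 : sm gj N30131 = N20779 := ded_52_1 (flp_h L176619) (flp_j L175948) L255522
theorem L255540 : sm gh N20697 = N30133 := rfl
theorem L255543 : sm gc N30133 = N20704 := ded_32_1 (flp_h L176005) (flp_c L175953) L255540
theorem L255545 : sm gg N30133 = N20698 := ded_50_1 (flp_h L175957) L175950 L255540
theorem L255547 : sm gd N20698 = N30134 := rfl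
theorem L255550 : sm gf N30134 = N20699 := ded_35_2 (flp_d L175966) (flp_f L175962) L255547
theorem L255552 : sm gj N30134 = N20782 := ded_37_2 (flp_d L176642) (flp_j L175964) L255547
theorem L255557 : sm gi N20698 = N30135 := rfl
theorem L255560 : sm gc N30135 = N20705 := ded_33_1 (flp_i L176012) (flp_c L175960) L255557
theorem L255562 : sm gf N30135 = N20700 := ded_48_1 (flp_i L175974) (flp_f L175962) L255557
theorem L255566 : sm ge N20699 = N30136 := rfl
theorem L255572 : sm gh N30136 = N22486 := ded_43_2 (flp_e L191095) (flp_h L175972) L255566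
theorem L255574 : sm gi N20699 = N30137 := rfl
theorem L255582 : sm gf N20701 = N30138 := rfl
theorem L255584 : sm gb N30138 = N20706 := ded_22_1 (flp_f L176021) (flp_b L175983) L255582
theorem L255586 : sm gd N30138 = N20863 := ded_35_1 (flp_f L177382) (flp_d L175985) L255582
theorem L255588 : sm gj N20701 = N30139 := rfl
theorem L255590 : sm gb N30139 = N20707 := ded_24_1 (flp_j L176027) (flp_b L175983) L255588
theorem L255592 : sm gd N30139 = N20864 := ded_37_1 (flp_j L177387) (flp_d L175985) L255588
theorem L255594 : sm ge N30139 = N20703 := ded_42_1 (flp_j L175997) (flp_e L175987) L255588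
theorem L255596 : sm gg N30139 = N20787 := ded_49_1 (flp_j L176678) (flp_g L121781) (flp_j L121320) L175981 L255588
theorem L255598 : sm gh N20701 = N30140 := rfl
theorem L255600 : sm gb N30140 = N20708 := ded_25_1 (flp_h L176037) (flp_b L175983) L255598
theorem L255602 : sm ge N30140 = N20704 := ded_43_1 (flp_h L176005) (flp_e L175987) L255598
theorem L255604 : sm gg N30140 = N20702 := ded_50_1 (flp_h L175989) L175981 L255598
theorem L255606 : sm gd N20702 = N30141 := rfl
theorem L255608 : sm gb N30141 = N20709 := ded_20_1 (flp_d L176045) (flp_b L175991) L255606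
theorem L255610 : sm gj N30141 = N20789 := ded_37_2 (flp_d L176694) (flp_j L175995) L255606
theorem L255612 : sm ge N30141 = N30141 := ded_34_2 (flp_d L255606) L175993 L121338 (flp_e L175993) L255606
theorem L255613 : sm gh N30141 = N20866 := ded_38_2 (flp_d L177403) (flp_h L122258) (flp_d L121322) L175989 L255606
theorem L255615 : sm gi N20702 = N30142 := rfl
theorem L255623 : sm gh N20703 = N30143 := rfl
theorem L255625 : sm gb N30143 = N20711 := ded_25_1 (flp_h L176061) (flp_b L175999) L255623
theorem L255627 : sm gg N30143 = N20791 := ded_50_1 (flp_h L176707) (flp_g L176003) L255623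
theorem L255632 : sm gi N20704 = N30144 := rfl
theorem L255634 : sm gb N30144 = N20712 := ded_26_1 (flp_i L176070) (flp_b L176007) L255632
theorem L255637 : sm gg N30144 = N20705 := ded_51_1 (flp_i L176012) (flp_g L176009) L255632
theorem L255647 : sm gh N20706 = N30146 := rfl
theorem L255651 : sm gf N30146 = N20708 := ded_47_1 (flp_h L176037) L176021 L255647
theorem L255653 : sm gh N20707 = N30147 := rfl
theorem L255659 : sm gg N30147 = N20795 := ded_50_1 (flp_h L176739) (flp_g L176035) L255653
theorem L255661 : sm gj N30147 = N20708 := ded_52_1 (flp_h L176037) L176027 L255653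
theorem L255663 : sm gd N20708 = N30148 := rfl
theorem L255669 : sm gh N30148 = N20873 := ded_38_2 (flp_d L177463) (flp_h L122307) (flp_d L121361) L176037 L255663
theorem L255671 : sm gi N20708 = N30149 := rfl
theorem L255677 : sm gg N30149 = N20710 := ded_51_1 (flp_i L176053) (flp_g L176043) L255671
theorem L255679 : sm gc N20709 = N30150 := rfl
theorem L255683 : sm gj N30150 = N20798 := ded_31_2 (flp_c L176763) (flp_j L176048) L255679
theorem L255685 : sm gh N30150 = N20875 := ded_32_2 (flp_c L177478) (flp_h L176051) L255679
theorem L255688 : sm gi N20709 = N30151 := rfl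
theorem L255696 : sm gi N20711 = N30152 := rfl
theorem L255714 : sm gf N20713 = N30154 := rfl
theorem L255719 : sm gd N30154 = N20714 := ded_35_1 (flp_f L176085) L176077 L255714
theorem L255741 : sm gf N20715 = N30157 := rfl
theorem L255743 : sm gb N30157 = N20728 := ded_22_1 (flp_f L176210) (flp_b L176100) L255741
theorem L255745 : sm gc N30157 = N20716 := ded_29_1 (flp_f L176104) L176095 L255741
theorem L255750 : sm gh N20715 = N30158 := rfl
theorem L255752 : sm gb N30158 = N20729 := ded_25_1 (flp_h L176217) (flp_b L176100) L255750
theorem L255758 : sm ge N20716 = N30159 := rfl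
theorem L255773 : sm gh N20716 = N30161 := rfl
theorem L255798 : sm gg N20719 = N30164 := rfl
theorem L255801 : sm gc N30164 = N20735 := ded_30_1 (flp_g L176268) (flp_c L176131) L255798
theorem L255807 : sm gh N20719 = N30165 := rfl
theorem L255812 : sm ge N30165 = N20721 := ded_43_1 (flp_h L176145) L176128 L255807
theorem L255815 : sm gj N20720 = N30166 := rfl
theorem L255818 : sm gc N30166 = N20737 := ded_31_1 (flp_j L176282) (flp_c L176139) L255815
theorem L255820 : sm gd N30166 = N20723 := ded_37_1 (flp_j L176162) (flp_d L176141) L255815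
theorem L255833 : sm gi N20721 = N30168 := rfl
theorem L255836 : sm gc N30168 = N20739 := ded_33_1 (flp_i L176297) (flp_c L176148) L255833
theorem L255839 : sm gf N30168 = N20722 := ded_48_1 (flp_i L176153) (flp_f L176150) L255833
theorem L255850 : sm gf N20724 = N30170 := rfl
theorem L255856 : sm gd N30170 = N22559 := ded_35_1 (flp_f L191728) (flp_d L176178) L255850

end Cfsg.Agent.Helper28.FicA
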