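import Cfsg.Agent.Helper28.FicB21

/-! # The Fi₂₃ presentation, cosets of the subgroup generated by a, …, i: the coset enumeration, part 22 (helper28; generated) -/

set_option autoImplicit false

noncomputable section

namespace Cfsg.Agent.Helper28.FicA

open Cfsg.Agent.Helper28.CosetTable

theorem L255859 : sm gh N20724 = N30171 := rfl
theorem L255861 : sm ga N30171 = N20729 := ded_17_1 (flp_h L176217) (flp_a L176173) L255859
theorem L255867 : sm ge N20725 = N30172 := rfl
theorem L255869 : sm ga N30172 = N20730 := ded_13_1 (flp_e L176223) (flp_a L176182) L255867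
theorem L255876 : sm gg N20725 = N30173 := rfl
theorem L255881 : sm gd N30173 = N20727 := ded_36_1 (flp_g L176197) (flp_d L176185) L255876
theorem L255885 : sm gh N20725 = N30174 := rfl
theorem L255890 : sm gf N30174 = N20726 := ded_47_1 (flp_h L176188) L176180 L255885
theorem L255894 : sm gi N20726 = N30175 := rfl
theorem L255896 : sm ga N30175 = N20733 := ded_18_1 (flp_i L176247) (flp_a L176190) L255894
theorem L255917 : sm ge N20728 = N30177 := rfl
theorem L255919 : sm gc N30177 = N20730 := ded_28_1 (flp_e L176223) (flp_c L176212) L255917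
theorem L255937 : sm gd N20729 = N30180 := rfl
theorem L255940 : sm gc N30180 = N20751 := ded_27_1 (flp_d L176401) L121601 (flp_d L121499) (flp_c L176219) L255937
theorem L255944 : sm gi N20729 = N30181 := rfl
theorem L255951 : sm gg N20730 = N30182 := rfl
theorem L255953 : sm gb N30182 = N20735 := ded_23_1 (flp_g L176268) (flp_b L176225) L255951
theorem L255957 : sm ge N30182 = N20731 := ded_41_1 (flp_g L176231) L176223 L255951
theorem L255960 : sm gh N20730 = N30183 := rfl
theorem L255962 : sm gb N30183 = N20736 := ded_25_1 (flp_h L176276) (flp_b L176225) L255960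
theorem L255967 : sm gj N20731 = N30184 := rfl
theorem L255984 : sm gi N20732 = N30186 := rfl
theorem L255988 : sm gd N30186 = N20757 := ded_39_1 (flp_i L176447) (flp_d L176245) L255984
theorem L256009 : sm gh N20735 = N30189 := rfl
theorem L256016 : sm gd N20736 = N30190 := rfl
theorem L256022 : sm gh N30190 = N20899 := ded_38_2 (flp_d L177689) (flp_h L122458) (flp_d L121517) L176276 L256016
theorem L256024 : sm gi N20736 = N30191 := rfl
theorem L256027 : sm ge N30191 = N20739 := ded_44_1 (flp_i L176297) (flp_e L176279) L256024
theorem L256048 : sm gf N20740 = N30194 := rfl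
theorem L256051 : sm gb N30194 = N20741 := ded_22_1 (flp_f L176314) L176305 L256048
theorem L256056 : sm gi N30194 = N20765 := ded_48_2 (flp_f L176511) (flp_i L176310) L256048
theorem L256058 : sm gh N20740 = N30195 := rfl
theorem L256060 : sm ga N30195 = N30195 := ded_17_1 (flp_h L256058) L176312 L256058
theorem L256065 : sm ge N20741 = N30196 := rfl
theorem L256067 : sm ga N30196 = N20748 := ded_13_1 (flp_e L176377) (flp_a L176316) L256065
theorem L256069 : sm gc N30196 = N20743 := ded_28_1 (flp_e L176331) (flp_c L176318) L256065
theorem L256071 : sm gi N30196 = N20767 := ded_44_2 (flp_e L176526) (flp_i L176322) L256065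
theorem L256073 : sm gg N20741 = N30197 := rfl
theorem L256081 : sm gi N30197 = N20768 := ded_51_2 (flp_g L176532) (flp_i L176322) L256073
theorem L256084 : sm gh N20741 = N30198 := rfl
theorem L256086 : sm ga N30198 = N20750 := ded_17_1 (flp_h L176394) (flp_a L176316) L256084
theorem L256090 : sm gf N30198 = N20742 := ded_47_1 (flp_h L176324) L176314 L256084
theorem L256108 : sm gg N20743 = N30201 := rfl
theorem L256110 : sm ga N30201 = N20753 := ded_15_1 (flp_g L176415) (flp_a L176333) L256108
theorem L256115 : sm ge N30201 = N20744 := ded_41_1 (flp_g L176340) L176331 L256108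
theorem L256117 : sm gi N30201 = N20772 := ded_51_2 (flp_g L176564) (flp_i L176336) L256108
theorem L256119 : sm gh N20743 = N30202 := rfl
theorem L256121 : sm ga N30202 = N20754 := ded_17_1 (flp_h L176425) (flp_a L176333) L256119
theorem L256124 : sm ge N30202 = N20745 := ded_43_1 (flp_h L176350) L176331 L256119
theorem L256126 : sm gj N20744 = N30203 := rfl
theorem L256128 : sm ga N30203 = N20755 := ded_16_1 (flp_j L176431) (flp_a L176342) L256126
theorem L256136 : sm gh N20744 = N30204 := rfl
theorem L256138 : sm ga N30204 = N20756 := ded_17_1 (flp_h L176440) (flp_a L176342) L256136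
theorem L256144 : sm gi N20745 = N30205 := rfl
theorem L256146 : sm ga N30205 = N20757 := ded_18_1 (flp_i L176447) (flp_a L176352) L256144
theorem L256151 : sm gh N30205 = N20776 := ded_54_1 (flp_i L176597) (flp_h L121722) (flp_i L121569) L176350 L256144
theorem L256153 : sm gd N20748 = N30206 := rfl
theorem L256155 : sm gb N30206 = N30206 := ded_20_1 (flp_d L256153) L176379 L256153
theorem L256156 : sm gi N30206 = N20777 := ded_39_2 (flp_d L176605) (flp_i L176382) L256153
theorem L256158 : sm gc N30206 = N20915 := ded_27_1 (flp_d L177835) L122571 (flp_d L121610) (flp_c L176380) L256153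
theorem L256160 : sm ge N30206 = N22595 := ded_34_2 (flp_d L192031) (flp_e L132308) (flp_d L121594) L176377 L256153
theorem L256162 : sm gg N20748 = N30207 := rfl
theorem L256164 : sm gb N30207 = N30207 := ded_23_1 (flp_g L256162) L176379 L256162
theorem L256165 : sm gc N30207 = N20753 := ded_30_1 (flp_g L176415) (flp_c L176380) L256162
theorem L256167 : sm ge N30207 = N20749 := ded_41_1 (flp_g L176384) L176377 L256162
theorem L256169 : sm gi N30207 = N20778 := ded_51_2 (flp_g L176612) (flp_i L176382) L256162
theorem L256171 : sm gh N20748 = N30208 := rfl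
theorem L256173 : sm gb N30208 = N30208 := ded_25_1 (flp_h L256171) L176379 L256171
theorem L256174 : sm gc N30208 = N20754 := ded_32_1 (flp_h L176425) (flp_c L176380) L256171
theorem L256176 : sm ge N30208 = N20750 := ded_43_1 (flp_h L176394) L176377 L256171
theorem L256178 : sm gj N20749 = N30209 := rfl
theorem L256181 : sm gc N30209 = N20755 := ded_31_1 (flp_j L176431) (flp_c L176387) L256178
theorem L256188 : sm gh N20749 = N30210 := rfl
theorem L256191 : sm gc N30210 = N20756 := ded_32_1 (flp_h L176440) (flp_c L176387) L256188
theorem L256196 : sm gd N20750 = N30211 := rfl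
theorem L256199 : sm gf N30211 = N20751 := ded_35_2 (flp_d L176401) (flp_f L176399) L256196
theorem L256203 : sm gi N20750 = N30212 := rfl
theorem L256206 : sm gc N30212 = N20757 := ded_33_1 (flp_i L176447) (flp_c L176397) L256203
theorem L256208 : sm gf N30212 = N20752 := ded_48_1 (flp_i L176407) (flp_f L176399) L256203
theorem L256212 : sm ge N20751 = N30213 := rfl
theorem L256216 : sm gh N30213 = N22602 := ded_43_2 (flp_e L192086) (flp_h L176405) L256212
theorem L256218 : sm gi N20751 = N30214 := rfl
theorem L256224 : sm gf N20753 = N30215 := rfl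
theorem L256226 : sm gb N30215 = N20758 := ded_22_1 (flp_f L176455) (flp_b L176417) L256224
theorem L256228 : sm gd N30215 = N20924 := ded_35_1 (flp_f L177917) (flp_d L176419) L256224
theorem L256230 : sm gi N30215 = N20786 := ded_48_2 (flp_f L176671) (flp_i L176423) L256224
theorem L256232 : sm ge N30215 = N30215 := ded_40_1 (flp_f L256224) L176421 L121620 (flp_e L176421) L256224
theorem L256233 : sm gj N20753 = N30216 := rfl
theorem L256237 : sm gd N30216 = N20925 := ded_37_1 (flp_j L177925) (flp_d L176419) L256233
theorem L256239 : sm ge N30216 = N20755 := ded_42_1 (flp_j L176431) (flp_e L176421) L256233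
theorem L256241 : sm gi N30216 = N20787 := ded_53_2 (flp_j L176678) (flp_i L176423) L256233
theorem L256243 : sm gh N20753 = N30217 := rfl
theorem L256245 : sm gb N30217 = N20760 := ded_25_1 (flp_h L176474) (flp_b L176417) L256243
theorem L256249 : sm gg N30217 = N20754 := ded_50_1 (flp_h L176425) L176415 L256243
theorem L256251 : sm gd N20754 = N30218 := rfl
theorem L256255 : sm gh N30218 = N20927 := ded_38_2 (flp_d L177941) (flp_h L122621) (flp_d L121610) L176425 L256251
theorem L256257 : sm gi N20754 = N30219 := rfl
theorem L256259 : sm gb N30219 = N20762 := ded_26_1 (flp_i L176487) (flp_b L176427) L256257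
theorem L256261 : sm ge N30219 = N20757 := ded_44_1 (flp_i L176447) (flp_e L176429) L256257
theorem L256263 : sm gh N30219 = N20790 := ded_54_1 (flp_i L176701) (flp_h L121789) (flp_i L121608) L176425 L256257
theorem L256265 : sm gh N20755 = N30220 := rfl
theorem L256270 : sm gj N30220 = N20756 := ded_52_1 (flp_h L176440) L176431 L256265
theorem L256272 : sm gi N20756 = N30221 := rfl
theorem L256277 : sm gg N30221 = N20757 := ded_51_1 (flp_i L176447) (flp_g L176445) L256272
theorem L256279 : sm gh N30221 = N20792 := ded_54_1 (flp_i L176715) (flp_h L121802) (flp_i L121618) L176440 L256272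
theorem L256281 : sm gj N20758 = N30222 := rfl
theorem L256285 : sm gd N30222 = N20931 := ded_37_1 (flp_j L177971) (flp_d L176459) L256281
theorem L256288 : sm gf N30222 = N20759 := ded_46_1 (flp_j L176464) L176455 L256281
theorem L256290 : sm gi N30222 = N20793 := ded_53_2 (flp_j L176723) (flp_i L176461) L256281
theorem L256292 : sm gh N20758 = N30223 := rfl
theorem L256297 : sm gf N30223 = N20760 := ded_47_1 (flp_h L176474) L176455 L256292
theorem L256314 : sm gi N20760 = N30226 := rfl
theorem L256320 : sm gg N30226 = N20762 := ded_51_1 (flp_i L176487) (flp_g L176480) L256314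
theorem L256322 : sm gh N30226 = N20797 := ded_54_1 (flp_i L176755) (flp_h L121832) (flp_i L121653) L176474 L256314
theorem L256330 : sm gi N20761 = N30228 := rfl
theorem L256333 : sm gd N30228 = N20762 := ded_39_1 (flp_i L176487) L176482 L256330
theorem L256335 : sm gi N20763 = N30229 := rfl
theorem L256340 : sm gj N30229 = N20764 := ded_53_1 (flp_i L176502) (flp_j L176500) L256335
theorem L256342 : sm gh N30229 = N20800 := ded_54_1 (flp_i L176776) (flp_h L121852) (flp_i L121668) L176495 L256335
theorem L256359 : sm gh N20765 = N30232 := rfl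
theorem L256375 : sm gi N20766 = N30234 := rfl
theorem L256378 : sm gb N30234 = N20771 := ded_26_1 (flp_i L176557) (flp_b L176522) L256375
theorem L256382 : sm gd N20767 = N30235 := rfl
theorem L256384 : sm ga N30235 = N20777 := ded_12_1 (flp_d L176605) (flp_a L176528) L256382
theorem L256386 : sm gc N30235 = N20944 := ded_27_1 (flp_d L178083) L122734 (flp_d L121712) (flp_c L176530) L256382
theorem L256388 : sm ge N30235 = N22624 := ded_34_2 (flp_d L192271) (flp_e L132467) (flp_d L121698) L176526 L256382
theorem L256390 : sm gg N20767 = N30236 := rfl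
theorem L256392 : sm ga N30236 = N20778 := ded_15_1 (flp_g L176612) (flp_a L176528) L256390
theorem L256394 : sm gc N30236 = N20772 := ded_30_1 (flp_g L176564) (flp_c L176530) L256390
theorem L256396 : sm ge N30236 = N20768 := ded_41_1 (flp_g L176532) L176526 L256390
theorem L256415 : sm gh N20768 = N30239 := rfl
theorem L256417 : sm ga N30239 = N20781 := ded_17_1 (flp_h L176634) (flp_a L176534) L256415
theorem L256419 : sm gc N30239 = N20775 := ded_32_1 (flp_h L176588) (flp_c L176536) L256415
theorem L256433 : sm gi N20769 = N30241 := rfl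
theorem L256439 : sm gf N30241 = N20771 := ded_48_1 (flp_i L176557) (flp_f L176547) L256433
theorem L256457 : sm gf N20772 = N30244 := rfl
theorem L256459 : sm ga N30244 = N20786 := ded_14_1 (flp_f L176671) (flp_a L176566) L256457
theorem L256461 : sm gb N30244 = N30244 := ded_22_1 (flp_f L256457) L176568 L256457
theorem L256462 : sm gd N30244 = N20953 := ded_35_1 (flp_f L178160) (flp_d L176569) L256457
theorem L256464 : sm ge N30244 = N30244 := ded_40_1 (flp_f L256457) L176571 L121721 (flp_e L176571) L256457
theorem L256465 : sm gj N20772 = N30245 := rfl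
theorem L256467 : sm ga N30245 = N20787 := ded_16_1 (flp_j L176678) (flp_a L176566) L256465
theorem L256472 : sm ge N30245 = N20774 := ded_42_1 (flp_j L176580) (flp_e L176571) L256465
theorem L256474 : sm gh N20772 = N30246 := rfl
theorem L256476 : sm ga N30246 = N20788 := ded_17_1 (flp_h L176686) (flp_a L176566) L256474
theorem L256479 : sm ge N30246 = N20775 := ded_43_1 (flp_h L176588) (flp_e L176571) L256474
theorem L256481 : sm gg N30246 = N20773 := ded_50_1 (flp_h L176573) L176564 L256474
theorem L256483 : sm gd N20773 = N30247 := rfl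
theorem L256485 : sm ga N30247 = N20789 := ded_12_1 (flp_d L176694) (flp_a L176575) L256483
theorem L256491 : sm gi N20773 = N30248 := rfl
theorem L256493 : sm ga N30248 = N20790 := ded_18_1 (flp_i L176701) (flp_a L176575) L256491
theorem L256496 : sm ge N30248 = N20776 := ded_44_1 (flp_i L176597) (flp_e L176578) L256491
theorem L256498 : sm gh N20774 = N30249 := rfl
theorem L256500 : sm ga N30249 = N20791 := ded_17_1 (flp_h L176707) (flp_a L176582) L256498
theorem L256504 : sm gj N30249 = N20775 := ded_52_1 (flp_h L176588) L176580 L256498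
theorem L256507 : sm gi N20775 = N30250 := rfl
theorem L256516 : sm gg N20777 = N30251 := rfl
theorem L256519 : sm gc N30251 = N20960 := ded_30_1 (flp_g L178216) (flp_c L176608) L256516
theorem L256521 : sm gd N30251 = N20778 := ded_36_1 (flp_g L176612) L176605 L256516
theorem L256523 : sm ge N30251 = N22640 := ded_41_1 (flp_g L192410) (flp_e L176610) L256516
theorem L256525 : sm gh N20777 = N30252 := rfl
theorem L256528 : sm gc N30252 = N20961 := ded_32_1 (flp_h L178224) (flp_c L176608) L256525
theorem L256530 : sm ge N30252 = N22641 := ded_43_1 (flp_h L192417) (flp_e L176610) L256525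
theorem L256532 : sm gf N20778 = N30253 := rfl
theorem L256534 : sm gb N30253 = N30253 := ded_22_1 (flp_f L256532) L176614 L256532
theorem L256535 : sm gc N30253 = N20786 := ded_29_1 (flp_f L176671) (flp_c L176615) L256532
theorem L256537 : sm ge N30253 = N30253 := ded_40_1 (flp_f L256532) L176617 L121760 (flp_e L176617) L256532
theorem L256538 : sm gj N20778 = N30254 := rfl
theorem L256541 : sm gc N30254 = N20787 := ded_31_1 (flp_j L176678) (flp_c L176615) L256538
theorem L256543 : sm ge N30254 = N20780 := ded_42_1 (flp_j L176626) (flp_e L176617) L256538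
theorem L256545 : sm gh N20778 = N30255 := rfl
theorem L256548 : sm gc N30255 = N20788 := ded_32_1 (flp_h L176686) (flp_c L176615) L256545
theorem L256552 : sm gg N30255 = N20779 := ded_50_1 (flp_h L176619) L176612 L256545
theorem L256557 : sm gi N20779 = N30257 := rfl
theorem L256562 : sm ge N30257 = N20783 := ded_44_1 (flp_i L176650) (flp_e L176624) L256557
theorem L256572 : sm gd N20781 = N30259 := rfl
theorem L256576 : sm gg N30259 = N20782 := ded_36_2 (flp_d L176642) (flp_g L176640) L256572
theorem L256579 : sm gh N30259 = N22648 := ded_38_2 (flp_d L192466) (flp_h L132577) (flp_d L121758) L176634 L256572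
theorem L256581 : sm gi N20781 = N30260 := rfl
theorem L256584 : sm gc N30260 = N20792 := ded_33_1 (flp_i L176715) (flp_c L176637) L256581
theorem L256589 : sm ge N20782 = N30261 := rfl
theorem L256593 : sm gh N30261 = N22650 := ded_43_2 (flp_e L192481) (flp_h L176648) L256589
theorem L256595 : sm gi N20782 = N30262 := rfl
theorem L256603 : sm gf N20784 = N30263 := rfl
theorem L256607 : sm gh N30263 = N22652 := ded_47_2 (flp_f L192493) (flp_h L176662) L256603
theorem L256623 : sm gj N20786 = N30266 := rfl
theorem L256625 : sm gb N30266 = N20793 := ded_24_1 (flp_j L176723) (flp_b L176673) L256623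
theorem L256627 : sm gd N30266 = N20975 := ded_37_1 (flp_j L178340) (flp_d L176675) L256623
theorem L256629 : sm ge N30266 = N30266 := ded_42_1 (flp_j L256623) L176677 L256623
theorem L256630 : sm gf N30266 = N20787 := ded_46_1 (flp_j L176678) L176671 L256623
theorem L256632 : sm gh N20786 = N30267 := rfl
theorem L256634 : sm gb N30267 = N20794 := ded_25_1 (flp_h L176732) (flp_b L176673) L256632
theorem L256636 : sm ge N30267 = N30267 := ded_43_1 (flp_h L256632) L176677 L256632
theorem L256637 : sm gf N30267 = N20788 := ded_47_1 (flp_h L176686) L176671 L256632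
theorem L256639 : sm gh N20787 = N30268 := rfl
theorem L256641 : sm gb N30268 = N20795 := ded_25_1 (flp_h L176739) (flp_b L176680) L256639
theorem L256643 : sm ge N30268 = N20791 := ded_43_1 (flp_h L176707) (flp_e L176684) L256639
theorem L256645 : sm gj N30268 = N20788 := ded_52_1 (flp_h L176686) L176678 L256639
theorem L256647 : sm gd N20788 = N30269 := rfl
theorem L256649 : sm gb N30269 = N20796 := ded_20_1 (flp_d L176747) (flp_b L176688) L256647
theorem L256651 : sm gg N30269 = N20789 := ded_36_2 (flp_d L176694) (flp_g L176692) L256647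
theorem L256653 : sm ge N30269 = N30269 := ded_34_2 (flp_d L256647) L176690 L121809 (flp_e L176690) L256647
theorem L256654 : sm gh N30269 = N20978 := ded_38_2 (flp_d L178364) (flp_h L122901) (flp_d L121785) L176686 L256647
theorem L256656 : sm gi N20788 = N30270 := rfl
theorem L256658 : sm gb N30270 = N20797 := ded_26_1 (flp_i L176755) (flp_b L176688) L256656
theorem L256660 : sm ge N30270 = N20792 := ded_44_1 (flp_i L176715) (flp_e L176690) L256656
theorem L256662 : sm gg N30270 = N20790 := ded_51_1 (flp_i L176701) (flp_g L176692) L256656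
theorem L256664 : sm gc N20789 = N30271 := rfl
theorem L256667 : sm gh N30271 = N20980 := ded_32_2 (flp_c L178379) (flp_h L176699) L256664
theorem L256669 : sm gi N20789 = N30272 := rfl
theorem L256671 : sm gb N30272 = N20799 := ded_26_1 (flp_i L176770) (flp_b L176696) L256669
theorem L256673 : sm gd N30272 = N20790 := ded_39_1 (flp_i L176701) L176694 L256669
theorem L256675 : sm ge N30272 = N30272 := ded_44_1 (flp_i L256669) L176698 L256669
theorem L256676 : sm gi N20791 = N30273 := rfl
theorem L256682 : sm gj N30273 = N20792 := ded_53_1 (flp_i L176715) (flp_j L176712) L256676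
theorem L256684 : sm gg N20793 = N30274 := rfl
theorem L256686 : sm ga N30274 = N30274 := ded_15_1 (flp_g L256684) L176725 L256684
theorem L256687 : sm gc N30274 = N30274 := ded_30_1 (flp_g L256684) L176726 L256684
theorem L256688 : sm gd N30274 = N20983 := ded_36_1 (flp_g L178398) (flp_d L176727) L256684
theorem L256690 : sm ge N30274 = N30274 := ded_41_1 (flp_g L256684) L176729 L256684
theorem L256691 : sm gh N20793 = N30275 := rfl
theorem L256693 : sm ga N30275 = N30275 := ded_17_1 (flp_h L256691) L176725 L256691
theorem L256694 : sm gc N30275 = N30275 := ded_32_1 (flp_h L256691) L176726 L256691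
theorem L256695 : sm ge N30275 = N30275 := ded_43_1 (flp_h L256691) L176729 L256691
theorem L256696 : sm gf N30275 = N20795 := ded_47_1 (flp_h L176739) (flp_f L176730) L256691
theorem L256698 : sm gj N30275 = N20794 := ded_52_1 (flp_h L176732) L176723 L256691
theorem L256700 : sm gd N20794 = N30276 := rfl
theorem L256702 : sm ga N30276 = N30276 := ded_12_1 (flp_d L256700) L176734 L256700
theorem L256703 : sm gf N30276 = N20796 := ded_35_2 (flp_d L176747) (flp_f L176737) L256700
theorem L256705 : sm gh N30276 = N20985 := ded_38_2 (flp_d L178416) (flp_h L122947) (flp_d L121821) L176732 L256700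
theorem L256707 : sm gi N20794 = N30277 := rfl
theorem L256712 : sm gf N30277 = N20797 := ded_48_1 (flp_i L176755) (flp_f L176737) L256707
theorem L256714 : sm gd N20795 = N30278 := rfl
theorem L256716 : sm ga N30278 = N30278 := ded_12_1 (flp_d L256714) L176741 L256714
theorem L256717 : sm gj N30278 = N20796 := ded_37_2 (flp_d L176747) (flp_j L176745) L256714
theorem L256719 : sm ge N30278 = N30278 := ded_34_2 (flp_d L256714) L176743 L121859 (flp_e L176743) L256714
theorem L256720 : sm gh N30278 = N20987 := ded_38_2 (flp_d L178430) (flp_h L122956) (flp_d L121828) L176739 L256714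
theorem L256722 : sm gi N20795 = N30279 := rfl
theorem L256726 : sm ge N30279 = N20800 := ded_44_1 (flp_i L176776) (flp_e L176743) L256722
theorem L256728 : sm gj N30279 = N20797 := ded_53_1 (flp_i L176755) (flp_j L176745) L256722
theorem L256730 : sm gc N20796 = N30280 := rfl
theorem L256732 : sm ga N30280 = N30280 := ded_11_1 (flp_c L256730) L176749 L256730
theorem L256733 : sm ge N30280 = N30280 := ded_28_2 (flp_c L256730) L176752 L256730
theorem L256734 : sm gg N30280 = N20798 := ded_30_2 (flp_c L176763) (flp_g L176750) L256730
theorem L256736 : sm gh N30280 = N20989 := ded_32_2 (flp_c L178445) (flp_h L176753) L256730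
theorem L256738 : sm gd N30280 = N30280 := ded_27_2 (flp_c L256730) (flp_d L176747) L121835 L176747 L256730
theorem L256739 : sm gi N20796 = N30281 := rfl
theorem L256741 : sm ga N30281 = N30281 := ded_18_1 (flp_i L256739) L176749 L256739
theorem L256742 : sm gd N30281 = N20797 := ded_39_1 (flp_i L176755) L176747 L256739
theorem L256744 : sm ge N30281 = N30281 := ded_44_1 (flp_i L256739) L176752 L256739
theorem L256745 : sm gg N30281 = N20799 := ded_51_1 (flp_i L176770) (flp_g L176750) L256739
theorem L256747 : sm gb N20798 = N30282 := rfl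
theorem L256749 : sm gd N30282 = N30282 := ded_20_2 (flp_b L256747) L176769 L256747
theorem L256750 : sm ge N30282 = N30282 := ded_21_2 (flp_b L256747) L176766 L256747
theorem L256751 : sm gh N30282 = N20991 := ded_25_2 (flp_b L178461) (flp_h L176767) L256747
theorem L256753 : sm gi N20798 = N30283 := rfl
theorem L256756 : sm gc N30283 = N20799 := ded_33_1 (flp_i L176770) L176763 L256753
theorem L256760 : sm gh N20799 = N30284 := rfl
theorem L256762 : sm ga N30284 = N30284 := ded_17_1 (flp_h L256760) L176772 L256760
theorem L256763 : sm ge N30284 = N30284 := ded_43_1 (flp_h L256760) L176775 L256760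
theorem L256764 : sm gi N30284 = N20993 := ded_54_2 (flp_h L178474) (flp_i L122986) (flp_h L121844) L176770 L256760
theorem L256777 : sm gf N20801 = N30286 := rfl
theorem L256779 : sm ga N30286 = N20805 := ded_14_1 (flp_f L176827) (flp_a L176786) L256777
theorem L256785 : sm gj N30286 = N20879 := ded_46_2 (flp_f L177515) (flp_j L176790) L256777
theorem L256788 : sm gh N20801 = N30287 := rfl
theorem L256796 : sm gj N30287 = N20880 := ded_52_1 (flp_h L177524) (flp_j L176790) L256788
theorem L256839 : sm gj N20804 = N30292 := rfl
theorem L256841 : sm ga N30292 = N20811 := ded_16_1 (flp_j L176883) (flp_a L176818) L256839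
theorem L256847 : sm gh N30292 = N20824 := ded_52_2 (flp_j L177012) (flp_h L176823) L256839
theorem L256852 : sm ge N20805 = N30293 := rfl
theorem L256857 : sm gj N30293 = N20886 := ded_42_2 (flp_e L177582) (flp_j L176834) L256852
theorem L256861 : sm gg N20805 = N30294 := rfl
theorem L256864 : sm gc N30294 = N20808 := ded_30_1 (flp_g L176854) (flp_c L176830) L256861
theorem L256866 : sm gd N30294 = N22699 := ded_36_1 (flp_g L192923) (flp_d L176832) L256861
theorem L256879 : sm gd N20806 = N30296 := rfl
theorem L256883 : sm gj N30296 = N20889 := ded_37_2 (flp_d L177606) (flp_j L176844) L256879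
theorem L256885 : sm gc N30296 = N20828 := ded_27_1 (flp_d L177055) L122033 (flp_d L121917) (flp_c L176840) L256879
theorem L256887 : sm gh N30296 = N22701 := ded_38_2 (flp_d L192939) (flp_h L132898) (flp_d L121898) L176837 L256879
theorem L256906 : sm gh N20807 = N30299 := rfl
theorem L256908 : sm gb N30299 = N20813 := ded_25_1 (flp_h L176902) (flp_b L176848) L256906
theorem L256910 : sm ge N30299 = N20809 := ded_43_1 (flp_h L176862) L176846 L256906
theorem L256915 : sm gj N20808 = N30300 := rfl
theorem L256923 : sm gg N30300 = N20893 := ded_49_1 (flp_j L177638) (flp_g L122413) (flp_j L121906) L176854 L256915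
theorem L256925 : sm gh N20808 = N30301 := rfl
theorem L256927 : sm gb N30301 = N20815 := ded_25_1 (flp_h L176921) (flp_b L176856) L256925
theorem L256930 : sm gg N30301 = N20809 := ded_50_1 (flp_h L176862) L176854 L256925
theorem L256932 : sm gd N30301 = N20833 := ded_38_1 (flp_h L177102) L122050 (flp_h L121925) (flp_d L176858) L256925
theorem L256934 : sm gi N20809 = N30302 := rfl
theorem L256940 : sm gf N30302 = N20810 := ded_48_1 (flp_i L176872) (flp_f L176866) L256934
theorem L256942 : sm gj N30302 = N20895 := ded_53_1 (flp_i L177657) (flp_j L176868) L256934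
theorem L256961 : sm gh N20812 = N30305 := rfl
theorem L256967 : sm gg N30305 = N20813 := ded_50_1 (flp_h L176902) L176895 L256961
theorem L256969 : sm gd N20813 = N30306 := rfl
theorem L256977 : sm gi N20813 = N30307 := rfl
theorem L256981 : sm ge N30307 = N20816 := ded_44_1 (flp_i L176930) (flp_e L176906) L256977
theorem L256984 : sm gj N30307 = N20900 := ded_53_1 (flp_i L177695) (flp_j L176909) L256977
theorem L256998 : sm gi N20815 = N30309 := rfl
theorem L257002 : sm gd N30309 = N20841 := ded_39_1 (flp_i L177173) (flp_d L176928) L256998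
theorem L257005 : sm gg N30309 = N20816 := ded_51_1 (flp_i L176930) (flp_g L176926) L256998
theorem L257008 : sm gf N20817 = N30310 := rfl
theorem L257010 : sm ga N30310 = N21166 := ded_14_1 (flp_f L179941) (flp_a L176950) L257008
theorem L257012 : sm gb N30310 = N20818 := ded_22_1 (flp_f L176953) L176941 L257008
theorem L257017 : sm gj N30310 = N20903 := ded_46_2 (flp_f L177724) (flp_j L176946) L257008
theorem L257019 : sm gi N30310 = N20842 := ded_48_2 (flp_f L177183) (flp_i L176948) L257008
theorem L257021 : sm gh N20817 = N30311 := rfl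
theorem L257023 : sm ga N30311 = N21167 := ded_17_1 (flp_h L179952) (flp_a L176950) L257021
theorem L257031 : sm ge N20818 = N30312 := rfl
theorem L257033 : sm ga N30312 = N20825 := ded_13_1 (flp_e L177024) (flp_a L176955) L257031
theorem L257037 : sm gj N30312 = N20905 := ded_42_2 (flp_e L177744) (flp_j L176961) L257031
theorem L257039 : sm gi N30312 = N20844 := ded_44_2 (flp_e L177204) (flp_i L176963) L257031
theorem L257041 : sm gg N20818 = N30313 := rfl
theorem L257043 : sm ga N30313 = N20826 := ded_15_1 (flp_g L177034) (flp_a L176955) L257041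
theorem L257045 : sm gc N30313 = N20821 := ded_30_1 (flp_g L176983) (flp_c L176957) L257041
theorem L257047 : sm gd N30313 = N22718 := ded_36_1 (flp_g L193103) (flp_d L176959) L257041
theorem L257049 : sm gi N30313 = N20845 := ded_51_2 (flp_g L177212) (flp_i L176963) L257041
theorem L257052 : sm gh N20818 = N30314 := rfl
theorem L257054 : sm ga N30314 = N20827 := ded_17_1 (flp_h L177045) (flp_a L176955) L257052
theorem L257058 : sm gf N30314 = N20819 := ded_47_1 (flp_h L176965) L176953 L257052
theorem L257062 : sm gd N20819 = N30315 := rfl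
theorem L257067 : sm gj N30315 = N20908 := ded_37_2 (flp_d L177772) (flp_j L176972) L257062
theorem L257069 : sm gh N30315 = N22720 := ded_38_2 (flp_d L193122) (flp_h L133023) (flp_d L121986) L176965 L257062
theorem L257071 : sm gi N20819 = N30316 := rfl
theorem L257073 : sm ga N30316 = N20829 := ded_18_1 (flp_i L177064) (flp_a L176967) L257071
theorem L257082 : sm gg N20820 = N30317 := rfl
theorem L257089 : sm gi N30317 = N20849 := ded_51_2 (flp_g L177250) (flp_i L176981) L257082
theorem L257091 : sm gh N20820 = N30318 := rfl
theorem L257093 : sm ga N30318 = N20831 := ded_17_1 (flp_h L177083) (flp_a L176976) L257091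
theorem L257100 : sm gj N20821 = N30319 := rfl
theorem L257102 : sm ga N30319 = N20832 := ded_16_1 (flp_j L177091) (flp_a L176985) L257100
theorem L257105 : sm gd N30319 = N20824 := ded_37_1 (flp_j L177012) (flp_d L176988) L257100
theorem L257108 : sm gi N30319 = N20851 := ded_53_2 (flp_j L177266) (flp_i L176990) L257100
theorem L257110 : sm gg N30319 = N20912 := ded_49_1 (flp_j L177806) (flp_g L122529) (flp_j L121995) L176983 L257100
theorem L257112 : sm gh N20821 = N30320 := rfl
theorem L257114 : sm ga N30320 = N20833 := ded_17_1 (flp_h L177102) (flp_a L176985) L257112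
theorem L257131 : sm gd N20825 = N30322 := rfl
theorem L257133 : sm gb N30322 = N21178 := ded_20_1 (flp_d L180064) (flp_b L177026) L257131
theorem L257135 : sm gj N30322 = N20915 := ded_37_2 (flp_d L177835) (flp_j L177030) L257131
theorem L257137 : sm gi N30322 = N20854 := ded_39_2 (flp_d L177295) (flp_i L177032) L257131
theorem L257139 : sm ge N30322 = N22727 := ded_34_2 (flp_d L193196) (flp_e L133088) (flp_d L122023) L177024 L257131
theorem L257141 : sm gg N20825 = N30323 := rfl
theorem L257143 : sm gb N30323 = N21179 := ded_23_1 (flp_g L180073) (flp_b L177026) L257141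
theorem L257145 : sm gc N30323 = N20830 := ded_30_1 (flp_g L177075) (flp_c L177028) L257141
theorem L257147 : sm ge N30323 = N20826 := ded_41_1 (flp_g L177034) L177024 L257141
theorem L257149 : sm gi N30323 = N20855 := ded_51_2 (flp_g L177303) (flp_i L177032) L257141
theorem L257151 : sm gh N20825 = N30324 := rfl
theorem L257153 : sm gb N30324 = N21180 := ded_25_1 (flp_h L180081) (flp_b L177026) L257151
theorem L257155 : sm gc N30324 = N20831 := ded_32_1 (flp_h L177083) (flp_c L177028) L257151
theorem L257157 : sm ge N30324 = N20827 := ded_43_1 (flp_h L177045) L177024 L257151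
theorem L257159 : sm gj N30324 = N20917 := ded_52_1 (flp_h L177853) (flp_j L177030) L257151
theorem L257161 : sm gj N20826 = N30325 := rfl
theorem L257163 : sm gb N30325 = N21181 := ded_24_1 (flp_j L180089) (flp_b L177036) L257161
theorem L257172 : sm gg N30325 = N20918 := ded_49_1 (flp_j L177861) (flp_g L122575) (flp_j L122025) L177034 L257161
theorem L257174 : sm gh N20826 = N30326 := rfl
theorem L257176 : sm gb N30326 = N21182 := ded_25_1 (flp_h L180100) (flp_b L177036) L257174
theorem L257178 : sm gc N30326 = N20833 := ded_32_1 (flp_h L177102) (flp_c L177038) L257174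
theorem L257180 : sm gf N30326 = N30326 := ded_47_1 (flp_h L257174) L177044 L257174
theorem L257181 : sm gg N30326 = N20827 := ded_50_1 (flp_h L177045) L177034 L257174
theorem L257183 : sm gd N20827 = N30327 := rfl
theorem L257191 : sm gh N30327 = N22732 := ded_38_2 (flp_d L193246) (flp_h L133108) (flp_d L122023) L177045 L257183
theorem L257193 : sm gi N20827 = N30328 := rfl
theorem L257195 : sm gb N30328 = N21184 := ded_26_1 (flp_i L180116) (flp_b L177047) L257193
theorem L257197 : sm gc N30328 = N20834 := ded_33_1 (flp_i L177109) (flp_c L177049) L257193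
theorem L257199 : sm gf N30328 = N20829 := ded_48_1 (flp_i L177064) (flp_f L177051) L257193
theorem L257201 : sm gj N30328 = N20921 := ded_53_1 (flp_i L177891) (flp_j L177053) L257193
theorem L257203 : sm gh N30328 = N20860 := ded_54_1 (flp_i L177352) (flp_h L122223) (flp_i L122027) L177045 L257193
theorem L257223 : sm gf N20830 = N30331 := rfl
theorem L257225 : sm gb N30331 = N20835 := ded_22_1 (flp_f L177119) (flp_b L177077) L257223
theorem L257227 : sm gi N30331 = N20863 := ded_48_2 (flp_f L177382) (flp_i L177081) L257223
theorem L257230 : sm gj N20830 = N30332 := rfl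
theorem L257234 : sm ge N30332 = N20832 := ded_42_1 (flp_j L177091) (flp_e L177079) L257230
theorem L257238 : sm gg N30332 = N20925 := ded_49_1 (flp_j L177925) (flp_g L122613) (flp_j L122042) L177075 L257230
theorem L257240 : sm gh N20830 = N30333 := rfl
theorem L257244 : sm ge N30333 = N20833 := ded_43_1 (flp_h L177102) (flp_e L177079) L257240
theorem L257246 : sm gg N30333 = N20831 := ded_50_1 (flp_h L177083) L177075 L257240
theorem L257248 : sm gd N20831 = N30334 := rfl
theorem L257250 : sm gb N30334 = N20838 := ded_20_1 (flp_d L177147) (flp_b L177085) L257248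
theorem L257252 : sm gj N30334 = N20927 := ded_37_2 (flp_d L177941) (flp_j L177089) L257248
theorem L257254 : sm gi N20831 = N30335 := rfl
theorem L257256 : sm gb N30335 = N20839 := ded_26_1 (flp_i L177152) (flp_b L177085) L257254
theorem L257258 : sm ge N30335 = N20834 := ded_44_1 (flp_i L177109) (flp_e L177087) L257254
theorem L257260 : sm gj N30335 = N20928 := ded_53_1 (flp_i L177945) (flp_j L177089) L257254
theorem L257262 : sm gh N30335 = N20867 := ded_54_1 (flp_i L177410) (flp_h L122258) (flp_i L122044) L177083 L257254
theorem L257264 : sm gh N20832 = N30336 := rfl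
theorem L257266 : sm gb N30336 = N20840 := ded_25_1 (flp_h L177163) (flp_b L177093) L257264
theorem L257269 : sm gg N30336 = N20929 := ded_50_1 (flp_h L177953) (flp_g L177100) L257264
theorem L257271 : sm gj N30336 = N20833 := ded_52_1 (flp_h L177102) L177091 L257264
theorem L257273 : sm gi N20833 = N30337 := rfl
theorem L257275 : sm gb N30337 = N20841 := ded_26_1 (flp_i L177173) (flp_b L177104) L257273
theorem L257277 : sm gf N30337 = N30337 := ded_48_1 (flp_i L257273) L177106 L257273
theorem L257278 : sm gg N30337 = N20834 := ded_51_1 (flp_i L177109) (flp_g L177107) L257273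
theorem L257280 : sm gh N30337 = N20869 := ded_54_1 (flp_i L177428) (flp_h L122275) (flp_i L122052) L177102 L257273
theorem L257292 : sm gh N20835 = N30339 := rfl
theorem L257300 : sm gh N20836 = N30340 := rfl
theorem L257307 : sm gg N30340 = N20933 := ded_50_1 (flp_h L177991) (flp_g L177136) L257300
theorem L257309 : sm gj N30340 = N20837 := ded_52_1 (flp_h L177138) L177127 L257300
theorem L257311 : sm gd N20837 = N30341 := rfl
theorem L257314 : sm gg N30341 = N20838 := ded_36_2 (flp_d L177147) (flp_g L177145) L257311
theorem L257316 : sm gi N20837 = N30342 := rfl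
theorem L257319 : sm gc N30342 = N21198 := ded_33_1 (flp_i L180238) (flp_c L177141) L257316
theorem L257321 : sm ge N30342 = N20841 := ded_44_1 (flp_i L177173) (flp_e L177143) L257316
theorem L257323 : sm gg N30342 = N20839 := ded_51_1 (flp_i L177152) (flp_g L177145) L257316
theorem L257325 : sm gh N30342 = N20874 := ded_54_1 (flp_i L177469) (flp_h L122307) (flp_i L122090) L177138 L257316
theorem L257334 : sm gi N20838 = N30344 := rfl
theorem L257337 : sm gd N30344 = N20839 := ded_39_1 (flp_i L177152) L177147 L257334
theorem L257339 : sm gj N30344 = N20937 := ded_53_1 (flp_i L178021) (flp_j L177150) L257334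
theorem L257341 : sm gi N20840 = N30345 := rfl
theorem L257351 : sm gh N30345 = N20877 := ded_54_1 (flp_i L177494) (flp_h L122331) (flp_i L122109) L177163 L257341
theorem L257353 : sm ge N20842 = N30346 := rfl
theorem L257355 : sm ga N30346 = N21202 := ded_13_1 (flp_e L180273) (flp_a L177185) L257353
theorem L257357 : sm gb N30346 = N20844 := ded_21_1 (flp_e L177204) (flp_b L177187) L257353
theorem L257359 : sm gc N30346 = N30346 := ded_28_1 (flp_e L257353) L177189 L257353
theorem L257360 : sm gj N30346 = N20939 := ded_42_2 (flp_e L178037) (flp_j L177192) L257353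
theorem L257362 : sm gg N20842 = N30347 := rfl
theorem L257364 : sm ga N30347 = N21203 := ded_15_1 (flp_g L180280) (flp_a L177185) L257362
theorem L257366 : sm gb N30347 = N20845 := ded_23_1 (flp_g L177212) (flp_b L177187) L257362
theorem L257372 : sm gh N20842 = N30348 := rfl
theorem L257374 : sm ga N30348 = N21204 := ded_17_1 (flp_h L180288) (flp_a L177185) L257372
theorem L257376 : sm gb N30348 = N20846 := ded_25_1 (flp_h L177221) (flp_b L177187) L257372
theorem L257378 : sm gc N30348 = N30348 := ded_32_1 (flp_h L257372) L177189 L257372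
theorem L257379 : sm gf N30348 = N20843 := ded_47_1 (flp_h L177194) L177183 L257372
theorem L257381 : sm gj N30348 = N20941 := ded_52_1 (flp_h L178055) (flp_j L177192) L257372
theorem L257383 : sm gd N20843 = N30349 := rfl
theorem L257387 : sm gb N30349 = N20847 := ded_20_1 (flp_d L177231) (flp_b L177198) L257383
theorem L257394 : sm gi N20843 = N30350 := rfl
theorem L257396 : sm ga N30350 = N21206 := ded_18_1 (flp_i L180306) (flp_a L177196) L257394
theorem L257398 : sm gb N30350 = N20848 := ded_26_1 (flp_i L177241) (flp_b L177198) L257394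
theorem L257400 : sm gc N30350 = N30350 := ded_33_1 (flp_i L257394) L177200 L257394
theorem L257401 : sm gg N30350 = N30350 := ded_51_1 (flp_i L257394) L177201 L257394
theorem L257402 : sm gj N30350 = N20943 := ded_53_1 (flp_i L178074) (flp_j L177202) L257394
theorem L257404 : sm gd N20844 = N30351 := rfl
theorem L257408 : sm gj N30351 = N20944 := ded_37_2 (flp_d L178083) (flp_j L177210) L257404
theorem L257412 : sm gg N20844 = N30352 := rfl
theorem L257414 : sm ga N30352 = N20855 := ded_15_1 (flp_g L177303) (flp_a L177206) L257412
theorem L257416 : sm gc N30352 = N20849 := ded_30_1 (flp_g L177250) (flp_c L177208) L257412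
theorem L257418 : sm ge N30352 = N20845 := ded_41_1 (flp_g L177212) L177204 L257412
theorem L257420 : sm gh N20844 = N30353 := rfl
theorem L257422 : sm ga N30353 = N20856 := ded_17_1 (flp_h L177311) (flp_a L177206) L257420
theorem L257424 : sm gc N30353 = N20850 := ded_32_1 (flp_h L177257) (flp_c L177208) L257420
theorem L257426 : sm ge N30353 = N20846 := ded_43_1 (flp_h L177221) L177204 L257420
theorem L257428 : sm gj N30353 = N20946 := ded_52_1 (flp_h L178097) (flp_j L177210) L257420
theorem L257430 : sm gj N20845 = N30354 := rfl
theorem L257432 : sm ga N30354 = N20857 := ded_16_1 (flp_j L177321) (flp_a L177214) L257430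
theorem L257434 : sm gc N30354 = N20851 := ded_31_1 (flp_j L177266) (flp_c L177216) L257430
theorem L257436 : sm gd N30354 = N22759 := ded_37_1 (flp_j L193506) (flp_d L177218) L257430
theorem L257441 : sm gh N20845 = N30355 := rfl
theorem L257443 : sm ga N30355 = N20858 := ded_17_1 (flp_h L177332) (flp_a L177214) L257441
theorem L257445 : sm gc N30355 = N20852 := ded_32_1 (flp_h L177276) (flp_c L177216) L257441
theorem L257447 : sm gf N30355 = N30355 := ded_47_1 (flp_h L257441) L177220 L257441
theorem L257448 : sm gg N30355 = N20846 := ded_50_1 (flp_h L177221) L177212 L257441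
theorem L257450 : sm gd N20846 = N30356 := rfl
theorem L257452 : sm ga N30356 = N20859 := ded_12_1 (flp_d L177341) (flp_a L177223) L257450
theorem L257454 : sm gf N30356 = N20847 := ded_35_2 (flp_d L177231) (flp_f L177227) L257450
theorem L257456 : sm gj N30356 = N20949 := ded_37_2 (flp_d L178125) (flp_j L177229) L257450
theorem L257458 : sm gc N30356 = N30356 := ded_27_1 (flp_d L257450) L177225 L122185 (flp_c L177225) L257450
theorem L257461 : sm gi N20846 = N30357 := rfl
theorem L257463 : sm ga N30357 = N20860 := ded_18_1 (flp_i L177352) (flp_a L177223) L257461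
theorem L257465 : sm gc N30357 = N20853 := ded_33_1 (flp_i L177285) (flp_c L177225) L257461
theorem L257467 : sm gf N30357 = N20848 := ded_48_1 (flp_i L177241) (flp_f L177227) L257461
theorem L257469 : sm gj N30357 = N20950 := ded_53_1 (flp_i L178134) (flp_j L177229) L257461
theorem L257471 : sm ge N20847 = N30358 := rfl
theorem L257473 : sm ga N30358 = N20861 := ded_13_1 (flp_e L177362) (flp_a L177233) L257471
theorem L257477 : sm gj N30358 = N20951 := ded_42_2 (flp_e L178142) (flp_j L177236) L257471
theorem L257479 : sm gh N30358 = N22763 := ded_43_2 (flp_e L193543) (flp_h L177239) L257471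
theorem L257481 : sm gi N20847 = N30359 := rfl
theorem L257483 : sm ga N30359 = N20862 := ded_18_1 (flp_i L177372) (flp_a L177233) L257481
theorem L257485 : sm gc N30359 = N30359 := ded_33_1 (flp_i L257481) L177238 L257481
theorem L257486 : sm gd N30359 = N20848 := ded_39_1 (flp_i L177241) L177231 L257481
theorem L257488 : sm gg N30359 = N30359 := ded_51_1 (flp_i L257481) L177235 L257481
theorem L257489 : sm gj N30359 = N20952 := ded_53_1 (flp_i L178151) (flp_j L177236) L257481
theorem L257491 : sm gf N20849 = N30360 := rfl
theorem L257493 : sm ga N30360 = N20863 := ded_14_1 (flp_f L177382) (flp_a L177252) L257491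
theorem L257495 : sm gb N30360 = N30360 := ded_22_1 (flp_f L257491) L177254 L257491
theorem L257496 : sm ge N30360 = N30360 := ded_40_1 (flp_f L257491) L177255 L122175 (flp_e L177255) L257491
theorem L257497 : sm gj N20849 = N30361 := rfl
theorem L257499 : sm ga N30361 = N20864 := ded_16_1 (flp_j L177387) (flp_a L177252) L257497
theorem L257502 : sm ge N30361 = N20851 := ded_42_1 (flp_j L177266) (flp_e L177255) L257497
theorem L257504 : sm gg N30361 = N20954 := ded_49_1 (flp_j L178167) (flp_g L122771) (flp_j L122166) L177250 L257497
theorem L257506 : sm gh N20849 = N30362 := rfl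
theorem L257508 : sm ga N30362 = N20865 := ded_17_1 (flp_h L177395) (flp_a L177252) L257506
theorem L257510 : sm gb N30362 = N30362 := ded_25_1 (flp_h L257506) L177254 L257506
theorem L257511 : sm ge N30362 = N20852 := ded_43_1 (flp_h L177276) (flp_e L177255) L257506
theorem L257513 : sm gg N30362 = N20850 := ded_50_1 (flp_h L177257) L177250 L257506
theorem L257515 : sm gd N20850 = N30363 := rfl
theorem L257517 : sm ga N30363 = N20866 := ded_12_1 (flp_d L177403) (flp_a L177259) L257515
theorem L257519 : sm gb N30363 = N30363 := ded_20_1 (flp_d L257515) L177261 L257515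
theorem L257520 : sm gj N30363 = N20956 := ded_37_2 (flp_d L178183) (flp_j L177264) L257515
theorem L257522 : sm ge N30363 = N30363 := ded_34_2 (flp_d L257515) L177262 L122185 (flp_e L177262) L257515
theorem L257523 : sm gi N20850 = N30364 := rfl
theorem L257525 : sm ga N30364 = N20867 := ded_18_1 (flp_i L177410) (flp_a L177259) L257523
theorem L257527 : sm gb N30364 = N30364 := ded_26_1 (flp_i L257523) L177261 L257523
theorem L257528 : sm ge N30364 = N20853 := ded_44_1 (flp_i L177285) (flp_e L177262) L257523
theorem L257530 : sm gj N30364 = N20957 := ded_53_1 (flp_i L178189) (flp_j L177264) L257523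
theorem L257532 : sm gh N20851 = N30365 := rfl
theorem L257534 : sm ga N30365 = N20868 := ded_17_1 (flp_h L177418) (flp_a L177268) L257532
theorem L257536 : sm gb N30365 = N30365 := ded_25_1 (flp_h L257532) L177270 L257532
theorem L257537 : sm gf N30365 = N30365 := ded_47_1 (flp_h L257532) L177273 L257532
theorem L257538 : sm gg N30365 = N20958 := ded_50_1 (flp_h L178196) (flp_g L177274) L257532
theorem L257540 : sm gj N30365 = N20852 := ded_52_1 (flp_h L177276) L177266 L257532
theorem L257542 : sm gd N30365 = N30365 := ded_38_1 (flp_h L257532) L177271 L122203 (flp_d L177271) L257532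
theorem L257543 : sm gi N20852 = N30366 := rfl
theorem L257545 : sm ga N30366 = N20869 := ded_18_1 (flp_i L177428) (flp_a L177278) L257543
theorem L257547 : sm gb N30366 = N30366 := ded_26_1 (flp_i L257543) L177280 L257543
theorem L257548 : sm gd N30366 = N30366 := ded_39_1 (flp_i L257543) L177284 L257543
theorem L257549 : sm gf N30366 = N30366 := ded_48_1 (flp_i L257543) L177281 L257543
theorem L257550 : sm gg N30366 = N20853 := ded_51_1 (flp_i L177285) (flp_g L177282) L257543
theorem L257552 : sm gg N20854 = N30367 := rfl
theorem L257554 : sm gb N30367 = N21223 := ded_23_1 (flp_g L180472) (flp_b L177297) L257552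
theorem L257556 : sm gd N30367 = N20855 := ded_36_1 (flp_g L177303) L177295 L257552
theorem L257560 : sm gh N20854 = N30368 := rfl
theorem L257562 : sm gb N30368 = N21224 := ded_25_1 (flp_h L180479) (flp_b L177297) L257560
theorem L257564 : sm ge N30368 = N22773 := ded_43_1 (flp_h L193639) (flp_e L177301) L257560
theorem L257566 : sm gj N30368 = N20961 := ded_52_1 (flp_h L178224) (flp_j L177299) L257560
theorem L257568 : sm gf N20855 = N30369 := rfl
theorem L257570 : sm gb N30369 = N21225 := ded_22_1 (flp_f L180486) (flp_b L177305) L257568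
theorem L257572 : sm gc N30369 = N20863 := ded_29_1 (flp_f L177382) (flp_c L177307) L257568
theorem L257574 : sm ge N30369 = N30369 := ded_40_1 (flp_f L257568) L177309 L122222 (flp_e L177309) L257568
theorem L257575 : sm gj N20855 = N30370 := rfl
theorem L257577 : sm gb N30370 = N21226 := ded_24_1 (flp_j L180491) (flp_b L177305) L257575
theorem L257579 : sm gc N30370 = N20864 := ded_31_1 (flp_j L177387) (flp_c L177307) L257575
theorem L257583 : sm gg N30370 = N20963 := ded_49_1 (flp_j L178238) (flp_g L122818) (flp_j L122212) L177303 L257575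
theorem L257585 : sm gh N20855 = N30371 := rfl
theorem L257587 : sm gb N30371 = N21227 := ded_25_1 (flp_h L180499) (flp_b L177305) L257585
theorem L257589 : sm gc N30371 = N20865 := ded_32_1 (flp_h L177395) (flp_c L177307) L257585
theorem L257591 : sm ge N30371 = N20858 := ded_43_1 (flp_h L177332) (flp_e L177309) L257585
theorem L257593 : sm gg N30371 = N20856 := ded_50_1 (flp_h L177311) L177303 L257585
theorem L257595 : sm gd N20856 = N30372 := rfl
theorem L257597 : sm gb N30372 = N21228 := ded_20_1 (flp_d L180507) (flp_b L177313) L257595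
theorem L257599 : sm gj N30372 = N20965 := ded_37_2 (flp_d L178256) (flp_j L177319) L257595
theorem L257601 : sm gi N20856 = N30373 := rfl
theorem L257603 : sm gb N30373 = N21229 := ded_26_1 (flp_i L180511) (flp_b L177313) L257601
theorem L257605 : sm gc N30373 = N20867 := ded_33_1 (flp_i L177410) (flp_c L177315) L257601
theorem L257607 : sm ge N30373 = N20860 := ded_44_1 (flp_i L177352) (flp_e L177317) L257601
theorem L257609 : sm gj N30373 = N20966 := ded_53_1 (flp_i L178260) (flp_j L177319) L257601
theorem L257611 : sm gh N20857 = N30374 := rfl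
theorem L257613 : sm gb N30374 = N21230 := ded_25_1 (flp_h L180519) (flp_b L177323) L257611
theorem L257615 : sm gc N30374 = N20868 := ded_32_1 (flp_h L177418) (flp_c L177325) L257611
theorem L257618 : sm gg N30374 = N20967 := ded_50_1 (flp_h L178268) (flp_g L177330) L257611
theorem L257620 : sm gj N30374 = N20858 := ded_52_1 (flp_h L177332) L177321 L257611
theorem L257622 : sm gd N20858 = N30375 := rfl
theorem L257624 : sm gb N30375 = N21231 := ded_20_1 (flp_d L180528) (flp_b L177334) L257622
theorem L257627 : sm gg N30375 = N20859 := ded_36_2 (flp_d L177341) (flp_g L177339) L257622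
theorem L257632 : sm gi N20858 = N30376 := rfl
theorem L257634 : sm gb N30376 = N21232 := ded_26_1 (flp_i L180537) (flp_b L177334) L257632
theorem L257636 : sm gc N30376 = N20869 := ded_33_1 (flp_i L177428) (flp_c L177336) L257632
theorem L257638 : sm gf N30376 = N30376 := ded_48_1 (flp_i L257632) L177338 L257632
theorem L257639 : sm gg N30376 = N20860 := ded_51_1 (flp_i L177352) (flp_g L177339) L257632
theorem L257641 : sm ge N20859 = N30377 := rfl
theorem L257643 : sm gb N30377 = N21233 := ded_21_1 (flp_e L180544) (flp_b L177343) L257641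
theorem L257645 : sm gc N30377 = N30377 := ded_28_1 (flp_e L257641) L177349 L257641
theorem L257646 : sm gj N30377 = N20970 := ded_42_2 (flp_e L178299) (flp_j L177347) L257641
theorem L257648 : sm gh N30377 = N22782 := ded_43_2 (flp_e L193720) (flp_h L177350) L257641
theorem L257650 : sm gi N20859 = N30378 := rfl
theorem L257652 : sm gb N30378 = N21234 := ded_26_1 (flp_i L180552) (flp_b L177343) L257650
theorem L257654 : sm gc N30378 = N30378 := ded_33_1 (flp_i L257650) L177349 L257650
theorem L257655 : sm gd N30378 = N20860 := ded_39_1 (flp_i L177352) L177341 L257650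
theorem L257657 : sm gf N30378 = N20862 := ded_48_1 (flp_i L177372) (flp_f L177345) L257650
theorem L257659 : sm gj N30378 = N20971 := ded_53_1 (flp_i L178306) (flp_j L177347) L257650
theorem L257661 : sm gf N20861 = N30379 := rfl
theorem L257663 : sm gb N30379 = N21235 := ded_22_1 (flp_f L180562) (flp_b L177364) L257661
theorem L257665 : sm gc N30379 = N30379 := ded_29_1 (flp_f L257661) L177366 L257661
theorem L257666 : sm gj N30379 = N20972 := ded_46_2 (flp_f L178315) (flp_j L177368) L257661
theorem L257668 : sm gh N30379 = N22784 := ded_47_2 (flp_f L193738) (flp_h L177370) L257661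
theorem L257670 : sm gi N20861 = N30380 := rfl
theorem L257672 : sm gb N30380 = N21236 := ded_26_1 (flp_i L180570) (flp_b L177364) L257670
theorem L257674 : sm gc N30380 = N30380 := ded_33_1 (flp_i L257670) L177366 L257670
theorem L257675 : sm ge N30380 = N20862 := ded_44_1 (flp_i L177372) L177362 L257670
theorem L257677 : sm gg N30380 = N30380 := ded_51_1 (flp_i L257670) L177367 L257670
theorem L257678 : sm gj N30380 = N20973 := ded_53_1 (flp_i L178322) (flp_j L177368) L257670
theorem L257690 : sm gj N20863 = N30382 := rfl
theorem L257692 : sm gb N30382 = N20870 := ded_24_1 (flp_j L177436) (flp_b L177384) L257690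
theorem L257695 : sm gf N30382 = N20864 := ded_46_1 (flp_j L177387) L177382 L257690
theorem L257697 : sm gh N20863 = N30383 := rfl
theorem L257699 : sm gb N30383 = N20871 := ded_25_1 (flp_h L177444) (flp_b L177384) L257697
theorem L257701 : sm ge N30383 = N30383 := ded_43_1 (flp_h L257697) L177386 L257697
theorem L257702 : sm gf N30383 = N20865 := ded_47_1 (flp_h L177395) L177382 L257697
theorem L257704 : sm gh N20864 = N30384 := rfl
theorem L257706 : sm gb N30384 = N20872 := ded_25_1 (flp_h L177452) (flp_b L177389) L257704
theorem L257708 : sm ge N30384 = N20868 := ded_43_1 (flp_h L177418) (flp_e L177391) L257704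
theorem L257710 : sm gg N30384 = N20977 := ded_50_1 (flp_h L178356) (flp_g L177393) L257704
theorem L257712 : sm gj N30384 = N20865 := ded_52_1 (flp_h L177395) L177387 L257704
theorem L257714 : sm gd N20865 = N30385 := rfl
theorem L257716 : sm gb N30385 = N20873 := ded_20_1 (flp_d L177463) (flp_b L177397) L257714
theorem L257718 : sm gg N30385 = N20866 := ded_36_2 (flp_d L177403) (flp_g L177401) L257714
theorem L257720 : sm ge N30385 = N30385 := ded_34_2 (flp_d L257714) L177399 L122282 (flp_e L177399) L257714
theorem L257721 : sm gi N20865 = N30386 := rfl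
theorem L257723 : sm gb N30386 = N20874 := ded_26_1 (flp_i L177469) (flp_b L177397) L257721
theorem L257725 : sm ge N30386 = N20869 := ded_44_1 (flp_i L177428) (flp_e L177399) L257721
theorem L257727 : sm gg N30386 = N20867 := ded_51_1 (flp_i L177410) (flp_g L177401) L257721
theorem L257729 : sm gc N20866 = N30387 := rfl
theorem L257731 : sm ge N30387 = N30387 := ded_28_2 (flp_c L257729) L177409 L257729
theorem L257732 : sm gj N30387 = N20980 := ded_31_2 (flp_c L178379) (flp_j L177407) L257729
theorem L257734 : sm gi N20866 = N30388 := rfl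
theorem L257736 : sm gb N30388 = N20876 := ded_26_1 (flp_i L177486) (flp_b L177405) L257734
theorem L257738 : sm gd N30388 = N20867 := ded_39_1 (flp_i L177410) L177403 L257734
theorem L257740 : sm ge N30388 = N30388 := ded_44_1 (flp_i L257734) L177409 L257734
theorem L257741 : sm gj N30388 = N20981 := ded_53_1 (flp_i L178382) (flp_j L177407) L257734
theorem L257743 : sm gi N20868 = N30389 := rfl
theorem L257745 : sm gb N30389 = N20877 := ded_26_1 (flp_i L177494) (flp_b L177420) L257743
theorem L257747 : sm gd N30389 = N30389 := ded_39_1 (flp_i L257743) L177427 L257743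
theorem L257748 : sm gf N30389 = N30389 := ded_48_1 (flp_i L257743) L177422 L257743
theorem L257749 : sm gg N30389 = N20982 := ded_51_1 (flp_i L178389) (flp_g L177423) L257743
theorem L257751 : sm gj N30389 = N20869 := ded_53_1 (flp_i L177428) (flp_j L177425) L257743
theorem L257753 : sm gg N20870 = N30390 := rfl
theorem L257756 : sm gc N30390 = N21246 := ded_30_1 (flp_g L180658) (flp_c L177439) L257753
theorem L257759 : sm gf N30390 = N20983 := ded_45_1 (flp_g L178398) L122945 (flp_g L122305) (flp_f L177442) L257753
theorem L257761 : sm gh N20870 = N30391 := rfl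
theorem L257764 : sm gc N30391 = N21247 := ded_32_1 (flp_h L180665) (flp_c L177439) L257761
theorem L257767 : sm gf N30391 = N20872 := ded_47_1 (flp_h L177452) (flp_f L177442) L257761
theorem L257769 : sm gj N30391 = N20871 := ded_52_1 (flp_h L177444) L177436 L257761
theorem L257771 : sm gd N20871 = N30392 := rfl
theorem L257774 : sm gf N30392 = N20873 := ded_35_2 (flp_d L177463) (flp_f L177450) L257771
theorem L257776 : sm gi N20871 = N30393 := rfl
theorem L257778 : sm ga N30393 = N30393 := ded_18_1 (flp_i L257776) L177446 L257776
theorem L257779 : sm gc N30393 = N21249 := ded_33_1 (flp_i L180679) (flp_c L177447) L257776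
theorem L257781 : sm ge N30393 = N30393 := ded_44_1 (flp_i L257776) L177449 L257776
theorem L257782 : sm gf N30393 = N20874 := ded_48_1 (flp_i L177469) (flp_f L177450) L257776
theorem L257784 : sm gd N20872 = N30394 := rfl
theorem L257786 : sm ga N30394 = N30394 := ded_12_1 (flp_d L257784) L177454 L257784
theorem L257787 : sm gg N30394 = N20987 := ded_36_2 (flp_d L178430) (flp_g L177459) L257784
theorem L257789 : sm gj N30394 = N20873 := ded_37_2 (flp_d L177463) (flp_j L177461) L257784
theorem L257791 : sm ge N30394 = N30394 := ded_34_2 (flp_d L257784) L177457 L122341 (flp_e L177457) L257784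
theorem L257792 : sm gi N20872 = N30395 := rfl
theorem L257795 : sm gc N30395 = N21251 := ded_33_1 (flp_i L180695) (flp_c L177455) L257792
theorem L257797 : sm ge N30395 = N20877 := ded_44_1 (flp_i L177494) (flp_e L177457) L257792
theorem L257799 : sm gg N30395 = N20988 := ded_51_1 (flp_i L178436) (flp_g L177459) L257792
theorem L257801 : sm gj N30395 = N20874 := ded_53_1 (flp_i L177469) (flp_j L177461) L257792
theorem L257803 : sm gc N20873 = N30396 := rfl
theorem L257807 : sm gg N30396 = N20875 := ded_30_2 (flp_c L177478) (flp_g L177466) L257803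
theorem L257809 : sm gd N30396 = N21252 := ded_27_2 (flp_c L180704) (flp_d L124479) (flp_c L122310) L177463 L257803
theorem L257811 : sm gi N20873 = N30397 := rfl
theorem L257813 : sm ga N30397 = N30397 := ded_18_1 (flp_i L257811) L177465 L257811
theorem L257814 : sm gd N30397 = N20874 := ded_39_1 (flp_i L177469) L177463 L257811
theorem L257816 : sm ge N30397 = N30397 := ded_44_1 (flp_i L257811) L177468 L257811
theorem L257817 : sm gg N30397 = N20876 := ded_51_1 (flp_i L177486) (flp_g L177466) L257811
theorem L257819 : sm gb N20875 = N30398 := rfl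
theorem L257821 : sm gd N30398 = N21254 := ded_20_2 (flp_b L180721) (flp_d L177484) L257819
theorem L257823 : sm ge N30398 = N30398 := ded_21_2 (flp_b L257819) L177481 L257819
theorem L257824 : sm gj N30398 = N20991 := ded_24_2 (flp_b L178461) (flp_j L177482) L257819
theorem L257826 : sm gi N20875 = N30399 := rfl
theorem L257828 : sm ga N30399 = N30399 := ded_18_1 (flp_i L257826) L177480 L257826
theorem L257829 : sm gc N30399 = N20876 := ded_33_1 (flp_i L177486) L177478 L257826
theorem L257831 : sm gd N30399 = N21255 := ded_39_1 (flp_i L180728) (flp_d L177484) L257826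
theorem L257833 : sm ge N30399 = N30399 := ded_44_1 (flp_i L257826) L177481 L257826
theorem L257834 : sm gj N30399 = N20992 := ded_53_1 (flp_i L178466) (flp_j L177482) L257826
theorem L257836 : sm gh N20876 = N30400 := rfl
theorem L257860 : sm ge N20879 = N30403 := rfl
theorem L257864 : sm gc N30403 = N20881 := ded_28_1 (flp_e L177533) (flp_c L177519) L257860
theorem L257868 : sm gg N20879 = N30404 := rfl
theorem L257874 : sm gd N30404 = N22834 := ded_36_1 (flp_g L194188) (flp_d L177521) L257868
theorem L257879 : sm gh N20879 = N30405 := rfl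
theorem L257885 : sm gf N30405 = N20880 := ded_47_1 (flp_h L177524) L177515 L257879
theorem L257897 : sm gi N20880 = N30407 := rfl
theorem L257915 : sm gh N20881 = N30409 := rfl
theorem L257917 : sm ga N30409 = N20892 := ded_17_1 (flp_h L177631) (flp_a L177535) L257915
theorem L257920 : sm ge N30409 = N20883 := ded_43_1 (flp_h L177550) L177533 L257915
theorem L257923 : sm gj N20882 = N30410 := rfl
theorem L257928 : sm gd N30410 = N20885 := ded_37_1 (flp_j L177570) (flp_d L177545) L257923
theorem L257930 : sm gf N30410 = N21003 := ded_46_1 (flp_j L178559) (flp_f L177548) L257923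
theorem L257954 : sm gd N20886 = N30413 := rfl
theorem L257961 : sm gg N20886 = N30414 := rfl
theorem L257964 : sm gc N30414 = N20891 := ded_30_1 (flp_g L177624) (flp_c L177585) L257961
theorem L257969 : sm gh N20886 = N30415 := rfl
theorem L257996 : sm gd N20888 = N30418 := rfl
theorem L258001 : sm gc N30418 = N20920 := ded_27_1 (flp_d L177883) L122591 (flp_d L122428) (flp_c L177602) L257996
theorem L258003 : sm gh N30418 = N22848 := ded_38_2 (flp_d L194309) (flp_h L133824) (flp_d L122396) L177599 L257996
theorem L258023 : sm gi N20889 = N30421 := rfl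
theorem L258026 : sm gc N30421 = N20923 := ded_33_1 (flp_i L177909) (flp_c L177611) L258023
theorem L258030 : sm gg N30421 = N21014 := ded_51_1 (flp_i L178658) (flp_g L177609) L258023
theorem L258032 : sm gf N20891 = N30422 := rfl
theorem L258034 : sm gb N30422 = N20896 := ded_22_1 (flp_f L177666) (flp_b L177626) L258032
theorem L258037 : sm ge N30422 = N21015 := ded_40_1 (flp_f L178666) L123123 (flp_f L122420) (flp_e L177628) L258032
theorem L258047 : sm gh N20891 = N30424 := rfl
theorem L258049 : sm gb N30424 = N20898 := ded_25_1 (flp_h L177681) (flp_b L177626) L258047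
theorem L258055 : sm gd N20892 = N30425 := rfl
theorem L258057 : sm gb N30425 = N20899 := ded_20_1 (flp_d L177689) (flp_b L177633) L258055
theorem L258060 : sm ge N30425 = N20927 := ded_34_2 (flp_d L177941) L122625 (flp_d L122428) (flp_e L177635) L258055
theorem L258062 : sm gi N20892 = N30426 := rfl
theorem L258064 : sm gb N30426 = N20900 := ded_26_1 (flp_i L177695) (flp_b L177633) L258062
theorem L258066 : sm ge N30426 = N20895 := ded_44_1 (flp_i L177657) (flp_e L177635) L258062
theorem L258070 : sm gh N20893 = N30427 := rfl
theorem L258072 : sm gb N30427 = N20901 := ded_25_1 (flp_h L177703) (flp_b L177640) L258070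
theorem L258080 : sm gi N20894 = N30428 := rfl
theorem L258082 : sm gb N30428 = N20902 := ded_26_1 (flp_i L177713) (flp_b L177649) L258080
theorem L258084 : sm gd N30428 = N20930 := ded_39_1 (flp_i L177961) (flp_d L177655) L258080
theorem L258088 : sm gg N30428 = N20895 := ded_51_1 (flp_i L177657) (flp_g L177653) L258080
theorem L258091 : sm gj N20896 = N30429 := rfl
theorem L258097 : sm gf N30429 = N20897 := ded_46_1 (flp_j L177674) L177666 L258091
theorem L258124 : sm gi N20898 = N30433 := rfl
theorem L258128 : sm ge N30433 = N20902 := ded_44_1 (flp_i L177713) (flp_e L177685) L258124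
theorem L258130 : sm gg N30433 = N20900 := ded_51_1 (flp_i L177695) (flp_g L177687) L258124
theorem L258133 : sm gc N20899 = N30434 := rfl
theorem L258136 : sm ge N30434 = N20936 := ded_28_2 (flp_c L178016) (flp_e L177693) L258133
theorem L258140 : sm gi N20899 = N30435 := rfl
theorem L258143 : sm gd N30435 = N20900 := ded_39_1 (flp_i L177695) L177689 L258140
theorem L258145 : sm ge N30435 = N20937 := ded_44_1 (flp_i L178021) (flp_e L177693) L258140
theorem L258148 : sm gi N20901 = N30436 := rfl
theorem L258152 : sm gd N30436 = N20938 := ded_39_1 (flp_i L178026) (flp_d L177711) L258148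
theorem L258154 : sm gf N30436 = N21029 := ded_48_1 (flp_i L178785) (flp_f L177707) L258148
theorem L258156 : sm gj N30436 = N20902 := ded_53_1 (flp_i L177713) (flp_j L177709) L258148
theorem L258159 : sm ge N20903 = N30437 := rfl
theorem L258161 : sm ga N30437 = N21257 := ded_13_1 (flp_e L180745) (flp_a L177726) L258159
theorem L258163 : sm gb N30437 = N20905 := ded_21_1 (flp_e L177744) (flp_b L177728) L258159
theorem L258166 : sm gi N30437 = N20939 := ded_44_2 (flp_e L178037) (flp_i L177733) L258159
theorem L258168 : sm gg N20903 = N30438 := rfl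
theorem L258170 : sm ga N30438 = N21258 := ded_15_1 (flp_g L180752) (flp_a L177726) L258168
theorem L258177 : sm gi N30438 = N20940 := ded_51_2 (flp_g L178044) (flp_i L177733) L258168
theorem L258181 : sm gh N20903 = N30439 := rfl
theorem L258183 : sm ga N30439 = N21259 := ded_17_1 (flp_h L180763) (flp_a L177726) L258181
theorem L258211 : sm gd N20905 = N30442 := rfl
theorem L258213 : sm ga N30442 = N20915 := ded_12_1 (flp_d L177835) (flp_a L177746) L258211
theorem L258215 : sm gi N30442 = N20944 := ded_39_2 (flp_d L178083) (flp_i L177750) L258211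
theorem L258217 : sm ge N30442 = N22872 := ded_34_2 (flp_d L194523) (flp_e L133970) (flp_d L122510) L177744 L258211
theorem L258219 : sm gg N20905 = N30443 := rfl
theorem L258221 : sm ga N30443 = N20916 := ded_15_1 (flp_g L177843) (flp_a L177746) L258219
theorem L258223 : sm gc N30443 = N20910 := ded_30_1 (flp_g L177790) (flp_c L177748) L258219
theorem L258225 : sm ge N30443 = N20906 := ded_41_1 (flp_g L177752) L177744 L258219
theorem L258227 : sm gi N30443 = N20945 := ded_51_2 (flp_g L178089) (flp_i L177750) L258219
theorem L258229 : sm gh N20905 = N30444 := rfl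
theorem L258231 : sm ga N30444 = N20917 := ded_17_1 (flp_h L177853) (flp_a L177746) L258229
theorem L258235 : sm ge N30444 = N20907 := ded_43_1 (flp_h L177764) L177744 L258229
theorem L258237 : sm gj N20906 = N30445 := rfl
theorem L258247 : sm gi N30445 = N20947 := ded_53_2 (flp_j L178105) (flp_i L177760) L258237
theorem L258259 : sm gd N20907 = N30447 := rfl
theorem L258261 : sm ga N30447 = N20920 := ded_12_1 (flp_d L177883) (flp_a L177766) L258259
theorem L258265 : sm gh N30447 = N22877 := ded_38_2 (flp_d L194569) (flp_h L133989) (flp_d L122510) L177764 L258259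
theorem L258267 : sm gi N20907 = N30448 := rfl
theorem L258269 : sm ga N30448 = N20921 := ded_18_1 (flp_i L177891) (flp_a L177766) L258267
theorem L258277 : sm ge N20908 = N30449 := rfl
theorem L258283 : sm gh N30449 = N22879 := ded_43_2 (flp_e L194585) (flp_h L177778) L258277
theorem L258285 : sm gi N20908 = N30450 := rfl
theorem L258287 : sm ga N30450 = N20923 := ded_18_1 (flp_i L177909) (flp_a L177774) L258285
theorem L258289 : sm gd N30450 = N20909 := ded_39_1 (flp_i L177780) L177772 L258285
theorem L258293 : sm gf N20910 = N30451 := rfl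
theorem L258295 : sm ga N30451 = N20924 := ded_14_1 (flp_f L177917) (flp_a L177792) L258293
theorem L258298 : sm gi N30451 = N20953 := ded_48_2 (flp_f L178160) (flp_i L177797) L258293
theorem L258300 : sm ge N30451 = N21044 := ded_40_1 (flp_f L178927) L123289 (flp_f L122538) (flp_e L177795) L258293
theorem L258302 : sm gj N20910 = N30452 := rfl
theorem L258309 : sm gi N30452 = N20954 := ded_53_2 (flp_j L178167) (flp_i L177797) L258302
theorem L258311 : sm gh N20910 = N30453 := rfl
theorem L258313 : sm ga N30453 = N20926 := ded_17_1 (flp_h L177933) (flp_a L177792) L258311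
theorem L258320 : sm gd N20911 = N30454 := rfl
theorem L258322 : sm ga N30454 = N20927 := ded_12_1 (flp_d L177941) (flp_a L177801) L258320
theorem L258325 : sm gi N20911 = N30455 := rfl
theorem L258327 : sm ga N30455 = N20928 := ded_18_1 (flp_i L177945) (flp_a L177801) L258325
theorem L258332 : sm gh N30455 = N20957 := ded_54_1 (flp_i L178189) (flp_h L122778) (flp_i L122527) L177799 L258325
theorem L258334 : sm gh N20912 = N30456 := rfl
theorem L258336 : sm ga N30456 = N20929 := ded_17_1 (flp_h L177953) (flp_a L177808) L258334
theorem L258339 : sm gf N30456 = N21049 := ded_47_1 (flp_h L178972) (flp_f L177813) L258334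
theorem L258341 : sm gj N30456 = N20913 := ded_52_1 (flp_h L177817) L177806 L258334
theorem L258343 : sm gi N20913 = N30457 := rfl
theorem L258345 : sm ga N30457 = N20930 := ded_18_1 (flp_i L177961) (flp_a L177819) L258343
theorem L258352 : sm gh N30457 = N20959 := ded_54_1 (flp_i L178206) (flp_h L122794) (flp_i L122536) L177817 L258343
theorem L258354 : sm gg N20915 = N30458 := rfl
theorem L258356 : sm gb N30458 = N21278 := ded_23_1 (flp_g L180940) (flp_b L177837) L258354
theorem L258358 : sm gd N30458 = N20916 := ded_36_1 (flp_g L177843) L177835 L258354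
theorem L258360 : sm ge N30458 = N22888 := ded_41_1 (flp_g L194671) (flp_e L177841) L258354
theorem L258362 : sm gi N30458 = N20960 := ded_51_2 (flp_g L178216) (flp_i L177839) L258354
theorem L258364 : sm gh N20915 = N30459 := rfl
theorem L258366 : sm gb N30459 = N21279 := ded_25_1 (flp_h L180949) (flp_b L177837) L258364
theorem L258368 : sm ge N30459 = N22889 := ded_43_1 (flp_h L194679) (flp_e L177841) L258364
theorem L258370 : sm gf N20916 = N30460 := rfl
theorem L258372 : sm gb N30460 = N21280 := ded_22_1 (flp_f L180954) (flp_b L177845) L258370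
theorem L258374 : sm gc N30460 = N20924 := ded_29_1 (flp_f L177917) (flp_c L177847) L258370
theorem L258376 : sm gi N30460 = N20962 := ded_48_2 (flp_f L178230) (flp_i L177851) L258370
theorem L258378 : sm ge N30460 = N21053 := ded_40_1 (flp_f L179008) L123344 (flp_f L122585) (flp_e L177849) L258370
theorem L258380 : sm gj N20916 = N30461 := rfl
theorem L258382 : sm gb N30461 = N21281 := ded_24_1 (flp_j L180962) (flp_b L177845) L258380
theorem L258384 : sm gc N30461 = N20925 := ded_31_1 (flp_j L177925) (flp_c L177847) L258380
theorem L258386 : sm ge N30461 = N20918 := ded_42_1 (flp_j L177861) (flp_e L177849) L258380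
theorem L258388 : sm gi N30461 = N20963 := ded_53_2 (flp_j L178238) (flp_i L177851) L258380
theorem L258390 : sm gh N20916 = N30462 := rfl
theorem L258392 : sm gb N30462 = N21282 := ded_25_1 (flp_h L180970) (flp_b L177845) L258390
theorem L258394 : sm gc N30462 = N20926 := ded_32_1 (flp_h L177933) (flp_c L177847) L258390
theorem L258396 : sm ge N30462 = N20919 := ded_43_1 (flp_h L177873) (flp_e L177849) L258390
theorem L258398 : sm gg N30462 = N20917 := ded_50_1 (flp_h L177853) L177843 L258390
theorem L258400 : sm gd N20917 = N30463 := rfl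
theorem L258402 : sm gb N30463 = N21283 := ded_20_1 (flp_d L180978) (flp_b L177855) L258400
theorem L258404 : sm gi N20917 = N30464 := rfl
theorem L258406 : sm gb N30464 = N21284 := ded_26_1 (flp_i L180980) (flp_b L177855) L258404
theorem L258408 : sm gc N30464 = N20928 := ded_33_1 (flp_i L177945) (flp_c L177857) L258404
theorem L258410 : sm ge N30464 = N20921 := ded_44_1 (flp_i L177891) (flp_e L177859) L258404
theorem L258412 : sm gh N30464 = N20966 := ded_54_1 (flp_i L178260) (flp_h L122826) (flp_i L122573) L177853 L258404
theorem L258414 : sm gh N20918 = N30465 := rfl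
theorem L258416 : sm gb N30465 = N21285 := ded_25_1 (flp_h L180988) (flp_b L177863) L258414
theorem L258418 : sm gc N30465 = N20929 := ded_32_1 (flp_h L177953) (flp_c L177865) L258414
theorem L258420 : sm gf N30465 = N21058 := ded_47_1 (flp_h L179053) (flp_f L177869) L258414
theorem L258422 : sm gj N30465 = N20919 := ded_52_1 (flp_h L177873) L177861 L258414
theorem L258424 : sm gd N20919 = N30466 := rfl
theorem L258426 : sm gb N30466 = N21286 := ded_20_1 (flp_d L180996) (flp_b L177875) L258424
theorem L258434 : sm gi N20919 = N30467 := rfl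
theorem L258436 : sm gb N30467 = N21287 := ded_26_1 (flp_i L181005) (flp_b L177875) L258434
theorem L258438 : sm gc N30467 = N20930 := ded_33_1 (flp_i L177961) (flp_c L177877) L258434
theorem L258440 : sm gf N30467 = N21060 := ded_48_1 (flp_i L179070) (flp_f L177879) L258434
theorem L258442 : sm gg N30467 = N20921 := ded_51_1 (flp_i L177891) (flp_g L177881) L258434
theorem L258444 : sm gh N30467 = N20969 := ded_54_1 (flp_i L178289) (flp_h L122844) (flp_i L122583) L177873 L258434
theorem L258446 : sm ge N20920 = N30468 := rfl
theorem L258452 : sm gi N20920 = N30469 := rfl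
theorem L258454 : sm gb N30469 = N21289 := ded_26_1 (flp_i L181020) (flp_b L177885) L258452
theorem L258456 : sm gd N30469 = N20921 := ded_39_1 (flp_i L177891) L177883 L258452
theorem L258460 : sm gf N20922 = N30470 := rfl
theorem L258464 : sm gh N30470 = N22900 := ded_47_2 (flp_f L194773) (flp_h L177907) L258460
theorem L258474 : sm gh N20923 = N30472 := rfl
theorem L258484 : sm gj N20924 = N30473 := rfl
theorem L258486 : sm gb N30473 = N20931 := ded_24_1 (flp_j L177971) (flp_b L177919) L258484
theorem L258488 : sm ge N30473 = N21066 := ded_42_1 (flp_j L179119) (flp_e L177923) L258484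
theorem L258490 : sm gf N30473 = N20925 := ded_46_1 (flp_j L177925) L177917 L258484
theorem L258492 : sm gi N30473 = N20975 := ded_53_2 (flp_j L178340) (flp_i L177921) L258484
theorem L258494 : sm gh N20924 = N30474 := rfl
theorem L258496 : sm gb N30474 = N20932 := ded_25_1 (flp_h L177982) (flp_b L177919) L258494
theorem L258498 : sm ge N30474 = N21067 := ded_43_1 (flp_h L179128) (flp_e L177923) L258494
theorem L258500 : sm gf N30474 = N20926 := ded_47_1 (flp_h L177933) L177917 L258494
theorem L258502 : sm gh N20925 = N30475 := rfl
theorem L258506 : sm ge N30475 = N20929 := ded_43_1 (flp_h L177953) (flp_e L177929) L258502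
theorem L258508 : sm gj N30475 = N20926 := ded_52_1 (flp_h L177933) L177925 L258502
theorem L258510 : sm gd N20926 = N30476 := rfl
theorem L258512 : sm gb N30476 = N20934 := ded_20_1 (flp_d L178000) (flp_b L177935) L258510
theorem L258514 : sm gg N30476 = N20927 := ded_36_2 (flp_d L177941) (flp_g L177939) L258510
theorem L258516 : sm gi N20926 = N30477 := rfl
theorem L258518 : sm gb N30477 = N20935 := ded_26_1 (flp_i L178005) (flp_b L177935) L258516
theorem L258520 : sm ge N30477 = N20930 := ded_44_1 (flp_i L177961) (flp_e L177937) L258516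
theorem L258522 : sm gg N30477 = N20928 := ded_51_1 (flp_i L177945) (flp_g L177939) L258516
theorem L258524 : sm gh N30477 = N20979 := ded_54_1 (flp_i L178371) (flp_h L122901) (flp_i L122619) L177933 L258516
theorem L258526 : sm gc N20927 = N30478 := rfl
theorem L258528 : sm gi N20927 = N30479 := rfl
theorem L258530 : sm gb N30479 = N20937 := ded_26_1 (flp_i L178021) (flp_b L177943) L258528
theorem L258532 : sm gd N30479 = N20928 := ded_39_1 (flp_i L177945) L177941 L258528
theorem L258534 : sm gi N20929 = N30480 := rfl
theorem L258536 : sm gb N30480 = N20938 := ded_26_1 (flp_i L178026) (flp_b L177955) L258534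
theorem L258538 : sm gf N30480 = N21073 := ded_48_1 (flp_i L179171) (flp_f L177957) L258534
theorem L258540 : sm gj N30480 = N20930 := ded_53_1 (flp_i L177961) (flp_j L177959) L258534
theorem L258542 : sm gh N30480 = N20982 := ded_54_1 (flp_i L178389) (flp_h L122920) (flp_i L122635) L177953 L258534
theorem L258544 : sm gg N20931 = N30481 := rfl
theorem L258547 : sm gc N30481 = N21301 := ded_30_1 (flp_g L181115) (flp_c L177974) L258544
theorem L258549 : sm ge N30481 = N21074 := ded_41_1 (flp_g L179180) (flp_e L177976) L258544
theorem L258551 : sm gi N30481 = N20983 := ded_51_2 (flp_g L178398) (flp_i L177980) L258544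
theorem L258553 : sm gh N20931 = N30482 := rfl
theorem L258556 : sm gc N30482 = N21302 := ded_32_1 (flp_h L181123) (flp_c L177974) L258553
theorem L258558 : sm ge N30482 = N21075 := ded_43_1 (flp_h L179189) (flp_e L177976) L258553
theorem L258562 : sm gj N30482 = N20932 := ded_52_1 (flp_h L177982) L177971 L258553
theorem L258564 : sm gd N20932 = N30483 := rfl
theorem L258567 : sm gf N30483 = N20934 := ded_35_2 (flp_d L178000) (flp_f L177989) L258564
theorem L258569 : sm gi N20932 = N30484 := rfl
theorem L258571 : sm ga N30484 = N30484 := ded_18_1 (flp_i L258569) L177984 L258569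
theorem L258572 : sm gc N30484 = N21304 := ded_33_1 (flp_i L181138) (flp_c L177985) L258569
theorem L258574 : sm ge N30484 = N21077 := ded_44_1 (flp_i L179204) (flp_e L177987) L258569
theorem L258576 : sm gf N30484 = N20935 := ded_48_1 (flp_i L178005) (flp_f L177989) L258569
theorem L258578 : sm gh N30484 = N20986 := ded_54_1 (flp_i L178421) (flp_h L122947) (flp_i L122658) L177982 L258569
theorem L258580 : sm gd N20933 = N30485 := rfl
theorem L258583 : sm gj N30485 = N20934 := ded_37_2 (flp_d L178000) (flp_j L177998) L258580
theorem L258585 : sm gi N20933 = N30486 := rfl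
theorem L258588 : sm gc N30486 = N21306 := ded_33_1 (flp_i L181154) (flp_c L177994) L258585
theorem L258590 : sm ge N30486 = N20938 := ded_44_1 (flp_i L178026) (flp_e L177996) L258585
theorem L258594 : sm gh N30486 = N20988 := ded_54_1 (flp_i L178436) (flp_h L122956) (flp_i L122669) L177991 L258585
theorem L258603 : sm gi N20934 = N30488 := rfl
theorem L258606 : sm gd N30488 = N20935 := ded_39_1 (flp_i L178005) L178000 L258603
theorem L258608 : sm gg N30488 = N20937 := ded_51_1 (flp_i L178021) (flp_g L178003) L258603
theorem L258610 : sm gb N20936 = N30489 := rfl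
theorem L258612 : sm gd N30489 = N21309 := ded_20_2 (flp_b L181178) (flp_d L178019) L258610
theorem L258614 : sm gi N20936 = N30490 := rfl
theorem L258617 : sm gc N30490 = N20937 := ded_33_1 (flp_i L178021) L178016 L258614
theorem L258619 : sm gd N30490 = N21310 := ded_39_1 (flp_i L181182) (flp_d L178019) L258614
theorem L258621 : sm gh N20937 = N30491 := rfl
theorem L258623 : sm ga N30491 = N30491 := ded_17_1 (flp_h L258621) L178023 L258621
theorem L258624 : sm gd N30491 = N20993 := ded_38_1 (flp_h L178474) L122989 (flp_h L122690) (flp_d L178024) L258621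
theorem L258626 : sm gd N20939 = N30492 := rfl
theorem L258628 : sm ga N30492 = N21312 := ded_12_1 (flp_d L181195) (flp_a L178039) L258626
theorem L258630 : sm gb N30492 = N20944 := ded_20_1 (flp_d L178083) (flp_b L178041) L258626
theorem L258632 : sm ge N30492 = N22922 := ded_34_2 (flp_d L194956) (flp_e L134276) (flp_d L122719) L178037 L258626
theorem L258634 : sm gg N20939 = N30493 := rfl
theorem L258636 : sm ga N30493 = N21313 := ded_15_1 (flp_g L181201) (flp_a L178039) L258634
theorem L258638 : sm gb N30493 = N20945 := ded_23_1 (flp_g L178089) (flp_b L178041) L258634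
theorem L258640 : sm gc N30493 = N30493 := ded_30_1 (flp_g L258634) L178043 L258634
theorem L258641 : sm ge N30493 = N20940 := ded_41_1 (flp_g L178044) L178037 L258634
theorem L258643 : sm gh N20939 = N30494 := rfl
theorem L258645 : sm ga N30494 = N21314 := ded_17_1 (flp_h L181208) (flp_a L178039) L258643
theorem L258647 : sm gb N30494 = N20946 := ded_25_1 (flp_h L178097) (flp_b L178041) L258643
theorem L258649 : sm gc N30494 = N30494 := ded_32_1 (flp_h L258643) L178043 L258643
theorem L258650 : sm ge N30494 = N20941 := ded_43_1 (flp_h L178055) L178037 L258643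
theorem L258652 : sm gj N20940 = N30495 := rfl
theorem L258654 : sm ga N30495 = N21315 := ded_16_1 (flp_j L181215) (flp_a L178046) L258652
theorem L258656 : sm gb N30495 = N20947 := ded_24_1 (flp_j L178105) (flp_b L178048) L258652
theorem L258661 : sm gf N30495 = N21088 := ded_46_1 (flp_j L179296) (flp_f L178053) L258652
theorem L258663 : sm gh N20940 = N30496 := rfl
theorem L258665 : sm ga N30496 = N21316 := ded_17_1 (flp_h L181224) (flp_a L178046) L258663
theorem L258667 : sm gb N30496 = N20948 := ded_25_1 (flp_h L178115) (flp_b L178048) L258663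
theorem L258669 : sm gc N30496 = N30496 := ded_32_1 (flp_h L258663) L178050 L258663
theorem L258670 : sm gf N30496 = N21089 := ded_47_1 (flp_h L179306) (flp_f L178053) L258663
theorem L258672 : sm gg N30496 = N20941 := ded_50_1 (flp_h L178055) L178044 L258663
theorem L258674 : sm gd N20941 = N30497 := rfl
theorem L258676 : sm ga N30497 = N21317 := ded_12_1 (flp_d L181233) (flp_a L178057) L258674
theorem L258678 : sm gb N30497 = N20949 := ded_20_1 (flp_d L178125) (flp_b L178059) L258674
theorem L258680 : sm gf N30497 = N20942 := ded_35_2 (flp_d L178064) (flp_f L178062) L258674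
theorem L258682 : sm gh N30497 = N22927 := ded_38_2 (flp_d L195006) (flp_h L134295) (flp_d L122719) L178055 L258674
theorem L258684 : sm gi N20941 = N30498 := rfl
theorem L258686 : sm ga N30498 = N21318 := ded_18_1 (flp_i L181241) (flp_a L178057) L258684
theorem L258688 : sm gb N30498 = N20950 := ded_26_1 (flp_i L178134) (flp_b L178059) L258684
theorem L258690 : sm gc N30498 = N30498 := ded_33_1 (flp_i L258684) L178061 L258684
theorem L258691 : sm gf N30498 = N20943 := ded_48_1 (flp_i L178074) (flp_f L178062) L258684
theorem L258693 : sm gc N20942 = N30499 := rfl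
theorem L258697 : sm gg N30499 = N21092 := ded_30_2 (flp_c L179336) (flp_g L178070) L258693
theorem L258713 : sm gi N20942 = N30501 := rfl
theorem L258715 : sm ga N30501 = N21321 := ded_18_1 (flp_i L181265) (flp_a L178066) L258713
theorem L258717 : sm gb N30501 = N20952 := ded_26_1 (flp_i L178151) (flp_b L178068) L258713
theorem L258719 : sm gd N30501 = N20943 := ded_39_1 (flp_i L178074) L178064 L258713
theorem L258723 : sm gg N20944 = N30502 := rfl
theorem L258725 : sm ga N30502 = N20960 := ded_15_1 (flp_g L178216) (flp_a L178085) L258723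
theorem L258727 : sm gd N30502 = N20945 := ded_36_1 (flp_g L178089) L178083 L258723
theorem L258729 : sm ge N30502 = N22932 := ded_41_1 (flp_g L195052) (flp_e L178087) L258723
theorem L258731 : sm gh N20944 = N30503 := rfl
theorem L258733 : sm ga N30503 = N20961 := ded_17_1 (flp_h L178224) (flp_a L178085) L258731
theorem L258735 : sm ge N30503 = N22933 := ded_43_1 (flp_h L195058) (flp_e L178087) L258731
theorem L258737 : sm gf N20945 = N30504 := rfl
theorem L258739 : sm ga N30504 = N20962 := ded_14_1 (flp_f L178230) (flp_a L178091) L258737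
theorem L258741 : sm gc N30504 = N20953 := ded_29_1 (flp_f L178160) (flp_c L178093) L258737
theorem L258743 : sm ge N30504 = N21097 := ded_40_1 (flp_f L179380) L123590 (flp_f L122744) (flp_e L178095) L258737
theorem L258745 : sm gj N20945 = N30505 := rfl
theorem L258747 : sm ga N30505 = N20963 := ded_16_1 (flp_j L178238) (flp_a L178091) L258745
theorem L258749 : sm gc N30505 = N20954 := ded_31_1 (flp_j L178167) (flp_c L178093) L258745
theorem L258753 : sm gh N20945 = N30506 := rfl
theorem L258755 : sm ga N30506 = N20964 := ded_17_1 (flp_h L178246) (flp_a L178091) L258753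
theorem L258757 : sm gc N30506 = N20955 := ded_32_1 (flp_h L178174) (flp_c L178093) L258753
theorem L258759 : sm ge N30506 = N20948 := ded_43_1 (flp_h L178115) (flp_e L178095) L258753
theorem L258761 : sm gg N30506 = N20946 := ded_50_1 (flp_h L178097) L178089 L258753
theorem L258763 : sm gd N20946 = N30507 := rfl
theorem L258765 : sm ga N30507 = N20965 := ded_12_1 (flp_d L178256) (flp_a L178099) L258763
theorem L258767 : sm gi N20946 = N30508 := rfl
theorem L258769 : sm ga N30508 = N20966 := ded_18_1 (flp_i L178260) (flp_a L178099) L258767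
theorem L258771 : sm gc N30508 = N20957 := ded_33_1 (flp_i L178189) (flp_c L178101) L258767
theorem L258773 : sm ge N30508 = N20950 := ded_44_1 (flp_i L178134) (flp_e L178103) L258767
theorem L258775 : sm gh N20947 = N30509 := rfl
theorem L258777 : sm ga N30509 = N20967 := ded_17_1 (flp_h L178268) (flp_a L178107) L258775
theorem L258779 : sm gc N30509 = N20958 := ded_32_1 (flp_h L178196) (flp_c L178109) L258775
theorem L258781 : sm gf N30509 = N21102 := ded_47_1 (flp_h L179419) (flp_f L178113) L258775
theorem L258783 : sm gj N30509 = N20948 := ded_52_1 (flp_h L178115) L178105 L258775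
theorem L258785 : sm gd N20948 = N30510 := rfl
theorem L258787 : sm ga N30510 = N20968 := ded_12_1 (flp_d L178278) (flp_a L178117) L258785
theorem L258789 : sm gf N30510 = N21103 := ded_35_2 (flp_d L179428) (flp_f L178121) L258785
theorem L258791 : sm gg N30510 = N20949 := ded_36_2 (flp_d L178125) (flp_g L178123) L258785
theorem L258793 : sm gc N30510 = N30510 := ded_27_1 (flp_d L258785) L178119 L122803 (flp_c L178119) L258785
theorem L258794 : sm gh N30510 = N22940 := ded_38_2 (flp_d L195114) (flp_h L134354) (flp_d L122742) L178115 L258785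
theorem L258796 : sm gi N20948 = N30511 := rfl
theorem L258798 : sm ga N30511 = N20969 := ded_18_1 (flp_i L178289) (flp_a L178117) L258796
theorem L258800 : sm gc N30511 = N20959 := ded_33_1 (flp_i L178206) (flp_c L178119) L258796
theorem L258802 : sm gf N30511 = N21104 := ded_48_1 (flp_i L179437) (flp_f L178121) L258796
theorem L258804 : sm gg N30511 = N20950 := ded_51_1 (flp_i L178134) (flp_g L178123) L258796
theorem L258806 : sm ge N20949 = N30512 := rfl
theorem L258808 : sm ga N30512 = N20970 := ded_13_1 (flp_e L178299) (flp_a L178127) L258806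
theorem L258810 : sm gc N30512 = N30512 := ded_28_1 (flp_e L258806) L178131 L258806
theorem L258811 : sm gh N30512 = N22942 := ded_43_2 (flp_e L195133) (flp_h L178132) L258806
theorem L258813 : sm gi N20949 = N30513 := rfl
theorem L258815 : sm ga N30513 = N20971 := ded_18_1 (flp_i L178306) (flp_a L178127) L258813
theorem L258817 : sm gc N30513 = N30513 := ded_33_1 (flp_i L258813) L178131 L258813
theorem L258818 : sm gd N30513 = N20950 := ded_39_1 (flp_i L178134) L178125 L258813
theorem L258820 : sm gf N30513 = N20952 := ded_48_1 (flp_i L178151) (flp_f L178129) L258813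
theorem L258822 : sm gf N20951 = N30514 := rfl
theorem L258824 : sm ga N30514 = N20972 := ded_14_1 (flp_f L178315) (flp_a L178144) L258822
theorem L258829 : sm gi N20951 = N30515 := rfl
theorem L258831 : sm ga N30515 = N20973 := ded_18_1 (flp_i L178322) (flp_a L178144) L258829
theorem L258836 : sm gg N30515 = N21108 := ded_51_1 (flp_i L179471) (flp_g L178147) L258829
theorem L258838 : sm gh N20952 = N30516 := rfl
theorem L258847 : sm gj N20953 = N30517 := rfl
theorem L258849 : sm ga N30517 = N20975 := ded_16_1 (flp_j L178340) (flp_a L178162) L258847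
theorem L258851 : sm gb N30517 = N30517 := ded_24_1 (flp_j L258847) L178164 L258847
theorem L258852 : sm ge N30517 = N21110 := ded_42_1 (flp_j L179487) (flp_e L178165) L258847
theorem L258854 : sm gf N30517 = N20954 := ded_46_1 (flp_j L178167) L178160 L258847
theorem L258856 : sm gh N20953 = N30518 := rfl
theorem L258858 : sm ga N30518 = N20976 := ded_17_1 (flp_h L178348) (flp_a L178162) L258856
theorem L258860 : sm gb N30518 = N30518 := ded_25_1 (flp_h L258856) L178164 L258856
theorem L258861 : sm ge N30518 = N21111 := ded_43_1 (flp_h L179495) (flp_e L178165) L258856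
theorem L258863 : sm gf N30518 = N20955 := ded_47_1 (flp_h L178174) L178160 L258856
theorem L258865 : sm gh N20954 = N30519 := rfl
theorem L258867 : sm ga N30519 = N20977 := ded_17_1 (flp_h L178356) (flp_a L178169) L258865
theorem L258869 : sm gb N30519 = N30519 := ded_25_1 (flp_h L258865) L178171 L258865
theorem L258870 : sm ge N30519 = N20958 := ded_43_1 (flp_h L178196) (flp_e L178172) L258865
theorem L258872 : sm gj N30519 = N20955 := ded_52_1 (flp_h L178174) L178167 L258865
theorem L258874 : sm gd N20955 = N30520 := rfl
theorem L258876 : sm ga N30520 = N20978 := ded_12_1 (flp_d L178364) (flp_a L178176) L258874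
theorem L258878 : sm gb N30520 = N30520 := ded_20_1 (flp_d L258874) L178178 L258874
theorem L258879 : sm gg N30520 = N20956 := ded_36_2 (flp_d L178183) (flp_g L178181) L258874
theorem L258881 : sm ge N30520 = N30520 := ded_34_2 (flp_d L258874) L178179 L122803 (flp_e L178179) L258874
theorem L258882 : sm gi N20955 = N30521 := rfl
theorem L258884 : sm ga N30521 = N20979 := ded_18_1 (flp_i L178371) (flp_a L178176) L258882
theorem L258886 : sm gb N30521 = N30521 := ded_26_1 (flp_i L258882) L178178 L258882
theorem L258887 : sm ge N30521 = N20959 := ded_44_1 (flp_i L178206) (flp_e L178179) L258882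
theorem L258889 : sm gg N30521 = N20957 := ded_51_1 (flp_i L178189) (flp_g L178181) L258882
theorem L258891 : sm gc N20956 = N30522 := rfl
theorem L258893 : sm ga N30522 = N20980 := ded_11_1 (flp_c L178379) (flp_a L178185) L258891
theorem L258896 : sm gi N20956 = N30523 := rfl
theorem L258898 : sm ga N30523 = N20981 := ded_18_1 (flp_i L178382) (flp_a L178185) L258896
theorem L258900 : sm gb N30523 = N30523 := ded_26_1 (flp_i L258896) L178187 L258896
theorem L258901 : sm gd N30523 = N20957 := ded_39_1 (flp_i L178189) L178183 L258896
theorem L258903 : sm ge N30523 = N30523 := ded_44_1 (flp_i L258896) L178188 L258896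
theorem L258904 : sm gi N20958 = N30524 := rfl
theorem L258906 : sm ga N30524 = N20982 := ded_18_1 (flp_i L178389) (flp_a L178198) L258904
theorem L258908 : sm gb N30524 = N30524 := ded_26_1 (flp_i L258904) L178200 L258904
theorem L258909 : sm gd N30524 = N30524 := ded_39_1 (flp_i L258904) L178205 L258904
theorem L258910 : sm gf N30524 = N21117 := ded_48_1 (flp_i L179546) (flp_f L178201) L258904
theorem L258912 : sm gj N30524 = N20959 := ded_53_1 (flp_i L178206) (flp_j L178203) L258904
theorem L258914 : sm gf N20960 = N30525 := rfl
theorem L258916 : sm gb N30525 = N21345 := ded_22_1 (flp_f L181479) (flp_b L178218) L258914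
theorem L258918 : sm gd N30525 = N20962 := ded_35_1 (flp_f L178230) (flp_d L178220) L258914
theorem L258920 : sm gj N20960 = N30526 := rfl
theorem L258922 : sm gb N30526 = N21346 := ded_24_1 (flp_j L181484) (flp_b L178218) L258920
theorem L258924 : sm gd N30526 = N20963 := ded_37_1 (flp_j L178238) (flp_d L178220) L258920
theorem L258928 : sm gh N20960 = N30527 := rfl
theorem L258930 : sm gb N30527 = N21347 := ded_25_1 (flp_h L181491) (flp_b L178218) L258928
theorem L258932 : sm ge N30527 = N22957 := ded_43_1 (flp_h L195260) (flp_e L178222) L258928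
theorem L258934 : sm gg N30527 = N20961 := ded_50_1 (flp_h L178224) L178216 L258928
theorem L258936 : sm gd N20961 = N30528 := rfl
theorem L258938 : sm gb N30528 = N21348 := ded_20_1 (flp_d L181498) (flp_b L178226) L258936
theorem L258940 : sm gh N30528 = N20965 := ded_38_2 (flp_d L178256) (flp_h L122826) L122812 L178224 L258936
theorem L258942 : sm gi N20961 = N30529 := rfl
theorem L258944 : sm gb N30529 = N21349 := ded_26_1 (flp_i L181502) (flp_b L178226) L258942
theorem L258946 : sm ge N30529 = N22959 := ded_44_1 (flp_i L195273) (flp_e L178228) L258942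
theorem L258948 : sm gj N20962 = N30530 := rfl
theorem L258950 : sm gb N30530 = N21350 := ded_24_1 (flp_j L181507) (flp_b L178232) L258948
theorem L258952 : sm gc N30530 = N20975 := ded_31_1 (flp_j L178340) (flp_c L178234) L258948
theorem L258954 : sm ge N30530 = N21123 := ded_42_1 (flp_j L179596) (flp_e L178236) L258948
theorem L258956 : sm gf N30530 = N20963 := ded_46_1 (flp_j L178238) L178230 L258948
theorem L258958 : sm gh N20962 = N30531 := rfl
theorem L258960 : sm gb N30531 = N21351 := ded_25_1 (flp_h L181515) (flp_b L178232) L258958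
theorem L258962 : sm gc N30531 = N20976 := ded_32_1 (flp_h L178348) (flp_c L178234) L258958
theorem L258964 : sm ge N30531 = N21124 := ded_43_1 (flp_h L179604) (flp_e L178236) L258958
theorem L258966 : sm gf N30531 = N20964 := ded_47_1 (flp_h L178246) L178230 L258958
theorem L258968 : sm gh N20963 = N30532 := rfl
theorem L258970 : sm gb N30532 = N21352 := ded_25_1 (flp_h L181523) (flp_b L178240) L258968
theorem L258972 : sm gc N30532 = N20977 := ded_32_1 (flp_h L178356) (flp_c L178242) L258968
theorem L258974 : sm ge N30532 = N20967 := ded_43_1 (flp_h L178268) (flp_e L178244) L258968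
theorem L258976 : sm gj N30532 = N20964 := ded_52_1 (flp_h L178246) L178238 L258968
theorem L258978 : sm gd N20964 = N30533 := rfl
theorem L258980 : sm gb N30533 = N21353 := ded_20_1 (flp_d L181531) (flp_b L178248) L258978
theorem L258982 : sm gg N30533 = N20965 := ded_36_2 (flp_d L178256) (flp_g L178254) L258978
theorem L258984 : sm gi N20964 = N30534 := rfl
theorem L258986 : sm gb N30534 = N21354 := ded_26_1 (flp_i L181535) (flp_b L178248) L258984
theorem L258988 : sm gc N30534 = N20979 := ded_33_1 (flp_i L178371) (flp_c L178250) L258984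
theorem L258990 : sm ge N30534 = N20969 := ded_44_1 (flp_i L178289) (flp_e L178252) L258984
theorem L258992 : sm gg N30534 = N20966 := ded_51_1 (flp_i L178260) (flp_g L178254) L258984
theorem L258994 : sm gc N20965 = N30535 := rfl
theorem L258996 : sm gd N30535 = N20980 := ded_27_2 (flp_c L178379) (flp_d L122909) (flp_c L122830) L178256 L258994
theorem L258998 : sm ge N20965 = N30536 := rfl
theorem L259000 : sm gb N30536 = N21356 := ded_21_1 (flp_e L181547) (flp_b L178258) L258998
theorem L259002 : sm gd N30536 = N20970 := ded_34_1 (flp_e L178299) (flp_d L122854) (flp_e L122832) L178256 L258998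
theorem L259004 : sm gi N20965 = N30537 := rfl
theorem L259006 : sm gb N30537 = N21357 := ded_26_1 (flp_i L181551) (flp_b L178258) L259004
theorem L259008 : sm gd N30537 = N20966 := ded_39_1 (flp_i L178260) L178256 L259004
theorem L259010 : sm gd N20967 = N30538 := rfl
theorem L259012 : sm gb N30538 = N21358 := ded_20_1 (flp_d L181555) (flp_b L178270) L259010
theorem L259014 : sm gf N30538 = N21131 := ded_35_2 (flp_d L179658) (flp_f L178274) L259010
theorem L259016 : sm gj N30538 = N20968 := ded_37_2 (flp_d L178278) (flp_j L178276) L259010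
theorem L259019 : sm gh N30538 = N22968 := ded_38_2 (flp_d L195343) (flp_h L134514) (flp_d L122840) L178268 L259010
theorem L259021 : sm gi N20967 = N30539 := rfl
theorem L259023 : sm gb N30539 = N21359 := ded_26_1 (flp_i L181565) (flp_b L178270) L259021
theorem L259025 : sm gc N30539 = N20982 := ded_33_1 (flp_i L178389) (flp_c L178272) L259021
theorem L259027 : sm gf N30539 = N21132 := ded_48_1 (flp_i L179668) (flp_f L178274) L259021
theorem L259029 : sm gj N30539 = N20969 := ded_53_1 (flp_i L178289) (flp_j L178276) L259021
theorem L259031 : sm ge N20968 = N30540 := rfl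
theorem L259033 : sm gb N30540 = N21360 := ded_21_1 (flp_e L181573) (flp_b L178280) L259031
theorem L259035 : sm gc N30540 = N30540 := ded_28_1 (flp_e L259031) L178286 L259031
theorem L259036 : sm gg N30540 = N20970 := ded_41_2 (flp_e L178299) (flp_g L178284) L259031
theorem L259038 : sm gh N30540 = N22970 := ded_43_2 (flp_e L195362) (flp_h L178287) L259031
theorem L259040 : sm gi N20968 = N30541 := rfl
theorem L259042 : sm gb N30541 = N21361 := ded_26_1 (flp_i L181581) (flp_b L178280) L259040
theorem L259044 : sm gc N30541 = N30541 := ded_33_1 (flp_i L259040) L178286 L259040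
theorem L259045 : sm gd N30541 = N20969 := ded_39_1 (flp_i L178289) L178278 L259040
theorem L259047 : sm gf N30541 = N21134 := ded_48_1 (flp_i L179686) (flp_f L178282) L259040
theorem L259049 : sm gg N30541 = N20971 := ded_51_1 (flp_i L178306) (flp_g L178284) L259040
theorem L259051 : sm gf N20970 = N30542 := rfl
theorem L259053 : sm gb N30542 = N21362 := ded_22_1 (flp_f L181591) (flp_b L178301) L259051
theorem L259055 : sm gc N30542 = N30542 := ded_29_1 (flp_f L259051) L178303 L259051
theorem L259056 : sm gh N30542 = N22972 := ded_47_2 (flp_f L195380) (flp_h L178304) L259051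
theorem L259058 : sm ge N30542 = N20972 := ded_40_1 (flp_f L178315) (flp_e L122871) (flp_f L122858) L178299 L259051
theorem L259060 : sm gi N20970 = N30543 := rfl
theorem L259062 : sm gb N30543 = N21363 := ded_26_1 (flp_i L181599) (flp_b L178301) L259060
theorem L259064 : sm gc N30543 = N30543 := ded_33_1 (flp_i L259060) L178303 L259060
theorem L259065 : sm ge N30543 = N20971 := ded_44_1 (flp_i L178306) L178299 L259060
theorem L259067 : sm gh N20971 = N30544 := rfl
theorem L259076 : sm gg N20972 = N30545 := rfl
theorem L259078 : sm gb N30545 = N21365 := ded_23_1 (flp_g L181613) (flp_b L178317) L259076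
theorem L259080 : sm gc N30545 = N30545 := ded_30_1 (flp_g L259076) L178319 L259076
theorem L259081 : sm gh N30545 = N22975 := ded_50_2 (flp_g L195401) (flp_h L178320) L259076
theorem L259083 : sm gf N30545 = N21138 := ded_45_1 (flp_g L179723) (flp_f L123810) (flp_g L122876) L178315 L259076
theorem L259085 : sm gi N20972 = N30546 := rfl
theorem L259087 : sm gb N30546 = N21366 := ded_26_1 (flp_i L181621) (flp_b L178317) L259085
theorem L259089 : sm gc N30546 = N30546 := ded_33_1 (flp_i L259085) L178319 L259085
theorem L259090 : sm gf N30546 = N20973 := ded_48_1 (flp_i L178322) L178315 L259085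
theorem L259092 : sm gh N20973 = N30547 := rfl
theorem L259103 : sm gg N20975 = N30548 := rfl
theorem L259105 : sm gb N30548 = N20983 := ded_23_1 (flp_g L178398) (flp_b L178342) L259103
theorem L259107 : sm ge N30548 = N21141 := ded_41_1 (flp_g L179748) (flp_e L178344) L259103
theorem L259109 : sm gh N20975 = N30549 := rfl
theorem L259111 : sm gb N30549 = N20984 := ded_25_1 (flp_h L178405) (flp_b L178342) L259109
theorem L259113 : sm ge N30549 = N21142 := ded_43_1 (flp_h L179754) (flp_e L178344) L259109
theorem L259115 : sm gf N30549 = N20977 := ded_47_1 (flp_h L178356) (flp_f L178346) L259109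
theorem L259117 : sm gj N30549 = N20976 := ded_52_1 (flp_h L178348) L178340 L259109
theorem L259119 : sm gd N20976 = N30550 := rfl
theorem L259121 : sm gb N30550 = N20985 := ded_20_1 (flp_d L178416) (flp_b L178350) L259119
theorem L259123 : sm gf N30550 = N20978 := ded_35_2 (flp_d L178364) (flp_f L178354) L259119
theorem L259125 : sm gi N20976 = N30551 := rfl
theorem L259127 : sm gb N30551 = N20986 := ded_26_1 (flp_i L178421) (flp_b L178350) L259125
theorem L259129 : sm ge N30551 = N21144 := ded_44_1 (flp_i L179769) (flp_e L178352) L259125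
theorem L259131 : sm gf N30551 = N20979 := ded_48_1 (flp_i L178371) (flp_f L178354) L259125
theorem L259133 : sm gd N20977 = N30552 := rfl
theorem L259135 : sm gb N30552 = N20987 := ded_20_1 (flp_d L178430) (flp_b L178358) L259133
theorem L259137 : sm gj N30552 = N20978 := ded_37_2 (flp_d L178364) (flp_j L178362) L259133
theorem L259139 : sm ge N30552 = N30552 := ded_34_2 (flp_d L259133) L178360 L122928 (flp_e L178360) L259133
theorem L259140 : sm gi N20977 = N30553 := rfl
theorem L259142 : sm gb N30553 = N20988 := ded_26_1 (flp_i L178436) (flp_b L178358) L259140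
theorem L259144 : sm ge N30553 = N20982 := ded_44_1 (flp_i L178389) (flp_e L178360) L259140
theorem L259146 : sm gj N30553 = N20979 := ded_53_1 (flp_i L178371) (flp_j L178362) L259140
theorem L259148 : sm gc N20978 = N30554 := rfl
theorem L259150 : sm ge N30554 = N30554 := ded_28_2 (flp_c L259148) L178370 L259148
theorem L259151 : sm gg N30554 = N20980 := ded_30_2 (flp_c L178379) (flp_g L178368) L259148
theorem L259153 : sm gi N20978 = N30555 := rfl
theorem L259155 : sm gb N30555 = N20990 := ded_26_1 (flp_i L178453) (flp_b L178366) L259153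
theorem L259157 : sm gd N30555 = N20979 := ded_39_1 (flp_i L178371) L178364 L259153
theorem L259159 : sm ge N30555 = N30555 := ded_44_1 (flp_i L259153) L178370 L259153
theorem L259160 : sm gg N30555 = N20981 := ded_51_1 (flp_i L178382) (flp_g L178368) L259153
theorem L259162 : sm gb N20980 = N30556 := rfl
theorem L259164 : sm ge N30556 = N30556 := ded_21_2 (flp_b L259162) L178381 L259162
theorem L259165 : sm gc N30556 = N20991 := ded_19_2 (flp_b L178461) (flp_c L122980) (flp_b L122911) L178379 L259162
theorem L259167 : sm gi N20980 = N30557 := rfl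
theorem L259169 : sm gc N30557 = N20981 := ded_33_1 (flp_i L178382) L178379 L259167
theorem L259171 : sm ge N30557 = N30557 := ded_44_1 (flp_i L259167) L178381 L259167
theorem L259172 : sm gh N20981 = N30558 := rfl
theorem L259174 : sm gb N30558 = N20993 := ded_25_1 (flp_h L178474) (flp_b L178384) L259172
theorem L259176 : sm ge N30558 = N30558 := ded_43_1 (flp_h L259172) L178388 L259172
theorem L259177 : sm gh N20983 = N30559 := rfl
theorem L259179 : sm ga N30559 = N30559 := ded_17_1 (flp_h L259177) L178400 L259177
theorem L259180 : sm gc N30559 = N21379 := ded_32_1 (flp_h L181723) (flp_c L178401) L259177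
theorem L259182 : sm ge N30559 = N21152 := ded_43_1 (flp_h L179828) (flp_e L178403) L259177
theorem L259184 : sm gg N30559 = N20984 := ded_50_1 (flp_h L178405) L178398 L259177
theorem L259186 : sm gd N20984 = N30560 := rfl
theorem L259188 : sm ga N30560 = N30560 := ded_12_1 (flp_d L259186) L178407 L259186
theorem L259189 : sm gf N30560 = N20987 := ded_35_2 (flp_d L178430) (flp_f L178412) L259186
theorem L259191 : sm gj N30560 = N20985 := ded_37_2 (flp_d L178416) (flp_j L178414) L259186
theorem L259193 : sm gi N20984 = N30561 := rfl
theorem L259195 : sm ga N30561 = N30561 := ded_18_1 (flp_i L259193) L178407 L259193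
theorem L259196 : sm gc N30561 = N21381 := ded_33_1 (flp_i L181738) (flp_c L178408) L259193
theorem L259198 : sm ge N30561 = N21154 := ded_44_1 (flp_i L179844) (flp_e L178410) L259193
theorem L259200 : sm gf N30561 = N20988 := ded_48_1 (flp_i L178436) (flp_f L178412) L259193
theorem L259202 : sm gj N30561 = N20986 := ded_53_1 (flp_i L178421) (flp_j L178414) L259193
theorem L259204 : sm gc N20985 = N30562 := rfl
theorem L259206 : sm ga N30562 = N30562 := ded_11_1 (flp_c L259204) L178418 L259204
theorem L259207 : sm gf N30562 = N20989 := ded_29_2 (flp_c L178445) (flp_f L178419) L259204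
theorem L259209 : sm gd N30562 = N21382 := ded_27_2 (flp_c L181747) (flp_d L125182) (flp_c L122950) L178416 L259204
theorem L259211 : sm ge N20985 = N30563 := rfl
theorem L259213 : sm ga N30563 = N30563 := ded_13_1 (flp_e L259211) L178418 L259211
theorem L259214 : sm gd N30563 = N21156 := ded_34_1 (flp_e L179861) (flp_d L123909) (flp_e L122952) L178416 L259211
theorem L259216 : sm gf N30563 = N30563 := ded_40_2 (flp_e L259211) L178419 L122970 (flp_f L178419) L259211
theorem L259217 : sm gi N20985 = N30564 := rfl
theorem L259219 : sm ga N30564 = N30564 := ded_18_1 (flp_i L259217) L178418 L259217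
theorem L259220 : sm gd N30564 = N20986 := ded_39_1 (flp_i L178421) L178416 L259217
theorem L259222 : sm gf N30564 = N20990 := ded_48_1 (flp_i L178453) (flp_f L178419) L259217
theorem L259224 : sm gc N20987 = N30565 := rfl
theorem L259226 : sm ga N30565 = N30565 := ded_11_1 (flp_c L259224) L178432 L259224
theorem L259227 : sm ge N30565 = N30565 := ded_28_2 (flp_c L259224) L178435 L259224
theorem L259228 : sm gj N30565 = N20989 := ded_31_2 (flp_c L178445) (flp_j L178433) L259224
theorem L259230 : sm gd N30565 = N21385 := ded_27_2 (flp_c L181768) (flp_d L125195) (flp_c L122959) L178430 L259224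
theorem L259232 : sm gi N20987 = N30566 := rfl
theorem L259234 : sm ga N30566 = N30566 := ded_18_1 (flp_i L259232) L178432 L259232
theorem L259235 : sm gd N30566 = N20988 := ded_39_1 (flp_i L178436) L178430 L259232
theorem L259237 : sm ge N30566 = N30566 := ded_44_1 (flp_i L259232) L178435 L259232
theorem L259238 : sm gj N30566 = N20990 := ded_53_1 (flp_i L178453) (flp_j L178433) L259232
theorem L259240 : sm gb N20989 = N30567 := rfl
theorem L259242 : sm gd N30567 = N21387 := ded_20_2 (flp_b L181785) (flp_d L178451) L259240
theorem L259244 : sm ge N30567 = N30567 := ded_21_2 (flp_b L259240) L178448 L259240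
theorem L259245 : sm gg N30567 = N20991 := ded_23_2 (flp_b L178461) (flp_g L178449) L259240
theorem L259247 : sm gi N20989 = N30568 := rfl
theorem L259249 : sm ga N30568 = N30568 := ded_18_1 (flp_i L259247) L178447 L259247
theorem L259250 : sm gc N30568 = N20990 := ded_33_1 (flp_i L178453) L178445 L259247
theorem L259252 : sm gd N30568 = N21388 := ded_39_1 (flp_i L181792) (flp_d L178451) L259247
theorem L259254 : sm ge N30568 = N30568 := ded_44_1 (flp_i L259247) L178448 L259247
theorem L259255 : sm gg N30568 = N20992 := ded_51_1 (flp_i L178466) (flp_g L178449) L259247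
theorem L259257 : sm gh N20990 = N30569 := rfl
theorem L259259 : sm ga N30569 = N30569 := ded_17_1 (flp_h L259257) L178455 L259257
theorem L259260 : sm ge N30569 = N30569 := ded_43_1 (flp_h L259257) L178458 L259257
theorem L259261 : sm gg N30569 = N20993 := ded_50_1 (flp_h L178474) (flp_g L178459) L259257
theorem L259263 : sm ga N20991 = N30570 := rfl
theorem L259265 : sm gd N30570 = N21390 := ded_12_2 (flp_a L181809) (flp_d L178463) L259263
theorem L259267 : sm ge N30570 = N30570 := ded_13_2 (flp_a L259263) L178465 L259263
theorem L259268 : sm gb N30570 = N30570 := ded_10_2 (flp_a L259263) (flp_b L178461) L122982 L178461 L259263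
theorem L259269 : sm gi N20991 = N30571 := rfl
theorem L259271 : sm gb N30571 = N20992 := ded_26_1 (flp_i L178466) L178461 L259269
theorem L259273 : sm gd N30571 = N21391 := ded_39_1 (flp_i L181815) (flp_d L178463) L259269
theorem L259275 : sm ge N30571 = N30571 := ded_44_1 (flp_i L259269) L178465 L259269
theorem L259276 : sm gh N20992 = N30572 := rfl
theorem L259278 : sm ga N30572 = N30572 := ded_17_1 (flp_h L259276) L178468 L259276
theorem L259279 : sm gc N30572 = N20993 := ded_32_1 (flp_h L178474) (flp_c L178469) L259276
theorem L259281 : sm ge N30572 = N30572 := ded_43_1 (flp_h L259276) L178473 L259276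
theorem L259309 : sm gd N20995 = N30576 := rfl
theorem L259312 : sm gb N30576 = N20999 := ded_20_1 (flp_d L178523) (flp_b L178491) L259309
theorem L259315 : sm gh N30576 = N23042 := ded_38_2 (flp_d L195982) (flp_h L134972) (flp_d L123004) L178488 L259309
theorem L259365 : sm gh N20997 = N30582 := rfl
theorem L259369 : sm gc N30582 = N21004 := ded_32_1 (flp_h L178568) (flp_c L178509) L259365
theorem L259371 : sm gg N30582 = N20998 := ded_50_1 (flp_h L178514) L178505 L259365
theorem L259384 : sm gi N20998 = N30584 := rfl
theorem L259394 : sm ge N20999 = N30585 := rfl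
theorem L259398 : sm gc N30585 = N21042 := ded_28_1 (flp_e L178913) (flp_c L178528) L259394
theorem L259401 : sm gh N30585 = N23051 := ded_43_2 (flp_e L196057) (flp_h L178530) L259394
theorem L259460 : sm gh N21003 = N30592 := rfl
theorem L259466 : sm gj N30592 = N21004 := ded_52_1 (flp_h L178568) L178559 L259460
theorem L259470 : sm gi N21004 = N30593 := rfl
theorem L259475 : sm gd N30593 = N21050 := ded_39_1 (flp_i L178980) (flp_d L178575) L259470
theorem L259545 : sm gd N21010 = N30602 := rfl
theorem L259548 : sm gg N30602 = N21011 := ded_36_2 (flp_d L178630) (flp_g L178628) L259545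
theorem L259550 : sm gc N30602 = N21059 := ded_27_1 (flp_d L179062) L123372 (flp_d L123148) (flp_c L178626) L259545
theorem L259552 : sm gh N30602 = N23068 := ded_38_2 (flp_d L196201) (flp_h L135099) (flp_d L123091) L178623 L259545
theorem L259562 : sm ge N21011 = N30604 := rfl
theorem L259565 : sm gc N30604 = N21061 := ded_28_1 (flp_e L179080) (flp_c L178636) L259562
theorem L259570 : sm gi N21011 = N30605 := rfl
theorem L259580 : sm gf N21013 = N30606 := rfl
theorem L259587 : sm gh N30606 = N23072 := ded_47_2 (flp_f L196232) (flp_h L178655) L259580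
theorem L259598 : sm gh N21014 = N30608 := rfl
theorem L259605 : sm gi N30608 = N23074 := ded_54_2 (flp_h L196246) (flp_i L135129) (flp_h L123108) L178658 L259598
theorem L259607 : sm gj N21015 = N30609 := rfl
theorem L259609 : sm gb N30609 = N21022 := ded_24_1 (flp_j L178726) (flp_b L178668) L259607
theorem L259612 : sm gf N30609 = N21016 := ded_46_1 (flp_j L178673) L178666 L259607
theorem L259615 : sm gh N21015 = N30610 := rfl
theorem L259617 : sm gb N30610 = N21023 := ded_25_1 (flp_h L178734) (flp_b L178668) L259615
theorem L259619 : sm gf N30610 = N21017 := ded_47_1 (flp_h L178682) L178666 L259615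
theorem L259622 : sm gh N21016 = N30611 := rfl
theorem L259624 : sm gb N30611 = N21024 := ded_25_1 (flp_h L178741) (flp_b L178675) L259622
theorem L259626 : sm ge N30611 = N21020 := ded_43_1 (flp_h L178708) (flp_e L178678) L259622
theorem L259631 : sm gd N21017 = N30612 := rfl
theorem L259635 : sm gg N30612 = N21018 := ded_36_2 (flp_d L178690) (flp_g L178688) L259631
theorem L259637 : sm ge N30612 = N21069 := ded_34_2 (flp_d L179143) L123431 (flp_d L123148) (flp_e L178686) L259631
theorem L259640 : sm gi N21017 = N30613 := rfl
theorem L259642 : sm gb N30613 = N21026 := ded_26_1 (flp_i L178758) (flp_b L178684) L259640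
theorem L259649 : sm gc N21018 = N30614 := rfl
theorem L259651 : sm ge N30614 = N21071 := ded_28_2 (flp_c L179160) (flp_e L178696) L259649
theorem L259656 : sm gi N21018 = N30615 := rfl
theorem L259658 : sm gb N30615 = N21028 := ded_26_1 (flp_i L178776) (flp_b L178692) L259656
theorem L259660 : sm gd N30615 = N21019 := ded_39_1 (flp_i L178699) L178690 L259656
theorem L259662 : sm ge N30615 = N21072 := ded_44_1 (flp_i L179164) (flp_e L178696) L259656
theorem L259684 : sm gh N21022 = N30618 := rfl
theorem L259690 : sm gj N30618 = N21023 := ded_52_1 (flp_h L178734) L178726 L259684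
theorem L259692 : sm gd N21023 = N30619 := rfl
theorem L259695 : sm gf N30619 = N21025 := ded_35_2 (flp_d L178750) (flp_f L178738) L259692
theorem L259699 : sm gi N21023 = N30620 := rfl
theorem L259703 : sm gf N30620 = N21026 := ded_48_1 (flp_i L178758) (flp_f L178738) L259699
theorem L259707 : sm gd N21024 = N30621 := rfl
theorem L259711 : sm gj N30621 = N21025 := ded_37_2 (flp_d L178750) (flp_j L178748) L259707
theorem L259713 : sm ge N30621 = N21078 := ded_34_2 (flp_d L179213) L123487 (flp_d L123208) (flp_e L178745) L259707
theorem L259716 : sm gi N21024 = N30622 := rfl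
theorem L259720 : sm ge N30622 = N21029 := ded_44_1 (flp_i L178785) (flp_e L178745) L259716
theorem L259723 : sm gj N30622 = N21026 := ded_53_1 (flp_i L178758) (flp_j L178748) L259716
theorem L259726 : sm gc N21025 = N30623 := rfl
theorem L259728 : sm ga N30623 = N30623 := ded_11_1 (flp_c L259726) L178752 L259726
theorem L259729 : sm ge N30623 = N21080 := ded_28_2 (flp_c L179232) (flp_e L178755) L259726
theorem L259731 : sm gg N30623 = N21027 := ded_30_2 (flp_c L178767) (flp_g L178753) L259726
theorem L259733 : sm gh N30623 = N30623 := ded_32_2 (flp_c L259726) L178757 L259726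
theorem L259734 : sm gd N30623 = N30623 := ded_27_2 (flp_c L259726) (flp_d L178750) L123179 L178750 L259726
theorem L259735 : sm gi N21025 = N30624 := rfl
theorem L259737 : sm ga N30624 = N30624 := ded_18_1 (flp_i L259735) L178752 L259735
theorem L259738 : sm gd N30624 = N21026 := ded_39_1 (flp_i L178758) L178750 L259735
theorem L259740 : sm ge N30624 = N21081 := ded_44_1 (flp_i L179240) (flp_e L178755) L259735
theorem L259742 : sm gg N30624 = N21028 := ded_51_1 (flp_i L178776) (flp_g L178753) L259735
theorem L259744 : sm gb N21027 = N30625 := rfl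
theorem L259746 : sm gd N30625 = N30625 := ded_20_2 (flp_b L259744) L178775 L259744
theorem L259747 : sm ge N30625 = N21082 := ded_21_2 (flp_b L179247) (flp_e L178770) L259744
theorem L259749 : sm gf N30625 = N30625 := ded_22_2 (flp_b L259744) L178772 L259744
theorem L259750 : sm gj N30625 = N30625 := ded_24_2 (flp_b L259744) L178773 L259744
theorem L259751 : sm gh N30625 = N30625 := ded_25_2 (flp_b L259744) L178774 L259744
theorem L259752 : sm gi N21027 = N30626 := rfl
theorem L259754 : sm ga N30626 = N30626 := ded_18_1 (flp_i L259752) L178769 L259752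
theorem L259755 : sm gc N30626 = N21028 := ded_33_1 (flp_i L178776) L178767 L259752
theorem L259757 : sm gd N30626 = N30626 := ded_39_1 (flp_i L259752) L178775 L259752
theorem L259758 : sm ge N30626 = N21083 := ded_44_1 (flp_i L179253) (flp_e L178770) L259752
theorem L259760 : sm gf N30626 = N30626 := ded_48_1 (flp_i L259752) L178772 L259752
theorem L259761 : sm gj N30626 = N30626 := ded_53_1 (flp_i L259752) L178773 L259752
theorem L259762 : sm gh N21028 = N30627 := rfl
theorem L259764 : sm ga N30627 = N30627 := ded_17_1 (flp_h L259762) L178778 L259762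
theorem L259765 : sm ge N30627 = N21084 := ded_43_1 (flp_h L179261) (flp_e L178781) L259762
theorem L259767 : sm gf N30627 = N30627 := ded_47_1 (flp_h L259762) L178783 L259762
theorem L259768 : sm gj N30627 = N30627 := ded_52_1 (flp_h L259762) L178784 L259762
theorem L259769 : sm gd N30627 = N30627 := ded_38_1 (flp_h L259762) L178779 L123200 (flp_d L178779) L259762
theorem L259770 : sm gi N30627 = N30627 := ded_54_2 (flp_h L259762) (flp_i L178776) L123191 L178776 L259762
theorem L259771 : sm gd N21030 = N30628 := rfl
theorem L259773 : sm ga N30628 = N21393 := ded_12_1 (flp_d L181829) (flp_a L178797) L259771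
theorem L259778 : sm gi N30628 = N21085 := ded_39_2 (flp_d L179268) (flp_i L178803) L259771
theorem L259780 : sm ge N30628 = N23094 := ded_34_2 (flp_d L196418) (flp_e L135268) (flp_d L123226) L178795 L259771
theorem L259782 : sm gg N21030 = N30629 := rfl
theorem L259784 : sm ga N30629 = N21394 := ded_15_1 (flp_g L181838) (flp_a L178797) L259782
theorem L259786 : sm gb N30629 = N21036 := ded_23_1 (flp_g L178855) (flp_b L178799) L259782
theorem L259791 : sm gi N30629 = N21086 := ded_51_2 (flp_g L179277) (flp_i L178803) L259782
theorem L259803 : sm gj N21031 = N30631 := rfl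
theorem L259805 : sm ga N30631 = N21396 := ded_16_1 (flp_j L181855) (flp_a L178807) L259803
theorem L259812 : sm gi N30631 = N21088 := ded_53_2 (flp_j L179296) (flp_i L178814) L259803
theorem L259815 : sm gh N21031 = N30632 := rfl
theorem L259817 : sm ga N30632 = N21397 := ded_17_1 (flp_h L181865) (flp_a L178807) L259815
theorem L259847 : sm gc N21033 = N30635 := rfl
theorem L259864 : sm gi N21033 = N30637 := rfl
theorem L259870 : sm gd N30637 = N21034 := ded_39_1 (flp_i L178835) L178826 L259864
theorem L259873 : sm gg N21035 = N30638 := rfl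
theorem L259875 : sm ga N30638 = N21051 := ded_15_1 (flp_g L178989) (flp_a L178847) L259873
theorem L259878 : sm gd N30638 = N21036 := ded_36_1 (flp_g L178855) L178845 L259873
theorem L259880 : sm ge N30638 = N23104 := ded_41_1 (flp_g L196519) (flp_e L178853) L259873
theorem L259882 : sm gi N30638 = N21095 := ded_51_2 (flp_g L179363) (flp_i L178850) L259873
theorem L259884 : sm gh N21035 = N30639 := rfl
theorem L259886 : sm ga N30639 = N21052 := ded_17_1 (flp_h L179000) (flp_a L178847) L259884
theorem L259889 : sm ge N30639 = N23105 := ded_43_1 (flp_h L196528) (flp_e L178853) L259884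
theorem L259892 : sm gf N21036 = N30640 := rfl
theorem L259896 : sm gc N30640 = N21044 := ded_29_1 (flp_f L178927) (flp_c L178859) L259892
theorem L259898 : sm gi N30640 = N21097 := ded_48_2 (flp_f L179380) (flp_i L178863) L259892
theorem L259900 : sm gj N21036 = N30641 := rfl
theorem L259902 : sm ga N30641 = N21054 := ded_16_1 (flp_j L179016) (flp_a L178857) L259900
theorem L259911 : sm gh N21036 = N30642 := rfl
theorem L259913 : sm ga N30642 = N21055 := ded_17_1 (flp_h L179027) (flp_a L178857) L259911
theorem L259921 : sm gd N21037 = N30643 := rfl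
theorem L259923 : sm ga N30643 = N21056 := ded_12_1 (flp_d L179037) (flp_a L178867) L259921
theorem L259937 : sm gh N21038 = N30645 := rfl
theorem L259964 : sm ge N21040 = N30648 := rfl
theorem L259969 : sm gh N30648 = N23114 := ded_43_2 (flp_e L196608) (flp_h L178900) L259964
theorem L259971 : sm gi N21040 = N30649 := rfl
theorem L259973 : sm ga N30649 = N21062 := ded_18_1 (flp_i L179087) (flp_a L178895) L259971
theorem L259975 : sm gd N30649 = N21041 := ded_39_1 (flp_i L178902) L178893 L259971
theorem L259980 : sm gf N21042 = N30650 := rfl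
theorem L259982 : sm ga N30650 = N21063 := ded_14_1 (flp_f L179096) (flp_a L178915) L259980
theorem L259987 : sm gi N21042 = N30651 := rfl
theorem L260003 : sm gj N21044 = N30653 := rfl
theorem L260005 : sm ga N30653 = N21066 := ded_16_1 (flp_j L179119) (flp_a L178929) L260003
theorem L260011 : sm gi N30653 = N21110 := ded_53_2 (flp_j L179487) (flp_i L178933) L260003
theorem L260013 : sm gh N21044 = N30654 := rfl
theorem L260015 : sm ga N30654 = N21067 := ded_17_1 (flp_h L179128) (flp_a L178929) L260013
theorem L260018 : sm gf N30654 = N21046 := ded_47_1 (flp_h L178946) L178927 L260013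
theorem L260020 : sm gh N21045 = N30655 := rfl
theorem L260022 : sm ga N30655 = N21068 := ded_17_1 (flp_h L179134) (flp_a L178937) L260020
theorem L260030 : sm gd N21046 = N30656 := rfl
theorem L260032 : sm ga N30656 = N21069 := ded_12_1 (flp_d L179143) (flp_a L178948) L260030
theorem L260038 : sm gi N21046 = N30657 := rfl
theorem L260047 : sm gh N30657 = N21114 := ded_54_1 (flp_i L179521) (flp_h L123668) (flp_i L123291) L178946 L260038
theorem L260049 : sm gc N21047 = N30658 := rfl
theorem L260051 : sm ga N30658 = N21071 := ded_11_1 (flp_c L179160) (flp_a L178957) L260049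
theorem L260055 : sm gi N21047 = N30659 := rfl
theorem L260057 : sm ga N30659 = N21072 := ded_18_1 (flp_i L179164) (flp_a L178957) L260055
theorem L260060 : sm gd N30659 = N21048 := ded_39_1 (flp_i L178962) L178955 L260055
theorem L260063 : sm gi N21049 = N30660 := rfl
theorem L260071 : sm gh N30660 = N21117 := ded_54_1 (flp_i L179546) (flp_h L123693) (flp_i L123308) L178972 L260063
theorem L260073 : sm gf N21051 = N30661 := rfl
theorem L260075 : sm gb N30661 = N21426 := ded_22_1 (flp_f L182127) (flp_b L178991) L260073
theorem L260077 : sm gc N30661 = N30661 := ded_29_1 (flp_f L260073) L178993 L260073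
theorem L260078 : sm gd N30661 = N21053 := ded_35_1 (flp_f L179008) (flp_d L178994) L260073
theorem L260080 : sm gi N30661 = N21118 := ded_48_2 (flp_f L179555) (flp_i L178998) L260073
theorem L260082 : sm gj N21051 = N30662 := rfl
theorem L260084 : sm gb N30662 = N21427 := ded_24_1 (flp_j L182135) (flp_b L178991) L260082
theorem L260086 : sm gc N30662 = N30662 := ded_31_1 (flp_j L260082) L178993 L260082
theorem L260087 : sm gd N30662 = N21054 := ded_37_1 (flp_j L179016) (flp_d L178994) L260082
theorem L260089 : sm ge N30662 = N23128 := ded_42_1 (flp_j L196733) (flp_e L178996) L260082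
theorem L260091 : sm gi N30662 = N21119 := ded_53_2 (flp_j L179562) (flp_i L178998) L260082
theorem L260093 : sm gg N30662 = N30662 := ded_49_1 (flp_j L260082) (flp_g L178989) L123332 L178989 L260082
theorem L260094 : sm gh N21051 = N30663 := rfl
theorem L260096 : sm gb N30663 = N21428 := ded_25_1 (flp_h L182146) (flp_b L178991) L260094
theorem L260098 : sm gc N30663 = N30663 := ded_32_1 (flp_h L260094) L178993 L260094
theorem L260099 : sm ge N30663 = N23129 := ded_43_1 (flp_h L196743) (flp_e L178996) L260094
theorem L260101 : sm gg N30663 = N21052 := ded_50_1 (flp_h L179000) L178989 L260094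
theorem L260103 : sm gd N21052 = N30664 := rfl
theorem L260105 : sm gb N30664 = N21429 := ded_20_1 (flp_d L182154) (flp_b L179002) L260103
theorem L260107 : sm gj N30664 = N30664 := ded_37_2 (flp_d L260103) L179007 L260103
theorem L260108 : sm gh N30664 = N21056 := ded_38_2 (flp_d L179037) (flp_h L123348) L123328 L179000 L260103
theorem L260110 : sm gi N21052 = N30665 := rfl
theorem L260112 : sm gb N30665 = N21430 := ded_26_1 (flp_i L182159) (flp_b L179002) L260110
theorem L260114 : sm gc N30665 = N30665 := ded_33_1 (flp_i L260110) L179004 L260110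
theorem L260115 : sm ge N30665 = N23131 := ded_44_1 (flp_i L196758) (flp_e L179005) L260110
theorem L260117 : sm gj N30665 = N30665 := ded_53_1 (flp_i L260110) L179007 L260110
theorem L260118 : sm gh N30665 = N21122 := ded_54_1 (flp_i L179588) (flp_h L123719) (flp_i L123333) L179000 L260110
theorem L260120 : sm gj N21053 = N30666 := rfl
theorem L260122 : sm gb N30666 = N21431 := ded_24_1 (flp_j L182168) (flp_b L179010) L260120
theorem L260124 : sm gc N30666 = N21066 := ded_31_1 (flp_j L179119) (flp_c L179012) L260120
theorem L260126 : sm gf N30666 = N21054 := ded_46_1 (flp_j L179016) L179008 L260120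
theorem L260128 : sm gi N30666 = N21123 := ded_53_2 (flp_j L179596) (flp_i L179014) L260120
theorem L260130 : sm gh N21053 = N30667 := rfl
theorem L260132 : sm gb N30667 = N21432 := ded_25_1 (flp_h L182176) (flp_b L179010) L260130
theorem L260134 : sm gc N30667 = N21067 := ded_32_1 (flp_h L179128) (flp_c L179012) L260130
theorem L260136 : sm gf N30667 = N21055 := ded_47_1 (flp_h L179027) L179008 L260130
theorem L260138 : sm gh N21054 = N30668 := rfl
theorem L260140 : sm gb N30668 = N21433 := ded_25_1 (flp_h L182182) (flp_b L179018) L260138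
theorem L260142 : sm gc N30668 = N21068 := ded_32_1 (flp_h L179134) (flp_c L179020) L260138
theorem L260144 : sm ge N30668 = N21058 := ded_43_1 (flp_h L179053) (flp_e L179022) L260138
theorem L260146 : sm gg N30668 = N30668 := ded_50_1 (flp_h L260138) L179026 L260138
theorem L260147 : sm gj N30668 = N21055 := ded_52_1 (flp_h L179027) L179016 L260138
theorem L260149 : sm gd N21055 = N30669 := rfl
theorem L260151 : sm gb N30669 = N21434 := ded_20_1 (flp_d L182191) (flp_b L179029) L260149
theorem L260153 : sm gg N30669 = N21056 := ded_36_2 (flp_d L179037) (flp_g L179035) L260149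
theorem L260155 : sm gi N21055 = N30670 := rfl
theorem L260157 : sm gb N30670 = N21435 := ded_26_1 (flp_i L182195) (flp_b L179029) L260155
theorem L260159 : sm gc N30670 = N21070 := ded_33_1 (flp_i L179150) (flp_c L179031) L260155
theorem L260161 : sm ge N30670 = N21060 := ded_44_1 (flp_i L179070) (flp_e L179033) L260155
theorem L260163 : sm gg N30670 = N21057 := ded_51_1 (flp_i L179042) (flp_g L179035) L260155
theorem L260165 : sm gh N30670 = N21127 := ded_54_1 (flp_i L179629) (flp_h L123742) (flp_i L123346) L179027 L260155
theorem L260167 : sm gc N21056 = N30671 := rfl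
theorem L260169 : sm gj N30671 = N30671 := ded_31_2 (flp_c L260167) L179041 L260167
theorem L260170 : sm gd N30671 = N21071 := ded_27_2 (flp_c L179160) (flp_d L123435) (flp_c L123352) L179037 L260167
theorem L260172 : sm ge N21056 = N30672 := rfl
theorem L260174 : sm gb N30672 = N21437 := ded_21_1 (flp_e L182210) (flp_b L179039) L260172
theorem L260177 : sm gd N30672 = N21061 := ded_34_1 (flp_e L179080) (flp_d L123376) (flp_e L123354) L179037 L260172
theorem L260179 : sm gi N21056 = N30673 := rfl
theorem L260181 : sm gb N30673 = N21438 := ded_26_1 (flp_i L182215) (flp_b L179039) L260179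
theorem L260183 : sm gd N30673 = N21057 := ded_39_1 (flp_i L179042) L179037 L260179
theorem L260185 : sm gj N30673 = N30673 := ded_53_1 (flp_i L260179) L179041 L260179
theorem L260186 : sm gd N21058 = N30674 := rfl
theorem L260188 : sm gb N30674 = N21439 := ded_20_1 (flp_d L182220) (flp_b L179055) L260186
theorem L260195 : sm gi N21058 = N30675 := rfl
theorem L260197 : sm gb N30675 = N21440 := ded_26_1 (flp_i L182228) (flp_b L179055) L260195
theorem L260199 : sm gc N30675 = N21073 := ded_33_1 (flp_i L179171) (flp_c L179057) L260195
theorem L260201 : sm gg N30675 = N30675 := ded_51_1 (flp_i L260195) L179059 L260195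
theorem L260202 : sm gj N30675 = N21060 := ded_53_1 (flp_i L179070) (flp_j L179060) L260195
theorem L260204 : sm gh N30675 = N21132 := ded_54_1 (flp_i L179668) (flp_h L123766) (flp_i L123365) L179053 L260195
theorem L260206 : sm ge N21059 = N30676 := rfl
theorem L260208 : sm gb N30676 = N21441 := ded_21_1 (flp_e L182237) (flp_b L179064) L260206
theorem L260210 : sm gg N30676 = N21061 := ded_41_2 (flp_e L179080) (flp_g L179066) L260206
theorem L260214 : sm gi N21059 = N30677 := rfl
theorem L260218 : sm gd N30677 = N21060 := ded_39_1 (flp_i L179070) L179062 L260214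
theorem L260220 : sm gg N30677 = N21062 := ded_51_1 (flp_i L179087) (flp_g L179066) L260214
theorem L260222 : sm gf N21061 = N30678 := rfl
theorem L260224 : sm gb N30678 = N21443 := ded_22_1 (flp_f L182251) (flp_b L179082) L260222
theorem L260231 : sm gi N21061 = N30679 := rfl
theorem L260233 : sm gb N30679 = N21444 := ded_26_1 (flp_i L182259) (flp_b L179082) L260231
theorem L260235 : sm ge N30679 = N21062 := ded_44_1 (flp_i L179087) L179080 L260231
theorem L260238 : sm gh N21062 = N30680 := rfl
theorem L260242 : sm gf N30680 = N21065 := ded_47_1 (flp_h L179110) (flp_f L179093) L260238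
theorem L260245 : sm gd N30680 = N21137 := ded_38_1 (flp_h L179713) L123805 (flp_h L123394) (flp_d L179091) L260238
theorem L260247 : sm gi N30680 = N23146 := ded_54_2 (flp_h L196882) (flp_i L135563) (flp_h L123383) L179087 L260238
theorem L260249 : sm gg N21063 = N30681 := rfl
theorem L260251 : sm gb N30681 = N21446 := ded_23_1 (flp_g L182275) (flp_b L179098) L260249
theorem L260255 : sm gi N21063 = N30682 := rfl
theorem L260257 : sm gb N30682 = N21447 := ded_26_1 (flp_i L182280) (flp_b L179098) L260255
theorem L260271 : sm gg N21066 = N30684 := rfl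
theorem L260273 : sm gb N30684 = N21074 := ded_23_1 (flp_g L179180) (flp_b L179121) L260271
theorem L260275 : sm gd N30684 = N30684 := ded_36_1 (flp_g L260271) L179123 L260271
theorem L260276 : sm gi N30684 = N21141 := ded_51_2 (flp_g L179748) (flp_i L179126) L260271
theorem L260278 : sm gf N30684 = N30684 := ded_45_1 (flp_g L260271) L179124 L123426 (flp_f L179124) L260271
theorem L260279 : sm gh N21066 = N30685 := rfl
theorem L260281 : sm gb N30685 = N21075 := ded_25_1 (flp_h L179189) (flp_b L179121) L260279
theorem L260283 : sm gf N30685 = N21068 := ded_47_1 (flp_h L179134) (flp_f L179124) L260279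
theorem L260285 : sm gj N30685 = N21067 := ded_52_1 (flp_h L179128) L179119 L260279
theorem L260287 : sm gd N21067 = N30686 := rfl
theorem L260289 : sm gb N30686 = N21076 := ded_20_1 (flp_d L179198) (flp_b L179130) L260287
theorem L260291 : sm gf N30686 = N21069 := ded_35_2 (flp_d L179143) (flp_f L179132) L260287
theorem L260293 : sm gh N30686 = N30686 := ded_38_2 (flp_d L260287) (flp_h L179128) L123414 L179128 L260287
theorem L260294 : sm gi N21067 = N30687 := rfl
theorem L260296 : sm gb N30687 = N21077 := ded_26_1 (flp_i L179204) (flp_b L179130) L260294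
theorem L260298 : sm gf N30687 = N21070 := ded_48_1 (flp_i L179150) (flp_f L179132) L260294
theorem L260300 : sm gh N30687 = N21144 := ded_54_1 (flp_i L179769) (flp_h L123841) (flp_i L123415) L179128 L260294
theorem L260302 : sm gd N21068 = N30688 := rfl
theorem L260304 : sm gb N30688 = N21078 := ded_20_1 (flp_d L179213) (flp_b L179136) L260302
theorem L260306 : sm gg N30688 = N30688 := ded_36_2 (flp_d L260302) L179140 L260302
theorem L260307 : sm gj N30688 = N21069 := ded_37_2 (flp_d L179143) (flp_j L179141) L260302
theorem L260309 : sm gh N30688 = N30688 := ded_38_2 (flp_d L260302) (flp_h L179134) L123421 L179134 L260302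
theorem L260310 : sm gi N21068 = N30689 := rfl
theorem L260312 : sm gb N30689 = N21079 := ded_26_1 (flp_i L179220) (flp_b L179136) L260310
theorem L260314 : sm ge N30689 = N21073 := ded_44_1 (flp_i L179171) (flp_e L179138) L260310
theorem L260316 : sm gg N30689 = N30689 := ded_51_1 (flp_i L260310) L179140 L260310
theorem L260317 : sm gj N30689 = N21070 := ded_53_1 (flp_i L179150) (flp_j L179141) L260310
theorem L260319 : sm gh N30689 = N21146 := ded_54_1 (flp_i L179784) (flp_h L123847) (flp_i L123424) L179134 L260310
theorem L260321 : sm gc N21069 = N30690 := rfl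
theorem L260323 : sm gg N30690 = N21071 := ded_30_2 (flp_c L179160) (flp_g L179147) L260321
theorem L260325 : sm gh N30690 = N30690 := ded_32_2 (flp_c L260321) L179149 L260321
theorem L260326 : sm gi N21069 = N30691 := rfl
theorem L260328 : sm gb N30691 = N21081 := ded_26_1 (flp_i L179240) (flp_b L179145) L260326
theorem L260330 : sm gd N30691 = N21070 := ded_39_1 (flp_i L179150) L179143 L260326
theorem L260332 : sm gg N30691 = N21072 := ded_51_1 (flp_i L179164) (flp_g L179147) L260326
theorem L260334 : sm gb N21071 = N30692 := rfl
theorem L260336 : sm gj N30692 = N30692 := ded_24_2 (flp_b L260334) L179162 L260334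
theorem L260337 : sm gh N30692 = N30692 := ded_25_2 (flp_b L260334) L179163 L260334
theorem L260338 : sm gc N30692 = N21082 := ded_19_2 (flp_b L179247) (flp_c L123509) (flp_b L123437) L179160 L260334
theorem L260340 : sm gi N21071 = N30693 := rfl
theorem L260342 : sm gc N30693 = N21072 := ded_33_1 (flp_i L179164) L179160 L260340
theorem L260344 : sm gj N30693 = N30693 := ded_53_1 (flp_i L260340) L179162 L260340
theorem L260345 : sm gh N21072 = N30694 := rfl
theorem L260347 : sm gb N30694 = N21084 := ded_25_1 (flp_h L179261) (flp_b L179166) L260345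
theorem L260349 : sm gj N30694 = N30694 := ded_52_1 (flp_h L260345) L179170 L260345
theorem L260350 : sm gd N30694 = N21151 := ded_38_1 (flp_h L179821) L123881 (flp_h L123448) (flp_d L179168) L260345
theorem L260352 : sm gi N30694 = N30694 := ded_54_2 (flp_h L260345) (flp_i L179164) L123440 L179164 L260345
theorem L260353 : sm gh N21074 = N30695 := rfl
theorem L260356 : sm gc N30695 = N21460 := ded_32_1 (flp_h L182388) (flp_c L179183) L260353
theorem L260359 : sm gg N30695 = N21075 := ded_50_1 (flp_h L179189) L179180 L260353
theorem L260361 : sm gd N21075 = N30696 := rfl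
theorem L260364 : sm gf N30696 = N21078 := ded_35_2 (flp_d L179213) (flp_f L179194) L260361
theorem L260366 : sm gj N30696 = N21076 := ded_37_2 (flp_d L179198) (flp_j L179196) L260361
theorem L260369 : sm gi N21075 = N30697 := rfl
theorem L260371 : sm ga N30697 = N30697 := ded_18_1 (flp_i L260369) L179191 L260369
theorem L260372 : sm gc N30697 = N21462 := ded_33_1 (flp_i L182403) (flp_c L179192) L260369
theorem L260374 : sm gf N30697 = N21079 := ded_48_1 (flp_i L179220) (flp_f L179194) L260369
theorem L260376 : sm gj N30697 = N21077 := ded_53_1 (flp_i L179204) (flp_j L179196) L260369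
theorem L260378 : sm gh N30697 = N21154 := ded_54_1 (flp_i L179844) (flp_h L123900) (flp_i L123473) L179189 L260369
theorem L260380 : sm gc N21076 = N30698 := rfl
theorem L260382 : sm ga N30698 = N30698 := ded_11_1 (flp_c L260380) L179200 L260380
theorem L260383 : sm gf N30698 = N21080 := ded_29_2 (flp_c L179232) (flp_f L179201) L260380
theorem L260385 : sm gh N30698 = N30698 := ded_32_2 (flp_c L260380) L179203 L260380
theorem L260386 : sm gd N30698 = N21463 := ded_27_2 (flp_c L182412) (flp_d L125630) (flp_c L123478) L179198 L260380
theorem L260388 : sm ge N21076 = N30699 := rfl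
theorem L260392 : sm gi N21076 = N30700 := rfl
theorem L260394 : sm ga N30700 = N30700 := ded_18_1 (flp_i L260392) L179200 L260392
theorem L260395 : sm gd N30700 = N21077 := ded_39_1 (flp_i L179204) L179198 L260392
theorem L260397 : sm gf N30700 = N21081 := ded_48_1 (flp_i L179240) (flp_f L179201) L260392
theorem L260399 : sm gc N21078 = N30701 := rfl
theorem L260401 : sm ga N30701 = N30701 := ded_11_1 (flp_c L260399) L179215 L260399
theorem L260402 : sm gg N30701 = N30701 := ded_30_2 (flp_c L260399) L179216 L260399
theorem L260403 : sm gj N30701 = N21080 := ded_31_2 (flp_c L179232) (flp_j L179217) L260399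
theorem L260405 : sm gh N30701 = N30701 := ded_32_2 (flp_c L260399) L179219 L260399
theorem L260406 : sm gd N30701 = N21466 := ded_27_2 (flp_c L182432) (flp_d L125644) (flp_c L123485) L179213 L260399
theorem L260408 : sm gi N21078 = N30702 := rfl
theorem L260410 : sm ga N30702 = N30702 := ded_18_1 (flp_i L260408) L179215 L260408
theorem L260411 : sm gd N30702 = N21079 := ded_39_1 (flp_i L179220) L179213 L260408
theorem L260413 : sm gg N30702 = N30702 := ded_51_1 (flp_i L260408) L179216 L260408
theorem L260414 : sm gj N30702 = N21081 := ded_53_1 (flp_i L179240) (flp_j L179217) L260408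
theorem L260416 : sm gb N21080 = N30703 := rfl
theorem L260418 : sm gd N30703 = N21468 := ded_20_2 (flp_b L182450) (flp_d L179238) L260416
theorem L260420 : sm gg N30703 = N21082 := ded_23_2 (flp_b L179247) (flp_g L179235) L260416
theorem L260422 : sm gh N30703 = N30703 := ded_25_2 (flp_b L260416) L179237 L260416
theorem L260423 : sm gi N21080 = N30704 := rfl
theorem L260425 : sm ga N30704 = N30704 := ded_18_1 (flp_i L260423) L179234 L260423
theorem L260426 : sm gc N30704 = N21081 := ded_33_1 (flp_i L179240) L179232 L260423
theorem L260428 : sm gd N30704 = N21469 := ded_39_1 (flp_i L182457) (flp_d L179238) L260423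
theorem L260430 : sm gg N30704 = N21083 := ded_51_1 (flp_i L179253) (flp_g L179235) L260423
theorem L260432 : sm gh N21081 = N30705 := rfl
theorem L260434 : sm ga N30705 = N30705 := ded_17_1 (flp_h L260432) L179242 L260432
theorem L260435 : sm gg N30705 = N21084 := ded_50_1 (flp_h L179261) (flp_g L179245) L260432
theorem L260437 : sm gd N30705 = N21162 := ded_38_1 (flp_h L179910) L123952 (flp_h L123507) (flp_d L179243) L260432
theorem L260439 : sm gi N30705 = N30705 := ded_54_2 (flp_h L260432) (flp_i L179240) L123497 L179240 L260432
theorem L260440 : sm ga N21082 = N30706 := rfl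
theorem L260442 : sm gd N30706 = N21471 := ded_12_2 (flp_a L182475) (flp_d L179249) L260440
theorem L260444 : sm gj N30706 = N30706 := ded_16_2 (flp_a L260440) L179251 L260440
theorem L260445 : sm gh N30706 = N30706 := ded_17_2 (flp_a L260440) L179252 L260440
theorem L260446 : sm gb N30706 = N30706 := ded_10_2 (flp_a L260440) (flp_b L179247) L123511 L179247 L260440
theorem L260447 : sm gi N21082 = N30707 := rfl
theorem L260449 : sm gb N30707 = N21083 := ded_26_1 (flp_i L179253) L179247 L260447
theorem L260451 : sm gd N30707 = N21472 := ded_39_1 (flp_i L182482) (flp_d L179249) L260447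
theorem L260453 : sm gj N30707 = N30707 := ded_53_1 (flp_i L260447) L179251 L260447
theorem L260454 : sm gh N21083 = N30708 := rfl
theorem L260456 : sm ga N30708 = N30708 := ded_17_1 (flp_h L260454) L179255 L260454
theorem L260457 : sm gc N30708 = N21084 := ded_32_1 (flp_h L179261) (flp_c L179256) L260454
theorem L260459 : sm gj N30708 = N30708 := ded_52_1 (flp_h L260454) L179260 L260454
theorem L260460 : sm gi N30708 = N30708 := ded_54_2 (flp_h L260454) (flp_i L179253) L123513 L179253 L260454
theorem L260461 : sm gc N21085 = N30709 := rfl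
theorem L260463 : sm ga N30709 = N21474 := ded_11_1 (flp_c L182497) (flp_a L179270) L260461
theorem L260465 : sm ge N30709 = N23175 := ded_28_2 (flp_c L197127) (flp_e L179275) L260461
theorem L260470 : sm gg N21085 = N30710 := rfl
theorem L260472 : sm ga N30710 = N21475 := ded_15_1 (flp_g L182505) (flp_a L179270) L260470
theorem L260474 : sm gb N30710 = N21095 := ded_23_1 (flp_g L179363) (flp_b L179272) L260470
theorem L260476 : sm gd N30710 = N21086 := ded_36_1 (flp_g L179277) L179268 L260470
theorem L260478 : sm ge N30710 = N23176 := ded_41_1 (flp_g L197136) (flp_e L179275) L260470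
theorem L260480 : sm gh N21085 = N30711 := rfl
theorem L260482 : sm ga N30711 = N21476 := ded_17_1 (flp_h L182513) (flp_a L179270) L260480
theorem L260484 : sm gb N30711 = N21096 := ded_25_1 (flp_h L179372) (flp_b L179272) L260480
theorem L260486 : sm ge N30711 = N23177 := ded_43_1 (flp_h L197144) (flp_e L179275) L260480
theorem L260488 : sm gj N30711 = N30711 := ded_52_1 (flp_h L260480) L179274 L260480
theorem L260489 : sm gf N21086 = N30712 := rfl
theorem L260491 : sm ga N30712 = N21477 := ded_14_1 (flp_f L182520) (flp_a L179279) L260489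
theorem L260493 : sm gb N30712 = N21097 := ded_22_1 (flp_f L179380) (flp_b L179281) L260489
theorem L260495 : sm gc N30712 = N30712 := ded_29_1 (flp_f L260489) L179283 L260489
theorem L260496 : sm gj N21086 = N30713 := rfl
theorem L260498 : sm ga N30713 = N21478 := ded_16_1 (flp_j L182525) (flp_a L179279) L260496
theorem L260500 : sm gb N30713 = N21098 := ded_24_1 (flp_j L179386) (flp_b L179281) L260496
theorem L260502 : sm gc N30713 = N30713 := ded_31_1 (flp_j L260496) L179283 L260496
theorem L260503 : sm ge N30713 = N21088 := ded_42_1 (flp_j L179296) (flp_e L179284) L260496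
theorem L260505 : sm gg N30713 = N30713 := ded_49_1 (flp_j L260496) (flp_g L179277) L123539 L179277 L260496
theorem L260506 : sm gh N21086 = N30714 := rfl
theorem L260508 : sm ga N30714 = N21479 := ded_17_1 (flp_h L182533) (flp_a L179279) L260506
theorem L260510 : sm gb N30714 = N21099 := ded_25_1 (flp_h L179395) (flp_b L179281) L260506
theorem L260512 : sm gc N30714 = N30714 := ded_32_1 (flp_h L260506) L179283 L260506
theorem L260513 : sm ge N30714 = N21089 := ded_43_1 (flp_h L179306) (flp_e L179284) L260506
theorem L260515 : sm gg N30714 = N21087 := ded_50_1 (flp_h L179286) L179277 L260506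
theorem L260517 : sm gd N21087 = N30715 := rfl
theorem L260519 : sm ga N30715 = N21480 := ded_12_1 (flp_d L182542) (flp_a L179288) L260517
theorem L260521 : sm gb N30715 = N21100 := ded_20_1 (flp_d L179405) (flp_b L179290) L260517
theorem L260523 : sm gj N30715 = N30715 := ded_37_2 (flp_d L260517) L179295 L260517
theorem L260524 : sm gi N21087 = N30716 := rfl
theorem L260526 : sm ga N30716 = N21481 := ded_18_1 (flp_i L182547) (flp_a L179288) L260524
theorem L260528 : sm gb N30716 = N21101 := ded_26_1 (flp_i L179410) (flp_b L179290) L260524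
theorem L260530 : sm gc N30716 = N30716 := ded_33_1 (flp_i L260524) L179292 L260524
theorem L260531 : sm ge N30716 = N21091 := ded_44_1 (flp_i L179326) (flp_e L179293) L260524
theorem L260533 : sm gj N30716 = N30716 := ded_53_1 (flp_i L260524) L179295 L260524
theorem L260534 : sm gh N21088 = N30717 := rfl
theorem L260536 : sm ga N30717 = N21482 := ded_17_1 (flp_h L182555) (flp_a L179298) L260534
theorem L260538 : sm gb N30717 = N21102 := ded_25_1 (flp_h L179419) (flp_b L179300) L260534
theorem L260540 : sm gc N30717 = N30717 := ded_32_1 (flp_h L260534) L179302 L260534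
theorem L260541 : sm gg N30717 = N30717 := ded_50_1 (flp_h L260534) L179305 L260534
theorem L260542 : sm gj N30717 = N21089 := ded_52_1 (flp_h L179306) L179296 L260534
theorem L260544 : sm gd N21089 = N30718 := rfl
theorem L260548 : sm gb N30718 = N21103 := ded_20_1 (flp_d L179428) (flp_b L179310) L260544
theorem L260550 : sm gg N30718 = N21090 := ded_36_2 (flp_d L179315) (flp_g L179313) L260544
theorem L260554 : sm gi N21089 = N30719 := rfl
theorem L260556 : sm ga N30719 = N21484 := ded_18_1 (flp_i L182571) (flp_a L179308) L260554
theorem L260558 : sm gb N30719 = N21104 := ded_26_1 (flp_i L179437) (flp_b L179310) L260554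
theorem L260560 : sm gc N30719 = N30719 := ded_33_1 (flp_i L260554) L179312 L260554
theorem L260561 : sm gg N30719 = N21091 := ded_51_1 (flp_i L179326) (flp_g L179313) L260554
theorem L260574 : sm ge N21090 = N30721 := rfl
theorem L260576 : sm ga N30721 = N21486 := ded_13_1 (flp_e L182588) (flp_a L179317) L260574
theorem L260578 : sm gb N30721 = N21105 := ded_21_1 (flp_e L179445) (flp_b L179319) L260574
theorem L260583 : sm gi N21090 = N30722 := rfl
theorem L260585 : sm ga N30722 = N21487 := ded_18_1 (flp_i L182595) (flp_a L179317) L260583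
theorem L260587 : sm gb N30722 = N21106 := ded_26_1 (flp_i L179453) (flp_b L179319) L260583
theorem L260589 : sm gd N30722 = N21091 := ded_39_1 (flp_i L179326) L179315 L260583
theorem L260631 : sm gh N21094 = N30727 := rfl
theorem L260638 : sm gi N30727 = N23193 := ded_54_2 (flp_h L197297) (flp_i L135846) (flp_h L123566) L179354 L260631
theorem L260640 : sm gf N21095 = N30728 := rfl
theorem L260642 : sm ga N30728 = N21118 := ded_14_1 (flp_f L179555) (flp_a L179365) L260640
theorem L260644 : sm gc N30728 = N30728 := ded_29_1 (flp_f L260640) L179367 L260640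
theorem L260645 : sm gd N30728 = N21097 := ded_35_1 (flp_f L179380) (flp_d L179368) L260640
theorem L260647 : sm gj N21095 = N30729 := rfl
theorem L260649 : sm ga N30729 = N21119 := ded_16_1 (flp_j L179562) (flp_a L179365) L260647
theorem L260651 : sm gc N30729 = N30729 := ded_31_1 (flp_j L260647) L179367 L260647
theorem L260652 : sm gd N30729 = N21098 := ded_37_1 (flp_j L179386) (flp_d L179368) L260647
theorem L260654 : sm ge N30729 = N23195 := ded_42_1 (flp_j L197312) (flp_e L179370) L260647
theorem L260656 : sm gg N30729 = N30729 := ded_49_1 (flp_j L260647) (flp_g L179363) L123580 L179363 L260647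
theorem L260657 : sm gh N21095 = N30730 := rfl
theorem L260659 : sm ga N30730 = N21120 := ded_17_1 (flp_h L179572) (flp_a L179365) L260657
theorem L260661 : sm gc N30730 = N30730 := ded_32_1 (flp_h L260657) L179367 L260657
theorem L260662 : sm ge N30730 = N23196 := ded_43_1 (flp_h L197320) (flp_e L179370) L260657
theorem L260664 : sm gg N30730 = N21096 := ded_50_1 (flp_h L179372) L179363 L260657
theorem L260666 : sm gd N21096 = N30731 := rfl
theorem L260668 : sm ga N30731 = N21121 := ded_12_1 (flp_d L179581) (flp_a L179374) L260666
theorem L260670 : sm gj N30731 = N30731 := ded_37_2 (flp_d L260666) L179379 L260666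
theorem L260671 : sm gh N30731 = N21100 := ded_38_2 (flp_d L179405) (flp_h L123592) L123576 L179372 L260666
theorem L260673 : sm gi N21096 = N30732 := rfl
theorem L260675 : sm ga N30732 = N21122 := ded_18_1 (flp_i L179588) (flp_a L179374) L260673
theorem L260677 : sm gc N30732 = N30732 := ded_33_1 (flp_i L260673) L179376 L260673
theorem L260678 : sm ge N30732 = N23198 := ded_44_1 (flp_i L197335) (flp_e L179377) L260673
theorem L260680 : sm gj N30732 = N30732 := ded_53_1 (flp_i L260673) L179379 L260673
theorem L260681 : sm gj N21097 = N30733 := rfl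
theorem L260683 : sm ga N30733 = N21123 := ded_16_1 (flp_j L179596) (flp_a L179382) L260681
theorem L260685 : sm gc N30733 = N21110 := ded_31_1 (flp_j L179487) (flp_c L179384) L260681
theorem L260687 : sm gf N30733 = N21098 := ded_46_1 (flp_j L179386) L179380 L260681
theorem L260689 : sm gh N21097 = N30734 := rfl
theorem L260691 : sm ga N30734 = N21124 := ded_17_1 (flp_h L179604) (flp_a L179382) L260689
theorem L260693 : sm gc N30734 = N21111 := ded_32_1 (flp_h L179495) (flp_c L179384) L260689
theorem L260695 : sm gf N30734 = N21099 := ded_47_1 (flp_h L179395) L179380 L260689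
theorem L260697 : sm gh N21098 = N30735 := rfl
theorem L260699 : sm ga N30735 = N21125 := ded_17_1 (flp_h L179612) (flp_a L179388) L260697
theorem L260701 : sm gc N30735 = N21112 := ded_32_1 (flp_h L179502) (flp_c L179390) L260697
theorem L260703 : sm ge N30735 = N21102 := ded_43_1 (flp_h L179419) (flp_e L179392) L260697
theorem L260705 : sm gg N30735 = N30735 := ded_50_1 (flp_h L260697) L179394 L260697
theorem L260706 : sm gj N30735 = N21099 := ded_52_1 (flp_h L179395) L179386 L260697
theorem L260708 : sm gd N21099 = N30736 := rfl
theorem L260710 : sm ga N30736 = N21126 := ded_12_1 (flp_d L179623) (flp_a L179397) L260708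
theorem L260712 : sm gg N30736 = N21100 := ded_36_2 (flp_d L179405) (flp_g L179403) L260708
theorem L260714 : sm gi N21099 = N30737 := rfl
theorem L260716 : sm ga N30737 = N21127 := ded_18_1 (flp_i L179629) (flp_a L179397) L260714
theorem L260718 : sm gc N30737 = N21114 := ded_33_1 (flp_i L179521) (flp_c L179399) L260714
theorem L260720 : sm ge N30737 = N21104 := ded_44_1 (flp_i L179437) (flp_e L179401) L260714
theorem L260722 : sm gg N30737 = N21101 := ded_51_1 (flp_i L179410) (flp_g L179403) L260714
theorem L260724 : sm gc N21100 = N30738 := rfl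
theorem L260726 : sm ga N30738 = N21128 := ded_11_1 (flp_c L179639) (flp_a L179407) L260724
theorem L260728 : sm gj N30738 = N30738 := ded_31_2 (flp_c L260724) L179409 L260724
theorem L260729 : sm gd N30738 = N21115 := ded_27_2 (flp_c L179530) (flp_d L123677) (flp_c L123596) L179405 L260724
theorem L260731 : sm ge N21100 = N30739 := rfl
theorem L260733 : sm ga N30739 = N21129 := ded_13_1 (flp_e L179644) (flp_a L179407) L260731
theorem L260735 : sm gj N30739 = N30739 := ded_42_2 (flp_e L260731) L179409 L260731
theorem L260736 : sm gd N30739 = N21105 := ded_34_1 (flp_e L179445) (flp_d L123618) (flp_e L123598) L179405 L260731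
theorem L260738 : sm gi N21100 = N30740 := rfl
theorem L260740 : sm ga N30740 = N21130 := ded_18_1 (flp_i L179651) (flp_a L179407) L260738
theorem L260742 : sm gd N30740 = N21101 := ded_39_1 (flp_i L179410) L179405 L260738
theorem L260744 : sm gj N30740 = N30740 := ded_53_1 (flp_i L260738) L179409 L260738
theorem L260745 : sm gd N21102 = N30741 := rfl
theorem L260747 : sm ga N30741 = N21131 := ded_12_1 (flp_d L179658) (flp_a L179421) L260745
theorem L260749 : sm gg N30741 = N30741 := ded_36_2 (flp_d L260745) L179425 L260745
theorem L260750 : sm gj N30741 = N21103 := ded_37_2 (flp_d L179428) (flp_j L179426) L260745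
theorem L260752 : sm gc N30741 = N30741 := ded_27_1 (flp_d L260745) L179423 L123701 (flp_c L179423) L260745
theorem L260753 : sm gh N30741 = N23207 := ded_38_2 (flp_d L197409) (flp_h L135911) (flp_d L123607) L179419 L260745
theorem L260755 : sm gi N21102 = N30742 := rfl
theorem L260757 : sm ga N30742 = N21132 := ded_18_1 (flp_i L179668) (flp_a L179421) L260755
theorem L260759 : sm gc N30742 = N21117 := ded_33_1 (flp_i L179546) (flp_c L179423) L260755
theorem L260761 : sm gg N30742 = N30742 := ded_51_1 (flp_i L260755) L179425 L260755
theorem L260762 : sm gj N30742 = N21104 := ded_53_1 (flp_i L179437) (flp_j L179426) L260755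
theorem L260764 : sm ge N21103 = N30743 := rfl
theorem L260766 : sm ga N30743 = N21133 := ded_13_1 (flp_e L179677) (flp_a L179430) L260764
theorem L260768 : sm gc N30743 = N30743 := ded_28_1 (flp_e L260764) L179434 L260764
theorem L260769 : sm gg N30743 = N21105 := ded_41_2 (flp_e L179445) (flp_g L179432) L260764
theorem L260771 : sm gh N30743 = N23209 := ded_43_2 (flp_e L197426) (flp_h L179435) L260764
theorem L260773 : sm gi N21103 = N30744 := rfl
theorem L260775 : sm ga N30744 = N21134 := ded_18_1 (flp_i L179686) (flp_a L179430) L260773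
theorem L260777 : sm gc N30744 = N30744 := ded_33_1 (flp_i L260773) L179434 L260773
theorem L260778 : sm gd N30744 = N21104 := ded_39_1 (flp_i L179437) L179428 L260773
theorem L260780 : sm gg N30744 = N21106 := ded_51_1 (flp_i L179453) (flp_g L179432) L260773
theorem L260782 : sm gf N21105 = N30745 := rfl
theorem L260784 : sm ga N30745 = N21135 := ded_14_1 (flp_f L179695) (flp_a L179447) L260782
theorem L260788 : sm gh N30745 = N23211 := ded_47_2 (flp_f L197442) (flp_h L179451) L260782
theorem L260790 : sm ge N30745 = N21107 := ded_40_1 (flp_f L179463) (flp_e L123637) (flp_f L123622) L179445 L260782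
theorem L260792 : sm gi N21105 = N30746 := rfl
theorem L260794 : sm ga N30746 = N21136 := ded_18_1 (flp_i L179705) (flp_a L179447) L260792
theorem L260796 : sm gc N30746 = N30746 := ded_33_1 (flp_i L260792) L179449 L260792
theorem L260797 : sm ge N30746 = N21106 := ded_44_1 (flp_i L179453) L179445 L260792
theorem L260799 : sm gj N30746 = N30746 := ded_53_1 (flp_i L260792) L179450 L260792
theorem L260800 : sm gh N21106 = N30747 := rfl
theorem L260810 : sm gg N21107 = N30748 := rfl
theorem L260812 : sm ga N30748 = N21138 := ded_15_1 (flp_g L179723) (flp_a L179465) L260810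
theorem L260815 : sm gh N30748 = N23214 := ded_50_2 (flp_g L197466) (flp_h L179469) L260810
theorem L260817 : sm gi N21107 = N30749 := rfl
theorem L260819 : sm ga N30749 = N21139 := ded_18_1 (flp_i L179730) (flp_a L179465) L260817
theorem L260835 : sm gg N21110 = N30751 := rfl
theorem L260837 : sm ga N30751 = N21141 := ded_15_1 (flp_g L179748) (flp_a L179489) L260835
theorem L260839 : sm gb N30751 = N30751 := ded_23_1 (flp_g L260835) L179491 L260835
theorem L260840 : sm gd N30751 = N30751 := ded_36_1 (flp_g L260835) L179492 L260835
theorem L260841 : sm gf N30751 = N30751 := ded_45_1 (flp_g L260835) L179493 L123667 (flp_f L179493) L260835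
theorem L260842 : sm gh N21110 = N30752 := rfl
theorem L260844 : sm ga N30752 = N21142 := ded_17_1 (flp_h L179754) (flp_a L179489) L260842
theorem L260846 : sm gb N30752 = N30752 := ded_25_1 (flp_h L260842) L179491 L260842
theorem L260847 : sm gf N30752 = N21112 := ded_47_1 (flp_h L179502) (flp_f L179493) L260842
theorem L260849 : sm gj N30752 = N21111 := ded_52_1 (flp_h L179495) L179487 L260842
theorem L260851 : sm gd N21111 = N30753 := rfl
theorem L260853 : sm ga N30753 = N21143 := ded_12_1 (flp_d L179762) (flp_a L179497) L260851
theorem L260855 : sm gb N30753 = N30753 := ded_20_1 (flp_d L260851) L179499 L260851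
theorem L260856 : sm gf N30753 = N21113 := ded_35_2 (flp_d L179512) (flp_f L179500) L260851
theorem L260858 : sm gh N30753 = N30753 := ded_38_2 (flp_d L260851) (flp_h L179495) L123658 L179495 L260851
theorem L260859 : sm gi N21111 = N30754 := rfl
theorem L260861 : sm ga N30754 = N21144 := ded_18_1 (flp_i L179769) (flp_a L179497) L260859
theorem L260863 : sm gb N30754 = N30754 := ded_26_1 (flp_i L260859) L179499 L260859
theorem L260864 : sm gf N30754 = N21114 := ded_48_1 (flp_i L179521) (flp_f L179500) L260859
theorem L260866 : sm gd N21112 = N30755 := rfl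
theorem L260868 : sm ga N30755 = N21145 := ded_12_1 (flp_d L179775) (flp_a L179504) L260866
theorem L260870 : sm gb N30755 = N30755 := ded_20_1 (flp_d L260866) L179506 L260866
theorem L260871 : sm gg N30755 = N30755 := ded_36_2 (flp_d L260866) L179509 L260866
theorem L260872 : sm gj N30755 = N21113 := ded_37_2 (flp_d L179512) (flp_j L179510) L260866
theorem L260874 : sm ge N30755 = N30755 := ded_34_2 (flp_d L260866) L179507 L123701 (flp_e L179507) L260866
theorem L260875 : sm gh N30755 = N30755 := ded_38_2 (flp_d L260866) (flp_h L179502) L123664 L179502 L260866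
theorem L260876 : sm gi N21112 = N30756 := rfl
theorem L260878 : sm ga N30756 = N21146 := ded_18_1 (flp_i L179784) (flp_a L179504) L260876
theorem L260880 : sm gb N30756 = N30756 := ded_26_1 (flp_i L260876) L179506 L260876
theorem L260881 : sm ge N30756 = N21117 := ded_44_1 (flp_i L179546) (flp_e L179507) L260876
theorem L260883 : sm gg N30756 = N30756 := ded_51_1 (flp_i L260876) L179509 L260876
theorem L260884 : sm gj N30756 = N21114 := ded_53_1 (flp_i L179521) (flp_j L179510) L260876
theorem L260886 : sm gc N21113 = N30757 := rfl
theorem L260888 : sm ga N30757 = N21147 := ded_11_1 (flp_c L179793) (flp_a L179514) L260886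
theorem L260890 : sm ge N30757 = N30757 := ded_28_2 (flp_c L260886) L179519 L260886
theorem L260891 : sm gg N30757 = N21115 := ded_30_2 (flp_c L179530) (flp_g L179517) L260886
theorem L260893 : sm gh N30757 = N30757 := ded_32_2 (flp_c L260886) L179520 L260886
theorem L260894 : sm gi N21113 = N30758 := rfl
theorem L260896 : sm ga N30758 = N21148 := ded_18_1 (flp_i L179799) (flp_a L179514) L260894
theorem L260898 : sm gb N30758 = N30758 := ded_26_1 (flp_i L260894) L179516 L260894
theorem L260899 : sm gd N30758 = N21114 := ded_39_1 (flp_i L179521) L179512 L260894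
theorem L260901 : sm ge N30758 = N30758 := ded_44_1 (flp_i L260894) L179519 L260894
theorem L260902 : sm gg N30758 = N21116 := ded_51_1 (flp_i L179537) (flp_g L179517) L260894
theorem L260904 : sm gb N21115 = N30759 := rfl
theorem L260906 : sm ge N30759 = N30759 := ded_21_2 (flp_b L260904) L179534 L260904
theorem L260907 : sm gj N30759 = N30759 := ded_24_2 (flp_b L260904) L179535 L260904
theorem L260908 : sm gh N30759 = N30759 := ded_25_2 (flp_b L260904) L179536 L260904
theorem L260909 : sm gc N30759 = N30759 := ded_19_2 (flp_b L260904) (flp_c L179530) L123681 L179530 L260904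
theorem L260910 : sm gi N21115 = N30760 := rfl
theorem L260912 : sm ga N30760 = N21150 := ded_18_1 (flp_i L179815) (flp_a L179532) L260910
theorem L260914 : sm gc N30760 = N21116 := ded_33_1 (flp_i L179537) L179530 L260910
theorem L260916 : sm ge N30760 = N30760 := ded_44_1 (flp_i L260910) L179534 L260910
theorem L260917 : sm gj N30760 = N30760 := ded_53_1 (flp_i L260910) L179535 L260910
theorem L260918 : sm gh N21116 = N30761 := rfl
theorem L260920 : sm ga N30761 = N21151 := ded_17_1 (flp_h L179821) (flp_a L179539) L260918
theorem L260922 : sm gb N30761 = N30761 := ded_25_1 (flp_h L260918) L179541 L260918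
theorem L260923 : sm ge N30761 = N30761 := ded_43_1 (flp_h L260918) L179544 L260918
theorem L260924 : sm gj N30761 = N30761 := ded_52_1 (flp_h L260918) L179545 L260918
theorem L260925 : sm gi N30761 = N30761 := ded_54_2 (flp_h L260918) (flp_i L179537) L123684 L179537 L260918
theorem L260926 : sm ge N21118 = N30762 := rfl
theorem L260928 : sm gb N30762 = N21527 := ded_21_1 (flp_e L182953) (flp_b L179557) L260926
theorem L260930 : sm gc N30762 = N30762 := ded_28_1 (flp_e L260926) L179559 L260926
theorem L260931 : sm gf N30762 = N23228 := ded_40_2 (flp_e L197596) (flp_f L136051) (flp_e L123717) L179555 L260926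
theorem L260933 : sm gj N21118 = N30763 := rfl
theorem L260935 : sm gb N30763 = N21528 := ded_24_1 (flp_j L182959) (flp_b L179557) L260933
theorem L260937 : sm gc N30763 = N30763 := ded_31_1 (flp_j L260933) L179559 L260933
theorem L260938 : sm gd N30763 = N21123 := ded_37_1 (flp_j L179596) (flp_d L179560) L260933
theorem L260940 : sm gf N30763 = N21119 := ded_46_1 (flp_j L179562) L179555 L260933
theorem L260942 : sm gh N21118 = N30764 := rfl
theorem L260944 : sm gb N30764 = N21529 := ded_25_1 (flp_h L182967) (flp_b L179557) L260942
theorem L260946 : sm gc N30764 = N30764 := ded_32_1 (flp_h L260942) L179559 L260942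
theorem L260947 : sm gf N30764 = N21120 := ded_47_1 (flp_h L179572) L179555 L260942
theorem L260949 : sm gh N21119 = N30765 := rfl
theorem L260951 : sm gb N30765 = N21530 := ded_25_1 (flp_h L182973) (flp_b L179564) L260949
theorem L260953 : sm gc N30765 = N30765 := ded_32_1 (flp_h L260949) L179566 L260949
theorem L260954 : sm ge N30765 = N23231 := ded_43_1 (flp_h L197619) (flp_e L179569) L260949
theorem L260956 : sm gg N30765 = N30765 := ded_50_1 (flp_h L260949) L179571 L260949
theorem L260957 : sm gj N30765 = N21120 := ded_52_1 (flp_h L179572) L179562 L260949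
theorem L260959 : sm gd N21120 = N30766 := rfl
theorem L260961 : sm gb N30766 = N21531 := ded_20_1 (flp_d L182982) (flp_b L179574) L260959
theorem L260963 : sm gg N30766 = N21121 := ded_36_2 (flp_d L179581) (flp_g L179579) L260959
theorem L260965 : sm gh N30766 = N21126 := ded_38_2 (flp_d L179623) (flp_h L123742) (flp_d L123715) L179572 L260959
theorem L260967 : sm gi N21120 = N30767 := rfl
theorem L260969 : sm gb N30767 = N21532 := ded_26_1 (flp_i L182988) (flp_b L179574) L260967
theorem L260971 : sm gc N30767 = N30767 := ded_33_1 (flp_i L260967) L179576 L260967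
theorem L260972 : sm ge N30767 = N23233 := ded_44_1 (flp_i L197635) (flp_e L179577) L260967
theorem L260974 : sm gg N30767 = N21122 := ded_51_1 (flp_i L179588) (flp_g L179579) L260967
theorem L260976 : sm gc N21121 = N30768 := rfl
theorem L260978 : sm gj N30768 = N30768 := ded_31_2 (flp_c L260976) L179585 L260976
theorem L260979 : sm gh N30768 = N21128 := ded_32_2 (flp_c L179639) (flp_h L179586) L260976
theorem L260981 : sm gd N30768 = N30768 := ded_27_2 (flp_c L260976) (flp_d L179581) L123723 L179581 L260976
theorem L260982 : sm ge N21121 = N30769 := rfl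
theorem L260984 : sm gb N30769 = N21534 := ded_21_1 (flp_e L183003) (flp_b L179583) L260982
theorem L260986 : sm gj N30769 = N30769 := ded_42_2 (flp_e L260982) L179585 L260982
theorem L260987 : sm gh N30769 = N21129 := ded_43_2 (flp_e L179644) (flp_h L179586) L260982
theorem L260989 : sm gd N30769 = N23235 := ded_34_1 (flp_e L197650) (flp_d L136074) (flp_e L123724) L179581 L260982
theorem L260991 : sm gi N21121 = N30770 := rfl
theorem L260993 : sm gb N30770 = N21535 := ded_26_1 (flp_i L183010) (flp_b L179583) L260991
theorem L260995 : sm gd N30770 = N21122 := ded_39_1 (flp_i L179588) L179581 L260991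
theorem L260997 : sm gj N30770 = N30770 := ded_53_1 (flp_i L260991) L179585 L260991
theorem L260998 : sm gg N21123 = N30771 := rfl
theorem L261000 : sm gb N30771 = N21536 := ded_23_1 (flp_g L183015) (flp_b L179598) L260998
theorem L261002 : sm gc N30771 = N21141 := ded_30_1 (flp_g L179748) (flp_c L179600) L260998
theorem L261004 : sm gf N30771 = N30771 := ded_45_1 (flp_g L260998) L179602 L123741 (flp_f L179602) L260998
theorem L261005 : sm gh N21123 = N30772 := rfl
theorem L261007 : sm gb N30772 = N21537 := ded_25_1 (flp_h L183020) (flp_b L179598) L261005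
theorem L261009 : sm gc N30772 = N21142 := ded_32_1 (flp_h L179754) (flp_c L179600) L261005
theorem L261011 : sm gf N30772 = N21125 := ded_47_1 (flp_h L179612) (flp_f L179602) L261005
theorem L261013 : sm gj N30772 = N21124 := ded_52_1 (flp_h L179604) L179596 L261005
theorem L261015 : sm gd N21124 = N30773 := rfl
theorem L261017 : sm gb N30773 = N21538 := ded_20_1 (flp_d L183028) (flp_b L179606) L261015
theorem L261019 : sm gf N30773 = N21126 := ded_35_2 (flp_d L179623) (flp_f L179610) L261015
theorem L261021 : sm gi N21124 = N30774 := rfl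
theorem L261023 : sm gb N30774 = N21539 := ded_26_1 (flp_i L183032) (flp_b L179606) L261021
theorem L261025 : sm gc N30774 = N21144 := ded_33_1 (flp_i L179769) (flp_c L179608) L261021
theorem L261027 : sm gf N30774 = N21127 := ded_48_1 (flp_i L179629) (flp_f L179610) L261021
theorem L261029 : sm gd N21125 = N30775 := rfl
theorem L261031 : sm gb N30775 = N21540 := ded_20_1 (flp_d L183038) (flp_b L179614) L261029
theorem L261033 : sm gg N30775 = N30775 := ded_36_2 (flp_d L261029) L179620 L261029
theorem L261034 : sm gj N30775 = N21126 := ded_37_2 (flp_d L179623) (flp_j L179621) L261029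
theorem L261036 : sm gi N21125 = N30776 := rfl
theorem L261038 : sm gb N30776 = N21541 := ded_26_1 (flp_i L183043) (flp_b L179614) L261036
theorem L261040 : sm gc N30776 = N21146 := ded_33_1 (flp_i L179784) (flp_c L179616) L261036
theorem L261042 : sm ge N30776 = N21132 := ded_44_1 (flp_i L179668) (flp_e L179618) L261036
theorem L261044 : sm gg N30776 = N30776 := ded_51_1 (flp_i L261036) L179620 L261036
theorem L261045 : sm gj N30776 = N21127 := ded_53_1 (flp_i L179629) (flp_j L179621) L261036
theorem L261047 : sm gc N21126 = N30777 := rfl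
theorem L261049 : sm gg N30777 = N21128 := ded_30_2 (flp_c L179639) (flp_g L179627) L261047
theorem L261051 : sm gd N30777 = N21147 := ded_27_2 (flp_c L179793) (flp_d L123856) (flp_c L123746) L179623 L261047
theorem L261053 : sm ge N21126 = N30778 := rfl
theorem L261055 : sm gb N30778 = N21543 := ded_21_1 (flp_e L183058) (flp_b L179625) L261053
theorem L261057 : sm gg N30778 = N21129 := ded_41_2 (flp_e L179644) (flp_g L179627) L261053
theorem L261059 : sm gd N30778 = N21133 := ded_34_1 (flp_e L179677) (flp_d L123775) (flp_e L123748) L179623 L261053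
theorem L261061 : sm gi N21126 = N30779 := rfl
theorem L261063 : sm gb N30779 = N21544 := ded_26_1 (flp_i L183064) (flp_b L179625) L261061
theorem L261065 : sm gd N30779 = N21127 := ded_39_1 (flp_i L179629) L179623 L261061
theorem L261067 : sm gg N30779 = N21130 := ded_51_1 (flp_i L179651) (flp_g L179627) L261061
theorem L261069 : sm gb N21128 = N30780 := rfl
theorem L261071 : sm gd N30780 = N21149 := ded_20_2 (flp_b L179808) (flp_d L179642) L261069
theorem L261073 : sm gj N30780 = N30780 := ded_24_2 (flp_b L261069) L179641 L261069
theorem L261074 : sm gc N30780 = N21545 := ded_19_2 (flp_b L183070) (flp_c L126052) (flp_b L123754) L179639 L261069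
theorem L261076 : sm ge N21128 = N30781 := rfl
theorem L261078 : sm gc N30781 = N21129 := ded_28_1 (flp_e L179644) L179639 L261076
theorem L261080 : sm gj N30781 = N30781 := ded_42_2 (flp_e L261076) L179641 L261076
theorem L261081 : sm gd N30781 = N30781 := ded_34_1 (flp_e L261076) L179642 L123874 (flp_d L179642) L261076
theorem L261082 : sm gi N21128 = N30782 := rfl
theorem L261084 : sm gc N30782 = N21130 := ded_33_1 (flp_i L179651) L179639 L261082
theorem L261086 : sm gd N30782 = N21150 := ded_39_1 (flp_i L179815) (flp_d L179642) L261082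
theorem L261088 : sm gj N30782 = N30782 := ded_53_1 (flp_i L261082) L179641 L261082
theorem L261089 : sm gf N21129 = N30783 := rfl
theorem L261091 : sm gb N30783 = N21548 := ded_22_1 (flp_f L183089) (flp_b L179646) L261089
theorem L261093 : sm gd N30783 = N21135 := ded_35_1 (flp_f L179695) (flp_d L179649) L261089
theorem L261095 : sm gj N30783 = N30783 := ded_46_2 (flp_f L261089) L179648 L261089
theorem L261096 : sm gi N21129 = N30784 := rfl
theorem L261098 : sm gb N30784 = N21549 := ded_26_1 (flp_i L183094) (flp_b L179646) L261096
theorem L261100 : sm gd N30784 = N21136 := ded_39_1 (flp_i L179705) (flp_d L179649) L261096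
theorem L261102 : sm ge N30784 = N21130 := ded_44_1 (flp_i L179651) L179644 L261096
theorem L261104 : sm gj N30784 = N30784 := ded_53_1 (flp_i L261096) L179648 L261096
theorem L261105 : sm gh N21130 = N30785 := rfl
theorem L261107 : sm gb N30785 = N21550 := ded_25_1 (flp_h L183101) (flp_b L179653) L261105
theorem L261109 : sm gj N30785 = N30785 := ded_52_1 (flp_h L261105) L179657 L261105
theorem L261110 : sm ge N21131 = N30786 := rfl
theorem L261112 : sm gb N30786 = N21551 := ded_21_1 (flp_e L183104) (flp_b L179660) L261110
theorem L261114 : sm gc N30786 = N30786 := ded_28_1 (flp_e L261110) L179665 L261110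
theorem L261115 : sm gg N30786 = N30786 := ded_41_2 (flp_e L261110) L179662 L261110
theorem L261116 : sm gj N30786 = N21133 := ded_42_2 (flp_e L179677) (flp_j L179663) L261110
theorem L261118 : sm gh N30786 = N23251 := ded_43_2 (flp_e L197779) (flp_h L179666) L261110
theorem L261120 : sm gi N21131 = N30787 := rfl
theorem L261122 : sm gb N30787 = N21552 := ded_26_1 (flp_i L183113) (flp_b L179660) L261120
theorem L261124 : sm gc N30787 = N30787 := ded_33_1 (flp_i L261120) L179665 L261120
theorem L261125 : sm gd N30787 = N21132 := ded_39_1 (flp_i L179668) L179658 L261120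
theorem L261127 : sm gg N30787 = N30787 := ded_51_1 (flp_i L261120) L179662 L261120
theorem L261128 : sm gj N30787 = N21134 := ded_53_1 (flp_i L179686) (flp_j L179663) L261120
theorem L261130 : sm gf N21133 = N30788 := rfl
theorem L261132 : sm gb N30788 = N21553 := ded_22_1 (flp_f L183122) (flp_b L179679) L261130
theorem L261134 : sm gc N30788 = N30788 := ded_29_1 (flp_f L261130) L179681 L261130
theorem L261135 : sm gh N30788 = N23253 := ded_47_2 (flp_f L197797) (flp_h L179684) L261130
theorem L261137 : sm gi N21133 = N30789 := rfl
theorem L261139 : sm gb N30789 = N21554 := ded_26_1 (flp_i L183128) (flp_b L179679) L261137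
theorem L261141 : sm gc N30789 = N30789 := ded_33_1 (flp_i L261137) L179681 L261137
theorem L261142 : sm ge N30789 = N21134 := ded_44_1 (flp_i L179686) L179677 L261137
theorem L261144 : sm gg N30789 = N21136 := ded_51_1 (flp_i L179705) (flp_g L179682) L261137
theorem L261146 : sm gh N21134 = N30790 := rfl
theorem L261155 : sm gg N21135 = N30791 := rfl
theorem L261157 : sm gb N30791 = N21556 := ded_23_1 (flp_g L183144) (flp_b L179697) L261155
theorem L261159 : sm gc N30791 = N30791 := ded_30_1 (flp_g L261155) L179699 L261155
theorem L261160 : sm ge N30791 = N21138 := ded_41_1 (flp_g L179723) (flp_e L179703) L261155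
theorem L261162 : sm gh N30791 = N23256 := ded_50_2 (flp_g L197818) (flp_h L179701) L261155
theorem L261164 : sm gi N21135 = N30792 := rfl
theorem L261166 : sm gb N30792 = N21557 := ded_26_1 (flp_i L183152) (flp_b L179697) L261164
theorem L261168 : sm gc N30792 = N30792 := ded_33_1 (flp_i L261164) L179699 L261164
theorem L261169 : sm ge N30792 = N21139 := ded_44_1 (flp_i L179730) (flp_e L179703) L261164
theorem L261171 : sm gf N30792 = N21136 := ded_48_1 (flp_i L179705) L179695 L261164
theorem L261173 : sm gj N30792 = N30792 := ded_53_1 (flp_i L261164) L179700 L261164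
theorem L261174 : sm gh N21136 = N30793 := rfl
theorem L261184 : sm gj N21138 = N30794 := rfl
theorem L261186 : sm gb N30794 = N21559 := ded_24_1 (flp_j L183170) (flp_b L179725) L261184
theorem L261188 : sm gc N30794 = N30794 := ded_31_1 (flp_j L261184) L179727 L261184
theorem L261189 : sm gh N30794 = N23259 := ded_52_2 (flp_j L197843) (flp_h L179728) L261184
theorem L261191 : sm gg N30794 = N30794 := ded_49_1 (flp_j L261184) (flp_g L179723) L123815 L179723 L261184
theorem L261192 : sm gi N21138 = N30795 := rfl
theorem L261194 : sm gb N30795 = N21560 := ded_26_1 (flp_i L183177) (flp_b L179725) L261192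
theorem L261196 : sm gc N30795 = N30795 := ded_33_1 (flp_i L261192) L179727 L261192
theorem L261197 : sm gg N30795 = N21139 := ded_51_1 (flp_i L179730) L179723 L261192
theorem L261216 : sm gh N21141 = N30798 := rfl
theorem L261218 : sm gb N30798 = N21152 := ded_25_1 (flp_h L179828) (flp_b L179750) L261216
theorem L261220 : sm gf N30798 = N30798 := ded_47_1 (flp_h L261216) L179753 L261216
theorem L261221 : sm gg N30798 = N21142 := ded_50_1 (flp_h L179754) L179748 L261216
theorem L261223 : sm gd N21142 = N30799 := rfl
theorem L261225 : sm gb N30799 = N21153 := ded_20_1 (flp_d L179836) (flp_b L179756) L261223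
theorem L261227 : sm gf N30799 = N21145 := ded_35_2 (flp_d L179775) (flp_f L179758) L261223
theorem L261229 : sm gj N30799 = N21143 := ded_37_2 (flp_d L179762) (flp_j L179760) L261223
theorem L261231 : sm gh N30799 = N30799 := ded_38_2 (flp_d L261223) (flp_h L179754) L123838 L179754 L261223
theorem L261232 : sm gi N21142 = N30800 := rfl
theorem L261234 : sm gb N30800 = N21154 := ded_26_1 (flp_i L179844) (flp_b L179756) L261232
theorem L261236 : sm gf N30800 = N21146 := ded_48_1 (flp_i L179784) (flp_f L179758) L261232
theorem L261238 : sm gj N30800 = N21144 := ded_53_1 (flp_i L179769) (flp_j L179760) L261232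
theorem L261240 : sm gc N21143 = N30801 := rfl
theorem L261242 : sm gf N30801 = N21147 := ded_29_2 (flp_c L179793) (flp_f L179766) L261240
theorem L261244 : sm gh N30801 = N30801 := ded_32_2 (flp_c L261240) L179768 L261240
theorem L261245 : sm ge N21143 = N30802 := rfl
theorem L261247 : sm gb N30802 = N21156 := ded_21_1 (flp_e L179861) (flp_b L179764) L261245
theorem L261249 : sm gh N30802 = N30802 := ded_43_2 (flp_e L261245) L179768 L261245
theorem L261250 : sm gf N30802 = N30802 := ded_40_2 (flp_e L261245) L179766 L123862 (flp_f L179766) L261245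
theorem L261251 : sm gi N21143 = N30803 := rfl
theorem L261253 : sm gb N30803 = N21157 := ded_26_1 (flp_i L179866) (flp_b L179764) L261251
theorem L261255 : sm gd N30803 = N21144 := ded_39_1 (flp_i L179769) L179762 L261251
theorem L261257 : sm gf N30803 = N21148 := ded_48_1 (flp_i L179799) (flp_f L179766) L261251
theorem L261259 : sm gc N21145 = N30804 := rfl
theorem L261261 : sm ge N30804 = N30804 := ded_28_2 (flp_c L261259) L179782 L261259
theorem L261262 : sm gg N30804 = N30804 := ded_30_2 (flp_c L261259) L179779 L261259
theorem L261263 : sm gj N30804 = N21147 := ded_31_2 (flp_c L179793) (flp_j L179780) L261259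
theorem L261265 : sm gh N30804 = N30804 := ded_32_2 (flp_c L261259) L179783 L261259
theorem L261266 : sm gi N21145 = N30805 := rfl
theorem L261268 : sm gb N30805 = N21159 := ded_26_1 (flp_i L179883) (flp_b L179777) L261266
theorem L261270 : sm gd N30805 = N21146 := ded_39_1 (flp_i L179784) L179775 L261266
theorem L261272 : sm ge N30805 = N30805 := ded_44_1 (flp_i L261266) L179782 L261266
theorem L261273 : sm gg N30805 = N30805 := ded_51_1 (flp_i L261266) L179779 L261266
theorem L261274 : sm gj N30805 = N21148 := ded_53_1 (flp_i L179799) (flp_j L179780) L261266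
theorem L261276 : sm gb N21147 = N30806 := rfl
theorem L261278 : sm ge N30806 = N30806 := ded_21_2 (flp_b L261276) L179795 L261276
theorem L261279 : sm gg N30806 = N21149 := ded_23_2 (flp_b L179808) (flp_g L179796) L261276
theorem L261281 : sm gh N30806 = N30806 := ded_25_2 (flp_b L261276) L179798 L261276
theorem L261282 : sm gc N30806 = N21160 := ded_19_2 (flp_b L179892) (flp_c L123940) (flp_b L123858) L179793 L261276
theorem L261284 : sm gi N21147 = N30807 := rfl
theorem L261286 : sm gc N30807 = N21148 := ded_33_1 (flp_i L179799) L179793 L261284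
theorem L261288 : sm ge N30807 = N30807 := ded_44_1 (flp_i L261284) L179795 L261284
theorem L261289 : sm gg N30807 = N21150 := ded_51_1 (flp_i L179815) (flp_g L179796) L261284
theorem L261291 : sm gh N21148 = N30808 := rfl
theorem L261293 : sm gb N30808 = N21162 := ded_25_1 (flp_h L179910) (flp_b L179801) L261291
theorem L261295 : sm ge N30808 = N30808 := ded_43_1 (flp_h L261291) L179805 L261291
theorem L261296 : sm gg N30808 = N21151 := ded_50_1 (flp_h L179821) (flp_g L179806) L261291
theorem L261298 : sm gi N30808 = N30808 := ded_54_2 (flp_h L261291) (flp_i L179799) L123863 L179799 L261291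
theorem L261299 : sm ga N21149 = N30809 := rfl
theorem L261301 : sm gc N30809 = N21163 := ded_11_2 (flp_a L179917) (flp_c L179813) L261299
theorem L261303 : sm ge N30809 = N30809 := ded_13_2 (flp_a L261299) L179810 L261299
theorem L261304 : sm gj N30809 = N30809 := ded_16_2 (flp_a L261299) L179811 L261299
theorem L261305 : sm gh N30809 = N30809 := ded_17_2 (flp_a L261299) L179812 L261299
theorem L261306 : sm gi N21149 = N30810 := rfl
theorem L261308 : sm gb N30810 = N21150 := ded_26_1 (flp_i L179815) L179808 L261306
theorem L261310 : sm gc N30810 = N21164 := ded_33_1 (flp_i L179925) (flp_c L179813) L261306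
theorem L261312 : sm ge N30810 = N30810 := ded_44_1 (flp_i L261306) L179810 L261306
theorem L261313 : sm gj N30810 = N30810 := ded_53_1 (flp_i L261306) L179811 L261306
theorem L261314 : sm gh N21150 = N30811 := rfl
theorem L261316 : sm gc N30811 = N21151 := ded_32_1 (flp_h L179821) (flp_c L179817) L261314
theorem L261318 : sm ge N30811 = N30811 := ded_43_1 (flp_h L261314) L179819 L261314
theorem L261319 : sm gj N30811 = N30811 := ded_52_1 (flp_h L261314) L179820 L261314
theorem L261320 : sm gi N30811 = N30811 := ded_54_2 (flp_h L261314) (flp_i L179815) L123876 L179815 L261314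
theorem L261321 : sm gd N21152 = N30812 := rfl
theorem L261323 : sm ga N30812 = N30812 := ded_12_1 (flp_d L261321) L179830 L261321
theorem L261324 : sm gf N30812 = N30812 := ded_35_2 (flp_d L261321) L179833 L261321
theorem L261325 : sm gg N30812 = N21153 := ded_36_2 (flp_d L179836) (flp_g L179834) L261321
theorem L261327 : sm gh N30812 = N30812 := ded_38_2 (flp_d L261321) (flp_h L179828) L123898 L179828 L261321
theorem L261328 : sm gi N21152 = N30813 := rfl
theorem L261330 : sm ga N30813 = N30813 := ded_18_1 (flp_i L261328) L179830 L261328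
theorem L261331 : sm gc N30813 = N21578 := ded_33_1 (flp_i L183327) (flp_c L179831) L261328
theorem L261333 : sm gf N30813 = N30813 := ded_48_1 (flp_i L261328) L179833 L261328
theorem L261334 : sm gg N30813 = N21154 := ded_51_1 (flp_i L179844) (flp_g L179834) L261328
theorem L261336 : sm gc N21153 = N30814 := rfl
theorem L261338 : sm ga N30814 = N30814 := ded_11_1 (flp_c L261336) L179838 L261336
theorem L261339 : sm gf N30814 = N21158 := ded_29_2 (flp_c L179873) (flp_f L179839) L261336
theorem L261341 : sm gj N30814 = N21155 := ded_31_2 (flp_c L179853) (flp_j L179841) L261336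
theorem L261343 : sm gh N30814 = N30814 := ded_32_2 (flp_c L261336) L179843 L261336
theorem L261344 : sm gd N30814 = N21579 := ded_27_2 (flp_c L183333) (flp_d L126244) (flp_c L123903) L179836 L261336
theorem L261346 : sm ge N21153 = N30815 := rfl
theorem L261348 : sm ga N30815 = N30815 := ded_13_1 (flp_e L261346) L179838 L261346
theorem L261349 : sm gj N30815 = N21156 := ded_42_2 (flp_e L179861) (flp_j L179841) L261346
theorem L261351 : sm gh N30815 = N30815 := ded_43_2 (flp_e L261346) L179843 L261346
theorem L261352 : sm gf N30815 = N30815 := ded_40_2 (flp_e L261346) L179839 L123928 (flp_f L179839) L261346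
theorem L261353 : sm gi N21153 = N30816 := rfl
theorem L261355 : sm ga N30816 = N30816 := ded_18_1 (flp_i L261353) L179838 L261353
theorem L261356 : sm gd N30816 = N21154 := ded_39_1 (flp_i L179844) L179836 L261353
theorem L261358 : sm gf N30816 = N21159 := ded_48_1 (flp_i L179883) (flp_f L179839) L261353
theorem L261360 : sm gj N30816 = N21157 := ded_53_1 (flp_i L179866) (flp_j L179841) L261353
theorem L261362 : sm gb N21155 = N30817 := rfl
theorem L261364 : sm gd N30817 = N21582 := ded_20_2 (flp_b L183360) (flp_d L179859) L261362
theorem L261366 : sm gf N30817 = N21160 := ded_22_2 (flp_b L179892) (flp_f L179856) L261362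
theorem L261368 : sm gh N30817 = N30817 := ded_25_2 (flp_b L261362) L179858 L261362
theorem L261369 : sm ge N21155 = N30818 := rfl
theorem L261371 : sm ga N30818 = N30818 := ded_13_1 (flp_e L261369) L179855 L261369
theorem L261372 : sm gc N30818 = N21156 := ded_28_1 (flp_e L179861) L179853 L261369
theorem L261374 : sm gh N30818 = N30818 := ded_43_2 (flp_e L261369) L179858 L261369
theorem L261375 : sm gf N30818 = N30818 := ded_40_2 (flp_e L261369) L179856 L123943 (flp_f L179856) L261369
theorem L261376 : sm gi N21155 = N30819 := rfl
theorem L261378 : sm ga N30819 = N30819 := ded_18_1 (flp_i L261376) L179855 L261376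
theorem L261379 : sm gc N30819 = N21157 := ded_33_1 (flp_i L179866) L179853 L261376
theorem L261381 : sm gd N30819 = N21584 := ded_39_1 (flp_i L183375) (flp_d L179859) L261376
theorem L261383 : sm gf N30819 = N21161 := ded_48_1 (flp_i L179900) (flp_f L179856) L261376
theorem L261385 : sm gi N21156 = N30820 := rfl
theorem L261387 : sm ga N30820 = N30820 := ded_18_1 (flp_i L261385) L179863 L261385
theorem L261388 : sm ge N30820 = N21157 := ded_44_1 (flp_i L179866) L179861 L261385
theorem L261390 : sm gf N30820 = N30820 := ded_48_1 (flp_i L261385) L179865 L261385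
theorem L261391 : sm gh N21157 = N30821 := rfl
theorem L261393 : sm ga N30821 = N30821 := ded_17_1 (flp_h L261391) L179868 L261391
theorem L261394 : sm gf N30821 = N21162 := ded_47_1 (flp_h L179910) (flp_f L179871) L261391
theorem L261396 : sm gi N30821 = N30821 := ded_54_2 (flp_h L261391) (flp_i L179866) L123914 L179866 L261391
theorem L261397 : sm gb N21158 = N30822 := rfl
theorem L261399 : sm gd N30822 = N21587 := ded_20_2 (flp_b L183396) (flp_d L179881) L261397
theorem L261401 : sm ge N30822 = N30822 := ded_21_2 (flp_b L261397) L179876 L261397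
theorem L261402 : sm gg N30822 = N30822 := ded_23_2 (flp_b L261397) L179877 L261397
theorem L261403 : sm gj N30822 = N21160 := ded_24_2 (flp_b L179892) (flp_j L179878) L261397
theorem L261405 : sm gh N30822 = N30822 := ded_25_2 (flp_b L261397) L179880 L261397
theorem L261406 : sm gi N21158 = N30823 := rfl
theorem L261408 : sm ga N30823 = N30823 := ded_18_1 (flp_i L261406) L179875 L261406
theorem L261409 : sm gc N30823 = N21159 := ded_33_1 (flp_i L179883) L179873 L261406
theorem L261411 : sm gd N30823 = N21588 := ded_39_1 (flp_i L183405) (flp_d L179881) L261406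
theorem L261413 : sm ge N30823 = N30823 := ded_44_1 (flp_i L261406) L179876 L261406
theorem L261414 : sm gg N30823 = N30823 := ded_51_1 (flp_i L261406) L179877 L261406
theorem L261415 : sm gj N30823 = N21161 := ded_53_1 (flp_i L179900) (flp_j L179878) L261406
theorem L261417 : sm gh N21159 = N30824 := rfl
theorem L261419 : sm ga N30824 = N30824 := ded_17_1 (flp_h L261417) L179885 L261417
theorem L261420 : sm ge N30824 = N30824 := ded_43_1 (flp_h L261417) L179888 L261417
theorem L261421 : sm gg N30824 = N30824 := ded_50_1 (flp_h L261417) L179889 L261417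
theorem L261422 : sm gj N30824 = N21162 := ded_52_1 (flp_h L179910) (flp_j L179890) L261417
theorem L261424 : sm gi N30824 = N30824 := ded_54_2 (flp_h L261417) (flp_i L179883) L123929 L179883 L261417
theorem L261425 : sm ga N21160 = N30825 := rfl
theorem L261427 : sm gd N30825 = N21590 := ded_12_2 (flp_a L183425) (flp_d L179894) L261425
theorem L261429 : sm ge N30825 = N30825 := ded_13_2 (flp_a L261425) L179896 L261425
theorem L261430 : sm gg N30825 = N21163 := ded_15_2 (flp_a L179917) (flp_g L179897) L261425
theorem L261432 : sm gh N30825 = N30825 := ded_17_2 (flp_a L261425) L179899 L261425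
theorem L261433 : sm gb N30825 = N30825 := ded_10_2 (flp_a L261425) (flp_b L179892) L123942 L179892 L261425
theorem L261434 : sm gi N21160 = N30826 := rfl
theorem L261436 : sm gb N30826 = N21161 := ded_26_1 (flp_i L179900) L179892 L261434
theorem L261438 : sm gd N30826 = N21591 := ded_39_1 (flp_i L183434) (flp_d L179894) L261434
theorem L261440 : sm ge N30826 = N30826 := ded_44_1 (flp_i L261434) L179896 L261434
theorem L261441 : sm gg N30826 = N21164 := ded_51_1 (flp_i L179925) (flp_g L179897) L261434
theorem L261443 : sm gh N21161 = N30827 := rfl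
theorem L261445 : sm ga N30827 = N30827 := ded_17_1 (flp_h L261443) L179902 L261443
theorem L261446 : sm gc N30827 = N21162 := ded_32_1 (flp_h L179910) (flp_c L179903) L261443
theorem L261448 : sm ge N30827 = N30827 := ded_43_1 (flp_h L261443) L179907 L261443
theorem L261449 : sm gg N30827 = N21165 := ded_50_1 (flp_h L179933) (flp_g L179908) L261443
theorem L261451 : sm gi N30827 = N30827 := ded_54_2 (flp_h L261443) (flp_i L179900) L123946 L179900 L261443
theorem L261452 : sm gi N21163 = N30828 := rfl
theorem L261454 : sm ga N30828 = N21164 := ded_18_1 (flp_i L179925) L179917 L261452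
theorem L261456 : sm gb N30828 = N30828 := ded_26_1 (flp_i L261452) L179924 L261452
theorem L261457 : sm gd N30828 = N21593 := ded_39_1 (flp_i L183453) (flp_d L179919) L261452
theorem L261459 : sm ge N30828 = N30828 := ded_44_1 (flp_i L261452) L179921 L261452
theorem L261460 : sm gj N30828 = N30828 := ded_53_1 (flp_i L261452) L179922 L261452
theorem L261461 : sm gh N21164 = N30829 := rfl
theorem L261463 : sm gb N30829 = N21165 := ded_25_1 (flp_h L179933) (flp_b L179927) L261461
theorem L261465 : sm ge N30829 = N30829 := ded_43_1 (flp_h L261461) L179931 L261461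
theorem L261466 : sm gj N30829 = N30829 := ded_52_1 (flp_h L261461) L179932 L261461
theorem L261467 : sm gi N30829 = N30829 := ded_54_2 (flp_h L261461) (flp_i L179925) L123963 L179925 L261461
theorem L261468 : sm gd N21165 = N30830 := rfl
theorem L261470 : sm ga N30830 = N30830 := ded_12_1 (flp_d L261468) L179935 L261468
theorem L261471 : sm gj N30830 = N30830 := ded_37_2 (flp_d L261468) L179939 L261468
theorem L261472 : sm gi N30830 = N30830 := ded_39_2 (flp_d L261468) L179940 L261468
theorem L261473 : sm gh N30830 = N21595 := ded_38_2 (flp_d L183470) (flp_h L126342) (flp_d L123969) L179933 L261468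
theorem L261475 : sm ge N21166 = N30831 := rfl
theorem L261477 : sm gb N30831 = N21168 := ded_21_1 (flp_e L179960) (flp_b L179943) L261475
theorem L261479 : sm gc N30831 = N30831 := ded_28_1 (flp_e L261475) L179945 L261475
theorem L261480 : sm gj N30831 = N21257 := ded_42_2 (flp_e L180745) (flp_j L179948) L261475
theorem L261482 : sm gi N30831 = N21202 := ded_44_2 (flp_e L180273) (flp_i L179950) L261475
theorem L261484 : sm gg N21166 = N30832 := rfl
theorem L261486 : sm gb N30832 = N21169 := ded_23_1 (flp_g L179970) (flp_b L179943) L261484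
theorem L261489 : sm gd N30832 = N23282 := ded_36_1 (flp_g L198042) (flp_d L179946) L261484
theorem L261491 : sm gi N30832 = N21203 := ded_51_2 (flp_g L180280) (flp_i L179950) L261484
theorem L261494 : sm gh N21166 = N30833 := rfl
theorem L261496 : sm gb N30833 = N21170 := ded_25_1 (flp_h L179981) (flp_b L179943) L261494
theorem L261499 : sm gf N30833 = N21167 := ded_47_1 (flp_h L179952) L179941 L261494
theorem L261501 : sm gj N30833 = N21259 := ded_52_1 (flp_h L180763) (flp_j L179948) L261494
theorem L261512 : sm gi N21167 = N30835 := rfl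
theorem L261514 : sm gb N30835 = N21172 := ded_26_1 (flp_i L180001) (flp_b L179954) L261512
theorem L261520 : sm gh N30835 = N21206 := ded_54_1 (flp_i L180306) (flp_h L124221) (flp_i L123986) L179952 L261512
theorem L261522 : sm gd N21168 = N30836 := rfl
theorem L261524 : sm ga N30836 = N21178 := ded_12_1 (flp_d L180064) (flp_a L179962) L261522
theorem L261526 : sm gj N30836 = N21262 := ded_37_2 (flp_d L180787) (flp_j L179966) L261522
theorem L261528 : sm gi N30836 = N21207 := ded_39_2 (flp_d L180314) (flp_i L179968) L261522
theorem L261530 : sm gc N30836 = N30836 := ded_27_1 (flp_d L261522) L179964 L124019 (flp_c L179964) L261522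
theorem L261531 : sm ge N30836 = N23286 := ded_34_2 (flp_d L198080) (flp_e L136403) (flp_d L123995) L179960 L261522
theorem L261533 : sm gg N21168 = N30837 := rfl
theorem L261535 : sm ga N30837 = N21179 := ded_15_1 (flp_g L180073) (flp_a L179962) L261533
theorem L261537 : sm gc N30837 = N21173 := ded_30_1 (flp_g L180012) (flp_c L179964) L261533
theorem L261539 : sm ge N30837 = N21169 := ded_41_1 (flp_g L179970) L179960 L261533
theorem L261541 : sm gi N30837 = N21208 := ded_51_2 (flp_g L180323) (flp_i L179968) L261533
theorem L261543 : sm gh N21168 = N30838 := rfl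
theorem L261545 : sm ga N30838 = N21180 := ded_17_1 (flp_h L180081) (flp_a L179962) L261543
theorem L261547 : sm gc N30838 = N21174 := ded_32_1 (flp_h L180022) (flp_c L179964) L261543
theorem L261549 : sm ge N30838 = N21170 := ded_43_1 (flp_h L179981) L179960 L261543
theorem L261551 : sm gj N30838 = N21264 := ded_52_1 (flp_h L180806) (flp_j L179966) L261543
theorem L261553 : sm gj N21169 = N30839 := rfl
theorem L261555 : sm ga N30839 = N21181 := ded_16_1 (flp_j L180089) (flp_a L179972) L261553
theorem L261557 : sm gc N30839 = N21175 := ded_31_1 (flp_j L180031) (flp_c L179974) L261553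
theorem L261559 : sm gd N30839 = N23289 := ded_37_1 (flp_j L198111) (flp_d L179976) L261553
theorem L261562 : sm gi N30839 = N21210 := ded_53_2 (flp_j L180341) (flp_i L179978) L261553
theorem L261564 : sm gg N30839 = N21265 := ded_49_1 (flp_j L180814) (flp_g L124545) (flp_j L123997) L179970 L261553
theorem L261566 : sm gh N21169 = N30840 := rfl
theorem L261568 : sm ga N30840 = N21182 := ded_17_1 (flp_h L180100) (flp_a L179972) L261566
theorem L261570 : sm gc N30840 = N21176 := ded_32_1 (flp_h L180043) (flp_c L179974) L261566
theorem L261572 : sm gf N30840 = N30840 := ded_47_1 (flp_h L261566) L179980 L261566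
theorem L261573 : sm gg N30840 = N21170 := ded_50_1 (flp_h L179981) L179970 L261566
theorem L261575 : sm gd N21170 = N30841 := rfl
theorem L261579 : sm gf N30841 = N21171 := ded_35_2 (flp_d L179991) (flp_f L179987) L261575
theorem L261586 : sm gi N21170 = N30842 := rfl
theorem L261588 : sm ga N30842 = N21184 := ded_18_1 (flp_i L180116) (flp_a L179983) L261586
theorem L261590 : sm gc N30842 = N21177 := ded_33_1 (flp_i L180052) (flp_c L179985) L261586
theorem L261592 : sm gf N30842 = N21172 := ded_48_1 (flp_i L180001) (flp_f L179987) L261586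
theorem L261594 : sm gj N30842 = N21268 := ded_53_1 (flp_i L180845) (flp_j L179989) L261586
theorem L261596 : sm gh N30842 = N21213 := ded_54_1 (flp_i L180373) (flp_h L124246) (flp_i L123999) L179981 L261586
theorem L261608 : sm gi N21171 = N30844 := rfl
theorem L261618 : sm gf N21173 = N30845 := rfl
theorem L261620 : sm ga N30845 = N21187 := ded_14_1 (flp_f L180142) (flp_a L180014) L261618
theorem L261622 : sm gb N30845 = N30845 := ded_22_1 (flp_f L261618) L180016 L261618
theorem L261623 : sm gd N30845 = N30845 := ded_35_1 (flp_f L261618) L180017 L261618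
theorem L261624 : sm gi N30845 = N21216 := ded_48_2 (flp_f L180405) (flp_i L180020) L261618
theorem L261626 : sm ge N30845 = N30845 := ded_40_1 (flp_f L261618) L180018 L124029 (flp_e L180018) L261618
theorem L261627 : sm gj N21173 = N30846 := rfl
theorem L261629 : sm ga N30846 = N21188 := ded_16_1 (flp_j L180150) (flp_a L180014) L261627
theorem L261631 : sm gb N30846 = N30846 := ded_24_1 (flp_j L261627) L180016 L261627
theorem L261632 : sm gd N30846 = N30846 := ded_37_1 (flp_j L261627) L180017 L261627
theorem L261633 : sm ge N30846 = N21175 := ded_42_1 (flp_j L180031) (flp_e L180018) L261627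
theorem L261635 : sm gi N30846 = N21217 := ded_53_2 (flp_j L180412) (flp_i L180020) L261627
theorem L261637 : sm gg N30846 = N21272 := ded_49_1 (flp_j L180883) (flp_g L124584) (flp_j L124015) L180012 L261627
theorem L261639 : sm gh N21173 = N30847 := rfl
theorem L261641 : sm ga N30847 = N21189 := ded_17_1 (flp_h L180161) (flp_a L180014) L261639
theorem L261643 : sm gb N30847 = N30847 := ded_25_1 (flp_h L261639) L180016 L261639
theorem L261644 : sm ge N30847 = N21176 := ded_43_1 (flp_h L180043) (flp_e L180018) L261639
theorem L261646 : sm gg N30847 = N21174 := ded_50_1 (flp_h L180022) L180012 L261639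
theorem L261648 : sm gd N21174 = N30848 := rfl
theorem L261650 : sm ga N30848 = N21190 := ded_12_1 (flp_d L180169) (flp_a L180024) L261648
theorem L261652 : sm gb N30848 = N30848 := ded_20_1 (flp_d L261648) L180026 L261648
theorem L261653 : sm gj N30848 = N21274 := ded_37_2 (flp_d L180902) (flp_j L180029) L261648
theorem L261655 : sm ge N30848 = N30848 := ded_34_2 (flp_d L261648) L180027 L124039 (flp_e L180027) L261648
theorem L261656 : sm gh N30848 = N30848 := ded_38_2 (flp_d L261648) (flp_h L180022) L124019 L180022 L261648
theorem L261657 : sm gi N21174 = N30849 := rfl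
theorem L261659 : sm ga N30849 = N21191 := ded_18_1 (flp_i L180177) (flp_a L180024) L261657
theorem L261661 : sm gb N30849 = N30849 := ded_26_1 (flp_i L261657) L180026 L261657
theorem L261662 : sm ge N30849 = N21177 := ded_44_1 (flp_i L180052) (flp_e L180027) L261657
theorem L261664 : sm gj N30849 = N21275 := ded_53_1 (flp_i L180909) (flp_j L180029) L261657
theorem L261666 : sm gh N30849 = N21220 := ded_54_1 (flp_i L180441) (flp_h L124284) (flp_i L124017) L180022 L261657
theorem L261668 : sm gh N21175 = N30850 := rfl
theorem L261670 : sm ga N30850 = N21192 := ded_17_1 (flp_h L180187) (flp_a L180033) L261668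
theorem L261672 : sm gb N30850 = N30850 := ded_25_1 (flp_h L261668) L180035 L261668
theorem L261673 : sm gf N30850 = N30850 := ded_47_1 (flp_h L261668) L180038 L261668
theorem L261674 : sm gg N30850 = N21276 := ded_50_1 (flp_h L180918) (flp_g L180041) L261668
theorem L261676 : sm gj N30850 = N21176 := ded_52_1 (flp_h L180043) L180031 L261668
theorem L261678 : sm gd N30850 = N30850 := ded_38_1 (flp_h L261668) L180036 L124060 (flp_d L180036) L261668
theorem L261679 : sm gi N21176 = N30851 := rfl
theorem L261681 : sm ga N30851 = N21193 := ded_18_1 (flp_i L180197) (flp_a L180045) L261679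
theorem L261683 : sm gb N30851 = N30851 := ded_26_1 (flp_i L261679) L180047 L261679
theorem L261684 : sm gd N30851 = N30851 := ded_39_1 (flp_i L261679) L180051 L261679
theorem L261685 : sm gf N30851 = N30851 := ded_48_1 (flp_i L261679) L180048 L261679
theorem L261686 : sm gg N30851 = N21177 := ded_51_1 (flp_i L180052) (flp_g L180049) L261679
theorem L261688 : sm gh N30851 = N21222 := ded_54_1 (flp_i L180462) (flp_h L124303) (flp_i L124027) L180043 L261679
theorem L261690 : sm gg N21178 = N30852 := rfl
theorem L261693 : sm gd N30852 = N21179 := ded_36_1 (flp_g L180073) L180064 L261690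
theorem L261697 : sm gi N30852 = N21223 := ded_51_2 (flp_g L180472) (flp_i L180068) L261690
theorem L261699 : sm gh N21178 = N30853 := rfl
theorem L261701 : sm gc N30853 = N30853 := ded_32_1 (flp_h L261699) L180070 L261699
theorem L261702 : sm ge N30853 = N23303 := ded_43_1 (flp_h L198260) (flp_e L180071) L261699
theorem L261704 : sm gj N30853 = N21279 := ded_52_1 (flp_h L180949) (flp_j L180066) L261699
theorem L261706 : sm gf N21179 = N30854 := rfl
theorem L261708 : sm gc N30854 = N21187 := ded_29_1 (flp_f L180142) (flp_c L180075) L261706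
theorem L261710 : sm gi N30854 = N21225 := ded_48_2 (flp_f L180486) (flp_i L180079) L261706
theorem L261712 : sm ge N30854 = N30854 := ded_40_1 (flp_f L261706) L180077 L124081 (flp_e L180077) L261706
theorem L261713 : sm gj N21179 = N30855 := rfl
theorem L261715 : sm gc N30855 = N21188 := ded_31_1 (flp_j L180150) (flp_c L180075) L261713
theorem L261717 : sm ge N30855 = N21181 := ded_42_1 (flp_j L180089) (flp_e L180077) L261713
theorem L261719 : sm gi N30855 = N21226 := ded_53_2 (flp_j L180491) (flp_i L180079) L261713
theorem L261721 : sm gg N30855 = N21281 := ded_49_1 (flp_j L180962) (flp_g L124639) (flp_j L124069) L180073 L261713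
theorem L261723 : sm gh N21179 = N30856 := rfl
theorem L261725 : sm gc N30856 = N21189 := ded_32_1 (flp_h L180161) (flp_c L180075) L261723
theorem L261727 : sm ge N30856 = N21182 := ded_43_1 (flp_h L180100) (flp_e L180077) L261723
theorem L261729 : sm gg N30856 = N21180 := ded_50_1 (flp_h L180081) L180073 L261723
theorem L261731 : sm gd N21180 = N30857 := rfl
theorem L261733 : sm gj N30857 = N21283 := ded_37_2 (flp_d L180978) (flp_j L180087) L261731
theorem L261735 : sm gi N21180 = N30858 := rfl
theorem L261737 : sm gc N30858 = N21191 := ded_33_1 (flp_i L180177) (flp_c L180083) L261735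
theorem L261739 : sm ge N30858 = N21184 := ded_44_1 (flp_i L180116) (flp_e L180085) L261735
theorem L261741 : sm gj N30858 = N21284 := ded_53_1 (flp_i L180980) (flp_j L180087) L261735
theorem L261743 : sm gh N30858 = N21229 := ded_54_1 (flp_i L180511) (flp_h L124337) (flp_i L124071) L180081 L261735
theorem L261745 : sm gh N21181 = N30859 := rfl
theorem L261747 : sm gc N30859 = N21192 := ded_32_1 (flp_h L180187) (flp_c L180091) L261745
theorem L261749 : sm gf N30859 = N30859 := ded_47_1 (flp_h L261745) L180095 L261745
theorem L261750 : sm gg N30859 = N21285 := ded_50_1 (flp_h L180988) (flp_g L180098) L261745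
theorem L261752 : sm gj N30859 = N21182 := ded_52_1 (flp_h L180100) L180089 L261745
theorem L261754 : sm gd N21182 = N30860 := rfl
theorem L261756 : sm gf N30860 = N30860 := ded_35_2 (flp_d L261754) L180104 L261754
theorem L261757 : sm gg N30860 = N21183 := ded_36_2 (flp_d L180107) (flp_g L180105) L261754
theorem L261759 : sm gc N30860 = N30860 := ded_27_1 (flp_d L261754) L180102 L124142 (flp_c L180102) L261754
theorem L261760 : sm gh N30860 = N23310 := ded_38_2 (flp_d L198317) (flp_h L136545) (flp_d L124077) L180100 L261754
theorem L261762 : sm gi N21182 = N30861 := rfl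
theorem L261764 : sm gc N30861 = N21193 := ded_33_1 (flp_i L180197) (flp_c L180102) L261762
theorem L261766 : sm gf N30861 = N30861 := ded_48_1 (flp_i L261762) L180104 L261762
theorem L261767 : sm gg N30861 = N21184 := ded_51_1 (flp_i L180116) (flp_g L180105) L261762
theorem L261769 : sm gh N30861 = N21232 := ded_54_1 (flp_i L180537) (flp_h L124354) (flp_i L124079) L180100 L261762
theorem L261771 : sm ge N21183 = N30862 := rfl
theorem L261773 : sm gc N30862 = N30862 := ded_28_1 (flp_e L261771) L180113 L261771
theorem L261774 : sm gj N30862 = N21288 := ded_42_2 (flp_e L181015) (flp_j L180111) L261771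
theorem L261778 : sm gi N21183 = N30863 := rfl
theorem L261780 : sm gc N30863 = N30863 := ded_33_1 (flp_i L261778) L180113 L261778
theorem L261781 : sm gd N30863 = N21184 := ded_39_1 (flp_i L180116) L180107 L261778
theorem L261783 : sm gf N30863 = N21186 := ded_48_1 (flp_i L180134) (flp_f L180109) L261778
theorem L261785 : sm gj N30863 = N21289 := ded_53_1 (flp_i L181020) (flp_j L180111) L261778
theorem L261787 : sm gf N21185 = N30864 := rfl
theorem L261792 : sm gh N30864 = N23314 := ded_47_2 (flp_f L198346) (flp_h L180132) L261787
theorem L261794 : sm gi N21185 = N30865 := rfl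
theorem L261797 : sm ge N30865 = N21186 := ded_44_1 (flp_i L180134) L180126 L261794
theorem L261800 : sm gj N30865 = N21291 := ded_53_1 (flp_i L181032) (flp_j L180130) L261794
theorem L261812 : sm gj N21187 = N30867 := rfl
theorem L261814 : sm gb N30867 = N21194 := ded_24_1 (flp_j L180207) (flp_b L180144) L261812
theorem L261818 : sm gf N30867 = N21188 := ded_46_1 (flp_j L180150) L180142 L261812
theorem L261820 : sm gi N30867 = N21238 := ded_53_2 (flp_j L180588) (flp_i L180147) L261812
theorem L261822 : sm gh N21187 = N30868 := rfl
theorem L261824 : sm gb N30868 = N21195 := ded_25_1 (flp_h L180216) (flp_b L180144) L261822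
theorem L261827 : sm gf N30868 = N21189 := ded_47_1 (flp_h L180161) L180142 L261822
theorem L261829 : sm gh N21188 = N30869 := rfl
theorem L261831 : sm gb N30869 = N21196 := ded_25_1 (flp_h L180222) (flp_b L180152) L261829
theorem L261833 : sm ge N30869 = N21192 := ded_43_1 (flp_h L180187) (flp_e L180155) L261829
theorem L261835 : sm gg N30869 = N21295 := ded_50_1 (flp_h L181067) (flp_g L180159) L261829
theorem L261837 : sm gj N30869 = N21189 := ded_52_1 (flp_h L180161) L180150 L261829
theorem L261839 : sm gd N21189 = N30870 := rfl
theorem L261843 : sm gg N30870 = N21190 := ded_36_2 (flp_d L180169) (flp_g L180167) L261839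
theorem L261847 : sm gi N21189 = N30871 := rfl
theorem L261849 : sm gb N30871 = N21198 := ded_26_1 (flp_i L180238) (flp_b L180163) L261847
theorem L261851 : sm ge N30871 = N21193 := ded_44_1 (flp_i L180197) (flp_e L180165) L261847
theorem L261853 : sm gg N30871 = N21191 := ded_51_1 (flp_i L180177) (flp_g L180167) L261847
theorem L261855 : sm gh N30871 = N21242 := ded_54_1 (flp_i L180622) (flp_h L124412) (flp_i L124114) L180161 L261847
theorem L261857 : sm gc N21190 = N30872 := rfl
theorem L261859 : sm ge N30872 = N30872 := ded_28_2 (flp_c L261857) L180175 L261857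
theorem L261860 : sm gj N30872 = N21298 := ded_31_2 (flp_c L181093) (flp_j L180173) L261857
theorem L261862 : sm gh N30872 = N30872 := ded_32_2 (flp_c L261857) L180176 L261857
theorem L261863 : sm gi N21190 = N30873 := rfl
theorem L261865 : sm gb N30873 = N21200 := ded_26_1 (flp_i L180254) (flp_b L180171) L261863
theorem L261867 : sm gd N30873 = N21191 := ded_39_1 (flp_i L180177) L180169 L261863
theorem L261869 : sm ge N30873 = N30873 := ded_44_1 (flp_i L261863) L180175 L261863
theorem L261870 : sm gj N30873 = N21299 := ded_53_1 (flp_i L181097) (flp_j L180173) L261863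
theorem L261872 : sm gi N21192 = N30874 := rfl
theorem L261874 : sm gb N30874 = N21201 := ded_26_1 (flp_i L180262) (flp_b L180189) L261872
theorem L261876 : sm gd N30874 = N30874 := ded_39_1 (flp_i L261872) L180196 L261872
theorem L261877 : sm gf N30874 = N30874 := ded_48_1 (flp_i L261872) L180191 L261872
theorem L261878 : sm gg N30874 = N21300 := ded_51_1 (flp_i L181104) (flp_g L180192) L261872
theorem L261880 : sm gj N30874 = N21193 := ded_53_1 (flp_i L180197) (flp_j L180194) L261872
theorem L261882 : sm gh N30874 = N21245 := ded_54_1 (flp_i L180647) (flp_h L124437) (flp_i L124131) L180187 L261872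
theorem L261884 : sm gg N21194 = N30875 := rfl
theorem L261891 : sm gf N30875 = N21301 := ded_45_1 (flp_g L181115) L124766 (flp_g L124169) (flp_f L180212) L261884
theorem L261893 : sm gh N21194 = N30876 := rfl
theorem L261901 : sm gd N21195 = N30877 := rfl
theorem L261907 : sm gi N21195 = N30878 := rfl
theorem L261911 : sm gf N30878 = N21198 := ded_48_1 (flp_i L180238) (flp_f L180220) L261907
theorem L261913 : sm gh N30878 = N21249 := ded_54_1 (flp_i L180679) (flp_h L124464) (flp_i L124158) L180216 L261907
theorem L261915 : sm gd N21196 = N30879 := rfl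
theorem L261920 : sm gj N30879 = N21197 := ded_37_2 (flp_d L180231) (flp_j L180229) L261915
theorem L261924 : sm gi N21196 = N30880 := rfl
theorem L261927 : sm ge N30880 = N21201 := ded_44_1 (flp_i L180262) (flp_e L180225) L261924
theorem L261929 : sm gg N30880 = N21306 := ded_51_1 (flp_i L181154) (flp_g L180227) L261924
theorem L261931 : sm gj N30880 = N21198 := ded_53_1 (flp_i L180238) (flp_j L180229) L261924
theorem L261933 : sm gh N30880 = N21251 := ded_54_1 (flp_i L180695) (flp_h L124470) (flp_i L124167) L180222 L261924
theorem L261935 : sm gc N21197 = N30881 := rfl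
theorem L261939 : sm gg N30881 = N21199 := ded_30_2 (flp_c L180247) (flp_g L180234) L261935
theorem L261942 : sm gi N21197 = N30882 := rfl
theorem L261945 : sm gd N30882 = N21198 := ded_39_1 (flp_i L180238) L180231 L261942
theorem L261948 : sm gg N30882 = N21200 := ded_51_1 (flp_i L180254) (flp_g L180234) L261942
theorem L261950 : sm gb N21199 = N30883 := rfl
theorem L261953 : sm gj N30883 = N21309 := ded_24_2 (flp_b L181178) (flp_j L180251) L261950
theorem L261956 : sm gi N21199 = N30884 := rfl
theorem L261959 : sm gc N30884 = N21200 := ded_33_1 (flp_i L180254) L180247 L261956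
theorem L261962 : sm gj N30884 = N21310 := ded_53_1 (flp_i L181182) (flp_j L180251) L261956
theorem L261964 : sm gh N21200 = N30885 := rfl
theorem L261966 : sm ga N30885 = N30885 := ded_17_1 (flp_h L261964) L180256 L261964
theorem L261967 : sm ge N30885 = N30885 := ded_43_1 (flp_h L261964) L180259 L261964
theorem L261968 : sm gj N30885 = N21311 := ded_52_1 (flp_h L181188) (flp_j L180260) L261964
theorem L261970 : sm gd N30885 = N21256 := ded_38_1 (flp_h L180737) L124505 (flp_h L124192) (flp_d L180257) L261964
theorem L261972 : sm gi N30885 = N30885 := ded_54_2 (flp_h L261964) (flp_i L180254) L124184 L180254 L261964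
theorem L261973 : sm gd N21202 = N30886 := rfl
theorem L261975 : sm gb N30886 = N21207 := ded_20_1 (flp_d L180314) (flp_b L180275) L261973
theorem L261977 : sm gj N30886 = N21312 := ded_37_2 (flp_d L181195) (flp_j L180278) L261973
theorem L261981 : sm gg N21202 = N30887 := rfl
theorem L261983 : sm gb N30887 = N21208 := ded_23_1 (flp_g L180323) (flp_b L180275) L261981
theorem L261986 : sm ge N30887 = N21203 := ded_41_1 (flp_g L180280) L180273 L261981
theorem L261988 : sm gh N21202 = N30888 := rfl
theorem L261990 : sm gb N30888 = N21209 := ded_25_1 (flp_h L180331) (flp_b L180275) L261988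
theorem L261995 : sm gj N30888 = N21314 := ded_52_1 (flp_h L181208) (flp_j L180278) L261988
theorem L261997 : sm gj N21203 = N30889 := rfl
theorem L262007 : sm gh N21203 = N30890 := rfl
theorem L262009 : sm gb N30890 = N21211 := ded_25_1 (flp_h L180352) (flp_b L180282) L262007
theorem L262015 : sm gd N21204 = N30891 := rfl
theorem L262019 : sm gf N30891 = N21205 := ded_35_2 (flp_d L180297) (flp_f L180293) L262015
theorem L262025 : sm gi N21204 = N30892 := rfl
theorem L262027 : sm gb N30892 = N21213 := ded_26_1 (flp_i L180373) (flp_b L180290) L262025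
theorem L262032 : sm gj N30892 = N21318 := ded_53_1 (flp_i L181241) (flp_j L180295) L262025
theorem L262053 : sm gi N21205 = N30895 := rfl
theorem L262060 : sm gj N30895 = N21321 := ded_53_1 (flp_i L181265) (flp_j L180302) L262053
theorem L262062 : sm gg N21207 = N30896 := rfl
theorem L262064 : sm ga N30896 = N21223 := ded_15_1 (flp_g L180472) (flp_a L180316) L262062
theorem L262067 : sm gd N30896 = N21208 := ded_36_1 (flp_g L180323) L180314 L262062
theorem L262069 : sm ge N30896 = N23346 := ded_41_1 (flp_g L198637) (flp_e L180321) L262062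
theorem L262071 : sm gh N21207 = N30897 := rfl
theorem L262073 : sm ga N30897 = N21224 := ded_17_1 (flp_h L180479) (flp_a L180316) L262071
theorem L262075 : sm gc N30897 = N30897 := ded_32_1 (flp_h L262071) L180320 L262071
theorem L262076 : sm ge N30897 = N23347 := ded_43_1 (flp_h L198644) (flp_e L180321) L262071
theorem L262078 : sm gj N30897 = N21323 := ded_52_1 (flp_h L181282) (flp_j L180318) L262071
theorem L262080 : sm gf N21208 = N30898 := rfl
theorem L262082 : sm ga N30898 = N21225 := ded_14_1 (flp_f L180486) (flp_a L180325) L262080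
theorem L262084 : sm gc N30898 = N21216 := ded_29_1 (flp_f L180405) (flp_c L180327) L262080
theorem L262086 : sm ge N30898 = N30898 := ded_40_1 (flp_f L262080) L180329 L124245 (flp_e L180329) L262080
theorem L262087 : sm gj N21208 = N30899 := rfl
theorem L262089 : sm ga N30899 = N21226 := ded_16_1 (flp_j L180491) (flp_a L180325) L262087
theorem L262091 : sm gc N30899 = N21217 := ded_31_1 (flp_j L180412) (flp_c L180327) L262087
theorem L262093 : sm ge N30899 = N21210 := ded_42_1 (flp_j L180341) (flp_e L180329) L262087
theorem L262095 : sm gg N30899 = N21325 := ded_49_1 (flp_j L181297) (flp_g L124864) (flp_j L124235) L180323 L262087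
theorem L262097 : sm gh N21208 = N30900 := rfl
theorem L262099 : sm ga N30900 = N21227 := ded_17_1 (flp_h L180499) (flp_a L180325) L262097
theorem L262101 : sm gc N30900 = N21218 := ded_32_1 (flp_h L180422) (flp_c L180327) L262097
theorem L262103 : sm ge N30900 = N21211 := ded_43_1 (flp_h L180352) (flp_e L180329) L262097
theorem L262105 : sm gg N30900 = N21209 := ded_50_1 (flp_h L180331) L180323 L262097
theorem L262107 : sm gd N21209 = N30901 := rfl
theorem L262109 : sm ga N30901 = N21228 := ded_12_1 (flp_d L180507) (flp_a L180333) L262107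
theorem L262111 : sm gj N30901 = N21327 := ded_37_2 (flp_d L181315) (flp_j L180339) L262107
theorem L262113 : sm gi N21209 = N30902 := rfl
theorem L262115 : sm ga N30902 = N21229 := ded_18_1 (flp_i L180511) (flp_a L180333) L262113
theorem L262117 : sm gc N30902 = N21220 := ded_33_1 (flp_i L180441) (flp_c L180335) L262113
theorem L262119 : sm ge N30902 = N21213 := ded_44_1 (flp_i L180373) (flp_e L180337) L262113
theorem L262121 : sm gj N30902 = N21328 := ded_53_1 (flp_i L181319) (flp_j L180339) L262113
theorem L262123 : sm gh N21210 = N30903 := rfl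
theorem L262125 : sm ga N30903 = N21230 := ded_17_1 (flp_h L180519) (flp_a L180343) L262123
theorem L262127 : sm gc N30903 = N21221 := ded_32_1 (flp_h L180450) (flp_c L180345) L262123
theorem L262129 : sm gf N30903 = N30903 := ded_47_1 (flp_h L262123) L180349 L262123
theorem L262130 : sm gg N30903 = N21329 := ded_50_1 (flp_h L181327) (flp_g L180350) L262123
theorem L262132 : sm gj N30903 = N21211 := ded_52_1 (flp_h L180352) L180341 L262123
theorem L262134 : sm gd N21211 = N30904 := rfl
theorem L262136 : sm ga N30904 = N21231 := ded_12_1 (flp_d L180528) (flp_a L180354) L262134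
theorem L262141 : sm gc N30904 = N21847 := ded_27_1 (flp_d L185557) L127796 (flp_d L124311) (flp_c L180356) L262134
theorem L262143 : sm gh N30904 = N23354 := ded_38_2 (flp_d L198709) (flp_h L136808) (flp_d L124243) L180352 L262134
theorem L262145 : sm gi N21211 = N30905 := rfl
theorem L262147 : sm ga N30905 = N21232 := ded_18_1 (flp_i L180537) (flp_a L180354) L262145
theorem L262149 : sm gc N30905 = N21222 := ded_33_1 (flp_i L180462) (flp_c L180356) L262145
theorem L262151 : sm gf N30905 = N30905 := ded_48_1 (flp_i L262145) L180358 L262145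
theorem L262152 : sm gg N30905 = N21213 := ded_51_1 (flp_i L180373) (flp_g L180359) L262145
theorem L262154 : sm ge N21212 = N30906 := rfl
theorem L262156 : sm ga N30906 = N21233 := ded_13_1 (flp_e L180544) (flp_a L180363) L262154
theorem L262158 : sm gc N30906 = N21849 := ded_28_1 (flp_e L185576) (flp_c L180369) L262154
theorem L262160 : sm gj N30906 = N21332 := ded_42_2 (flp_e L181359) (flp_j L180367) L262154
theorem L262164 : sm gi N21212 = N30907 := rfl
theorem L262166 : sm ga N30907 = N21234 := ded_18_1 (flp_i L180552) (flp_a L180363) L262164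
theorem L262170 : sm gd N30907 = N21213 := ded_39_1 (flp_i L180373) L180361 L262164
theorem L262176 : sm gf N21214 = N30908 := rfl
theorem L262178 : sm ga N30908 = N21235 := ded_14_1 (flp_f L180562) (flp_a L180385) L262176
theorem L262180 : sm gc N30908 = N21851 := ded_29_1 (flp_f L185594) (flp_c L180387) L262176
theorem L262186 : sm gi N21214 = N30909 := rfl
theorem L262188 : sm ga N30909 = N21236 := ded_18_1 (flp_i L180570) (flp_a L180385) L262186
theorem L262190 : sm gc N30909 = N21852 := ded_33_1 (flp_i L185603) (flp_c L180387) L262186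
theorem L262192 : sm ge N30909 = N21215 := ded_44_1 (flp_i L180394) L180383 L262186
theorem L262208 : sm gj N21216 = N30911 := rfl
theorem L262210 : sm ga N30911 = N21238 := ded_16_1 (flp_j L180588) (flp_a L180407) L262208
theorem L262212 : sm gb N30911 = N30911 := ded_24_1 (flp_j L262208) L180409 L262208
theorem L262213 : sm gd N30911 = N30911 := ded_37_1 (flp_j L262208) L180410 L262208
theorem L262214 : sm ge N30911 = N30911 := ded_42_1 (flp_j L262208) L180411 L262208
theorem L262215 : sm gf N30911 = N21217 := ded_46_1 (flp_j L180412) L180405 L262208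
theorem L262217 : sm gh N21216 = N30912 := rfl
theorem L262219 : sm ga N30912 = N21239 := ded_17_1 (flp_h L180596) (flp_a L180407) L262217
theorem L262221 : sm gb N30912 = N30912 := ded_25_1 (flp_h L262217) L180409 L262217
theorem L262222 : sm ge N30912 = N30912 := ded_43_1 (flp_h L262217) L180411 L262217
theorem L262223 : sm gf N30912 = N21218 := ded_47_1 (flp_h L180422) L180405 L262217
theorem L262225 : sm gh N21217 = N30913 := rfl
theorem L262227 : sm ga N30913 = N21240 := ded_17_1 (flp_h L180603) (flp_a L180414) L262225
theorem L262229 : sm gb N30913 = N30913 := ded_25_1 (flp_h L262225) L180416 L262225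
theorem L262230 : sm ge N30913 = N21221 := ded_43_1 (flp_h L180450) (flp_e L180418) L262225
theorem L262232 : sm gg N30913 = N21339 := ded_50_1 (flp_h L181424) (flp_g L180420) L262225
theorem L262234 : sm gj N30913 = N21218 := ded_52_1 (flp_h L180422) L180412 L262225
theorem L262236 : sm gd N21218 = N30914 := rfl
theorem L262238 : sm ga N30914 = N21241 := ded_12_1 (flp_d L180613) (flp_a L180424) L262236
theorem L262240 : sm gb N30914 = N30914 := ded_20_1 (flp_d L262236) L180426 L262236
theorem L262241 : sm gg N30914 = N21219 := ded_36_2 (flp_d L180431) (flp_g L180429) L262236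
theorem L262243 : sm ge N30914 = N21857 := ded_34_2 (flp_d L185653) L127866 (flp_d L124311) (flp_e L180427) L262236
theorem L262245 : sm gh N30914 = N30914 := ded_38_2 (flp_d L262236) (flp_h L180422) L124281 L180422 L262236
theorem L262246 : sm gi N21218 = N30915 := rfl
theorem L262248 : sm ga N30915 = N21242 := ded_18_1 (flp_i L180622) (flp_a L180424) L262246
theorem L262250 : sm gb N30915 = N30915 := ded_26_1 (flp_i L262246) L180426 L262246
theorem L262251 : sm ge N30915 = N21222 := ded_44_1 (flp_i L180462) (flp_e L180427) L262246
theorem L262253 : sm gg N30915 = N21220 := ded_51_1 (flp_i L180441) (flp_g L180429) L262246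
theorem L262255 : sm gc N21219 = N30916 := rfl
theorem L262257 : sm ga N30916 = N21243 := ded_11_1 (flp_c L180630) (flp_a L180433) L262255
theorem L262259 : sm ge N30916 = N21859 := ded_28_2 (flp_c L185671) (flp_e L180438) L262255
theorem L262261 : sm gj N30916 = N21342 := ded_31_2 (flp_c L181452) (flp_j L180436) L262255
theorem L262263 : sm gh N30916 = N30916 := ded_32_2 (flp_c L262255) L180440 L262255
theorem L262264 : sm gi N21219 = N30917 := rfl
theorem L262266 : sm ga N30917 = N21244 := ded_18_1 (flp_i L180637) (flp_a L180433) L262264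
theorem L262268 : sm gb N30917 = N30917 := ded_26_1 (flp_i L262264) L180435 L262264
theorem L262269 : sm gd N30917 = N21220 := ded_39_1 (flp_i L180441) L180431 L262264
theorem L262271 : sm ge N30917 = N21860 := ded_44_1 (flp_i L185679) (flp_e L180438) L262264
theorem L262273 : sm gj N30917 = N21343 := ded_53_1 (flp_i L181459) (flp_j L180436) L262264
theorem L262275 : sm gi N21221 = N30918 := rfl
theorem L262277 : sm ga N30918 = N21245 := ded_18_1 (flp_i L180647) (flp_a L180452) L262275
theorem L262279 : sm gb N30918 = N30918 := ded_26_1 (flp_i L262275) L180454 L262275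
theorem L262280 : sm gd N30918 = N21861 := ded_39_1 (flp_i L185689) (flp_d L180460) L262275
theorem L262282 : sm gf N30918 = N30918 := ded_48_1 (flp_i L262275) L180455 L262275
theorem L262283 : sm gg N30918 = N21344 := ded_51_1 (flp_i L181468) (flp_g L180456) L262275
theorem L262285 : sm gj N30918 = N21222 := ded_53_1 (flp_i L180462) (flp_j L180458) L262275
theorem L262287 : sm gf N21223 = N30919 := rfl
theorem L262289 : sm gc N30919 = N30919 := ded_29_1 (flp_f L262287) L180474 L262287
theorem L262290 : sm gd N30919 = N21225 := ded_35_1 (flp_f L180486) (flp_d L180475) L262287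
theorem L262292 : sm gj N21223 = N30920 := rfl
theorem L262295 : sm gd N30920 = N21226 := ded_37_1 (flp_j L180491) (flp_d L180475) L262292
theorem L262299 : sm gg N30920 = N21346 := ded_49_1 (flp_j L181484) (flp_g L125000) (flp_j L124326) L180472 L262292
theorem L262301 : sm gh N21223 = N30921 := rfl
theorem L262306 : sm gg N30921 = N21224 := ded_50_1 (flp_h L180479) L180472 L262301
theorem L262308 : sm gd N21224 = N30922 := rfl
theorem L262310 : sm gj N30922 = N21348 := ded_37_2 (flp_d L181498) (flp_j L180484) L262308
theorem L262312 : sm gh N30922 = N21228 := ded_38_2 (flp_d L180507) (flp_h L124337) L124324 L180479 L262308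
theorem L262314 : sm gi N21224 = N30923 := rfl
theorem L262316 : sm gc N30923 = N30923 := ded_33_1 (flp_i L262314) L180481 L262314
theorem L262317 : sm ge N30923 = N23373 := ded_44_1 (flp_i L198891) (flp_e L180482) L262314
theorem L262319 : sm gj N30923 = N21349 := ded_53_1 (flp_i L181502) (flp_j L180484) L262314
theorem L262321 : sm gj N21225 = N30924 := rfl
theorem L262323 : sm gc N30924 = N21238 := ded_31_1 (flp_j L180588) (flp_c L180488) L262321
theorem L262325 : sm ge N30924 = N30924 := ded_42_1 (flp_j L262321) L180490 L262321
theorem L262326 : sm gf N30924 = N21226 := ded_46_1 (flp_j L180491) L180486 L262321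
theorem L262328 : sm gh N21225 = N30925 := rfl
theorem L262330 : sm gc N30925 = N21239 := ded_32_1 (flp_h L180596) (flp_c L180488) L262328
theorem L262332 : sm ge N30925 = N30925 := ded_43_1 (flp_h L262328) L180490 L262328
theorem L262333 : sm gf N30925 = N21227 := ded_47_1 (flp_h L180499) L180486 L262328
theorem L262335 : sm gh N21226 = N30926 := rfl
theorem L262337 : sm gc N30926 = N21240 := ded_32_1 (flp_h L180603) (flp_c L180493) L262335
theorem L262339 : sm ge N30926 = N21230 := ded_43_1 (flp_h L180519) (flp_e L180495) L262335
theorem L262341 : sm gg N30926 = N21352 := ded_50_1 (flp_h L181523) (flp_g L180497) L262335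
theorem L262343 : sm gj N30926 = N21227 := ded_52_1 (flp_h L180499) L180491 L262335
theorem L262345 : sm gd N21227 = N30927 := rfl
theorem L262347 : sm gg N30927 = N21228 := ded_36_2 (flp_d L180507) (flp_g L180505) L262345
theorem L262349 : sm gi N21227 = N30928 := rfl
theorem L262351 : sm gc N30928 = N21242 := ded_33_1 (flp_i L180622) (flp_c L180501) L262349
theorem L262353 : sm ge N30928 = N21232 := ded_44_1 (flp_i L180537) (flp_e L180503) L262349
theorem L262355 : sm gg N30928 = N21229 := ded_51_1 (flp_i L180511) (flp_g L180505) L262349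
theorem L262357 : sm gc N21228 = N30929 := rfl
theorem L262359 : sm gj N30929 = N21355 := ded_31_2 (flp_c L181543) (flp_j L180509) L262357
theorem L262361 : sm gd N30929 = N21243 := ded_27_2 (flp_c L180630) (flp_d L124420) (flp_c L124339) L180507 L262357
theorem L262363 : sm ge N21228 = N30930 := rfl
theorem L262365 : sm gj N30930 = N21356 := ded_42_2 (flp_e L181547) (flp_j L180509) L262363
theorem L262367 : sm gd N30930 = N21233 := ded_34_1 (flp_e L180544) (flp_d L124361) (flp_e L124341) L180507 L262363
theorem L262369 : sm gi N21228 = N30931 := rfl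
theorem L262371 : sm gd N30931 = N21229 := ded_39_1 (flp_i L180511) L180507 L262369
theorem L262373 : sm gj N30931 = N21357 := ded_53_1 (flp_i L181551) (flp_j L180509) L262369
theorem L262375 : sm gd N21230 = N30932 := rfl
theorem L262378 : sm gg N30932 = N21358 := ded_36_2 (flp_d L181555) (flp_g L180524) L262375
theorem L262380 : sm gj N30932 = N21231 := ded_37_2 (flp_d L180528) (flp_j L180526) L262375
theorem L262382 : sm gc N30932 = N21875 := ded_27_1 (flp_d L185811) L127974 (flp_d L124446) (flp_c L180521) L262375
theorem L262384 : sm gh N30932 = N23382 := ded_38_2 (flp_d L198954) (flp_h L136982) (flp_d L124349) L180519 L262375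
theorem L262386 : sm gi N21230 = N30933 := rfl
theorem L262388 : sm gc N30933 = N21245 := ded_33_1 (flp_i L180647) (flp_c L180521) L262386
theorem L262390 : sm gf N30933 = N30933 := ded_48_1 (flp_i L262386) L180523 L262386
theorem L262391 : sm gg N30933 = N21359 := ded_51_1 (flp_i L181565) (flp_g L180524) L262386
theorem L262393 : sm gj N30933 = N21232 := ded_53_1 (flp_i L180537) (flp_j L180526) L262386
theorem L262395 : sm ge N21231 = N30934 := rfl
theorem L262397 : sm gc N30934 = N21877 := ded_28_1 (flp_e L185832) (flp_c L180533) L262395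
theorem L262399 : sm gg N30934 = N21233 := ded_41_2 (flp_e L180544) (flp_g L180531) L262395
theorem L262401 : sm gh N30934 = N23384 := ded_43_2 (flp_e L198972) (flp_h L180535) L262395
theorem L262403 : sm gi N21231 = N30935 := rfl
theorem L262405 : sm gc N30935 = N21878 := ded_33_1 (flp_i L185839) (flp_c L180533) L262403
theorem L262407 : sm gd N30935 = N21232 := ded_39_1 (flp_i L180537) L180528 L262403
theorem L262409 : sm gf N30935 = N30935 := ded_48_1 (flp_i L262403) L180530 L262403
theorem L262410 : sm gg N30935 = N21234 := ded_51_1 (flp_i L180552) (flp_g L180531) L262403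
theorem L262412 : sm gf N21233 = N30936 := rfl
theorem L262414 : sm gc N30936 = N21879 := ded_29_1 (flp_f L185847) (flp_c L180546) L262412
theorem L262416 : sm gj N30936 = N21362 := ded_46_2 (flp_f L181591) (flp_j L180548) L262412
theorem L262418 : sm gh N30936 = N23386 := ded_47_2 (flp_f L198987) (flp_h L180550) L262412
theorem L262420 : sm ge N30936 = N21235 := ded_40_1 (flp_f L180562) (flp_e L124379) (flp_f L124363) L180544 L262412
theorem L262422 : sm gi N21233 = N30937 := rfl
theorem L262424 : sm gc N30937 = N21880 := ded_33_1 (flp_i L185856) (flp_c L180546) L262422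
theorem L262426 : sm ge N30937 = N21234 := ded_44_1 (flp_i L180552) L180544 L262422
theorem L262428 : sm gj N30937 = N21363 := ded_53_1 (flp_i L181599) (flp_j L180548) L262422
theorem L262430 : sm gh N21234 = N30938 := rfl
theorem L262432 : sm gc N30938 = N21881 := ded_32_1 (flp_h L185863) (flp_c L180554) L262430
theorem L262434 : sm gf N30938 = N21237 := ded_47_1 (flp_h L180579) (flp_f L180558) L262430
theorem L262438 : sm gi N30938 = N23388 := ded_54_2 (flp_h L199003) (flp_i L137011) (flp_h L124369) L180552 L262430
theorem L262440 : sm gg N21235 = N30939 := rfl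
theorem L262442 : sm gc N30939 = N21882 := ded_30_1 (flp_g L185873) (flp_c L180564) L262440
theorem L262444 : sm gh N30939 = N23389 := ded_50_2 (flp_g L199011) (flp_h L180568) L262440
theorem L262446 : sm gf N30939 = N30939 := ded_45_1 (flp_g L262440) (flp_f L180562) L124383 L180562 L262440
theorem L262447 : sm gi N21235 = N30940 := rfl
theorem L262449 : sm gc N30940 = N21883 := ded_33_1 (flp_i L185880) (flp_c L180564) L262447
theorem L262451 : sm gf N30940 = N21236 := ded_48_1 (flp_i L180570) L180562 L262447
theorem L262453 : sm gj N30940 = N21366 := ded_53_1 (flp_i L181621) (flp_j L180566) L262447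
theorem L262455 : sm gh N21236 = N30941 := rfl
theorem L262466 : sm gg N21238 = N30942 := rfl
theorem L262468 : sm gb N30942 = N21246 := ded_23_1 (flp_g L180658) (flp_b L180590) L262466
theorem L262470 : sm gd N30942 = N30942 := ded_36_1 (flp_g L262466) L180592 L262466
theorem L262471 : sm ge N30942 = N30942 := ded_41_1 (flp_g L262466) L180593 L262466
theorem L262472 : sm gf N30942 = N21368 := ded_45_1 (flp_g L181637) L125109 (flp_g L124410) (flp_f L180594) L262466
theorem L262474 : sm gh N21238 = N30943 := rfl
theorem L262476 : sm gb N30943 = N21247 := ded_25_1 (flp_h L180665) (flp_b L180590) L262474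
theorem L262478 : sm ge N30943 = N30943 := ded_43_1 (flp_h L262474) L180593 L262474
theorem L262479 : sm gf N30943 = N21240 := ded_47_1 (flp_h L180603) (flp_f L180594) L262474
theorem L262481 : sm gj N30943 = N21239 := ded_52_1 (flp_h L180596) L180588 L262474
theorem L262483 : sm gd N21239 = N30944 := rfl
theorem L262485 : sm gb N30944 = N21248 := ded_20_1 (flp_d L180673) (flp_b L180598) L262483
theorem L262487 : sm gf N30944 = N21241 := ded_35_2 (flp_d L180613) (flp_f L180601) L262483
theorem L262489 : sm gh N30944 = N30944 := ded_38_2 (flp_d L262483) (flp_h L180596) L124401 L180596 L262483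
theorem L262490 : sm gi N21239 = N30945 := rfl
theorem L262492 : sm gb N30945 = N21249 := ded_26_1 (flp_i L180679) (flp_b L180598) L262490
theorem L262494 : sm ge N30945 = N30945 := ded_44_1 (flp_i L262490) L180600 L262490
theorem L262495 : sm gf N30945 = N21242 := ded_48_1 (flp_i L180622) (flp_f L180601) L262490
theorem L262497 : sm gd N21240 = N30946 := rfl
theorem L262499 : sm gb N30946 = N21250 := ded_20_1 (flp_d L180685) (flp_b L180605) L262497
theorem L262501 : sm gg N30946 = N21372 := ded_36_2 (flp_d L181669) (flp_g L180609) L262497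
theorem L262503 : sm gj N30946 = N21241 := ded_37_2 (flp_d L180613) (flp_j L180611) L262497
theorem L262505 : sm ge N30946 = N21889 := ded_34_2 (flp_d L185934) L128061 (flp_d L124446) (flp_e L180607) L262497
theorem L262507 : sm gh N30946 = N30946 := ded_38_2 (flp_d L262497) (flp_h L180603) L124407 L180603 L262497
theorem L262508 : sm gi N21240 = N30947 := rfl
theorem L262510 : sm gb N30947 = N21251 := ded_26_1 (flp_i L180695) (flp_b L180605) L262508
theorem L262512 : sm ge N30947 = N21245 := ded_44_1 (flp_i L180647) (flp_e L180607) L262508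
theorem L262514 : sm gg N30947 = N21373 := ded_51_1 (flp_i L181678) (flp_g L180609) L262508
theorem L262516 : sm gj N30947 = N21242 := ded_53_1 (flp_i L180622) (flp_j L180611) L262508
theorem L262518 : sm gc N21241 = N30948 := rfl
theorem L262520 : sm ge N30948 = N21891 := ded_28_2 (flp_c L185954) (flp_e L180619) L262518
theorem L262522 : sm gg N30948 = N21243 := ded_30_2 (flp_c L180630) (flp_g L180617) L262518
theorem L262524 : sm gh N30948 = N30948 := ded_32_2 (flp_c L262518) L180621 L262518
theorem L262525 : sm gi N21241 = N30949 := rfl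
theorem L262527 : sm gb N30949 = N21253 := ded_26_1 (flp_i L180712) (flp_b L180615) L262525
theorem L262529 : sm gd N30949 = N21242 := ded_39_1 (flp_i L180622) L180613 L262525
theorem L262531 : sm ge N30949 = N21892 := ded_44_1 (flp_i L185959) (flp_e L180619) L262525
theorem L262533 : sm gg N30949 = N21244 := ded_51_1 (flp_i L180637) (flp_g L180617) L262525
theorem L262535 : sm gb N21243 = N30950 := rfl
theorem L262537 : sm ge N30950 = N21893 := ded_21_2 (flp_b L185967) (flp_e L180632) L262535
theorem L262539 : sm gj N30950 = N21376 := ded_24_2 (flp_b L181703) (flp_j L180634) L262535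
theorem L262541 : sm gh N30950 = N30950 := ded_25_2 (flp_b L262535) L180636 L262535
theorem L262542 : sm gc N30950 = N21254 := ded_19_2 (flp_b L180721) (flp_c L124494) (flp_b L124422) L180630 L262535
theorem L262544 : sm gi N21243 = N30951 := rfl
theorem L262546 : sm gc N30951 = N21244 := ded_33_1 (flp_i L180637) L180630 L262544
theorem L262548 : sm ge N30951 = N21894 := ded_44_1 (flp_i L185975) (flp_e L180632) L262544
theorem L262550 : sm gj N30951 = N21377 := ded_53_1 (flp_i L181710) (flp_j L180634) L262544
theorem L262552 : sm gh N21244 = N30952 := rfl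
theorem L262554 : sm gb N30952 = N21256 := ded_25_1 (flp_h L180737) (flp_b L180639) L262552
theorem L262556 : sm ge N30952 = N21895 := ded_43_1 (flp_h L185982) (flp_e L180643) L262552
theorem L262558 : sm gj N30952 = N21378 := ded_52_1 (flp_h L181716) (flp_j L180645) L262552
theorem L262560 : sm gi N30952 = N30952 := ded_54_2 (flp_h L262552) (flp_i L180637) L124428 L180637 L262552
theorem L262561 : sm gh N21246 = N30953 := rfl
theorem L262563 : sm ga N30953 = N30953 := ded_17_1 (flp_h L262561) L180660 L262561
theorem L262564 : sm ge N30953 = N30953 := ded_43_1 (flp_h L262561) L180662 L262561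
theorem L262565 : sm gf N30953 = N21379 := ded_47_1 (flp_h L181723) (flp_f L180663) L262561
theorem L262567 : sm gg N30953 = N21247 := ded_50_1 (flp_h L180665) L180658 L262561
theorem L262569 : sm gd N21247 = N30954 := rfl
theorem L262571 : sm ga N30954 = N30954 := ded_12_1 (flp_d L262569) L180667 L262569
theorem L262572 : sm gf N30954 = N21250 := ded_35_2 (flp_d L180685) (flp_f L180669) L262569
theorem L262574 : sm gj N30954 = N21248 := ded_37_2 (flp_d L180673) (flp_j L180671) L262569
theorem L262576 : sm gh N30954 = N30954 := ded_38_2 (flp_d L262569) (flp_h L180665) L124460 L180665 L262569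
theorem L262577 : sm gi N21247 = N30955 := rfl
theorem L262581 : sm gf N30955 = N21251 := ded_48_1 (flp_i L180695) (flp_f L180669) L262577
theorem L262583 : sm gj N30955 = N21249 := ded_53_1 (flp_i L180679) (flp_j L180671) L262577
theorem L262585 : sm gc N21248 = N30956 := rfl
theorem L262588 : sm gf N30956 = N21252 := ded_29_2 (flp_c L180704) (flp_f L180676) L262585
theorem L262591 : sm ge N21248 = N30957 := rfl
theorem L262593 : sm ga N30957 = N30957 := ded_13_1 (flp_e L262591) L180675 L262591
theorem L262594 : sm gh N30957 = N30957 := ded_43_2 (flp_e L262591) L180678 L262591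
theorem L262595 : sm gd N30957 = N30957 := ded_34_1 (flp_e L262591) (flp_d L180673) L124467 L180673 L262591
theorem L262596 : sm gf N30957 = N21900 := ded_40_2 (flp_e L186027) L128130 (flp_e L124484) (flp_f L180676) L262591
theorem L262598 : sm gi N21248 = N30958 := rfl
theorem L262600 : sm ga N30958 = N30958 := ded_18_1 (flp_i L262598) L180675 L262598
theorem L262601 : sm gd N30958 = N21249 := ded_39_1 (flp_i L180679) L180673 L262598
theorem L262603 : sm gf N30958 = N21253 := ded_48_1 (flp_i L180712) (flp_f L180676) L262598
theorem L262605 : sm gc N21250 = N30959 := rfl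
theorem L262607 : sm ga N30959 = N30959 := ded_11_1 (flp_c L262605) L180687 L262605
theorem L262608 : sm ge N30959 = N21902 := ded_28_2 (flp_c L186041) (flp_e L180692) L262605
theorem L262610 : sm gg N30959 = N21385 := ded_30_2 (flp_c L181768) (flp_g L180688) L262605
theorem L262612 : sm gj N30959 = N21252 := ded_31_2 (flp_c L180704) (flp_j L180690) L262605
theorem L262614 : sm gh N30959 = N30959 := ded_32_2 (flp_c L262605) L180694 L262605
theorem L262615 : sm gi N21250 = N30960 := rfl
theorem L262617 : sm ga N30960 = N30960 := ded_18_1 (flp_i L262615) L180687 L262615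
theorem L262618 : sm gd N30960 = N21251 := ded_39_1 (flp_i L180695) L180685 L262615
theorem L262620 : sm ge N30960 = N21903 := ded_44_1 (flp_i L186050) (flp_e L180692) L262615
theorem L262622 : sm gg N30960 = N21386 := ded_51_1 (flp_i L181776) (flp_g L180688) L262615
theorem L262624 : sm gj N30960 = N21253 := ded_53_1 (flp_i L180712) (flp_j L180690) L262615
theorem L262626 : sm gb N21252 = N30961 := rfl
theorem L262628 : sm ge N30961 = N21904 := ded_21_2 (flp_b L186059) (flp_e L180707) L262626
theorem L262630 : sm gg N30961 = N21254 := ded_23_2 (flp_b L180721) (flp_g L180709) L262626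
theorem L262632 : sm gh N30961 = N30961 := ded_25_2 (flp_b L262626) L180711 L262626
theorem L262633 : sm gi N21252 = N30962 := rfl
theorem L262635 : sm ga N30962 = N30962 := ded_18_1 (flp_i L262633) L180706 L262633
theorem L262636 : sm gc N30962 = N21253 := ded_33_1 (flp_i L180712) L180704 L262633
theorem L262638 : sm ge N30962 = N21905 := ded_44_1 (flp_i L186065) (flp_e L180707) L262633
theorem L262640 : sm gg N30962 = N21255 := ded_51_1 (flp_i L180728) (flp_g L180709) L262633
theorem L262642 : sm gh N21253 = N30963 := rfl
theorem L262644 : sm ga N30963 = N30963 := ded_17_1 (flp_h L262642) L180714 L262642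
theorem L262645 : sm ge N30963 = N21906 := ded_43_1 (flp_h L186073) (flp_e L180717) L262642
theorem L262647 : sm gg N30963 = N21256 := ded_50_1 (flp_h L180737) (flp_g L180719) L262642
theorem L262649 : sm gi N30963 = N30963 := ded_54_2 (flp_h L262642) (flp_i L180712) L124486 L180712 L262642
theorem L262650 : sm ga N21254 = N30964 := rfl
theorem L262652 : sm ge N30964 = N21907 := ded_13_2 (flp_a L186080) (flp_e L180723) L262650
theorem L262654 : sm gj N30964 = N21390 := ded_16_2 (flp_a L181809) (flp_j L180725) L262650
theorem L262656 : sm gh N30964 = N30964 := ded_17_2 (flp_a L262650) L180727 L262650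
theorem L262657 : sm gb N30964 = N30964 := ded_10_2 (flp_a L262650) (flp_b L180721) L124496 L180721 L262650
theorem L262658 : sm gi N21254 = N30965 := rfl
theorem L262660 : sm gb N30965 = N21255 := ded_26_1 (flp_i L180728) L180721 L262658
theorem L262662 : sm ge N30965 = N21908 := ded_44_1 (flp_i L186088) (flp_e L180723) L262658
theorem L262664 : sm gj N30965 = N21391 := ded_53_1 (flp_i L181815) (flp_j L180725) L262658
theorem L262666 : sm gh N21255 = N30966 := rfl
theorem L262668 : sm ga N30966 = N30966 := ded_17_1 (flp_h L262666) L180730 L262666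
theorem L262669 : sm gc N30966 = N21256 := ded_32_1 (flp_h L180737) (flp_c L180731) L262666
theorem L262671 : sm ge N30966 = N21909 := ded_43_1 (flp_h L186096) (flp_e L180733) L262666
theorem L262673 : sm gj N30966 = N21392 := ded_52_1 (flp_h L181821) (flp_j L180735) L262666
theorem L262675 : sm gi N30966 = N30966 := ded_54_2 (flp_h L262666) (flp_i L180728) L124501 L180728 L262666
theorem L262676 : sm gd N21257 = N30967 := rfl
theorem L262678 : sm gb N30967 = N21262 := ded_20_1 (flp_d L180787) (flp_b L180747) L262676
theorem L262682 : sm ge N30967 = N23417 := ded_34_2 (flp_d L199270) (flp_e L137221) (flp_d L124526) L180745 L262676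
theorem L262684 : sm gg N21257 = N30968 := rfl
theorem L262686 : sm gb N30968 = N21263 := ded_23_1 (flp_g L180796) (flp_b L180747) L262684
theorem L262688 : sm gc N30968 = N30968 := ded_30_1 (flp_g L262684) L180749 L262684
theorem L262689 : sm ge N30968 = N21258 := ded_41_1 (flp_g L180752) L180745 L262684
theorem L262691 : sm gi N30968 = N21313 := ded_51_2 (flp_g L181201) (flp_i L180750) L262684
theorem L262693 : sm gh N21257 = N30969 := rfl
theorem L262695 : sm gb N30969 = N21264 := ded_25_1 (flp_h L180806) (flp_b L180747) L262693
theorem L262698 : sm ge N30969 = N21259 := ded_43_1 (flp_h L180763) L180745 L262693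
theorem L262700 : sm gj N21258 = N30970 := rfl
theorem L262702 : sm gb N30970 = N21265 := ded_24_1 (flp_j L180814) (flp_b L180754) L262700
theorem L262707 : sm gf N30970 = N21396 := ded_46_1 (flp_j L181855) (flp_f L180761) L262700
theorem L262709 : sm gi N30970 = N21315 := ded_53_2 (flp_j L181215) (flp_i L180759) L262700
theorem L262711 : sm gh N21258 = N30971 := rfl
theorem L262713 : sm gb N30971 = N21266 := ded_25_1 (flp_h L180826) (flp_b L180754) L262711
theorem L262716 : sm gf N30971 = N21397 := ded_47_1 (flp_h L181865) (flp_f L180761) L262711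
theorem L262718 : sm gg N30971 = N21259 := ded_50_1 (flp_h L180763) L180752 L262711
theorem L262728 : sm gi N21259 = N30973 := rfl
theorem L262730 : sm gb N30973 = N21268 := ded_26_1 (flp_i L180845) (flp_b L180765) L262728
theorem L262733 : sm gf N30973 = N21261 := ded_48_1 (flp_i L180778) (flp_f L180768) L262728
theorem L262735 : sm gh N30973 = N21318 := ded_54_1 (flp_i L181241) (flp_h L124835) (flp_i L124528) L180763 L262728
theorem L262761 : sm gg N21262 = N30977 := rfl
theorem L262763 : sm ga N30977 = N21278 := ded_15_1 (flp_g L180940) (flp_a L180789) L262761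
theorem L262765 : sm gc N30977 = N30977 := ded_30_1 (flp_g L262761) L180793 L262761
theorem L262766 : sm gd N30977 = N21263 := ded_36_1 (flp_g L180796) L180787 L262761
theorem L262768 : sm ge N30977 = N23427 := ded_41_1 (flp_g L199354) (flp_e L180794) L262761
theorem L262770 : sm gi N30977 = N21322 := ded_51_2 (flp_g L181273) (flp_i L180791) L262761
theorem L262772 : sm gh N21262 = N30978 := rfl
theorem L262774 : sm ga N30978 = N21279 := ded_17_1 (flp_h L180949) (flp_a L180789) L262772
theorem L262776 : sm gc N30978 = N30978 := ded_32_1 (flp_h L262772) L180793 L262772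
theorem L262777 : sm ge N30978 = N23428 := ded_43_1 (flp_h L199363) (flp_e L180794) L262772
theorem L262779 : sm gf N21263 = N30979 := rfl
theorem L262781 : sm ga N30979 = N21280 := ded_14_1 (flp_f L180954) (flp_a L180798) L262779
theorem L262783 : sm gc N30979 = N21271 := ded_29_1 (flp_f L180873) (flp_c L180800) L262779
theorem L262785 : sm gi N30979 = N21324 := ded_48_2 (flp_f L181289) (flp_i L180804) L262779
theorem L262787 : sm ge N30979 = N21405 := ded_40_1 (flp_f L181933) L125302 (flp_f L124555) (flp_e L180802) L262779
theorem L262789 : sm gj N21263 = N30980 := rfl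
theorem L262791 : sm ga N30980 = N21281 := ded_16_1 (flp_j L180962) (flp_a L180798) L262789
theorem L262793 : sm gc N30980 = N21272 := ded_31_1 (flp_j L180883) (flp_c L180800) L262789
theorem L262795 : sm ge N30980 = N21265 := ded_42_1 (flp_j L180814) (flp_e L180802) L262789
theorem L262797 : sm gi N30980 = N21325 := ded_53_2 (flp_j L181297) (flp_i L180804) L262789
theorem L262799 : sm gh N21263 = N30981 := rfl
theorem L262801 : sm ga N30981 = N21282 := ded_17_1 (flp_h L180970) (flp_a L180798) L262799
theorem L262803 : sm gc N30981 = N21273 := ded_32_1 (flp_h L180893) (flp_c L180800) L262799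
theorem L262805 : sm ge N30981 = N21266 := ded_43_1 (flp_h L180826) (flp_e L180802) L262799
theorem L262807 : sm gg N30981 = N21264 := ded_50_1 (flp_h L180806) L180796 L262799
theorem L262809 : sm gd N21264 = N30982 := rfl
theorem L262811 : sm ga N30982 = N21283 := ded_12_1 (flp_d L180978) (flp_a L180808) L262809
theorem L262813 : sm gi N21264 = N30983 := rfl
theorem L262815 : sm ga N30983 = N21284 := ded_18_1 (flp_i L180980) (flp_a L180808) L262813
theorem L262817 : sm gc N30983 = N21275 := ded_33_1 (flp_i L180909) (flp_c L180810) L262813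
theorem L262819 : sm ge N30983 = N21268 := ded_44_1 (flp_i L180845) (flp_e L180812) L262813
theorem L262821 : sm gh N30983 = N21328 := ded_54_1 (flp_i L181319) (flp_h L124872) (flp_i L124543) L180806 L262813
theorem L262823 : sm gh N21265 = N30984 := rfl
theorem L262825 : sm ga N30984 = N21285 := ded_17_1 (flp_h L180988) (flp_a L180816) L262823
theorem L262827 : sm gc N30984 = N21276 := ded_32_1 (flp_h L180918) (flp_c L180818) L262823
theorem L262829 : sm gf N30984 = N21410 := ded_47_1 (flp_h L181978) (flp_f L180822) L262823
theorem L262831 : sm gj N30984 = N21266 := ded_52_1 (flp_h L180826) L180814 L262823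
theorem L262833 : sm gd N21266 = N30985 := rfl
theorem L262835 : sm ga N30985 = N21286 := ded_12_1 (flp_d L180996) (flp_a L180828) L262833
theorem L262842 : sm gh N30985 = N23435 := ded_38_2 (flp_d L199426) (flp_h L137302) (flp_d L124551) L180826 L262833
theorem L262844 : sm gi N21266 = N30986 := rfl
theorem L262846 : sm ga N30986 = N21287 := ded_18_1 (flp_i L181005) (flp_a L180828) L262844
theorem L262848 : sm gc N30986 = N21277 := ded_33_1 (flp_i L180928) (flp_c L180830) L262844
theorem L262850 : sm gf N30986 = N21412 := ded_48_1 (flp_i L181996) (flp_f L180832) L262844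
theorem L262852 : sm gg N30986 = N21268 := ded_51_1 (flp_i L180845) (flp_g L180834) L262844
theorem L262854 : sm gh N30986 = N21331 := ded_54_1 (flp_i L181349) (flp_h L124890) (flp_i L124553) L180826 L262844
theorem L262863 : sm gi N21267 = N30988 := rfl
theorem L262865 : sm ga N30988 = N21289 := ded_18_1 (flp_i L181020) (flp_a L180838) L262863
theorem L262868 : sm gd N30988 = N21268 := ded_39_1 (flp_i L180845) L180836 L262863
theorem L262872 : sm gf N21269 = N30989 := rfl
theorem L262877 : sm gh N30989 = N23439 := ded_47_2 (flp_f L199461) (flp_h L180862) L262872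
theorem L262899 : sm gj N21271 = N30992 := rfl
theorem L262901 : sm ga N30992 = N21293 := ded_16_1 (flp_j L181048) (flp_a L180875) L262899
theorem L262903 : sm gb N30992 = N30992 := ded_24_1 (flp_j L262899) L180877 L262899
theorem L262904 : sm gd N30992 = N30992 := ded_37_1 (flp_j L262899) L180878 L262899
theorem L262905 : sm ge N30992 = N21418 := ded_42_1 (flp_j L182050) (flp_e L180881) L262899
theorem L262907 : sm gf N30992 = N21272 := ded_46_1 (flp_j L180883) L180873 L262899
theorem L262909 : sm gi N30992 = N21337 := ded_53_2 (flp_j L181405) (flp_i L180879) L262899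
theorem L262911 : sm gh N21271 = N30993 := rfl
theorem L262913 : sm ga N30993 = N21294 := ded_17_1 (flp_h L181059) (flp_a L180875) L262911
theorem L262915 : sm gb N30993 = N30993 := ded_25_1 (flp_h L262911) L180877 L262911
theorem L262916 : sm ge N30993 = N21419 := ded_43_1 (flp_h L182061) (flp_e L180881) L262911
theorem L262918 : sm gf N30993 = N21273 := ded_47_1 (flp_h L180893) L180873 L262911
theorem L262920 : sm gh N21272 = N30994 := rfl
theorem L262922 : sm ga N30994 = N21295 := ded_17_1 (flp_h L181067) (flp_a L180885) L262920
theorem L262924 : sm gb N30994 = N30994 := ded_25_1 (flp_h L262920) L180887 L262920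
theorem L262925 : sm ge N30994 = N21276 := ded_43_1 (flp_h L180918) (flp_e L180889) L262920
theorem L262927 : sm gj N30994 = N21273 := ded_52_1 (flp_h L180893) L180883 L262920
theorem L262929 : sm gd N21273 = N30995 := rfl
theorem L262931 : sm ga N30995 = N21296 := ded_12_1 (flp_d L181075) (flp_a L180895) L262929
theorem L262933 : sm gb N30995 = N30995 := ded_20_1 (flp_d L262929) L180897 L262929
theorem L262934 : sm gg N30995 = N21274 := ded_36_2 (flp_d L180902) (flp_g L180900) L262929
theorem L262936 : sm ge N30995 = N30995 := ded_34_2 (flp_d L262929) L180898 L124621 (flp_e L180898) L262929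
theorem L262937 : sm gh N30995 = N30995 := ded_38_2 (flp_d L262929) (flp_h L180893) L124589 L180893 L262929
theorem L262938 : sm gi N21273 = N30996 := rfl
theorem L262940 : sm ga N30996 = N21297 := ded_18_1 (flp_i L181083) (flp_a L180895) L262938
theorem L262942 : sm gb N30996 = N30996 := ded_26_1 (flp_i L262938) L180897 L262938
theorem L262943 : sm ge N30996 = N21277 := ded_44_1 (flp_i L180928) (flp_e L180898) L262938
theorem L262945 : sm gg N30996 = N21275 := ded_51_1 (flp_i L180909) (flp_g L180900) L262938
theorem L262947 : sm gh N30996 = N21341 := ded_54_1 (flp_i L181443) (flp_h L124954) (flp_i L124592) L180893 L262938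
theorem L262949 : sm gc N21274 = N30997 := rfl
theorem L262951 : sm ga N30997 = N21298 := ded_11_1 (flp_c L181093) (flp_a L180904) L262949
theorem L262953 : sm ge N30997 = N30997 := ded_28_2 (flp_c L262949) L180907 L262949
theorem L262954 : sm gh N30997 = N30997 := ded_32_2 (flp_c L262949) L180908 L262949
theorem L262955 : sm gi N21274 = N30998 := rfl
theorem L262957 : sm ga N30998 = N21299 := ded_18_1 (flp_i L181097) (flp_a L180904) L262955
theorem L262959 : sm gb N30998 = N30998 := ded_26_1 (flp_i L262955) L180906 L262955
theorem L262960 : sm gd N30998 = N21275 := ded_39_1 (flp_i L180909) L180902 L262955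
theorem L262962 : sm ge N30998 = N30998 := ded_44_1 (flp_i L262955) L180907 L262955
theorem L262963 : sm gi N21276 = N30999 := rfl
theorem L262965 : sm ga N30999 = N21300 := ded_18_1 (flp_i L181104) (flp_a L180920) L262963
theorem L262967 : sm gb N30999 = N30999 := ded_26_1 (flp_i L262963) L180922 L262963
theorem L262968 : sm gd N30999 = N30999 := ded_39_1 (flp_i L262963) L180927 L262963
theorem L262969 : sm gf N30999 = N21425 := ded_48_1 (flp_i L182116) (flp_f L180923) L262963
theorem L262971 : sm gj N30999 = N21277 := ded_53_1 (flp_i L180928) (flp_j L180925) L262963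
theorem L262973 : sm gh N30999 = N21344 := ded_54_1 (flp_i L181468) (flp_h L124978) (flp_i L124610) L180918 L262963
theorem L262975 : sm gf N21278 = N31000 := rfl
theorem L262977 : sm gc N31000 = N31000 := ded_29_1 (flp_f L262975) L180942 L262975
theorem L262978 : sm gd N31000 = N21280 := ded_35_1 (flp_f L180954) (flp_d L180943) L262975
theorem L262980 : sm gi N31000 = N21345 := ded_48_2 (flp_f L181479) (flp_i L180947) L262975
theorem L262982 : sm gj N21278 = N31001 := rfl
theorem L262985 : sm gd N31001 = N21281 := ded_37_1 (flp_j L180962) (flp_d L180943) L262982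
theorem L262987 : sm ge N31001 = N23451 := ded_42_1 (flp_j L199580) (flp_e L180945) L262982
theorem L262989 : sm gi N31001 = N21346 := ded_53_2 (flp_j L181484) (flp_i L180947) L262982
theorem L262991 : sm gh N21278 = N31002 := rfl
theorem L262993 : sm gc N31002 = N31002 := ded_32_1 (flp_h L262991) L180942 L262991
theorem L262994 : sm ge N31002 = N23452 := ded_43_1 (flp_h L199587) (flp_e L180945) L262991
theorem L262996 : sm gg N31002 = N21279 := ded_50_1 (flp_h L180949) L180940 L262991
theorem L262998 : sm gd N21279 = N31003 := rfl
theorem L263000 : sm gh N31003 = N21283 := ded_38_2 (flp_d L180978) (flp_h L124647) L124632 L180949 L262998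
theorem L263002 : sm gi N21279 = N31004 := rfl
theorem L263004 : sm gc N31004 = N31004 := ded_33_1 (flp_i L263002) L180951 L263002
theorem L263005 : sm ge N31004 = N23454 := ded_44_1 (flp_i L199597) (flp_e L180952) L263002
theorem L263007 : sm gh N31004 = N21349 := ded_54_1 (flp_i L181502) (flp_h L125007) (flp_i L124634) L180949 L263002
theorem L263009 : sm gj N21280 = N31005 := rfl
theorem L263011 : sm gc N31005 = N21293 := ded_31_1 (flp_j L181048) (flp_c L180956) L263009
theorem L263013 : sm ge N31005 = N21431 := ded_42_1 (flp_j L182168) (flp_e L180960) L263009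
theorem L263015 : sm gf N31005 = N21281 := ded_46_1 (flp_j L180962) L180954 L263009
theorem L263017 : sm gi N31005 = N21350 := ded_53_2 (flp_j L181507) (flp_i L180958) L263009
theorem L263019 : sm gh N21280 = N31006 := rfl
theorem L263021 : sm gc N31006 = N21294 := ded_32_1 (flp_h L181059) (flp_c L180956) L263019
theorem L263023 : sm ge N31006 = N21432 := ded_43_1 (flp_h L182176) (flp_e L180960) L263019
theorem L263025 : sm gf N31006 = N21282 := ded_47_1 (flp_h L180970) L180954 L263019
theorem L263027 : sm gh N21281 = N31007 := rfl
theorem L263029 : sm gc N31007 = N21295 := ded_32_1 (flp_h L181067) (flp_c L180964) L263027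
theorem L263031 : sm ge N31007 = N21285 := ded_43_1 (flp_h L180988) (flp_e L180966) L263027
theorem L263033 : sm gj N31007 = N21282 := ded_52_1 (flp_h L180970) L180962 L263027
theorem L263035 : sm gd N21282 = N31008 := rfl
theorem L263037 : sm gg N31008 = N21283 := ded_36_2 (flp_d L180978) (flp_g L180976) L263035
theorem L263039 : sm gi N21282 = N31009 := rfl
theorem L263041 : sm gc N31009 = N21297 := ded_33_1 (flp_i L181083) (flp_c L180972) L263039
theorem L263043 : sm ge N31009 = N21287 := ded_44_1 (flp_i L181005) (flp_e L180974) L263039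
theorem L263045 : sm gg N31009 = N21284 := ded_51_1 (flp_i L180980) (flp_g L180976) L263039
theorem L263047 : sm gh N31009 = N21354 := ded_54_1 (flp_i L181535) (flp_h L125024) (flp_i L124645) L180970 L263039
theorem L263049 : sm gc N21283 = N31010 := rfl
theorem L263051 : sm gd N31010 = N21298 := ded_27_2 (flp_c L181093) (flp_d L124726) (flp_c L124649) L180978 L263049
theorem L263053 : sm ge N21283 = N31011 := rfl
theorem L263055 : sm gd N31011 = N21288 := ded_34_1 (flp_e L181015) (flp_d L124671) (flp_e L124651) L180978 L263053
theorem L263057 : sm gi N21283 = N31012 := rfl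
theorem L263059 : sm gd N31012 = N21284 := ded_39_1 (flp_i L180980) L180978 L263057
theorem L263061 : sm gd N21285 = N31013 := rfl
theorem L263063 : sm gf N31013 = N21439 := ded_35_2 (flp_d L182220) (flp_f L180992) L263061
theorem L263065 : sm gj N31013 = N21286 := ded_37_2 (flp_d L180996) (flp_j L180994) L263061
theorem L263067 : sm gc N31013 = N31013 := ded_27_1 (flp_d L263061) L180990 L124748 (flp_c L180990) L263061
theorem L263068 : sm gh N31013 = N23463 := ded_38_2 (flp_d L199658) (flp_h L137471) (flp_d L124657) L180988 L263061
theorem L263070 : sm gi N21285 = N31014 := rfl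
theorem L263072 : sm gc N31014 = N21300 := ded_33_1 (flp_i L181104) (flp_c L180990) L263070
theorem L263074 : sm gf N31014 = N21440 := ded_48_1 (flp_i L182228) (flp_f L180992) L263070
theorem L263076 : sm gj N31014 = N21287 := ded_53_1 (flp_i L181005) (flp_j L180994) L263070
theorem L263078 : sm gh N31014 = N21359 := ded_54_1 (flp_i L181565) (flp_h L125040) (flp_i L124661) L180988 L263070
theorem L263080 : sm ge N21286 = N31015 := rfl
theorem L263082 : sm gc N31015 = N31015 := ded_28_1 (flp_e L263080) L181002 L263080
theorem L263083 : sm gg N31015 = N21288 := ded_41_2 (flp_e L181015) (flp_g L181000) L263080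
theorem L263085 : sm gh N31015 = N23465 := ded_43_2 (flp_e L199675) (flp_h L181003) L263080
theorem L263087 : sm gi N21286 = N31016 := rfl
theorem L263089 : sm gc N31016 = N31016 := ded_33_1 (flp_i L263087) L181002 L263087
theorem L263090 : sm gd N31016 = N21287 := ded_39_1 (flp_i L181005) L180996 L263087
theorem L263092 : sm gf N31016 = N21442 := ded_48_1 (flp_i L182244) (flp_f L180998) L263087
theorem L263094 : sm gg N31016 = N21289 := ded_51_1 (flp_i L181020) (flp_g L181000) L263087
theorem L263096 : sm gf N21288 = N31017 := rfl
theorem L263099 : sm gh N31017 = N23467 := ded_47_2 (flp_f L199689) (flp_h L181018) L263096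
theorem L263103 : sm gi N21288 = N31018 := rfl
theorem L263105 : sm gc N31018 = N31018 := ded_33_1 (flp_i L263103) L181017 L263103
theorem L263106 : sm ge N31018 = N21289 := ded_44_1 (flp_i L181020) L181015 L263103
theorem L263108 : sm gh N21289 = N31019 := rfl
theorem L263115 : sm gi N31019 = N23469 := ded_54_2 (flp_h L199699) (flp_i L137499) (flp_h L124676) L181020 L263108
theorem L263117 : sm gg N21290 = N31020 := rfl
theorem L263120 : sm gh N31020 = N23470 := ded_50_2 (flp_g L199706) (flp_h L181030) L263117
theorem L263124 : sm gi N21290 = N31021 := rfl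
theorem L263127 : sm gf N31021 = N21291 := ded_48_1 (flp_i L181032) L181027 L263124
theorem L263138 : sm gg N21293 = N31023 := rfl
theorem L263140 : sm gb N31023 = N21301 := ded_23_1 (flp_g L181115) (flp_b L181050) L263138
theorem L263142 : sm gd N31023 = N31023 := ded_36_1 (flp_g L263138) L181052 L263138
theorem L263143 : sm ge N31023 = N21449 := ded_41_1 (flp_g L182294) (flp_e L181053) L263138
theorem L263145 : sm gi N31023 = N21368 := ded_51_2 (flp_g L181637) (flp_i L181057) L263138
theorem L263147 : sm gh N21293 = N31024 := rfl
theorem L263149 : sm gb N31024 = N21302 := ded_25_1 (flp_h L181123) (flp_b L181050) L263147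
theorem L263151 : sm ge N31024 = N21450 := ded_43_1 (flp_h L182303) (flp_e L181053) L263147
theorem L263153 : sm gf N31024 = N21295 := ded_47_1 (flp_h L181067) (flp_f L181055) L263147
theorem L263155 : sm gj N31024 = N21294 := ded_52_1 (flp_h L181059) L181048 L263147
theorem L263157 : sm gd N21294 = N31025 := rfl
theorem L263159 : sm gb N31025 = N21303 := ded_20_1 (flp_d L181132) (flp_b L181061) L263157
theorem L263161 : sm gf N31025 = N21296 := ded_35_2 (flp_d L181075) (flp_f L181065) L263157
theorem L263163 : sm gh N31025 = N31025 := ded_38_2 (flp_d L263157) (flp_h L181059) L124704 L181059 L263157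
theorem L263164 : sm gi N21294 = N31026 := rfl
theorem L263166 : sm gb N31026 = N21304 := ded_26_1 (flp_i L181138) (flp_b L181061) L263164
theorem L263168 : sm ge N31026 = N21452 := ded_44_1 (flp_i L182319) (flp_e L181063) L263164
theorem L263170 : sm gf N31026 = N21297 := ded_48_1 (flp_i L181083) (flp_f L181065) L263164
theorem L263172 : sm gh N31026 = N21371 := ded_54_1 (flp_i L181661) (flp_h L125111) (flp_i L124705) L181059 L263164
theorem L263174 : sm gd N21295 = N31027 := rfl
theorem L263176 : sm gb N31027 = N21305 := ded_20_1 (flp_d L181147) (flp_b L181069) L263174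
theorem L263178 : sm gj N31027 = N21296 := ded_37_2 (flp_d L181075) (flp_j L181073) L263174
theorem L263182 : sm gi N21295 = N31028 := rfl
theorem L263184 : sm gb N31028 = N21306 := ded_26_1 (flp_i L181154) (flp_b L181069) L263182
theorem L263186 : sm ge N31028 = N21300 := ded_44_1 (flp_i L181104) (flp_e L181071) L263182
theorem L263188 : sm gj N31028 = N21297 := ded_53_1 (flp_i L181083) (flp_j L181073) L263182
theorem L263190 : sm gh N31028 = N21373 := ded_54_1 (flp_i L181678) (flp_h L125119) (flp_i L124716) L181067 L263182
theorem L263192 : sm gc N21296 = N31029 := rfl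
theorem L263194 : sm ge N31029 = N31029 := ded_28_2 (flp_c L263192) L181081 L263192
theorem L263195 : sm gg N31029 = N21298 := ded_30_2 (flp_c L181093) (flp_g L181079) L263192
theorem L263197 : sm gh N31029 = N31029 := ded_32_2 (flp_c L263192) L181082 L263192
theorem L263198 : sm gi N21296 = N31030 := rfl
theorem L263200 : sm gb N31030 = N21308 := ded_26_1 (flp_i L181170) (flp_b L181077) L263198
theorem L263202 : sm gd N31030 = N21297 := ded_39_1 (flp_i L181083) L181075 L263198
theorem L263204 : sm ge N31030 = N31030 := ded_44_1 (flp_i L263198) L181081 L263198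
theorem L263205 : sm gg N31030 = N21299 := ded_51_1 (flp_i L181097) (flp_g L181079) L263198
theorem L263207 : sm gb N21298 = N31031 := rfl
theorem L263209 : sm ge N31031 = N31031 := ded_21_2 (flp_b L263207) L181095 L263207
theorem L263210 : sm gh N31031 = N31031 := ded_25_2 (flp_b L263207) L181096 L263207
theorem L263211 : sm gc N31031 = N21309 := ded_19_2 (flp_b L181178) (flp_c L124800) (flp_b L124728) L181093 L263207
theorem L263213 : sm gi N21298 = N31032 := rfl
theorem L263215 : sm gc N31032 = N21299 := ded_33_1 (flp_i L181097) L181093 L263213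
theorem L263217 : sm ge N31032 = N31032 := ded_44_1 (flp_i L263213) L181095 L263213
theorem L263218 : sm gh N21299 = N31033 := rfl
theorem L263220 : sm gb N31033 = N21311 := ded_25_1 (flp_h L181188) (flp_b L181099) L263218
theorem L263222 : sm ge N31033 = N31033 := ded_43_1 (flp_h L263218) L181103 L263218
theorem L263223 : sm gd N31033 = N21378 := ded_38_1 (flp_h L181716) L125153 (flp_h L124738) (flp_d L181101) L263218
theorem L263225 : sm gi N31033 = N31033 := ded_54_2 (flp_h L263218) (flp_i L181097) L124731 L181097 L263218
theorem L263226 : sm gh N21301 = N31034 := rfl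
theorem L263229 : sm ge N31034 = N21460 := ded_43_1 (flp_h L182388) (flp_e L181119) L263226
theorem L263231 : sm gg N31034 = N21302 := ded_50_1 (flp_h L181123) L181115 L263226
theorem L263233 : sm gd N21302 = N31035 := rfl
theorem L263236 : sm gf N31035 = N21305 := ded_35_2 (flp_d L181147) (flp_f L181128) L263233
theorem L263238 : sm gj N31035 = N21303 := ded_37_2 (flp_d L181132) (flp_j L181130) L263233
theorem L263241 : sm gi N21302 = N31036 := rfl
theorem L263243 : sm ga N31036 = N31036 := ded_18_1 (flp_i L263241) L181125 L263241
theorem L263244 : sm ge N31036 = N21462 := ded_44_1 (flp_i L182403) (flp_e L181126) L263241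
theorem L263246 : sm gf N31036 = N21306 := ded_48_1 (flp_i L181154) (flp_f L181128) L263241
theorem L263248 : sm gj N31036 = N21304 := ded_53_1 (flp_i L181138) (flp_j L181130) L263241
theorem L263250 : sm gh N31036 = N21381 := ded_54_1 (flp_i L181738) (flp_h L125173) (flp_i L124768) L181123 L263241
theorem L263252 : sm gc N21303 = N31037 := rfl
theorem L263255 : sm gf N31037 = N21307 := ded_29_2 (flp_c L181163) (flp_f L181135) L263252
theorem L263258 : sm ge N21303 = N31038 := rfl
theorem L263260 : sm ga N31038 = N31038 := ded_13_1 (flp_e L263258) L181134 L263258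
theorem L263261 : sm gh N31038 = N31038 := ded_43_2 (flp_e L263258) L181137 L263258
theorem L263262 : sm gd N31038 = N21464 := ded_34_1 (flp_e L182419) (flp_d L125630) (flp_e L124773) L181132 L263258
theorem L263264 : sm gf N31038 = N31038 := ded_40_2 (flp_e L263258) L181135 L124789 (flp_f L181135) L263258
theorem L263265 : sm gi N21303 = N31039 := rfl
theorem L263267 : sm ga N31039 = N31039 := ded_18_1 (flp_i L263265) L181134 L263265
theorem L263268 : sm gd N31039 = N21304 := ded_39_1 (flp_i L181138) L181132 L263265
theorem L263270 : sm gf N31039 = N21308 := ded_48_1 (flp_i L181170) (flp_f L181135) L263265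
theorem L263279 : sm gi N21305 = N31041 := rfl
theorem L263282 : sm gd N31041 = N21306 := ded_39_1 (flp_i L181154) L181147 L263279
theorem L263285 : sm gj N31041 = N21308 := ded_53_1 (flp_i L181170) (flp_j L181150) L263279
theorem L263287 : sm gb N21307 = N31042 := rfl
theorem L263290 : sm gg N31042 = N21309 := ded_23_2 (flp_b L181178) (flp_g L181167) L263287
theorem L263293 : sm gi N21307 = N31043 := rfl
theorem L263296 : sm gc N31043 = N21308 := ded_33_1 (flp_i L181170) L181163 L263293
theorem L263299 : sm gg N31043 = N21310 := ded_51_1 (flp_i L181182) (flp_g L181167) L263293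
theorem L263301 : sm gh N21308 = N31044 := rfl
theorem L263303 : sm ga N31044 = N31044 := ded_17_1 (flp_h L263301) L181172 L263301
theorem L263304 : sm ge N31044 = N31044 := ded_43_1 (flp_h L263301) L181175 L263301
theorem L263305 : sm gg N31044 = N21311 := ded_50_1 (flp_h L181188) (flp_g L181176) L263301
theorem L263307 : sm gd N31044 = N21389 := ded_38_1 (flp_h L181801) L125221 (flp_h L124798) (flp_d L181173) L263301
theorem L263309 : sm gi N31044 = N31044 := ded_54_2 (flp_h L263301) (flp_i L181170) L124790 L181170 L263301
theorem L263310 : sm ga N21309 = N31045 := rfl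
theorem L263312 : sm ge N31045 = N31045 := ded_13_2 (flp_a L263310) L181180 L263310
theorem L263313 : sm gh N31045 = N31045 := ded_17_2 (flp_a L263310) L181181 L263310
theorem L263314 : sm gb N31045 = N31045 := ded_10_2 (flp_a L263310) (flp_b L181178) L124802 L181178 L263310
theorem L263315 : sm gi N21309 = N31046 := rfl
theorem L263317 : sm gb N31046 = N21310 := ded_26_1 (flp_i L181182) L181178 L263315
theorem L263319 : sm ge N31046 = N31046 := ded_44_1 (flp_i L263315) L181180 L263315
theorem L263320 : sm gh N21310 = N31047 := rfl
theorem L263322 : sm ga N31047 = N31047 := ded_17_1 (flp_h L263320) L181184 L263320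
theorem L263323 : sm gc N31047 = N21311 := ded_32_1 (flp_h L181188) (flp_c L181185) L263320
theorem L263325 : sm ge N31047 = N31047 := ded_43_1 (flp_h L263320) L181187 L263320
theorem L263326 : sm gi N31047 = N31047 := ded_54_2 (flp_h L263320) (flp_i L181182) L124804 L181182 L263320
theorem L263327 : sm gc N21312 = N31048 := rfl
theorem L263329 : sm ge N31048 = N23498 := ded_28_2 (flp_c L199939) (flp_e L181199) L263327
theorem L263333 : sm gg N21312 = N31049 := rfl
theorem L263335 : sm gb N31049 = N21322 := ded_23_1 (flp_g L181273) (flp_b L181197) L263333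
theorem L263337 : sm gd N31049 = N21313 := ded_36_1 (flp_g L181201) L181195 L263333
theorem L263341 : sm gh N21312 = N31050 := rfl
theorem L263343 : sm gb N31050 = N21323 := ded_25_1 (flp_h L181282) (flp_b L181197) L263341
theorem L263345 : sm ge N31050 = N23500 := ded_43_1 (flp_h L199951) (flp_e L181199) L263341
theorem L263347 : sm gf N21313 = N31051 := rfl
theorem L263349 : sm gb N31051 = N21324 := ded_22_1 (flp_f L181289) (flp_b L181203) L263347
theorem L263351 : sm gc N31051 = N31051 := ded_29_1 (flp_f L263347) L181205 L263347
theorem L263352 : sm ge N31051 = N21477 := ded_40_1 (flp_f L182520) L125713 (flp_f L124833) (flp_e L181206) L263347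
theorem L263354 : sm gj N21313 = N31052 := rfl
theorem L263356 : sm gb N31052 = N21325 := ded_24_1 (flp_j L181297) (flp_b L181203) L263354
theorem L263361 : sm gh N21313 = N31053 := rfl
theorem L263363 : sm gb N31053 = N21326 := ded_25_1 (flp_h L181305) (flp_b L181203) L263361
theorem L263368 : sm gg N31053 = N21314 := ded_50_1 (flp_h L181208) L181201 L263361
theorem L263370 : sm gd N21314 = N31054 := rfl
theorem L263372 : sm gb N31054 = N21327 := ded_20_1 (flp_d L181315) (flp_b L181210) L263370
theorem L263374 : sm gi N21314 = N31055 := rfl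
theorem L263376 : sm gb N31055 = N21328 := ded_26_1 (flp_i L181319) (flp_b L181210) L263374
theorem L263379 : sm ge N31055 = N21318 := ded_44_1 (flp_i L181241) (flp_e L181213) L263374
theorem L263381 : sm gh N21315 = N31056 := rfl
theorem L263383 : sm gb N31056 = N21329 := ded_25_1 (flp_h L181327) (flp_b L181217) L263381
theorem L263386 : sm gf N31056 = N21482 := ded_47_1 (flp_h L182555) (flp_f L181222) L263381
theorem L263390 : sm gd N21316 = N31057 := rfl
theorem L263394 : sm gf N31057 = N21483 := ded_35_2 (flp_d L182563) (flp_f L181229) L263390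
theorem L263398 : sm gh N31057 = N23507 := ded_38_2 (flp_d L200007) (flp_h L137721) (flp_d L124831) L181224 L263390
theorem L263400 : sm gi N21316 = N31058 := rfl
theorem L263402 : sm gb N31058 = N21331 := ded_26_1 (flp_i L181349) (flp_b L181226) L263400
theorem L263407 : sm gg N31058 = N21318 := ded_51_1 (flp_i L181241) (flp_g L181231) L263400
theorem L263418 : sm ge N21317 = N31060 := rfl
theorem L263422 : sm gh N31060 = N23510 := ded_43_2 (flp_e L200033) (flp_h L181239) L263418
theorem L263432 : sm ge N21319 = N31062 := rfl
theorem L263436 : sm gc N31062 = N21320 := ded_28_1 (flp_e L181257) L181248 L263432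
theorem L263440 : sm gh N31062 = N23512 := ded_43_2 (flp_e L200045) (flp_h L181252) L263432
theorem L263451 : sm gf N21320 = N31064 := rfl
theorem L263465 : sm gh N21321 = N31066 := rfl
theorem L263471 : sm gi N31066 = N23516 := ded_54_2 (flp_h L200077) (flp_i L137760) (flp_h L124848) L181265 L263465
theorem L263473 : sm gf N21322 = N31067 := rfl
theorem L263475 : sm ga N31067 = N21345 := ded_14_1 (flp_f L181479) (flp_a L181275) L263473
theorem L263477 : sm gc N31067 = N31067 := ded_29_1 (flp_f L263473) L181277 L263473
theorem L263478 : sm gd N31067 = N21324 := ded_35_1 (flp_f L181289) (flp_d L181278) L263473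
theorem L263480 : sm gj N21322 = N31068 := rfl
theorem L263482 : sm ga N31068 = N21346 := ded_16_1 (flp_j L181484) (flp_a L181275) L263480
theorem L263485 : sm gd N31068 = N21325 := ded_37_1 (flp_j L181297) (flp_d L181278) L263480
theorem L263489 : sm gh N21322 = N31069 := rfl
theorem L263491 : sm ga N31069 = N21347 := ded_17_1 (flp_h L181491) (flp_a L181275) L263489
theorem L263493 : sm gc N31069 = N31069 := ded_32_1 (flp_h L263489) L181277 L263489
theorem L263494 : sm ge N31069 = N23519 := ded_43_1 (flp_h L200098) (flp_e L181280) L263489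
theorem L263496 : sm gg N31069 = N21323 := ded_50_1 (flp_h L181282) L181273 L263489
theorem L263498 : sm gd N21323 = N31070 := rfl
theorem L263500 : sm ga N31070 = N21348 := ded_12_1 (flp_d L181498) (flp_a L181284) L263498
theorem L263502 : sm gh N31070 = N21327 := ded_38_2 (flp_d L181315) (flp_h L124872) L124857 L181282 L263498
theorem L263504 : sm gi N21323 = N31071 := rfl
theorem L263506 : sm ga N31071 = N21349 := ded_18_1 (flp_i L181502) (flp_a L181284) L263504
theorem L263508 : sm gc N31071 = N31071 := ded_33_1 (flp_i L263504) L181286 L263504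
theorem L263509 : sm ge N31071 = N23521 := ded_44_1 (flp_i L200112) (flp_e L181287) L263504
theorem L263511 : sm gj N21324 = N31072 := rfl
theorem L263513 : sm ga N31072 = N21350 := ded_16_1 (flp_j L181507) (flp_a L181291) L263511
theorem L263515 : sm gc N31072 = N21337 := ded_31_1 (flp_j L181405) (flp_c L181293) L263511
theorem L263517 : sm ge N31072 = N21498 := ded_42_1 (flp_j L182687) (flp_e L181295) L263511
theorem L263519 : sm gf N31072 = N21325 := ded_46_1 (flp_j L181297) L181289 L263511
theorem L263521 : sm gh N21324 = N31073 := rfl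
theorem L263523 : sm ga N31073 = N21351 := ded_17_1 (flp_h L181515) (flp_a L181291) L263521
theorem L263525 : sm gc N31073 = N21338 := ded_32_1 (flp_h L181415) (flp_c L181293) L263521
theorem L263527 : sm ge N31073 = N21499 := ded_43_1 (flp_h L182695) (flp_e L181295) L263521
theorem L263529 : sm gf N31073 = N21326 := ded_47_1 (flp_h L181305) L181289 L263521
theorem L263531 : sm gh N21325 = N31074 := rfl
theorem L263533 : sm ga N31074 = N21352 := ded_17_1 (flp_h L181523) (flp_a L181299) L263531
theorem L263535 : sm gc N31074 = N21339 := ded_32_1 (flp_h L181424) (flp_c L181301) L263531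
theorem L263537 : sm ge N31074 = N21329 := ded_43_1 (flp_h L181327) (flp_e L181303) L263531
theorem L263539 : sm gj N31074 = N21326 := ded_52_1 (flp_h L181305) L181297 L263531
theorem L263541 : sm gd N21326 = N31075 := rfl
theorem L263543 : sm ga N31075 = N21353 := ded_12_1 (flp_d L181531) (flp_a L181307) L263541
theorem L263545 : sm gg N31075 = N21327 := ded_36_2 (flp_d L181315) (flp_g L181313) L263541
theorem L263547 : sm gi N21326 = N31076 := rfl
theorem L263549 : sm ga N31076 = N21354 := ded_18_1 (flp_i L181535) (flp_a L181307) L263547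
theorem L263551 : sm gc N31076 = N21341 := ded_33_1 (flp_i L181443) (flp_c L181309) L263547
theorem L263553 : sm ge N31076 = N21331 := ded_44_1 (flp_i L181349) (flp_e L181311) L263547
theorem L263555 : sm gg N31076 = N21328 := ded_51_1 (flp_i L181319) (flp_g L181313) L263547
theorem L263557 : sm gc N21327 = N31077 := rfl
theorem L263559 : sm ga N31077 = N21355 := ded_11_1 (flp_c L181543) (flp_a L181317) L263557
theorem L263561 : sm gd N31077 = N21342 := ded_27_2 (flp_c L181452) (flp_d L124963) (flp_c L124876) L181315 L263557
theorem L263563 : sm ge N21327 = N31078 := rfl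
theorem L263565 : sm ga N31078 = N21356 := ded_13_1 (flp_e L181547) (flp_a L181317) L263563
theorem L263569 : sm gi N21327 = N31079 := rfl
theorem L263571 : sm ga N31079 = N21357 := ded_18_1 (flp_i L181551) (flp_a L181317) L263569
theorem L263573 : sm gd N31079 = N21328 := ded_39_1 (flp_i L181319) L181315 L263569
theorem L263575 : sm gd N21329 = N31080 := rfl
theorem L263577 : sm ga N31080 = N21358 := ded_12_1 (flp_d L181555) (flp_a L181329) L263575
theorem L263583 : sm gc N31080 = N21942 := ded_27_1 (flp_d L186392) L128359 (flp_d L124987) (flp_c L181331) L263575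
theorem L263585 : sm gh N31080 = N23530 := ded_38_2 (flp_d L200185) (flp_h L137822) (flp_d L124886) L181327 L263575
theorem L263587 : sm gi N21329 = N31081 := rfl
theorem L263589 : sm ga N31081 = N21359 := ded_18_1 (flp_i L181565) (flp_a L181329) L263587
theorem L263591 : sm gc N31081 = N21344 := ded_33_1 (flp_i L181468) (flp_c L181331) L263587
theorem L263593 : sm gf N31081 = N21507 := ded_48_1 (flp_i L182762) (flp_f L181333) L263587
theorem L263595 : sm gj N31081 = N21331 := ded_53_1 (flp_i L181349) (flp_j L181335) L263587
theorem L263597 : sm ge N21330 = N31082 := rfl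
theorem L263599 : sm ga N31082 = N21360 := ded_13_1 (flp_e L181573) (flp_a L181339) L263597
theorem L263601 : sm gc N31082 = N21944 := ded_28_1 (flp_e L186413) (flp_c L181345) L263597
theorem L263605 : sm gh N31082 = N23532 := ded_43_2 (flp_e L200205) (flp_h L181347) L263597
theorem L263607 : sm gi N21330 = N31083 := rfl
theorem L263609 : sm ga N31083 = N21361 := ded_18_1 (flp_i L181581) (flp_a L181339) L263607
theorem L263613 : sm gd N31083 = N21331 := ded_39_1 (flp_i L181349) L181337 L263607
theorem L263617 : sm gg N31083 = N21333 := ded_51_1 (flp_i L181367) (flp_g L181343) L263607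
theorem L263619 : sm gf N21332 = N31084 := rfl
theorem L263621 : sm ga N31084 = N21362 := ded_14_1 (flp_f L181591) (flp_a L181361) L263619
theorem L263623 : sm gc N31084 = N21946 := ded_29_1 (flp_f L186431) (flp_c L181363) L263619
theorem L263625 : sm gh N31084 = N23534 := ded_47_2 (flp_f L200225) (flp_h L181365) L263619
theorem L263629 : sm gi N21332 = N31085 := rfl
theorem L263631 : sm ga N31085 = N21363 := ded_18_1 (flp_i L181599) (flp_a L181361) L263629
theorem L263633 : sm gc N31085 = N21947 := ded_33_1 (flp_i L186439) (flp_c L181363) L263629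
theorem L263637 : sm gh N21333 = N31086 := rfl
theorem L263647 : sm gg N21334 = N31087 := rfl
theorem L263649 : sm ga N31087 = N21365 := ded_15_1 (flp_g L181613) (flp_a L181379) L263647
theorem L263653 : sm gh N31087 = N23537 := ded_50_2 (flp_g L200249) (flp_h L181383) L263647
theorem L263655 : sm gf N31087 = N21513 := ded_45_1 (flp_g L182822) (flp_f L125882) (flp_g L124924) L181377 L263647
theorem L263657 : sm gi N21334 = N31088 := rfl
theorem L263659 : sm ga N31088 = N21366 := ded_18_1 (flp_i L181621) (flp_a L181379) L263657
theorem L263661 : sm gc N31088 = N21950 := ded_33_1 (flp_i L186463) (flp_c L181381) L263657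
theorem L263677 : sm gg N21337 = N31090 := rfl
theorem L263679 : sm ga N31090 = N21368 := ded_15_1 (flp_g L181637) (flp_a L181407) L263677
theorem L263681 : sm gb N31090 = N31090 := ded_23_1 (flp_g L263677) L181409 L263677
theorem L263682 : sm gd N31090 = N31090 := ded_36_1 (flp_g L263677) L181410 L263677
theorem L263683 : sm ge N31090 = N21516 := ded_41_1 (flp_g L182850) (flp_e L181411) L263677
theorem L263685 : sm gh N21337 = N31091 := rfl
theorem L263687 : sm ga N31091 = N21369 := ded_17_1 (flp_h L181644) (flp_a L181407) L263685
theorem L263689 : sm gb N31091 = N31091 := ded_25_1 (flp_h L263685) L181409 L263685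
theorem L263690 : sm ge N31091 = N21517 := ded_43_1 (flp_h L182858) (flp_e L181411) L263685
theorem L263692 : sm gf N31091 = N21339 := ded_47_1 (flp_h L181424) (flp_f L181413) L263685
theorem L263694 : sm gj N31091 = N21338 := ded_52_1 (flp_h L181415) L181405 L263685
theorem L263696 : sm gd N21338 = N31092 := rfl
theorem L263698 : sm ga N31092 = N21370 := ded_12_1 (flp_d L181654) (flp_a L181417) L263696
theorem L263700 : sm gb N31092 = N31092 := ded_20_1 (flp_d L263696) L181419 L263696
theorem L263701 : sm gf N31092 = N21340 := ded_35_2 (flp_d L181433) (flp_f L181422) L263696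
theorem L263703 : sm gh N31092 = N31092 := ded_38_2 (flp_d L263696) (flp_h L181415) L124943 L181415 L263696
theorem L263704 : sm gi N21338 = N31093 := rfl
theorem L263706 : sm ga N31093 = N21371 := ded_18_1 (flp_i L181661) (flp_a L181417) L263704
theorem L263708 : sm gb N31093 = N31093 := ded_26_1 (flp_i L263704) L181419 L263704
theorem L263709 : sm ge N31093 = N21519 := ded_44_1 (flp_i L182876) (flp_e L181420) L263704
theorem L263711 : sm gf N31093 = N21341 := ded_48_1 (flp_i L181443) (flp_f L181422) L263704
theorem L263713 : sm gd N21339 = N31094 := rfl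
theorem L263715 : sm ga N31094 = N21372 := ded_12_1 (flp_d L181669) (flp_a L181426) L263713
theorem L263717 : sm gb N31094 = N31094 := ded_20_1 (flp_d L263713) L181428 L263713
theorem L263718 : sm gj N31094 = N21340 := ded_37_2 (flp_d L181433) (flp_j L181431) L263713
theorem L263720 : sm ge N31094 = N21956 := ded_34_2 (flp_d L186521) L128451 (flp_d L124987) (flp_e L181429) L263713
theorem L263722 : sm gh N31094 = N31094 := ded_38_2 (flp_d L263713) (flp_h L181424) L124951 L181424 L263713
theorem L263723 : sm gi N21339 = N31095 := rfl
theorem L263725 : sm ga N31095 = N21373 := ded_18_1 (flp_i L181678) (flp_a L181426) L263723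
theorem L263727 : sm gb N31095 = N31095 := ded_26_1 (flp_i L263723) L181428 L263723
theorem L263728 : sm ge N31095 = N21344 := ded_44_1 (flp_i L181468) (flp_e L181429) L263723
theorem L263730 : sm gj N31095 = N21341 := ded_53_1 (flp_i L181443) (flp_j L181431) L263723
theorem L263732 : sm gc N21340 = N31096 := rfl
theorem L263734 : sm ga N31096 = N21374 := ded_11_1 (flp_c L181686) (flp_a L181435) L263732
theorem L263736 : sm ge N31096 = N21958 := ded_28_2 (flp_c L186539) (flp_e L181440) L263732
theorem L263738 : sm gg N31096 = N21342 := ded_30_2 (flp_c L181452) (flp_g L181438) L263732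
theorem L263740 : sm gh N31096 = N31096 := ded_32_2 (flp_c L263732) L181442 L263732
theorem L263741 : sm gi N21340 = N31097 := rfl
theorem L263743 : sm ga N31097 = N21375 := ded_18_1 (flp_i L181693) (flp_a L181435) L263741
theorem L263745 : sm gb N31097 = N31097 := ded_26_1 (flp_i L263741) L181437 L263741
theorem L263746 : sm gd N31097 = N21341 := ded_39_1 (flp_i L181443) L181433 L263741
theorem L263748 : sm ge N31097 = N21959 := ded_44_1 (flp_i L186546) (flp_e L181440) L263741
theorem L263750 : sm gg N31097 = N21343 := ded_51_1 (flp_i L181459) (flp_g L181438) L263741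
theorem L263752 : sm gb N21342 = N31098 := rfl
theorem L263754 : sm ge N31098 = N21960 := ded_21_2 (flp_b L186555) (flp_e L181456) L263752
theorem L263756 : sm gh N31098 = N31098 := ded_25_2 (flp_b L263752) L181458 L263752
theorem L263757 : sm gc N31098 = N31098 := ded_19_2 (flp_b L263752) (flp_c L181452) L124967 L181452 L263752
theorem L263758 : sm gi N21342 = N31099 := rfl
theorem L263760 : sm ga N31099 = N21377 := ded_18_1 (flp_i L181710) (flp_a L181454) L263758
theorem L263762 : sm gc N31099 = N21343 := ded_33_1 (flp_i L181459) L181452 L263758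
theorem L263764 : sm ge N31099 = N21961 := ded_44_1 (flp_i L186560) (flp_e L181456) L263758
theorem L263766 : sm gh N21343 = N31100 := rfl
theorem L263768 : sm ga N31100 = N21378 := ded_17_1 (flp_h L181716) (flp_a L181461) L263766
theorem L263770 : sm gb N31100 = N31100 := ded_25_1 (flp_h L263766) L181463 L263766
theorem L263771 : sm ge N31100 = N21962 := ded_43_1 (flp_h L186567) (flp_e L181466) L263766
theorem L263773 : sm gi N31100 = N31100 := ded_54_2 (flp_h L263766) (flp_i L181459) L124970 L181459 L263766
theorem L263774 : sm ge N21345 = N31101 := rfl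
theorem L263776 : sm gc N31101 = N31101 := ded_28_1 (flp_e L263774) L181481 L263774
theorem L263777 : sm gd N31101 = N21527 := ded_34_1 (flp_e L182953) L125988 (flp_e L125016) (flp_d L181482) L263774
theorem L263779 : sm gf N31101 = N23551 := ded_40_2 (flp_e L200390) (flp_f L137978) (flp_e L125005) L181479 L263774
theorem L263781 : sm gj N21345 = N31102 := rfl
theorem L263783 : sm gc N31102 = N31102 := ded_31_1 (flp_j L263781) L181481 L263781
theorem L263784 : sm gd N31102 = N21350 := ded_37_1 (flp_j L181507) (flp_d L181482) L263781
theorem L263786 : sm gf N31102 = N21346 := ded_46_1 (flp_j L181484) L181479 L263781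
theorem L263788 : sm gh N21345 = N31103 := rfl
theorem L263790 : sm gc N31103 = N31103 := ded_32_1 (flp_h L263788) L181481 L263788
theorem L263791 : sm gf N31103 = N21347 := ded_47_1 (flp_h L181491) L181479 L263788
theorem L263793 : sm gh N21346 = N31104 := rfl
theorem L263796 : sm ge N31104 = N23554 := ded_43_1 (flp_h L200409) (flp_e L181489) L263793
theorem L263798 : sm gj N31104 = N21347 := ded_52_1 (flp_h L181491) L181484 L263793
theorem L263800 : sm gd N21347 = N31105 := rfl
theorem L263802 : sm gg N31105 = N21348 := ded_36_2 (flp_d L181498) (flp_g L181496) L263800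
theorem L263804 : sm gh N31105 = N21353 := ded_38_2 (flp_d L181531) (flp_h L125024) (flp_d L125003) L181491 L263800
theorem L263806 : sm gi N21347 = N31106 := rfl
theorem L263808 : sm gc N31106 = N31106 := ded_33_1 (flp_i L263806) L181493 L263806
theorem L263809 : sm ge N31106 = N23556 := ded_44_1 (flp_i L200420) (flp_e L181494) L263806
theorem L263811 : sm gg N31106 = N21349 := ded_51_1 (flp_i L181502) (flp_g L181496) L263806
theorem L263813 : sm gc N21348 = N31107 := rfl
theorem L263815 : sm gh N31107 = N21355 := ded_32_2 (flp_c L181543) (flp_h L181500) L263813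
theorem L263817 : sm gd N31107 = N31107 := ded_27_2 (flp_c L263813) (flp_d L181498) L125009 L181498 L263813
theorem L263818 : sm ge N21348 = N31108 := rfl
theorem L263820 : sm gh N31108 = N21356 := ded_43_2 (flp_e L181547) (flp_h L181500) L263818
theorem L263822 : sm gd N31108 = N23558 := ded_34_1 (flp_e L200431) (flp_d L137994) (flp_e L125010) L181498 L263818
theorem L263824 : sm gi N21348 = N31109 := rfl
theorem L263826 : sm gd N31109 = N21349 := ded_39_1 (flp_i L181502) L181498 L263824
theorem L263828 : sm gg N21350 = N31110 := rfl
theorem L263830 : sm gc N31110 = N21368 := ded_30_1 (flp_g L181637) (flp_c L181509) L263828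
theorem L263832 : sm ge N31110 = N21536 := ded_41_1 (flp_g L183015) (flp_e L181511) L263828
theorem L263834 : sm gh N21350 = N31111 := rfl
theorem L263836 : sm gc N31111 = N21369 := ded_32_1 (flp_h L181644) (flp_c L181509) L263834
theorem L263838 : sm ge N31111 = N21537 := ded_43_1 (flp_h L183020) (flp_e L181511) L263834
theorem L263840 : sm gf N31111 = N21352 := ded_47_1 (flp_h L181523) (flp_f L181513) L263834
theorem L263842 : sm gj N31111 = N21351 := ded_52_1 (flp_h L181515) L181507 L263834
theorem L263844 : sm gd N21351 = N31112 := rfl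
theorem L263846 : sm gf N31112 = N21353 := ded_35_2 (flp_d L181531) (flp_f L181521) L263844
theorem L263848 : sm gi N21351 = N31113 := rfl
theorem L263850 : sm gc N31113 = N21371 := ded_33_1 (flp_i L181661) (flp_c L181517) L263848
theorem L263852 : sm ge N31113 = N21539 := ded_44_1 (flp_i L183032) (flp_e L181519) L263848
theorem L263854 : sm gf N31113 = N21354 := ded_48_1 (flp_i L181535) (flp_f L181521) L263848
theorem L263856 : sm gd N21352 = N31114 := rfl
theorem L263858 : sm gj N31114 = N21353 := ded_37_2 (flp_d L181531) (flp_j L181529) L263856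
theorem L263860 : sm gi N21352 = N31115 := rfl
theorem L263862 : sm gc N31115 = N21373 := ded_33_1 (flp_i L181678) (flp_c L181525) L263860
theorem L263864 : sm ge N31115 = N21359 := ded_44_1 (flp_i L181565) (flp_e L181527) L263860
theorem L263866 : sm gj N31115 = N21354 := ded_53_1 (flp_i L181535) (flp_j L181529) L263860
theorem L263868 : sm gc N21353 = N31116 := rfl
theorem L263870 : sm gg N31116 = N21355 := ded_30_2 (flp_c L181543) (flp_g L181533) L263868
theorem L263872 : sm gd N31116 = N21374 := ded_27_2 (flp_c L181686) (flp_d L125127) (flp_c L125026) L181531 L263868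
theorem L263874 : sm ge N21353 = N31117 := rfl
theorem L263876 : sm gg N31117 = N21356 := ded_41_2 (flp_e L181547) (flp_g L181533) L263874
theorem L263878 : sm gd N31117 = N21360 := ded_34_1 (flp_e L181573) (flp_d L125048) (flp_e L125028) L181531 L263874
theorem L263880 : sm gi N21353 = N31118 := rfl
theorem L263882 : sm gd N31118 = N21354 := ded_39_1 (flp_i L181535) L181531 L263880
theorem L263884 : sm gg N31118 = N21357 := ded_51_1 (flp_i L181551) (flp_g L181533) L263880
theorem L263886 : sm gb N21355 = N31119 := rfl
theorem L263888 : sm gd N31119 = N21376 := ded_20_2 (flp_b L181703) (flp_d L181545) L263886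
theorem L263890 : sm ge N21355 = N31120 := rfl
theorem L263892 : sm gc N31120 = N21356 := ded_28_1 (flp_e L181547) L181543 L263890
theorem L263894 : sm gd N31120 = N21981 := ded_34_1 (flp_e L186714) L128584 (flp_e L125146) (flp_d L181545) L263890
theorem L263896 : sm gi N21355 = N31121 := rfl
theorem L263898 : sm gc N31121 = N21357 := ded_33_1 (flp_i L181551) L181543 L263896
theorem L263900 : sm gd N31121 = N21377 := ded_39_1 (flp_i L181710) (flp_d L181545) L263896
theorem L263902 : sm gf N21356 = N31122 := rfl
theorem L263904 : sm gd N31122 = N21362 := ded_35_1 (flp_f L181591) (flp_d L181549) L263902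
theorem L263906 : sm gi N21356 = N31123 := rfl
theorem L263908 : sm gd N31123 = N21363 := ded_39_1 (flp_i L181599) (flp_d L181549) L263906
theorem L263910 : sm ge N31123 = N21357 := ded_44_1 (flp_i L181551) L181547 L263906
theorem L263912 : sm gh N21357 = N31124 := rfl
theorem L263914 : sm ge N21358 = N31125 := rfl
theorem L263916 : sm gc N31125 = N21986 := ded_28_1 (flp_e L186743) (flp_c L181561) L263914
theorem L263918 : sm gj N31125 = N21360 := ded_42_2 (flp_e L181573) (flp_j L181559) L263914
theorem L263920 : sm gh N31125 = N23575 := ded_43_2 (flp_e L200533) (flp_h L181563) L263914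
theorem L263922 : sm gi N21358 = N31126 := rfl
theorem L263924 : sm gc N31126 = N21987 := ded_33_1 (flp_i L186750) (flp_c L181561) L263922
theorem L263926 : sm gd N31126 = N21359 := ded_39_1 (flp_i L181565) L181555 L263922
theorem L263928 : sm gf N31126 = N21552 := ded_48_1 (flp_i L183113) (flp_f L181557) L263922
theorem L263930 : sm gj N31126 = N21361 := ded_53_1 (flp_i L181581) (flp_j L181559) L263922
theorem L263932 : sm gf N21360 = N31127 := rfl
theorem L263934 : sm gc N31127 = N21988 := ded_29_1 (flp_f L186759) (flp_c L181575) L263932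
theorem L263936 : sm gh N31127 = N23577 := ded_47_2 (flp_f L200549) (flp_h L181579) L263932
theorem L263938 : sm ge N31127 = N21553 := ded_40_1 (flp_f L183122) (flp_e L126083) (flp_f L125050) L181573 L263932
theorem L263940 : sm gi N21360 = N31128 := rfl
theorem L263942 : sm gc N31128 = N21989 := ded_33_1 (flp_i L186766) (flp_c L181575) L263940
theorem L263944 : sm ge N31128 = N21361 := ded_44_1 (flp_i L181581) L181573 L263940
theorem L263946 : sm gg N31128 = N21363 := ded_51_1 (flp_i L181599) (flp_g L181577) L263940
theorem L263948 : sm gh N21361 = N31129 := rfl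
theorem L263958 : sm gg N21362 = N31130 := rfl
theorem L263960 : sm gc N31130 = N21991 := ded_30_1 (flp_g L186783) (flp_c L181593) L263958
theorem L263962 : sm ge N31130 = N21365 := ded_41_1 (flp_g L181613) (flp_e L181597) L263958
theorem L263964 : sm gh N31130 = N23580 := ded_50_2 (flp_g L200571) (flp_h L181595) L263958
theorem L263966 : sm gi N21362 = N31131 := rfl
theorem L263968 : sm gc N31131 = N21992 := ded_33_1 (flp_i L186790) (flp_c L181593) L263966
theorem L263970 : sm ge N31131 = N21366 := ded_44_1 (flp_i L181621) (flp_e L181597) L263966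
theorem L263972 : sm gf N31131 = N21363 := ded_48_1 (flp_i L181599) L181591 L263966
theorem L263974 : sm gh N21363 = N31132 := rfl
theorem L263978 : sm ge N31132 = N21364 := ded_43_1 (flp_h L181605) (flp_e L181603) L263974
theorem L263982 : sm gj N21365 = N31133 := rfl
theorem L263984 : sm gc N31133 = N21994 := ded_31_1 (flp_j L186804) (flp_c L181615) L263982
theorem L263986 : sm gf N31133 = N21559 := ded_46_1 (flp_j L183170) (flp_f L181619) L263982
theorem L263988 : sm gh N31133 = N23583 := ded_52_2 (flp_j L200591) (flp_h L181617) L263982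
theorem L263990 : sm gi N21365 = N31134 := rfl
theorem L263992 : sm gc N31134 = N21995 := ded_33_1 (flp_i L186812) (flp_c L181615) L263990
theorem L263994 : sm gf N31134 = N21560 := ded_48_1 (flp_i L183177) (flp_f L181619) L263990
theorem L263996 : sm gg N31134 = N21366 := ded_51_1 (flp_i L181621) L181613 L263990
theorem L263998 : sm gh N21366 = N31135 := rfl
theorem L264006 : sm gd N21367 = N31136 := rfl
theorem L264010 : sm gi N31136 = N23586 := ded_39_2 (flp_d L200613) (flp_i L181635) L264006
theorem L264012 : sm gh N21368 = N31137 := rfl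
theorem L264014 : sm gb N31137 = N21379 := ded_25_1 (flp_h L181723) (flp_b L181639) L264012
theorem L264016 : sm ge N31137 = N21563 := ded_43_1 (flp_h L183197) (flp_e L181642) L264012
theorem L264018 : sm gg N31137 = N21369 := ded_50_1 (flp_h L181644) L181637 L264012
theorem L264020 : sm gd N21369 = N31138 := rfl
theorem L264022 : sm gb N31138 = N21380 := ded_20_1 (flp_d L181730) (flp_b L181646) L264020
theorem L264024 : sm gf N31138 = N21372 := ded_35_2 (flp_d L181669) (flp_f L181650) L264020
theorem L264026 : sm gj N31138 = N21370 := ded_37_2 (flp_d L181654) (flp_j L181652) L264020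
theorem L264028 : sm gh N31138 = N31138 := ded_38_2 (flp_d L264020) (flp_h L181644) L125106 L181644 L264020
theorem L264029 : sm gi N21369 = N31139 := rfl
theorem L264031 : sm gb N31139 = N21381 := ded_26_1 (flp_i L181738) (flp_b L181646) L264029
theorem L264033 : sm ge N31139 = N21565 := ded_44_1 (flp_i L183214) (flp_e L181648) L264029
theorem L264035 : sm gf N31139 = N21373 := ded_48_1 (flp_i L181678) (flp_f L181650) L264029
theorem L264037 : sm gj N31139 = N21371 := ded_53_1 (flp_i L181661) (flp_j L181652) L264029
theorem L264039 : sm gc N21370 = N31140 := rfl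
theorem L264041 : sm gf N31140 = N21374 := ded_29_2 (flp_c L181686) (flp_f L181658) L264039
theorem L264043 : sm gh N31140 = N31140 := ded_32_2 (flp_c L264039) L181660 L264039
theorem L264044 : sm ge N21370 = N31141 := rfl
theorem L264046 : sm gb N31141 = N21383 := ded_21_1 (flp_e L181753) (flp_b L181656) L264044
theorem L264048 : sm gh N31141 = N31141 := ded_43_2 (flp_e L264044) L181660 L264044
theorem L264049 : sm gd N31141 = N21567 := ded_34_1 (flp_e L183228) (flp_d L126161) (flp_e L125115) L181654 L264044
theorem L264051 : sm gf N31141 = N22002 := ded_40_2 (flp_e L186871) L128698 (flp_e L125133) (flp_f L181658) L264044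
theorem L264053 : sm gi N21370 = N31142 := rfl
theorem L264055 : sm gb N31142 = N21384 := ded_26_1 (flp_i L181761) (flp_b L181656) L264053
theorem L264057 : sm gd N31142 = N21371 := ded_39_1 (flp_i L181661) L181654 L264053
theorem L264059 : sm gf N31142 = N21375 := ded_48_1 (flp_i L181693) (flp_f L181658) L264053
theorem L264061 : sm gc N21372 = N31143 := rfl
theorem L264063 : sm ge N31143 = N22004 := ded_28_2 (flp_c L186888) (flp_e L181675) L264061
theorem L264065 : sm gj N31143 = N21374 := ded_31_2 (flp_c L181686) (flp_j L181673) L264061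
theorem L264067 : sm gh N31143 = N31143 := ded_32_2 (flp_c L264061) L181677 L264061
theorem L264068 : sm gi N21372 = N31144 := rfl
theorem L264070 : sm gb N31144 = N21386 := ded_26_1 (flp_i L181776) (flp_b L181671) L264068
theorem L264072 : sm gd N31144 = N21373 := ded_39_1 (flp_i L181678) L181669 L264068
theorem L264074 : sm ge N31144 = N22005 := ded_44_1 (flp_i L186893) (flp_e L181675) L264068
theorem L264076 : sm gj N31144 = N21375 := ded_53_1 (flp_i L181693) (flp_j L181673) L264068
theorem L264078 : sm gb N21374 = N31145 := rfl
theorem L264080 : sm ge N31145 = N22006 := ded_21_2 (flp_b L186901) (flp_e L181688) L264078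
theorem L264082 : sm gg N31145 = N21376 := ded_23_2 (flp_b L181703) (flp_g L181690) L264078
theorem L264084 : sm gh N31145 = N31145 := ded_25_2 (flp_b L264078) L181692 L264078
theorem L264085 : sm gc N31145 = N21387 := ded_19_2 (flp_b L181785) (flp_c L125210) (flp_b L125129) L181686 L264078
theorem L264087 : sm gi N21374 = N31146 := rfl
theorem L264089 : sm gc N31146 = N21375 := ded_33_1 (flp_i L181693) L181686 L264087
theorem L264091 : sm ge N31146 = N22007 := ded_44_1 (flp_i L186908) (flp_e L181688) L264087
theorem L264093 : sm gg N31146 = N21377 := ded_51_1 (flp_i L181710) (flp_g L181690) L264087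
theorem L264095 : sm gh N21375 = N31147 := rfl
theorem L264097 : sm gb N31147 = N21389 := ded_25_1 (flp_h L181801) (flp_b L181695) L264095
theorem L264099 : sm ge N31147 = N22008 := ded_43_1 (flp_h L186914) (flp_e L181699) L264095
theorem L264101 : sm gg N31147 = N21378 := ded_50_1 (flp_h L181716) (flp_g L181701) L264095
theorem L264103 : sm gi N31147 = N31147 := ded_54_2 (flp_h L264095) (flp_i L181693) L125135 L181693 L264095
theorem L264104 : sm ga N21376 = N31148 := rfl
theorem L264106 : sm gc N31148 = N21390 := ded_11_2 (flp_a L181809) (flp_c L181708) L264104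
theorem L264108 : sm ge N31148 = N22009 := ded_13_2 (flp_a L186922) (flp_e L181705) L264104
theorem L264110 : sm gh N31148 = N31148 := ded_17_2 (flp_a L264104) L181707 L264104
theorem L264111 : sm gi N21376 = N31149 := rfl
theorem L264113 : sm gb N31149 = N21377 := ded_26_1 (flp_i L181710) L181703 L264111
theorem L264115 : sm gc N31149 = N21391 := ded_33_1 (flp_i L181815) (flp_c L181708) L264111
theorem L264117 : sm ge N31149 = N22010 := ded_44_1 (flp_i L186928) (flp_e L181705) L264111
theorem L264119 : sm gh N21377 = N31150 := rfl
theorem L264121 : sm gc N31150 = N21378 := ded_32_1 (flp_h L181716) (flp_c L181712) L264119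
theorem L264123 : sm ge N31150 = N22011 := ded_43_1 (flp_h L186935) (flp_e L181714) L264119
theorem L264125 : sm gi N31150 = N31150 := ded_54_2 (flp_h L264119) (flp_i L181710) L125148 L181710 L264119
theorem L264126 : sm gd N21379 = N31151 := rfl
theorem L264128 : sm ga N31151 = N31151 := ded_12_1 (flp_d L264126) L181725 L264126
theorem L264129 : sm gg N31151 = N21380 := ded_36_2 (flp_d L181730) (flp_g L181728) L264126
theorem L264131 : sm gh N31151 = N31151 := ded_38_2 (flp_d L264126) (flp_h L181723) L125170 L181723 L264126
theorem L264132 : sm gi N21379 = N31152 := rfl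
theorem L264134 : sm ga N31152 = N31152 := ded_18_1 (flp_i L264132) L181725 L264132
theorem L264135 : sm ge N31152 = N21578 := ded_44_1 (flp_i L183327) (flp_e L181726) L264132
theorem L264137 : sm gg N31152 = N21381 := ded_51_1 (flp_i L181738) (flp_g L181728) L264132
theorem L264139 : sm gc N21380 = N31153 := rfl
theorem L264141 : sm ga N31153 = N31153 := ded_11_1 (flp_c L264139) L181732 L264139
theorem L264142 : sm gf N31153 = N21385 := ded_29_2 (flp_c L181768) (flp_f L181733) L264139
theorem L264144 : sm gj N31153 = N21382 := ded_31_2 (flp_c L181747) (flp_j L181735) L264139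
theorem L264146 : sm gh N31153 = N31153 := ded_32_2 (flp_c L264139) L181737 L264139
theorem L264147 : sm ge N21380 = N31154 := rfl
theorem L264149 : sm ga N31154 = N31154 := ded_13_1 (flp_e L264147) L181732 L264147
theorem L264150 : sm gj N31154 = N21383 := ded_42_2 (flp_e L181753) (flp_j L181735) L264147
theorem L264152 : sm gh N31154 = N31154 := ded_43_2 (flp_e L264147) L181737 L264147
theorem L264153 : sm gd N31154 = N21580 := ded_34_1 (flp_e L183342) (flp_d L126244) (flp_e L125176) L181730 L264147
theorem L264157 : sm gi N21380 = N31155 := rfl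
theorem L264159 : sm ga N31155 = N31155 := ded_18_1 (flp_i L264157) L181732 L264157
theorem L264160 : sm gd N31155 = N21381 := ded_39_1 (flp_i L181738) L181730 L264157
theorem L264162 : sm gf N31155 = N21386 := ded_48_1 (flp_i L181776) (flp_f L181733) L264157
theorem L264164 : sm gj N31155 = N21384 := ded_53_1 (flp_i L181761) (flp_j L181735) L264157
theorem L264166 : sm gb N21382 = N31156 := rfl
theorem L264168 : sm gf N31156 = N21387 := ded_22_2 (flp_b L181785) (flp_f L181750) L264166
theorem L264170 : sm gh N31156 = N31156 := ded_25_2 (flp_b L264166) L181752 L264166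
theorem L264171 : sm ge N21382 = N31157 := rfl
theorem L264173 : sm ga N31157 = N31157 := ded_13_1 (flp_e L264171) L181749 L264171
theorem L264174 : sm gc N31157 = N21383 := ded_28_1 (flp_e L181753) L181747 L264171
theorem L264176 : sm gh N31157 = N31157 := ded_43_2 (flp_e L264171) L181752 L264171
theorem L264177 : sm gf N31157 = N22018 := ded_40_2 (flp_e L186991) L128790 (flp_e L125213) (flp_f L181750) L264171
theorem L264179 : sm gi N21382 = N31158 := rfl
theorem L264181 : sm ga N31158 = N31158 := ded_18_1 (flp_i L264179) L181749 L264179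
theorem L264182 : sm gc N31158 = N21384 := ded_33_1 (flp_i L181761) L181747 L264179
theorem L264184 : sm gf N31158 = N21388 := ded_48_1 (flp_i L181792) (flp_f L181750) L264179
theorem L264186 : sm gi N21383 = N31159 := rfl
theorem L264188 : sm ga N31159 = N31159 := ded_18_1 (flp_i L264186) L181755 L264186
theorem L264189 : sm gd N31159 = N21585 := ded_39_1 (flp_i L183382) (flp_d L181757) L264186
theorem L264191 : sm ge N31159 = N21384 := ded_44_1 (flp_i L181761) L181753 L264186
theorem L264193 : sm gf N31159 = N22020 := ded_48_1 (flp_i L187007) (flp_f L181759) L264186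
theorem L264195 : sm gh N21384 = N31160 := rfl
theorem L264197 : sm ga N31160 = N31160 := ded_17_1 (flp_h L264195) L181763 L264195
theorem L264198 : sm gf N31160 = N21389 := ded_47_1 (flp_h L181801) (flp_f L181766) L264195
theorem L264200 : sm gi N31160 = N31160 := ded_54_2 (flp_h L264195) (flp_i L181761) L125187 L181761 L264195
theorem L264201 : sm gb N21385 = N31161 := rfl
theorem L264203 : sm ge N31161 = N22022 := ded_21_2 (flp_b L187023) (flp_e L181771) L264201
theorem L264205 : sm gj N31161 = N21387 := ded_24_2 (flp_b L181785) (flp_j L181773) L264201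
theorem L264207 : sm gh N31161 = N31161 := ded_25_2 (flp_b L264201) L181775 L264201
theorem L264208 : sm gi N21385 = N31162 := rfl
theorem L264210 : sm ga N31162 = N31162 := ded_18_1 (flp_i L264208) L181770 L264208
theorem L264211 : sm gc N31162 = N21386 := ded_33_1 (flp_i L181776) L181768 L264208
theorem L264213 : sm ge N31162 = N22023 := ded_44_1 (flp_i L187029) (flp_e L181771) L264208
theorem L264215 : sm gj N31162 = N21388 := ded_53_1 (flp_i L181792) (flp_j L181773) L264208
theorem L264217 : sm gh N21386 = N31163 := rfl
theorem L264219 : sm ga N31163 = N31163 := ded_17_1 (flp_h L264217) L181778 L264217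
theorem L264220 : sm ge N31163 = N22024 := ded_43_1 (flp_h L187037) (flp_e L181781) L264217
theorem L264222 : sm gj N31163 = N21389 := ded_52_1 (flp_h L181801) (flp_j L181783) L264217
theorem L264224 : sm gi N31163 = N31163 := ded_54_2 (flp_h L264217) (flp_i L181776) L125202 L181776 L264217
theorem L264225 : sm ga N21387 = N31164 := rfl
theorem L264227 : sm ge N31164 = N22025 := ded_13_2 (flp_a L187044) (flp_e L181787) L264225
theorem L264229 : sm gg N31164 = N21390 := ded_15_2 (flp_a L181809) (flp_g L181789) L264225
theorem L264231 : sm gh N31164 = N31164 := ded_17_2 (flp_a L264225) L181791 L264225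
theorem L264232 : sm gb N31164 = N31164 := ded_10_2 (flp_a L264225) (flp_b L181785) L125212 L181785 L264225
theorem L264233 : sm gi N21387 = N31165 := rfl
theorem L264235 : sm gb N31165 = N21388 := ded_26_1 (flp_i L181792) L181785 L264233
theorem L264237 : sm ge N31165 = N22026 := ded_44_1 (flp_i L187051) (flp_e L181787) L264233
theorem L264239 : sm gg N31165 = N21391 := ded_51_1 (flp_i L181815) (flp_g L181789) L264233
theorem L264241 : sm gh N21388 = N31166 := rfl
theorem L264243 : sm ga N31166 = N31166 := ded_17_1 (flp_h L264241) L181794 L264241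
theorem L264244 : sm gc N31166 = N21389 := ded_32_1 (flp_h L181801) (flp_c L181795) L264241
theorem L264246 : sm ge N31166 = N22027 := ded_43_1 (flp_h L187058) (flp_e L181797) L264241
theorem L264248 : sm gg N31166 = N21392 := ded_50_1 (flp_h L181821) (flp_g L181799) L264241
theorem L264250 : sm gi N31166 = N31166 := ded_54_2 (flp_h L264241) (flp_i L181792) L125217 L181792 L264241
theorem L264251 : sm gi N21390 = N31167 := rfl
theorem L264253 : sm ga N31167 = N21391 := ded_18_1 (flp_i L181815) L181809 L264251
theorem L264255 : sm gb N31167 = N31167 := ded_26_1 (flp_i L264251) L181814 L264251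
theorem L264256 : sm ge N31167 = N22028 := ded_44_1 (flp_i L187066) (flp_e L181811) L264251
theorem L264258 : sm gh N21391 = N31168 := rfl
theorem L264260 : sm gb N31168 = N21392 := ded_25_1 (flp_h L181821) (flp_b L181817) L264258
theorem L264262 : sm ge N31168 = N22029 := ded_43_1 (flp_h L187073) (flp_e L181819) L264258
theorem L264264 : sm gi N31168 = N31168 := ded_54_2 (flp_h L264258) (flp_i L181815) L125231 L181815 L264258
theorem L264265 : sm gd N21392 = N31169 := rfl
theorem L264267 : sm ga N31169 = N31169 := ded_12_1 (flp_d L264265) L181823 L264265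
theorem L264268 : sm gi N31169 = N31169 := ded_39_2 (flp_d L264265) L181828 L264265
theorem L264279 : sm gg N21393 = N31171 := rfl
theorem L264281 : sm gb N31171 = N21403 := ded_23_1 (flp_g L181912) (flp_b L181831) L264279
theorem L264283 : sm gd N31171 = N21394 := ded_36_1 (flp_g L181838) L181829 L264279
theorem L264285 : sm ge N31171 = N23617 := ded_41_1 (flp_g L200884) (flp_e L181836) L264279
theorem L264287 : sm gi N31171 = N21475 := ded_51_2 (flp_g L182505) (flp_i L181834) L264279
theorem L264289 : sm gh N21393 = N31172 := rfl
theorem L264291 : sm gb N31172 = N21404 := ded_25_1 (flp_h L181924) (flp_b L181831) L264289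
theorem L264293 : sm ge N31172 = N23618 := ded_43_1 (flp_h L200892) (flp_e L181836) L264289
theorem L264296 : sm gf N21394 = N31173 := rfl
theorem L264298 : sm gb N31173 = N21405 := ded_22_1 (flp_f L181933) (flp_b L181840) L264296
theorem L264300 : sm gc N31173 = N31173 := ded_29_1 (flp_f L264296) L181842 L264296
theorem L264301 : sm gi N31173 = N21477 := ded_48_2 (flp_f L182520) (flp_i L181845) L264296
theorem L264303 : sm gj N21394 = N31174 := rfl
theorem L264305 : sm gb N31174 = N21406 := ded_24_1 (flp_j L181941) (flp_b L181840) L264303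
theorem L264307 : sm gc N31174 = N31174 := ded_31_1 (flp_j L264303) L181842 L264303
theorem L264308 : sm ge N31174 = N21396 := ded_42_1 (flp_j L181855) (flp_e L181843) L264303
theorem L264310 : sm gi N31174 = N21478 := ded_53_2 (flp_j L182525) (flp_i L181845) L264303
theorem L264312 : sm gg N31174 = N31174 := ded_49_1 (flp_j L264303) (flp_g L181838) L125250 L181838 L264303
theorem L264313 : sm gh N21394 = N31175 := rfl
theorem L264315 : sm gb N31175 = N21407 := ded_25_1 (flp_h L181952) (flp_b L181840) L264313
theorem L264320 : sm gg N31175 = N21395 := ded_50_1 (flp_h L181847) L181838 L264313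
theorem L264322 : sm gd N21395 = N31176 := rfl
theorem L264324 : sm gb N31176 = N21408 := ded_20_1 (flp_d L181962) (flp_b L181849) L264322
theorem L264327 : sm gi N21395 = N31177 := rfl
theorem L264329 : sm gb N31177 = N21409 := ded_26_1 (flp_i L181967) (flp_b L181849) L264327
theorem L264335 : sm gh N31177 = N21481 := ded_54_1 (flp_i L182547) (flp_h L125715) (flp_i L125251) L181847 L264327
theorem L264337 : sm gh N21396 = N31178 := rfl
theorem L264339 : sm gb N31178 = N21410 := ded_25_1 (flp_h L181978) (flp_b L181857) L264337
theorem L264343 : sm gj N31178 = N21397 := ded_52_1 (flp_h L181865) L181855 L264337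
theorem L264345 : sm gd N21397 = N31179 := rfl
theorem L264349 : sm gg N31179 = N21398 := ded_36_2 (flp_d L181872) (flp_g L181870) L264345
theorem L264353 : sm gi N21397 = N31180 := rfl
theorem L264355 : sm gb N31180 = N21412 := ded_26_1 (flp_i L181996) (flp_b L181867) L264353
theorem L264371 : sm ge N21398 = N31182 := rfl
theorem L264376 : sm gh N31182 = N23628 := ded_43_2 (flp_e L200979) (flp_h L181879) L264371
theorem L264378 : sm gi N21398 = N31183 := rfl
theorem L264402 : sm gf N21401 = N31186 := rfl
theorem L264407 : sm gh N31186 = N23632 := ded_47_2 (flp_f L201007) (flp_h L181903) L264402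
theorem L264409 : sm gi N21401 = N31187 := rfl
theorem L264425 : sm gf N21403 = N31189 := rfl
theorem L264427 : sm ga N31189 = N21426 := ded_14_1 (flp_f L182127) (flp_a L181914) L264425
theorem L264429 : sm gc N31189 = N21614 := ded_29_1 (flp_f L183649) (flp_c L181916) L264425
theorem L264431 : sm gd N31189 = N21405 := ded_35_1 (flp_f L181933) (flp_d L181918) L264425
theorem L264433 : sm gi N31189 = N21493 := ded_48_2 (flp_f L182642) (flp_i L181922) L264425
theorem L264435 : sm gj N21403 = N31190 := rfl
theorem L264437 : sm ga N31190 = N21427 := ded_16_1 (flp_j L182135) (flp_a L181914) L264435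
theorem L264441 : sm gd N31190 = N21406 := ded_37_1 (flp_j L181941) (flp_d L181918) L264435
theorem L264443 : sm ge N31190 = N23636 := ded_42_1 (flp_j L201039) (flp_e L181920) L264435
theorem L264448 : sm gh N21403 = N31191 := rfl
theorem L264450 : sm ga N31191 = N21428 := ded_17_1 (flp_h L182146) (flp_a L181914) L264448
theorem L264452 : sm gc N31191 = N21616 := ded_32_1 (flp_h L183668) (flp_c L181916) L264448
theorem L264454 : sm ge N31191 = N23637 := ded_43_1 (flp_h L201050) (flp_e L181920) L264448
theorem L264456 : sm gg N31191 = N21404 := ded_50_1 (flp_h L181924) L181912 L264448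
theorem L264458 : sm gd N21404 = N31192 := rfl
theorem L264460 : sm ga N31192 = N21429 := ded_12_1 (flp_d L182154) (flp_a L181926) L264458
theorem L264463 : sm gh N31192 = N21408 := ded_38_2 (flp_d L181962) (flp_h L125306) L125285 L181924 L264458
theorem L264465 : sm gi N21404 = N31193 := rfl
theorem L264471 : sm ge N31193 = N23639 := ded_44_1 (flp_i L201066) (flp_e L181930) L264465
theorem L264474 : sm gh N31193 = N21497 := ded_54_1 (flp_i L182678) (flp_h L125787) (flp_i L125290) L181924 L264465
theorem L264476 : sm gj N21405 = N31194 := rfl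
theorem L264478 : sm ga N31194 = N21431 := ded_16_1 (flp_j L182168) (flp_a L181935) L264476
theorem L264480 : sm gc N31194 = N21418 := ded_31_1 (flp_j L182050) (flp_c L181937) L264476
theorem L264482 : sm gf N31194 = N21406 := ded_46_1 (flp_j L181941) L181933 L264476
theorem L264484 : sm gi N31194 = N21498 := ded_53_2 (flp_j L182687) (flp_i L181939) L264476
theorem L264486 : sm gh N21405 = N31195 := rfl
theorem L264488 : sm ga N31195 = N21432 := ded_17_1 (flp_h L182176) (flp_a L181935) L264486
theorem L264490 : sm gc N31195 = N21419 := ded_32_1 (flp_h L182061) (flp_c L181937) L264486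
theorem L264492 : sm gf N31195 = N21407 := ded_47_1 (flp_h L181952) L181933 L264486
theorem L264494 : sm gh N21406 = N31196 := rfl
theorem L264496 : sm ga N31196 = N21433 := ded_17_1 (flp_h L182182) (flp_a L181943) L264494
theorem L264498 : sm gc N31196 = N21420 := ded_32_1 (flp_h L182068) (flp_c L181945) L264494
theorem L264500 : sm ge N31196 = N21410 := ded_43_1 (flp_h L181978) (flp_e L181947) L264494
theorem L264502 : sm gg N31196 = N31196 := ded_50_1 (flp_h L264494) L181951 L264494
theorem L264503 : sm gj N31196 = N21407 := ded_52_1 (flp_h L181952) L181941 L264494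
theorem L264505 : sm gd N21407 = N31197 := rfl
theorem L264507 : sm ga N31197 = N21434 := ded_12_1 (flp_d L182191) (flp_a L181954) L264505
theorem L264509 : sm gg N31197 = N21408 := ded_36_2 (flp_d L181962) (flp_g L181960) L264505
theorem L264511 : sm gi N21407 = N31198 := rfl
theorem L264513 : sm ga N31198 = N21435 := ded_18_1 (flp_i L182195) (flp_a L181954) L264511
theorem L264515 : sm gc N31198 = N21422 := ded_33_1 (flp_i L182088) (flp_c L181956) L264511
theorem L264517 : sm ge N31198 = N21412 := ded_44_1 (flp_i L181996) (flp_e L181958) L264511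
theorem L264519 : sm gg N31198 = N21409 := ded_51_1 (flp_i L181967) (flp_g L181960) L264511
theorem L264521 : sm gh N31198 = N21502 := ded_54_1 (flp_i L182720) (flp_h L125811) (flp_i L125304) L181952 L264511
theorem L264523 : sm gc N21408 = N31199 := rfl
theorem L264525 : sm ga N31199 = N21436 := ded_11_1 (flp_c L182205) (flp_a L181964) L264523
theorem L264528 : sm gd N31199 = N21423 := ded_27_2 (flp_c L182099) (flp_d L125401) (flp_c L125310) L181962 L264523
theorem L264530 : sm ge N21408 = N31200 := rfl
theorem L264532 : sm ga N31200 = N21437 := ded_13_1 (flp_e L182210) (flp_a L181964) L264530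
theorem L264537 : sm gi N21408 = N31201 := rfl
theorem L264539 : sm ga N31201 = N21438 := ded_18_1 (flp_i L182215) (flp_a L181964) L264537
theorem L264541 : sm gd N31201 = N21409 := ded_39_1 (flp_i L181967) L181962 L264537
theorem L264543 : sm gj N31201 = N31201 := ded_53_1 (flp_i L264537) L181966 L264537
theorem L264544 : sm gd N21410 = N31202 := rfl
theorem L264546 : sm ga N31202 = N21439 := ded_12_1 (flp_d L182220) (flp_a L181980) L264544
theorem L264554 : sm gi N21410 = N31203 := rfl
theorem L264556 : sm ga N31203 = N21440 := ded_18_1 (flp_i L182228) (flp_a L181980) L264554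
theorem L264558 : sm gc N31203 = N21425 := ded_33_1 (flp_i L182116) (flp_c L181982) L264554
theorem L264560 : sm gg N31203 = N31203 := ded_51_1 (flp_i L264554) L181984 L264554
theorem L264561 : sm gj N31203 = N21412 := ded_53_1 (flp_i L181996) (flp_j L181985) L264554
theorem L264563 : sm gh N31203 = N21507 := ded_54_1 (flp_i L182762) (flp_h L125835) (flp_i L125323) L181978 L264554
theorem L264565 : sm ge N21411 = N31204 := rfl
theorem L264567 : sm ga N31204 = N21441 := ded_13_1 (flp_e L182237) (flp_a L181989) L264565
theorem L264572 : sm gh N31204 = N23650 := ded_43_2 (flp_e L201166) (flp_h L181994) L264565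
theorem L264601 : sm gh N21414 = N31208 := rfl
theorem L264606 : sm gf N31208 = N21417 := ded_47_1 (flp_h L182040) (flp_f L182021) L264601
theorem L264611 : sm gi N31208 = N23654 := ded_54_2 (flp_h L201198) (flp_i L138517) (flp_h L125342) L182014 L264601
theorem L264613 : sm gg N21415 = N31209 := rfl
theorem L264618 : sm gh N31209 = N23655 := ded_50_2 (flp_g L201208) (flp_h L182030) L264613
theorem L264620 : sm gi N21415 = N31210 := rfl
theorem L264625 : sm gf N31210 = N21416 := ded_48_1 (flp_i L182032) L182024 L264620
theorem L264628 : sm gh N21416 = N31211 := rfl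
theorem L264630 : sm ga N31211 = N21448 := ded_17_1 (flp_h L182286) (flp_a L182034) L264628
theorem L264638 : sm gg N21418 = N31212 := rfl
theorem L264640 : sm ga N31212 = N21449 := ded_15_1 (flp_g L182294) (flp_a L182052) L264638
theorem L264642 : sm gb N31212 = N31212 := ded_23_1 (flp_g L264638) L182054 L264638
theorem L264643 : sm gd N31212 = N21635 := ded_36_1 (flp_g L183841) (flp_d L182055) L264638
theorem L264645 : sm gi N31212 = N21516 := ded_51_2 (flp_g L182850) (flp_i L182059) L264638
theorem L264647 : sm gf N31212 = N31212 := ded_45_1 (flp_g L264638) L182057 L125391 (flp_f L182057) L264638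
theorem L264648 : sm gh N21418 = N31213 := rfl
theorem L264650 : sm ga N31213 = N21450 := ded_17_1 (flp_h L182303) (flp_a L182052) L264648
theorem L264652 : sm gb N31213 = N31213 := ded_25_1 (flp_h L264648) L182054 L264648
theorem L264653 : sm gf N31213 = N21420 := ded_47_1 (flp_h L182068) (flp_f L182057) L264648
theorem L264655 : sm gj N31213 = N21419 := ded_52_1 (flp_h L182061) L182050 L264648
theorem L264657 : sm gd N21419 = N31214 := rfl
theorem L264659 : sm ga N31214 = N21451 := ded_12_1 (flp_d L182311) (flp_a L182063) L264657
theorem L264662 : sm gf N31214 = N21421 := ded_35_2 (flp_d L182078) (flp_f L182066) L264657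
theorem L264664 : sm gh N31214 = N21637 := ded_38_2 (flp_d L183860) (flp_h L126592) (flp_d L125376) L182061 L264657
theorem L264666 : sm gi N21419 = N31215 := rfl
theorem L264668 : sm ga N31215 = N21452 := ded_18_1 (flp_i L182319) (flp_a L182063) L264666
theorem L264670 : sm gb N31215 = N31215 := ded_26_1 (flp_i L264666) L182065 L264666
theorem L264671 : sm gf N31215 = N21422 := ded_48_1 (flp_i L182088) (flp_f L182066) L264666
theorem L264673 : sm gh N31215 = N21519 := ded_54_1 (flp_i L182876) (flp_h L125918) (flp_i L125378) L182061 L264666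
theorem L264675 : sm gd N21420 = N31216 := rfl
theorem L264677 : sm ga N31216 = N21453 := ded_12_1 (flp_d L182327) (flp_a L182070) L264675
theorem L264681 : sm gj N31216 = N21421 := ded_37_2 (flp_d L182078) (flp_j L182076) L264675
theorem L264684 : sm gh N31216 = N21639 := ded_38_2 (flp_d L183877) (flp_h L126600) (flp_d L125385) L182068 L264675
theorem L264686 : sm gi N21420 = N31217 := rfl
theorem L264688 : sm ga N31217 = N21454 := ded_18_1 (flp_i L182337) (flp_a L182070) L264686
theorem L264690 : sm gb N31217 = N31217 := ded_26_1 (flp_i L264686) L182072 L264686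
theorem L264691 : sm ge N31217 = N21425 := ded_44_1 (flp_i L182116) (flp_e L182073) L264686
theorem L264693 : sm gg N31217 = N31217 := ded_51_1 (flp_i L264686) L182075 L264686
theorem L264694 : sm gj N31217 = N21422 := ded_53_1 (flp_i L182088) (flp_j L182076) L264686
theorem L264696 : sm gh N31217 = N21521 := ded_54_1 (flp_i L182895) (flp_h L125925) (flp_i L125389) L182068 L264686
theorem L264698 : sm gc N21421 = N31218 := rfl
theorem L264700 : sm ga N31218 = N21455 := ded_11_1 (flp_c L182348) (flp_a L182080) L264698
theorem L264707 : sm gi N21421 = N31219 := rfl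
theorem L264709 : sm ga N31219 = N21456 := ded_18_1 (flp_i L182355) (flp_a L182080) L264707
theorem L264712 : sm gd N31219 = N21422 := ded_39_1 (flp_i L182088) L182078 L264707
theorem L264715 : sm gg N31219 = N21424 := ded_51_1 (flp_i L182107) (flp_g L182083) L264707
theorem L264717 : sm gb N21423 = N31220 := rfl
theorem L264721 : sm gh N31220 = N21643 := ded_25_2 (flp_b L183915) (flp_h L182105) L264717
theorem L264724 : sm gi N21423 = N31221 := rfl
theorem L264743 : sm ge N21426 = N31223 := rfl
theorem L264745 : sm gc N31223 = N21646 := ded_28_1 (flp_e L183937) (flp_c L182129) L264743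
theorem L264747 : sm gi N31223 = N21527 := ded_44_2 (flp_e L182953) (flp_i L182133) L264743
theorem L264749 : sm gf N31223 = N23668 := ded_40_2 (flp_e L201340) (flp_f L138639) (flp_e L125445) L182127 L264743
theorem L264751 : sm gj N21426 = N31224 := rfl
theorem L264753 : sm gc N31224 = N21647 := ded_31_1 (flp_j L183945) (flp_c L182129) L264751
theorem L264755 : sm gd N31224 = N21431 := ded_37_1 (flp_j L182168) (flp_d L182131) L264751
theorem L264757 : sm gf N31224 = N21427 := ded_46_1 (flp_j L182135) L182127 L264751
theorem L264759 : sm gi N31224 = N21528 := ded_53_2 (flp_j L182959) (flp_i L182133) L264751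
theorem L264761 : sm gh N21426 = N31225 := rfl
theorem L264763 : sm gc N31225 = N21648 := ded_32_1 (flp_h L183954) (flp_c L182129) L264761
theorem L264765 : sm gf N31225 = N21428 := ded_47_1 (flp_h L182146) L182127 L264761
theorem L264767 : sm gh N21427 = N31226 := rfl
theorem L264769 : sm gc N31226 = N21649 := ded_32_1 (flp_h L183959) (flp_c L182137) L264767
theorem L264771 : sm ge N31226 = N23671 := ded_43_1 (flp_h L201364) (flp_e L182141) L264767
theorem L264773 : sm gg N31226 = N31226 := ded_50_1 (flp_h L264767) L182145 L264767
theorem L264774 : sm gj N31226 = N21428 := ded_52_1 (flp_h L182146) L182135 L264767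
theorem L264776 : sm gd N21428 = N31227 := rfl
theorem L264778 : sm gg N31227 = N21429 := ded_36_2 (flp_d L182154) (flp_g L182152) L264776
theorem L264780 : sm gh N31227 = N21434 := ded_38_2 (flp_d L182191) (flp_h L125471) (flp_d L125443) L182146 L264776
theorem L264782 : sm gi N21428 = N31228 := rfl
theorem L264784 : sm gc N31228 = N21651 := ded_33_1 (flp_i L183974) (flp_c L182148) L264782
theorem L264786 : sm ge N31228 = N23673 := ded_44_1 (flp_i L201377) (flp_e L182150) L264782
theorem L264788 : sm gg N31228 = N21430 := ded_51_1 (flp_i L182159) (flp_g L182152) L264782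
theorem L264790 : sm gh N31228 = N21532 := ded_54_1 (flp_i L182988) (flp_h L125999) (flp_i L125447) L182146 L264782
theorem L264792 : sm gc N21429 = N31229 := rfl
theorem L264795 : sm gh N31229 = N21436 := ded_32_2 (flp_c L182205) (flp_h L182157) L264792
theorem L264797 : sm gd N31229 = N21652 := ded_27_2 (flp_c L183983) (flp_d L126680) (flp_c L125451) L182154 L264792
theorem L264799 : sm ge N21429 = N31230 := rfl
theorem L264801 : sm gj N31230 = N31230 := ded_42_2 (flp_e L264799) L182156 L264799
theorem L264802 : sm gh N31230 = N21437 := ded_43_2 (flp_e L182210) (flp_h L182157) L264799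
theorem L264804 : sm gd N31230 = N23675 := ded_34_1 (flp_e L201393) (flp_d L138663) (flp_e L125453) L182154 L264799
theorem L264806 : sm gi N21429 = N31231 := rfl
theorem L264808 : sm gd N31231 = N21430 := ded_39_1 (flp_i L182159) L182154 L264806
theorem L264810 : sm gj N31231 = N31231 := ded_53_1 (flp_i L264806) L182156 L264806
theorem L264811 : sm gg N21431 = N31232 := rfl
theorem L264813 : sm gc N31232 = N21449 := ded_30_1 (flp_g L182294) (flp_c L182170) L264811
theorem L264815 : sm gi N31232 = N21536 := ded_51_2 (flp_g L183015) (flp_i L182174) L264811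
theorem L264817 : sm gf N31232 = N31232 := ded_45_1 (flp_g L264811) L182172 L125470 (flp_f L182172) L264811
theorem L264818 : sm gh N21431 = N31233 := rfl
theorem L264820 : sm gc N31233 = N21450 := ded_32_1 (flp_h L182303) (flp_c L182170) L264818
theorem L264822 : sm gf N31233 = N21433 := ded_47_1 (flp_h L182182) (flp_f L182172) L264818
theorem L264824 : sm gj N31233 = N21432 := ded_52_1 (flp_h L182176) L182168 L264818
theorem L264826 : sm gd N21432 = N31234 := rfl
theorem L264828 : sm gf N31234 = N21434 := ded_35_2 (flp_d L182191) (flp_f L182180) L264826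
theorem L264830 : sm gi N21432 = N31235 := rfl
theorem L264832 : sm gc N31235 = N21452 := ded_33_1 (flp_i L182319) (flp_c L182178) L264830
theorem L264834 : sm gf N31235 = N21435 := ded_48_1 (flp_i L182195) (flp_f L182180) L264830
theorem L264836 : sm gh N31235 = N21539 := ded_54_1 (flp_i L183032) (flp_h L126025) (flp_i L125460) L182176 L264830
theorem L264838 : sm gd N21433 = N31236 := rfl
theorem L264840 : sm gg N31236 = N31236 := ded_36_2 (flp_d L264838) L182188 L264838
theorem L264841 : sm gj N31236 = N21434 := ded_37_2 (flp_d L182191) (flp_j L182189) L264838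
theorem L264843 : sm gi N21433 = N31237 := rfl
theorem L264845 : sm gc N31237 = N21454 := ded_33_1 (flp_i L182337) (flp_c L182184) L264843
theorem L264847 : sm ge N31237 = N21440 := ded_44_1 (flp_i L182228) (flp_e L182186) L264843
theorem L264849 : sm gg N31237 = N31237 := ded_51_1 (flp_i L264843) L182188 L264843
theorem L264850 : sm gj N31237 = N21435 := ded_53_1 (flp_i L182195) (flp_j L182189) L264843
theorem L264852 : sm gh N31237 = N21541 := ded_54_1 (flp_i L183043) (flp_h L126031) (flp_i L125468) L182182 L264843
theorem L264854 : sm gc N21434 = N31238 := rfl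
theorem L264856 : sm gg N31238 = N21436 := ded_30_2 (flp_c L182205) (flp_g L182193) L264854
theorem L264858 : sm gd N31238 = N21455 := ded_27_2 (flp_c L182348) (flp_d L125572) (flp_c L125473) L182191 L264854
theorem L264860 : sm ge N21434 = N31239 := rfl
theorem L264862 : sm gg N31239 = N21437 := ded_41_2 (flp_e L182210) (flp_g L182193) L264860
theorem L264864 : sm gd N31239 = N21441 := ded_34_1 (flp_e L182237) (flp_d L125498) (flp_e L125475) L182191 L264860
theorem L264866 : sm gi N21434 = N31240 := rfl
theorem L264868 : sm gd N31240 = N21435 := ded_39_1 (flp_i L182195) L182191 L264866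
theorem L264870 : sm gg N31240 = N21438 := ded_51_1 (flp_i L182215) (flp_g L182193) L264866
theorem L264872 : sm gb N21436 = N31241 := rfl
theorem L264874 : sm gd N31241 = N21457 := ded_20_2 (flp_b L182364) (flp_d L182208) L264872
theorem L264876 : sm gj N31241 = N31241 := ded_24_2 (flp_b L264872) L182207 L264872
theorem L264877 : sm ge N21436 = N31242 := rfl
theorem L264879 : sm gc N31242 = N21437 := ded_28_1 (flp_e L182210) L182205 L264877
theorem L264881 : sm gj N31242 = N31242 := ded_42_2 (flp_e L264877) L182207 L264877
theorem L264882 : sm gd N31242 = N31242 := ded_34_1 (flp_e L264877) L182208 L125593 (flp_d L182208) L264877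
theorem L264883 : sm gi N21436 = N31243 := rfl
theorem L264885 : sm gc N31243 = N21438 := ded_33_1 (flp_i L182215) L182205 L264883
theorem L264887 : sm gd N31243 = N21458 := ded_39_1 (flp_i L182372) (flp_d L182208) L264883
theorem L264889 : sm gj N31243 = N31243 := ded_53_1 (flp_i L264883) L182207 L264883
theorem L264890 : sm gf N21437 = N31244 := rfl
theorem L264895 : sm gi N21437 = N31245 := rfl
theorem L264897 : sm gd N31245 = N21444 := ded_39_1 (flp_i L182259) (flp_d L182213) L264895
theorem L264899 : sm ge N31245 = N21438 := ded_44_1 (flp_i L182215) L182210 L264895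
theorem L264901 : sm gj N31245 = N31245 := ded_53_1 (flp_i L264895) L182212 L264895
theorem L264902 : sm gh N21438 = N31246 := rfl
theorem L264904 : sm gj N31246 = N31246 := ded_52_1 (flp_h L264902) L182219 L264902
theorem L264905 : sm gd N31246 = N21550 := ded_38_1 (flp_h L183101) L126064 (flp_h L125489) (flp_d L182217) L264902
theorem L264907 : sm ge N21439 = N31247 := rfl
theorem L264909 : sm gc N31247 = N31247 := ded_28_1 (flp_e L264907) L182225 L264907
theorem L264910 : sm gg N31247 = N31247 := ded_41_2 (flp_e L264907) L182222 L264907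
theorem L264911 : sm gj N31247 = N21441 := ded_42_2 (flp_e L182237) (flp_j L182223) L264907
theorem L264913 : sm gh N31247 = N23692 := ded_43_2 (flp_e L201507) (flp_h L182226) L264907
theorem L264915 : sm gi N21439 = N31248 := rfl
theorem L264917 : sm gc N31248 = N31248 := ded_33_1 (flp_i L264915) L182225 L264915
theorem L264918 : sm gd N31248 = N21440 := ded_39_1 (flp_i L182228) L182220 L264915
theorem L264920 : sm gg N31248 = N31248 := ded_51_1 (flp_i L264915) L182222 L264915
theorem L264921 : sm gj N31248 = N21442 := ded_53_1 (flp_i L182244) (flp_j L182223) L264915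
theorem L264923 : sm gf N21441 = N31249 := rfl
theorem L264925 : sm gc N31249 = N31249 := ded_29_1 (flp_f L264923) L182239 L264923
theorem L264926 : sm gh N31249 = N23694 := ded_47_2 (flp_f L201521) (flp_h L182242) L264923
theorem L264928 : sm gi N21441 = N31250 := rfl
theorem L264930 : sm gc N31250 = N31250 := ded_33_1 (flp_i L264928) L182239 L264928
theorem L264931 : sm ge N31250 = N21442 := ded_44_1 (flp_i L182244) L182237 L264928
theorem L264933 : sm gg N31250 = N21444 := ded_51_1 (flp_i L182259) (flp_g L182240) L264928
theorem L264935 : sm gh N21442 = N31251 := rfl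
theorem L264944 : sm gg N21443 = N31252 := rfl
theorem L264947 : sm ge N31252 = N21446 := ded_41_1 (flp_g L182275) (flp_e L182257) L264944
theorem L264949 : sm gh N31252 = N23697 := ded_50_2 (flp_g L201538) (flp_h L182255) L264944
theorem L264951 : sm gi N21443 = N31253 := rfl
theorem L264956 : sm gf N31253 = N21444 := ded_48_1 (flp_i L182259) L182251 L264951
theorem L264959 : sm gh N21444 = N31254 := rfl
theorem L264967 : sm gj N21446 = N31255 := rfl
theorem L264970 : sm gh N31255 = N23700 := ded_52_2 (flp_j L201557) (flp_h L182278) L264967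
theorem L264973 : sm gi N21446 = N31256 := rfl
theorem L264978 : sm gh N21447 = N31257 := rfl
theorem L264981 : sm gf N31257 = N21448 := ded_47_1 (flp_h L182286) (flp_f L182283) L264978
theorem L264984 : sm gi N31257 = N23702 := ded_54_2 (flp_h L201568) (flp_i L138783) (flp_h L125531) L182280 L264978
theorem L264986 : sm gd N21448 = N31258 := rfl
theorem L264989 : sm gi N31258 = N23703 := ded_39_2 (flp_d L201574) (flp_i L182292) L264986
theorem L264993 : sm gh N21449 = N31259 := rfl
theorem L264995 : sm gb N31259 = N21460 := ded_25_1 (flp_h L182388) (flp_b L182296) L264993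
theorem L264997 : sm gf N31259 = N31259 := ded_47_1 (flp_h L264993) L182302 L264993
theorem L264998 : sm gg N31259 = N21450 := ded_50_1 (flp_h L182303) L182294 L264993
theorem L265000 : sm gd N21450 = N31260 := rfl
theorem L265002 : sm gb N31260 = N21461 := ded_20_1 (flp_d L182394) (flp_b L182305) L265000
theorem L265004 : sm gf N31260 = N21453 := ded_35_2 (flp_d L182327) (flp_f L182307) L265000
theorem L265006 : sm gj N31260 = N21451 := ded_37_2 (flp_d L182311) (flp_j L182309) L265000
theorem L265008 : sm gh N31260 = N21679 := ded_38_2 (flp_d L184191) (flp_h L126834) (flp_d L125551) L182303 L265000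
theorem L265010 : sm gi N21450 = N31261 := rfl
theorem L265012 : sm gb N31261 = N21462 := ded_26_1 (flp_i L182403) (flp_b L182305) L265010
theorem L265014 : sm gf N31261 = N21454 := ded_48_1 (flp_i L182337) (flp_f L182307) L265010
theorem L265016 : sm gj N31261 = N21452 := ded_53_1 (flp_i L182319) (flp_j L182309) L265010
theorem L265018 : sm gh N31261 = N21565 := ded_54_1 (flp_i L183214) (flp_h L126153) (flp_i L125555) L182303 L265010
theorem L265020 : sm gc N21451 = N31262 := rfl
theorem L265022 : sm gf N31262 = N21455 := ded_29_2 (flp_c L182348) (flp_f L182315) L265020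
theorem L265024 : sm gh N31262 = N21681 := ded_32_2 (flp_c L184210) (flp_h L182317) L265020
theorem L265026 : sm ge N21451 = N31263 := rfl
theorem L265028 : sm gb N31263 = N21464 := ded_21_1 (flp_e L182419) (flp_b L182313) L265026
theorem L265030 : sm gh N31263 = N21682 := ded_43_2 (flp_e L184214) (flp_h L182317) L265026
theorem L265032 : sm gf N31263 = N31263 := ded_40_2 (flp_e L265026) L182315 L125578 (flp_f L182315) L265026
theorem L265033 : sm gi N21451 = N31264 := rfl
theorem L265035 : sm gb N31264 = N21465 := ded_26_1 (flp_i L182425) (flp_b L182313) L265033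
theorem L265037 : sm gd N31264 = N21452 := ded_39_1 (flp_i L182319) L182311 L265033
theorem L265039 : sm gf N31264 = N21456 := ded_48_1 (flp_i L182355) (flp_f L182315) L265033
theorem L265041 : sm gc N21453 = N31265 := rfl
theorem L265043 : sm ge N31265 = N31265 := ded_28_2 (flp_c L265041) L182334 L265041
theorem L265044 : sm gg N31265 = N31265 := ded_30_2 (flp_c L265041) L182331 L265041
theorem L265045 : sm gj N31265 = N21455 := ded_31_2 (flp_c L182348) (flp_j L182332) L265041
theorem L265047 : sm gh N31265 = N21684 := ded_32_2 (flp_c L184228) (flp_h L182335) L265041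
theorem L265049 : sm gi N21453 = N31266 := rfl
theorem L265051 : sm gb N31266 = N21467 := ded_26_1 (flp_i L182441) (flp_b L182329) L265049
theorem L265053 : sm gd N31266 = N21454 := ded_39_1 (flp_i L182337) L182327 L265049
theorem L265055 : sm ge N31266 = N31266 := ded_44_1 (flp_i L265049) L182334 L265049
theorem L265056 : sm gg N31266 = N31266 := ded_51_1 (flp_i L265049) L182331 L265049
theorem L265057 : sm gj N31266 = N21456 := ded_53_1 (flp_i L182355) (flp_j L182332) L265049
theorem L265059 : sm gb N21455 = N31267 := rfl
theorem L265061 : sm ge N31267 = N31267 := ded_21_2 (flp_b L265059) L182350 L265059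
theorem L265062 : sm gg N31267 = N21457 := ded_23_2 (flp_b L182364) (flp_g L182351) L265059
theorem L265064 : sm gh N31267 = N21686 := ded_25_2 (flp_b L184244) (flp_h L182353) L265059
theorem L265066 : sm gc N31267 = N21468 := ded_19_2 (flp_b L182450) (flp_c L125663) (flp_b L125574) L182348 L265059
theorem L265068 : sm gi N21455 = N31268 := rfl
theorem L265070 : sm gc N31268 = N21456 := ded_33_1 (flp_i L182355) L182348 L265068
theorem L265072 : sm ge N31268 = N31268 := ded_44_1 (flp_i L265068) L182350 L265068
theorem L265073 : sm gg N31268 = N21458 := ded_51_1 (flp_i L182372) (flp_g L182351) L265068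
theorem L265075 : sm gh N21456 = N31269 := rfl
theorem L265077 : sm gb N31269 = N21470 := ded_25_1 (flp_h L182465) (flp_b L182357) L265075
theorem L265082 : sm gd N31269 = N21573 := ded_38_1 (flp_h L183282) L126207 (flp_h L125589) (flp_d L182359) L265075
theorem L265086 : sm ga N21457 = N31270 := rfl
theorem L265088 : sm gc N31270 = N21471 := ded_11_2 (flp_a L182475) (flp_c L182370) L265086
theorem L265090 : sm ge N31270 = N31270 := ded_13_2 (flp_a L265086) L182366 L265086
theorem L265091 : sm gj N31270 = N31270 := ded_16_2 (flp_a L265086) L182367 L265086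
theorem L265092 : sm gh N31270 = N21689 := ded_17_2 (flp_a L184267) (flp_h L182368) L265086
theorem L265094 : sm gi N21457 = N31271 := rfl
theorem L265096 : sm gb N31271 = N21458 := ded_26_1 (flp_i L182372) L182364 L265094
theorem L265098 : sm gc N31271 = N21472 := ded_33_1 (flp_i L182482) (flp_c L182370) L265094
theorem L265100 : sm ge N31271 = N31271 := ded_44_1 (flp_i L265094) L182366 L265094
theorem L265101 : sm gj N31271 = N31271 := ded_53_1 (flp_i L265094) L182367 L265094
theorem L265102 : sm gh N21458 = N31272 := rfl
theorem L265104 : sm gc N31272 = N21459 := ded_32_1 (flp_h L182378) (flp_c L182374) L265102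
theorem L265108 : sm gi N31272 = N21691 := ded_54_2 (flp_h L184281) (flp_i L126897) (flp_h L125595) L182372 L265102
theorem L265110 : sm gd N21460 = N31273 := rfl
theorem L265112 : sm ga N31273 = N31273 := ded_12_1 (flp_d L265110) L182390 L265110
theorem L265113 : sm gf N31273 = N31273 := ded_35_2 (flp_d L265110) L182391 L265110
theorem L265114 : sm gg N31273 = N21461 := ded_36_2 (flp_d L182394) (flp_g L182392) L265110
theorem L265116 : sm gh N31273 = N21692 := ded_38_2 (flp_d L184287) (flp_h L126911) (flp_d L125618) L182388 L265110
theorem L265118 : sm gi N21460 = N31274 := rfl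
theorem L265120 : sm ga N31274 = N31274 := ded_18_1 (flp_i L265118) L182390 L265118
theorem L265121 : sm gf N31274 = N31274 := ded_48_1 (flp_i L265118) L182391 L265118
theorem L265122 : sm gg N31274 = N21462 := ded_51_1 (flp_i L182403) (flp_g L182392) L265118
theorem L265124 : sm gh N31274 = N21578 := ded_54_1 (flp_i L183327) (flp_h L126238) (flp_i L125620) L182388 L265118
theorem L265126 : sm gc N21461 = N31275 := rfl
theorem L265128 : sm ga N31275 = N31275 := ded_11_1 (flp_c L265126) L182396 L265126
theorem L265129 : sm gf N31275 = N21466 := ded_29_2 (flp_c L182432) (flp_f L182397) L265126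
theorem L265131 : sm gj N31275 = N21463 := ded_31_2 (flp_c L182412) (flp_j L182399) L265126
theorem L265133 : sm gh N31275 = N21694 := ded_32_2 (flp_c L184303) (flp_h L182401) L265126
theorem L265135 : sm ge N21461 = N31276 := rfl
theorem L265137 : sm ga N31276 = N31276 := ded_13_1 (flp_e L265135) L182396 L265135
theorem L265138 : sm gj N31276 = N21464 := ded_42_2 (flp_e L182419) (flp_j L182399) L265135
theorem L265140 : sm gh N31276 = N21695 := ded_43_2 (flp_e L184311) (flp_h L182401) L265135
theorem L265142 : sm gf N31276 = N31276 := ded_40_2 (flp_e L265135) L182397 L125650 (flp_f L182397) L265135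
theorem L265143 : sm gi N21461 = N31277 := rfl
theorem L265145 : sm ga N31277 = N31277 := ded_18_1 (flp_i L265143) L182396 L265143
theorem L265146 : sm gd N31277 = N21462 := ded_39_1 (flp_i L182403) L182394 L265143
theorem L265148 : sm gf N31277 = N21467 := ded_48_1 (flp_i L182441) (flp_f L182397) L265143
theorem L265150 : sm gj N31277 = N21465 := ded_53_1 (flp_i L182425) (flp_j L182399) L265143
theorem L265152 : sm gb N21463 = N31278 := rfl
theorem L265154 : sm gf N31278 = N21468 := ded_22_2 (flp_b L182450) (flp_f L182415) L265152
theorem L265156 : sm gh N31278 = N21697 := ded_25_2 (flp_b L184327) (flp_h L182417) L265152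
theorem L265158 : sm ge N21463 = N31279 := rfl
theorem L265160 : sm ga N31279 = N31279 := ded_13_1 (flp_e L265158) L182414 L265158
theorem L265161 : sm gc N31279 = N21464 := ded_28_1 (flp_e L182419) L182412 L265158
theorem L265163 : sm gh N31279 = N21698 := ded_43_2 (flp_e L184332) (flp_h L182417) L265158
theorem L265165 : sm gf N31279 = N31279 := ded_40_2 (flp_e L265158) L182415 L125666 (flp_f L182415) L265158
theorem L265166 : sm gi N21463 = N31280 := rfl
theorem L265168 : sm ga N31280 = N31280 := ded_18_1 (flp_i L265166) L182414 L265166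
theorem L265169 : sm gc N31280 = N21465 := ded_33_1 (flp_i L182425) L182412 L265166
theorem L265171 : sm gf N31280 = N21469 := ded_48_1 (flp_i L182457) (flp_f L182415) L265166
theorem L265173 : sm gi N21464 = N31281 := rfl
theorem L265175 : sm ga N31281 = N31281 := ded_18_1 (flp_i L265173) L182421 L265173
theorem L265176 : sm ge N31281 = N21465 := ded_44_1 (flp_i L182425) L182419 L265173
theorem L265178 : sm gf N31281 = N31281 := ded_48_1 (flp_i L265173) L182424 L265173
theorem L265179 : sm gh N21465 = N31282 := rfl
theorem L265181 : sm ga N31282 = N31282 := ded_17_1 (flp_h L265179) L182427 L265179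
theorem L265182 : sm gf N31282 = N21470 := ded_47_1 (flp_h L182465) (flp_f L182430) L265179
theorem L265184 : sm gd N31282 = N21586 := ded_38_1 (flp_h L183389) L126277 (flp_h L125642) (flp_d L182428) L265179
theorem L265186 : sm gi N31282 = N21701 := ded_54_2 (flp_h L184353) (flp_i L126948) (flp_h L125635) L182425 L265179
theorem L265188 : sm gb N21466 = N31283 := rfl
theorem L265190 : sm ge N31283 = N31283 := ded_21_2 (flp_b L265188) L182435 L265188
theorem L265191 : sm gg N31283 = N31283 := ded_23_2 (flp_b L265188) L182436 L265188
theorem L265192 : sm gj N31283 = N21468 := ded_24_2 (flp_b L182450) (flp_j L182437) L265188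
theorem L265194 : sm gh N31283 = N21702 := ded_25_2 (flp_b L184360) (flp_h L182439) L265188
theorem L265196 : sm gi N21466 = N31284 := rfl
theorem L265198 : sm ga N31284 = N31284 := ded_18_1 (flp_i L265196) L182434 L265196
theorem L265199 : sm gc N31284 = N21467 := ded_33_1 (flp_i L182441) L182432 L265196
theorem L265201 : sm ge N31284 = N31284 := ded_44_1 (flp_i L265196) L182435 L265196
theorem L265202 : sm gg N31284 = N31284 := ded_51_1 (flp_i L265196) L182436 L265196
theorem L265203 : sm gj N31284 = N21469 := ded_53_1 (flp_i L182457) (flp_j L182437) L265196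
theorem L265205 : sm gh N21467 = N31285 := rfl
theorem L265207 : sm ga N31285 = N31285 := ded_17_1 (flp_h L265205) L182443 L265205
theorem L265208 : sm ge N31285 = N31285 := ded_43_1 (flp_h L265205) L182446 L265205
theorem L265209 : sm gg N31285 = N31285 := ded_50_1 (flp_h L265205) L182447 L265205
theorem L265210 : sm gj N31285 = N21470 := ded_52_1 (flp_h L182465) (flp_j L182448) L265205
theorem L265212 : sm gd N31285 = N21589 := ded_38_1 (flp_h L183415) L126294 (flp_h L125661) (flp_d L182444) L265205
theorem L265214 : sm gi N31285 = N21704 := ded_54_2 (flp_h L184377) (flp_i L126963) (flp_h L125651) L182441 L265205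
theorem L265216 : sm ga N21468 = N31286 := rfl
theorem L265218 : sm ge N31286 = N31286 := ded_13_2 (flp_a L265216) L182452 L265216
theorem L265219 : sm gg N31286 = N21471 := ded_15_2 (flp_a L182475) (flp_g L182453) L265216
theorem L265221 : sm gh N31286 = N21705 := ded_17_2 (flp_a L184386) (flp_h L182455) L265216
theorem L265223 : sm gb N31286 = N31286 := ded_10_2 (flp_a L265216) (flp_b L182450) L125665 L182450 L265216
theorem L265224 : sm gi N21468 = N31287 := rfl
theorem L265226 : sm gb N31287 = N21469 := ded_26_1 (flp_i L182457) L182450 L265224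
theorem L265228 : sm ge N31287 = N31287 := ded_44_1 (flp_i L265224) L182452 L265224
theorem L265229 : sm gg N31287 = N21472 := ded_51_1 (flp_i L182482) (flp_g L182453) L265224
theorem L265231 : sm gh N21469 = N31288 := rfl
theorem L265233 : sm ga N31288 = N31288 := ded_17_1 (flp_h L265231) L182459 L265231
theorem L265234 : sm gc N31288 = N21470 := ded_32_1 (flp_h L182465) (flp_c L182460) L265231
theorem L265236 : sm ge N31288 = N31288 := ded_43_1 (flp_h L265231) L182462 L265231
theorem L265237 : sm gg N31288 = N21473 := ded_50_1 (flp_h L182488) (flp_g L182463) L265231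
theorem L265239 : sm gi N31288 = N21707 := ded_54_2 (flp_h L184401) (flp_i L126978) (flp_h L125669) L182457 L265231
theorem L265241 : sm gi N21471 = N31289 := rfl
theorem L265243 : sm ga N31289 = N21472 := ded_18_1 (flp_i L182482) L182475 L265241
theorem L265245 : sm gb N31289 = N31289 := ded_26_1 (flp_i L265241) L182481 L265241
theorem L265246 : sm ge N31289 = N31289 := ded_44_1 (flp_i L265241) L182477 L265241
theorem L265247 : sm gj N31289 = N31289 := ded_53_1 (flp_i L265241) L182478 L265241
theorem L265248 : sm gh N21472 = N31290 := rfl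
theorem L265250 : sm gb N31290 = N21473 := ded_25_1 (flp_h L182488) (flp_b L182484) L265248
theorem L265252 : sm ge N31290 = N31290 := ded_43_1 (flp_h L265248) L182486 L265248
theorem L265253 : sm gj N31290 = N31290 := ded_52_1 (flp_h L265248) L182487 L265248
theorem L265254 : sm gi N31290 = N21709 := ded_54_2 (flp_h L184417) (flp_i L127001) (flp_h L125683) L182482 L265248
theorem L265256 : sm gd N21473 = N31291 := rfl
theorem L265258 : sm ga N31291 = N31291 := ded_12_1 (flp_d L265256) L182490 L265256
theorem L265259 : sm gj N31291 = N31291 := ded_37_2 (flp_d L265256) L182494 L265256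
theorem L265260 : sm gi N31291 = N21710 := ded_39_2 (flp_d L184423) (flp_i L182495) L265256
theorem L265262 : sm gc N31291 = N21595 := ded_27_1 (flp_d L183470) L126345 (flp_d L125697) (flp_c L182491) L265256
theorem L265264 : sm gg N21474 = N31292 := rfl
theorem L265266 : sm gb N31292 = N21711 := ded_23_1 (flp_g L184430) (flp_b L182502) L265264
theorem L265268 : sm gc N31292 = N21475 := ded_30_1 (flp_g L182505) L182497 L265264
theorem L265271 : sm ge N31292 = N23730 := ded_41_1 (flp_g L201820) (flp_e L182499) L265264
theorem L265273 : sm gh N21474 = N31293 := rfl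
theorem L265275 : sm gb N31293 = N21712 := ded_25_1 (flp_h L184438) (flp_b L182502) L265273
theorem L265277 : sm gc N31293 = N21476 := ded_32_1 (flp_h L182513) L182497 L265273
theorem L265279 : sm ge N31293 = N23731 := ded_43_1 (flp_h L201828) (flp_e L182499) L265273
theorem L265282 : sm gf N21475 = N31294 := rfl
theorem L265284 : sm gb N31294 = N21493 := ded_22_1 (flp_f L182642) (flp_b L182507) L265282
theorem L265286 : sm gd N31294 = N21477 := ded_35_1 (flp_f L182520) (flp_d L182509) L265282
theorem L265288 : sm gj N21475 = N31295 := rfl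
theorem L265290 : sm gb N31295 = N21494 := ded_24_1 (flp_j L182650) (flp_b L182507) L265288
theorem L265292 : sm gd N31295 = N21478 := ded_37_1 (flp_j L182525) (flp_d L182509) L265288
theorem L265294 : sm ge N31295 = N23733 := ded_42_1 (flp_j L201843) (flp_e L182511) L265288
theorem L265296 : sm gg N31295 = N31295 := ded_49_1 (flp_j L265288) (flp_g L182505) L125705 L182505 L265288
theorem L265297 : sm gh N21475 = N31296 := rfl
theorem L265299 : sm gb N31296 = N21495 := ded_25_1 (flp_h L182661) (flp_b L182507) L265297
theorem L265301 : sm ge N31296 = N23734 := ded_43_1 (flp_h L201850) (flp_e L182511) L265297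
theorem L265303 : sm gg N31296 = N21476 := ded_50_1 (flp_h L182513) L182505 L265297
theorem L265305 : sm gd N21476 = N31297 := rfl
theorem L265307 : sm gb N31297 = N21496 := ded_20_1 (flp_d L182671) (flp_b L182515) L265305
theorem L265310 : sm gh N31297 = N21480 := ded_38_2 (flp_d L182542) (flp_h L125715) L125701 L182513 L265305
theorem L265312 : sm gi N21476 = N31298 := rfl
theorem L265314 : sm gb N31298 = N21497 := ded_26_1 (flp_i L182678) (flp_b L182515) L265312
theorem L265316 : sm ge N31298 = N23736 := ded_44_1 (flp_i L201864) (flp_e L182517) L265312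
theorem L265318 : sm gj N31298 = N31298 := ded_53_1 (flp_i L265312) L182519 L265312
theorem L265319 : sm gj N21477 = N31299 := rfl
theorem L265321 : sm gb N31299 = N21498 := ded_24_1 (flp_j L182687) (flp_b L182522) L265319
theorem L265323 : sm gc N31299 = N31299 := ded_31_1 (flp_j L265319) L182524 L265319
theorem L265324 : sm gf N31299 = N21478 := ded_46_1 (flp_j L182525) L182520 L265319
theorem L265326 : sm gh N21477 = N31300 := rfl
theorem L265328 : sm gb N31300 = N21499 := ded_25_1 (flp_h L182695) (flp_b L182522) L265326
theorem L265331 : sm gf N31300 = N21479 := ded_47_1 (flp_h L182533) L182520 L265326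
theorem L265333 : sm gh N21478 = N31301 := rfl
theorem L265335 : sm gb N31301 = N21500 := ded_25_1 (flp_h L182703) (flp_b L182527) L265333
theorem L265338 : sm ge N31301 = N21482 := ded_43_1 (flp_h L182555) (flp_e L182530) L265333
theorem L265341 : sm gj N31301 = N21479 := ded_52_1 (flp_h L182533) L182525 L265333
theorem L265343 : sm gd N21479 = N31302 := rfl
theorem L265345 : sm gb N31302 = N21501 := ded_20_1 (flp_d L182714) (flp_b L182535) L265343
theorem L265347 : sm gg N31302 = N21480 := ded_36_2 (flp_d L182542) (flp_g L182540) L265343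
theorem L265349 : sm gi N21479 = N31303 := rfl
theorem L265358 : sm gc N21480 = N31304 := rfl
theorem L265362 : sm ge N21480 = N31305 := rfl
theorem L265364 : sm gb N31305 = N21504 := ded_21_1 (flp_e L182737) (flp_b L182544) L265362
theorem L265369 : sm gi N21480 = N31306 := rfl
theorem L265371 : sm gb N31306 = N21505 := ded_26_1 (flp_i L182744) (flp_b L182544) L265369
theorem L265376 : sm gd N21482 = N31307 := rfl
theorem L265381 : sm gj N31307 = N21483 := ded_37_2 (flp_d L182563) (flp_j L182561) L265376
theorem L265383 : sm gh N31307 = N23745 := ded_38_2 (flp_d L201936) (flp_h L139059) (flp_d L125728) L182555 L265376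
theorem L265385 : sm gi N21482 = N31308 := rfl
theorem L265387 : sm gb N31308 = N21507 := ded_26_1 (flp_i L182762) (flp_b L182557) L265385
theorem L265391 : sm gj N31308 = N21484 := ded_53_1 (flp_i L182571) (flp_j L182561) L265385
theorem L265393 : sm gc N21483 = N31309 := rfl
theorem L265410 : sm gi N21483 = N31311 := rfl
theorem L265416 : sm gg N31311 = N21487 := ded_51_1 (flp_i L182595) (flp_g L182567) L265410
theorem L265418 : sm ge N21485 = N31312 := rfl
theorem L265422 : sm gc N31312 = N21486 := ded_28_1 (flp_e L182588) L182578 L265418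
theorem L265425 : sm gh N31312 = N23750 := ded_43_2 (flp_e L201974) (flp_h L182583) L265418
theorem L265437 : sm gf N21486 = N31314 := rfl
theorem L265442 : sm gh N31314 = N23752 := ded_47_2 (flp_f L201992) (flp_h L182593) L265437
theorem L265453 : sm gh N21487 = N31316 := rfl
theorem L265460 : sm gi N31316 = N23754 := ded_54_2 (flp_h L202006) (flp_i L139096) (flp_h L125745) L182595 L265453
theorem L265462 : sm gd N21488 = N31317 := rfl
theorem L265477 : sm gi N21488 = N31319 := rfl
theorem L265481 : sm gc N31319 = N21491 := ded_33_1 (flp_i L182628) (flp_c L182608) L265477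
theorem L265501 : sm gi N21490 = N31322 := rfl
theorem L265505 : sm gf N31322 = N21491 := ded_48_1 (flp_i L182628) L182621 L265501
theorem L265508 : sm gh N21491 = N31323 := rfl
theorem L265517 : sm ge N21493 = N31324 := rfl
theorem L265519 : sm ga N31324 = N21527 := ded_13_1 (flp_e L182953) (flp_a L182644) L265517
theorem L265521 : sm gc N31324 = N21726 := ded_28_1 (flp_e L184562) (flp_c L182646) L265517
theorem L265523 : sm gf N31324 = N23762 := ded_40_2 (flp_e L202064) (flp_f L139140) (flp_e L125785) L182642 L265517
theorem L265525 : sm gj N21493 = N31325 := rfl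
theorem L265527 : sm ga N31325 = N21528 := ded_16_1 (flp_j L182959) (flp_a L182644) L265525
theorem L265529 : sm gc N31325 = N21727 := ded_31_1 (flp_j L184569) (flp_c L182646) L265525
theorem L265531 : sm gd N31325 = N21498 := ded_37_1 (flp_j L182687) (flp_d L182648) L265525
theorem L265533 : sm gf N31325 = N21494 := ded_46_1 (flp_j L182650) L182642 L265525
theorem L265535 : sm gh N21493 = N31326 := rfl
theorem L265537 : sm ga N31326 = N21529 := ded_17_1 (flp_h L182967) (flp_a L182644) L265535
theorem L265539 : sm gc N31326 = N21728 := ded_32_1 (flp_h L184577) (flp_c L182646) L265535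
theorem L265541 : sm gf N31326 = N21495 := ded_47_1 (flp_h L182661) L182642 L265535
theorem L265543 : sm gh N21494 = N31327 := rfl
theorem L265545 : sm ga N31327 = N21530 := ded_17_1 (flp_h L182973) (flp_a L182652) L265543
theorem L265547 : sm gc N31327 = N21729 := ded_32_1 (flp_h L184583) (flp_c L182654) L265543
theorem L265549 : sm ge N31327 = N23765 := ded_43_1 (flp_h L202090) (flp_e L182658) L265543
theorem L265551 : sm gg N31327 = N31327 := ded_50_1 (flp_h L265543) L182660 L265543
theorem L265552 : sm gj N31327 = N21495 := ded_52_1 (flp_h L182661) L182650 L265543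
theorem L265554 : sm gd N21495 = N31328 := rfl
theorem L265556 : sm ga N31328 = N21531 := ded_12_1 (flp_d L182982) (flp_a L182663) L265554
theorem L265558 : sm gg N31328 = N21496 := ded_36_2 (flp_d L182671) (flp_g L182669) L265554
theorem L265560 : sm gh N31328 = N21501 := ded_38_2 (flp_d L182714) (flp_h L125811) (flp_d L125783) L182661 L265554
theorem L265562 : sm gi N21495 = N31329 := rfl
theorem L265564 : sm ga N31329 = N21532 := ded_18_1 (flp_i L182988) (flp_a L182663) L265562
theorem L265566 : sm gc N31329 = N21731 := ded_33_1 (flp_i L184601) (flp_c L182665) L265562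
theorem L265568 : sm ge N31329 = N23767 := ded_44_1 (flp_i L202108) (flp_e L182667) L265562
theorem L265570 : sm gg N31329 = N21497 := ded_51_1 (flp_i L182678) (flp_g L182669) L265562
theorem L265572 : sm gc N21496 = N31330 := rfl
theorem L265574 : sm ga N31330 = N21533 := ded_11_1 (flp_c L182996) (flp_a L182673) L265572
theorem L265577 : sm gh N31330 = N21503 := ded_32_2 (flp_c L182730) (flp_h L182676) L265572
theorem L265579 : sm gd N31330 = N21732 := ded_27_2 (flp_c L184609) (flp_d L127125) (flp_c L125791) L182671 L265572
theorem L265581 : sm ge N21496 = N31331 := rfl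
theorem L265583 : sm ga N31331 = N21534 := ded_13_1 (flp_e L183003) (flp_a L182673) L265581
theorem L265588 : sm gd N31331 = N23768 := ded_34_1 (flp_e L202116) (flp_d L139166) (flp_e L125793) L182671 L265581
theorem L265590 : sm gi N21496 = N31332 := rfl
theorem L265592 : sm ga N31332 = N21535 := ded_18_1 (flp_i L183010) (flp_a L182673) L265590
theorem L265594 : sm gd N31332 = N21497 := ded_39_1 (flp_i L182678) L182671 L265590
theorem L265596 : sm gj N31332 = N31332 := ded_53_1 (flp_i L265590) L182675 L265590
theorem L265597 : sm gg N21498 = N31333 := rfl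
theorem L265599 : sm ga N31333 = N21536 := ded_15_1 (flp_g L183015) (flp_a L182689) L265597
theorem L265601 : sm gc N31333 = N21516 := ded_30_1 (flp_g L182850) (flp_c L182691) L265597
theorem L265603 : sm gf N31333 = N31333 := ded_45_1 (flp_g L265597) L182693 L125810 (flp_f L182693) L265597
theorem L265604 : sm gh N21498 = N31334 := rfl
theorem L265606 : sm ga N31334 = N21537 := ded_17_1 (flp_h L183020) (flp_a L182689) L265604
theorem L265608 : sm gc N31334 = N21517 := ded_32_1 (flp_h L182858) (flp_c L182691) L265604
theorem L265610 : sm gf N31334 = N21500 := ded_47_1 (flp_h L182703) (flp_f L182693) L265604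
theorem L265612 : sm gj N31334 = N21499 := ded_52_1 (flp_h L182695) L182687 L265604
theorem L265614 : sm gd N21499 = N31335 := rfl
theorem L265616 : sm ga N31335 = N21538 := ded_12_1 (flp_d L183028) (flp_a L182697) L265614
theorem L265618 : sm gf N31335 = N21501 := ded_35_2 (flp_d L182714) (flp_f L182701) L265614
theorem L265620 : sm gi N21499 = N31336 := rfl
theorem L265622 : sm ga N31336 = N21539 := ded_18_1 (flp_i L183032) (flp_a L182697) L265620
theorem L265624 : sm gc N31336 = N21519 := ded_33_1 (flp_i L182876) (flp_c L182699) L265620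
theorem L265626 : sm gf N31336 = N21502 := ded_48_1 (flp_i L182720) (flp_f L182701) L265620
theorem L265628 : sm gd N21500 = N31337 := rfl
theorem L265630 : sm ga N31337 = N21540 := ded_12_1 (flp_d L183038) (flp_a L182705) L265628
theorem L265632 : sm gg N31337 = N31337 := ded_36_2 (flp_d L265628) L182711 L265628
theorem L265633 : sm gj N31337 = N21501 := ded_37_2 (flp_d L182714) (flp_j L182712) L265628
theorem L265635 : sm gi N21500 = N31338 := rfl
theorem L265637 : sm ga N31338 = N21541 := ded_18_1 (flp_i L183043) (flp_a L182705) L265635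
theorem L265639 : sm gc N31338 = N21521 := ded_33_1 (flp_i L182895) (flp_c L182707) L265635
theorem L265641 : sm ge N31338 = N21507 := ded_44_1 (flp_i L182762) (flp_e L182709) L265635
theorem L265643 : sm gg N31338 = N31338 := ded_51_1 (flp_i L265635) L182711 L265635
theorem L265644 : sm gj N31338 = N21502 := ded_53_1 (flp_i L182720) (flp_j L182712) L265635
theorem L265646 : sm gc N21501 = N31339 := rfl
theorem L265648 : sm ga N31339 = N21542 := ded_11_1 (flp_c L183052) (flp_a L182716) L265646
theorem L265650 : sm gg N31339 = N21503 := ded_30_2 (flp_c L182730) (flp_g L182718) L265646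
theorem L265652 : sm gd N31339 = N21522 := ded_27_2 (flp_c L182905) (flp_d L125935) (flp_c L125815) L182714 L265646
theorem L265654 : sm ge N21501 = N31340 := rfl
theorem L265656 : sm ga N31340 = N21543 := ded_13_1 (flp_e L183058) (flp_a L182716) L265654
theorem L265660 : sm gd N31340 = N21508 := ded_34_1 (flp_e L182771) (flp_d L125844) (flp_e L125817) L182714 L265654
theorem L265662 : sm gi N21501 = N31341 := rfl
theorem L265664 : sm ga N31341 = N21544 := ded_18_1 (flp_i L183064) (flp_a L182716) L265662
theorem L265666 : sm gd N31341 = N21502 := ded_39_1 (flp_i L182720) L182714 L265662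
theorem L265668 : sm gg N31341 = N21505 := ded_51_1 (flp_i L182744) (flp_g L182718) L265662
theorem L265670 : sm gb N21503 = N31342 := rfl
theorem L265672 : sm gd N31342 = N21524 := ded_20_2 (flp_b L182926) (flp_d L182735) L265670
theorem L265674 : sm gj N31342 = N31342 := ded_24_2 (flp_b L265670) L182734 L265670
theorem L265675 : sm ge N21503 = N31343 := rfl
theorem L265677 : sm ga N31343 = N21546 := ded_13_1 (flp_e L183075) (flp_a L182732) L265675
theorem L265679 : sm gc N31343 = N21504 := ded_28_1 (flp_e L182737) L182730 L265675
theorem L265682 : sm gd N31343 = N22066 := ded_34_1 (flp_e L187400) L129064 (flp_e L125959) (flp_d L182735) L265675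
theorem L265684 : sm gi N21503 = N31344 := rfl
theorem L265686 : sm ga N31344 = N21547 := ded_18_1 (flp_i L183082) (flp_a L182732) L265684
theorem L265688 : sm gc N31344 = N21505 := ded_33_1 (flp_i L182744) L182730 L265684
theorem L265690 : sm gd N31344 = N21525 := ded_39_1 (flp_i L182934) (flp_d L182735) L265684
theorem L265692 : sm gj N31344 = N31344 := ded_53_1 (flp_i L265684) L182734 L265684
theorem L265693 : sm gf N21504 = N31345 := rfl
theorem L265695 : sm ga N31345 = N21548 := ded_14_1 (flp_f L183089) (flp_a L182739) L265693
theorem L265697 : sm gd N31345 = N21510 := ded_35_1 (flp_f L182791) (flp_d L182742) L265693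
theorem L265700 : sm gi N21504 = N31346 := rfl
theorem L265702 : sm ga N31346 = N21549 := ded_18_1 (flp_i L183094) (flp_a L182739) L265700
theorem L265706 : sm ge N31346 = N21505 := ded_44_1 (flp_i L182744) L182737 L265700
theorem L265709 : sm gh N21505 = N31347 := rfl
theorem L265711 : sm ga N31347 = N21550 := ded_17_1 (flp_h L183101) (flp_a L182746) L265709
theorem L265713 : sm gj N31347 = N31347 := ded_52_1 (flp_h L265709) L182750 L265709
theorem L265714 : sm ge N21506 = N31348 := rfl
theorem L265716 : sm ga N31348 = N21551 := ded_13_1 (flp_e L183104) (flp_a L182753) L265714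
theorem L265718 : sm gc N31348 = N22071 := ded_28_1 (flp_e L187444) (flp_c L182758) L265714
theorem L265721 : sm gj N31348 = N21508 := ded_42_2 (flp_e L182771) (flp_j L182756) L265714
theorem L265723 : sm gh N31348 = N23781 := ded_43_2 (flp_e L202231) (flp_h L182760) L265714
theorem L265725 : sm gi N21506 = N31349 := rfl
theorem L265727 : sm ga N31349 = N21552 := ded_18_1 (flp_i L183113) (flp_a L182753) L265725
theorem L265731 : sm gd N31349 = N21507 := ded_39_1 (flp_i L182762) L182751 L265725
theorem L265736 : sm gf N21508 = N31350 := rfl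
theorem L265738 : sm ga N31350 = N21553 := ded_14_1 (flp_f L183122) (flp_a L182773) L265736
theorem L265740 : sm gc N31350 = N22073 := ded_29_1 (flp_f L187462) (flp_c L182775) L265736
theorem L265744 : sm gi N21508 = N31351 := rfl
theorem L265746 : sm ga N31351 = N21554 := ded_18_1 (flp_i L183128) (flp_a L182773) L265744
theorem L265748 : sm gc N31351 = N22074 := ded_33_1 (flp_i L187468) (flp_c L182775) L265744
theorem L265750 : sm ge N31351 = N21509 := ded_44_1 (flp_i L182781) L182771 L265744
theorem L265752 : sm gg N31351 = N21511 := ded_51_1 (flp_i L182802) (flp_g L182777) L265744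
theorem L265764 : sm gg N21510 = N31353 := rfl
theorem L265766 : sm ga N31353 = N21556 := ded_15_1 (flp_g L183144) (flp_a L182793) L265764
theorem L265768 : sm gc N31353 = N22076 := ded_30_1 (flp_g L187485) (flp_c L182795) L265764
theorem L265770 : sm ge N31353 = N21513 := ded_41_1 (flp_g L182822) (flp_e L182800) L265764
theorem L265772 : sm gh N31353 = N23786 := ded_50_2 (flp_g L202275) (flp_h L182798) L265764
theorem L265774 : sm gi N21510 = N31354 := rfl
theorem L265776 : sm ga N31354 = N21557 := ded_18_1 (flp_i L183152) (flp_a L182793) L265774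
theorem L265778 : sm gc N31354 = N22077 := ded_33_1 (flp_i L187493) (flp_c L182795) L265774
theorem L265780 : sm ge N31354 = N21514 := ded_44_1 (flp_i L182830) (flp_e L182800) L265774
theorem L265785 : sm gh N21511 = N31355 := rfl
theorem L265787 : sm ga N31355 = N21558 := ded_17_1 (flp_h L183161) (flp_a L182804) L265785
theorem L265794 : sm gi N31355 = N23788 := ded_54_2 (flp_h L202294) (flp_i L139290) (flp_h L125869) L182802 L265785
theorem L265796 : sm gj N21513 = N31356 := rfl
theorem L265798 : sm ga N31356 = N21559 := ded_16_1 (flp_j L183170) (flp_a L182824) L265796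
theorem L265805 : sm gi N21513 = N31357 := rfl
theorem L265807 : sm ga N31357 = N21560 := ded_18_1 (flp_i L183177) (flp_a L182824) L265805
theorem L265809 : sm gc N31357 = N22080 := ded_33_1 (flp_i L187519) (flp_c L182826) L265805
theorem L265813 : sm gh N21514 = N31358 := rfl
theorem L265815 : sm ga N31358 = N21561 := ded_17_1 (flp_h L183183) (flp_a L182832) L265813
theorem L265819 : sm gf N31358 = N21515 := ded_47_1 (flp_h L182839) (flp_f L182836) L265813
theorem L265822 : sm gi N31358 = N23791 := ded_54_2 (flp_h L202320) (flp_i L139315) (flp_h L125889) L182830 L265813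
theorem L265831 : sm gh N21516 = N31360 := rfl
theorem L265833 : sm ga N31360 = N21563 := ded_17_1 (flp_h L183197) (flp_a L182852) L265831
theorem L265835 : sm gb N31360 = N31360 := ded_25_1 (flp_h L265831) L182854 L265831
theorem L265836 : sm gf N31360 = N31360 := ded_47_1 (flp_h L265831) L182857 L265831
theorem L265837 : sm gg N31360 = N21517 := ded_50_1 (flp_h L182858) L182850 L265831
theorem L265839 : sm gd N21517 = N31361 := rfl
theorem L265841 : sm ga N31361 = N21564 := ded_12_1 (flp_d L183204) (flp_a L182860) L265839
theorem L265843 : sm gb N31361 = N31361 := ded_20_1 (flp_d L265839) L182862 L265839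
theorem L265844 : sm gf N31361 = N21520 := ded_35_2 (flp_d L182883) (flp_f L182863) L265839
theorem L265846 : sm gj N31361 = N21518 := ded_37_2 (flp_d L182867) (flp_j L182865) L265839
theorem L265848 : sm gh N31361 = N21746 := ded_38_2 (flp_d L184727) (flp_h L127220) (flp_d L125914) L182858 L265839
theorem L265850 : sm gi N21517 = N31362 := rfl
theorem L265852 : sm ga N31362 = N21565 := ded_18_1 (flp_i L183214) (flp_a L182860) L265850
theorem L265854 : sm gb N31362 = N31362 := ded_26_1 (flp_i L265850) L182862 L265850
theorem L265855 : sm gf N31362 = N21521 := ded_48_1 (flp_i L182895) (flp_f L182863) L265850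
theorem L265857 : sm gj N31362 = N21519 := ded_53_1 (flp_i L182876) (flp_j L182865) L265850
theorem L265859 : sm gc N21518 = N31363 := rfl
theorem L265861 : sm ga N31363 = N21566 := ded_11_1 (flp_c L183222) (flp_a L182869) L265859
theorem L265863 : sm gf N31363 = N21522 := ded_29_2 (flp_c L182905) (flp_f L182872) L265859
theorem L265865 : sm gh N31363 = N21748 := ded_32_2 (flp_c L184746) (flp_h L182874) L265859
theorem L265867 : sm ge N21518 = N31364 := rfl
theorem L265869 : sm ga N31364 = N21567 := ded_13_1 (flp_e L183228) (flp_a L182869) L265867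
theorem L265871 : sm gb N31364 = N31364 := ded_21_1 (flp_e L265867) L182871 L265867
theorem L265872 : sm gh N31364 = N21749 := ded_43_2 (flp_e L184752) (flp_h L182874) L265867
theorem L265874 : sm gf N31364 = N22087 := ded_40_2 (flp_e L187583) L129191 (flp_e L125942) (flp_f L182872) L265867
theorem L265876 : sm gi N21518 = N31365 := rfl
theorem L265878 : sm ga N31365 = N21568 := ded_18_1 (flp_i L183236) (flp_a L182869) L265876
theorem L265880 : sm gb N31365 = N31365 := ded_26_1 (flp_i L265876) L182871 L265876
theorem L265881 : sm gd N31365 = N21519 := ded_39_1 (flp_i L182876) L182867 L265876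
theorem L265883 : sm gf N31365 = N21523 := ded_48_1 (flp_i L182915) (flp_f L182872) L265876
theorem L265885 : sm gc N21520 = N31366 := rfl
theorem L265887 : sm ga N31366 = N21569 := ded_11_1 (flp_c L183244) (flp_a L182885) L265885
theorem L265889 : sm ge N31366 = N22089 := ded_28_2 (flp_c L187601) (flp_e L182891) L265885
theorem L265891 : sm gg N31366 = N31366 := ded_30_2 (flp_c L265885) L182888 L265885
theorem L265892 : sm gj N31366 = N21522 := ded_31_2 (flp_c L182905) (flp_j L182889) L265885
theorem L265894 : sm gh N31366 = N21751 := ded_32_2 (flp_c L184769) (flp_h L182893) L265885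
theorem L265896 : sm gi N21520 = N31367 := rfl
theorem L265898 : sm ga N31367 = N21570 := ded_18_1 (flp_i L183253) (flp_a L182885) L265896
theorem L265900 : sm gb N31367 = N31367 := ded_26_1 (flp_i L265896) L182887 L265896
theorem L265901 : sm gd N31367 = N21521 := ded_39_1 (flp_i L182895) L182883 L265896
theorem L265903 : sm ge N31367 = N22090 := ded_44_1 (flp_i L187610) (flp_e L182891) L265896
theorem L265905 : sm gg N31367 = N31367 := ded_51_1 (flp_i L265896) L182888 L265896
theorem L265906 : sm gj N31367 = N21523 := ded_53_1 (flp_i L182915) (flp_j L182889) L265896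
theorem L265908 : sm gb N21522 = N31368 := rfl
theorem L265910 : sm ge N31368 = N22091 := ded_21_2 (flp_b L187620) (flp_e L182909) L265908
theorem L265912 : sm gg N31368 = N21524 := ded_23_2 (flp_b L182926) (flp_g L182911) L265908
theorem L265914 : sm gh N31368 = N21753 := ded_25_2 (flp_b L184790) (flp_h L182913) L265908
theorem L265916 : sm gc N31368 = N31368 := ded_19_2 (flp_b L265908) (flp_c L182905) L125939 L182905 L265908
theorem L265917 : sm gi N21522 = N31369 := rfl
theorem L265919 : sm ga N31369 = N21572 := ded_18_1 (flp_i L183274) (flp_a L182907) L265917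
theorem L265921 : sm gc N31369 = N21523 := ded_33_1 (flp_i L182915) L182905 L265917
theorem L265923 : sm ge N31369 = N22092 := ded_44_1 (flp_i L187627) (flp_e L182909) L265917
theorem L265925 : sm gg N31369 = N21525 := ded_51_1 (flp_i L182934) (flp_g L182911) L265917
theorem L265927 : sm gh N21523 = N31370 := rfl
theorem L265929 : sm ga N31370 = N21573 := ded_17_1 (flp_h L183282) (flp_a L182917) L265927
theorem L265932 : sm ge N31370 = N22093 := ded_43_1 (flp_h L187635) (flp_e L182922) L265927
theorem L265938 : sm ga N21524 = N31371 := rfl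
theorem L265940 : sm gc N31371 = N31371 := ded_11_2 (flp_a L265938) L182933 L265938
theorem L265941 : sm ge N31371 = N22094 := ded_13_2 (flp_a L187645) (flp_e L182928) L265938
theorem L265943 : sm gj N31371 = N31371 := ded_16_2 (flp_a L265938) L182930 L265938
theorem L265944 : sm gh N31371 = N21756 := ded_17_2 (flp_a L184816) (flp_h L182931) L265938
theorem L265946 : sm gb N31371 = N21574 := ded_10_2 (flp_a L183292) (flp_b L126213) (flp_a L125957) L182926 L265938
theorem L265948 : sm gi N21524 = N31372 := rfl
theorem L265950 : sm gb N31372 = N21525 := ded_26_1 (flp_i L182934) L182926 L265948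
theorem L265952 : sm gc N31372 = N31372 := ded_33_1 (flp_i L265948) L182933 L265948
theorem L265953 : sm ge N31372 = N22095 := ded_44_1 (flp_i L187654) (flp_e L182928) L265948
theorem L265955 : sm gj N31372 = N31372 := ded_53_1 (flp_i L265948) L182930 L265948
theorem L265956 : sm gh N21525 = N31373 := rfl
theorem L265958 : sm ga N31373 = N21576 := ded_17_1 (flp_h L183310) (flp_a L182936) L265956
theorem L265960 : sm gc N31373 = N21526 := ded_32_1 (flp_h L182943) (flp_c L182938) L265956
theorem L265962 : sm ge N31373 = N22096 := ded_43_1 (flp_h L187661) (flp_e L182940) L265956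
theorem L265965 : sm gi N31373 = N21758 := ded_54_2 (flp_h L184832) (flp_i L127290) (flp_h L125962) L182934 L265956
theorem L265967 : sm gj N21527 = N31374 := rfl
theorem L265969 : sm gc N31374 = N21759 := ded_31_1 (flp_j L184841) (flp_c L182955) L265967
theorem L265971 : sm ge N31374 = N21528 := ded_42_1 (flp_j L182959) L182953 L265967
theorem L265973 : sm gf N31374 = N23795 := ded_46_1 (flp_j L202357) (flp_f L182957) L265967
theorem L265975 : sm gh N21527 = N31375 := rfl
theorem L265977 : sm gc N31375 = N21760 := ded_32_1 (flp_h L184849) (flp_c L182955) L265975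
theorem L265979 : sm ge N31375 = N21529 := ded_43_1 (flp_h L182967) L182953 L265975
theorem L265981 : sm gf N31375 = N23796 := ded_47_1 (flp_h L202363) (flp_f L182957) L265975
theorem L265983 : sm gg N21528 = N31376 := rfl
theorem L265985 : sm gc N31376 = N21761 := ded_30_1 (flp_g L184856) (flp_c L182961) L265983
theorem L265987 : sm gd N31376 = N21536 := ded_36_1 (flp_g L183015) (flp_d L182963) L265983
theorem L265989 : sm gf N31376 = N31376 := ded_45_1 (flp_g L265983) L182965 L125998 (flp_f L182965) L265983
theorem L265990 : sm gh N21528 = N31377 := rfl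
theorem L265992 : sm gc N31377 = N21762 := ded_32_1 (flp_h L184862) (flp_c L182961) L265990
theorem L265994 : sm gf N31377 = N21530 := ded_47_1 (flp_h L182973) (flp_f L182965) L265990
theorem L265996 : sm gj N31377 = N21529 := ded_52_1 (flp_h L182967) L182959 L265990
theorem L265998 : sm gd N21529 = N31378 := rfl
theorem L266000 : sm gf N31378 = N21531 := ded_35_2 (flp_d L182982) (flp_f L182971) L265998
theorem L266002 : sm gh N31378 = N21538 := ded_38_2 (flp_d L183028) (flp_h L126025) (flp_d L125988) L182967 L265998
theorem L266004 : sm gi N21529 = N31379 := rfl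
theorem L266006 : sm gc N31379 = N21764 := ded_33_1 (flp_i L184876) (flp_c L182969) L266004
theorem L266008 : sm gf N31379 = N21532 := ded_48_1 (flp_i L182988) (flp_f L182971) L266004
theorem L266010 : sm gd N21530 = N31380 := rfl
theorem L266012 : sm gg N31380 = N31380 := ded_36_2 (flp_d L266010) L182979 L266010
theorem L266013 : sm gj N31380 = N21531 := ded_37_2 (flp_d L182982) (flp_j L182980) L266010
theorem L266015 : sm gh N31380 = N21540 := ded_38_2 (flp_d L183038) (flp_h L126031) (flp_d L125994) L182973 L266010
theorem L266017 : sm gi N21530 = N31381 := rfl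
theorem L266019 : sm gc N31381 = N21766 := ded_33_1 (flp_i L184890) (flp_c L182975) L266017
theorem L266021 : sm ge N31381 = N23802 := ded_44_1 (flp_i L202409) (flp_e L182977) L266017
theorem L266023 : sm gg N31381 = N31381 := ded_51_1 (flp_i L266017) L182979 L266017
theorem L266024 : sm gj N31381 = N21532 := ded_53_1 (flp_i L182988) (flp_j L182980) L266017
theorem L266026 : sm gc N21531 = N31382 := rfl
theorem L266028 : sm gg N31382 = N21533 := ded_30_2 (flp_c L182996) (flp_g L182984) L266026
theorem L266030 : sm gh N31382 = N21542 := ded_32_2 (flp_c L183052) (flp_h L182986) L266026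
theorem L266032 : sm gd N31382 = N21767 := ded_27_2 (flp_c L184898) (flp_d L127333) (flp_c L126001) L182982 L266026
theorem L266034 : sm ge N21531 = N31383 := rfl
theorem L266036 : sm gg N31383 = N21534 := ded_41_2 (flp_e L183003) (flp_g L182984) L266034
theorem L266038 : sm gh N31383 = N21543 := ded_43_2 (flp_e L183058) (flp_h L182986) L266034
theorem L266040 : sm gd N31383 = N23803 := ded_34_1 (flp_e L202416) (flp_d L139404) (flp_e L126003) L182982 L266034
theorem L266042 : sm gi N21531 = N31384 := rfl
theorem L266044 : sm gd N31384 = N21532 := ded_39_1 (flp_i L182988) L182982 L266042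
theorem L266046 : sm gg N31384 = N21535 := ded_51_1 (flp_i L183010) (flp_g L182984) L266042
theorem L266048 : sm gb N21533 = N31385 := rfl
theorem L266050 : sm gd N31385 = N21769 := ded_20_2 (flp_b L184913) (flp_d L183001) L266048
theorem L266052 : sm gj N31385 = N31385 := ded_24_2 (flp_b L266048) L182998 L266048
theorem L266053 : sm gh N31385 = N21545 := ded_25_2 (flp_b L183070) (flp_h L182999) L266048
theorem L266055 : sm ge N21533 = N31386 := rfl
theorem L266057 : sm gc N31386 = N21534 := ded_28_1 (flp_e L183003) L182996 L266055
theorem L266059 : sm gj N31386 = N31386 := ded_42_2 (flp_e L266055) L182998 L266055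
theorem L266060 : sm gh N31386 = N21546 := ded_43_2 (flp_e L183075) (flp_h L182999) L266055
theorem L266062 : sm gd N31386 = N31386 := ded_34_1 (flp_e L266055) L183001 L127350 (flp_d L183001) L266055
theorem L266063 : sm gi N21533 = N31387 := rfl
theorem L266065 : sm gc N31387 = N21535 := ded_33_1 (flp_i L183010) L182996 L266063
theorem L266067 : sm gd N31387 = N21770 := ded_39_1 (flp_i L184920) (flp_d L183001) L266063
theorem L266069 : sm gj N31387 = N31387 := ded_53_1 (flp_i L266063) L182998 L266063
theorem L266070 : sm gf N21534 = N31388 := rfl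
theorem L266072 : sm gd N31388 = N23805 := ded_35_1 (flp_f L202430) (flp_d L183008) L266070
theorem L266074 : sm gj N31388 = N31388 := ded_46_2 (flp_f L266070) L183005 L266070
theorem L266075 : sm gh N31388 = N21548 := ded_47_2 (flp_f L183089) (flp_h L183006) L266070
theorem L266077 : sm gi N21534 = N31389 := rfl
theorem L266079 : sm gd N31389 = N23806 := ded_39_1 (flp_i L202437) (flp_d L183008) L266077
theorem L266081 : sm ge N31389 = N21535 := ded_44_1 (flp_i L183010) L183003 L266077
theorem L266083 : sm gj N31389 = N31389 := ded_53_1 (flp_i L266077) L183005 L266077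
theorem L266084 : sm gh N21535 = N31390 := rfl
theorem L266086 : sm gj N31390 = N31390 := ded_52_1 (flp_h L266084) L183014 L266084
theorem L266087 : sm gi N31390 = N21550 := ded_54_2 (flp_h L183101) (flp_i L126062) (flp_h L126010) L183010 L266084
theorem L266089 : sm gh N21536 = N31391 := rfl
theorem L266091 : sm gc N31391 = N21563 := ded_32_1 (flp_h L183197) (flp_c L183017) L266089
theorem L266093 : sm gf N31391 = N31391 := ded_47_1 (flp_h L266089) L183019 L266089
theorem L266094 : sm gg N31391 = N21537 := ded_50_1 (flp_h L183020) L183015 L266089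
theorem L266096 : sm gd N21537 = N31392 := rfl
theorem L266098 : sm gf N31392 = N21540 := ded_35_2 (flp_d L183038) (flp_f L183024) L266096
theorem L266100 : sm gj N31392 = N21538 := ded_37_2 (flp_d L183028) (flp_j L183026) L266096
theorem L266102 : sm gi N21537 = N31393 := rfl
theorem L266104 : sm gc N31393 = N21565 := ded_33_1 (flp_i L183214) (flp_c L183022) L266102
theorem L266106 : sm gf N31393 = N21541 := ded_48_1 (flp_i L183043) (flp_f L183024) L266102
theorem L266108 : sm gj N31393 = N21539 := ded_53_1 (flp_i L183032) (flp_j L183026) L266102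
theorem L266110 : sm gc N21538 = N31394 := rfl
theorem L266112 : sm gf N31394 = N21542 := ded_29_2 (flp_c L183052) (flp_f L183030) L266110
theorem L266114 : sm gd N31394 = N21566 := ded_27_2 (flp_c L183222) (flp_d L126161) (flp_c L126027) L183028 L266110
theorem L266116 : sm ge N21538 = N31395 := rfl
theorem L266118 : sm gi N21538 = N31396 := rfl
theorem L266120 : sm gd N31396 = N21539 := ded_39_1 (flp_i L183032) L183028 L266118
theorem L266122 : sm gf N31396 = N21544 := ded_48_1 (flp_i L183064) (flp_f L183030) L266118
theorem L266124 : sm gc N21540 = N31397 := rfl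
theorem L266126 : sm gg N31397 = N31397 := ded_30_2 (flp_c L266124) L183040 L266124
theorem L266127 : sm gj N31397 = N21542 := ded_31_2 (flp_c L183052) (flp_j L183041) L266124
theorem L266129 : sm gd N31397 = N21569 := ded_27_2 (flp_c L183244) (flp_d L126175) (flp_c L126033) L183038 L266124
theorem L266131 : sm ge N21540 = N31398 := rfl
theorem L266133 : sm gg N31398 = N31398 := ded_41_2 (flp_e L266131) L183040 L266131
theorem L266134 : sm gj N31398 = N21543 := ded_42_2 (flp_e L183058) (flp_j L183041) L266131
theorem L266136 : sm gd N31398 = N21551 := ded_34_1 (flp_e L183104) (flp_d L126067) (flp_e L126035) L183038 L266131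
theorem L266138 : sm gi N21540 = N31399 := rfl
theorem L266140 : sm gd N31399 = N21541 := ded_39_1 (flp_i L183043) L183038 L266138
theorem L266142 : sm gg N31399 = N31399 := ded_51_1 (flp_i L266138) L183040 L266138
theorem L266143 : sm gj N31399 = N21544 := ded_53_1 (flp_i L183064) (flp_j L183041) L266138
theorem L266145 : sm gb N21542 = N31400 := rfl
theorem L266147 : sm gd N31400 = N21571 := ded_20_2 (flp_b L183264) (flp_d L183056) L266145
theorem L266149 : sm gg N31400 = N21545 := ded_23_2 (flp_b L183070) (flp_g L183054) L266145
theorem L266151 : sm ge N21542 = N31401 := rfl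
theorem L266153 : sm gc N31401 = N21543 := ded_28_1 (flp_e L183058) L183052 L266151
theorem L266155 : sm gg N31401 = N21546 := ded_41_2 (flp_e L183075) (flp_g L183054) L266151
theorem L266157 : sm gd N31401 = N22107 := ded_34_1 (flp_e L187752) L129325 (flp_e L126197) (flp_d L183056) L266151
theorem L266159 : sm gi N21542 = N31402 := rfl
theorem L266161 : sm gc N31402 = N21544 := ded_33_1 (flp_i L183064) L183052 L266159
theorem L266163 : sm gd N31402 = N21572 := ded_39_1 (flp_i L183274) (flp_d L183056) L266159
theorem L266165 : sm gg N31402 = N21547 := ded_51_1 (flp_i L183082) (flp_g L183054) L266159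
theorem L266167 : sm gf N21543 = N31403 := rfl
theorem L266169 : sm gd N31403 = N21553 := ded_35_1 (flp_f L183122) (flp_d L183062) L266167
theorem L266171 : sm gi N21543 = N31404 := rfl
theorem L266173 : sm gd N31404 = N21554 := ded_39_1 (flp_i L183128) (flp_d L183062) L266171
theorem L266175 : sm ge N31404 = N21544 := ded_44_1 (flp_i L183064) L183058 L266171
theorem L266177 : sm gg N31404 = N21549 := ded_51_1 (flp_i L183094) (flp_g L183060) L266171
theorem L266179 : sm gh N21544 = N31405 := rfl
theorem L266181 : sm gg N31405 = N21550 := ded_50_1 (flp_h L183101) (flp_g L183068) L266179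
theorem L266183 : sm ga N21545 = N31406 := rfl
theorem L266185 : sm gd N31406 = N21574 := ded_12_2 (flp_a L183292) (flp_d L183072) L266183
theorem L266187 : sm gj N31406 = N31406 := ded_16_2 (flp_a L266183) L183074 L266183
theorem L266188 : sm ge N21545 = N31407 := rfl
theorem L266190 : sm gb N31407 = N21546 := ded_21_1 (flp_e L183075) L183070 L266188
theorem L266192 : sm gj N31407 = N31407 := ded_42_2 (flp_e L266188) L183074 L266188
theorem L266193 : sm gd N31407 = N22113 := ded_34_1 (flp_e L187797) L129344 (flp_e L126215) (flp_d L183072) L266188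
theorem L266195 : sm gi N21545 = N31408 := rfl
theorem L266197 : sm gb N31408 = N21547 := ded_26_1 (flp_i L183082) L183070 L266195
theorem L266199 : sm gd N31408 = N21575 := ded_39_1 (flp_i L183301) (flp_d L183072) L266195
theorem L266201 : sm gj N31408 = N31408 := ded_53_1 (flp_i L266195) L183074 L266195
theorem L266202 : sm gf N21546 = N31409 := rfl
theorem L266204 : sm gc N31409 = N21548 := ded_29_1 (flp_f L183089) (flp_c L183077) L266202
theorem L266206 : sm gd N31409 = N22115 := ded_35_1 (flp_f L187813) (flp_d L183080) L266202
theorem L266208 : sm gj N31409 = N31409 := ded_46_2 (flp_f L266202) L183079 L266202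
theorem L266209 : sm gi N21546 = N31410 := rfl
theorem L266211 : sm gc N31410 = N21549 := ded_33_1 (flp_i L183094) (flp_c L183077) L266209
theorem L266213 : sm gd N31410 = N22116 := ded_39_1 (flp_i L187820) (flp_d L183080) L266209
theorem L266215 : sm ge N31410 = N21547 := ded_44_1 (flp_i L183082) L183075 L266209
theorem L266217 : sm gj N31410 = N31410 := ded_53_1 (flp_i L266209) L183079 L266209
theorem L266218 : sm gh N21547 = N31411 := rfl
theorem L266220 : sm gc N31411 = N21550 := ded_32_1 (flp_h L183101) (flp_c L183084) L266218
theorem L266222 : sm gj N31411 = N31411 := ded_52_1 (flp_h L266218) L183088 L266218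
theorem L266223 : sm gg N21548 = N31412 := rfl
theorem L266225 : sm gd N31412 = N21556 := ded_36_1 (flp_g L183144) (flp_d L183091) L266223
theorem L266227 : sm gi N21548 = N31413 := rfl
theorem L266229 : sm gd N31413 = N21557 := ded_39_1 (flp_i L183152) (flp_d L183091) L266227
theorem L266231 : sm gf N31413 = N21549 := ded_48_1 (flp_i L183094) L183089 L266227
theorem L266233 : sm gj N31413 = N31413 := ded_53_1 (flp_i L266227) L183093 L266227
theorem L266234 : sm gh N21549 = N31414 := rfl
theorem L266236 : sm ge N31414 = N21550 := ded_43_1 (flp_h L183101) (flp_e L183098) L266234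
theorem L266238 : sm gj N31414 = N31414 := ded_52_1 (flp_h L266234) L183100 L266234
theorem L266239 : sm gf N21551 = N31415 := rfl
theorem L266241 : sm gc N31415 = N22121 := ded_29_1 (flp_f L187857) (flp_c L183106) L266239
theorem L266243 : sm gj N31415 = N21553 := ded_46_2 (flp_f L183122) (flp_j L183109) L266239
theorem L266245 : sm gh N31415 = N23821 := ded_47_2 (flp_f L202541) (flp_h L183111) L266239
theorem L266247 : sm gi N21551 = N31416 := rfl
theorem L266249 : sm gc N31416 = N22122 := ded_33_1 (flp_i L187864) (flp_c L183106) L266247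
theorem L266251 : sm ge N31416 = N21552 := ded_44_1 (flp_i L183113) L183104 L266247
theorem L266253 : sm gg N31416 = N31416 := ded_51_1 (flp_i L266247) L183108 L266247
theorem L266254 : sm gj N31416 = N21554 := ded_53_1 (flp_i L183128) (flp_j L183109) L266247
theorem L266256 : sm gh N21552 = N31417 := rfl
theorem L266263 : sm gi N31417 = N23823 := ded_54_2 (flp_h L202556) (flp_i L139513) (flp_h L126074) L183113 L266256
theorem L266265 : sm gg N21553 = N31418 := rfl
theorem L266267 : sm gc N31418 = N22124 := ded_30_1 (flp_g L187881) (flp_c L183124) L266265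
theorem L266269 : sm gh N31418 = N23824 := ded_50_2 (flp_g L202563) (flp_h L183126) L266265
theorem L266271 : sm gf N31418 = N21556 := ded_45_1 (flp_g L183144) (flp_f L126099) (flp_g L126087) L183122 L266265
theorem L266273 : sm gi N21553 = N31419 := rfl
theorem L266275 : sm gc N31419 = N22125 := ded_33_1 (flp_i L187888) (flp_c L183124) L266273
theorem L266277 : sm gf N31419 = N21554 := ded_48_1 (flp_i L183128) L183122 L266273
theorem L266289 : sm gj N21556 = N31421 := rfl
theorem L266291 : sm gc N31421 = N22127 := ded_31_1 (flp_j L187902) (flp_c L183146) L266289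
theorem L266293 : sm ge N31421 = N21559 := ded_42_1 (flp_j L183170) (flp_e L183148) L266289
theorem L266295 : sm gh N31421 = N23827 := ded_52_2 (flp_j L202583) (flp_h L183150) L266289
theorem L266297 : sm gg N31421 = N31421 := ded_49_1 (flp_j L266289) (flp_g L183144) L126103 L183144 L266289
theorem L266298 : sm gi N21556 = N31422 := rfl
theorem L266300 : sm gc N31422 = N22128 := ded_33_1 (flp_i L187910) (flp_c L183146) L266298
theorem L266302 : sm ge N31422 = N21560 := ded_44_1 (flp_i L183177) (flp_e L183148) L266298
theorem L266304 : sm gg N31422 = N21557 := ded_51_1 (flp_i L183152) L183144 L266298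
theorem L266306 : sm gh N21557 = N31423 := rfl
theorem L266315 : sm gi N31423 = N23829 := ded_54_2 (flp_h L202598) (flp_i L139546) (flp_h L126104) L183152 L266306
theorem L266317 : sm gd N21558 = N31424 := rfl
theorem L266320 : sm gi N31424 = N23830 := ded_39_2 (flp_d L202607) (flp_i L183168) L266317
theorem L266322 : sm gi N21559 = N31425 := rfl
theorem L266324 : sm gc N31425 = N22131 := ded_33_1 (flp_i L187934) (flp_c L183172) L266322
theorem L266326 : sm gg N31425 = N31425 := ded_51_1 (flp_i L266322) L183176 L266322
theorem L266327 : sm gj N31425 = N21560 := ded_53_1 (flp_i L183177) L183170 L266322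
theorem L266329 : sm gh N21560 = N31426 := rfl
theorem L266337 : sm gd N21561 = N31427 := rfl
theorem L266342 : sm gi N31427 = N23833 := ded_39_2 (flp_d L202624) (flp_i L183190) L266337
theorem L266344 : sm gc N21562 = N31428 := rfl
theorem L266349 : sm gd N31428 = N22134 := ded_27_2 (flp_c L187957) (flp_d L129467) (flp_c L126139) L183192 L266344
theorem L266351 : sm gd N21563 = N31429 := rfl
theorem L266353 : sm gb N31429 = N21577 := ded_20_1 (flp_d L183319) (flp_b L183199) L266351
theorem L266355 : sm gf N31429 = N31429 := ded_35_2 (flp_d L266351) L183201 L266351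
theorem L266356 : sm gg N31429 = N21564 := ded_36_2 (flp_d L183204) (flp_g L183202) L266351
theorem L266358 : sm gh N31429 = N21786 := ded_38_2 (flp_d L185039) (flp_h L127443) (flp_d L126150) L183197 L266351
theorem L266360 : sm gi N21563 = N31430 := rfl
theorem L266362 : sm gb N31430 = N21578 := ded_26_1 (flp_i L183327) (flp_b L183199) L266360
theorem L266364 : sm gf N31430 = N31430 := ded_48_1 (flp_i L266360) L183201 L266360
theorem L266365 : sm gg N31430 = N21565 := ded_51_1 (flp_i L183214) (flp_g L183202) L266360
theorem L266367 : sm gc N21564 = N31431 := rfl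
theorem L266369 : sm gf N31431 = N21569 := ded_29_2 (flp_c L183244) (flp_f L183208) L266367
theorem L266371 : sm gj N31431 = N21566 := ded_31_2 (flp_c L183222) (flp_j L183210) L266367
theorem L266373 : sm gh N31431 = N21788 := ded_32_2 (flp_c L185054) (flp_h L183212) L266367
theorem L266375 : sm ge N21564 = N31432 := rfl
theorem L266377 : sm gb N31432 = N21580 := ded_21_1 (flp_e L183342) (flp_b L183206) L266375
theorem L266379 : sm gj N31432 = N21567 := ded_42_2 (flp_e L183228) (flp_j L183210) L266375
theorem L266381 : sm gh N31432 = N21789 := ded_43_2 (flp_e L185060) (flp_h L183212) L266375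
theorem L266385 : sm gi N21564 = N31433 := rfl
theorem L266387 : sm gb N31433 = N21581 := ded_26_1 (flp_i L183351) (flp_b L183206) L266385
theorem L266389 : sm gd N31433 = N21565 := ded_39_1 (flp_i L183214) L183204 L266385
theorem L266391 : sm gf N31433 = N21570 := ded_48_1 (flp_i L183253) (flp_f L183208) L266385
theorem L266393 : sm gj N31433 = N21568 := ded_53_1 (flp_i L183236) (flp_j L183210) L266385
theorem L266395 : sm gb N21566 = N31434 := rfl
theorem L266397 : sm gf N31434 = N21571 := ded_22_2 (flp_b L183264) (flp_f L183224) L266395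
theorem L266399 : sm gh N31434 = N21791 := ded_25_2 (flp_b L185079) (flp_h L183226) L266395
theorem L266401 : sm gc N31434 = N21582 := ded_19_2 (flp_b L183360) (flp_c L126260) (flp_b L126163) L183222 L266395
theorem L266403 : sm ge N21566 = N31435 := rfl
theorem L266405 : sm gc N31435 = N21567 := ded_28_1 (flp_e L183228) L183222 L266403
theorem L266407 : sm gh N31435 = N21792 := ded_43_2 (flp_e L185085) (flp_h L183226) L266403
theorem L266409 : sm gf N31435 = N22141 := ded_40_2 (flp_e L188018) L129504 (flp_e L126197) (flp_f L183224) L266403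
theorem L266411 : sm gi N21566 = N31436 := rfl
theorem L266413 : sm gc N31436 = N21568 := ded_33_1 (flp_i L183236) L183222 L266411
theorem L266415 : sm gf N31436 = N21572 := ded_48_1 (flp_i L183274) (flp_f L183224) L266411
theorem L266417 : sm gi N21567 = N31437 := rfl
theorem L266419 : sm gb N31437 = N21585 := ded_26_1 (flp_i L183382) (flp_b L183230) L266417
theorem L266421 : sm ge N31437 = N21568 := ded_44_1 (flp_i L183236) L183228 L266417
theorem L266423 : sm gf N31437 = N22143 := ded_48_1 (flp_i L188032) (flp_f L183234) L266417
theorem L266425 : sm gh N21568 = N31438 := rfl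
theorem L266427 : sm gb N31438 = N21586 := ded_25_1 (flp_h L183389) (flp_b L183238) L266425
theorem L266429 : sm gf N31438 = N21573 := ded_47_1 (flp_h L183282) (flp_f L183242) L266425
theorem L266431 : sm gi N31438 = N21795 := ded_54_2 (flp_h L185106) (flp_i L127479) (flp_h L126167) L183236 L266425
theorem L266433 : sm gb N21569 = N31439 := rfl
theorem L266435 : sm ge N31439 = N22145 := ded_21_2 (flp_b L188049) (flp_e L183246) L266433
theorem L266437 : sm gg N31439 = N31439 := ded_23_2 (flp_b L266433) L183248 L266433
theorem L266438 : sm gj N31439 = N21571 := ded_24_2 (flp_b L183264) (flp_j L183249) L266433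
theorem L266440 : sm gh N31439 = N21796 := ded_25_2 (flp_b L185112) (flp_h L183251) L266433
theorem L266442 : sm gc N31439 = N21587 := ded_19_2 (flp_b L183396) (flp_c L126281) (flp_b L126177) L183244 L266433
theorem L266444 : sm gi N21569 = N31440 := rfl
theorem L266446 : sm gc N31440 = N21570 := ded_33_1 (flp_i L183253) L183244 L266444
theorem L266448 : sm ge N31440 = N22146 := ded_44_1 (flp_i L188058) (flp_e L183246) L266444
theorem L266450 : sm gg N31440 = N31440 := ded_51_1 (flp_i L266444) L183248 L266444
theorem L266451 : sm gj N31440 = N21572 := ded_53_1 (flp_i L183274) (flp_j L183249) L266444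
theorem L266453 : sm gh N21570 = N31441 := rfl
theorem L266455 : sm gb N31441 = N21589 := ded_25_1 (flp_h L183415) (flp_b L183255) L266453
theorem L266457 : sm ge N31441 = N22147 := ded_43_1 (flp_h L188065) (flp_e L183259) L266453
theorem L266459 : sm gg N31441 = N31441 := ded_50_1 (flp_h L266453) L183261 L266453
theorem L266460 : sm gj N31441 = N21573 := ded_52_1 (flp_h L183282) (flp_j L183262) L266453
theorem L266462 : sm gi N31441 = N21798 := ded_54_2 (flp_h L185130) (flp_i L127494) (flp_h L126184) L183253 L266453
theorem L266464 : sm ga N21571 = N31442 := rfl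
theorem L266466 : sm gc N31442 = N21590 := ded_11_2 (flp_a L183425) (flp_c L183272) L266464
theorem L266468 : sm ge N31442 = N22148 := ded_13_2 (flp_a L188075) (flp_e L183266) L266464
theorem L266470 : sm gg N31442 = N21574 := ded_15_2 (flp_a L183292) (flp_g L183268) L266464
theorem L266472 : sm gh N31442 = N21799 := ded_17_2 (flp_a L185139) (flp_h L183270) L266464
theorem L266474 : sm gi N21571 = N31443 := rfl
theorem L266476 : sm gb N31443 = N21572 := ded_26_1 (flp_i L183274) L183264 L266474
theorem L266478 : sm gc N31443 = N21591 := ded_33_1 (flp_i L183434) (flp_c L183272) L266474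
theorem L266480 : sm ge N31443 = N22149 := ded_44_1 (flp_i L188083) (flp_e L183266) L266474
theorem L266482 : sm gg N31443 = N21575 := ded_51_1 (flp_i L183301) (flp_g L183268) L266474
theorem L266484 : sm gh N21572 = N31444 := rfl
theorem L266486 : sm gc N31444 = N21573 := ded_32_1 (flp_h L183282) (flp_c L183276) L266484
theorem L266488 : sm ge N31444 = N22150 := ded_43_1 (flp_h L188091) (flp_e L183278) L266484
theorem L266490 : sm gg N31444 = N21576 := ded_50_1 (flp_h L183310) (flp_g L183280) L266484
theorem L266492 : sm gi N31444 = N21801 := ded_54_2 (flp_h L185157) (flp_i L127513) (flp_h L126201) L183274 L266484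
theorem L266494 : sm gi N21574 = N31445 := rfl
theorem L266496 : sm ga N31445 = N21575 := ded_18_1 (flp_i L183301) L183292 L266494
theorem L266498 : sm gc N31445 = N21593 := ded_33_1 (flp_i L183453) (flp_c L183294) L266494
theorem L266500 : sm ge N31445 = N22151 := ded_44_1 (flp_i L188099) (flp_e L183296) L266494
theorem L266502 : sm gj N31445 = N31445 := ded_53_1 (flp_i L266494) L183298 L266494
theorem L266503 : sm gh N21575 = N31446 := rfl
theorem L266505 : sm gb N31446 = N21576 := ded_25_1 (flp_h L183310) (flp_b L183303) L266503
theorem L266507 : sm gc N31446 = N21594 := ded_32_1 (flp_h L183461) (flp_c L183305) L266503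
theorem L266509 : sm ge N31446 = N22152 := ded_43_1 (flp_h L188107) (flp_e L183307) L266503
theorem L266511 : sm gj N31446 = N31446 := ded_52_1 (flp_h L266503) L183309 L266503
theorem L266512 : sm gi N31446 = N21803 := ded_54_2 (flp_h L185174) (flp_i L127536) (flp_h L126218) L183301 L266503
theorem L266514 : sm gd N21576 = N31447 := rfl
theorem L266516 : sm gj N31447 = N31447 := ded_37_2 (flp_d L266514) L183316 L266514
theorem L266517 : sm gi N31447 = N21804 := ded_39_2 (flp_d L185183) (flp_i L183317) L266514
theorem L266519 : sm gc N21577 = N31448 := rfl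
theorem L266523 : sm gg N31448 = N21579 := ded_30_2 (flp_c L183333) (flp_g L183323) L266519
theorem L266525 : sm gh N31448 = N21805 := ded_32_2 (flp_c L185186) (flp_h L183325) L266519
theorem L266527 : sm ge N21577 = N31449 := rfl
theorem L266530 : sm gg N31449 = N21580 := ded_41_2 (flp_e L183342) (flp_g L183323) L266527
theorem L266534 : sm gi N21577 = N31450 := rfl
theorem L266536 : sm ga N31450 = N31450 := ded_18_1 (flp_i L266534) L183321 L266534
theorem L266537 : sm gd N31450 = N21578 := ded_39_1 (flp_i L183327) L183319 L266534
theorem L266539 : sm gf N31450 = N31450 := ded_48_1 (flp_i L266534) L183322 L266534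
theorem L266540 : sm gg N31450 = N21581 := ded_51_1 (flp_i L183351) (flp_g L183323) L266534
theorem L266542 : sm gb N21579 = N31451 := rfl
theorem L266544 : sm gf N31451 = N21587 := ded_22_2 (flp_b L183396) (flp_f L183336) L266542
theorem L266546 : sm gj N31451 = N21582 := ded_24_2 (flp_b L183360) (flp_j L183338) L266542
theorem L266548 : sm gh N31451 = N21808 := ded_25_2 (flp_b L185207) (flp_h L183340) L266542
theorem L266550 : sm ge N21579 = N31452 := rfl
theorem L266553 : sm gc N31452 = N21580 := ded_28_1 (flp_e L183342) L183333 L266550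
theorem L266555 : sm gj N31452 = N21583 := ded_42_2 (flp_e L183366) (flp_j L183338) L266550
theorem L266561 : sm gi N21579 = N31453 := rfl
theorem L266563 : sm ga N31453 = N31453 := ded_18_1 (flp_i L266561) L183335 L266561
theorem L266564 : sm gc N31453 = N21581 := ded_33_1 (flp_i L183351) L183333 L266561
theorem L266566 : sm gf N31453 = N21588 := ded_48_1 (flp_i L183405) (flp_f L183336) L266561
theorem L266568 : sm gj N31453 = N21584 := ded_53_1 (flp_i L183375) (flp_j L183338) L266561
theorem L266570 : sm gi N21580 = N31454 := rfl
theorem L266572 : sm ga N31454 = N31454 := ded_18_1 (flp_i L266570) L183344 L266570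
theorem L266573 : sm ge N31454 = N21581 := ded_44_1 (flp_i L183351) L183342 L266570
theorem L266575 : sm gf N31454 = N22160 := ded_48_1 (flp_i L188179) (flp_f L183349) L266570
theorem L266577 : sm gj N31454 = N21585 := ded_53_1 (flp_i L183382) (flp_j L183345) L266570
theorem L266579 : sm gh N21581 = N31455 := rfl
theorem L266581 : sm ga N31455 = N31455 := ded_17_1 (flp_h L266579) L183353 L266579
theorem L266582 : sm gf N31455 = N21589 := ded_47_1 (flp_h L183415) (flp_f L183356) L266579
theorem L266584 : sm gj N31455 = N21586 := ded_52_1 (flp_h L183389) (flp_j L183358) L266579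
theorem L266588 : sm ga N21582 = N31456 := rfl
theorem L266590 : sm gf N31456 = N21590 := ded_14_2 (flp_a L183425) (flp_f L183362) L266588
theorem L266592 : sm gh N31456 = N21813 := ded_17_2 (flp_a L185250) (flp_h L183364) L266588
theorem L266594 : sm gb N31456 = N31456 := ded_10_2 (flp_a L266588) (flp_b L183360) L126262 L183360 L266588
theorem L266595 : sm ge N21582 = N31457 := rfl
theorem L266597 : sm gb N31457 = N21583 := ded_21_1 (flp_e L183366) L183360 L266595
theorem L266599 : sm gh N31457 = N21814 := ded_43_2 (flp_e L185256) (flp_h L183364) L266595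
theorem L266601 : sm gf N31457 = N22163 := ded_40_2 (flp_e L188205) L129635 (flp_e L126303) (flp_f L183362) L266595
theorem L266603 : sm gi N21582 = N31458 := rfl
theorem L266605 : sm gb N31458 = N21584 := ded_26_1 (flp_i L183375) L183360 L266603
theorem L266607 : sm gf N31458 = N21591 := ded_48_1 (flp_i L183434) (flp_f L183362) L266603
theorem L266609 : sm gd N21583 = N31459 := rfl
theorem L266611 : sm ga N31459 = N31459 := ded_12_1 (flp_d L266609) L183368 L266609
theorem L266612 : sm gf N31459 = N22165 := ded_35_2 (flp_d L188220) (flp_f L183373) L266609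
theorem L266614 : sm gi N21583 = N31460 := rfl
theorem L266619 : sm ge N31460 = N21584 := ded_44_1 (flp_i L183375) L183366 L266614
theorem L266623 : sm gh N21584 = N31461 := rfl
theorem L266626 : sm gc N31461 = N21586 := ded_32_1 (flp_h L183389) (flp_c L183378) L266623
theorem L266628 : sm gf N31461 = N21592 := ded_47_1 (flp_h L183442) (flp_f L183380) L266623
theorem L266630 : sm gi N31461 = N21818 := ded_54_2 (flp_h L185285) (flp_i L127603) (flp_h L126265) L183375 L266623
theorem L266632 : sm gh N21585 = N31462 := rfl
theorem L266639 : sm gi N31462 = N21819 := ded_54_2 (flp_h L185292) (flp_i L127611) (flp_h L126270) L183382 L266632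
theorem L266641 : sm ga N21587 = N31463 := rfl
theorem L266643 : sm ge N31463 = N22169 := ded_13_2 (flp_a L188251) (flp_e L183398) L266641
theorem L266645 : sm gg N31463 = N31463 := ded_15_2 (flp_a L266641) L183400 L266641
theorem L266646 : sm gj N31463 = N21590 := ded_16_2 (flp_a L183425) (flp_j L183401) L266641
theorem L266648 : sm gh N31463 = N21820 := ded_17_2 (flp_a L185299) (flp_h L183403) L266641
theorem L266650 : sm gb N31463 = N31463 := ded_10_2 (flp_a L266641) (flp_b L183396) L126283 L183396 L266641
theorem L266651 : sm gi N21587 = N31464 := rfl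
theorem L266653 : sm gb N31464 = N21588 := ded_26_1 (flp_i L183405) L183396 L266651
theorem L266655 : sm ge N31464 = N22170 := ded_44_1 (flp_i L188260) (flp_e L183398) L266651
theorem L266657 : sm gg N31464 = N31464 := ded_51_1 (flp_i L266651) L183400 L266651
theorem L266658 : sm gj N31464 = N21591 := ded_53_1 (flp_i L183434) (flp_j L183401) L266651
theorem L266660 : sm gh N21588 = N31465 := rfl
theorem L266663 : sm gc N31465 = N21589 := ded_32_1 (flp_h L183415) (flp_c L183408) L266660
theorem L266665 : sm ge N31465 = N22171 := ded_43_1 (flp_h L188268) (flp_e L183410) L266660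
theorem L266668 : sm gj N31465 = N21592 := ded_52_1 (flp_h L183442) (flp_j L183413) L266660
theorem L266672 : sm gi N21590 = N31466 := rfl
theorem L266674 : sm ga N31466 = N21591 := ded_18_1 (flp_i L183434) L183425 L266672
theorem L266676 : sm gb N31466 = N31466 := ded_26_1 (flp_i L266672) L183433 L266672
theorem L266677 : sm ge N31466 = N22172 := ded_44_1 (flp_i L188278) (flp_e L183427) L266672
theorem L266679 : sm gg N31466 = N21593 := ded_51_1 (flp_i L183453) (flp_g L183429) L266672
theorem L266681 : sm gh N21591 = N31467 := rfl
theorem L266683 : sm gb N31467 = N21592 := ded_25_1 (flp_h L183442) (flp_b L183436) L266681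
theorem L266685 : sm ge N31467 = N22173 := ded_43_1 (flp_h L188286) (flp_e L183438) L266681
theorem L266687 : sm gg N31467 = N21594 := ded_50_1 (flp_h L183461) (flp_g L183440) L266681
theorem L266689 : sm gi N31467 = N21824 := ded_54_2 (flp_h L185338) (flp_i L127659) (flp_h L126307) L183434 L266681
theorem L266691 : sm gd N21592 = N31468 := rfl
theorem L266693 : sm ga N31468 = N31468 := ded_12_1 (flp_d L266691) L183444 L266691
theorem L266694 : sm gg N31468 = N21595 := ded_36_2 (flp_d L183470) (flp_g L183449) L266691
theorem L266696 : sm gi N31468 = N21825 := ded_39_2 (flp_d L185346) (flp_i L183451) L266691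
theorem L266698 : sm gh N21593 = N31469 := rfl
theorem L266700 : sm ga N31469 = N21594 := ded_17_1 (flp_h L183461) (flp_a L183455) L266698
theorem L266702 : sm gb N31469 = N31469 := ded_25_1 (flp_h L266698) L183457 L266698
theorem L266703 : sm ge N31469 = N22175 := ded_43_1 (flp_h L188303) (flp_e L183458) L266698
theorem L266705 : sm gj N31469 = N31469 := ded_52_1 (flp_h L266698) L183460 L266698
theorem L266706 : sm gi N31469 = N21826 := ded_54_2 (flp_h L185352) (flp_i L127677) (flp_h L126332) L183453 L266698
theorem L266708 : sm gd N21594 = N31470 := rfl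
theorem L266710 : sm gb N31470 = N21595 := ded_20_1 (flp_d L183470) (flp_b L183463) L266708
theorem L266712 : sm gj N31470 = N31470 := ded_37_2 (flp_d L266708) L183467 L266708
theorem L266713 : sm gi N31470 = N21827 := ded_39_2 (flp_d L185360) (flp_i L183468) L266708
theorem L266715 : sm ge N21595 = N31471 := rfl
theorem L266717 : sm ga N31471 = N31471 := ded_13_1 (flp_e L266715) L183472 L266715
theorem L266718 : sm gj N31471 = N31471 := ded_42_2 (flp_e L266715) L183473 L266715
theorem L266719 : sm gi N31471 = N21828 := ded_44_2 (flp_e L185366) (flp_i L183474) L266715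
theorem L266721 : sm gd N31471 = N22177 := ded_34_1 (flp_e L188321) (flp_d L129738) (flp_e L126347) L183470 L266715
theorem L266723 : sm gg N21596 = N31472 := rfl
theorem L266729 : sm ge N31472 = N23836 := ded_41_1 (flp_g L202645) (flp_e L183479) L266723
theorem L266731 : sm gi N31472 = N21711 := ded_51_2 (flp_g L184430) (flp_i L183482) L266723
theorem L266733 : sm gh N21596 = N31473 := rfl
theorem L266771 : sm gd N21598 = N31477 := rfl
theorem L266777 : sm gh N31477 = N21602 := ded_38_2 (flp_d L183534) (flp_h L126372) L126352 L183496 L266771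
theorem L266789 : sm gj N21599 = N31479 := rfl
theorem L266792 : sm gb N31479 = N21619 := ded_24_1 (flp_j L183692) (flp_b L183507) L266789
theorem L266798 : sm gi N31479 = N21718 := ded_53_2 (flp_j L184489) (flp_i L183510) L266789
theorem L266800 : sm gh N21599 = N31480 := rfl
theorem L266809 : sm gh N21600 = N31481 := rfl
theorem L266815 : sm ge N31481 = N21604 := ded_43_1 (flp_h L183551) (flp_e L183519) L266809
theorem L266844 : sm ge N21602 = N31485 := rfl
theorem L266852 : sm gi N21602 = N31486 := rfl
theorem L266857 : sm gd N31486 = N21603 := ded_39_1 (flp_i L183540) L183534 L266852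
theorem L266871 : sm gi N21604 = N31488 := rfl
theorem L266883 : sm gc N21605 = N31489 := rfl
theorem L266889 : sm gh N31489 = N23850 := ded_32_2 (flp_c L202778) (flp_h L183569) L266883
theorem L266893 : sm ge N21605 = N31490 := rfl
theorem L266900 : sm gh N31490 = N23851 := ded_43_2 (flp_e L202788) (flp_h L183569) L266893
theorem L266902 : sm gi N21605 = N31491 := rfl
theorem L266996 : sm ge N21614 = N31501 := rfl
theorem L266998 : sm ga N31501 = N21646 := ded_13_1 (flp_e L183937) (flp_a L183651) L266996
theorem L267000 : sm gi N31501 = N21726 := ded_44_2 (flp_e L184562) (flp_i L183655) L266996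
theorem L267003 : sm gf N31501 = N23857 := ded_40_2 (flp_e L202839) (flp_f L139736) (flp_e L126457) L183649 L266996
theorem L267005 : sm gj N21614 = N31502 := rfl
theorem L267007 : sm ga N31502 = N21647 := ded_16_1 (flp_j L183945) (flp_a L183651) L267005
theorem L267009 : sm gd N31502 = N21619 := ded_37_1 (flp_j L183692) (flp_d L183653) L267005
theorem L267011 : sm gf N31502 = N21615 := ded_46_1 (flp_j L183657) L183649 L267005
theorem L267013 : sm gi N31502 = N21727 := ded_53_2 (flp_j L184569) (flp_i L183655) L267005
theorem L267015 : sm gh N21614 = N31503 := rfl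
theorem L267017 : sm ga N31503 = N21648 := ded_17_1 (flp_h L183954) (flp_a L183651) L267015
theorem L267019 : sm gf N31503 = N21616 := ded_47_1 (flp_h L183668) L183649 L267015
theorem L267021 : sm gh N21615 = N31504 := rfl
theorem L267023 : sm ga N31504 = N21649 := ded_17_1 (flp_h L183959) (flp_a L183659) L267021
theorem L267025 : sm ge N31504 = N23860 := ded_43_1 (flp_h L202864) (flp_e L183663) L267021
theorem L267028 : sm gj N31504 = N21616 := ded_52_1 (flp_h L183668) L183657 L267021
theorem L267038 : sm gi N21616 = N31506 := rfl
theorem L267042 : sm ge N31506 = N23862 := ded_44_1 (flp_i L202879) (flp_e L183672) L267038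
theorem L267048 : sm gc N21617 = N31507 := rfl
theorem L267053 : sm gh N31507 = N21624 := ded_32_2 (flp_c L183741) (flp_h L183681) L267048
theorem L267071 : sm gg N21619 = N31510 := rfl
theorem L267073 : sm ga N31510 = N21655 := ded_15_1 (flp_g L184002) (flp_a L183694) L267071
theorem L267075 : sm gc N31510 = N21635 := ded_30_1 (flp_g L183841) (flp_c L183696) L267071
theorem L267078 : sm gi N31510 = N21734 := ded_51_2 (flp_g L184625) (flp_i L183701) L267071
theorem L267092 : sm gd N21620 = N31512 := rfl
theorem L267094 : sm ga N31512 = N21657 := ded_12_1 (flp_d L184021) (flp_a L183705) L267092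
theorem L267096 : sm gf N31512 = N21622 := ded_35_2 (flp_d L183723) (flp_f L183710) L267092
theorem L267109 : sm gd N21621 = N31514 := rfl
theorem L267114 : sm gj N31514 = N21622 := ded_37_2 (flp_d L183723) (flp_j L183721) L267109
theorem L267129 : sm gc N21622 = N31516 := rfl
theorem L267158 : sm ge N21624 = N31520 := rfl
theorem L267160 : sm ga N31520 = N21665 := ded_13_1 (flp_e L184080) (flp_a L183743) L267158
theorem L267166 : sm gi N21624 = N31521 := rfl
theorem L267175 : sm gf N21625 = N31522 := rfl
theorem L267177 : sm ga N31522 = N21667 := ded_14_1 (flp_f L184093) (flp_a L183750) L267175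
theorem L267258 : sm gj N21633 = N31531 := rfl
theorem L267260 : sm ga N31531 = N21676 := ded_16_1 (flp_j L184167) (flp_a L183826) L267258
theorem L267267 : sm gi N21633 = N31532 := rfl
theorem L267276 : sm gh N21635 = N31533 := rfl
theorem L267278 : sm ga N31533 = N21678 := ded_17_1 (flp_h L184183) (flp_a L183843) L267276
theorem L267283 : sm gg N31533 = N21636 := ded_50_1 (flp_h L183850) L183841 L267276
theorem L267285 : sm gd N21636 = N31534 := rfl
theorem L267287 : sm ga N31534 = N21679 := ded_12_1 (flp_d L184191) (flp_a L183852) L267285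
theorem L267290 : sm gf N31534 = N21639 := ded_35_2 (flp_d L183877) (flp_f L183856) L267285
theorem L267292 : sm gj N31534 = N21637 := ded_37_2 (flp_d L183860) (flp_j L183858) L267285
theorem L267306 : sm gc N21637 = N31536 := rfl
theorem L267308 : sm ga N31536 = N21681 := ded_11_1 (flp_c L184210) (flp_a L183862) L267306
theorem L267312 : sm ge N21637 = N31537 := rfl
theorem L267314 : sm ga N31537 = N21682 := ded_13_1 (flp_e L184214) (flp_a L183862) L267312
theorem L267319 : sm gi N21637 = N31538 := rfl
theorem L267321 : sm ga N31538 = N21683 := ded_18_1 (flp_i L184220) (flp_a L183862) L267319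
theorem L267324 : sm gd N31538 = N21638 := ded_39_1 (flp_i L183867) L183860 L267319
theorem L267326 : sm gf N31538 = N21642 := ded_48_1 (flp_i L183905) (flp_f L183865) L267319
theorem L267328 : sm gc N21639 = N31539 := rfl
theorem L267330 : sm ga N31539 = N21684 := ded_11_1 (flp_c L184228) (flp_a L183879) L267328
theorem L267334 : sm gj N31539 = N21641 := ded_31_2 (flp_c L183898) (flp_j L183883) L267328
theorem L267347 : sm gb N21641 = N31541 := rfl
theorem L267350 : sm gg N31541 = N21643 := ded_23_2 (flp_b L183915) (flp_g L183903) L267347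
theorem L267353 : sm gi N21641 = N31542 := rfl
theorem L267355 : sm ga N31542 = N21687 := ded_18_1 (flp_i L184251) (flp_a L183900) L267353
theorem L267362 : sm gh N21642 = N31543 := rfl
theorem L267364 : sm ga N31543 = N21688 := ded_17_1 (flp_h L184258) (flp_a L183907) L267362
theorem L267370 : sm gd N31543 = N21755 := ded_38_1 (flp_h L184807) L127278 (flp_h L126627) (flp_d L183910) L267362
theorem L267372 : sm ga N21643 = N31544 := rfl
theorem L267377 : sm gb N31544 = N21689 := ded_10_2 (flp_a L184267) (flp_b L126891) (flp_a L126631) L183915 L267372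
theorem L267379 : sm gi N21643 = N31545 := rfl
theorem L267386 : sm gh N21644 = N31546 := rfl
theorem L267388 : sm ga N31546 = N21691 := ded_17_1 (flp_h L184281) (flp_a L183922) L267386
theorem L267390 : sm gc N31546 = N21645 := ded_32_1 (flp_h L183928) (flp_c L183924) L267386
theorem L267394 : sm gj N21646 = N31547 := rfl
theorem L267396 : sm gb N31547 = N31547 := ded_24_1 (flp_j L267394) L183939 L267394
theorem L267397 : sm gd N31547 = N31547 := ded_37_1 (flp_j L267394) L183942 L267394
theorem L267398 : sm ge N31547 = N21647 := ded_42_1 (flp_j L183945) L183937 L267394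
theorem L267400 : sm gf N31547 = N23886 := ded_46_1 (flp_j L203094) (flp_f L183943) L267394
theorem L267402 : sm gi N31547 = N21759 := ded_53_2 (flp_j L184841) (flp_i L183940) L267394
theorem L267404 : sm gh N21646 = N31548 := rfl
theorem L267406 : sm gb N31548 = N31548 := ded_25_1 (flp_h L267404) L183939 L267404
theorem L267407 : sm ge N31548 = N21648 := ded_43_1 (flp_h L183954) L183937 L267404
theorem L267409 : sm gf N31548 = N23887 := ded_47_1 (flp_h L203102) (flp_f L183943) L267404
theorem L267411 : sm gg N21647 = N31549 := rfl
theorem L267413 : sm gb N31549 = N31549 := ded_23_1 (flp_g L267411) L183947 L267411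
theorem L267414 : sm gd N31549 = N21655 := ded_36_1 (flp_g L184002) (flp_d L183948) L267411
theorem L267416 : sm gi N31549 = N21761 := ded_51_2 (flp_g L184856) (flp_i L183952) L267411
theorem L267418 : sm gf N31549 = N31549 := ded_45_1 (flp_g L267411) L183950 L126672 (flp_f L183950) L267411
theorem L267419 : sm gh N21647 = N31550 := rfl
theorem L267421 : sm gb N31550 = N31550 := ded_25_1 (flp_h L267419) L183947 L267419
theorem L267422 : sm gf N31550 = N21649 := ded_47_1 (flp_h L183959) (flp_f L183950) L267419
theorem L267424 : sm gj N31550 = N21648 := ded_52_1 (flp_h L183954) L183945 L267419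
theorem L267426 : sm gd N21648 = N31551 := rfl
theorem L267429 : sm gf N31551 = N21650 := ded_35_2 (flp_d L183967) (flp_f L183957) L267426
theorem L267433 : sm gi N21648 = N31552 := rfl
theorem L267435 : sm gb N31552 = N31552 := ded_26_1 (flp_i L267433) L183956 L267433
theorem L267436 : sm gf N31552 = N21651 := ded_48_1 (flp_i L183974) (flp_f L183957) L267433
theorem L267438 : sm gh N31552 = N21764 := ded_54_1 (flp_i L184876) (flp_h L127320) (flp_i L126661) L183954 L267433
theorem L267440 : sm gd N21649 = N31553 := rfl
theorem L267444 : sm gj N31553 = N21650 := ded_37_2 (flp_d L183967) (flp_j L183965) L267440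
theorem L267446 : sm gh N31553 = N21659 := ded_38_2 (flp_d L184036) (flp_h L126712) (flp_d L126666) L183959 L267440
theorem L267448 : sm gi N21649 = N31554 := rfl
theorem L267450 : sm gb N31554 = N31554 := ded_26_1 (flp_i L267448) L183961 L267448
theorem L267451 : sm ge N31554 = N23893 := ded_44_1 (flp_i L203148) (flp_e L183962) L267448
theorem L267453 : sm gg N31554 = N31554 := ded_51_1 (flp_i L267448) L183964 L267448
theorem L267454 : sm gj N31554 = N21651 := ded_53_1 (flp_i L183974) (flp_j L183965) L267448
theorem L267456 : sm gh N31554 = N21766 := ded_54_1 (flp_i L184890) (flp_h L127325) (flp_i L126670) L183959 L267448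
theorem L267458 : sm gc N21650 = N31555 := rfl
theorem L267464 : sm ge N21650 = N31556 := rfl
theorem L267469 : sm gh N31556 = N21662 := ded_43_2 (flp_e L184060) (flp_h L183972) L267464
theorem L267471 : sm gd N31556 = N23895 := ded_34_1 (flp_e L203162) (flp_d L139957) (flp_e L126676) L183967 L267464
theorem L267473 : sm gi N21650 = N31557 := rfl
theorem L267480 : sm gb N21652 = N31558 := rfl
theorem L267483 : sm gh N31558 = N21664 := ded_25_2 (flp_b L184074) (flp_h L183986) L267480
theorem L267486 : sm ge N21652 = N31559 := rfl
theorem L267491 : sm gh N31559 = N21665 := ded_43_2 (flp_e L184080) (flp_h L183986) L267486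
theorem L267498 : sm gf N21653 = N31561 := rfl
theorem L267504 : sm gh N31561 = N21667 := ded_47_2 (flp_f L184093) (flp_h L183992) L267498
theorem L267531 : sm gd N21656 = N31565 := rfl
theorem L267536 : sm gj N31565 = N21657 := ded_37_2 (flp_d L184021) (flp_j L184019) L267531
theorem L267550 : sm gc N21657 = N31567 := rfl
theorem L267552 : sm gf N31567 = N21661 := ded_29_2 (flp_c L184054) (flp_f L184024) L267550
theorem L267554 : sm gd N31567 = N21681 := ded_27_2 (flp_c L184210) (flp_d L126843) (flp_c L126707) L184021 L267550
theorem L267567 : sm gc N21659 = N31570 := rfl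
theorem L267570 : sm gj N31570 = N21661 := ded_31_2 (flp_c L184054) (flp_j L184040) L267567
theorem L267572 : sm gd N31570 = N21684 := ded_27_2 (flp_c L184228) (flp_d L126858) (flp_c L126715) L184036 L267567
theorem L267590 : sm gb N21661 = N31573 := rfl
theorem L267592 : sm gd N31573 = N21686 := ded_20_2 (flp_b L184244) (flp_d L184058) L267590
theorem L267594 : sm gg N31573 = N21664 := ded_23_2 (flp_b L184074) (flp_g L184056) L267590
theorem L267597 : sm ge N21661 = N31574 := rfl
theorem L267601 : sm gg N31574 = N21665 := ded_41_2 (flp_e L184080) (flp_g L184056) L267597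
theorem L267604 : sm gi N21661 = N31575 := rfl
theorem L267612 : sm gf N21662 = N31576 := rfl
theorem L267615 : sm gd N31576 = N21672 := ded_35_1 (flp_f L184133) (flp_d L184065) L267612
theorem L267626 : sm gh N21663 = N31578 := rfl
theorem L267633 : sm ga N21664 = N31579 := rfl
theorem L267636 : sm gd N31579 = N21689 := ded_12_2 (flp_a L184267) (flp_d L184076) L267633
theorem L267646 : sm gi N21664 = N31581 := rfl
theorem L267651 : sm gd N31581 = N21690 := ded_39_1 (flp_i L184273) (flp_d L184076) L267646
theorem L267660 : sm gi N21665 = N31583 := rfl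
theorem L267662 : sm gc N31583 = N21668 := ded_33_1 (flp_i L184099) (flp_c L184082) L267660
theorem L267665 : sm ge N31583 = N21666 := ded_44_1 (flp_i L184086) L184080 L267660
theorem L267668 : sm gh N21666 = N31584 := rfl
theorem L267670 : sm gc N31584 = N21669 := ded_32_1 (flp_h L184107) (flp_c L184088) L267668
theorem L267673 : sm gg N21667 = N31585 := rfl
theorem L267676 : sm gd N31585 = N21674 := ded_36_1 (flp_g L184149) (flp_d L184096) L267673
theorem L267686 : sm gh N21668 = N31587 := rfl
theorem L267689 : sm ge N31587 = N21669 := ded_43_1 (flp_h L184107) (flp_e L184104) L267686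
theorem L267693 : sm gf N21670 = N31588 := rfl
theorem L267697 : sm gj N31588 = N21672 := ded_46_2 (flp_f L184133) (flp_j L184118) L267693
theorem L267702 : sm gi N21670 = N31589 := rfl
theorem L267721 : sm gi N21672 = N31591 := rfl
theorem L267738 : sm gi N21674 = N31593 := rfl
theorem L267744 : sm gg N31593 = N21675 := ded_51_1 (flp_i L184157) L184149 L267738
theorem L267747 : sm gi N21676 = N31594 := rfl
theorem L267756 : sm gd N21678 = N31595 := rfl
theorem L267758 : sm gb N31595 = N21692 := ded_20_1 (flp_d L184287) (flp_b L184185) L267756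
theorem L267760 : sm gf N31595 = N31595 := ded_35_2 (flp_d L267756) L184188 L267756
theorem L267761 : sm gg N31595 = N21679 := ded_36_2 (flp_d L184191) (flp_g L184189) L267756
theorem L267763 : sm gi N21678 = N31596 := rfl
theorem L267765 : sm gb N31596 = N21693 := ded_26_1 (flp_i L184293) (flp_b L184185) L267763
theorem L267769 : sm gg N31596 = N21680 := ded_51_1 (flp_i L184199) (flp_g L184189) L267763
theorem L267771 : sm gh N31596 = N21787 := ded_54_1 (flp_i L185046) (flp_h L127443) (flp_i L126831) L184183 L267763
theorem L267773 : sm gc N21679 = N31597 := rfl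
theorem L267775 : sm gf N31597 = N21684 := ded_29_2 (flp_c L184228) (flp_f L184195) L267773
theorem L267777 : sm gj N31597 = N21681 := ded_31_2 (flp_c L184210) (flp_j L184197) L267773
theorem L267779 : sm ge N21679 = N31598 := rfl
theorem L267781 : sm gb N31598 = N21695 := ded_21_1 (flp_e L184311) (flp_b L184193) L267779
theorem L267783 : sm gj N31598 = N21682 := ded_42_2 (flp_e L184214) (flp_j L184197) L267779
theorem L267785 : sm gd N31598 = N31598 := ded_34_1 (flp_e L267779) (flp_d L184191) L126838 L184191 L267779
theorem L267786 : sm gf N31598 = N31598 := ded_40_2 (flp_e L267779) L184195 L126865 (flp_f L184195) L267779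
theorem L267787 : sm gi N21679 = N31599 := rfl
theorem L267789 : sm gb N31599 = N21696 := ded_26_1 (flp_i L184318) (flp_b L184193) L267787
theorem L267791 : sm gd N31599 = N21680 := ded_39_1 (flp_i L184199) L184191 L267787
theorem L267793 : sm gf N31599 = N21685 := ded_48_1 (flp_i L184234) (flp_f L184195) L267787
theorem L267797 : sm gb N21681 = N31600 := rfl
theorem L267799 : sm gf N31600 = N21686 := ded_22_2 (flp_b L184244) (flp_f L184212) L267797
theorem L267801 : sm gc N31600 = N21697 := ded_19_2 (flp_b L184327) (flp_c L126937) (flp_b L126845) L184210 L267797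
theorem L267803 : sm ge N21681 = N31601 := rfl
theorem L267805 : sm gc N31601 = N21682 := ded_28_1 (flp_e L184214) L184210 L267803
theorem L267807 : sm gf N31601 = N31601 := ded_40_2 (flp_e L267803) L184212 L126879 (flp_f L184212) L267803
theorem L267808 : sm gi N21681 = N31602 := rfl
theorem L267812 : sm gf N31602 = N21687 := ded_48_1 (flp_i L184251) (flp_f L184212) L267808
theorem L267814 : sm gi N21682 = N31603 := rfl
theorem L267816 : sm gb N31603 = N21700 := ded_26_1 (flp_i L184346) (flp_b L184216) L267814
theorem L267822 : sm gh N21683 = N31604 := rfl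
theorem L267824 : sm gb N31604 = N21701 := ded_25_1 (flp_h L184353) (flp_b L184222) L267822
theorem L267828 : sm gd N31604 = N21795 := ded_38_1 (flp_h L185106) L127483 (flp_h L126856) (flp_d L184224) L267822
theorem L267830 : sm gb N21684 = N31605 := rfl
theorem L267832 : sm ge N31605 = N31605 := ded_21_2 (flp_b L267830) L184230 L267830
theorem L267833 : sm gg N31605 = N31605 := ded_23_2 (flp_b L267830) L184231 L267830
theorem L267834 : sm gj N31605 = N21686 := ded_24_2 (flp_b L184244) (flp_j L184232) L267830
theorem L267836 : sm gc N31605 = N21702 := ded_19_2 (flp_b L184360) (flp_c L126955) (flp_b L126860) L184228 L267830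
theorem L267838 : sm gi N21684 = N31606 := rfl
theorem L267840 : sm gc N31606 = N21685 := ded_33_1 (flp_i L184234) L184228 L267838
theorem L267844 : sm gj N31606 = N21687 := ded_53_1 (flp_i L184251) (flp_j L184232) L267838
theorem L267846 : sm gh N21685 = N31607 := rfl
theorem L267848 : sm gb N31607 = N21704 := ded_25_1 (flp_h L184377) (flp_b L184236) L267846
theorem L267854 : sm gd N31607 = N21798 := ded_38_1 (flp_h L185130) L127498 (flp_h L126875) (flp_d L184238) L267846
theorem L267856 : sm ga N21686 = N31608 := rfl
theorem L267858 : sm gc N31608 = N21705 := ded_11_2 (flp_a L184386) (flp_c L184249) L267856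
theorem L267860 : sm ge N31608 = N31608 := ded_13_2 (flp_a L267856) L184246 L267856
theorem L267861 : sm gg N31608 = N21689 := ded_15_2 (flp_a L184267) (flp_g L184247) L267856
theorem L267863 : sm gi N21686 = N31609 := rfl
theorem L267865 : sm gb N31609 = N21687 := ded_26_1 (flp_i L184251) L184244 L267863
theorem L267867 : sm gc N31609 = N21706 := ded_33_1 (flp_i L184393) (flp_c L184249) L267863
theorem L267872 : sm gh N21687 = N31610 := rfl
theorem L267874 : sm gc N31610 = N21688 := ded_32_1 (flp_h L184258) (flp_c L184253) L267872
theorem L267879 : sm gi N21689 = N31611 := rfl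
theorem L267881 : sm ga N31611 = N21690 := ded_18_1 (flp_i L184273) L184267 L267879
theorem L267883 : sm gc N31611 = N21708 := ded_33_1 (flp_i L184409) (flp_c L184269) L267879
theorem L267887 : sm gh N21690 = N31612 := rfl
theorem L267895 : sm gd N21691 = N31613 := rfl
theorem L267898 : sm gc N31613 = N21804 := ded_27_1 (flp_d L185183) L127547 (flp_d L126909) (flp_c L184283) L267895
theorem L267900 : sm gc N21692 = N31614 := rfl
theorem L267902 : sm ga N31614 = N31614 := ded_11_1 (flp_c L267900) L184289 L267900
theorem L267903 : sm gf N31614 = N31614 := ded_29_2 (flp_c L267900) L184290 L267900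
theorem L267904 : sm gg N31614 = N21694 := ded_30_2 (flp_c L184303) (flp_g L184291) L267900
theorem L267906 : sm gd N31614 = N31614 := ded_27_2 (flp_c L267900) (flp_d L184287) L126914 L184287 L267900
theorem L267907 : sm ge N21692 = N31615 := rfl
theorem L267909 : sm ga N31615 = N31615 := ded_13_1 (flp_e L267907) L184289 L267907
theorem L267910 : sm gg N31615 = N21695 := ded_41_2 (flp_e L184311) (flp_g L184291) L267907
theorem L267912 : sm gd N31615 = N31615 := ded_34_1 (flp_e L267907) (flp_d L184287) L126915 L184287 L267907
theorem L267913 : sm gi N21692 = N31616 := rfl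
theorem L267915 : sm ga N31616 = N31616 := ded_18_1 (flp_i L267913) L184289 L267913
theorem L267916 : sm gd N31616 = N21693 := ded_39_1 (flp_i L184293) L184287 L267913
theorem L267918 : sm gf N31616 = N31616 := ded_48_1 (flp_i L267913) L184290 L267913
theorem L267919 : sm gg N31616 = N21696 := ded_51_1 (flp_i L184318) (flp_g L184291) L267913
theorem L267921 : sm gb N21694 = N31617 := rfl
theorem L267923 : sm gd N31617 = N31617 := ded_20_2 (flp_b L267921) L184310 L267921
theorem L267924 : sm gf N31617 = N21702 := ded_22_2 (flp_b L184360) (flp_f L184306) L267921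
theorem L267926 : sm gj N31617 = N21697 := ded_24_2 (flp_b L184327) (flp_j L184308) L267921
theorem L267928 : sm ge N21694 = N31618 := rfl
theorem L267933 : sm gj N31618 = N21698 := ded_42_2 (flp_e L184332) (flp_j L184308) L267928
theorem L267936 : sm gi N21694 = N31619 := rfl
theorem L267939 : sm gc N31619 = N21696 := ded_33_1 (flp_i L184318) L184303 L267936
theorem L267942 : sm gf N31619 = N21703 := ded_48_1 (flp_i L184367) (flp_f L184306) L267936
theorem L267944 : sm gj N31619 = N21699 := ded_53_1 (flp_i L184338) (flp_j L184308) L267936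
theorem L267946 : sm gi N21695 = N31620 := rfl
theorem L267950 : sm ge N31620 = N21696 := ded_44_1 (flp_i L184318) L184311 L267946
theorem L267953 : sm gj N31620 = N21700 := ded_53_1 (flp_i L184346) (flp_j L184314) L267946
theorem L267955 : sm gh N21696 = N31621 := rfl
theorem L267960 : sm gj N31621 = N21701 := ded_52_1 (flp_h L184353) (flp_j L184325) L267955
theorem L267964 : sm ga N21697 = N31622 := rfl
theorem L267966 : sm gd N31622 = N31622 := ded_12_2 (flp_a L267964) L184329 L267964
theorem L267967 : sm gf N31622 = N21705 := ded_14_2 (flp_a L184386) (flp_f L184330) L267964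
theorem L267969 : sm gb N31622 = N31622 := ded_10_2 (flp_a L267964) (flp_b L184327) L126939 L184327 L267964
theorem L267970 : sm ge N21697 = N31623 := rfl
theorem L267972 : sm gb N31623 = N21698 := ded_21_1 (flp_e L184332) L184327 L267970
theorem L267974 : sm gf N31623 = N31623 := ded_40_2 (flp_e L267970) L184330 L126975 (flp_f L184330) L267970
theorem L267975 : sm gi N21697 = N31624 := rfl
theorem L267977 : sm gb N31624 = N21699 := ded_26_1 (flp_i L184338) L184327 L267975
theorem L267979 : sm gd N31624 = N31624 := ded_39_1 (flp_i L267975) L184329 L267975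
theorem L267980 : sm gf N31624 = N21706 := ded_48_1 (flp_i L184393) (flp_f L184330) L267975
theorem L267982 : sm gd N21698 = N31625 := rfl
theorem L267988 : sm gi N21698 = N31626 := rfl
theorem L267991 : sm gc N31626 = N21700 := ded_33_1 (flp_i L184346) (flp_c L184335) L267988
theorem L267993 : sm ge N31626 = N21699 := ded_44_1 (flp_i L184338) L184332 L267988
theorem L267996 : sm gh N21699 = N31627 := rfl
theorem L267998 : sm ga N31627 = N31627 := ded_17_1 (flp_h L267996) L184340 L267996
theorem L267999 : sm gc N31627 = N21701 := ded_32_1 (flp_h L184353) (flp_c L184341) L267996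
theorem L268001 : sm gf N31627 = N21707 := ded_47_1 (flp_h L184401) (flp_f L184344) L267996
theorem L268003 : sm gh N21700 = N31628 := rfl
theorem L268005 : sm ga N31628 = N31628 := ded_17_1 (flp_h L268003) L184348 L268003
theorem L268006 : sm ge N31628 = N21701 := ded_43_1 (flp_h L184353) (flp_e L184350) L268003
theorem L268008 : sm gf N31628 = N31628 := ded_47_1 (flp_h L268003) L184352 L268003
theorem L268009 : sm ga N21702 = N31629 := rfl
theorem L268011 : sm gd N31629 = N31629 := ded_12_2 (flp_a L268009) L184362 L268009
theorem L268012 : sm ge N31629 = N31629 := ded_13_2 (flp_a L268009) L184363 L268009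
theorem L268013 : sm gg N31629 = N31629 := ded_15_2 (flp_a L268009) L184364 L268009
theorem L268014 : sm gj N31629 = N21705 := ded_16_2 (flp_a L184386) (flp_j L184365) L268009
theorem L268016 : sm gb N31629 = N31629 := ded_10_2 (flp_a L268009) (flp_b L184360) L126957 L184360 L268009
theorem L268017 : sm gi N21702 = N31630 := rfl
theorem L268019 : sm gb N31630 = N21703 := ded_26_1 (flp_i L184367) L184360 L268017
theorem L268021 : sm gd N31630 = N31630 := ded_39_1 (flp_i L268017) L184362 L268017
theorem L268022 : sm ge N31630 = N31630 := ded_44_1 (flp_i L268017) L184363 L268017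
theorem L268023 : sm gg N31630 = N31630 := ded_51_1 (flp_i L268017) L184364 L268017
theorem L268024 : sm gj N31630 = N21706 := ded_53_1 (flp_i L184393) (flp_j L184365) L268017
theorem L268026 : sm gh N21703 = N31631 := rfl
theorem L268028 : sm ga N31631 = N31631 := ded_17_1 (flp_h L268026) L184369 L268026
theorem L268029 : sm gc N31631 = N21704 := ded_32_1 (flp_h L184377) (flp_c L184370) L268026
theorem L268031 : sm ge N31631 = N31631 := ded_43_1 (flp_h L268026) L184373 L268026
theorem L268032 : sm gg N31631 = N31631 := ded_50_1 (flp_h L268026) L184374 L268026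
theorem L268033 : sm gj N31631 = N21707 := ded_52_1 (flp_h L184401) (flp_j L184375) L268026
theorem L268035 : sm gi N21705 = N31632 := rfl
theorem L268037 : sm ga N31632 = N21706 := ded_18_1 (flp_i L184393) L184386 L268035
theorem L268039 : sm gb N31632 = N31632 := ded_26_1 (flp_i L268035) L184392 L268035
theorem L268040 : sm gd N31632 = N31632 := ded_39_1 (flp_i L268035) L184388 L268035
theorem L268041 : sm ge N31632 = N31632 := ded_44_1 (flp_i L268035) L184389 L268035
theorem L268042 : sm gg N31632 = N21708 := ded_51_1 (flp_i L184409) (flp_g L184390) L268035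
theorem L268044 : sm gh N21706 = N31633 := rfl
theorem L268046 : sm gb N31633 = N21707 := ded_25_1 (flp_h L184401) (flp_b L184395) L268044
theorem L268048 : sm ge N31633 = N31633 := ded_43_1 (flp_h L268044) L184398 L268044
theorem L268049 : sm gg N31633 = N21709 := ded_50_1 (flp_h L184417) (flp_g L184399) L268044
theorem L268051 : sm gd N21707 = N31634 := rfl
theorem L268053 : sm ga N31634 = N31634 := ded_12_1 (flp_d L268051) L184403 L268051
theorem L268054 : sm gg N31634 = N21710 := ded_36_2 (flp_d L184423) (flp_g L184407) L268051
theorem L268056 : sm gc N31634 = N21825 := ded_27_1 (flp_d L185346) L127671 (flp_d L126993) (flp_c L184404) L268051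
theorem L268058 : sm gh N31634 = N31634 := ded_38_2 (flp_d L268051) (flp_h L184401) L126983 L184401 L268051
theorem L268059 : sm gh N21708 = N31635 := rfl
theorem L268061 : sm ga N31635 = N21709 := ded_17_1 (flp_h L184417) (flp_a L184411) L268059
theorem L268063 : sm gb N31635 = N31635 := ded_25_1 (flp_h L268059) L184413 L268059
theorem L268064 : sm ge N31635 = N31635 := ded_43_1 (flp_h L268059) L184415 L268059
theorem L268065 : sm gj N31635 = N31635 := ded_52_1 (flp_h L268059) L184416 L268059
theorem L268066 : sm gd N21709 = N31636 := rfl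
theorem L268068 : sm gb N31636 = N21710 := ded_20_1 (flp_d L184423) (flp_b L184419) L268066
theorem L268070 : sm gj N31636 = N31636 := ded_37_2 (flp_d L268066) L184422 L268066
theorem L268071 : sm gh N31636 = N31636 := ded_38_2 (flp_d L268066) (flp_h L184417) L127005 L184417 L268066
theorem L268072 : sm ge N21710 = N31637 := rfl
theorem L268074 : sm ga N31637 = N31637 := ded_13_1 (flp_e L268072) L184425 L268072
theorem L268075 : sm gc N31637 = N21828 := ded_28_1 (flp_e L185366) (flp_c L184427) L268072
theorem L268077 : sm gj N31637 = N31637 := ded_42_2 (flp_e L268072) L184426 L268072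
theorem L268078 : sm gh N31637 = N31637 := ded_43_2 (flp_e L268072) L184429 L268072
theorem L268079 : sm gd N31637 = N31637 := ded_34_1 (flp_e L268072) (flp_d L184423) L127013 L184423 L268072
theorem L268080 : sm gf N21711 = N31638 := rfl
theorem L268086 : sm gj N21711 = N31639 := rfl
theorem L268092 : sm ge N31639 = N23934 := ded_42_1 (flp_j L203476) (flp_e L184436) L268086
theorem L268095 : sm gh N21711 = N31640 := rfl
theorem L268098 : sm gc N31640 = N21715 := ded_32_1 (flp_h L184463) (flp_c L184433) L268095
theorem L268100 : sm ge N31640 = N23935 := ded_43_1 (flp_h L203484) (flp_e L184436) L268095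
theorem L268102 : sm gg N31640 = N21712 := ded_50_1 (flp_h L184438) L184430 L268095
theorem L268104 : sm gd N21712 = N31641 := rfl
theorem L268109 : sm gi N21712 = N31642 := rfl
theorem L268117 : sm ge N21713 = N31643 := rfl
theorem L268120 : sm gb N31643 = N21726 := ded_21_1 (flp_e L184562) (flp_b L184449) L268117
theorem L268123 : sm gf N31643 = N23938 := ded_40_2 (flp_e L203506) (flp_f L140224) (flp_e L127029) L184446 L268117
theorem L268125 : sm gj N21713 = N31644 := rfl
theorem L268128 : sm gb N31644 = N21727 := ded_24_1 (flp_j L184569) (flp_b L184449) L268125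
theorem L268130 : sm gd N31644 = N21718 := ded_37_1 (flp_j L184489) (flp_d L184451) L268125
theorem L268132 : sm gf N31644 = N21714 := ded_46_1 (flp_j L184453) L184446 L268125
theorem L268134 : sm gh N21713 = N31645 := rfl
theorem L268137 : sm gb N31645 = N21728 := ded_25_1 (flp_h L184577) (flp_b L184449) L268134
theorem L268139 : sm gf N31645 = N21715 := ded_47_1 (flp_h L184463) L184446 L268134
theorem L268141 : sm gh N21714 = N31646 := rfl
theorem L268144 : sm gb N31646 = N21729 := ded_25_1 (flp_h L184583) (flp_b L184456) L268141
theorem L268146 : sm ge N31646 = N23941 := ded_43_1 (flp_h L203531) (flp_e L184460) L268141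
theorem L268149 : sm gj N31646 = N21715 := ded_52_1 (flp_h L184463) L184453 L268141
theorem L268161 : sm gi N21715 = N31648 := rfl
theorem L268170 : sm gc N21716 = N31649 := rfl
theorem L268175 : sm gh N31649 = N21723 := ded_32_2 (flp_c L184536) (flp_h L184479) L268170
theorem L268177 : sm gi N21716 = N31650 := rfl
theorem L268186 : sm gg N21718 = N31651 := rfl
theorem L268189 : sm gb N31651 = N21734 := ded_23_1 (flp_g L184625) (flp_b L184492) L268186
theorem L268194 : sm gh N21718 = N31652 := rfl
theorem L268197 : sm gb N31652 = N21735 := ded_25_1 (flp_h L184633) (flp_b L184492) L268194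
theorem L268201 : sm gf N31652 = N21720 := ded_47_1 (flp_h L184507) (flp_f L184496) L268194
theorem L268205 : sm gd N21719 = N31653 := rfl
theorem L268208 : sm gb N31653 = N21736 := ded_20_1 (flp_d L184644) (flp_b L184501) L268205
theorem L268210 : sm gf N31653 = N21721 := ded_35_2 (flp_d L184518) (flp_f L184505) L268205
theorem L268212 : sm gi N21719 = N31654 := rfl
theorem L268230 : sm gi N21720 = N31656 := rfl
theorem L268241 : sm gc N21721 = N31657 := rfl
theorem L268245 : sm gg N31657 = N21723 := ded_30_2 (flp_c L184536) (flp_g L184523) L268241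
theorem L268258 : sm gb N21723 = N31659 := rfl
theorem L268273 : sm gh N21724 = N31661 := rfl
theorem L268280 : sm gj N21726 = N31662 := rfl
theorem L268282 : sm ga N31662 = N21759 := ded_16_1 (flp_j L184841) (flp_a L184564) L268280
theorem L268285 : sm ge N31662 = N21727 := ded_42_1 (flp_j L184569) L184562 L268280
theorem L268289 : sm gh N21726 = N31663 := rfl
theorem L268291 : sm ga N31663 = N21760 := ded_17_1 (flp_h L184849) (flp_a L184564) L268289
theorem L268293 : sm ge N31663 = N21728 := ded_43_1 (flp_h L184577) L184562 L268289
theorem L268295 : sm gf N31663 = N23945 := ded_47_1 (flp_h L203566) (flp_f L184567) L268289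
theorem L268297 : sm gg N21727 = N31664 := rfl
theorem L268299 : sm ga N31664 = N21761 := ded_15_1 (flp_g L184856) (flp_a L184571) L268297
theorem L268301 : sm gd N31664 = N21734 := ded_36_1 (flp_g L184625) (flp_d L184573) L268297
theorem L268304 : sm gh N21727 = N31665 := rfl
theorem L268306 : sm ga N31665 = N21762 := ded_17_1 (flp_h L184862) (flp_a L184571) L268304
theorem L268308 : sm gf N31665 = N21729 := ded_47_1 (flp_h L184583) (flp_f L184575) L268304
theorem L268310 : sm gj N31665 = N21728 := ded_52_1 (flp_h L184577) L184569 L268304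
theorem L268312 : sm gd N21728 = N31666 := rfl
theorem L268314 : sm ga N31666 = N21763 := ded_12_1 (flp_d L184869) (flp_a L184579) L268312
theorem L268316 : sm gf N31666 = N21730 := ded_35_2 (flp_d L184592) (flp_f L184581) L268312
theorem L268318 : sm gh N31666 = N21736 := ded_38_2 (flp_d L184644) (flp_h L127149) (flp_d L127106) L184577 L268312
theorem L268320 : sm gi N21728 = N31667 := rfl
theorem L268322 : sm ga N31667 = N21764 := ded_18_1 (flp_i L184876) (flp_a L184579) L268320
theorem L268324 : sm gf N31667 = N21731 := ded_48_1 (flp_i L184601) (flp_f L184581) L268320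
theorem L268326 : sm gd N21729 = N31668 := rfl
theorem L268328 : sm ga N31668 = N21765 := ded_12_1 (flp_d L184881) (flp_a L184585) L268326
theorem L268331 : sm gj N31668 = N21730 := ded_37_2 (flp_d L184592) (flp_j L184590) L268326
theorem L268334 : sm gh N31668 = N21738 := ded_38_2 (flp_d L184659) (flp_h L127158) (flp_d L127112) L184583 L268326
theorem L268336 : sm gi N21729 = N31669 := rfl
theorem L268338 : sm ga N31669 = N21766 := ded_18_1 (flp_i L184890) (flp_a L184585) L268336
theorem L268340 : sm ge N31669 = N23949 := ded_44_1 (flp_i L203598) (flp_e L184587) L268336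
theorem L268342 : sm gg N31669 = N31669 := ded_51_1 (flp_i L268336) L184589 L268336
theorem L268343 : sm gj N31669 = N21731 := ded_53_1 (flp_i L184601) (flp_j L184590) L268336
theorem L268345 : sm gc N21730 = N31670 := rfl
theorem L268347 : sm ga N31670 = N21767 := ded_11_1 (flp_c L184898) (flp_a L184594) L268345
theorem L268350 : sm gg N31670 = N21732 := ded_30_2 (flp_c L184609) (flp_g L184596) L268345
theorem L268352 : sm gh N31670 = N21740 := ded_32_2 (flp_c L184678) (flp_h L184599) L268345
theorem L268354 : sm gi N21730 = N31671 := rfl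
theorem L268356 : sm ga N31671 = N21768 := ded_18_1 (flp_i L184905) (flp_a L184594) L268354
theorem L268358 : sm gd N31671 = N21731 := ded_39_1 (flp_i L184601) L184592 L268354
theorem L268361 : sm gg N31671 = N21733 := ded_51_1 (flp_i L184617) (flp_g L184596) L268354
theorem L268363 : sm gb N21732 = N31672 := rfl
theorem L268369 : sm gi N21732 = N31673 := rfl
theorem L268371 : sm ga N31673 = N21770 := ded_18_1 (flp_i L184920) (flp_a L184611) L268369
theorem L268385 : sm gh N21734 = N31675 := rfl
theorem L268387 : sm ga N31675 = N21772 := ded_17_1 (flp_h L184933) (flp_a L184627) L268385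
theorem L268389 : sm gc N31675 = N21745 := ded_32_1 (flp_h L184718) (flp_c L184629) L268385
theorem L268393 : sm gg N31675 = N21735 := ded_50_1 (flp_h L184633) L184625 L268385
theorem L268395 : sm gd N21735 = N31676 := rfl
theorem L268397 : sm ga N31676 = N21773 := ded_12_1 (flp_d L184942) (flp_a L184635) L268395
theorem L268399 : sm gf N31676 = N21738 := ded_35_2 (flp_d L184659) (flp_f L184640) L268395
theorem L268401 : sm gj N31676 = N21736 := ded_37_2 (flp_d L184644) (flp_j L184642) L268395
theorem L268403 : sm gi N21735 = N31677 := rfl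
theorem L268414 : sm gc N21736 = N31678 := rfl
theorem L268416 : sm ga N31678 = N21775 := ded_11_1 (flp_c L184959) (flp_a L184646) L268414
theorem L268418 : sm gf N31678 = N21740 := ded_29_2 (flp_c L184678) (flp_f L184648) L268414
theorem L268420 : sm gd N31678 = N21748 := ded_27_2 (flp_c L184746) (flp_d L127230) (flp_c L127153) L184644 L268414
theorem L268422 : sm ge N21736 = N31679 := rfl
theorem L268436 : sm gc N21738 = N31681 := rfl
theorem L268438 : sm ga N31681 = N21778 := ded_11_1 (flp_c L184977) (flp_a L184661) L268436
theorem L268442 : sm gj N31681 = N21740 := ded_31_2 (flp_c L184678) (flp_j L184664) L268436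
theorem L268444 : sm gd N31681 = N21751 := ded_27_2 (flp_c L184769) (flp_d L127245) (flp_c L127162) L184659 L268436
theorem L268456 : sm gb N21740 = N31683 := rfl
theorem L268458 : sm gd N31683 = N21753 := ded_20_2 (flp_b L184790) (flp_d L184685) L268456
theorem L268461 : sm gg N31683 = N21742 := ded_23_2 (flp_b L184696) (flp_g L184683) L268456
theorem L268474 : sm gh N21741 = N31685 := rfl
theorem L268481 : sm ga N21742 = N31686 := rfl
theorem L268483 : sm gd N31686 = N21756 := ded_12_2 (flp_a L184816) (flp_d L184698) L268481
theorem L268487 : sm gb N31686 = N21783 := ded_10_2 (flp_a L185017) (flp_b L127423) (flp_a L127188) L184696 L268481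
theorem L268489 : sm gi N21742 = N31687 := rfl
theorem L268493 : sm gd N31687 = N21757 := ded_39_1 (flp_i L184824) (flp_d L184698) L268489
theorem L268505 : sm gd N21745 = N31689 := rfl
theorem L268507 : sm ga N31689 = N21786 := ded_12_1 (flp_d L185039) (flp_a L184720) L268505
theorem L268509 : sm gb N31689 = N31689 := ded_20_1 (flp_d L268505) L184722 L268505
theorem L268510 : sm gf N31689 = N31689 := ded_35_2 (flp_d L268505) L184724 L268505
theorem L268511 : sm gg N31689 = N21746 := ded_36_2 (flp_d L184727) (flp_g L184725) L268505
theorem L268513 : sm gi N21745 = N31690 := rfl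
theorem L268522 : sm gc N21746 = N31691 := rfl
theorem L268524 : sm ga N31691 = N21788 := ded_11_1 (flp_c L185054) (flp_a L184729) L268522
theorem L268526 : sm gf N31691 = N21751 := ded_29_2 (flp_c L184769) (flp_f L184732) L268522
theorem L268528 : sm gj N31691 = N21748 := ded_31_2 (flp_c L184746) (flp_j L184734) L268522
theorem L268530 : sm ge N21746 = N31692 := rfl
theorem L268532 : sm ga N31692 = N21789 := ded_13_1 (flp_e L185060) (flp_a L184729) L268530
theorem L268534 : sm gb N31692 = N31692 := ded_21_1 (flp_e L268530) L184731 L268530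
theorem L268535 : sm gj N31692 = N21749 := ded_42_2 (flp_e L184752) (flp_j L184734) L268530
theorem L268537 : sm gd N31692 = N31692 := ded_34_1 (flp_e L268530) (flp_d L184727) L127225 L184727 L268530
theorem L268538 : sm gf N31692 = N22181 := ded_40_2 (flp_e L188359) L129763 (flp_e L127253) (flp_f L184732) L268530
theorem L268540 : sm gi N21746 = N31693 := rfl
theorem L268542 : sm ga N31693 = N21790 := ded_18_1 (flp_i L185069) (flp_a L184729) L268540
theorem L268547 : sm gf N31693 = N21752 := ded_48_1 (flp_i L184778) (flp_f L184732) L268540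
theorem L268549 : sm gj N31693 = N21750 := ded_53_1 (flp_i L184760) (flp_j L184734) L268540
theorem L268551 : sm gb N21748 = N31694 := rfl
theorem L268553 : sm gf N31694 = N21753 := ded_22_2 (flp_b L184790) (flp_f L184750) L268551
theorem L268555 : sm gc N31694 = N31694 := ded_19_2 (flp_b L268551) (flp_c L184746) L127234 L184746 L268551
theorem L268556 : sm ge N21748 = N31695 := rfl
theorem L268558 : sm ga N31695 = N21792 := ded_13_1 (flp_e L185085) (flp_a L184748) L268556
theorem L268560 : sm gc N31695 = N21749 := ded_28_1 (flp_e L184752) L184746 L268556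
theorem L268562 : sm gf N31695 = N22184 := ded_40_2 (flp_e L188385) L129783 (flp_e L127269) (flp_f L184750) L268556
theorem L268564 : sm gi N21748 = N31696 := rfl
theorem L268566 : sm ga N31696 = N21793 := ded_18_1 (flp_i L185091) (flp_a L184748) L268564
theorem L268568 : sm gc N31696 = N21750 := ded_33_1 (flp_i L184760) L184746 L268564
theorem L268570 : sm gf N31696 = N21754 := ded_48_1 (flp_i L184797) (flp_f L184750) L268564
theorem L268572 : sm gi N21749 = N31697 := rfl
theorem L268574 : sm ga N31697 = N21794 := ded_18_1 (flp_i L185097) (flp_a L184754) L268572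
theorem L268578 : sm ge N31697 = N21750 := ded_44_1 (flp_i L184760) L184752 L268572
theorem L268580 : sm gf N31697 = N22186 := ded_48_1 (flp_i L188402) (flp_f L184758) L268572
theorem L268582 : sm gh N21750 = N31698 := rfl
theorem L268584 : sm ga N31698 = N21795 := ded_17_1 (flp_h L185106) (flp_a L184762) L268582
theorem L268589 : sm gb N21751 = N31699 := rfl
theorem L268591 : sm ge N31699 = N22188 := ded_21_2 (flp_b L188420) (flp_e L184773) L268589
theorem L268593 : sm gg N31699 = N31699 := ded_23_2 (flp_b L268589) L184775 L268589
theorem L268594 : sm gj N31699 = N21753 := ded_24_2 (flp_b L184790) (flp_j L184776) L268589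
theorem L268596 : sm gc N31699 = N31699 := ded_19_2 (flp_b L268589) (flp_c L184769) L127249 L184769 L268589
theorem L268597 : sm gi N21751 = N31700 := rfl
theorem L268599 : sm ga N31700 = N21797 := ded_18_1 (flp_i L185121) (flp_a L184771) L268597
theorem L268603 : sm ge N31700 = N22189 := ded_44_1 (flp_i L188427) (flp_e L184773) L268597
theorem L268606 : sm gj N31700 = N21754 := ded_53_1 (flp_i L184797) (flp_j L184776) L268597
theorem L268608 : sm gh N21752 = N31701 := rfl
theorem L268610 : sm ga N31701 = N21798 := ded_17_1 (flp_h L185130) (flp_a L184780) L268608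
theorem L268613 : sm ge N31701 = N22190 := ded_43_1 (flp_h L188437) (flp_e L184785) L268608
theorem L268618 : sm ga N21753 = N31702 := rfl
theorem L268620 : sm gc N31702 = N31702 := ded_11_2 (flp_a L268618) L184796 L268618
theorem L268621 : sm ge N31702 = N22191 := ded_13_2 (flp_a L188446) (flp_e L184792) L268618
theorem L268623 : sm gg N31702 = N21756 := ded_15_2 (flp_a L184816) (flp_g L184794) L268618
theorem L268625 : sm gb N31702 = N21799 := ded_10_2 (flp_a L185139) (flp_b L127505) (flp_a L127267) L184790 L268618
theorem L268627 : sm gi N21753 = N31703 := rfl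
theorem L268629 : sm gb N31703 = N21754 := ded_26_1 (flp_i L184797) L184790 L268627
theorem L268632 : sm ge N31703 = N22192 := ded_44_1 (flp_i L188454) (flp_e L184792) L268627
theorem L268636 : sm gh N21754 = N31704 := rfl
theorem L268638 : sm ga N31704 = N21801 := ded_17_1 (flp_h L185157) (flp_a L184799) L268636
theorem L268644 : sm gg N31704 = N21758 := ded_50_1 (flp_h L184832) (flp_g L184805) L268636
theorem L268646 : sm gi N21756 = N31705 := rfl
theorem L268648 : sm ga N31705 = N21757 := ded_18_1 (flp_i L184824) L184816 L268646
theorem L268650 : sm gb N31705 = N21802 := ded_26_1 (flp_i L185165) (flp_b L184822) L268646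
theorem L268653 : sm ge N31705 = N22194 := ded_44_1 (flp_i L188470) (flp_e L184819) L268646
theorem L268656 : sm gh N21757 = N31706 := rfl
theorem L268658 : sm gb N31706 = N21758 := ded_25_1 (flp_h L184832) (flp_b L184826) L268656
theorem L268661 : sm ge N31706 = N22195 := ded_43_1 (flp_h L188480) (flp_e L184829) L268656
theorem L268664 : sm gd N21758 = N31707 := rfl
theorem L268666 : sm ga N31707 = N21804 := ded_12_1 (flp_d L185183) (flp_a L184834) L268664
theorem L268669 : sm gg N21759 = N31708 := rfl
theorem L268673 : sm ge N31708 = N21761 := ded_41_1 (flp_g L184856) (flp_e L184845) L268669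
theorem L268675 : sm gh N21759 = N31709 := rfl
theorem L268677 : sm gb N31709 = N31709 := ded_25_1 (flp_h L268675) L184843 L268675
theorem L268678 : sm ge N31709 = N21762 := ded_43_1 (flp_h L184862) (flp_e L184845) L268675
theorem L268680 : sm gf N31709 = N23951 := ded_47_1 (flp_h L203613) (flp_f L184847) L268675
theorem L268682 : sm gj N31709 = N21760 := ded_52_1 (flp_h L184849) L184841 L268675
theorem L268684 : sm gd N21760 = N31710 := rfl
theorem L268686 : sm gb N31710 = N31710 := ded_20_1 (flp_d L268684) L184851 L268684
theorem L268687 : sm gf N31710 = N23952 := ded_35_2 (flp_d L203620) (flp_f L184854) L268684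
theorem L268689 : sm gh N31710 = N31710 := ded_38_2 (flp_d L268684) (flp_h L184849) L127310 L184849 L268684
theorem L268690 : sm gi N21760 = N31711 := rfl
theorem L268692 : sm gb N31711 = N31711 := ded_26_1 (flp_i L268690) L184851 L268690
theorem L268693 : sm ge N31711 = N21764 := ded_44_1 (flp_i L184876) (flp_e L184852) L268690
theorem L268695 : sm gf N31711 = N23953 := ded_48_1 (flp_i L203626) (flp_f L184854) L268690
theorem L268697 : sm gh N21761 = N31712 := rfl
theorem L268699 : sm gb N31712 = N31712 := ded_25_1 (flp_h L268697) L184858 L268697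
theorem L268700 : sm gf N31712 = N31712 := ded_47_1 (flp_h L268697) L184861 L268697
theorem L268701 : sm gg N31712 = N21762 := ded_50_1 (flp_h L184862) L184856 L268697
theorem L268703 : sm gd N21762 = N31713 := rfl
theorem L268705 : sm gb N31713 = N31713 := ded_20_1 (flp_d L268703) L184864 L268703
theorem L268706 : sm gf N31713 = N21765 := ded_35_2 (flp_d L184881) (flp_f L184865) L268703
theorem L268708 : sm gj N31713 = N21763 := ded_37_2 (flp_d L184869) (flp_j L184867) L268703
theorem L268710 : sm gh N31713 = N21773 := ded_38_2 (flp_d L184942) (flp_h L127368) (flp_d L127316) L184862 L268703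
theorem L268712 : sm gi N21762 = N31714 := rfl
theorem L268714 : sm gb N31714 = N31714 := ded_26_1 (flp_i L268712) L184864 L268712
theorem L268715 : sm gf N31714 = N21766 := ded_48_1 (flp_i L184890) (flp_f L184865) L268712
theorem L268717 : sm gj N31714 = N21764 := ded_53_1 (flp_i L184876) (flp_j L184867) L268712
theorem L268719 : sm gc N21763 = N31715 := rfl
theorem L268721 : sm gf N31715 = N21767 := ded_29_2 (flp_c L184898) (flp_f L184872) L268719
theorem L268723 : sm gh N31715 = N21775 := ded_32_2 (flp_c L184959) (flp_h L184874) L268719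
theorem L268725 : sm ge N21763 = N31716 := rfl
theorem L268727 : sm gb N31716 = N31716 := ded_21_1 (flp_e L268725) L184871 L268725
theorem L268728 : sm gh N31716 = N21776 := ded_43_2 (flp_e L184965) (flp_h L184874) L268725
theorem L268730 : sm gf N31716 = N31716 := ded_40_2 (flp_e L268725) L184872 L127338 (flp_f L184872) L268725
theorem L268731 : sm gi N21763 = N31717 := rfl
theorem L268733 : sm gb N31717 = N31717 := ded_26_1 (flp_i L268731) L184871 L268731
theorem L268734 : sm gd N31717 = N21764 := ded_39_1 (flp_i L184876) L184869 L268731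
theorem L268736 : sm gf N31717 = N21768 := ded_48_1 (flp_i L184905) (flp_f L184872) L268731
theorem L268738 : sm gc N21765 = N31718 := rfl
theorem L268740 : sm ge N31718 = N31718 := ded_28_2 (flp_c L268738) L184887 L268738
theorem L268741 : sm gg N31718 = N31718 := ded_30_2 (flp_c L268738) L184884 L268738
theorem L268742 : sm gj N31718 = N21767 := ded_31_2 (flp_c L184898) (flp_j L184885) L268738
theorem L268744 : sm gh N31718 = N21778 := ded_32_2 (flp_c L184977) (flp_h L184888) L268738
theorem L268746 : sm gi N21765 = N31719 := rfl
theorem L268748 : sm gb N31719 = N31719 := ded_26_1 (flp_i L268746) L184883 L268746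
theorem L268749 : sm gd N31719 = N21766 := ded_39_1 (flp_i L184890) L184881 L268746
theorem L268751 : sm ge N31719 = N31719 := ded_44_1 (flp_i L268746) L184887 L268746
theorem L268752 : sm gg N31719 = N31719 := ded_51_1 (flp_i L268746) L184884 L268746
theorem L268753 : sm gj N31719 = N21768 := ded_53_1 (flp_i L184905) (flp_j L184885) L268746
theorem L268755 : sm gb N21767 = N31720 := rfl
theorem L268757 : sm ge N31720 = N31720 := ded_21_2 (flp_b L268755) L184900 L268755
theorem L268758 : sm gg N31720 = N21769 := ded_23_2 (flp_b L184913) (flp_g L184901) L268755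
theorem L268760 : sm gh N31720 = N21780 := ded_25_2 (flp_b L184994) (flp_h L184903) L268755
theorem L268762 : sm gc N31720 = N31720 := ded_19_2 (flp_b L268755) (flp_c L184898) L127335 L184898 L268755
theorem L268763 : sm gi N21767 = N31721 := rfl
theorem L268765 : sm gc N31721 = N21768 := ded_33_1 (flp_i L184905) L184898 L268763
theorem L268767 : sm ge N31721 = N31721 := ded_44_1 (flp_i L268763) L184900 L268763
theorem L268768 : sm gg N31721 = N21770 := ded_51_1 (flp_i L184920) (flp_g L184901) L268763
theorem L268770 : sm gh N21768 = N31722 := rfl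
theorem L268778 : sm ga N21769 = N31723 := rfl
theorem L268780 : sm gc N31723 = N31723 := ded_11_2 (flp_a L268778) L184919 L268778
theorem L268781 : sm ge N31723 = N31723 := ded_13_2 (flp_a L268778) L184915 L268778
theorem L268782 : sm gj N31723 = N31723 := ded_16_2 (flp_a L268778) L184916 L268778
theorem L268783 : sm gh N31723 = N21783 := ded_17_2 (flp_a L185017) (flp_h L184917) L268778
theorem L268785 : sm gi N21769 = N31724 := rfl
theorem L268787 : sm gb N31724 = N21770 := ded_26_1 (flp_i L184920) L184913 L268785
theorem L268789 : sm gc N31724 = N31724 := ded_33_1 (flp_i L268785) L184919 L268785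
theorem L268790 : sm ge N31724 = N31724 := ded_44_1 (flp_i L268785) L184915 L268785
theorem L268791 : sm gj N31724 = N31724 := ded_53_1 (flp_i L268785) L184916 L268785
theorem L268792 : sm gh N21770 = N31725 := rfl
theorem L268798 : sm gi N31725 = N21785 := ded_54_2 (flp_h L185033) (flp_i L127430) (flp_h L127352) L184920 L268792
theorem L268800 : sm gd N21772 = N31726 := rfl
theorem L268802 : sm gb N31726 = N31726 := ded_20_1 (flp_d L268800) L184935 L268800
theorem L268803 : sm gf N31726 = N31726 := ded_35_2 (flp_d L268800) L184939 L268800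
theorem L268804 : sm gg N31726 = N21773 := ded_36_2 (flp_d L184942) (flp_g L184940) L268800
theorem L268806 : sm gi N21772 = N31727 := rfl
theorem L268815 : sm gc N21773 = N31728 := rfl
theorem L268817 : sm gf N31728 = N21778 := ded_29_2 (flp_c L184977) (flp_f L184945) L268815
theorem L268819 : sm gj N31728 = N21775 := ded_31_2 (flp_c L184959) (flp_j L184947) L268815
theorem L268821 : sm gd N31728 = N21788 := ded_27_2 (flp_c L185054) (flp_d L127451) (flp_c L127371) L184942 L268815
theorem L268823 : sm ge N21773 = N31729 := rfl
theorem L268825 : sm gb N31729 = N31729 := ded_21_1 (flp_e L268823) L184944 L268823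
theorem L268826 : sm gj N31729 = N21776 := ded_42_2 (flp_e L184965) (flp_j L184947) L268823
theorem L268828 : sm gd N31729 = N31729 := ded_34_1 (flp_e L268823) (flp_d L184942) L127373 L184942 L268823
theorem L268829 : sm gf N31729 = N31729 := ded_40_2 (flp_e L268823) L184945 L127397 (flp_f L184945) L268823
theorem L268830 : sm gi N21773 = N31730 := rfl
theorem L268835 : sm gf N31730 = N21779 := ded_48_1 (flp_i L184985) (flp_f L184945) L268830
theorem L268837 : sm gj N31730 = N21777 := ded_53_1 (flp_i L184970) (flp_j L184947) L268830
theorem L268839 : sm gb N21775 = N31731 := rfl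
theorem L268841 : sm gd N31731 = N21791 := ded_20_2 (flp_b L185079) (flp_d L184963) L268839
theorem L268843 : sm gf N31731 = N21780 := ded_22_2 (flp_b L184994) (flp_f L184961) L268839
theorem L268845 : sm gc N31731 = N31731 := ded_19_2 (flp_b L268839) (flp_c L184959) L127380 L184959 L268839
theorem L268846 : sm ge N21775 = N31732 := rfl
theorem L268848 : sm gc N31732 = N21776 := ded_28_1 (flp_e L184965) L184959 L268846
theorem L268850 : sm gf N31732 = N31732 := ded_40_2 (flp_e L268846) L184961 L127410 (flp_f L184961) L268846
theorem L268851 : sm gi N21775 = N31733 := rfl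
theorem L268855 : sm gd N31733 = N21793 := ded_39_1 (flp_i L185091) (flp_d L184963) L268851
theorem L268857 : sm gf N31733 = N21781 := ded_48_1 (flp_i L185002) (flp_f L184961) L268851
theorem L268859 : sm gi N21776 = N31734 := rfl
theorem L268863 : sm ge N31734 = N21777 := ded_44_1 (flp_i L184970) L184965 L268859
theorem L268866 : sm gh N21777 = N31735 := rfl
theorem L268871 : sm gb N21778 = N31736 := rfl
theorem L268873 : sm gd N31736 = N21796 := ded_20_2 (flp_b L185112) (flp_d L184983) L268871
theorem L268875 : sm ge N31736 = N31736 := ded_21_2 (flp_b L268871) L184979 L268871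
theorem L268876 : sm gg N31736 = N31736 := ded_23_2 (flp_b L268871) L184980 L268871
theorem L268877 : sm gj N31736 = N21780 := ded_24_2 (flp_b L184994) (flp_j L184981) L268871
theorem L268879 : sm gc N31736 = N31736 := ded_19_2 (flp_b L268871) (flp_c L184977) L127393 L184977 L268871
theorem L268880 : sm gi N21778 = N31737 := rfl
theorem L268882 : sm gc N31737 = N21779 := ded_33_1 (flp_i L184985) L184977 L268880
theorem L268884 : sm gd N31737 = N21797 := ded_39_1 (flp_i L185121) (flp_d L184983) L268880
theorem L268888 : sm gj N31737 = N21781 := ded_53_1 (flp_i L185002) (flp_j L184981) L268880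
theorem L268890 : sm gh N21779 = N31738 := rfl
theorem L268897 : sm ga N21780 = N31739 := rfl
theorem L268899 : sm gc N31739 = N31739 := ded_11_2 (flp_a L268897) L185001 L268897
theorem L268900 : sm gd N31739 = N21799 := ded_12_2 (flp_a L185139) (flp_d L184996) L268897
theorem L268902 : sm ge N31739 = N31739 := ded_13_2 (flp_a L268897) L184998 L268897
theorem L268903 : sm gg N31739 = N21783 := ded_15_2 (flp_a L185017) (flp_g L184999) L268897
theorem L268905 : sm gi N21780 = N31740 := rfl
theorem L268907 : sm gb N31740 = N21781 := ded_26_1 (flp_i L185002) L184994 L268905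
theorem L268910 : sm gd N31740 = N21800 := ded_39_1 (flp_i L185147) (flp_d L184996) L268905
theorem L268915 : sm gh N21781 = N31741 := rfl
theorem L268920 : sm gg N31741 = N21785 := ded_50_1 (flp_h L185033) (flp_g L185009) L268915
theorem L268922 : sm gi N21783 = N31742 := rfl
theorem L268931 : sm gh N21784 = N31743 := rfl
theorem L268933 : sm gb N31743 = N21785 := ded_25_1 (flp_h L185033) (flp_b L185026) L268931
theorem L268938 : sm gd N21785 = N31744 := rfl
theorem L268941 : sm gh N31744 = N21804 := ded_38_2 (flp_d L185183) (flp_h L127545) (flp_d L127434) L185033 L268938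
theorem L268943 : sm gc N21786 = N31745 := rfl
theorem L268945 : sm gf N31745 = N31745 := ded_29_2 (flp_c L268943) L185043 L268943
theorem L268946 : sm gg N31745 = N21788 := ded_30_2 (flp_c L185054) (flp_g L185044) L268943
theorem L268948 : sm ge N21786 = N31746 := rfl
theorem L268955 : sm gi N21786 = N31747 := rfl
theorem L268957 : sm gb N31747 = N21807 := ded_26_1 (flp_i L185199) (flp_b L185041) L268955
theorem L268962 : sm gg N31747 = N21790 := ded_51_1 (flp_i L185069) (flp_g L185044) L268955
theorem L268964 : sm gb N21788 = N31748 := rfl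
theorem L268966 : sm gf N31748 = N21796 := ded_22_2 (flp_b L185112) (flp_f L185056) L268964
theorem L268968 : sm gj N31748 = N21791 := ded_24_2 (flp_b L185079) (flp_j L185058) L268964
theorem L268970 : sm gc N31748 = N21808 := ded_19_2 (flp_b L185207) (flp_c L127566) (flp_b L127453) L185054 L268964
theorem L268972 : sm ge N21788 = N31749 := rfl
theorem L268974 : sm gc N31749 = N21789 := ded_28_1 (flp_e L185060) L185054 L268972
theorem L268976 : sm gj N31749 = N21792 := ded_42_2 (flp_e L185085) (flp_j L185058) L268972
theorem L268978 : sm gf N31749 = N22201 := ded_40_2 (flp_e L188529) L129890 (flp_e L127489) (flp_f L185056) L268972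
theorem L268980 : sm gi N21788 = N31750 := rfl
theorem L268982 : sm gc N31750 = N21790 := ded_33_1 (flp_i L185069) L185054 L268980
theorem L268984 : sm gf N31750 = N21797 := ded_48_1 (flp_i L185121) (flp_f L185056) L268980
theorem L268986 : sm gj N31750 = N21793 := ded_53_1 (flp_i L185091) (flp_j L185058) L268980
theorem L268988 : sm gi N21789 = N31751 := rfl
theorem L268990 : sm gb N31751 = N21811 := ded_26_1 (flp_i L185233) (flp_b L185062) L268988
theorem L268993 : sm ge N31751 = N21790 := ded_44_1 (flp_i L185069) L185060 L268988
theorem L268997 : sm gj N31751 = N21794 := ded_53_1 (flp_i L185097) (flp_j L185064) L268988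
theorem L268999 : sm gh N21790 = N31752 := rfl
theorem L269001 : sm gb N31752 = N21812 := ded_25_1 (flp_h L185243) (flp_b L185071) L268999
theorem L269005 : sm gj N31752 = N21795 := ded_52_1 (flp_h L185106) (flp_j L185077) L268999
theorem L269007 : sm ga N21791 = N31753 := rfl
theorem L269009 : sm gc N31753 = N21813 := ded_11_2 (flp_a L185250) (flp_c L185083) L269007
theorem L269011 : sm gf N31753 = N21799 := ded_14_2 (flp_a L185139) (flp_f L185081) L269007
theorem L269013 : sm ge N21791 = N31754 := rfl
theorem L269015 : sm gb N31754 = N21792 := ded_21_1 (flp_e L185085) L185079 L269013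
theorem L269019 : sm gf N31754 = N22206 := ded_40_2 (flp_e L188570) L129915 (flp_e L127507) (flp_f L185081) L269013
theorem L269021 : sm gi N21791 = N31755 := rfl
theorem L269023 : sm gb N31755 = N21793 := ded_26_1 (flp_i L185091) L185079 L269021
theorem L269027 : sm gf N31755 = N21800 := ded_48_1 (flp_i L185147) (flp_f L185081) L269021
theorem L269029 : sm gd N21792 = N31756 := rfl
theorem L269031 : sm gf N31756 = N22208 := ded_35_2 (flp_d L188587) (flp_f L185089) L269029
theorem L269033 : sm gc N31756 = N31756 := ded_27_1 (flp_d L269029) L185087 L127476 (flp_c L185087) L269029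
theorem L269034 : sm gi N21792 = N31757 := rfl
theorem L269038 : sm ge N31757 = N21793 := ded_44_1 (flp_i L185091) L185085 L269034
theorem L269040 : sm gf N31757 = N22209 := ded_48_1 (flp_i L188592) (flp_f L185089) L269034
theorem L269042 : sm gh N21793 = N31758 := rfl
theorem L269044 : sm gc N31758 = N21795 := ded_32_1 (flp_h L185106) (flp_c L185093) L269042
theorem L269046 : sm gf N31758 = N21801 := ded_47_1 (flp_h L185157) (flp_f L185095) L269042
theorem L269048 : sm gh N21794 = N31759 := rfl
theorem L269050 : sm gb N31759 = N21819 := ded_25_1 (flp_h L185292) (flp_b L185099) L269048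
theorem L269052 : sm ge N31759 = N21795 := ded_43_1 (flp_h L185106) (flp_e L185102) L269048
theorem L269056 : sm ga N21796 = N31760 := rfl
theorem L269058 : sm gc N31760 = N21820 := ded_11_2 (flp_a L185299) (flp_c L185119) L269056
theorem L269062 : sm gg N31760 = N31760 := ded_15_2 (flp_a L269056) L185116 L269056
theorem L269063 : sm gj N31760 = N21799 := ded_16_2 (flp_a L185139) (flp_j L185117) L269056
theorem L269065 : sm gi N21796 = N31761 := rfl
theorem L269067 : sm gb N31761 = N21797 := ded_26_1 (flp_i L185121) L185112 L269065
theorem L269069 : sm gc N31761 = N21821 := ded_33_1 (flp_i L185308) (flp_c L185119) L269065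
theorem L269074 : sm gj N31761 = N21800 := ded_53_1 (flp_i L185147) (flp_j L185117) L269065
theorem L269076 : sm gh N21797 = N31762 := rfl
theorem L269078 : sm gc N31762 = N21798 := ded_32_1 (flp_h L185130) (flp_c L185123) L269076
theorem L269080 : sm ge N31762 = N22214 := ded_43_1 (flp_h L188631) (flp_e L185125) L269076
theorem L269082 : sm gg N31762 = N31762 := ded_50_1 (flp_h L269076) L185127 L269076
theorem L269083 : sm gj N31762 = N21801 := ded_52_1 (flp_h L185157) (flp_j L185128) L269076
theorem L269085 : sm gi N21799 = N31763 := rfl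
theorem L269087 : sm ga N31763 = N21800 := ded_18_1 (flp_i L185147) L185139 L269085
theorem L269089 : sm gc N31763 = N21823 := ded_33_1 (flp_i L185328) (flp_c L185141) L269085
theorem L269091 : sm ge N31763 = N22215 := ded_44_1 (flp_i L188638) (flp_e L185143) L269085
theorem L269093 : sm gg N31763 = N21802 := ded_51_1 (flp_i L185165) (flp_g L185145) L269085
theorem L269095 : sm gh N21800 = N31764 := rfl
theorem L269097 : sm gb N31764 = N21801 := ded_25_1 (flp_h L185157) (flp_b L185149) L269095
theorem L269099 : sm gc N31764 = N21824 := ded_32_1 (flp_h L185338) (flp_c L185151) L269095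
theorem L269101 : sm ge N31764 = N22216 := ded_43_1 (flp_h L188647) (flp_e L185153) L269095
theorem L269103 : sm gg N31764 = N21803 := ded_50_1 (flp_h L185174) (flp_g L185155) L269095
theorem L269105 : sm gd N21801 = N31765 := rfl
theorem L269107 : sm gg N31765 = N21804 := ded_36_2 (flp_d L185183) (flp_g L185163) L269105
theorem L269109 : sm gh N21802 = N31766 := rfl
theorem L269111 : sm ga N31766 = N21803 := ded_17_1 (flp_h L185174) (flp_a L185167) L269109
theorem L269113 : sm gc N31766 = N21826 := ded_32_1 (flp_h L185352) (flp_c L185169) L269109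
theorem L269115 : sm ge N31766 = N22218 := ded_43_1 (flp_h L188661) (flp_e L185171) L269109
theorem L269117 : sm gj N31766 = N31766 := ded_52_1 (flp_h L269109) L185173 L269109
theorem L269118 : sm gd N21803 = N31767 := rfl
theorem L269120 : sm gb N31767 = N21804 := ded_20_1 (flp_d L185183) (flp_b L185176) L269118
theorem L269122 : sm gj N31767 = N31767 := ded_37_2 (flp_d L269118) L185182 L269118
theorem L269123 : sm ge N21804 = N31768 := rfl
theorem L269125 : sm gj N31768 = N31768 := ded_42_2 (flp_e L269123) L185185 L269123
theorem L269126 : sm gd N31768 = N22220 := ded_34_1 (flp_e L188676) (flp_d L130012) (flp_e L127549) L185183 L269123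
theorem L269128 : sm gb N21805 = N31769 := rfl
theorem L269150 : sm gf N21806 = N31772 := rfl
theorem L269155 : sm gg N31772 = N22224 := ded_45_2 (flp_f L188708) L130030 (flp_f L127580) (flp_g L185196) L269150
theorem L269157 : sm gi N21806 = N31773 := rfl
theorem L269161 : sm ge N31773 = N21807 := ded_44_1 (flp_i L185199) L185193 L269157
theorem L269163 : sm gg N31773 = N21811 := ded_51_1 (flp_i L185233) (flp_g L185196) L269157
theorem L269165 : sm gh N21807 = N31774 := rfl
theorem L269171 : sm ga N21808 = N31775 := rfl
theorem L269174 : sm gf N31775 = N21820 := ded_14_2 (flp_a L185299) (flp_f L185210) L269171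
theorem L269176 : sm gj N31775 = N21813 := ded_16_2 (flp_a L185250) (flp_j L185212) L269171
theorem L269179 : sm ge N21808 = N31776 := rfl
theorem L269183 : sm gj N31776 = N21814 := ded_42_2 (flp_e L185256) (flp_j L185212) L269179
theorem L269185 : sm gf N31776 = N22228 := ded_40_2 (flp_e L188740) L130047 (flp_e L127627) (flp_f L185210) L269179
theorem L269234 : sm ge N21813 = N31782 := rfl
theorem L269239 : sm gf N31782 = N22234 := ded_40_2 (flp_e L188789) L130089 (flp_e L127654) (flp_f L185253) L269234
theorem L269241 : sm gi N21813 = N31783 := rfl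
theorem L269247 : sm gf N31783 = N21823 := ded_48_1 (flp_i L185328) (flp_f L185253) L269241
theorem L269264 : sm gh N21815 = N31786 := rfl
theorem L269266 : sm gb N31786 = N21818 := ded_25_1 (flp_h L185285) (flp_b L185264) L269264
theorem L269268 : sm gf N31786 = N21824 := ded_47_1 (flp_h L185338) (flp_f L185267) L269264
theorem L269270 : sm gh N21816 = N31787 := rfl
theorem L269275 : sm gf N31787 = N22239 := ded_47_1 (flp_h L188826) (flp_f L185272) L269270
theorem L269295 : sm gd N21818 = N31790 := rfl
theorem L269298 : sm gf N31790 = N21825 := ded_35_2 (flp_d L185346) (flp_f L185290) L269295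
theorem L269301 : sm gd N21819 = N31791 := rfl
theorem L269307 : sm gi N21820 = N31792 := rfl
theorem L269316 : sm gj N31792 = N21823 := ded_53_1 (flp_i L185328) (flp_j L185305) L269307
theorem L269334 : sm gh N21823 = N31795 := rfl
theorem L269336 : sm ga N31795 = N21824 := ded_17_1 (flp_h L185338) (flp_a L185330) L269334
theorem L269338 : sm gb N31795 = N31795 := ded_25_1 (flp_h L269334) L185332 L269334
theorem L269339 : sm ge N31795 = N22247 := ded_43_1 (flp_h L188891) (flp_e L185334) L269334
theorem L269341 : sm gg N31795 = N21826 := ded_50_1 (flp_h L185352) (flp_g L185336) L269334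
theorem L269343 : sm gd N21824 = N31796 := rfl
theorem L269345 : sm gb N31796 = N21825 := ded_20_1 (flp_d L185346) (flp_b L185340) L269343
theorem L269347 : sm gg N31796 = N21827 := ded_36_2 (flp_d L185360) (flp_g L185344) L269343
theorem L269349 : sm gh N31796 = N31796 := ded_38_2 (flp_d L269343) (flp_h L185338) L127663 L185338 L269343
theorem L269350 : sm ge N21825 = N31797 := rfl
theorem L269353 : sm gg N31797 = N21828 := ded_41_2 (flp_e L185366) (flp_g L185349) L269350
theorem L269356 : sm gd N31797 = N22249 := ded_34_1 (flp_e L188906) (flp_d L130176) (flp_e L127673) L185346 L269350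
theorem L269358 : sm gd N21826 = N31798 := rfl
theorem L269360 : sm ga N31798 = N21827 := ded_12_1 (flp_d L185360) (flp_a L185354) L269358
theorem L269365 : sm gc N21827 = N31799 := rfl
theorem L269369 : sm ge N21827 = N31800 := rfl
theorem L269371 : sm gb N31800 = N21828 := ded_21_1 (flp_e L185366) (flp_b L185362) L269369
theorem L269375 : sm gd N31800 = N22252 := ded_34_1 (flp_e L188930) (flp_d L130191) (flp_e L127690) L185360 L269369
theorem L269377 : sm gf N21828 = N31801 := rfl
theorem L269380 : sm gd N31801 = N22253 := ded_35_1 (flp_f L188937) (flp_d L185371) L269377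
theorem L269395 : sm gg N21829 = N31803 := rfl
theorem L269400 : sm gd N31803 = N21830 := ded_36_1 (flp_g L185384) L185373 L269395
theorem L269435 : sm gh N21830 = N31807 := rfl
theorem L269443 : sm gg N31807 = N21831 := ded_50_1 (flp_h L185393) L185384 L269435
theorem L269445 : sm gd N21831 = N31808 := rfl
theorem L269448 : sm gb N31808 = N21844 := ded_20_1 (flp_d L185527) (flp_b L185396) L269445
theorem L269453 : sm gi N21831 = N31809 := rfl
theorem L269462 : sm gj N31809 = N21917 := ded_53_1 (flp_i L186167) (flp_j L185402) L269453
theorem L269476 : sm gd N21833 = N31811 := rfl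
theorem L269479 : sm gb N31811 = N21847 := ded_20_1 (flp_d L185557) (flp_b L185419) L269476
theorem L269482 : sm gg N31811 = N21834 := ded_36_2 (flp_d L185425) (flp_g L185423) L269476
theorem L269484 : sm gh N31811 = N23965 := ded_38_2 (flp_d L203745) (flp_h L140399) (flp_d L127714) L185416 L269476
theorem L269486 : sm gi N21833 = N31812 := rfl
theorem L269489 : sm gb N31812 = N21848 := ded_26_1 (flp_i L185566) (flp_b L185419) L269486
theorem L269515 : sm gi N21834 = N31815 := rfl
theorem L269518 : sm gb N31815 = N21850 := ded_26_1 (flp_i L185584) (flp_b L185428) L269515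
theorem L269520 : sm gd N31815 = N21835 := ded_39_1 (flp_i L185436) L185425 L269515
theorem L269524 : sm gj N31815 = N21923 := ded_53_1 (flp_i L186224) (flp_j L185432) L269515
theorem L269545 : sm gf N21837 = N31818 := rfl
theorem L269553 : sm gh N31818 = N23972 := ded_47_2 (flp_f L203809) (flp_h L185464) L269545
theorem L269555 : sm gi N21837 = N31819 := rfl
theorem L269564 : sm gj N31819 = N21927 := ded_53_1 (flp_i L186258) (flp_j L185462) L269555
theorem L269665 : sm gi N21843 = N31830 := rfl
theorem L269667 : sm ga N31830 = N21871 := ded_18_1 (flp_i L185779) (flp_a L185519) L269665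
theorem L269669 : sm gc N31830 = N21858 := ded_33_1 (flp_i L185661) (flp_c L185521) L269665
theorem L269671 : sm ge N31830 = N21848 := ded_44_1 (flp_i L185566) (flp_e L185523) L269665
theorem L269673 : sm gg N31830 = N21845 := ded_51_1 (flp_i L185534) (flp_g L185525) L269665
theorem L269676 : sm gc N21844 = N31831 := rfl
theorem L269678 : sm ga N31831 = N21872 := ded_11_1 (flp_c L185789) (flp_a L185529) L269676
theorem L269681 : sm gj N31831 = N21939 := ded_31_2 (flp_c L186372) (flp_j L185532) L269676
theorem L269683 : sm gd N31831 = N21859 := ded_27_2 (flp_c L185671) (flp_d L127870) (flp_c L127773) L185527 L269676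
theorem L269685 : sm ge N21844 = N31832 := rfl
theorem L269687 : sm ga N31832 = N21873 := ded_13_1 (flp_e L185796) (flp_a L185529) L269685
theorem L269691 : sm gd N31832 = N21849 := ded_34_1 (flp_e L185576) (flp_d L127801) (flp_e L127775) L185527 L269685
theorem L269693 : sm gi N21844 = N31833 := rfl
theorem L269695 : sm ga N31833 = N21874 := ded_18_1 (flp_i L185803) (flp_a L185529) L269693
theorem L269700 : sm gj N31833 = N21941 := ded_53_1 (flp_i L186385) (flp_j L185532) L269693
theorem L269713 : sm gi N21846 = N31835 := rfl
theorem L269722 : sm gj N31835 = N21848 := ded_53_1 (flp_i L185566) (flp_j L185555) L269713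
theorem L269733 : sm gi N21847 = N31837 := rfl
theorem L269735 : sm ga N31837 = N21878 := ded_18_1 (flp_i L185839) (flp_a L185559) L269733
theorem L269737 : sm gd N31837 = N21848 := ded_39_1 (flp_i L185566) L185557 L269733
theorem L269742 : sm gf N21849 = N31838 := rfl
theorem L269744 : sm ga N31838 = N21879 := ded_14_1 (flp_f L185847) (flp_a L185578) L269742
theorem L269752 : sm gi N21849 = N31839 := rfl
theorem L269754 : sm ga N31839 = N21880 := ded_18_1 (flp_i L185856) (flp_a L185578) L269752
theorem L269758 : sm gj N31839 = N21947 := ded_53_1 (flp_i L186439) (flp_j L185580) L269752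
theorem L269771 : sm gg N21851 = N31841 := rfl
theorem L269773 : sm ga N31841 = N21882 := ded_15_1 (flp_g L185873) (flp_a L185596) L269771
theorem L269779 : sm gi N21851 = N31842 := rfl
theorem L269781 : sm ga N31842 = N21883 := ded_18_1 (flp_i L185880) (flp_a L185596) L269779
theorem L269786 : sm gj N31842 = N21950 := ded_53_1 (flp_i L186463) (flp_j L185599) L269779
theorem L269820 : sm gd N21855 = N31846 := rfl
theorem L269822 : sm ga N31846 = N21887 := ded_12_1 (flp_d L185917) (flp_a L185635) L269820
theorem L269824 : sm gb N31846 = N31846 := ded_20_1 (flp_d L269820) L185637 L269820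
theorem L269825 : sm gf N31846 = N21857 := ded_35_2 (flp_d L185653) (flp_f L185639) L269820
theorem L269829 : sm gi N21855 = N31847 := rfl
theorem L269831 : sm ga N31847 = N21888 := ded_18_1 (flp_i L185925) (flp_a L185635) L269829
theorem L269835 : sm gf N31847 = N21858 := ded_48_1 (flp_i L185661) (flp_f L185639) L269829
theorem L269839 : sm gd N21856 = N31848 := rfl
theorem L269841 : sm ga N31848 = N21889 := ded_12_1 (flp_d L185934) (flp_a L185644) L269839
theorem L269844 : sm gg N31848 = N21956 := ded_36_2 (flp_d L186521) (flp_g L185649) L269839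
theorem L269846 : sm gj N31848 = N21857 := ded_37_2 (flp_d L185653) (flp_j L185651) L269839
theorem L269849 : sm gi N21856 = N31849 := rfl
theorem L269851 : sm ga N31849 = N21890 := ded_18_1 (flp_i L185943) (flp_a L185644) L269849
theorem L269854 : sm ge N31849 = N21861 := ded_44_1 (flp_i L185689) (flp_e L185647) L269849
theorem L269856 : sm gg N31849 = N21957 := ded_51_1 (flp_i L186529) (flp_g L185649) L269849
theorem L269858 : sm gj N31849 = N21858 := ded_53_1 (flp_i L185661) (flp_j L185651) L269849
theorem L269861 : sm gc N21857 = N31850 := rfl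
theorem L269863 : sm ga N31850 = N21891 := ded_11_1 (flp_c L185954) (flp_a L185655) L269861
theorem L269865 : sm gg N31850 = N21859 := ded_30_2 (flp_c L185671) (flp_g L185658) L269861
theorem L269868 : sm gi N21857 = N31851 := rfl
theorem L269870 : sm ga N31851 = N21892 := ded_18_1 (flp_i L185959) (flp_a L185655) L269868
theorem L269872 : sm gb N31851 = N31851 := ded_26_1 (flp_i L269868) L185657 L269868
theorem L269873 : sm gd N31851 = N21858 := ded_39_1 (flp_i L185661) L185653 L269868
theorem L269875 : sm gg N31851 = N21860 := ded_51_1 (flp_i L185679) (flp_g L185658) L269868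
theorem L269877 : sm gb N21859 = N31852 := rfl
theorem L269880 : sm gj N31852 = N21960 := ded_24_2 (flp_b L186555) (flp_j L185676) L269877
theorem L269884 : sm gi N21859 = N31853 := rfl
theorem L269886 : sm ga N31853 = N21894 := ded_18_1 (flp_i L185975) (flp_a L185673) L269884
theorem L269888 : sm gc N31853 = N21860 := ded_33_1 (flp_i L185679) L185671 L269884
theorem L269890 : sm gf N31853 = N31853 := ded_48_1 (flp_i L269884) L185675 L269884
theorem L269891 : sm gj N31853 = N21961 := ded_53_1 (flp_i L186560) (flp_j L185676) L269884
theorem L269893 : sm gh N21860 = N31854 := rfl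
theorem L269895 : sm ga N31854 = N21895 := ded_17_1 (flp_h L185982) (flp_a L185681) L269893
theorem L269897 : sm gb N31854 = N31854 := ded_25_1 (flp_h L269893) L185683 L269893
theorem L269898 : sm gf N31854 = N31854 := ded_47_1 (flp_h L269893) L185686 L269893
theorem L269899 : sm gj N31854 = N21962 := ded_52_1 (flp_h L186567) (flp_j L185687) L269893
theorem L269901 : sm gd N31854 = N31854 := ded_38_1 (flp_h L269893) L185684 L127889 (flp_d L185684) L269893
theorem L269902 : sm gi N31854 = N31854 := ded_54_2 (flp_h L269893) (flp_i L185679) L127878 L185679 L269893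
theorem L269928 : sm gh N21863 = N31858 := rfl
theorem L269936 : sm gj N31858 = N21864 := ded_52_1 (flp_h L185719) L185708 L269928
theorem L269938 : sm gd N21864 = N31859 := rfl
theorem L269941 : sm gg N31859 = N21865 := ded_36_2 (flp_d L185727) (flp_g L185725) L269938
theorem L269954 : sm gc N21865 = N31861 := rfl
theorem L269957 : sm gj N31861 = N21968 := ded_31_2 (flp_c L186617) (flp_j L185731) L269954
theorem L269959 : sm gh N31861 = N21872 := ded_32_2 (flp_c L185789) (flp_h L185733) L269954
theorem L269962 : sm ge N21865 = N31862 := rfl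
theorem L269965 : sm gj N31862 = N21969 := ded_42_2 (flp_e L186623) (flp_j L185731) L269962
theorem L269967 : sm gh N31862 = N21873 := ded_43_2 (flp_e L185796) (flp_h L185733) L269962
theorem L269971 : sm gi N21865 = N31863 := rfl
theorem L269977 : sm gj N31863 = N21970 := ded_53_1 (flp_i L186630) (flp_j L185731) L269971
theorem L270005 : sm gi N21868 = N31867 := rfl
theorem L270008 : sm gc N31867 = N21888 := ded_33_1 (flp_i L185925) (flp_c L185757) L270005
theorem L270011 : sm gf N31867 = N21871 := ded_48_1 (flp_i L185779) (flp_f L185760) L270005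
theorem L270022 : sm gi N21869 = N31869 := rfl
theorem L270027 : sm ge N31869 = N21876 := ded_44_1 (flp_i L185821) (flp_e L185768) L270022
theorem L270029 : sm gg N31869 = N21976 := ded_51_1 (flp_i L186678) (flp_g L185770) L270022
theorem L270031 : sm gj N31869 = N21871 := ded_53_1 (flp_i L185779) (flp_j L185772) L270022
theorem L270034 : sm gc N21870 = N31870 := rfl
theorem L270036 : sm gg N31870 = N21872 := ded_30_2 (flp_c L185789) (flp_g L185777) L270034
theorem L270038 : sm gd N31870 = N21891 := ded_27_2 (flp_c L185954) (flp_d L128067) (flp_c L127948) L185774 L270034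
theorem L270040 : sm ge N21870 = N31871 := rfl
theorem L270043 : sm gg N31871 = N21873 := ded_41_2 (flp_e L185796) (flp_g L185777) L270040
theorem L270047 : sm gi N21870 = N31872 := rfl
theorem L270050 : sm gd N31872 = N21871 := ded_39_1 (flp_i L185779) L185774 L270047
theorem L270052 : sm gg N31872 = N21874 := ded_51_1 (flp_i L185803) (flp_g L185777) L270047
theorem L270054 : sm gb N21872 = N31873 := rfl
theorem L270056 : sm gd N31873 = N21893 := ded_20_2 (flp_b L185967) (flp_d L185794) L270054
theorem L270058 : sm gf N31873 = N31873 := ded_22_2 (flp_b L270054) L185791 L270054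
theorem L270059 : sm gj N31873 = N21980 := ded_24_2 (flp_b L186708) (flp_j L185792) L270054
theorem L270061 : sm gc N31873 = N31873 := ded_19_2 (flp_b L270054) (flp_c L185789) L127956 L185789 L270054
theorem L270062 : sm ge N21872 = N31874 := rfl
theorem L270064 : sm gc N31874 = N21873 := ded_28_1 (flp_e L185796) L185789 L270062
theorem L270066 : sm gj N31874 = N21981 := ded_42_2 (flp_e L186714) (flp_j L185792) L270062
theorem L270068 : sm gi N21872 = N31875 := rfl
theorem L270070 : sm gc N31875 = N21874 := ded_33_1 (flp_i L185803) L185789 L270068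
theorem L270072 : sm gd N31875 = N21894 := ded_39_1 (flp_i L185975) (flp_d L185794) L270068
theorem L270074 : sm gf N31875 = N31875 := ded_48_1 (flp_i L270068) L185791 L270068
theorem L270075 : sm gj N31875 = N21982 := ded_53_1 (flp_i L186718) (flp_j L185792) L270068
theorem L270077 : sm gf N21873 = N31876 := rfl
theorem L270079 : sm gb N31876 = N31876 := ded_22_1 (flp_f L270077) L185798 L270077
theorem L270080 : sm gd N31876 = N21879 := ded_35_1 (flp_f L185847) (flp_d L185801) L270077
theorem L270082 : sm gj N31876 = N21983 := ded_46_2 (flp_f L186725) (flp_j L185799) L270077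
theorem L270084 : sm ge N31876 = N31876 := ded_40_1 (flp_f L270077) (flp_e L185796) L127957 L185796 L270077
theorem L270085 : sm gi N21873 = N31877 := rfl
theorem L270087 : sm gb N31877 = N31877 := ded_26_1 (flp_i L270085) L185798 L270085
theorem L270088 : sm gd N31877 = N21880 := ded_39_1 (flp_i L185856) (flp_d L185801) L270085
theorem L270090 : sm ge N31877 = N21874 := ded_44_1 (flp_i L185803) L185796 L270085
theorem L270092 : sm gj N31877 = N21984 := ded_53_1 (flp_i L186731) (flp_j L185799) L270085
theorem L270094 : sm gh N21874 = N31878 := rfl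
theorem L270096 : sm gb N31878 = N31878 := ded_25_1 (flp_h L270094) L185805 L270094
theorem L270097 : sm gf N31878 = N31878 := ded_47_1 (flp_h L270094) L185808 L270094
theorem L270098 : sm gj N31878 = N21985 := ded_52_1 (flp_h L186738) (flp_j L185809) L270094
theorem L270100 : sm gd N31878 = N31878 := ded_38_1 (flp_h L270094) L185806 L127970 (flp_d L185806) L270094
theorem L270101 : sm ge N21875 = N31879 := rfl
theorem L270104 : sm gg N31879 = N21986 := ded_41_2 (flp_e L186743) (flp_g L185815) L270101
theorem L270106 : sm gj N31879 = N21877 := ded_42_2 (flp_e L185832) (flp_j L185817) L270101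
theorem L270110 : sm gi N21875 = N31880 := rfl
theorem L270112 : sm gb N31880 = N31880 := ded_26_1 (flp_i L270110) L185813 L270110
theorem L270113 : sm gd N31880 = N21876 := ded_39_1 (flp_i L185821) L185811 L270110
theorem L270115 : sm gf N31880 = N31880 := ded_48_1 (flp_i L270110) L185814 L270110
theorem L270116 : sm gg N31880 = N21987 := ded_51_1 (flp_i L186750) (flp_g L185815) L270110
theorem L270118 : sm gj N31880 = N21878 := ded_53_1 (flp_i L185839) (flp_j L185817) L270110
theorem L270120 : sm gf N21877 = N31881 := rfl
theorem L270126 : sm gi N21877 = N31882 := rfl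
theorem L270128 : sm gb N31882 = N31882 := ded_26_1 (flp_i L270126) L185834 L270126
theorem L270129 : sm ge N31882 = N21878 := ded_44_1 (flp_i L185839) L185832 L270126
theorem L270131 : sm gg N31882 = N21880 := ded_51_1 (flp_i L185856) (flp_g L185835) L270126
theorem L270133 : sm gh N21878 = N31883 := rfl
theorem L270140 : sm gi N31883 = N24035 := ded_54_2 (flp_h L204379) (flp_i L140822) (flp_h L127987) L185839 L270133
theorem L270142 : sm gg N21879 = N31884 := rfl
theorem L270144 : sm gb N31884 = N31884 := ded_23_1 (flp_g L270142) L185849 L270142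
theorem L270145 : sm ge N31884 = N21882 := ded_41_1 (flp_g L185873) (flp_e L185854) L270142
theorem L270147 : sm gh N31884 = N24036 := ded_50_2 (flp_g L204386) (flp_h L185852) L270142
theorem L270149 : sm gi N21879 = N31885 := rfl
theorem L270151 : sm gb N31885 = N31885 := ded_26_1 (flp_i L270149) L185849 L270149
theorem L270152 : sm ge N31885 = N21883 := ded_44_1 (flp_i L185880) (flp_e L185854) L270149
theorem L270154 : sm gf N31885 = N21880 := ded_48_1 (flp_i L185856) L185847 L270149
theorem L270156 : sm gj N31885 = N21992 := ded_53_1 (flp_i L186790) (flp_j L185850) L270149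
theorem L270167 : sm gj N21882 = N31887 := rfl
theorem L270169 : sm gb N31887 = N31887 := ded_24_1 (flp_j L270167) L185875 L270167
theorem L270170 : sm gd N31887 = N31887 := ded_37_1 (flp_j L270167) L185876 L270167
theorem L270171 : sm gf N31887 = N31887 := ded_46_1 (flp_j L270167) L185879 L270167
theorem L270172 : sm gh N31887 = N24039 := ded_52_2 (flp_j L204407) (flp_h L185877) L270167
theorem L270174 : sm gg N31887 = N21994 := ded_49_1 (flp_j L186804) (flp_g L128652) (flp_j L128018) L185873 L270167
theorem L270176 : sm gi N21882 = N31888 := rfl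
theorem L270181 : sm gg N31888 = N21883 := ded_51_1 (flp_i L185880) L185873 L270176
theorem L270202 : sm gh N21885 = N31891 := rfl
theorem L270204 : sm gb N31891 = N21896 := ded_25_1 (flp_h L185991) (flp_b L185900) L270202
theorem L270207 : sm gf N31891 = N21998 := ded_47_1 (flp_h L186836) (flp_f L185905) L270202
theorem L270212 : sm gd N21886 = N31892 := rfl
theorem L270214 : sm gb N31892 = N21897 := ded_20_1 (flp_d L186001) (flp_b L185910) L270212
theorem L270221 : sm gi N21886 = N31893 := rfl
theorem L270223 : sm gb N31893 = N21898 := ded_26_1 (flp_i L186009) (flp_b L185910) L270221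
theorem L270228 : sm gj N31893 = N21888 := ded_53_1 (flp_i L185925) (flp_j L185915) L270221
theorem L270231 : sm gc N21887 = N31894 := rfl
theorem L270233 : sm gf N31894 = N21891 := ded_29_2 (flp_c L185954) (flp_f L185921) L270231
theorem L270237 : sm ge N21887 = N31895 := rfl
theorem L270239 : sm gb N31895 = N21900 := ded_21_1 (flp_e L186027) (flp_b L185919) L270237
theorem L270241 : sm gg N31895 = N31895 := ded_41_2 (flp_e L270237) L185923 L270237
theorem L270242 : sm gh N31895 = N31895 := ded_43_2 (flp_e L270237) L185924 L270237
theorem L270243 : sm gd N31895 = N31895 := ded_34_1 (flp_e L270237) (flp_d L185917) L128053 L185917 L270237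
theorem L270244 : sm gi N21887 = N31896 := rfl
theorem L270246 : sm gb N31896 = N21901 := ded_26_1 (flp_i L186033) (flp_b L185919) L270244
theorem L270248 : sm gd N31896 = N21888 := ded_39_1 (flp_i L185925) L185917 L270244
theorem L270250 : sm gf N31896 = N21892 := ded_48_1 (flp_i L185959) (flp_f L185921) L270244
theorem L270252 : sm gg N31896 = N31896 := ded_51_1 (flp_i L270244) L185923 L270244
theorem L270253 : sm gc N21889 = N31897 := rfl
theorem L270255 : sm gg N31897 = N22004 := ded_30_2 (flp_c L186888) (flp_g L185938) L270253
theorem L270257 : sm gj N31897 = N21891 := ded_31_2 (flp_c L185954) (flp_j L185940) L270253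
theorem L270260 : sm gi N21889 = N31898 := rfl
theorem L270262 : sm gb N31898 = N21903 := ded_26_1 (flp_i L186050) (flp_b L185936) L270260
theorem L270264 : sm gd N31898 = N21890 := ded_39_1 (flp_i L185943) L185934 L270260
theorem L270266 : sm gg N31898 = N22005 := ded_51_1 (flp_i L186893) (flp_g L185938) L270260
theorem L270268 : sm gj N31898 = N21892 := ded_53_1 (flp_i L185959) (flp_j L185940) L270260
theorem L270270 : sm gb N21891 = N31899 := rfl
theorem L270272 : sm gg N31899 = N21893 := ded_23_2 (flp_b L185967) (flp_g L185956) L270270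
theorem L270274 : sm gh N31899 = N31899 := ded_25_2 (flp_b L270270) L185958 L270270
theorem L270275 : sm gc N31899 = N21904 := ded_19_2 (flp_b L186059) (flp_c L128162) (flp_b L128069) L185954 L270270
theorem L270277 : sm gi N21891 = N31900 := rfl
theorem L270279 : sm gc N31900 = N21892 := ded_33_1 (flp_i L185959) L185954 L270277
theorem L270281 : sm gg N31900 = N21894 := ded_51_1 (flp_i L185975) (flp_g L185956) L270277
theorem L270283 : sm gh N21892 = N31901 := rfl
theorem L270285 : sm gb N31901 = N21906 := ded_25_1 (flp_h L186073) (flp_b L185961) L270283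
theorem L270287 : sm gg N31901 = N21895 := ded_50_1 (flp_h L185982) (flp_g L185965) L270283
theorem L270289 : sm gd N31901 = N31901 := ded_38_1 (flp_h L270283) L185963 L128082 (flp_d L185963) L270283
theorem L270290 : sm gi N31901 = N31901 := ded_54_2 (flp_h L270283) (flp_i L185959) L128073 L185959 L270283
theorem L270291 : sm ga N21893 = N31902 := rfl
theorem L270293 : sm gc N31902 = N21907 := ded_11_2 (flp_a L186080) (flp_c L185973) L270291
theorem L270295 : sm gf N31902 = N31902 := ded_14_2 (flp_a L270291) L185969 L270291
theorem L270296 : sm gj N31902 = N22009 := ded_16_2 (flp_a L186922) (flp_j L185970) L270291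
theorem L270298 : sm gh N31902 = N31902 := ded_17_2 (flp_a L270291) L185972 L270291
theorem L270299 : sm gi N21893 = N31903 := rfl
theorem L270301 : sm gb N31903 = N21894 := ded_26_1 (flp_i L185975) L185967 L270299
theorem L270303 : sm gc N31903 = N21908 := ded_33_1 (flp_i L186088) (flp_c L185973) L270299
theorem L270305 : sm gf N31903 = N31903 := ded_48_1 (flp_i L270299) L185969 L270299
theorem L270306 : sm gj N31903 = N22010 := ded_53_1 (flp_i L186928) (flp_j L185970) L270299
theorem L270308 : sm gh N21894 = N31904 := rfl
theorem L270310 : sm gc N31904 = N21895 := ded_32_1 (flp_h L185982) (flp_c L185977) L270308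
theorem L270312 : sm gf N31904 = N31904 := ded_47_1 (flp_h L270308) L185979 L270308
theorem L270313 : sm gj N31904 = N22011 := ded_52_1 (flp_h L186935) (flp_j L185980) L270308
theorem L270315 : sm gi N31904 = N31904 := ded_54_2 (flp_h L270308) (flp_i L185975) L128088 L185975 L270308
theorem L270316 : sm gd N21896 = N31905 := rfl
theorem L270319 : sm gf N31905 = N22012 := ded_35_2 (flp_d L186941) (flp_f L185996) L270316
theorem L270321 : sm gg N31905 = N21897 := ded_36_2 (flp_d L186001) (flp_g L185998) L270316
theorem L270325 : sm gi N21896 = N31906 := rfl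
theorem L270332 : sm gg N31906 = N21898 := ded_51_1 (flp_i L186009) (flp_g L185998) L270325
theorem L270336 : sm gc N21897 = N31907 := rfl
theorem L270338 : sm ga N31907 = N31907 := ded_11_1 (flp_c L270336) L186003 L270336
theorem L270339 : sm gf N31907 = N21902 := ded_29_2 (flp_c L186041) (flp_f L186004) L270336
theorem L270341 : sm gj N31907 = N21899 := ded_31_2 (flp_c L186019) (flp_j L186006) L270336
theorem L270343 : sm gh N31907 = N31907 := ded_32_2 (flp_c L270336) L186008 L270336
theorem L270344 : sm gd N31907 = N31907 := ded_27_2 (flp_c L270336) (flp_d L186001) L128121 L186001 L270336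
theorem L270345 : sm ge N21897 = N31908 := rfl
theorem L270347 : sm ga N31908 = N31908 := ded_13_1 (flp_e L270345) L186003 L270345
theorem L270348 : sm gj N31908 = N21900 := ded_42_2 (flp_e L186027) (flp_j L186006) L270345
theorem L270350 : sm gh N31908 = N31908 := ded_43_2 (flp_e L270345) L186008 L270345
theorem L270351 : sm gd N31908 = N31908 := ded_34_1 (flp_e L270345) (flp_d L186001) L128122 L186001 L270345
theorem L270352 : sm gi N21897 = N31909 := rfl
theorem L270354 : sm ga N31909 = N31909 := ded_18_1 (flp_i L270352) L186003 L270352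
theorem L270355 : sm gd N31909 = N21898 := ded_39_1 (flp_i L186009) L186001 L270352
theorem L270357 : sm gf N31909 = N21903 := ded_48_1 (flp_i L186050) (flp_f L186004) L270352
theorem L270359 : sm gj N31909 = N21901 := ded_53_1 (flp_i L186033) (flp_j L186006) L270352
theorem L270361 : sm gb N21899 = N31910 := rfl
theorem L270363 : sm gd N31910 = N31910 := ded_20_2 (flp_b L270361) L186026 L270361
theorem L270364 : sm gf N31910 = N21904 := ded_22_2 (flp_b L186059) (flp_f L186022) L270361
theorem L270366 : sm gg N31910 = N31910 := ded_23_2 (flp_b L270361) L186024 L270361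
theorem L270367 : sm gh N31910 = N31910 := ded_25_2 (flp_b L270361) L186025 L270361
theorem L270368 : sm ge N21899 = N31911 := rfl
theorem L270370 : sm ga N31911 = N31911 := ded_13_1 (flp_e L270368) L186021 L270368
theorem L270371 : sm gc N31911 = N21900 := ded_28_1 (flp_e L186027) L186019 L270368
theorem L270373 : sm gg N31911 = N31911 := ded_41_2 (flp_e L270368) L186024 L270368
theorem L270374 : sm gh N31911 = N31911 := ded_43_2 (flp_e L270368) L186025 L270368
theorem L270375 : sm gi N21899 = N31912 := rfl
theorem L270377 : sm ga N31912 = N31912 := ded_18_1 (flp_i L270375) L186021 L270375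
theorem L270378 : sm gc N31912 = N21901 := ded_33_1 (flp_i L186033) L186019 L270375
theorem L270380 : sm gd N31912 = N31912 := ded_39_1 (flp_i L270375) L186026 L270375
theorem L270381 : sm gf N31912 = N21905 := ded_48_1 (flp_i L186065) (flp_f L186022) L270375
theorem L270383 : sm gg N31912 = N31912 := ded_51_1 (flp_i L270375) L186024 L270375
theorem L270384 : sm gi N21900 = N31913 := rfl
theorem L270386 : sm ga N31913 = N31913 := ded_18_1 (flp_i L270384) L186029 L270384
theorem L270387 : sm gd N31913 = N31913 := ded_39_1 (flp_i L270384) L186032 L270384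
theorem L270388 : sm ge N31913 = N21901 := ded_44_1 (flp_i L186033) L186027 L270384
theorem L270390 : sm gg N31913 = N31913 := ded_51_1 (flp_i L270384) L186030 L270384
theorem L270391 : sm gh N21901 = N31914 := rfl
theorem L270393 : sm ga N31914 = N31914 := ded_17_1 (flp_h L270391) L186035 L270391
theorem L270394 : sm gf N31914 = N21906 := ded_47_1 (flp_h L186073) (flp_f L186038) L270391
theorem L270396 : sm gg N31914 = N31914 := ded_50_1 (flp_h L270391) L186040 L270391
theorem L270397 : sm gd N31914 = N31914 := ded_38_1 (flp_h L270391) L186036 L128142 (flp_d L186036) L270391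
theorem L270398 : sm gi N31914 = N31914 := ded_54_2 (flp_h L270391) (flp_i L186033) L128133 L186033 L270391
theorem L270399 : sm gb N21902 = N31915 := rfl
theorem L270401 : sm gd N31915 = N31915 := ded_20_2 (flp_b L270399) L186049 L270399
theorem L270402 : sm gg N31915 = N22022 := ded_23_2 (flp_b L187023) (flp_g L186044) L270399
theorem L270404 : sm gj N31915 = N21904 := ded_24_2 (flp_b L186059) (flp_j L186046) L270399
theorem L270406 : sm gh N31915 = N31915 := ded_25_2 (flp_b L270399) L186048 L270399
theorem L270407 : sm gi N21902 = N31916 := rfl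
theorem L270409 : sm ga N31916 = N31916 := ded_18_1 (flp_i L270407) L186043 L270407
theorem L270410 : sm gc N31916 = N21903 := ded_33_1 (flp_i L186050) L186041 L270407
theorem L270412 : sm gd N31916 = N31916 := ded_39_1 (flp_i L270407) L186049 L270407
theorem L270413 : sm gg N31916 = N22023 := ded_51_1 (flp_i L187029) (flp_g L186044) L270407
theorem L270415 : sm gj N31916 = N21905 := ded_53_1 (flp_i L186065) (flp_j L186046) L270407
theorem L270417 : sm gh N21903 = N31917 := rfl
theorem L270419 : sm ga N31917 = N31917 := ded_17_1 (flp_h L270417) L186052 L270417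
theorem L270420 : sm gg N31917 = N22024 := ded_50_1 (flp_h L187037) (flp_g L186055) L270417
theorem L270422 : sm gj N31917 = N21906 := ded_52_1 (flp_h L186073) (flp_j L186057) L270417
theorem L270424 : sm gd N31917 = N31917 := ded_38_1 (flp_h L270417) L186053 L128161 (flp_d L186053) L270417
theorem L270425 : sm gi N31917 = N31917 := ded_54_2 (flp_h L270417) (flp_i L186050) L128150 L186050 L270417
theorem L270426 : sm ga N21904 = N31918 := rfl
theorem L270428 : sm gd N31918 = N31918 := ded_12_2 (flp_a L270426) L186061 L270426
theorem L270429 : sm gg N31918 = N21907 := ded_15_2 (flp_a L186080) (flp_g L186062) L270426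
theorem L270431 : sm gh N31918 = N31918 := ded_17_2 (flp_a L270426) L186064 L270426
theorem L270432 : sm gb N31918 = N31918 := ded_10_2 (flp_a L270426) (flp_b L186059) L128164 L186059 L270426
theorem L270433 : sm gi N21904 = N31919 := rfl
theorem L270435 : sm gb N31919 = N21905 := ded_26_1 (flp_i L186065) L186059 L270433
theorem L270437 : sm gd N31919 = N31919 := ded_39_1 (flp_i L270433) L186061 L270433
theorem L270438 : sm gg N31919 = N21908 := ded_51_1 (flp_i L186088) (flp_g L186062) L270433
theorem L270440 : sm gh N21905 = N31920 := rfl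
theorem L270442 : sm ga N31920 = N31920 := ded_17_1 (flp_h L270440) L186067 L270440
theorem L270443 : sm gc N31920 = N21906 := ded_32_1 (flp_h L186073) (flp_c L186068) L270440
theorem L270445 : sm gg N31920 = N21909 := ded_50_1 (flp_h L186096) (flp_g L186071) L270440
theorem L270447 : sm gi N31920 = N31920 := ded_54_2 (flp_h L270440) (flp_i L186065) L128167 L186065 L270440
theorem L270448 : sm gi N21907 = N31921 := rfl
theorem L270450 : sm ga N31921 = N21908 := ded_18_1 (flp_i L186088) L186080 L270448
theorem L270452 : sm gb N31921 = N31921 := ded_26_1 (flp_i L270448) L186087 L270448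
theorem L270453 : sm gd N31921 = N31921 := ded_39_1 (flp_i L270448) L186082 L270448
theorem L270454 : sm gf N31921 = N31921 := ded_48_1 (flp_i L270448) L186083 L270448
theorem L270455 : sm gj N31921 = N22028 := ded_53_1 (flp_i L187066) (flp_j L186084) L270448
theorem L270457 : sm gh N21908 = N31922 := rfl
theorem L270459 : sm gb N31922 = N21909 := ded_25_1 (flp_h L186096) (flp_b L186090) L270457
theorem L270461 : sm gf N31922 = N31922 := ded_47_1 (flp_h L270457) L186093 L270457
theorem L270462 : sm gj N31922 = N22029 := ded_52_1 (flp_h L187073) (flp_j L186094) L270457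
theorem L270464 : sm gi N31922 = N31922 := ded_54_2 (flp_h L270457) (flp_i L186088) L128182 L186088 L270457
theorem L270465 : sm gd N21909 = N31923 := rfl
theorem L270467 : sm ga N31923 = N31923 := ded_12_1 (flp_d L270465) L186098 L270465
theorem L270468 : sm gf N31923 = N31923 := ded_35_2 (flp_d L270465) L186101 L270465
theorem L270469 : sm gj N31923 = N22030 := ded_37_2 (flp_d L187079) (flp_j L186102) L270465
theorem L270471 : sm gi N31923 = N31923 := ded_39_2 (flp_d L270465) L186104 L270465
theorem L270472 : sm gc N31923 = N31923 := ded_27_1 (flp_d L270465) L186099 L128198 (flp_c L186099) L270465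
theorem L270473 : sm gh N31923 = N31923 := ded_38_2 (flp_d L270465) (flp_h L186096) L128188 L186096 L270465
theorem L270530 : sm gi N21912 = N31930 := rfl
theorem L270533 : sm gb N31930 = N21933 := ded_26_1 (flp_i L186314) (flp_b L186127) L270530
theorem L270539 : sm gj N21913 = N31931 := rfl
theorem L270542 : sm gb N31931 = N21934 := ded_24_1 (flp_j L186323) (flp_b L186135) L270539
theorem L270547 : sm gf N31931 = N21914 := ded_46_1 (flp_j L186142) L186132 L270539
theorem L270578 : sm gi N21915 = N31935 := rfl
theorem L270581 : sm gb N31935 = N21938 := ded_26_1 (flp_i L186361) (flp_b L186154) L270578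
theorem L270584 : sm ge N31935 = N21920 := ded_44_1 (flp_i L186198) (flp_e L186157) L270578
theorem L270586 : sm gg N31935 = N21917 := ded_51_1 (flp_i L186167) (flp_g L186159) L270578
theorem L270601 : sm gi N21916 = N31938 := rfl
theorem L270604 : sm gb N31938 = N21941 := ded_26_1 (flp_i L186385) (flp_b L186164) L270601
theorem L270606 : sm gd N31938 = N21917 := ded_39_1 (flp_i L186167) L186161 L270601
theorem L270609 : sm gd N21918 = N31939 := rfl
theorem L270612 : sm gb N31939 = N21942 := ded_20_1 (flp_d L186392) (flp_b L186180) L270609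
theorem L270614 : sm gf N31939 = N22039 := ded_35_2 (flp_d L187160) (flp_f L186183) L270609
theorem L270616 : sm gj N31939 = N21919 := ded_37_2 (flp_d L186187) (flp_j L186185) L270609
theorem L270620 : sm gi N21918 = N31940 := rfl
theorem L270623 : sm gb N31940 = N21943 := ded_26_1 (flp_i L186402) (flp_b L186180) L270620
theorem L270628 : sm gj N31940 = N21920 := ded_53_1 (flp_i L186198) (flp_j L186185) L270620
theorem L270661 : sm ge N21921 = N31944 := rfl
theorem L270664 : sm gc N31944 = N21922 := ded_28_1 (flp_e L186217) L186209 L270661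
theorem L270666 : sm gh N31944 = N24090 := ded_43_2 (flp_e L204869) (flp_h L186214) L270661
theorem L270676 : sm gf N21922 = N31946 := rfl
theorem L270681 : sm gh N31946 = N24092 := ded_47_2 (flp_f L204883) (flp_h L186222) L270676
theorem L270692 : sm gh N21923 = N31948 := rfl
theorem L270700 : sm gi N31948 = N24094 := ded_54_2 (flp_h L204897) (flp_i L141198) (flp_h L128255) L186224 L270692
theorem L270725 : sm gh N21925 = N31952 := rfl
theorem L270732 : sm gi N31952 = N24098 := ded_54_2 (flp_h L204928) (flp_i L141214) (flp_h L128271) L186242 L270725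
theorem L270752 : sm gh N21927 = N31955 := rfl
theorem L270761 : sm gi N31955 = N24101 := ded_54_2 (flp_h L204953) (flp_i L141230) (flp_h L128281) L186258 L270752
theorem L270792 : sm gd N21931 = N31959 := rfl
theorem L270794 : sm ga N31959 = N21966 := ded_12_1 (flp_d L186601) (flp_a L186300) L270792
theorem L270798 : sm gh N31959 = N21937 := ded_38_2 (flp_d L186355) (flp_h L128330) (flp_d L128298) L186298 L270792
theorem L270810 : sm gc N21932 = N31961 := rfl
theorem L270812 : sm ga N31961 = N21968 := ded_11_1 (flp_c L186617) (flp_a L186309) L270810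
theorem L270815 : sm gh N31961 = N21939 := ded_32_2 (flp_c L186372) (flp_h L186312) L270810
theorem L270826 : sm gi N21932 = N31963 := rfl
theorem L270828 : sm ga N31963 = N21970 := ded_18_1 (flp_i L186630) (flp_a L186309) L270826
theorem L270862 : sm gi N21935 = N31967 := rfl
theorem L270864 : sm ga N31967 = N21974 := ded_18_1 (flp_i L186662) (flp_a L186336) L270862
theorem L270866 : sm gc N31967 = N21955 := ded_33_1 (flp_i L186510) (flp_c L186338) L270862
theorem L270868 : sm ge N31967 = N22059 := ded_44_1 (flp_i L187337) (flp_e L186340) L270862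
theorem L270870 : sm gf N31967 = N21938 := ded_48_1 (flp_i L186361) (flp_f L186342) L270862
theorem L270880 : sm gi N21936 = N31969 := rfl
theorem L270882 : sm ga N31969 = N21976 := ded_18_1 (flp_i L186678) (flp_a L186347) L270880
theorem L270884 : sm gc N31969 = N21957 := ded_33_1 (flp_i L186529) (flp_c L186349) L270880
theorem L270886 : sm ge N31969 = N21943 := ded_44_1 (flp_i L186402) (flp_e L186351) L270880
theorem L270888 : sm gj N31969 = N21938 := ded_53_1 (flp_i L186361) (flp_j L186353) L270880
theorem L270891 : sm gc N21937 = N31970 := rfl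
theorem L270893 : sm ga N31970 = N21977 := ded_11_1 (flp_c L186688) (flp_a L186357) L270891
theorem L270895 : sm gg N31970 = N21939 := ded_30_2 (flp_c L186372) (flp_g L186359) L270891
theorem L270897 : sm gd N31970 = N21958 := ded_27_2 (flp_c L186539) (flp_d L128455) (flp_c L128334) L186355 L270891
theorem L270899 : sm ge N21937 = N31971 := rfl
theorem L270901 : sm ga N31971 = N21978 := ded_13_1 (flp_e L186694) (flp_a L186357) L270899
theorem L270905 : sm gd N31971 = N21944 := ded_34_1 (flp_e L186413) (flp_d L128365) (flp_e L128336) L186355 L270899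
theorem L270907 : sm gi N21937 = N31972 := rfl
theorem L270909 : sm ga N31972 = N21979 := ded_18_1 (flp_i L186701) (flp_a L186357) L270907
theorem L270911 : sm gd N31972 = N21938 := ded_39_1 (flp_i L186361) L186355 L270907
theorem L270913 : sm gg N31972 = N21941 := ded_51_1 (flp_i L186385) (flp_g L186359) L270907
theorem L270915 : sm gb N21939 = N31973 := rfl
theorem L270917 : sm gd N31973 = N21960 := ded_20_2 (flp_b L186555) (flp_d L186377) L270915
theorem L270920 : sm ge N21939 = N31974 := rfl
theorem L270922 : sm ga N31974 = N21981 := ded_13_1 (flp_e L186714) (flp_a L186374) L270920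
theorem L270926 : sm gi N21939 = N31975 := rfl
theorem L270928 : sm ga N31975 = N21982 := ded_18_1 (flp_i L186718) (flp_a L186374) L270926
theorem L270930 : sm gc N31975 = N21941 := ded_33_1 (flp_i L186385) L186372 L270926
theorem L270932 : sm gd N31975 = N21961 := ded_39_1 (flp_i L186560) (flp_d L186377) L270926
theorem L270934 : sm gf N31975 = N31975 := ded_48_1 (flp_i L270926) L186376 L270926
theorem L270942 : sm gi N21940 = N31977 := rfl
theorem L270944 : sm ga N31977 = N21984 := ded_18_1 (flp_i L186731) (flp_a L186381) L270942
theorem L270946 : sm gd N31977 = N21947 := ded_39_1 (flp_i L186439) (flp_d L186383) L270942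
theorem L270948 : sm ge N31977 = N21941 := ded_44_1 (flp_i L186385) L186379 L270942
theorem L270950 : sm gh N21941 = N31978 := rfl
theorem L270952 : sm ga N31978 = N21985 := ded_17_1 (flp_h L186738) (flp_a L186387) L270950
theorem L270954 : sm gf N31978 = N31978 := ded_47_1 (flp_h L270950) L186391 L270950
theorem L270955 : sm gd N31978 = N31978 := ded_38_1 (flp_h L270950) L186389 L128354 (flp_d L186389) L270950
theorem L270956 : sm ge N21942 = N31979 := rfl
theorem L270960 : sm gj N31979 = N21944 := ded_42_2 (flp_e L186413) (flp_j L186398) L270956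
theorem L270964 : sm gi N21942 = N31980 := rfl
theorem L270966 : sm ga N31980 = N21987 := ded_18_1 (flp_i L186750) (flp_a L186394) L270964
theorem L270968 : sm gd N31980 = N21943 := ded_39_1 (flp_i L186402) L186392 L270964
theorem L270974 : sm gf N21944 = N31981 := rfl
theorem L270976 : sm ga N31981 = N21988 := ded_14_1 (flp_f L186759) (flp_a L186415) L270974
theorem L270982 : sm gi N21944 = N31982 := rfl
theorem L270984 : sm ga N31982 = N21989 := ded_18_1 (flp_i L186766) (flp_a L186415) L270982
theorem L270988 : sm gg N31982 = N21947 := ded_51_1 (flp_i L186439) (flp_g L186417) L270982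
theorem L271001 : sm gg N21946 = N31984 := rfl
theorem L271003 : sm ga N31984 = N21991 := ded_15_1 (flp_g L186783) (flp_a L186433) L271001
theorem L271009 : sm gi N21946 = N31985 := rfl
theorem L271011 : sm ga N31985 = N21992 := ded_18_1 (flp_i L186790) (flp_a L186433) L271009
theorem L271015 : sm gf N31985 = N21947 := ded_48_1 (flp_i L186439) L186431 L271009
theorem L271017 : sm gh N21947 = N31986 := rfl
theorem L271023 : sm gi N31986 = N24126 := ded_54_2 (flp_h L205154) (flp_i L141375) (flp_h L128390) L186439 L271017
theorem L271025 : sm gj N21949 = N31987 := rfl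
theorem L271027 : sm ga N31987 = N21994 := ded_16_1 (flp_j L186804) (flp_a L186456) L271025
theorem L271030 : sm gf N31987 = N22079 := ded_46_1 (flp_j L187511) (flp_f L186461) L271025
theorem L271034 : sm gi N21949 = N31988 := rfl
theorem L271036 : sm ga N31988 = N21995 := ded_18_1 (flp_i L186812) (flp_a L186456) L271034
theorem L271041 : sm gg N31988 = N21950 := ded_51_1 (flp_i L186463) L186454 L271034
theorem L271043 : sm gh N21950 = N31989 := rfl
theorem L271045 : sm ga N31989 = N21996 := ded_17_1 (flp_h L186820) (flp_a L186465) L271043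
theorem L271049 : sm gi N31989 = N24129 := ded_54_2 (flp_h L205178) (flp_i L141396) (flp_h L128405) L186463 L271043
theorem L271051 : sm gd N21951 = N31990 := rfl
theorem L271055 : sm gg N31990 = N22082 := ded_36_2 (flp_d L187535) (flp_g L186476) L271051
theorem L271057 : sm gi N31990 = N24130 := ded_39_2 (flp_d L205184) (flp_i L186478) L271051
theorem L271071 : sm gd N21953 = N31992 := rfl
theorem L271073 : sm ga N31992 = N21999 := ded_12_1 (flp_d L186845) (flp_a L186492) L271071
theorem L271076 : sm gf N31992 = N21956 := ded_35_2 (flp_d L186521) (flp_f L186497) L271071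
theorem L271078 : sm gj N31992 = N21954 := ded_37_2 (flp_d L186501) (flp_j L186499) L271071
theorem L271081 : sm gi N21953 = N31993 := rfl
theorem L271083 : sm ga N31993 = N22000 := ded_18_1 (flp_i L186854) (flp_a L186492) L271081
theorem L271086 : sm ge N31993 = N22085 := ded_44_1 (flp_i L187564) (flp_e L186495) L271081
theorem L271088 : sm gf N31993 = N21957 := ded_48_1 (flp_i L186529) (flp_f L186497) L271081
theorem L271090 : sm gj N31993 = N21955 := ded_53_1 (flp_i L186510) (flp_j L186499) L271081
theorem L271093 : sm gc N21954 = N31994 := rfl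
theorem L271095 : sm ga N31994 = N22001 := ded_11_1 (flp_c L186865) (flp_a L186503) L271093
theorem L271097 : sm gf N31994 = N21958 := ded_29_2 (flp_c L186539) (flp_f L186506) L271093
theorem L271101 : sm ge N21954 = N31995 := rfl
theorem L271103 : sm ga N31995 = N22002 := ded_13_1 (flp_e L186871) (flp_a L186503) L271101
theorem L271105 : sm gb N31995 = N31995 := ded_21_1 (flp_e L271101) L186505 L271101
theorem L271106 : sm gg N31995 = N31995 := ded_41_2 (flp_e L271101) L186508 L271101
theorem L271107 : sm gh N31995 = N31995 := ded_43_2 (flp_e L271101) L186509 L271101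
theorem L271108 : sm gd N31995 = N22087 := ded_34_1 (flp_e L187583) (flp_d L129186) (flp_e L128441) L186501 L271101
theorem L271110 : sm gi N21954 = N31996 := rfl
theorem L271112 : sm ga N31996 = N22003 := ded_18_1 (flp_i L186879) (flp_a L186503) L271110
theorem L271114 : sm gb N31996 = N31996 := ded_26_1 (flp_i L271110) L186505 L271110
theorem L271115 : sm gd N31996 = N21955 := ded_39_1 (flp_i L186510) L186501 L271110
theorem L271117 : sm gf N31996 = N21959 := ded_48_1 (flp_i L186546) (flp_f L186506) L271110
theorem L271119 : sm gg N31996 = N31996 := ded_51_1 (flp_i L271110) L186508 L271110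
theorem L271120 : sm gc N21956 = N31997 := rfl
theorem L271122 : sm ga N31997 = N22004 := ded_11_1 (flp_c L186888) (flp_a L186523) L271120
theorem L271124 : sm gj N31997 = N21958 := ded_31_2 (flp_c L186539) (flp_j L186526) L271120
theorem L271127 : sm gi N21956 = N31998 := rfl
theorem L271129 : sm ga N31998 = N22005 := ded_18_1 (flp_i L186893) (flp_a L186523) L271127
theorem L271131 : sm gb N31998 = N31998 := ded_26_1 (flp_i L271127) L186525 L271127
theorem L271132 : sm gd N31998 = N21957 := ded_39_1 (flp_i L186529) L186521 L271127
theorem L271134 : sm gj N31998 = N21959 := ded_53_1 (flp_i L186546) (flp_j L186526) L271127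
theorem L271136 : sm gb N21958 = N31999 := rfl
theorem L271138 : sm gg N31999 = N21960 := ded_23_2 (flp_b L186555) (flp_g L186543) L271136
theorem L271142 : sm gi N21958 = N32000 := rfl
theorem L271144 : sm ga N32000 = N22007 := ded_18_1 (flp_i L186908) (flp_a L186541) L271142
theorem L271146 : sm gc N32000 = N21959 := ded_33_1 (flp_i L186546) L186539 L271142
theorem L271148 : sm gg N32000 = N21961 := ded_51_1 (flp_i L186560) (flp_g L186543) L271142
theorem L271150 : sm gh N21959 = N32001 := rfl
theorem L271152 : sm ga N32001 = N22008 := ded_17_1 (flp_h L186914) (flp_a L186548) L271150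
theorem L271154 : sm gb N32001 = N32001 := ded_25_1 (flp_h L271150) L186550 L271150
theorem L271155 : sm gg N32001 = N21962 := ded_50_1 (flp_h L186567) (flp_g L186553) L271150
theorem L271157 : sm gd N32001 = N32001 := ded_38_1 (flp_h L271150) L186551 L128472 (flp_d L186551) L271150
theorem L271158 : sm gi N32001 = N32001 := ded_54_2 (flp_h L271150) (flp_i L186546) L128462 L186546 L271150
theorem L271159 : sm ga N21960 = N32002 := rfl
theorem L271161 : sm gc N32002 = N32002 := ded_11_2 (flp_a L271159) L186559 L271159
theorem L271162 : sm gf N32002 = N32002 := ded_14_2 (flp_a L271159) L186557 L271159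
theorem L271163 : sm gh N32002 = N32002 := ded_17_2 (flp_a L271159) L186558 L271159
theorem L271164 : sm gb N32002 = N22009 := ded_10_2 (flp_a L186922) (flp_b L128741) (flp_a L128475) L186555 L271159
theorem L271166 : sm gi N21960 = N32003 := rfl
theorem L271168 : sm gb N32003 = N21961 := ded_26_1 (flp_i L186560) L186555 L271166
theorem L271170 : sm gc N32003 = N32003 := ded_33_1 (flp_i L271166) L186559 L271166
theorem L271171 : sm gf N32003 = N32003 := ded_48_1 (flp_i L271166) L186557 L271166
theorem L271172 : sm gh N21961 = N32004 := rfl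
theorem L271174 : sm ga N32004 = N22011 := ded_17_1 (flp_h L186935) (flp_a L186562) L271172
theorem L271176 : sm gc N32004 = N21962 := ded_32_1 (flp_h L186567) (flp_c L186564) L271172
theorem L271178 : sm gf N32004 = N32004 := ded_47_1 (flp_h L271172) L186566 L271172
theorem L271179 : sm gi N32004 = N32004 := ded_54_2 (flp_h L271172) (flp_i L186560) L128478 L186560 L271172
theorem L271231 : sm gc N21966 = N32011 := rfl
theorem L271233 : sm gg N32011 = N21968 := ded_30_2 (flp_c L186617) (flp_g L186604) L271231
theorem L271235 : sm gh N32011 = N21977 := ded_32_2 (flp_c L186688) (flp_h L186606) L271231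
theorem L271238 : sm ge N21966 = N32012 := rfl
theorem L271241 : sm gg N32012 = N21969 := ded_41_2 (flp_e L186623) (flp_g L186604) L271238
theorem L271243 : sm gh N32012 = N21978 := ded_43_2 (flp_e L186694) (flp_h L186606) L271238
theorem L271245 : sm gd N32012 = N24142 := ded_34_1 (flp_e L205290) (flp_d L141485) (flp_e L128519) L186601 L271238
theorem L271247 : sm gi N21966 = N32013 := rfl
theorem L271250 : sm gd N32013 = N21967 := ded_39_1 (flp_i L186608) L186601 L271247
theorem L271252 : sm gg N32013 = N21970 := ded_51_1 (flp_i L186630) (flp_g L186604) L271247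
theorem L271254 : sm gb N21968 = N32014 := rfl
theorem L271256 : sm gd N32014 = N32014 := ded_20_2 (flp_b L271254) L186622 L271254
theorem L271257 : sm gf N32014 = N32014 := ded_22_2 (flp_b L271254) L186619 L271254
theorem L271258 : sm gh N32014 = N21980 := ded_25_2 (flp_b L186708) (flp_h L186620) L271254
theorem L271260 : sm gc N32014 = N32014 := ded_19_2 (flp_b L271254) (flp_c L186617) L128525 L186617 L271254
theorem L271261 : sm ge N21968 = N32015 := rfl
theorem L271263 : sm gc N32015 = N21969 := ded_28_1 (flp_e L186623) L186617 L271261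
theorem L271265 : sm gh N32015 = N21981 := ded_43_2 (flp_e L186714) (flp_h L186620) L271261
theorem L271267 : sm gi N21968 = N32016 := rfl
theorem L271269 : sm gc N32016 = N21970 := ded_33_1 (flp_i L186630) L186617 L271267
theorem L271271 : sm gd N32016 = N32016 := ded_39_1 (flp_i L271267) L186622 L271267
theorem L271272 : sm gf N32016 = N32016 := ded_48_1 (flp_i L271267) L186619 L271267
theorem L271273 : sm gf N21969 = N32017 := rfl
theorem L271275 : sm gb N32017 = N32017 := ded_22_1 (flp_f L271273) L186625 L271273
theorem L271276 : sm gd N32017 = N24147 := ded_35_1 (flp_f L205326) (flp_d L186628) L271273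
theorem L271278 : sm gh N32017 = N21983 := ded_47_2 (flp_f L186725) (flp_h L186626) L271273
theorem L271280 : sm ge N32017 = N32017 := ded_40_1 (flp_f L271273) (flp_e L186623) L128526 L186623 L271273
theorem L271281 : sm gi N21969 = N32018 := rfl
theorem L271283 : sm gb N32018 = N32018 := ded_26_1 (flp_i L271281) L186625 L271281
theorem L271284 : sm gd N32018 = N24148 := ded_39_1 (flp_i L205333) (flp_d L186628) L271281
theorem L271286 : sm ge N32018 = N21970 := ded_44_1 (flp_i L186630) L186623 L271281
theorem L271288 : sm gh N21970 = N32019 := rfl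
theorem L271293 : sm gi N32019 = N21985 := ded_54_2 (flp_h L186738) (flp_i L128591) (flp_h L128527) L186630 L271288
theorem L271312 : sm gi N21972 = N32022 := rfl
theorem L271317 : sm ge N32022 = N22099 := ded_44_1 (flp_i L187688) (flp_e L186650) L271312
theorem L271319 : sm gf N32022 = N21976 := ded_48_1 (flp_i L186678) (flp_f L186652) L271312
theorem L271321 : sm gj N32022 = N21974 := ded_53_1 (flp_i L186662) (flp_j L186654) L271312
theorem L271324 : sm gc N21973 = N32023 := rfl
theorem L271326 : sm gf N32023 = N21977 := ded_29_2 (flp_c L186688) (flp_f L186659) L271324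
theorem L271329 : sm gd N32023 = N22001 := ded_27_2 (flp_c L186865) (flp_d L128694) (flp_c L128550) L186656 L271324
theorem L271331 : sm ge N21973 = N32024 := rfl
theorem L271335 : sm gd N32024 = N22101 := ded_34_1 (flp_e L187706) (flp_d L129286) (flp_e L128552) L186656 L271331
theorem L271337 : sm gi N21973 = N32025 := rfl
theorem L271340 : sm gd N32025 = N21974 := ded_39_1 (flp_i L186662) L186656 L271337
theorem L271345 : sm gc N21975 = N32026 := rfl
theorem L271347 : sm gj N32026 = N21977 := ded_31_2 (flp_c L186688) (flp_j L186676) L271345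
theorem L271349 : sm gd N32026 = N22004 := ded_27_2 (flp_c L186888) (flp_d L128712) (flp_c L128560) L186673 L271345
theorem L271351 : sm ge N21975 = N32027 := rfl
theorem L271354 : sm gj N32027 = N21978 := ded_42_2 (flp_e L186694) (flp_j L186676) L271351
theorem L271358 : sm gi N21975 = N32028 := rfl
theorem L271361 : sm gd N32028 = N21976 := ded_39_1 (flp_i L186678) L186673 L271358
theorem L271363 : sm gj N32028 = N21979 := ded_53_1 (flp_i L186701) (flp_j L186676) L271358
theorem L271365 : sm gb N21977 = N32029 := rfl
theorem L271367 : sm gd N32029 = N22006 := ded_20_2 (flp_b L186901) (flp_d L186692) L271365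
theorem L271369 : sm gg N32029 = N21980 := ded_23_2 (flp_b L186708) (flp_g L186690) L271365
theorem L271371 : sm gc N32029 = N32029 := ded_19_2 (flp_b L271365) (flp_c L186688) L128568 L186688 L271365
theorem L271372 : sm ge N21977 = N32030 := rfl
theorem L271374 : sm gc N32030 = N21978 := ded_28_1 (flp_e L186694) L186688 L271372
theorem L271376 : sm gg N32030 = N21981 := ded_41_2 (flp_e L186714) (flp_g L186690) L271372
theorem L271378 : sm gi N21977 = N32031 := rfl
theorem L271380 : sm gc N32031 = N21979 := ded_33_1 (flp_i L186701) L186688 L271378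
theorem L271382 : sm gd N32031 = N22007 := ded_39_1 (flp_i L186908) (flp_d L186692) L271378
theorem L271384 : sm gg N32031 = N21982 := ded_51_1 (flp_i L186718) (flp_g L186690) L271378
theorem L271386 : sm gf N21978 = N32032 := rfl
theorem L271388 : sm gb N32032 = N32032 := ded_22_1 (flp_f L271386) L186696 L271386
theorem L271389 : sm gd N32032 = N21988 := ded_35_1 (flp_f L186759) (flp_d L186699) L271386
theorem L271391 : sm gi N21978 = N32033 := rfl
theorem L271393 : sm gb N32033 = N32033 := ded_26_1 (flp_i L271391) L186696 L271391
theorem L271394 : sm gd N32033 = N21989 := ded_39_1 (flp_i L186766) (flp_d L186699) L271391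
theorem L271396 : sm ge N32033 = N21979 := ded_44_1 (flp_i L186701) L186694 L271391
theorem L271398 : sm gg N32033 = N21984 := ded_51_1 (flp_i L186731) (flp_g L186697) L271391
theorem L271400 : sm gh N21979 = N32034 := rfl
theorem L271402 : sm gb N32034 = N32034 := ded_25_1 (flp_h L271400) L186703 L271400
theorem L271403 : sm gg N32034 = N21985 := ded_50_1 (flp_h L186738) (flp_g L186706) L271400
theorem L271405 : sm gd N32034 = N32034 := ded_38_1 (flp_h L271400) L186704 L128580 (flp_d L186704) L271400
theorem L271406 : sm ga N21980 = N32035 := rfl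
theorem L271408 : sm gc N32035 = N32035 := ded_11_2 (flp_a L271406) L186713 L271406
theorem L271409 : sm gd N32035 = N22009 := ded_12_2 (flp_a L186922) (flp_d L186710) L271406
theorem L271411 : sm gf N32035 = N32035 := ded_14_2 (flp_a L271406) L186712 L271406
theorem L271412 : sm ge N21980 = N32036 := rfl
theorem L271414 : sm gb N32036 = N21981 := ded_21_1 (flp_e L186714) L186708 L271412
theorem L271416 : sm gc N32036 = N32036 := ded_28_1 (flp_e L271412) L186713 L271412
theorem L271417 : sm gi N21980 = N32037 := rfl
theorem L271419 : sm gb N32037 = N21982 := ded_26_1 (flp_i L186718) L186708 L271417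
theorem L271421 : sm gc N32037 = N32037 := ded_33_1 (flp_i L271417) L186713 L271417
theorem L271422 : sm gd N32037 = N22010 := ded_39_1 (flp_i L186928) (flp_d L186710) L271417
theorem L271424 : sm gf N32037 = N32037 := ded_48_1 (flp_i L271417) L186712 L271417
theorem L271425 : sm gf N21981 = N32038 := rfl
theorem L271427 : sm gc N32038 = N21983 := ded_29_1 (flp_f L186725) (flp_c L186716) L271425
theorem L271429 : sm ge N32038 = N32038 := ded_40_1 (flp_f L271425) (flp_e L186714) L128583 L186714 L271425
theorem L271430 : sm gi N21981 = N32039 := rfl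
theorem L271432 : sm gc N32039 = N21984 := ded_33_1 (flp_i L186731) (flp_c L186716) L271430
theorem L271434 : sm ge N32039 = N21982 := ded_44_1 (flp_i L186718) L186714 L271430
theorem L271436 : sm gh N21982 = N32040 := rfl
theorem L271438 : sm gc N32040 = N21985 := ded_32_1 (flp_h L186738) (flp_c L186720) L271436
theorem L271440 : sm gf N32040 = N32040 := ded_47_1 (flp_h L271436) L186724 L271436
theorem L271441 : sm gg N21983 = N32041 := rfl
theorem L271443 : sm gb N32041 = N32041 := ded_23_1 (flp_g L271441) L186727 L271441
theorem L271444 : sm gd N32041 = N21991 := ded_36_1 (flp_g L186783) (flp_d L186728) L271441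
theorem L271446 : sm ge N32041 = N32041 := ded_41_1 (flp_g L271441) L186730 L271441
theorem L271447 : sm gi N21983 = N32042 := rfl
theorem L271449 : sm gb N32042 = N32042 := ded_26_1 (flp_i L271447) L186727 L271447
theorem L271450 : sm gd N32042 = N21992 := ded_39_1 (flp_i L186790) (flp_d L186728) L271447
theorem L271452 : sm ge N32042 = N32042 := ded_44_1 (flp_i L271447) L186730 L271447
theorem L271453 : sm gf N32042 = N21984 := ded_48_1 (flp_i L186731) L186725 L271447
theorem L271455 : sm gh N21984 = N32043 := rfl
theorem L271457 : sm gb N32043 = N32043 := ded_25_1 (flp_h L271455) L186733 L271455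
theorem L271458 : sm ge N32043 = N21985 := ded_43_1 (flp_h L186738) (flp_e L186736) L271455
theorem L271460 : sm gf N21986 = N32044 := rfl
theorem L271462 : sm gb N32044 = N32044 := ded_22_1 (flp_f L271460) L186745 L271460
theorem L271463 : sm gj N32044 = N21988 := ded_46_2 (flp_f L186759) (flp_j L186746) L271460
theorem L271465 : sm gh N32044 = N24168 := ded_47_2 (flp_f L205473) (flp_h L186748) L271460
theorem L271467 : sm ge N32044 = N22121 := ded_40_1 (flp_f L187857) (flp_e L129387) (flp_f L128600) L186743 L271460
theorem L271469 : sm gi N21986 = N32045 := rfl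
theorem L271471 : sm gb N32045 = N32045 := ded_26_1 (flp_i L271469) L186745 L271469
theorem L271472 : sm ge N32045 = N21987 := ded_44_1 (flp_i L186750) L186743 L271469
theorem L271474 : sm gj N32045 = N21989 := ded_53_1 (flp_i L186766) (flp_j L186746) L271469
theorem L271476 : sm gh N21987 = N32046 := rfl
theorem L271484 : sm gi N32046 = N24170 := ded_54_2 (flp_h L205487) (flp_i L141603) (flp_h L128604) L186750 L271476
theorem L271486 : sm gg N21988 = N32047 := rfl
theorem L271488 : sm gb N32047 = N32047 := ded_23_1 (flp_g L271486) L186761 L271486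
theorem L271489 : sm ge N32047 = N22124 := ded_41_1 (flp_g L187881) (flp_e L186764) L271486
theorem L271491 : sm gh N32047 = N24171 := ded_50_2 (flp_g L205495) (flp_h L186762) L271486
theorem L271493 : sm gf N32047 = N21991 := ded_45_1 (flp_g L186783) (flp_f L128632) (flp_g L128619) L186759 L271486
theorem L271495 : sm gi N21988 = N32048 := rfl
theorem L271497 : sm gb N32048 = N32048 := ded_26_1 (flp_i L271495) L186761 L271495
theorem L271498 : sm ge N32048 = N22125 := ded_44_1 (flp_i L187888) (flp_e L186764) L271495
theorem L271500 : sm gf N32048 = N21989 := ded_48_1 (flp_i L186766) L186759 L271495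
theorem L271502 : sm gh N21989 = N32049 := rfl
theorem L271511 : sm gj N21991 = N32050 := rfl
theorem L271513 : sm gb N32050 = N32050 := ded_24_1 (flp_j L271511) L186785 L271511
theorem L271514 : sm ge N32050 = N21994 := ded_42_1 (flp_j L186804) (flp_e L186786) L271511
theorem L271516 : sm gh N32050 = N24174 := ded_52_2 (flp_j L205516) (flp_h L186788) L271511
theorem L271518 : sm gi N21991 = N32051 := rfl
theorem L271520 : sm gb N32051 = N32051 := ded_26_1 (flp_i L271518) L186785 L271518
theorem L271521 : sm ge N32051 = N21995 := ded_44_1 (flp_i L186812) (flp_e L186786) L271518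
theorem L271523 : sm gg N32051 = N21992 := ded_51_1 (flp_i L186790) L186783 L271518
theorem L271525 : sm gh N21992 = N32052 := rfl
theorem L271532 : sm gi N32052 = N24176 := ded_54_2 (flp_h L205528) (flp_i L141637) (flp_h L128635) L186790 L271525
theorem L271540 : sm gi N21994 = N32054 := rfl
theorem L271544 : sm gf N32054 = N22131 := ded_48_1 (flp_i L187934) (flp_f L186808) L271540
theorem L271546 : sm gj N32054 = N21995 := ded_53_1 (flp_i L186812) L186804 L271540
theorem L271548 : sm gh N21995 = N32055 := rfl
theorem L271581 : sm gi N21998 = N32059 := rfl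
theorem L271583 : sm gb N32059 = N22013 := ded_26_1 (flp_i L186948) (flp_b L186838) L271581
theorem L271585 : sm ge N32059 = N22136 := ded_44_1 (flp_i L187974) (flp_e L186840) L271581
theorem L271591 : sm gc N21999 = N32060 := rfl
theorem L271593 : sm gf N32060 = N22004 := ded_29_2 (flp_c L186888) (flp_f L186849) L271591
theorem L271598 : sm ge N21999 = N32061 := rfl
theorem L271600 : sm gb N32061 = N22015 := ded_21_1 (flp_e L186967) (flp_b L186847) L271598
theorem L271602 : sm gj N32061 = N22002 := ded_42_2 (flp_e L186871) (flp_j L186851) L271598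
theorem L271607 : sm gi N21999 = N32062 := rfl
theorem L271609 : sm gb N32062 = N22016 := ded_26_1 (flp_i L186975) (flp_b L186847) L271607
theorem L271611 : sm gd N32062 = N22000 := ded_39_1 (flp_i L186854) L186845 L271607
theorem L271613 : sm gf N32062 = N22005 := ded_48_1 (flp_i L186893) (flp_f L186849) L271607
theorem L271615 : sm gj N32062 = N22003 := ded_53_1 (flp_i L186879) (flp_j L186851) L271607
theorem L271617 : sm gb N22001 = N32063 := rfl
theorem L271619 : sm gf N32063 = N22006 := ded_22_2 (flp_b L186901) (flp_f L186867) L271617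
theorem L271621 : sm gg N32063 = N32063 := ded_23_2 (flp_b L271617) L186869 L271617
theorem L271622 : sm gh N32063 = N32063 := ded_25_2 (flp_b L271617) L186870 L271617
theorem L271623 : sm gc N32063 = N22017 := ded_19_2 (flp_b L186984) (flp_c L128787) (flp_b L128696) L186865 L271617
theorem L271625 : sm ge N22001 = N32064 := rfl
theorem L271627 : sm gc N32064 = N22002 := ded_28_1 (flp_e L186871) L186865 L271625
theorem L271629 : sm gg N32064 = N32064 := ded_41_2 (flp_e L271625) L186869 L271625
theorem L271630 : sm gh N32064 = N32064 := ded_43_2 (flp_e L271625) L186870 L271625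
theorem L271631 : sm gi N22001 = N32065 := rfl
theorem L271633 : sm gc N32065 = N22003 := ded_33_1 (flp_i L186879) L186865 L271631
theorem L271635 : sm gf N32065 = N22007 := ded_48_1 (flp_i L186908) (flp_f L186867) L271631
theorem L271637 : sm gg N32065 = N32065 := ded_51_1 (flp_i L271631) L186869 L271631
theorem L271638 : sm gi N22002 = N32066 := rfl
theorem L271640 : sm gb N32066 = N22020 := ded_26_1 (flp_i L187007) (flp_b L186873) L271638
theorem L271642 : sm gd N32066 = N22143 := ded_39_1 (flp_i L188032) (flp_d L186877) L271638
theorem L271644 : sm ge N32066 = N22003 := ded_44_1 (flp_i L186879) L186871 L271638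
theorem L271646 : sm gg N32066 = N32066 := ded_51_1 (flp_i L271638) L186875 L271638
theorem L271647 : sm gh N22003 = N32067 := rfl
theorem L271649 : sm gb N32067 = N22021 := ded_25_1 (flp_h L187015) (flp_b L186881) L271647
theorem L271651 : sm gf N32067 = N22008 := ded_47_1 (flp_h L186914) (flp_f L186885) L271647
theorem L271653 : sm gg N32067 = N32067 := ded_50_1 (flp_h L271647) L186887 L271647
theorem L271654 : sm gd N32067 = N32067 := ded_38_1 (flp_h L271647) L186883 L128711 (flp_d L186883) L271647
theorem L271655 : sm gi N32067 = N32067 := ded_54_2 (flp_h L271647) (flp_i L186879) L128701 L186879 L271647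
theorem L271656 : sm gb N22004 = N32068 := rfl
theorem L271658 : sm gj N32068 = N22006 := ded_24_2 (flp_b L186901) (flp_j L186890) L271656
theorem L271660 : sm gh N32068 = N32068 := ded_25_2 (flp_b L271656) L186892 L271656
theorem L271661 : sm gc N32068 = N22022 := ded_19_2 (flp_b L187023) (flp_c L128810) (flp_b L128714) L186888 L271656
theorem L271663 : sm gi N22004 = N32069 := rfl
theorem L271665 : sm gc N32069 = N22005 := ded_33_1 (flp_i L186893) L186888 L271663
theorem L271667 : sm gj N32069 = N22007 := ded_53_1 (flp_i L186908) (flp_j L186890) L271663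
theorem L271669 : sm gh N22005 = N32070 := rfl
theorem L271671 : sm gb N32070 = N22024 := ded_25_1 (flp_h L187037) (flp_b L186895) L271669
theorem L271673 : sm gj N32070 = N22008 := ded_52_1 (flp_h L186914) (flp_j L186899) L271669
theorem L271675 : sm gd N32070 = N32070 := ded_38_1 (flp_h L271669) L186897 L128727 (flp_d L186897) L271669
theorem L271676 : sm gi N32070 = N32070 := ded_54_2 (flp_h L271669) (flp_i L186893) L128718 L186893 L271669
theorem L271677 : sm ga N22006 = N32071 := rfl
theorem L271679 : sm gc N32071 = N22025 := ded_11_2 (flp_a L187044) (flp_c L186906) L271677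
theorem L271681 : sm gg N32071 = N22009 := ded_15_2 (flp_a L186922) (flp_g L186903) L271677
theorem L271683 : sm gh N32071 = N32071 := ded_17_2 (flp_a L271677) L186905 L271677
theorem L271684 : sm gi N22006 = N32072 := rfl
theorem L271686 : sm gb N32072 = N22007 := ded_26_1 (flp_i L186908) L186901 L271684
theorem L271688 : sm gc N32072 = N22026 := ded_33_1 (flp_i L187051) (flp_c L186906) L271684
theorem L271690 : sm gg N32072 = N22010 := ded_51_1 (flp_i L186928) (flp_g L186903) L271684
theorem L271692 : sm gh N22007 = N32073 := rfl
theorem L271694 : sm gc N32073 = N22008 := ded_32_1 (flp_h L186914) (flp_c L186910) L271692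
theorem L271696 : sm gg N32073 = N22011 := ded_50_1 (flp_h L186935) (flp_g L186912) L271692
theorem L271698 : sm gi N32073 = N32073 := ded_54_2 (flp_h L271692) (flp_i L186908) L128732 L186908 L271692
theorem L271699 : sm gi N22009 = N32074 := rfl
theorem L271701 : sm ga N32074 = N22010 := ded_18_1 (flp_i L186928) L186922 L271699
theorem L271703 : sm gc N32074 = N22028 := ded_33_1 (flp_i L187066) (flp_c L186924) L271699
theorem L271705 : sm gf N32074 = N32074 := ded_48_1 (flp_i L271699) L186926 L271699
theorem L271706 : sm gh N22010 = N32075 := rfl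
theorem L271708 : sm gb N32075 = N22011 := ded_25_1 (flp_h L186935) (flp_b L186930) L271706
theorem L271710 : sm gc N32075 = N22029 := ded_32_1 (flp_h L187073) (flp_c L186932) L271706
theorem L271712 : sm gf N32075 = N32075 := ded_47_1 (flp_h L271706) L186934 L271706
theorem L271713 : sm gi N32075 = N32075 := ded_54_2 (flp_h L271706) (flp_i L186928) L128744 L186928 L271706
theorem L271714 : sm gd N22011 = N32076 := rfl
theorem L271716 : sm gf N32076 = N32076 := ded_35_2 (flp_d L271714) L186939 L271714
theorem L271717 : sm gi N32076 = N32076 := ded_39_2 (flp_d L271714) L186940 L271714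
theorem L271718 : sm gc N32076 = N32076 := ded_27_1 (flp_d L271714) L186937 L128757 (flp_c L186937) L271714
theorem L271719 : sm gc N22012 = N32077 := rfl
theorem L271722 : sm gg N32077 = N22014 := ded_30_2 (flp_c L186958) (flp_g L186944) L271719
theorem L271736 : sm gi N22012 = N32079 := rfl
theorem L271741 : sm gg N32079 = N22016 := ded_51_1 (flp_i L186975) (flp_g L186944) L271736
theorem L271744 : sm gb N22014 = N32080 := rfl
theorem L271746 : sm gd N32080 = N32080 := ded_20_2 (flp_b L271744) L186966 L271744
theorem L271747 : sm gf N32080 = N22022 := ded_22_2 (flp_b L187023) (flp_f L186961) L271744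
theorem L271749 : sm gj N32080 = N22017 := ded_24_2 (flp_b L186984) (flp_j L186963) L271744
theorem L271751 : sm gh N32080 = N32080 := ded_25_2 (flp_b L271744) L186965 L271744
theorem L271752 : sm ge N22014 = N32081 := rfl
theorem L271755 : sm gc N32081 = N22015 := ded_28_1 (flp_e L186967) L186958 L271752
theorem L271757 : sm gj N32081 = N22018 := ded_42_2 (flp_e L186991) (flp_j L186963) L271752
theorem L271760 : sm gi N22014 = N32082 := rfl
theorem L271762 : sm ga N32082 = N32082 := ded_18_1 (flp_i L271760) L186960 L271760
theorem L271763 : sm gc N32082 = N22016 := ded_33_1 (flp_i L186975) L186958 L271760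
theorem L271765 : sm gd N32082 = N32082 := ded_39_1 (flp_i L271760) L186966 L271760
theorem L271766 : sm gf N32082 = N22023 := ded_48_1 (flp_i L187029) (flp_f L186961) L271760
theorem L271768 : sm gj N32082 = N22019 := ded_53_1 (flp_i L186998) (flp_j L186963) L271760
theorem L271770 : sm gi N22015 = N32083 := rfl
theorem L271775 : sm ge N32083 = N22016 := ded_44_1 (flp_i L186975) L186967 L271770
theorem L271777 : sm gj N32083 = N22020 := ded_53_1 (flp_i L187007) (flp_j L186970) L271770
theorem L271779 : sm gh N22016 = N32084 := rfl
theorem L271781 : sm ga N32084 = N32084 := ded_17_1 (flp_h L271779) L186977 L271779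
theorem L271782 : sm gf N32084 = N22024 := ded_47_1 (flp_h L187037) (flp_f L186980) L271779
theorem L271784 : sm gj N32084 = N22021 := ded_52_1 (flp_h L187015) (flp_j L186982) L271779
theorem L271786 : sm gd N32084 = N32084 := ded_38_1 (flp_h L271779) L186978 L128786 (flp_d L186978) L271779
theorem L271787 : sm gi N32084 = N32084 := ded_54_2 (flp_h L271779) (flp_i L186975) L128775 L186975 L271779
theorem L271788 : sm ga N22017 = N32085 := rfl
theorem L271790 : sm gd N32085 = N32085 := ded_12_2 (flp_a L271788) L186986 L271788
theorem L271791 : sm gf N32085 = N22025 := ded_14_2 (flp_a L187044) (flp_f L186987) L271788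
theorem L271793 : sm gg N32085 = N32085 := ded_15_2 (flp_a L271788) L186989 L271788
theorem L271794 : sm gh N32085 = N32085 := ded_17_2 (flp_a L271788) L186990 L271788
theorem L271795 : sm gb N32085 = N32085 := ded_10_2 (flp_a L271788) (flp_b L186984) L128789 L186984 L271788
theorem L271796 : sm ge N22017 = N32086 := rfl
theorem L271798 : sm gb N32086 = N22018 := ded_21_1 (flp_e L186991) L186984 L271796
theorem L271800 : sm gg N32086 = N32086 := ded_41_2 (flp_e L271796) L186989 L271796
theorem L271801 : sm gh N32086 = N32086 := ded_43_2 (flp_e L271796) L186990 L271796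
theorem L271802 : sm gi N22017 = N32087 := rfl
theorem L271804 : sm gb N32087 = N22019 := ded_26_1 (flp_i L186998) L186984 L271802
theorem L271806 : sm gd N32087 = N32087 := ded_39_1 (flp_i L271802) L186986 L271802
theorem L271807 : sm gf N32087 = N22026 := ded_48_1 (flp_i L187051) (flp_f L186987) L271802
theorem L271809 : sm gg N32087 = N32087 := ded_51_1 (flp_i L271802) L186989 L271802
theorem L271810 : sm gd N22018 = N32088 := rfl
theorem L271814 : sm gc N32088 = N22165 := ded_27_1 (flp_d L188220) L129643 (flp_d L128800) (flp_c L186994) L271810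
theorem L271817 : sm gi N22018 = N32089 := rfl
theorem L271819 : sm ga N32089 = N32089 := ded_18_1 (flp_i L271817) L186993 L271817
theorem L271820 : sm gc N32089 = N22020 := ded_33_1 (flp_i L187007) (flp_c L186994) L271817
theorem L271822 : sm ge N32089 = N22019 := ded_44_1 (flp_i L186998) L186991 L271817
theorem L271824 : sm gg N32089 = N32089 := ded_51_1 (flp_i L271817) L186996 L271817
theorem L271825 : sm gh N22019 = N32090 := rfl
theorem L271827 : sm ga N32090 = N32090 := ded_17_1 (flp_h L271825) L187000 L271825
theorem L271828 : sm gc N32090 = N22021 := ded_32_1 (flp_h L187015) (flp_c L187001) L271825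
theorem L271830 : sm gf N32090 = N22027 := ded_47_1 (flp_h L187058) (flp_f L187004) L271825
theorem L271832 : sm gg N32090 = N32090 := ded_50_1 (flp_h L271825) L187006 L271825
theorem L271833 : sm gi N32090 = N32090 := ded_54_2 (flp_h L271825) (flp_i L186998) L128793 L186998 L271825
theorem L271834 : sm gh N22020 = N32091 := rfl
theorem L271836 : sm ga N32091 = N32091 := ded_17_1 (flp_h L271834) L187009 L271834
theorem L271837 : sm ge N32091 = N22021 := ded_43_1 (flp_h L187015) (flp_e L187012) L271834
theorem L271839 : sm gg N32091 = N32091 := ded_50_1 (flp_h L271834) L187014 L271834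
theorem L271840 : sm gi N32091 = N32091 := ded_54_2 (flp_h L271834) (flp_i L187007) L128799 L187007 L271834
theorem L271841 : sm ga N22022 = N32092 := rfl
theorem L271843 : sm gd N32092 = N32092 := ded_12_2 (flp_a L271841) L187025 L271841
theorem L271844 : sm gj N32092 = N22025 := ded_16_2 (flp_a L187044) (flp_j L187026) L271841
theorem L271846 : sm gh N32092 = N32092 := ded_17_2 (flp_a L271841) L187028 L271841
theorem L271847 : sm gb N32092 = N32092 := ded_10_2 (flp_a L271841) (flp_b L187023) L128812 L187023 L271841
theorem L271848 : sm gi N22022 = N32093 := rfl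
theorem L271850 : sm gb N32093 = N22023 := ded_26_1 (flp_i L187029) L187023 L271848
theorem L271852 : sm gd N32093 = N32093 := ded_39_1 (flp_i L271848) L187025 L271848
theorem L271853 : sm gj N32093 = N22026 := ded_53_1 (flp_i L187051) (flp_j L187026) L271848
theorem L271855 : sm gh N22023 = N32094 := rfl
theorem L271857 : sm ga N32094 = N32094 := ded_17_1 (flp_h L271855) L187031 L271855
theorem L271858 : sm gc N32094 = N22024 := ded_32_1 (flp_h L187037) (flp_c L187032) L271855
theorem L271860 : sm gj N32094 = N22027 := ded_52_1 (flp_h L187058) (flp_j L187035) L271855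
theorem L271862 : sm gi N32094 = N32094 := ded_54_2 (flp_h L271855) (flp_i L187029) L128815 L187029 L271855
theorem L271863 : sm gi N22025 = N32095 := rfl
theorem L271865 : sm ga N32095 = N22026 := ded_18_1 (flp_i L187051) L187044 L271863
theorem L271867 : sm gb N32095 = N32095 := ded_26_1 (flp_i L271863) L187050 L271863
theorem L271868 : sm gd N32095 = N32095 := ded_39_1 (flp_i L271863) L187046 L271863
theorem L271869 : sm gg N32095 = N22028 := ded_51_1 (flp_i L187066) (flp_g L187047) L271863
theorem L271871 : sm gh N22026 = N32096 := rfl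
theorem L271873 : sm gb N32096 = N22027 := ded_25_1 (flp_h L187058) (flp_b L187053) L271871
theorem L271875 : sm gg N32096 = N22029 := ded_50_1 (flp_h L187073) (flp_g L187056) L271871
theorem L271877 : sm gi N32096 = N32096 := ded_54_2 (flp_h L271871) (flp_i L187051) L128829 L187051 L271871
theorem L271878 : sm gd N22027 = N32097 := rfl
theorem L271880 : sm ga N32097 = N32097 := ded_12_1 (flp_d L271878) L187060 L271878
theorem L271881 : sm gg N32097 = N22030 := ded_36_2 (flp_d L187079) (flp_g L187063) L271878
theorem L271883 : sm gi N32097 = N32097 := ded_39_2 (flp_d L271878) L187065 L271878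
theorem L271884 : sm gc N32097 = N32097 := ded_27_1 (flp_d L271878) L187061 L128843 (flp_c L187061) L271878
theorem L271885 : sm gh N32097 = N32097 := ded_38_2 (flp_d L271878) (flp_h L187058) L128835 L187058 L271878
theorem L271886 : sm gh N22028 = N32098 := rfl
theorem L271888 : sm ga N32098 = N22029 := ded_17_1 (flp_h L187073) (flp_a L187068) L271886
theorem L271890 : sm gb N32098 = N32098 := ded_25_1 (flp_h L271886) L187070 L271886
theorem L271891 : sm gf N32098 = N32098 := ded_47_1 (flp_h L271886) L187072 L271886
theorem L271892 : sm gi N32098 = N32098 := ded_54_2 (flp_h L271886) (flp_i L187066) L128849 L187066 L271886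
theorem L271893 : sm gd N22029 = N32099 := rfl
theorem L271895 : sm gb N32099 = N22030 := ded_20_1 (flp_d L187079) (flp_b L187075) L271893
theorem L271897 : sm gf N32099 = N32099 := ded_35_2 (flp_d L271893) L187077 L271893
theorem L271898 : sm gi N32099 = N32099 := ded_39_2 (flp_d L271893) L187078 L271893
theorem L271899 : sm gh N32099 = N32099 := ded_38_2 (flp_d L271893) (flp_h L187073) L128855 L187073 L271893
theorem L271900 : sm ge N22030 = N32100 := rfl
theorem L271902 : sm ga N32100 = N32100 := ded_13_1 (flp_e L271900) L187081 L271900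
theorem L271903 : sm gc N32100 = N32100 := ded_28_1 (flp_e L271900) L187084 L271900
theorem L271904 : sm gh N32100 = N32100 := ded_43_2 (flp_e L271900) L187085 L271900
theorem L271905 : sm gi N32100 = N32100 := ded_44_2 (flp_e L271900) L187083 L271900
theorem L271926 : sm gd N22032 = N32103 := rfl
theorem L271929 : sm gb N32103 = N22058 := ded_20_1 (flp_d L187329) (flp_b L187099) L271926
theorem L271935 : sm gi N22032 = N32104 := rfl
theorem L271938 : sm gb N32104 = N22059 := ded_26_1 (flp_i L187337) (flp_b L187099) L271935
theorem L271941 : sm gf N32104 = N22035 := ded_48_1 (flp_i L187124) (flp_f L187102) L271935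
theorem L271945 : sm gd N22033 = N32105 := rfl
theorem L271948 : sm gb N32105 = N22060 := ded_20_1 (flp_d L187347) (flp_b L187108) L271945
theorem L271954 : sm gi N22033 = N32106 := rfl
theorem L271957 : sm gb N32106 = N22061 := ded_26_1 (flp_i L187355) (flp_b L187108) L271954
theorem L271963 : sm gj N32106 = N22035 := ded_53_1 (flp_i L187124) (flp_j L187114) L271954
theorem L271973 : sm ge N22034 = N32108 := rfl
theorem L271976 : sm gb N32108 = N22063 := ded_21_1 (flp_e L187376) (flp_b L187119) L271973
theorem L271978 : sm gg N32108 = N22037 := ded_41_2 (flp_e L187142) (flp_g L187121) L271973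
theorem L271983 : sm gi N22034 = N32109 := rfl
theorem L271986 : sm gb N32109 = N22064 := ded_26_1 (flp_i L187385) (flp_b L187119) L271983
theorem L271988 : sm gd N32109 = N22035 := ded_39_1 (flp_i L187124) L187116 L271983
theorem L271992 : sm gb N22036 = N32110 := rfl
theorem L271998 : sm gc N32110 = N22065 := ded_19_2 (flp_b L187393) (flp_c L129057) (flp_b L128897) L187135 L271992
theorem L272035 : sm gh N22038 = N32115 := rfl
theorem L272038 : sm gb N32115 = N22070 := ded_25_1 (flp_h L187436) (flp_b L187154) L272035
theorem L272063 : sm gi N22039 = N32118 := rfl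
theorem L272066 : sm gb N32118 = N22072 := ded_26_1 (flp_i L187453) (flp_b L187163) L272063
theorem L272068 : sm gd N32118 = N22040 := ded_39_1 (flp_i L187170) L187160 L272063
theorem L272071 : sm gj N32118 = N22043 := ded_53_1 (flp_i L187197) (flp_j L187166) L272063
theorem L272106 : sm gh N22043 = N32123 := rfl

end Cfsg.Agent.Helper28.FicA
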