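import Cfsg.Agent.Helper28.FicB22

/-! # The Fi₂₃ presentation, cosets of the subgroup generated by a, …, i: the coset enumeration, part 23 (helper28; generated) -/

set_option autoImplicit false

noncomputable section

namespace Cfsg.Agent.Helper28.FicA

open Cfsg.Agent.Helper28.CosetTable

theorem L272114 : sm gi N32123 = N24207 := ded_54_2 (flp_h L205779) (flp_i L141852) (flp_h L128929) L187197 L272106
theorem L272139 : sm gh N22045 = N32127 := rfl
theorem L272147 : sm gi N32127 = N24211 := ded_54_2 (flp_h L205810) (flp_i L141867) (flp_h L128946) L187214 L272139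
theorem L272251 : sm gh N22054 = N32140 := rfl
theorem L272259 : sm gi N32140 = N24224 := ded_54_2 (flp_h L205916) (flp_i L141939) (flp_h L128989) L187290 L272251
theorem L272281 : sm gd N22057 = N32143 := rfl
theorem L272283 : sm ga N32143 = N22098 := ded_12_1 (flp_d L187680) (flp_a L187321) L272281
theorem L272285 : sm gf N32143 = N22060 := ded_35_2 (flp_d L187347) (flp_f L187325) L272281
theorem L272290 : sm gi N22057 = N32144 := rfl
theorem L272292 : sm ga N32144 = N22099 := ded_18_1 (flp_i L187688) (flp_a L187321) L272290
theorem L272296 : sm gf N32144 = N22061 := ded_48_1 (flp_i L187355) (flp_f L187325) L272290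
theorem L272301 : sm gc N22058 = N32145 := rfl
theorem L272303 : sm ga N32145 = N22100 := ded_11_1 (flp_c L187698) (flp_a L187331) L272301
theorem L272305 : sm gf N32145 = N22062 := ded_29_2 (flp_c L187367) (flp_f L187333) L272301
theorem L272307 : sm gg N32145 = N32145 := ded_30_2 (flp_c L272301) L187335 L272301
theorem L272308 : sm gh N32145 = N32145 := ded_32_2 (flp_c L272301) L187336 L272301
theorem L272309 : sm gd N32145 = N22086 := ded_27_2 (flp_c L187574) (flp_d L129186) (flp_c L129023) L187329 L272301
theorem L272311 : sm ge N22058 = N32146 := rfl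
theorem L272313 : sm ga N32146 = N22101 := ded_13_1 (flp_e L187706) (flp_a L187331) L272311
theorem L272317 : sm gi N22058 = N32147 := rfl
theorem L272319 : sm ga N32147 = N22102 := ded_18_1 (flp_i L187711) (flp_a L187331) L272317
theorem L272321 : sm gd N32147 = N22059 := ded_39_1 (flp_i L187337) L187329 L272317
theorem L272323 : sm gf N32147 = N22064 := ded_48_1 (flp_i L187385) (flp_f L187333) L272317
theorem L272325 : sm gg N32147 = N32147 := ded_51_1 (flp_i L272317) L187335 L272317
theorem L272326 : sm gc N22060 = N32148 := rfl
theorem L272328 : sm ga N32148 = N22103 := ded_11_1 (flp_c L187719) (flp_a L187349) L272326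
theorem L272330 : sm gg N32148 = N32148 := ded_30_2 (flp_c L272326) L187351 L272326
theorem L272331 : sm gj N32148 = N22062 := ded_31_2 (flp_c L187367) (flp_j L187352) L272326
theorem L272333 : sm gh N32148 = N32148 := ded_32_2 (flp_c L272326) L187354 L272326
theorem L272334 : sm gd N32148 = N22089 := ded_27_2 (flp_c L187601) (flp_d L129205) (flp_c L129032) L187347 L272326
theorem L272336 : sm ge N22060 = N32149 := rfl
theorem L272338 : sm ga N32149 = N22104 := ded_13_1 (flp_e L187727) (flp_a L187349) L272336
theorem L272341 : sm gj N32149 = N22063 := ded_42_2 (flp_e L187376) (flp_j L187352) L272336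
theorem L272346 : sm gi N22060 = N32150 := rfl
theorem L272348 : sm ga N32150 = N22105 := ded_18_1 (flp_i L187736) (flp_a L187349) L272346
theorem L272350 : sm gd N32150 = N22061 := ded_39_1 (flp_i L187355) L187347 L272346
theorem L272352 : sm gg N32150 = N32150 := ded_51_1 (flp_i L272346) L187351 L272346
theorem L272353 : sm gj N32150 = N22064 := ded_53_1 (flp_i L187385) (flp_j L187352) L272346
theorem L272355 : sm gb N22062 = N32151 := rfl
theorem L272357 : sm gd N32151 = N22091 := ded_20_2 (flp_b L187620) (flp_d L187374) L272355
theorem L272359 : sm gg N32151 = N22065 := ded_23_2 (flp_b L187393) (flp_g L187371) L272355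
theorem L272361 : sm gh N32151 = N32151 := ded_25_2 (flp_b L272355) L187373 L272355
theorem L272362 : sm ge N22062 = N32152 := rfl
theorem L272364 : sm ga N32152 = N22107 := ded_13_1 (flp_e L187752) (flp_a L187369) L272362
theorem L272368 : sm gg N32152 = N22066 := ded_41_2 (flp_e L187400) (flp_g L187371) L272362
theorem L272371 : sm gi N22062 = N32153 := rfl
theorem L272373 : sm ga N32153 = N22108 := ded_18_1 (flp_i L187759) (flp_a L187369) L272371
theorem L272375 : sm gc N32153 = N22064 := ded_33_1 (flp_i L187385) L187367 L272371
theorem L272377 : sm gd N32153 = N22092 := ded_39_1 (flp_i L187627) (flp_d L187374) L272371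
theorem L272379 : sm gg N32153 = N22067 := ded_51_1 (flp_i L187408) (flp_g L187371) L272371
theorem L272381 : sm gf N22063 = N32154 := rfl
theorem L272383 : sm ga N32154 = N22109 := ded_14_1 (flp_f L187767) (flp_a L187378) L272381
theorem L272385 : sm gd N32154 = N22073 := ded_35_1 (flp_f L187462) (flp_d L187383) L272381
theorem L272398 : sm gh N22064 = N32156 := rfl
theorem L272400 : sm ga N32156 = N22111 := ded_17_1 (flp_h L187782) (flp_a L187387) L272398
theorem L272402 : sm gg N32156 = N22070 := ded_50_1 (flp_h L187436) (flp_g L187391) L272398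
theorem L272404 : sm gd N32156 = N32156 := ded_38_1 (flp_h L272398) L187389 L129056 (flp_d L187389) L272398
theorem L272405 : sm gi N32156 = N32156 := ded_54_2 (flp_h L272398) (flp_i L187385) L129045 L187385 L272398
theorem L272406 : sm ga N22065 = N32157 := rfl
theorem L272408 : sm gd N32157 = N22094 := ded_12_2 (flp_a L187645) (flp_d L187395) L272406
theorem L272410 : sm gf N32157 = N32157 := ded_14_2 (flp_a L272406) L187397 L272406
theorem L272411 : sm gj N32157 = N32157 := ded_16_2 (flp_a L272406) L187398 L272406
theorem L272412 : sm gh N32157 = N32157 := ded_17_2 (flp_a L272406) L187399 L272406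
theorem L272413 : sm gb N32157 = N22112 := ded_10_2 (flp_a L187789) (flp_b L129342) (flp_a L129059) L187393 L272406
theorem L272415 : sm ge N22065 = N32158 := rfl
theorem L272417 : sm gb N32158 = N22066 := ded_21_1 (flp_e L187400) L187393 L272415
theorem L272421 : sm gi N22065 = N32159 := rfl
theorem L272423 : sm gb N32159 = N22067 := ded_26_1 (flp_i L187408) L187393 L272421
theorem L272425 : sm gd N32159 = N22095 := ded_39_1 (flp_i L187654) (flp_d L187395) L272421
theorem L272427 : sm gf N32159 = N32159 := ded_48_1 (flp_i L272421) L187397 L272421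
theorem L272428 : sm gj N32159 = N32159 := ded_53_1 (flp_i L272421) L187398 L272421
theorem L272429 : sm gf N22066 = N32160 := rfl
theorem L272431 : sm ga N32160 = N22115 := ded_14_1 (flp_f L187813) (flp_a L187402) L272429
theorem L272438 : sm gi N22066 = N32161 := rfl
theorem L272447 : sm gh N22067 = N32162 := rfl
theorem L272449 : sm ga N32162 = N22117 := ded_17_1 (flp_h L187827) (flp_a L187410) L272447
theorem L272451 : sm gc N32162 = N22070 := ded_32_1 (flp_h L187436) (flp_c L187412) L272447
theorem L272453 : sm gf N32162 = N32162 := ded_47_1 (flp_h L272447) L187416 L272447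
theorem L272454 : sm gj N32162 = N32162 := ded_52_1 (flp_h L272447) L187417 L272447
theorem L272455 : sm gi N32162 = N32162 := ded_54_2 (flp_h L272447) (flp_i L187408) L129063 L187408 L272447
theorem L272456 : sm gg N22068 = N32163 := rfl
theorem L272458 : sm ga N32163 = N22118 := ded_15_1 (flp_g L187834) (flp_a L187420) L272456
theorem L272474 : sm gh N22069 = N32165 := rfl
theorem L272476 : sm ga N32165 = N22120 := ded_17_1 (flp_h L187850) (flp_a L187429) L272474
theorem L272478 : sm ge N32165 = N22070 := ded_43_1 (flp_h L187436) (flp_e L187433) L272474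
theorem L272482 : sm gf N22071 = N32166 := rfl
theorem L272484 : sm ga N32166 = N22121 := ded_14_1 (flp_f L187857) (flp_a L187446) L272482
theorem L272486 : sm gj N32166 = N22073 := ded_46_2 (flp_f L187462) (flp_j L187449) L272482
theorem L272490 : sm gi N22071 = N32167 := rfl
theorem L272492 : sm ga N32167 = N22122 := ded_18_1 (flp_i L187864) (flp_a L187446) L272490
theorem L272509 : sm gg N22073 = N32169 := rfl
theorem L272511 : sm ga N32169 = N22124 := ded_15_1 (flp_g L187881) (flp_a L187464) L272509
theorem L272533 : sm gj N22076 = N32172 := rfl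
theorem L272535 : sm ga N32172 = N22127 := ded_16_1 (flp_j L187902) (flp_a L187487) L272533
theorem L272537 : sm ge N32172 = N22079 := ded_42_1 (flp_j L187511) (flp_e L187489) L272533
theorem L272542 : sm gi N22076 = N32173 := rfl
theorem L272544 : sm ga N32173 = N22128 := ded_18_1 (flp_i L187910) (flp_a L187487) L272542
theorem L272569 : sm gi N22079 = N32176 := rfl
theorem L272571 : sm ga N32176 = N22131 := ded_18_1 (flp_i L187934) (flp_a L187513) L272569
theorem L272585 : sm gd N22081 = N32178 := rfl
theorem L272589 : sm gf N32178 = N22082 := ded_35_2 (flp_d L187535) (flp_f L187530) L272585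
theorem L272592 : sm gi N32178 = N24238 := ded_39_2 (flp_d L206028) (flp_i L187533) L272585
theorem L272604 : sm gd N22083 = N32180 := rfl
theorem L272606 : sm ga N32180 = N22135 := ded_12_1 (flp_d L187964) (flp_a L187546) L272604
theorem L272610 : sm gg N32180 = N22084 := ded_36_2 (flp_d L187553) (flp_g L187550) L272604
theorem L272613 : sm gh N32180 = N22178 := ded_38_2 (flp_d L188329) (flp_h L129747) (flp_d L129172) L187544 L272604
theorem L272615 : sm gi N22083 = N32181 := rfl
theorem L272617 : sm ga N32181 = N22136 := ded_18_1 (flp_i L187974) (flp_a L187546) L272615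
theorem L272625 : sm gc N22084 = N32182 := rfl
theorem L272627 : sm ga N32182 = N22137 := ded_11_1 (flp_c L187983) (flp_a L187555) L272625
theorem L272629 : sm gf N32182 = N22089 := ded_29_2 (flp_c L187601) (flp_f L187558) L272625
theorem L272631 : sm gj N32182 = N22086 := ded_31_2 (flp_c L187574) (flp_j L187560) L272625
theorem L272633 : sm gh N32182 = N22180 := ded_32_2 (flp_c L188350) (flp_h L187562) L272625
theorem L272635 : sm ge N22084 = N32183 := rfl
theorem L272640 : sm gj N32183 = N22087 := ded_42_2 (flp_e L187583) (flp_j L187560) L272635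
theorem L272642 : sm gh N32183 = N22181 := ded_43_2 (flp_e L188359) (flp_h L187562) L272635
theorem L272644 : sm gi N22084 = N32184 := rfl
theorem L272646 : sm ga N32184 = N22139 := ded_18_1 (flp_i L187999) (flp_a L187555) L272644
theorem L272648 : sm gb N32184 = N32184 := ded_26_1 (flp_i L272644) L187557 L272644
theorem L272649 : sm gd N32184 = N22085 := ded_39_1 (flp_i L187564) L187553 L272644
theorem L272651 : sm gf N32184 = N22090 := ded_48_1 (flp_i L187610) (flp_f L187558) L272644
theorem L272653 : sm gj N32184 = N22088 := ded_53_1 (flp_i L187591) (flp_j L187560) L272644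
theorem L272655 : sm gb N22086 = N32185 := rfl
theorem L272657 : sm gf N32185 = N22091 := ded_22_2 (flp_b L187620) (flp_f L187578) L272655
theorem L272659 : sm gg N32185 = N32185 := ded_23_2 (flp_b L272655) L187580 L272655
theorem L272660 : sm gh N32185 = N22183 := ded_25_2 (flp_b L188378) (flp_h L187581) L272655
theorem L272662 : sm gc N32185 = N32185 := ded_19_2 (flp_b L272655) (flp_c L187574) L129190 L187574 L272655
theorem L272663 : sm ge N22086 = N32186 := rfl
theorem L272665 : sm ga N32186 = N22141 := ded_13_1 (flp_e L188018) (flp_a L187576) L272663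
theorem L272667 : sm gc N32186 = N22087 := ded_28_1 (flp_e L187583) L187574 L272663
theorem L272669 : sm gg N32186 = N32186 := ded_41_2 (flp_e L272663) L187580 L272663
theorem L272670 : sm gh N32186 = N22184 := ded_43_2 (flp_e L188385) (flp_h L187581) L272663
theorem L272672 : sm gi N22086 = N32187 := rfl
theorem L272674 : sm ga N32187 = N22142 := ded_18_1 (flp_i L188025) (flp_a L187576) L272672
theorem L272676 : sm gc N32187 = N22088 := ded_33_1 (flp_i L187591) L187574 L272672
theorem L272678 : sm gf N32187 = N22092 := ded_48_1 (flp_i L187627) (flp_f L187578) L272672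
theorem L272680 : sm gg N32187 = N32187 := ded_51_1 (flp_i L272672) L187580 L272672
theorem L272681 : sm gi N22087 = N32188 := rfl
theorem L272683 : sm ga N32188 = N22143 := ded_18_1 (flp_i L188032) (flp_a L187585) L272681
theorem L272685 : sm gb N32188 = N32188 := ded_26_1 (flp_i L272681) L187587 L272681
theorem L272686 : sm ge N32188 = N22088 := ded_44_1 (flp_i L187591) L187583 L272681
theorem L272688 : sm gg N32188 = N32188 := ded_51_1 (flp_i L272681) L187588 L272681
theorem L272689 : sm gh N22088 = N32189 := rfl
theorem L272691 : sm ga N32189 = N22144 := ded_17_1 (flp_h L188039) (flp_a L187593) L272689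
theorem L272693 : sm gb N32189 = N32189 := ded_25_1 (flp_h L272689) L187595 L272689
theorem L272694 : sm gf N32189 = N22093 := ded_47_1 (flp_h L187635) (flp_f L187598) L272689
theorem L272696 : sm gg N32189 = N32189 := ded_50_1 (flp_h L272689) L187600 L272689
theorem L272697 : sm gd N32189 = N32189 := ded_38_1 (flp_h L272689) L187596 L129204 (flp_d L187596) L272689
theorem L272698 : sm gi N32189 = N22187 := ded_54_2 (flp_h L188411) (flp_i L129794) (flp_h L129194) L187591 L272689
theorem L272700 : sm gb N22089 = N32190 := rfl
theorem L272702 : sm gg N32190 = N32190 := ded_23_2 (flp_b L272700) L187605 L272700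
theorem L272703 : sm gj N32190 = N22091 := ded_24_2 (flp_b L187620) (flp_j L187606) L272700
theorem L272705 : sm gh N32190 = N22188 := ded_25_2 (flp_b L188420) (flp_h L187608) L272700
theorem L272707 : sm gc N32190 = N32190 := ded_19_2 (flp_b L272700) (flp_c L187601) L129209 L187601 L272700
theorem L272708 : sm gi N22089 = N32191 := rfl
theorem L272710 : sm ga N32191 = N22146 := ded_18_1 (flp_i L188058) (flp_a L187603) L272708
theorem L272712 : sm gc N32191 = N22090 := ded_33_1 (flp_i L187610) L187601 L272708
theorem L272714 : sm gg N32191 = N32191 := ded_51_1 (flp_i L272708) L187605 L272708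
theorem L272715 : sm gj N32191 = N22092 := ded_53_1 (flp_i L187627) (flp_j L187606) L272708
theorem L272717 : sm gh N22090 = N32192 := rfl
theorem L272719 : sm ga N32192 = N22147 := ded_17_1 (flp_h L188065) (flp_a L187612) L272717
theorem L272721 : sm gb N32192 = N32192 := ded_25_1 (flp_h L272717) L187614 L272717
theorem L272722 : sm gg N32192 = N32192 := ded_50_1 (flp_h L272717) L187617 L272717
theorem L272723 : sm gj N32192 = N22093 := ded_52_1 (flp_h L187635) (flp_j L187618) L272717
theorem L272725 : sm gd N32192 = N32192 := ded_38_1 (flp_h L272717) L187615 L129225 (flp_d L187615) L272717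
theorem L272728 : sm ga N22091 = N32193 := rfl
theorem L272730 : sm gc N32193 = N32193 := ded_11_2 (flp_a L272728) L187626 L272728
theorem L272731 : sm gg N32193 = N22094 := ded_15_2 (flp_a L187645) (flp_g L187622) L272728
theorem L272733 : sm gh N32193 = N22191 := ded_17_2 (flp_a L188446) (flp_h L187624) L272728
theorem L272735 : sm gb N32193 = N22148 := ded_10_2 (flp_a L188075) (flp_b L129541) (flp_a L129228) L187620 L272728
theorem L272737 : sm gi N22091 = N32194 := rfl
theorem L272739 : sm gb N32194 = N22092 := ded_26_1 (flp_i L187627) L187620 L272737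
theorem L272741 : sm gc N32194 = N32194 := ded_33_1 (flp_i L272737) L187626 L272737
theorem L272742 : sm gg N32194 = N22095 := ded_51_1 (flp_i L187654) (flp_g L187622) L272737
theorem L272744 : sm gh N22092 = N32195 := rfl
theorem L272746 : sm ga N32195 = N22150 := ded_17_1 (flp_h L188091) (flp_a L187629) L272744
theorem L272748 : sm gc N32195 = N22093 := ded_32_1 (flp_h L187635) (flp_c L187631) L272744
theorem L272750 : sm gg N32195 = N22096 := ded_50_1 (flp_h L187661) (flp_g L187633) L272744
theorem L272752 : sm gi N32195 = N22193 := ded_54_2 (flp_h L188462) (flp_i L129828) (flp_h L129232) L187627 L272744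
theorem L272754 : sm gi N22094 = N32196 := rfl
theorem L272756 : sm ga N32196 = N22095 := ded_18_1 (flp_i L187654) L187645 L272754
theorem L272758 : sm gb N32196 = N22151 := ded_26_1 (flp_i L188099) (flp_b L187652) L272754
theorem L272760 : sm gc N32196 = N32196 := ded_33_1 (flp_i L272754) L187647 L272754
theorem L272761 : sm gf N32196 = N32196 := ded_48_1 (flp_i L272754) L187648 L272754
theorem L272762 : sm gj N32196 = N32196 := ded_53_1 (flp_i L272754) L187649 L272754
theorem L272763 : sm gh N22095 = N32197 := rfl
theorem L272765 : sm gb N32197 = N22096 := ded_25_1 (flp_h L187661) (flp_b L187656) L272763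
theorem L272767 : sm gc N32197 = N32197 := ded_32_1 (flp_h L272763) L187658 L272763
theorem L272768 : sm gf N32197 = N32197 := ded_47_1 (flp_h L272763) L187659 L272763
theorem L272769 : sm gj N32197 = N32197 := ded_52_1 (flp_h L272763) L187660 L272763
theorem L272770 : sm gi N32197 = N22195 := ded_54_2 (flp_h L188480) (flp_i L129853) (flp_h L129247) L187654 L272763
theorem L272772 : sm gd N22096 = N32198 := rfl
theorem L272774 : sm ga N32198 = N22153 := ded_12_1 (flp_d L188117) (flp_a L187663) L272772
theorem L272776 : sm gf N32198 = N32198 := ded_35_2 (flp_d L272772) L187667 L272772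
theorem L272777 : sm gj N32198 = N32198 := ded_37_2 (flp_d L272772) L187668 L272772
theorem L272778 : sm gi N32198 = N22196 := ded_39_2 (flp_d L188487) (flp_i L187669) L272772
theorem L272780 : sm gc N32198 = N32198 := ded_27_1 (flp_d L272772) L187665 L129265 (flp_c L187665) L272772
theorem L272781 : sm gd N22097 = N32199 := rfl
theorem L272785 : sm gg N32199 = N22098 := ded_36_2 (flp_d L187680) (flp_g L187677) L272781
theorem L272789 : sm gi N22097 = N32200 := rfl
theorem L272792 : sm gc N32200 = N22136 := ded_33_1 (flp_i L187974) (flp_c L187674) L272789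
theorem L272795 : sm gg N32200 = N22099 := ded_51_1 (flp_i L187688) (flp_g L187677) L272789
theorem L272799 : sm gc N22098 = N32201 := rfl
theorem L272801 : sm gf N32201 = N22103 := ded_29_2 (flp_c L187719) (flp_f L187683) L272799
theorem L272803 : sm gj N32201 = N22100 := ded_31_2 (flp_c L187698) (flp_j L187685) L272799
theorem L272805 : sm gh N32201 = N32201 := ded_32_2 (flp_c L272799) L187687 L272799
theorem L272806 : sm gd N32201 = N22137 := ded_27_2 (flp_c L187983) (flp_d L129483) (flp_c L129280) L187680 L272799
theorem L272808 : sm ge N22098 = N32202 := rfl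
theorem L272811 : sm gj N32202 = N22101 := ded_42_2 (flp_e L187706) (flp_j L187685) L272808
theorem L272814 : sm gi N22098 = N32203 := rfl
theorem L272816 : sm gb N32203 = N32203 := ded_26_1 (flp_i L272814) L187682 L272814
theorem L272817 : sm gd N32203 = N22099 := ded_39_1 (flp_i L187688) L187680 L272814
theorem L272819 : sm gf N32203 = N22105 := ded_48_1 (flp_i L187736) (flp_f L187683) L272814
theorem L272821 : sm gj N32203 = N22102 := ded_53_1 (flp_i L187711) (flp_j L187685) L272814
theorem L272823 : sm gb N22100 = N32204 := rfl
theorem L272825 : sm gd N32204 = N22140 := ded_20_2 (flp_b L188009) (flp_d L187704) L272823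
theorem L272827 : sm gf N32204 = N22106 := ded_22_2 (flp_b L187744) (flp_f L187700) L272823
theorem L272829 : sm gg N32204 = N32204 := ded_23_2 (flp_b L272823) L187702 L272823
theorem L272830 : sm gh N32204 = N32204 := ded_25_2 (flp_b L272823) L187703 L272823
theorem L272831 : sm gc N32204 = N32204 := ded_19_2 (flp_b L272823) (flp_c L187698) L129288 L187698 L272823
theorem L272832 : sm ge N22100 = N32205 := rfl
theorem L272834 : sm gc N32205 = N22101 := ded_28_1 (flp_e L187706) L187698 L272832
theorem L272836 : sm gg N32205 = N32205 := ded_41_2 (flp_e L272832) L187702 L272832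
theorem L272837 : sm gh N32205 = N32205 := ded_43_2 (flp_e L272832) L187703 L272832
theorem L272838 : sm gi N22100 = N32206 := rfl
theorem L272840 : sm gc N32206 = N22102 := ded_33_1 (flp_i L187711) L187698 L272838
theorem L272842 : sm gd N32206 = N22142 := ded_39_1 (flp_i L188025) (flp_d L187704) L272838
theorem L272844 : sm gf N32206 = N22108 := ded_48_1 (flp_i L187759) (flp_f L187700) L272838
theorem L272846 : sm gg N32206 = N32206 := ded_51_1 (flp_i L272838) L187702 L272838
theorem L272847 : sm gf N22101 = N32207 := rfl
theorem L272849 : sm gb N32207 = N32207 := ded_22_1 (flp_f L272847) L187708 L272847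
theorem L272850 : sm gh N32207 = N32207 := ded_47_2 (flp_f L272847) L187710 L272847
theorem L272851 : sm ge N32207 = N22109 := ded_40_1 (flp_f L187767) (flp_e L129327) (flp_f L129289) L187706 L272847
theorem L272853 : sm gi N22101 = N32208 := rfl
theorem L272855 : sm gb N32208 = N32208 := ded_26_1 (flp_i L272853) L187708 L272853
theorem L272856 : sm ge N32208 = N22102 := ded_44_1 (flp_i L187711) L187706 L272853
theorem L272858 : sm gg N32208 = N32208 := ded_51_1 (flp_i L272853) L187709 L272853
theorem L272859 : sm gh N22102 = N32209 := rfl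
theorem L272861 : sm gb N32209 = N32209 := ded_25_1 (flp_h L272859) L187713 L272859
theorem L272862 : sm gf N32209 = N22111 := ded_47_1 (flp_h L187782) (flp_f L187716) L272859
theorem L272864 : sm gg N32209 = N32209 := ded_50_1 (flp_h L272859) L187718 L272859
theorem L272865 : sm gd N32209 = N32209 := ded_38_1 (flp_h L272859) L187714 L129301 (flp_d L187714) L272859
theorem L272866 : sm gi N32209 = N32209 := ded_54_2 (flp_h L272859) (flp_i L187711) L129292 L187711 L272859
theorem L272867 : sm gb N22103 = N32210 := rfl
theorem L272869 : sm gd N32210 = N22145 := ded_20_2 (flp_b L188049) (flp_d L187725) L272867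
theorem L272871 : sm gg N32210 = N32210 := ded_23_2 (flp_b L272867) L187721 L272867
theorem L272872 : sm gj N32210 = N22106 := ded_24_2 (flp_b L187744) (flp_j L187722) L272867
theorem L272874 : sm gh N32210 = N32210 := ded_25_2 (flp_b L272867) L187724 L272867
theorem L272875 : sm gc N32210 = N32210 := ded_19_2 (flp_b L272867) (flp_c L187719) L129304 L187719 L272867
theorem L272876 : sm ge N22103 = N32211 := rfl
theorem L272878 : sm gc N32211 = N22104 := ded_28_1 (flp_e L187727) L187719 L272876
theorem L272880 : sm gg N32211 = N32211 := ded_41_2 (flp_e L272876) L187721 L272876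
theorem L272881 : sm gj N32211 = N22107 := ded_42_2 (flp_e L187752) (flp_j L187722) L272876
theorem L272883 : sm gh N32211 = N32211 := ded_43_2 (flp_e L272876) L187724 L272876
theorem L272884 : sm gi N22103 = N32212 := rfl
theorem L272886 : sm gc N32212 = N22105 := ded_33_1 (flp_i L187736) L187719 L272884
theorem L272888 : sm gd N32212 = N22146 := ded_39_1 (flp_i L188058) (flp_d L187725) L272884
theorem L272890 : sm gg N32212 = N32212 := ded_51_1 (flp_i L272884) L187721 L272884
theorem L272891 : sm gj N32212 = N22108 := ded_53_1 (flp_i L187759) (flp_j L187722) L272884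
theorem L272893 : sm gf N22104 = N32213 := rfl
theorem L272895 : sm gb N32213 = N32213 := ded_22_1 (flp_f L272893) L187729 L272893
theorem L272896 : sm gd N32213 = N22121 := ded_35_1 (flp_f L187857) (flp_d L187734) L272893
theorem L272898 : sm gj N32213 = N22109 := ded_46_2 (flp_f L187767) (flp_j L187731) L272893
theorem L272900 : sm gh N32213 = N32213 := ded_47_2 (flp_f L272893) L187733 L272893
theorem L272901 : sm gi N22104 = N32214 := rfl
theorem L272903 : sm gb N32214 = N32214 := ded_26_1 (flp_i L272901) L187729 L272901
theorem L272904 : sm gd N32214 = N22122 := ded_39_1 (flp_i L187864) (flp_d L187734) L272901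
theorem L272906 : sm ge N32214 = N22105 := ded_44_1 (flp_i L187736) L187727 L272901
theorem L272908 : sm gg N32214 = N32214 := ded_51_1 (flp_i L272901) L187730 L272901
theorem L272909 : sm gj N32214 = N22110 := ded_53_1 (flp_i L187773) (flp_j L187731) L272901
theorem L272911 : sm gh N22105 = N32215 := rfl
theorem L272913 : sm gb N32215 = N32215 := ded_25_1 (flp_h L272911) L187738 L272911
theorem L272914 : sm gg N32215 = N32215 := ded_50_1 (flp_h L272911) L187741 L272911
theorem L272915 : sm gj N32215 = N22111 := ded_52_1 (flp_h L187782) (flp_j L187742) L272911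
theorem L272917 : sm gd N32215 = N32215 := ded_38_1 (flp_h L272911) L187739 L129319 (flp_d L187739) L272911
theorem L272918 : sm gi N32215 = N32215 := ded_54_2 (flp_h L272911) (flp_i L187736) L129308 L187736 L272911
theorem L272919 : sm ga N22106 = N32216 := rfl
theorem L272921 : sm gc N32216 = N32216 := ded_11_2 (flp_a L272919) L187751 L272919
theorem L272922 : sm gd N32216 = N22148 := ded_12_2 (flp_a L188075) (flp_d L187746) L272919
theorem L272924 : sm gg N32216 = N22112 := ded_15_2 (flp_a L187789) (flp_g L187748) L272919
theorem L272926 : sm gh N32216 = N32216 := ded_17_2 (flp_a L272919) L187750 L272919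
theorem L272927 : sm ge N22106 = N32217 := rfl
theorem L272929 : sm gb N32217 = N22107 := ded_21_1 (flp_e L187752) L187744 L272927
theorem L272931 : sm gc N32217 = N32217 := ded_28_1 (flp_e L272927) L187751 L272927
theorem L272932 : sm gg N32217 = N22113 := ded_41_2 (flp_e L187797) (flp_g L187748) L272927
theorem L272934 : sm gh N32217 = N32217 := ded_43_2 (flp_e L272927) L187750 L272927
theorem L272935 : sm gi N22106 = N32218 := rfl
theorem L272937 : sm gb N32218 = N22108 := ded_26_1 (flp_i L187759) L187744 L272935
theorem L272939 : sm gc N32218 = N32218 := ded_33_1 (flp_i L272935) L187751 L272935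
theorem L272940 : sm gd N32218 = N22149 := ded_39_1 (flp_i L188083) (flp_d L187746) L272935
theorem L272942 : sm gg N32218 = N22114 := ded_51_1 (flp_i L187804) (flp_g L187748) L272935
theorem L272944 : sm gf N22107 = N32219 := rfl
theorem L272946 : sm gc N32219 = N22109 := ded_29_1 (flp_f L187767) (flp_c L187754) L272944
theorem L272948 : sm gh N32219 = N32219 := ded_47_2 (flp_f L272944) L187758 L272944
theorem L272949 : sm gi N22107 = N32220 := rfl
theorem L272951 : sm gc N32220 = N22110 := ded_33_1 (flp_i L187773) (flp_c L187754) L272949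
theorem L272953 : sm ge N32220 = N22108 := ded_44_1 (flp_i L187759) L187752 L272949
theorem L272955 : sm gg N32220 = N22116 := ded_51_1 (flp_i L187820) (flp_g L187756) L272949
theorem L272957 : sm gh N22108 = N32221 := rfl
theorem L272959 : sm gc N32221 = N22111 := ded_32_1 (flp_h L187782) (flp_c L187761) L272957
theorem L272961 : sm gg N32221 = N22117 := ded_50_1 (flp_h L187827) (flp_g L187765) L272957
theorem L272963 : sm gi N32221 = N32221 := ded_54_2 (flp_h L272957) (flp_i L187759) L129324 L187759 L272957
theorem L272964 : sm gg N22109 = N32222 := rfl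
theorem L272966 : sm gb N32222 = N32222 := ded_23_1 (flp_g L272964) L187769 L272964
theorem L272967 : sm gd N32222 = N22124 := ded_36_1 (flp_g L187881) (flp_d L187770) L272964
theorem L272969 : sm gh N32222 = N32222 := ded_50_2 (flp_g L272964) L187772 L272964
theorem L272970 : sm gf N32222 = N22118 := ded_45_1 (flp_g L187834) (flp_f L129364) (flp_g L129330) L187767 L272964
theorem L272972 : sm gi N22109 = N32223 := rfl
theorem L272974 : sm gb N32223 = N32223 := ded_26_1 (flp_i L272972) L187769 L272972
theorem L272975 : sm gd N32223 = N22125 := ded_39_1 (flp_i L187888) (flp_d L187770) L272972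
theorem L272977 : sm gf N32223 = N22110 := ded_48_1 (flp_i L187773) L187767 L272972
theorem L272979 : sm gh N22110 = N32224 := rfl
theorem L272981 : sm gb N32224 = N32224 := ded_25_1 (flp_h L272979) L187775 L272979
theorem L272982 : sm ge N32224 = N22111 := ded_43_1 (flp_h L187782) (flp_e L187778) L272979
theorem L272984 : sm gg N32224 = N22120 := ded_50_1 (flp_h L187850) (flp_g L187780) L272979
theorem L272986 : sm gi N32224 = N32224 := ded_54_2 (flp_h L272979) (flp_i L187773) L129332 L187773 L272979
theorem L272987 : sm ge N22112 = N32225 := rfl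
theorem L272989 : sm ga N32225 = N22113 := ded_13_1 (flp_e L187797) L187789 L272987
theorem L272991 : sm gc N32225 = N32225 := ded_28_1 (flp_e L272987) L187791 L272987
theorem L272992 : sm gj N32225 = N32225 := ded_42_2 (flp_e L272987) L187795 L272987
theorem L272993 : sm gh N32225 = N32225 := ded_43_2 (flp_e L272987) L187796 L272987
theorem L272994 : sm gi N22112 = N32226 := rfl
theorem L272996 : sm ga N32226 = N22114 := ded_18_1 (flp_i L187804) L187789 L272994
theorem L272998 : sm gc N32226 = N32226 := ded_33_1 (flp_i L272994) L187791 L272994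
theorem L272999 : sm gd N32226 = N22151 := ded_39_1 (flp_i L188099) (flp_d L187792) L272994
theorem L273001 : sm gf N32226 = N32226 := ded_48_1 (flp_i L272994) L187794 L272994
theorem L273002 : sm gj N32226 = N32226 := ded_53_1 (flp_i L272994) L187795 L272994
theorem L273003 : sm gf N22113 = N32227 := rfl
theorem L273005 : sm gb N32227 = N22115 := ded_22_1 (flp_f L187813) (flp_b L187799) L273003
theorem L273007 : sm gc N32227 = N32227 := ded_29_1 (flp_f L273003) L187801 L273003
theorem L273008 : sm gj N32227 = N32227 := ded_46_2 (flp_f L273003) L187802 L273003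
theorem L273009 : sm gh N32227 = N32227 := ded_47_2 (flp_f L273003) L187803 L273003
theorem L273010 : sm ge N32227 = N32227 := ded_40_1 (flp_f L273003) (flp_e L187797) L129346 L187797 L273003
theorem L273011 : sm gi N22113 = N32228 := rfl
theorem L273013 : sm gb N32228 = N22116 := ded_26_1 (flp_i L187820) (flp_b L187799) L273011
theorem L273015 : sm gc N32228 = N32228 := ded_33_1 (flp_i L273011) L187801 L273011
theorem L273016 : sm ge N32228 = N22114 := ded_44_1 (flp_i L187804) L187797 L273011
theorem L273018 : sm gj N32228 = N32228 := ded_53_1 (flp_i L273011) L187802 L273011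
theorem L273019 : sm gh N22114 = N32229 := rfl
theorem L273021 : sm gb N32229 = N22117 := ded_25_1 (flp_h L187827) (flp_b L187806) L273019
theorem L273023 : sm gc N32229 = N32229 := ded_32_1 (flp_h L273019) L187808 L273019
theorem L273024 : sm gf N32229 = N32229 := ded_47_1 (flp_h L273019) L187811 L273019
theorem L273025 : sm gj N32229 = N32229 := ded_52_1 (flp_h L273019) L187812 L273019
theorem L273026 : sm gi N32229 = N32229 := ded_54_2 (flp_h L273019) (flp_i L187804) L129348 L187804 L273019
theorem L273027 : sm gg N22115 = N32230 := rfl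
theorem L273029 : sm gc N32230 = N22118 := ded_30_1 (flp_g L187834) (flp_c L187815) L273027
theorem L273031 : sm ge N32230 = N32230 := ded_41_1 (flp_g L273027) L187819 L273027
theorem L273032 : sm gh N32230 = N32230 := ded_50_2 (flp_g L273027) L187818 L273027
theorem L273033 : sm gi N22115 = N32231 := rfl
theorem L273035 : sm gc N32231 = N22119 := ded_33_1 (flp_i L187841) (flp_c L187815) L273033
theorem L273037 : sm ge N32231 = N32231 := ded_44_1 (flp_i L273033) L187819 L273033
theorem L273038 : sm gf N32231 = N22116 := ded_48_1 (flp_i L187820) L187813 L273033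
theorem L273040 : sm gj N32231 = N32231 := ded_53_1 (flp_i L273033) L187817 L273033
theorem L273041 : sm gh N22116 = N32232 := rfl
theorem L273043 : sm gc N32232 = N22120 := ded_32_1 (flp_h L187850) (flp_c L187822) L273041
theorem L273045 : sm ge N32232 = N22117 := ded_43_1 (flp_h L187827) (flp_e L187824) L273041
theorem L273047 : sm gj N32232 = N32232 := ded_52_1 (flp_h L273041) L187826 L273041
theorem L273048 : sm gi N32232 = N32232 := ded_54_2 (flp_h L273041) (flp_i L187820) L129355 L187820 L273041
theorem L273049 : sm gd N22117 = N32233 := rfl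
theorem L273051 : sm gf N32233 = N32233 := ded_35_2 (flp_d L273049) L187831 L273049
theorem L273052 : sm gj N32233 = N32233 := ded_37_2 (flp_d L273049) L187832 L273049
theorem L273053 : sm gi N32233 = N32233 := ded_39_2 (flp_d L273049) L187833 L273049
theorem L273054 : sm gc N32233 = N32233 := ded_27_1 (flp_d L273049) L187829 L129385 (flp_c L187829) L273049
theorem L273055 : sm gh N32233 = N22153 := ded_38_2 (flp_d L188117) (flp_h L129580) (flp_d L129360) L187827 L273049
theorem L273057 : sm gj N22118 = N32234 := rfl
theorem L273059 : sm gb N32234 = N32234 := ded_24_1 (flp_j L273057) L187836 L273057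
theorem L273060 : sm gd N32234 = N22127 := ded_37_1 (flp_j L187902) (flp_d L187837) L273057
theorem L273062 : sm ge N32234 = N32234 := ded_42_1 (flp_j L273057) L187839 L273057
theorem L273063 : sm gh N32234 = N32234 := ded_52_2 (flp_j L273057) L187840 L273057
theorem L273064 : sm gg N32234 = N32234 := ded_49_1 (flp_j L273057) (flp_g L187834) L129369 L187834 L273057
theorem L273065 : sm gi N22118 = N32235 := rfl
theorem L273067 : sm gb N32235 = N32235 := ded_26_1 (flp_i L273065) L187836 L273065
theorem L273068 : sm gd N32235 = N22128 := ded_39_1 (flp_i L187910) (flp_d L187837) L273065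
theorem L273070 : sm ge N32235 = N32235 := ded_44_1 (flp_i L273065) L187839 L273065
theorem L273071 : sm gg N32235 = N22119 := ded_51_1 (flp_i L187841) L187834 L273065
theorem L273073 : sm gh N22119 = N32236 := rfl
theorem L273075 : sm gb N32236 = N32236 := ded_25_1 (flp_h L273073) L187843 L273073
theorem L273076 : sm ge N32236 = N32236 := ded_43_1 (flp_h L273073) L187846 L273073
theorem L273077 : sm gf N32236 = N22120 := ded_47_1 (flp_h L187850) (flp_f L187847) L273073
theorem L273079 : sm gj N32236 = N32236 := ded_52_1 (flp_h L273073) L187849 L273073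
theorem L273080 : sm gi N32236 = N32236 := ded_54_2 (flp_h L273073) (flp_i L187841) L129370 L187841 L273073
theorem L273081 : sm gd N22120 = N32237 := rfl
theorem L273087 : sm gh N32237 = N22130 := ded_38_2 (flp_d L187927) (flp_h L129438) (flp_d L129375) L187850 L273081
theorem L273089 : sm gg N22121 = N32238 := rfl
theorem L273091 : sm gb N32238 = N32238 := ded_23_1 (flp_g L273089) L187859 L273089
theorem L273092 : sm gh N32238 = N24240 := ded_50_2 (flp_g L206045) (flp_h L187862) L273089
theorem L273094 : sm gf N32238 = N32238 := ded_45_1 (flp_g L273089) (flp_f L187857) L129390 L187857 L273089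
theorem L273095 : sm gi N22121 = N32239 := rfl
theorem L273097 : sm gb N32239 = N32239 := ded_26_1 (flp_i L273095) L187859 L273095
theorem L273098 : sm gf N32239 = N22122 := ded_48_1 (flp_i L187864) L187857 L273095
theorem L273100 : sm gj N32239 = N22125 := ded_53_1 (flp_i L187888) (flp_j L187860) L273095
theorem L273102 : sm gh N22122 = N32240 := rfl
theorem L273108 : sm gj N32240 = N22126 := ded_52_1 (flp_h L187893) (flp_j L187870) L273102
theorem L273112 : sm gj N22124 = N32241 := rfl
theorem L273114 : sm gb N32241 = N32241 := ded_24_1 (flp_j L273112) L187883 L273112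
theorem L273115 : sm gf N32241 = N22127 := ded_46_1 (flp_j L187902) (flp_f L187886) L273112
theorem L273117 : sm gh N32241 = N24243 := ded_52_2 (flp_j L206066) (flp_h L187884) L273112
theorem L273119 : sm gi N22124 = N32242 := rfl
theorem L273121 : sm gb N32242 = N32242 := ded_26_1 (flp_i L273119) L187883 L273119
theorem L273122 : sm gf N32242 = N22128 := ded_48_1 (flp_i L187910) (flp_f L187886) L273119
theorem L273124 : sm gg N32242 = N22125 := ded_51_1 (flp_i L187888) L187881 L273119
theorem L273126 : sm gh N22125 = N32243 := rfl
theorem L273129 : sm gf N32243 = N22126 := ded_47_1 (flp_h L187893) (flp_f L187891) L273126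
theorem L273141 : sm gi N22127 = N32245 := rfl
theorem L273143 : sm gb N32245 = N32245 := ded_26_1 (flp_i L273141) L187904 L273141
theorem L273144 : sm ge N32245 = N22131 := ded_44_1 (flp_i L187934) (flp_e L187905) L273141
theorem L273146 : sm gg N32245 = N32245 := ded_51_1 (flp_i L273141) L187909 L273141
theorem L273147 : sm gj N32245 = N22128 := ded_53_1 (flp_i L187910) L187902 L273141
theorem L273149 : sm gh N22128 = N32246 := rfl
theorem L273172 : sm gh N22131 = N32249 := rfl
theorem L273178 : sm gi N32249 = N24251 := ded_54_2 (flp_h L206120) (flp_i L142119) (flp_h L129450) L187934 L273172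
theorem L273188 : sm gc N22133 = N32251 := rfl
theorem L273194 : sm gi N32251 = N24253 := ded_33_2 (flp_c L206133) (flp_i L187954) L273188
theorem L273196 : sm ge N22133 = N32252 := rfl
theorem L273201 : sm gi N32252 = N24254 := ded_44_2 (flp_e L206140) (flp_i L187954) L273196
theorem L273204 : sm gb N22134 = N32253 := rfl
theorem L273209 : sm gi N32253 = N24255 := ded_26_2 (flp_b L206147) (flp_i L187962) L273204
theorem L273212 : sm gc N22135 = N32254 := rfl
theorem L273218 : sm gh N32254 = N22197 := ded_32_2 (flp_c L188495) (flp_h L187972) L273212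
theorem L273229 : sm gi N22135 = N32256 := rfl
theorem L273233 : sm gd N32256 = N22136 := ded_39_1 (flp_i L187974) L187964 L273229
theorem L273236 : sm gg N32256 = N22139 := ded_51_1 (flp_i L187999) (flp_g L187969) L273229
theorem L273239 : sm gb N22137 = N32257 := rfl
theorem L273241 : sm gf N32257 = N22145 := ded_22_2 (flp_b L188049) (flp_f L187985) L273239
theorem L273247 : sm gc N32257 = N22157 := ded_19_2 (flp_b L188151) (flp_c L129606) (flp_b L129485) L187983 L273239
theorem L273249 : sm ge N22137 = N32258 := rfl
theorem L273251 : sm gc N32258 = N22138 := ded_28_1 (flp_e L187991) L187983 L273249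
theorem L273253 : sm gj N32258 = N22141 := ded_42_2 (flp_e L188018) (flp_j L187987) L273249
theorem L273257 : sm gi N22137 = N32259 := rfl
theorem L273259 : sm gc N32259 = N22139 := ded_33_1 (flp_i L187999) L187983 L273257
theorem L273261 : sm gf N32259 = N22146 := ded_48_1 (flp_i L188058) (flp_f L187985) L273257
theorem L273263 : sm gj N32259 = N22142 := ded_53_1 (flp_i L188025) (flp_j L187987) L273257
theorem L273265 : sm gi N22138 = N32260 := rfl
theorem L273271 : sm gj N32260 = N22143 := ded_53_1 (flp_i L188032) (flp_j L187995) L273265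
theorem L273273 : sm gh N22139 = N32261 := rfl
theorem L273277 : sm gf N32261 = N22147 := ded_47_1 (flp_h L188065) (flp_f L188005) L273273
theorem L273284 : sm ga N22140 = N32262 := rfl
theorem L273286 : sm gc N32262 = N22162 := ded_11_2 (flp_a L188196) (flp_c L188016) L273284
theorem L273288 : sm gf N32262 = N22148 := ded_14_2 (flp_a L188075) (flp_f L188011) L273284
theorem L273290 : sm gg N32262 = N32262 := ded_15_2 (flp_a L273284) L188013 L273284
theorem L273291 : sm gh N32262 = N22205 := ded_17_2 (flp_a L188562) (flp_h L188014) L273284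
theorem L273293 : sm ge N22140 = N32263 := rfl
theorem L273295 : sm gb N32263 = N22141 := ded_21_1 (flp_e L188018) L188009 L273293
theorem L273302 : sm gi N22140 = N32264 := rfl
theorem L273304 : sm gb N32264 = N22142 := ded_26_1 (flp_i L188025) L188009 L273302
theorem L273306 : sm gc N32264 = N22164 := ded_33_1 (flp_i L188212) (flp_c L188016) L273302
theorem L273308 : sm gf N32264 = N22149 := ded_48_1 (flp_i L188083) (flp_f L188011) L273302
theorem L273310 : sm gg N32264 = N32264 := ded_51_1 (flp_i L273302) L188013 L273302
theorem L273311 : sm gd N22141 = N32265 := rfl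
theorem L273313 : sm gg N32265 = N32265 := ded_36_2 (flp_d L273311) L188022 L273311
theorem L273314 : sm gi N22141 = N32266 := rfl
theorem L273316 : sm gc N32266 = N22143 := ded_33_1 (flp_i L188032) (flp_c L188020) L273314
theorem L273318 : sm ge N32266 = N22142 := ded_44_1 (flp_i L188025) L188018 L273314
theorem L273320 : sm gg N32266 = N32266 := ded_51_1 (flp_i L273314) L188022 L273314
theorem L273321 : sm gh N22142 = N32267 := rfl
theorem L273323 : sm gc N32267 = N22144 := ded_32_1 (flp_h L188039) (flp_c L188027) L273321
theorem L273325 : sm gf N32267 = N22150 := ded_47_1 (flp_h L188091) (flp_f L188029) L273321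
theorem L273327 : sm gg N32267 = N32267 := ded_50_1 (flp_h L273321) L188031 L273321
theorem L273328 : sm gi N32267 = N22210 := ded_54_2 (flp_h L188599) (flp_i L129925) (flp_h L129507) L188025 L273321
theorem L273330 : sm gh N22143 = N32268 := rfl
theorem L273337 : sm gi N32268 = N22211 := ded_54_2 (flp_h L188606) (flp_i L129933) (flp_h L129514) L188032 L273330
theorem L273339 : sm ga N22145 = N32269 := rfl
theorem L273341 : sm gc N32269 = N22169 := ded_11_2 (flp_a L188251) (flp_c L188056) L273339
theorem L273343 : sm gg N32269 = N32269 := ded_15_2 (flp_a L273339) L188051 L273339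
theorem L273344 : sm gj N32269 = N22148 := ded_16_2 (flp_a L188075) (flp_j L188052) L273339
theorem L273348 : sm gi N22145 = N32270 := rfl
theorem L273350 : sm gb N32270 = N22146 := ded_26_1 (flp_i L188058) L188049 L273348
theorem L273355 : sm gj N32270 = N22149 := ded_53_1 (flp_i L188083) (flp_j L188052) L273348
theorem L273357 : sm gh N22146 = N32271 := rfl
theorem L273359 : sm gc N32271 = N22147 := ded_32_1 (flp_h L188065) (flp_c L188060) L273357
theorem L273362 : sm gj N32271 = N22150 := ded_52_1 (flp_h L188091) (flp_j L188063) L273357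
theorem L273366 : sm gi N22148 = N32272 := rfl
theorem L273368 : sm ga N32272 = N22149 := ded_18_1 (flp_i L188083) L188075 L273366
theorem L273370 : sm gc N32272 = N22172 := ded_33_1 (flp_i L188278) (flp_c L188077) L273366
theorem L273372 : sm gg N32272 = N22151 := ded_51_1 (flp_i L188099) (flp_g L188079) L273366
theorem L273374 : sm gh N22149 = N32273 := rfl
theorem L273376 : sm gb N32273 = N22150 := ded_25_1 (flp_h L188091) (flp_b L188085) L273374
theorem L273380 : sm gg N32273 = N22152 := ded_50_1 (flp_h L188107) (flp_g L188089) L273374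
theorem L273382 : sm gi N32273 = N22216 := ded_54_2 (flp_h L188647) (flp_i L129980) (flp_h L129545) L188083 L273374
theorem L273384 : sm gd N22150 = N32274 := rfl
theorem L273386 : sm gg N32274 = N22153 := ded_36_2 (flp_d L188117) (flp_g L188095) L273384
theorem L273388 : sm gi N32274 = N22217 := ded_39_2 (flp_d L188655) (flp_i L188097) L273384
theorem L273390 : sm gc N32274 = N32274 := ded_27_1 (flp_d L273384) L188093 L129561 (flp_c L188093) L273384
theorem L273391 : sm gh N22151 = N32275 := rfl
theorem L273393 : sm ga N32275 = N22152 := ded_17_1 (flp_h L188107) (flp_a L188101) L273391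
theorem L273395 : sm gc N32275 = N22175 := ded_32_1 (flp_h L188303) (flp_c L188103) L273391
theorem L273397 : sm gf N32275 = N32275 := ded_47_1 (flp_h L273391) L188105 L273391
theorem L273398 : sm gj N32275 = N32275 := ded_52_1 (flp_h L273391) L188106 L273391
theorem L273399 : sm gi N32275 = N22218 := ded_54_2 (flp_h L188661) (flp_i L129995) (flp_h L129570) L188099 L273391
theorem L273401 : sm gd N22152 = N32276 := rfl
theorem L273403 : sm gb N32276 = N22153 := ded_20_1 (flp_d L188117) (flp_b L188109) L273401
theorem L273405 : sm gf N32276 = N32276 := ded_35_2 (flp_d L273401) L188113 L273401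
theorem L273406 : sm gj N32276 = N32276 := ded_37_2 (flp_d L273401) L188114 L273401
theorem L273407 : sm gi N32276 = N22219 := ded_39_2 (flp_d L188669) (flp_i L188115) L273401
theorem L273409 : sm ge N22153 = N32277 := rfl
theorem L273411 : sm gc N32277 = N32277 := ded_28_1 (flp_e L273409) L188123 L273409
theorem L273412 : sm gj N32277 = N32277 := ded_42_2 (flp_e L273409) L188120 L273409
theorem L273413 : sm gi N32277 = N22220 := ded_44_2 (flp_e L188676) (flp_i L188121) L273409
theorem L273415 : sm gb N22154 = N32278 := rfl
theorem L273419 : sm gg N32278 = N22157 := ded_23_2 (flp_b L188151) (flp_g L188128) L273415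
theorem L273422 : sm gh N32278 = N22221 := ded_25_2 (flp_b L188681) (flp_h L188131) L273415
theorem L273444 : sm gf N22155 = N32281 := rfl
theorem L273448 : sm gh N32281 = N22224 := ded_47_2 (flp_f L188708) (flp_h L188140) L273444
theorem L273451 : sm gi N22155 = N32282 := rfl
theorem L273454 : sm ge N32282 = N22156 := ded_44_1 (flp_i L188142) L188134 L273451
theorem L273456 : sm gg N32282 = N22160 := ded_51_1 (flp_i L188179) (flp_g L188137) L273451
theorem L273459 : sm gh N22156 = N32283 := rfl
theorem L273467 : sm gi N32283 = N22226 := ded_54_2 (flp_h L188723) (flp_i L130034) (flp_h L129595) L188142 L273459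
theorem L273469 : sm ga N22157 = N32284 := rfl
theorem L273472 : sm gf N32284 = N22169 := ded_14_2 (flp_a L188251) (flp_f L188154) L273469
theorem L273539 : sm gi N22162 = N32292 := rfl
theorem L273541 : sm ga N32292 = N22164 := ded_18_1 (flp_i L188212) L188196 L273539
theorem L273545 : sm gf N32292 = N22172 := ded_48_1 (flp_i L188278) (flp_f L188199) L273539
theorem L273561 : sm gh N22164 = N32295 := rfl
theorem L273568 : sm gi N32295 = N22238 := ded_54_2 (flp_h L188819) (flp_i L130098) (flp_h L129638) L188212 L273561
theorem L273577 : sm gi N22165 = N32297 := rfl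
theorem L273580 : sm gd N32297 = N22166 := ded_39_1 (flp_i L188225) L188220 L273577
theorem L273611 : sm gi N22169 = N32301 := rfl
theorem L273618 : sm gj N32301 = N22172 := ded_53_1 (flp_i L188278) (flp_j L188255) L273611
theorem L273639 : sm gh N22172 = N32304 := rfl
theorem L273644 : sm gg N32304 = N22175 := ded_50_1 (flp_h L188303) (flp_g L188284) L273639
theorem L273646 : sm gi N32304 = N22247 := ded_54_2 (flp_h L188891) (flp_i L130161) (flp_h L129703) L188278 L273639
theorem L273648 : sm gd N22173 = N32305 := rfl
theorem L273652 : sm gg N32305 = N22176 := ded_36_2 (flp_d L188312) (flp_g L188290) L273648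
theorem L273654 : sm gi N32305 = N22248 := ded_39_2 (flp_d L188898) (flp_i L188292) L273648
theorem L273657 : sm ge N22174 = N32306 := rfl
theorem L273664 : sm gi N32306 = N22249 := ded_44_2 (flp_e L188906) (flp_i L188299) L273657
theorem L273666 : sm gd N22175 = N32307 := rfl
theorem L273668 : sm ga N32307 = N22176 := ded_12_1 (flp_d L188312) (flp_a L188305) L273666
theorem L273676 : sm gc N22176 = N32308 := rfl
theorem L273681 : sm gi N32308 = N22251 := ded_33_2 (flp_c L188923) (flp_i L188318) L273676
theorem L273684 : sm ge N22176 = N32309 := rfl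
theorem L273686 : sm gb N32309 = N22177 := ded_21_1 (flp_e L188321) (flp_b L188314) L273684
theorem L273692 : sm gf N22177 = N32310 := rfl
theorem L273698 : sm gi N32310 = N22253 := ded_48_2 (flp_f L188937) (flp_i L188327) L273692
theorem L273719 : sm gi N22178 = N32313 := rfl
theorem L273727 : sm gg N32313 = N22182 := ded_51_1 (flp_i L188367) (flp_g L188335) L273719
theorem L273730 : sm gb N22180 = N32314 := rfl
theorem L273732 : sm gd N32314 = N32314 := ded_20_2 (flp_b L273730) L188358 L273730
theorem L273733 : sm gf N32314 = N22188 := ded_22_2 (flp_b L188420) (flp_f L188354) L273730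
theorem L273735 : sm gj N32314 = N22183 := ded_24_2 (flp_b L188378) (flp_j L188356) L273730
theorem L273737 : sm gc N32314 = N32314 := ded_19_2 (flp_b L273730) (flp_c L188350) L129762 L188350 L273730
theorem L273746 : sm gi N22180 = N32316 := rfl
theorem L273748 : sm ga N32316 = N22202 := ded_18_1 (flp_i L188535) (flp_a L188352) L273746
theorem L273753 : sm gf N32316 = N22189 := ded_48_1 (flp_i L188427) (flp_f L188354) L273746
theorem L273755 : sm gj N32316 = N22185 := ded_53_1 (flp_i L188392) (flp_j L188356) L273746
theorem L273767 : sm gh N22182 = N32318 := rfl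
theorem L273774 : sm gj N32318 = N22187 := ded_52_1 (flp_h L188411) (flp_j L188376) L273767
theorem L273777 : sm ga N22183 = N32319 := rfl
theorem L273779 : sm gc N32319 = N32319 := ded_11_2 (flp_a L273777) L188384 L273777
theorem L273780 : sm gd N32319 = N32319 := ded_12_2 (flp_a L273777) L188380 L273777
theorem L273781 : sm gf N32319 = N22191 := ded_14_2 (flp_a L188446) (flp_f L188381) L273777
theorem L273783 : sm gg N32319 = N32319 := ded_15_2 (flp_a L273777) L188383 L273777
theorem L273784 : sm gb N32319 = N22205 := ded_10_2 (flp_a L188562) (flp_b L129912) (flp_a L129781) L188378 L273777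
theorem L273786 : sm ge N22183 = N32320 := rfl
theorem L273788 : sm gb N32320 = N22184 := ded_21_1 (flp_e L188385) L188378 L273786
theorem L273790 : sm gc N32320 = N32320 := ded_28_1 (flp_e L273786) L188384 L273786
theorem L273791 : sm gg N32320 = N32320 := ded_41_2 (flp_e L273786) L188383 L273786
theorem L273792 : sm gi N22183 = N32321 := rfl
theorem L273794 : sm gb N32321 = N22185 := ded_26_1 (flp_i L188392) L188378 L273792
theorem L273796 : sm gc N32321 = N32321 := ded_33_1 (flp_i L273792) L188384 L273792
theorem L273797 : sm gd N32321 = N32321 := ded_39_1 (flp_i L273792) L188380 L273792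
theorem L273798 : sm gf N32321 = N22192 := ded_48_1 (flp_i L188454) (flp_f L188381) L273792
theorem L273800 : sm gg N32321 = N32321 := ded_51_1 (flp_i L273792) L188383 L273792
theorem L273801 : sm gd N22184 = N32322 := rfl
theorem L273803 : sm ga N32322 = N22208 := ded_12_1 (flp_d L188587) (flp_a L188387) L273801
theorem L273805 : sm gg N32322 = N32322 := ded_36_2 (flp_d L273801) L188391 L273801
theorem L273806 : sm gc N32322 = N32322 := ded_27_1 (flp_d L273801) L188389 L129793 (flp_c L188389) L273801
theorem L273807 : sm ge N32322 = N32322 := ded_34_2 (flp_d L273801) (flp_e L188385) L129786 L188385 L273801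
theorem L273808 : sm gi N22184 = N32323 := rfl
theorem L273810 : sm ga N32323 = N22209 := ded_18_1 (flp_i L188592) (flp_a L188387) L273808
theorem L273814 : sm ge N32323 = N22185 := ded_44_1 (flp_i L188392) L188385 L273808
theorem L273817 : sm gh N22185 = N32324 := rfl
theorem L273819 : sm ga N32324 = N22210 := ded_17_1 (flp_h L188599) (flp_a L188394) L273817
theorem L273823 : sm gf N32324 = N22193 := ded_47_1 (flp_h L188462) (flp_f L188399) L273817
theorem L273826 : sm gh N22186 = N32325 := rfl
theorem L273831 : sm ge N32325 = N22187 := ded_43_1 (flp_h L188411) (flp_e L188408) L273826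
theorem L273834 : sm ga N22188 = N32326 := rfl
theorem L273839 : sm gj N32326 = N22191 := ded_16_2 (flp_a L188446) (flp_j L188424) L273834
theorem L273841 : sm gb N32326 = N22212 := ded_10_2 (flp_a L188613) (flp_b L129949) (flp_a L129806) L188420 L273834
theorem L273843 : sm gi N22188 = N32327 := rfl
theorem L273845 : sm gb N32327 = N22189 := ded_26_1 (flp_i L188427) L188420 L273843
theorem L273850 : sm gj N32327 = N22192 := ded_53_1 (flp_i L188454) (flp_j L188424) L273843
theorem L273852 : sm gh N22189 = N32328 := rfl
theorem L273859 : sm gj N32328 = N22193 := ded_52_1 (flp_h L188462) (flp_j L188435) L273852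
theorem L273861 : sm gi N22191 = N32329 := rfl
theorem L273863 : sm ga N32329 = N22192 := ded_18_1 (flp_i L188454) L188446 L273861
theorem L273865 : sm gb N32329 = N22215 := ded_26_1 (flp_i L188638) (flp_b L188452) L273861
theorem L273869 : sm gg N32329 = N22194 := ded_51_1 (flp_i L188470) (flp_g L188450) L273861
theorem L273871 : sm gh N22192 = N32330 := rfl
theorem L273873 : sm gb N32330 = N22193 := ded_25_1 (flp_h L188462) (flp_b L188456) L273871
theorem L273875 : sm gc N32330 = N32330 := ded_32_1 (flp_h L273871) L188458 L273871
theorem L273876 : sm gg N32330 = N22195 := ded_50_1 (flp_h L188480) (flp_g L188460) L273871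
theorem L273878 : sm gd N22193 = N32331 := rfl
theorem L273880 : sm ga N32331 = N22217 := ded_12_1 (flp_d L188655) (flp_a L188464) L273878
theorem L273882 : sm gg N32331 = N22196 := ded_36_2 (flp_d L188487) (flp_g L188468) L273878
theorem L273884 : sm gc N32331 = N32331 := ded_27_1 (flp_d L273878) L188466 L129844 (flp_c L188466) L273878
theorem L273885 : sm gh N32331 = N32331 := ded_38_2 (flp_d L273878) (flp_h L188462) L129834 L188462 L273878
theorem L273886 : sm gh N22194 = N32332 := rfl
theorem L273888 : sm ga N32332 = N22195 := ded_17_1 (flp_h L188480) (flp_a L188472) L273886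
theorem L273890 : sm gb N32332 = N22218 := ded_25_1 (flp_h L188661) (flp_b L188474) L273886
theorem L273892 : sm gc N32332 = N32332 := ded_32_1 (flp_h L273886) L188476 L273886
theorem L273893 : sm gf N32332 = N32332 := ded_47_1 (flp_h L273886) L188478 L273886
theorem L273894 : sm gj N32332 = N32332 := ded_52_1 (flp_h L273886) L188479 L273886
theorem L273895 : sm gd N22195 = N32333 := rfl
theorem L273897 : sm gb N32333 = N22196 := ded_20_1 (flp_d L188487) (flp_b L188482) L273895
theorem L273899 : sm gf N32333 = N32333 := ded_35_2 (flp_d L273895) L188485 L273895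
theorem L273900 : sm gj N32333 = N32333 := ded_37_2 (flp_d L273895) L188486 L273895
theorem L273901 : sm gh N32333 = N32333 := ded_38_2 (flp_d L273895) (flp_h L188480) L129858 L188480 L273895
theorem L273902 : sm ge N22196 = N32334 := rfl
theorem L273904 : sm ga N32334 = N22220 := ded_13_1 (flp_e L188676) (flp_a L188489) L273902
theorem L273906 : sm gc N32334 = N32334 := ded_28_1 (flp_e L273902) L188493 L273902
theorem L273907 : sm gj N32334 = N32334 := ded_42_2 (flp_e L273902) L188492 L273902
theorem L273908 : sm gh N32334 = N32334 := ded_43_2 (flp_e L273902) L188494 L273902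
theorem L273960 : sm ga N22200 = N32341 := rfl
theorem L273965 : sm gf N32341 = N22212 := ded_14_2 (flp_a L188613) (flp_f L188523) L273960
theorem L273967 : sm gj N32341 = N22205 := ded_16_2 (flp_a L188562) (flp_j L188525) L273960
theorem L273988 : sm gd N22201 = N32344 := rfl
theorem L273990 : sm gj N32344 = N22208 := ded_37_2 (flp_d L188587) (flp_j L188533) L273988
theorem L274002 : sm gh N22202 = N32346 := rfl
theorem L274008 : sm gj N32346 = N22210 := ded_52_1 (flp_h L188599) (flp_j L188542) L274002
theorem L274018 : sm ge N22205 = N32348 := rfl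
theorem L274022 : sm gc N32348 = N22234 := ded_28_1 (flp_e L188789) (flp_c L188564) L274018
theorem L274025 : sm gi N22205 = N32349 := rfl
theorem L274029 : sm gc N32349 = N22235 := ded_33_1 (flp_i L188795) (flp_c L188564) L274025
theorem L274035 : sm gd N22206 = N32350 := rfl
theorem L274037 : sm gb N32350 = N22208 := ded_20_1 (flp_d L188587) (flp_b L188572) L274035
theorem L274059 : sm gh N22208 = N32353 := rfl
theorem L274061 : sm gc N32353 = N32353 := ded_32_1 (flp_h L274059) L188590 L274059
theorem L274062 : sm ge N32353 = N32353 := ded_43_1 (flp_h L274059) L188591 L274059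
theorem L274063 : sm gg N32353 = N32353 := ded_50_1 (flp_h L274059) L188589 L274059
theorem L274064 : sm gi N22208 = N32354 := rfl
theorem L274067 : sm gd N32354 = N22209 := ded_39_1 (flp_i L188592) L188587 L274064
theorem L274071 : sm gh N22209 = N32355 := rfl
theorem L274073 : sm gc N32355 = N22211 := ded_32_1 (flp_h L188606) (flp_c L188594) L274071
theorem L274075 : sm ge N32355 = N22210 := ded_43_1 (flp_h L188599) (flp_e L188596) L274071
theorem L274078 : sm gd N22210 = N32356 := rfl
theorem L274080 : sm gf N32356 = N22217 := ded_35_2 (flp_d L188655) (flp_f L188603) L274078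
theorem L274111 : sm gd N22214 = N32360 := rfl
theorem L274114 : sm gj N32360 = N22217 := ded_37_2 (flp_d L188655) (flp_j L188636) L274111
theorem L274118 : sm gh N22215 = N32361 := rfl
theorem L274122 : sm gc N32361 = N22247 := ded_32_1 (flp_h L188891) (flp_c L188642) L274118
theorem L274124 : sm gg N32361 = N22218 := ded_50_1 (flp_h L188661) (flp_g L188645) L274118
theorem L274126 : sm gd N22216 = N32362 := rfl
theorem L274128 : sm gb N32362 = N22217 := ded_20_1 (flp_d L188655) (flp_b L188649) L274126
theorem L274130 : sm gg N32362 = N22219 := ded_36_2 (flp_d L188669) (flp_g L188653) L274126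
theorem L274133 : sm ge N22217 = N32363 := rfl
theorem L274135 : sm gc N32363 = N32363 := ded_28_1 (flp_e L274133) L188659 L274133
theorem L274136 : sm gg N32363 = N22220 := ded_41_2 (flp_e L188676) (flp_g L188657) L274133
theorem L274138 : sm gh N32363 = N32363 := ded_43_2 (flp_e L274133) L188660 L274133
theorem L274139 : sm gd N22218 = N32364 := rfl
theorem L274146 : sm gc N22219 = N32365 := rfl
theorem L274152 : sm gd N32365 = N22251 := ded_27_2 (flp_c L188923) (flp_d L130191) (flp_c L130008) L188669 L274146
theorem L274154 : sm ge N22219 = N32366 := rfl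
theorem L274156 : sm gb N32366 = N22220 := ded_21_1 (flp_e L188676) (flp_b L188671) L274154
theorem L274160 : sm gf N22220 = N32367 := rfl
theorem L274175 : sm ge N22221 = N32369 := rfl
theorem L274179 : sm gg N32369 = N22228 := ded_41_2 (flp_e L188740) (flp_g L188686) L274175
theorem L274353 : sm gc N22236 = N32390 := rfl
theorem L274355 : sm ge N32390 = N22276 := ded_28_2 (flp_c L189149) (flp_e L188810) L274353
theorem L274366 : sm gi N22236 = N32392 := rfl
theorem L274370 : sm gd N32392 = N22237 := ded_39_1 (flp_i L188812) L188805 L274366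
theorem L274375 : sm gh N22237 = N32393 := rfl
theorem L274379 : sm ge N32393 = N22238 := ded_43_1 (flp_h L188819) (flp_e L188816) L274375
theorem L274391 : sm gi N22239 = N32395 := rfl
theorem L274395 : sm ge N32395 = N22281 := ded_44_1 (flp_i L189188) (flp_e L188830) L274391
theorem L274448 : sm gd N22247 = N32403 := rfl
theorem L274450 : sm ga N32403 = N22248 := ded_12_1 (flp_d L188898) (flp_a L188893) L274448
theorem L274453 : sm gg N32403 = N22250 := ded_36_2 (flp_d L188914) (flp_g L188896) L274448
theorem L274455 : sm gh N32403 = N22289 := ded_38_2 (flp_d L189249) (flp_h L130437) (flp_d L130166) L188891 L274448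
theorem L274457 : sm gc N22248 = N32404 := rfl
theorem L274459 : sm gg N32404 = N22251 := ded_30_2 (flp_c L188923) (flp_g L188902) L274457
theorem L274461 : sm gh N32404 = N22290 := ded_32_2 (flp_c L189257) (flp_h L188904) L274457
theorem L274472 : sm gf N22249 = N32406 := rfl
theorem L274476 : sm gh N32406 = N22292 := ded_47_2 (flp_f L189272) (flp_h L188912) L274472
theorem L274478 : sm gc N22250 = N32407 := rfl
theorem L274480 : sm ga N32407 = N22251 := ded_11_1 (flp_c L188923) (flp_a L188916) L274478
theorem L274482 : sm gf N32407 = N32407 := ded_29_2 (flp_c L274478) L188919 L274478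
theorem L274484 : sm gh N32407 = N22293 := ded_32_2 (flp_c L189278) (flp_h L188921) L274478
theorem L274510 : sm gg N22253 = N32411 := rfl
theorem L274515 : sm gh N32411 = N22297 := ded_50_2 (flp_g L189309) (flp_h L188942) L274510
theorem L274628 : sm gh N22261 = N32424 := rfl
theorem L274633 : sm gf N32424 = N22262 := ded_47_1 (flp_h L189018) (flp_f L189014) L274628
theorem L274685 : sm gh N22265 = N32430 := rfl
theorem L274687 : sm gb N32430 = N22268 := ded_25_1 (flp_h L189075) (flp_b L189050) L274685
theorem L274690 : sm gj N32430 = N22277 := ded_52_1 (flp_h L189155) (flp_j L189053) L274685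
theorem L274713 : sm gd N22267 = N32433 := rfl
theorem L274717 : sm gf N32433 = N22287 := ded_35_2 (flp_d L189232) (flp_f L189070) L274713
theorem L274737 : sm gd N22270 = N32436 := rfl
theorem L274741 : sm gj N32436 = N22283 := ded_37_2 (flp_d L189201) (flp_j L189100) L274737
theorem L274784 : sm gh N22274 = N32442 := rfl
theorem L274786 : sm ga N32442 = N22279 := ded_17_1 (flp_h L189170) (flp_a L189131) L274784
theorem L274790 : sm ge N32442 = N22275 := ded_43_1 (flp_h L189139) (flp_e L189135) L274784
theorem L274795 : sm gd N22275 = N32443 := rfl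
theorem L274797 : sm ga N32443 = N22280 := ded_12_1 (flp_d L189180) (flp_a L189141) L274795
theorem L274800 : sm gf N32443 = N22289 := ded_35_2 (flp_d L189249) (flp_f L189145) L274795
theorem L274804 : sm gh N22276 = N32444 := rfl
theorem L274807 : sm gc N32444 = N22277 := ded_32_1 (flp_h L189155) L189149 L274804
theorem L274832 : sm gd N22279 = N32448 := rfl
theorem L274834 : sm gb N32448 = N22283 := ded_20_1 (flp_d L189201) (flp_b L189172) L274832
theorem L274839 : sm gc N22280 = N32449 := rfl
theorem L274841 : sm gf N32449 = N22290 := ded_29_2 (flp_c L189257) (flp_f L189184) L274839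
theorem L274853 : sm gh N22281 = N32451 := rfl
theorem L274859 : sm gi N32451 = N22282 := ded_54_2 (flp_h L189195) (flp_i L130374) L130367 L189188 L274853
theorem L274876 : sm ge N22283 = N32454 := rfl
theorem L274881 : sm gd N32454 = N22284 := ded_34_1 (flp_e L189207) (flp_d L130392) (flp_e L130387) L189201 L274876
theorem L274883 : sm gf N22284 = N32455 := rfl
theorem L274888 : sm ge N32455 = N22292 := ded_40_1 (flp_f L189272) (flp_e L130454) (flp_f L130395) L189207 L274883
theorem L274907 : sm gc N22287 = N32458 := rfl
theorem L274910 : sm gj N32458 = N22290 := ded_31_2 (flp_c L189257) (flp_j L189237) L274907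
theorem L274915 : sm ge N22287 = N32459 := rfl
theorem L274920 : sm gj N32459 = N22291 := ded_42_2 (flp_e L189264) (flp_j L189237) L274915
theorem L274963 : sm gg N22292 = N32465 := rfl
theorem L274969 : sm gf N32465 = N22297 := ded_45_1 (flp_g L189309) (flp_f L130484) (flp_g L130458) L189272 L274963
theorem L274979 : sm ge N22293 = N32467 := rfl
theorem L275011 : sm gg N22296 = N32471 := rfl
theorem L275013 : sm gb N32471 = N22297 := ded_23_1 (flp_g L189309) (flp_b L189303) L275011
theorem L275026 : sm gb N22298 = N32473 := rfl
theorem L275028 : sm gd N32473 = N32473 := ded_20_2 (flp_b L275026) L189325 L275026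
theorem L275029 : sm ge N32473 = N32473 := ded_21_2 (flp_b L275026) L189320 L275026
theorem L275030 : sm gf N32473 = N32473 := ded_22_2 (flp_b L275026) L189321 L275026
theorem L275031 : sm gg N32473 = N32473 := ded_23_2 (flp_b L275026) L189322 L275026
theorem L275032 : sm gj N32473 = N32473 := ded_24_2 (flp_b L275026) L189323 L275026
theorem L275033 : sm gh N32473 = N32473 := ded_25_2 (flp_b L275026) L189324 L275026
theorem L275034 : sm ga N32473 = N32473 := ded_10_1 (flp_b L275026) L189318 L143913 (flp_a L189318) L275026
theorem L275035 : sm gc N32473 = N32473 := ded_19_2 (flp_b L275026) (flp_c L189316) L130496 L189316 L275026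
theorem L275036 : sm gi N22298 = N32474 := rfl
theorem L275038 : sm ga N32474 = N24542 := ded_18_1 (flp_i L208594) (flp_a L189318) L275036
theorem L275086 : sm gc N22302 = N32479 := rfl
theorem L275090 : sm gf N32479 = N22305 := ded_29_2 (flp_c L189391) (flp_f L189364) L275086
theorem L275095 : sm gi N32479 = N22303 := ded_33_2 (flp_c L189371) (flp_i L189368) L275086
theorem L275108 : sm gb N22303 = N32481 := rfl
theorem L275115 : sm gh N32481 = N22310 := ded_25_2 (flp_b L189443) (flp_h L189379) L275108
theorem L275148 : sm ge N22305 = N32485 := rfl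
theorem L275158 : sm gi N32485 = N22308 := ded_44_2 (flp_e L189423) (flp_i L189399) L275148
theorem L275424 : sm gi N22322 = N32513 := rfl
theorem L275429 : sm ge N32513 = N22346 := ded_44_1 (flp_i L189786) (flp_e L189565) L275424
theorem L275435 : sm gj N22323 = N32514 := rfl
theorem L275442 : sm gf N32514 = N22414 := ded_46_1 (flp_j L190430) (flp_f L189580) L275435
theorem L275464 : sm gf N22326 = N32517 := rfl
theorem L275466 : sm gb N32517 = N22328 := ded_22_1 (flp_f L189619) (flp_b L189605) L275464
theorem L275490 : sm gg N22328 = N32520 := rfl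
theorem L275492 : sm ga N32520 = N24588 := ded_15_1 (flp_g L208963) (flp_a L189621) L275490
theorem L275522 : sm gf N22330 = N32523 := rfl
theorem L275526 : sm gb N32523 = N24591 := ded_22_1 (flp_f L208990) (flp_b L189644) L275522
theorem L275531 : sm gc N22331 = N32524 := rfl
theorem L275547 : sm gh N22331 = N32526 := rfl
theorem L275551 : sm gg N32526 = N22419 := ded_50_1 (flp_h L190478) (flp_g L189655) L275547
theorem L275614 : sm gc N22337 = N32533 := rfl
theorem L275632 : sm gh N22337 = N32535 := rfl
theorem L275638 : sm gg N32535 = N22428 := ded_50_1 (flp_h L190561) (flp_g L189713) L275632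
theorem L275703 : sm gj N22342 = N32543 := rfl
theorem L275705 : sm gb N32543 = N22347 := ded_24_1 (flp_j L189796) (flp_b L189753) L275703
theorem L275710 : sm gh N32543 = N22358 := ded_52_2 (flp_j L189904) (flp_h L189756) L275703
theorem L275714 : sm gg N22343 = N32544 := rfl
theorem L275716 : sm ga N32544 = N24612 := ded_15_1 (flp_g L209171) (flp_a L189763) L275714
theorem L275739 : sm gh N22344 = N32547 := rfl
theorem L275745 : sm gg N32547 = N22345 := ded_50_1 (flp_h L189777) L189768 L275739
theorem L275747 : sm gd N32547 = N22362 := ded_38_1 (flp_h L189945) L130896 (flp_h L130808) (flp_d L189772) L275739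
theorem L275770 : sm gf N22348 = N32550 := rfl
theorem L275854 : sm gg N22352 = N32558 := rfl
theorem L275859 : sm gi N32558 = N22373 := ded_51_2 (flp_g L190048) (flp_i L189857) L275854
theorem L275861 : sm gf N32558 = N22451 := ded_45_1 (flp_g L190781) (flp_f L131451) (flp_g L130849) L189851 L275854
theorem L275955 : sm gh N22359 = N32569 := rfl
theorem L275960 : sm ge N32569 = N22362 := ded_43_1 (flp_h L189945) (flp_e L189920) L275955
theorem L275962 : sm gg N32569 = N22360 := ded_50_1 (flp_h L189924) L189914 L275955
theorem L275971 : sm gi N22360 = N32571 := rfl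
theorem L275980 : sm gh N32571 = N22386 := ded_54_1 (flp_i L190155) (flp_h L131035) (flp_i L130887) L189924 L275971
theorem L276038 : sm gh N22365 = N32578 := rfl
theorem L276040 : sm ga N32578 = N22374 := ded_17_1 (flp_h L190055) (flp_a L189975) L276038
theorem L276047 : sm gd N22366 = N32579 := rfl
theorem L276051 : sm gg N32579 = N22472 := ded_36_2 (flp_d L190972) (flp_g L189987) L276047
theorem L276138 : sm gj N22373 = N32589 := rfl
theorem L276143 : sm gf N32589 = N22482 := ded_46_1 (flp_j L191064) (flp_f L190053) L276138
theorem L276170 : sm ge N22375 = N32593 := rfl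
theorem L276174 : sm gg N32593 = N22486 := ded_41_2 (flp_e L191095) (flp_g L190066) L276170
theorem L276203 : sm gh N22377 = N32597 := rfl
theorem L276205 : sm gb N32597 = N22384 := ded_25_1 (flp_h L190138) (flp_b L190081) L276203
theorem L276209 : sm gg N32597 = N22378 := ded_50_1 (flp_h L190086) L190079 L276203
theorem L276334 : sm ge N22389 = N32611 := rfl
theorem L276339 : sm gj N32611 = N22504 := ded_42_2 (flp_e L191258) (flp_j L190189) L276334
theorem L276394 : sm gf N22393 = N32617 := rfl
theorem L276399 : sm gj N32617 = N22510 := ded_46_2 (flp_f L191313) (flp_j L190234) L276394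
theorem L276401 : sm gh N32617 = N22399 := ded_47_2 (flp_f L190285) (flp_h L190236) L276394
theorem L276475 : sm gf N22398 = N32625 := rfl
theorem L276479 : sm gd N32625 = N22399 := ded_35_1 (flp_f L190285) L190276 L276475
theorem L276561 : sm gf N22404 = N32634 := rfl
theorem L276563 : sm ga N32634 = N22407 := ded_14_1 (flp_f L190366) (flp_a L190336) L276561
theorem L276658 : sm gg N22410 = N32644 := rfl
theorem L276662 : sm gd N32644 = N22685 := ded_36_1 (flp_g L192783) (flp_d L190400) L276658
theorem L276664 : sm ge N32644 = N22411 := ded_41_1 (flp_g L190404) L190393 L276658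
theorem L276686 : sm gh N22411 = N32647 := rfl
theorem L276690 : sm gg N32647 = N22412 := ded_50_1 (flp_h L190411) L190404 L276686
theorem L276693 : sm gi N22412 = N32648 := rfl
theorem L276700 : sm gj N32648 = N22541 := ded_53_1 (flp_i L191583) (flp_j L190417) L276693
theorem L276703 : sm gc N22415 = N32649 := rfl
theorem L276707 : sm gj N32649 = N22542 := ded_31_2 (flp_c L191591) (flp_j L190448) L276703
theorem L276780 : sm gi N22419 = N32658 := rfl
theorem L276785 : sm gj N32658 = N22551 := ded_53_1 (flp_i L191659) (flp_j L190482) L276780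
theorem L276788 : sm gj N22420 = N32659 := rfl
theorem L276795 : sm gg N32659 = N22552 := ded_49_1 (flp_j L191666) (flp_g L132050) (flp_j L131265) L190485 L276788
theorem L276837 : sm gi N22423 = N32664 := rfl
theorem L276839 : sm ga N32664 = N24766 := ded_18_1 (flp_i L210486) (flp_a L190513) L276837
theorem L276846 : sm gj N32664 = N22557 := ded_53_1 (flp_i L191712) (flp_j L190519) L276837
theorem L276849 : sm gb N22426 = N32665 := rfl
theorem L276851 : sm gj N32665 = N22558 := ded_24_2 (flp_b L191722) (flp_j L190547) L276849
theorem L276873 : sm ge N22427 = N32668 := rfl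
theorem L276875 : sm ga N32668 = N22432 := ded_13_1 (flp_e L190595) (flp_a L190552) L276873
theorem L276882 : sm gd N32668 = N22693 := ded_34_1 (flp_e L192860) L132864 (flp_e L131330) (flp_d L190556) L276873
theorem L276916 : sm gj N22429 = N32672 := rfl
theorem L276927 : sm gg N32672 = N22565 := ded_49_1 (flp_j L191781) (flp_g L132128) (flp_j L131325) L190571 L276916
theorem L276936 : sm gg N22430 = N32674 := rfl
theorem L276938 : sm gc N32674 = N22433 := ded_30_1 (flp_g L190604) (flp_c L190584) L276936
theorem L276949 : sm gd N22431 = N32676 := rfl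
theorem L276955 : sm gi N22431 = N32677 := rfl
theorem L276959 : sm gj N32677 = N22570 := ded_53_1 (flp_i L191815) (flp_j L190593) L276955
theorem L276979 : sm gj N22433 = N32680 := rfl
theorem L276986 : sm gg N32680 = N22573 := ded_49_1 (flp_j L191836) (flp_g L132157) (flp_j L131343) L190604 L276979
theorem L277007 : sm gf N22437 = N32683 := rfl
theorem L277011 : sm gd N32683 = N22708 := ded_35_1 (flp_f L193001) (flp_d L190645) L277007
theorem L277014 : sm gj N22437 = N32684 := rfl
theorem L277023 : sm gg N32684 = N22577 := ded_49_1 (flp_j L191870) (flp_g L132191) (flp_j L131367) L190641 L277014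
theorem L277033 : sm gd N22438 = N32686 := rfl
theorem L277037 : sm gj N32686 = N22579 := ded_37_2 (flp_d L191887) (flp_j L190656) L277033
theorem L277043 : sm gi N22438 = N32687 := rfl
theorem L277049 : sm gj N32687 = N22580 := ded_53_1 (flp_i L191895) (flp_j L190656) L277043
theorem L277082 : sm gh N22442 = N32691 := rfl
theorem L277085 : sm gb N32691 = N22444 := ded_25_1 (flp_h L190706) L190686 L277082
theorem L277087 : sm gc N32691 = N24793 := ded_32_1 (flp_h L210707) (flp_c L190694) L277082
theorem L277092 : sm ge N22443 = N32692 := rfl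
theorem L277098 : sm gj N32692 = N22585 := ded_42_2 (flp_e L191939) (flp_j L190702) L277092
theorem L277127 : sm gi N22444 = N32696 := rfl
theorem L277136 : sm gh N32696 = N22473 := ded_54_1 (flp_i L190979) (flp_h L131580) (flp_i L131418) L190706 L277127
theorem L277212 : sm gh N22450 = N32704 := rfl
theorem L277215 : sm gc N32704 = N22456 := ded_32_1 (flp_h L190822) (flp_c L190774) L277212
theorem L277217 : sm ge N32704 = N22452 := ded_43_1 (flp_h L190788) L190771 L277212
theorem L277220 : sm gj N32704 = N22597 := ded_52_1 (flp_h L192048) (flp_j L190776) L277212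
theorem L277238 : sm gd N22452 = N32707 := rfl
theorem L277278 : sm gj N22455 = N32712 := rfl
theorem L277284 : sm ge N32712 = N22457 := ded_42_1 (flp_j L190831) (flp_e L190818) L277278
theorem L277318 : sm gh N22457 = N32716 := rfl
theorem L277322 : sm gg N32716 = N22609 := ded_50_1 (flp_h L192141) (flp_g L190839) L277318
theorem L277324 : sm gj N32716 = N22458 := ded_52_1 (flp_h L190841) L190831 L277318
theorem L277326 : sm gi N22458 = N32717 := rfl
theorem L277332 : sm gh N32717 = N22494 := ded_54_1 (flp_i L191163) (flp_h L131701) (flp_i L131485) L190841 L277326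
theorem L277334 : sm gj N22460 = N32718 := rfl
theorem L277339 : sm gd N32718 = N22743 := ded_37_1 (flp_j L193345) (flp_d L190862) L277334
theorem L277423 : sm gg N22467 = N32727 := rfl
theorem L277428 : sm gc N32727 = N24829 := ded_30_1 (flp_g L211024) (flp_c L190933) L277423
theorem L277441 : sm gd N22468 = N32729 := rfl
theorem L277444 : sm gb N32729 = N22472 := ded_20_1 (flp_d L190972) (flp_b L190940) L277441
theorem L277446 : sm gj N32729 = N22622 := ded_37_2 (flp_d L192256) (flp_j L190945) L277441
theorem L277458 : sm gd N22469 = N32731 := rfl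
theorem L277463 : sm gj N32731 = N22624 := ded_37_2 (flp_d L192271) (flp_j L190953) L277458
theorem L277465 : sm gc N32731 = N22756 := ded_27_1 (flp_d L193480) L133282 (flp_d L131597) (flp_c L190951) L277458
theorem L277467 : sm gg N22469 = N32732 := rfl
theorem L277471 : sm gc N32732 = N22474 := ded_30_1 (flp_g L190988) (flp_c L190951) L277467
theorem L277473 : sm ge N32732 = N22470 := ded_41_1 (flp_g L190956) L190947 L277467
theorem L277486 : sm gj N22470 = N32734 := rfl
theorem L277488 : sm ga N32734 = N22482 := ded_16_1 (flp_j L191064) (flp_a L190958) L277486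
theorem L277492 : sm gg N32734 = N22627 := ded_49_1 (flp_j L192295) (flp_g L132474) (flp_j L131578) L190956 L277486
theorem L277521 : sm ge N22472 = N32738 := rfl
theorem L277523 : sm ga N32738 = N22486 := ded_13_1 (flp_e L191095) (flp_a L190974) L277521
theorem L277547 : sm gj N22474 = N32741 := rfl
theorem L277551 : sm gb N32741 = N24843 := ded_24_1 (flp_j L211146) (flp_b L190992) L277547
theorem L277557 : sm gg N32741 = N22634 := ded_49_1 (flp_j L192351) (flp_g L132503) (flp_j L131595) L190988 L277547
theorem L277806 : sm gh N22495 = N32771 := rfl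
theorem L277811 : sm gf N32771 = N22497 := ded_47_1 (flp_h L191187) (flp_f L191177) L277806
theorem L277813 : sm gj N32771 = N22496 := ded_52_1 (flp_h L191179) L191170 L277806
theorem L277854 : sm gc N22498 = N32776 := rfl
theorem L277861 : sm gh N32776 = N22801 := ded_32_2 (flp_c L193890) (flp_h L191205) L277854
theorem L277873 : sm gb N22500 = N32778 := rfl
theorem L277878 : sm gj N32778 = N22671 := ded_24_2 (flp_b L192649) (flp_j L191222) L277873
theorem L277880 : sm gh N32778 = N22803 := ded_25_2 (flp_b L193908) (flp_h L191224) L277873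
theorem L277922 : sm gf N22504 = N32783 := rfl
theorem L277928 : sm gi N32783 = N22510 := ded_48_2 (flp_f L191313) (flp_i L191265) L277922
theorem L278136 : sm gi N22519 = N32808 := rfl
theorem L278140 : sm ge N32808 = N22551 := ded_44_1 (flp_i L191659) (flp_e L191396) L278136
theorem L278321 : sm gh N22532 = N32829 := rfl
theorem L278325 : sm ge N32829 = N22534 := ded_43_1 (flp_h L191524) L191507 L278321
theorem L278327 : sm gf N32829 = N22572 := ded_47_1 (flp_h L191830) (flp_f L191514) L278321
theorem L278406 : sm gi N22540 = N32839 := rfl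
theorem L278412 : sm gg N32839 = N22541 := ded_51_1 (flp_i L191583) (flp_g L191580) L278406
theorem L278430 : sm gh N22542 = N32842 := rfl
theorem L278434 : sm gc N32842 = N22544 := ded_32_1 (flp_h L191606) L191591 L278430
theorem L278437 : sm ge N22543 = N32843 := rfl
theorem L278439 : sm ga N32843 = N22548 := ded_13_1 (flp_e L191638) (flp_a L191599) L278437
theorem L278455 : sm gh N22543 = N32845 := rfl
theorem L278461 : sm gf N32845 = N22544 := ded_47_1 (flp_h L191606) L191597 L278455
theorem L278520 : sm gg N22548 = N32853 := rfl
theorem L278525 : sm ge N32853 = N22549 := ded_41_1 (flp_g L191644) L191638 L278520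
theorem L278630 : sm gh N22558 = N32866 := rfl
theorem L278634 : sm gc N32866 = N25020 := ded_32_1 (flp_h L212525) (flp_c L191726) L278630
theorem L278644 : sm gg N22559 = N32868 := rfl
theorem L278648 : sm gc N32868 = N22562 := ded_30_1 (flp_g L191751) (flp_c L191732) L278644
theorem L278763 : sm gi N22568 = N32883 := rfl
theorem L278767 : sm gf N32883 = N22570 := ded_48_1 (flp_i L191815) (flp_f L191808) L278763
theorem L278876 : sm gi N22578 = N32897 := rfl
theorem L278882 : sm gg N32897 = N22580 := ded_51_1 (flp_i L191895) (flp_g L191885) L278876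
theorem L278921 : sm gg N22583 = N32902 := rfl
theorem L278926 : sm gc N32902 = N25056 := ded_30_1 (flp_g L212792) (flp_c L191926) L278921
theorem L278928 : sm gi N32902 = N22620 := ded_51_2 (flp_g L192239) (flp_i L191928) L278921
theorem L278957 : sm gd N22585 = N32906 := rfl
theorem L278959 : sm ga N32906 = N22595 := ded_12_1 (flp_d L192031) (flp_a L191941) L278957
theorem L278964 : sm gc N32906 = N22872 := ded_27_1 (flp_d L194523) L133974 (flp_d L132265) (flp_c L191943) L278957
theorem L278994 : sm gh N22586 = N32910 := rfl
theorem L278998 : sm gc N32910 = N22593 := ded_32_1 (flp_h L192012) (flp_c L191952) L278994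
theorem L279001 : sm gg N32910 = N22587 := ded_50_1 (flp_h L191957) L191948 L278994
theorem L279009 : sm gi N22587 = N32912 := rfl
theorem L279017 : sm gh N32912 = N22630 := ded_54_1 (flp_i L192318) (flp_h L132481) (flp_i L132247) L191957 L279009
theorem L279044 : sm gj N22590 = N32916 := rfl
theorem L279050 : sm gd N32916 = N22882 := ded_37_1 (flp_j L194611) (flp_d L191986) L279044
theorem L279054 : sm gi N32916 = N22634 := ded_53_2 (flp_j L192351) (flp_i L191990) L279044
theorem L279095 : sm gi N22593 = N32921 := rfl
theorem L279104 : sm gh N32921 = N22639 := ded_54_1 (flp_i L192400) (flp_h L132531) (flp_i L132276) L192012 L279095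
theorem L279106 : sm gg N22595 = N32922 := rfl
theorem L279109 : sm gc N32922 = N22888 := ded_30_1 (flp_g L194671) (flp_c L192037) L279106
theorem L279113 : sm gi N32922 = N22640 := ded_51_2 (flp_g L192410) (flp_i L192035) L279106
theorem L279115 : sm gh N22595 = N32923 := rfl
theorem L279118 : sm gc N32923 = N22889 := ded_32_1 (flp_h L194679) (flp_c L192037) L279115
theorem L279139 : sm gh N22596 = N32926 := rfl
theorem L279142 : sm gc N32926 = N22606 := ded_32_1 (flp_h L192117) (flp_c L192042) L279139
theorem L279146 : sm gg N32926 = N22597 := ded_50_1 (flp_h L192048) L192039 L279139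
theorem L279207 : sm gh N22603 = N32936 := rfl
theorem L279213 : sm gj N22604 = N32937 := rfl
theorem L279222 : sm gi N32937 = N22655 := ded_53_2 (flp_j L192511) (flp_i L192103) L279213
theorem L279240 : sm gd N22606 = N32940 := rfl
theorem L279246 : sm gh N32940 = N22906 := ded_38_2 (flp_d L194822) (flp_h L134159) (flp_d L132348) L192117 L279240
theorem L279270 : sm gi N22609 = N32944 := rfl
theorem L279277 : sm gh N32944 = N22662 := ded_54_1 (flp_i L192567) (flp_h L132650) (flp_i L132368) L192141 L279270
theorem L279422 : sm gd N22621 = N32961 := rfl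
theorem L279427 : sm gf N32961 = N22622 := ded_35_2 (flp_d L192256) (flp_f L192254) L279422
theorem L279468 : sm gh N22624 = N32967 := rfl
theorem L279470 : sm ga N32967 = N22641 := ded_17_1 (flp_h L192417) (flp_a L192273) L279468
theorem L279472 : sm gc N32967 = N22933 := ded_32_1 (flp_h L195058) (flp_c L192276) L279468
theorem L279515 : sm gh N22627 = N32973 := rfl
theorem L279522 : sm gj N32973 = N22628 := ded_52_1 (flp_h L192302) L192295 L279515
theorem L279664 : sm gj N22640 = N32990 := rfl
theorem L279678 : sm gd N22641 = N32992 := rfl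
theorem L279682 : sm gh N32992 = N22645 := ded_38_2 (flp_d L192446) (flp_h L132563) L132550 L192417 L279678
theorem L279684 : sm gi N22641 = N32993 := rfl
theorem L279687 : sm gc N32993 = N22959 := ded_33_1 (flp_i L195273) (flp_c L192420) L279684
theorem L279761 : sm ge N22648 = N33004 := rfl
theorem L279765 : sm gg N33004 = N22650 := ded_41_2 (flp_e L192481) (flp_g L192470) L279761
theorem L279814 : sm gg N22655 = N33012 := rfl
theorem L279818 : sm gd N33012 = N22978 := ded_36_1 (flp_g L195426) (flp_d L192515) L279814
theorem L279895 : sm gh N22661 = N33022 := rfl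
theorem L279901 : sm gi N33022 = N22988 := ded_54_2 (flp_h L195500) (flp_i L134624) (flp_h L132641) L192559 L279895
theorem L279903 : sm gh N22663 = N33023 := rfl
theorem L279905 : sm ga N33023 = N25177 := ded_17_1 (flp_h L213740) (flp_a L192577) L279903
theorem L279909 : sm gg N33023 = N22664 := ded_50_1 (flp_h L192584) L192575 L279903
theorem L279912 : sm gd N22664 = N33024 := rfl
theorem L279916 : sm gf N33024 = N22667 := ded_35_2 (flp_d L192612) (flp_f L192590) L279912
theorem L279979 : sm gb N22669 = N33031 := rfl
theorem L279983 : sm gg N33031 = N22671 := ded_23_2 (flp_b L192649) (flp_g L192635) L279979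
theorem L280157 : sm gi N22679 = N33049 := rfl
theorem L280160 : sm gc N33049 = N22683 := ded_33_1 (flp_i L192762) (flp_c L192729) L280157
theorem L280203 : sm gi N22682 = N33054 := rfl
theorem L280210 : sm gj N33054 = N22823 := ded_53_1 (flp_i L194091) (flp_j L192759) L280203
theorem L280339 : sm gi N22692 = N33068 := rfl
theorem L280346 : sm gj N33068 = N22837 := ded_53_1 (flp_i L194213) (flp_j L192858) L280339
theorem L280391 : sm gi N22695 = N33073 := rfl
theorem L280397 : sm gd N33073 = N22726 := ded_39_1 (flp_i L193184) (flp_d L192889) L280391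
theorem L280401 : sm gj N33073 = N22842 := ded_53_1 (flp_i L194262) (flp_j L192887) L280391
theorem L280404 : sm gd N22698 = N33074 := rfl
theorem L280427 : sm gj N22699 = N33077 := rfl
theorem L280453 : sm gi N22700 = N33080 := rfl
theorem L280460 : sm gj N33080 = N22849 := ded_53_1 (flp_i L194316) (flp_j L192937) L280453
theorem L280471 : sm gi N22701 = N33082 := rfl
theorem L280474 : sm gc N33082 = N22735 := ded_33_1 (flp_i L193274) (flp_c L192945) L280471
theorem L280481 : sm gf N22703 = N33083 := rfl
theorem L280483 : sm gb N33083 = N22708 := ded_22_1 (flp_f L193001) (flp_b L192958) L280481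
theorem L280486 : sm ge N33083 = N33083 := ded_40_1 (flp_f L280481) L192960 L132920 (flp_e L192960) L280481
theorem L280496 : sm gh N22703 = N33085 := rfl
theorem L280502 : sm gg N33085 = N22704 := ded_50_1 (flp_h L192963) L192956 L280496
theorem L280512 : sm gi N22704 = N33087 := rfl
theorem L280518 : sm gj N33087 = N22856 := ded_53_1 (flp_i L194368) (flp_j L192969) L280512
theorem L280607 : sm gi N22713 = N33097 := rfl
theorem L280609 : sm ga N33097 = N25267 := ded_18_1 (flp_i L214518) (flp_a L193047) L280607
theorem L280620 : sm ge N22715 = N33098 := rfl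
theorem L280622 : sm ga N33098 = N23281 := ded_13_1 (flp_e L198031) (flp_a L193070) L280620
theorem L280626 : sm gc N33098 = N25268 := ded_28_1 (flp_e L214529) (flp_c L193074) L280620
theorem L280633 : sm gg N22715 = N33099 := rfl
theorem L280635 : sm ga N33099 = N23282 := ded_15_1 (flp_g L198042) (flp_a L193070) L280633
theorem L280641 : sm gi N33099 = N22752 := ded_51_2 (flp_g L193438) (flp_i L193078) L280633
theorem L280679 : sm gd N22717 = N33103 := rfl
theorem L280684 : sm gj N33103 = N22872 := ded_37_2 (flp_d L194523) (flp_j L193098) L280679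
theorem L280686 : sm gi N33103 = N22756 := ded_39_2 (flp_d L193480) (flp_i L193100) L280679
theorem L280688 : sm gg N22717 = N33104 := rfl
theorem L280692 : sm gc N33104 = N22722 := ded_30_1 (flp_g L193141) (flp_c L193096) L280688
theorem L280696 : sm gi N33104 = N22757 := ded_51_2 (flp_g L193487) (flp_i L193100) L280688
theorem L280709 : sm gj N22718 = N33106 := rfl
theorem L280716 : sm gi N33106 = N22759 := ded_53_2 (flp_j L193506) (flp_i L193109) L280709
theorem L280718 : sm gg N33106 = N22875 := ded_49_1 (flp_j L194549) (flp_g L133979) (flp_j L133019) L193103 L280709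
theorem L280729 : sm gd N22719 = N33108 := rfl
theorem L280733 : sm gf N33108 = N22720 := ded_35_2 (flp_d L193122) (flp_f L193118) L280729
theorem L280735 : sm gj N33108 = N22877 := ded_37_2 (flp_d L194569) (flp_j L193120) L280729
theorem L280737 : sm gi N22719 = N33109 := rfl
theorem L280741 : sm gc N33109 = N22726 := ded_33_1 (flp_i L193184) (flp_c L193116) L280737
theorem L280757 : sm gi N22720 = N33111 := rfl
theorem L280764 : sm gj N33111 = N22880 := ded_53_1 (flp_i L194592) (flp_j L193127) L280757
theorem L280766 : sm gf N22722 = N33112 := rfl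
theorem L280770 : sm gb N33112 = N25282 := ded_22_1 (flp_f L214673) (flp_b L193145) L280766
theorem L280772 : sm gi N33112 = N22765 := ded_48_2 (flp_f L193562) (flp_i L193149) L280766
theorem L280776 : sm gj N22722 = N33113 := rfl
theorem L280786 : sm gg N33113 = N22882 := ded_49_1 (flp_j L194611) (flp_g L134014) (flp_j L133039) L193141 L280776
theorem L280798 : sm gd N22723 = N33115 := rfl
theorem L280800 : sm ga N33115 = N22739 := ded_12_1 (flp_d L193309) (flp_a L193153) L280798
theorem L280802 : sm gb N33115 = N25285 := ded_20_1 (flp_d L214699) (flp_b L193155) L280798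
theorem L280850 : sm gh N22727 = N33120 := rfl
theorem L280852 : sm gb N33120 = N23303 := ded_25_1 (flp_h L198260) (flp_b L193198) L280850
theorem L280855 : sm gj N33120 = N22889 := ded_52_1 (flp_h L194679) (flp_j L193201) L280850
theorem L280889 : sm gd N22729 = N33124 := rfl
theorem L280891 : sm gb N33124 = N23307 := ded_20_1 (flp_d L198292) (flp_b L193217) L280889
theorem L280909 : sm gh N22730 = N33126 := rfl
theorem L280911 : sm gb N33126 = N23309 := ded_25_1 (flp_h L198308) (flp_b L193228) L280909
theorem L280918 : sm gj N33126 = N22731 := ded_52_1 (flp_h L193237) L193226 L280909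
theorem L280927 : sm gi N22731 = N33128 := rfl
theorem L280936 : sm gh N33128 = N22781 := ded_54_1 (flp_i L193711) (flp_h L133408) (flp_i L133105) L193237 L280927
theorem L280944 : sm gi N22732 = N33130 := rfl
theorem L280950 : sm gf N33130 = N22735 := ded_48_1 (flp_i L193274) (flp_f L193250) L280944
theorem L280997 : sm gh N22737 = N33136 := rfl
theorem L281003 : sm gg N33136 = N22905 := ded_50_1 (flp_h L194814) (flp_g L193299) L280997
theorem L281005 : sm gj N33136 = N22738 := ded_52_1 (flp_h L193301) L193291 L280997
theorem L281013 : sm gi N22738 = N33138 := rfl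
theorem L281021 : sm gh N33138 = N22791 := ded_54_1 (flp_i L193797) (flp_h L133469) (flp_i L133143) L193301 L281013
theorem L281028 : sm gi N22739 = N33140 := rfl
theorem L281035 : sm gj N33140 = N22909 := ded_53_1 (flp_i L194841) (flp_j L193314) L281028
theorem L281098 : sm gi N22745 = N33147 := rfl
theorem L281110 : sm gh N33147 = N22800 := ded_54_1 (flp_i L193878) (flp_h L133531) (flp_i L133200) L193366 L281098
theorem L281174 : sm gh N22751 = N33155 := rfl
theorem L281178 : sm gb N33155 = N22758 := ded_25_1 (flp_h L193495) (flp_b L193431) L281174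
theorem L281187 : sm gj N22752 = N33156 := rfl
theorem L281193 : sm gc N33156 = N25326 := ded_31_1 (flp_j L215063) (flp_c L193444) L281187
theorem L281196 : sm gg N33156 = N22925 := ded_49_1 (flp_j L194984) (flp_g L134285) (flp_j L133264) L193438 L281187
theorem L281198 : sm gh N22752 = N33157 := rfl
theorem L281202 : sm gb N33157 = N22760 := ded_25_1 (flp_h L193515) (flp_b L193442) L281198
theorem L281209 : sm gd N22753 = N33158 := rfl
theorem L281217 : sm gj N33158 = N22927 := ded_37_2 (flp_d L195006) (flp_j L193457) L281209
theorem L281268 : sm gh N22756 = N33164 := rfl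
theorem L281270 : sm ga N33164 = N22773 := ded_17_1 (flp_h L193639) (flp_a L193482) L281268
theorem L281273 : sm gj N33164 = N22933 := ded_52_1 (flp_h L195058) (flp_j L193485) L281268
theorem L281332 : sm gd N22760 = N33171 := rfl
theorem L281367 : sm gf N22763 = N33175 := rfl
theorem L281369 : sm ga N33175 = N22784 := ded_14_1 (flp_f L193738) (flp_a L193545) L281367
theorem L281386 : sm gh N22764 = N33177 := rfl
theorem L281388 : sm ga N33177 = N22786 := ded_17_1 (flp_h L193757) (flp_a L193554) L281386
theorem L281403 : sm gh N22765 = N33179 := rfl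
theorem L281407 : sm gb N33179 = N25349 := ded_25_1 (flp_h L215279) (flp_b L193566) L281403
theorem L281434 : sm gi N22767 = N33182 := rfl
theorem L281440 : sm ge N33182 = N22771 := ded_44_1 (flp_i L193623) (flp_e L193586) L281434
theorem L281452 : sm gi N22768 = N33184 := rfl
theorem L281462 : sm gj N33184 = N22953 := ded_53_1 (flp_i L195226) (flp_j L193597) L281452
theorem L281464 : sm gi N22770 = N33185 := rfl
theorem L281466 : sm ga N33185 = N22794 := ded_18_1 (flp_i L193821) (flp_a L193613) L281464
theorem L281474 : sm gj N33185 = N22771 := ded_53_1 (flp_i L193623) (flp_j L193620) L281464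
theorem L281506 : sm gi N22773 = N33190 := rfl
theorem L281508 : sm gb N33190 = N23373 := ded_26_1 (flp_i L198891) (flp_b L193641) L281506
theorem L281511 : sm gj N33190 = N22959 := ded_53_1 (flp_i L195273) (flp_j L193644) L281506
theorem L281560 : sm gc N22777 = N33196 := rfl
theorem L281563 : sm gj N33196 = N22965 := ded_31_2 (flp_c L195325) (flp_j L193679) L281560
theorem L281565 : sm gd N33196 = N22792 := ded_27_2 (flp_c L193805) (flp_d L133477) (flp_c L133392) L193674 L281560
theorem L281622 : sm gf N22782 = N33203 := rfl
theorem L281624 : sm gb N33203 = N23386 := ded_22_1 (flp_f L198987) (flp_b L193722) L281622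
theorem L281627 : sm gj N33203 = N22972 := ded_46_2 (flp_f L195380) (flp_j L193725) L281622
theorem L281629 : sm ge N33203 = N22784 := ded_40_1 (flp_f L193738) (flp_e L133436) (flp_f L133421) L193720 L281622
theorem L281649 : sm gg N22784 = N33206 := rfl
theorem L281651 : sm gb N33206 = N23389 := ded_23_1 (flp_g L199011) (flp_b L193740) L281649
theorem L281653 : sm gc N33206 = N33206 := ded_30_1 (flp_g L281649) L193742 L281649
theorem L281654 : sm gd N33206 = N33206 := ded_36_1 (flp_g L281649) L193743 L281649
theorem L281655 : sm gf N33206 = N33206 := ded_45_1 (flp_g L281649) (flp_f L193738) L133441 L193738 L281649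
theorem L281656 : sm gi N22784 = N33207 := rfl
theorem L281749 : sm gi N22792 = N33218 := rfl
theorem L281751 : sm gc N33218 = N22793 := ded_33_1 (flp_i L193811) L193805 L281749
theorem L281796 : sm gc N22797 = N33223 := rfl
theorem L281798 : sm ga N33223 = N25393 := ded_11_1 (flp_c L215663) (flp_a L193854) L281796
theorem L281800 : sm gf N33223 = N22801 := ded_29_2 (flp_c L193890) (flp_f L193856) L281796
theorem L281832 : sm gi N22799 = N33227 := rfl
theorem L281834 : sm ga N33227 = N25397 := ded_18_1 (flp_i L215691) (flp_a L193871) L281832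
theorem L281836 : sm gd N33227 = N22800 := ded_39_1 (flp_i L193878) L193869 L281832
theorem L281839 : sm gg N33227 = N22996 := ded_51_1 (flp_i L195572) (flp_g L193873) L281832
theorem L281841 : sm gj N33227 = N22802 := ded_53_1 (flp_i L193899) (flp_j L193875) L281832
theorem L281878 : sm gi N22803 = N33232 := rfl
theorem L281882 : sm gd N33232 = N23415 := ded_39_1 (flp_i L199249) (flp_d L193910) L281878
theorem L281973 : sm gh N22809 = N33242 := rfl
theorem L281979 : sm ge N33242 = N22811 := ded_43_1 (flp_h L193985) L193965 L281973
theorem L281981 : sm gf N33242 = N22839 := ded_47_1 (flp_h L194231) (flp_f L193972) L281973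
theorem L282030 : sm gh N22814 = N33248 := rfl
theorem L282035 : sm ge N33248 = N22816 := ded_43_1 (flp_h L194034) L194017 L282030
theorem L282037 : sm gf N33248 = N22845 := ded_47_1 (flp_h L194285) (flp_f L194023) L282030
theorem L282072 : sm ge N22817 = N33253 := rfl
theorem L282076 : sm gg N33253 = N23022 := ded_41_2 (flp_e L195804) (flp_g L194044) L282072
theorem L282079 : sm gd N33253 = N22850 := ded_34_1 (flp_e L194324) (flp_d L133831) (flp_e L133645) L194041 L282072
theorem L282138 : sm gi N22822 = N33261 := rfl
theorem L282143 : sm gf N33261 = N23030 := ded_48_1 (flp_i L195871) (flp_f L194086) L282138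
theorem L282145 : sm gg N33261 = N22823 := ded_51_1 (flp_i L194091) (flp_g L194088) L282138
theorem L282148 : sm gj N22824 = N33262 := rfl
theorem L282155 : sm gf N33262 = N22825 := ded_46_1 (flp_j L194109) L194099 L282148
theorem L282169 : sm gh N22825 = N33264 := rfl
theorem L282176 : sm gj N33264 = N22826 := ded_52_1 (flp_h L194117) L194109 L282169
theorem L282203 : sm gi N22827 = N33268 := rfl
theorem L282205 : sm ga N33268 = N25463 := ded_18_1 (flp_i L216229) (flp_a L194128) L282203
theorem L282210 : sm gf N33268 = N22865 := ded_48_1 (flp_i L194449) (flp_f L194130) L282203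
theorem L282289 : sm gj N22834 = N33278 := rfl
theorem L282295 : sm gf N33278 = N23047 := ded_46_1 (flp_j L196022) (flp_f L194195) L282289
theorem L282400 : sm gi N22841 = N33290 := rfl
theorem L282410 : sm gg N33290 = N22842 := ded_51_1 (flp_i L194262) (flp_g L194258) L282400
theorem L282458 : sm gh N22846 = N33298 := rfl
theorem L282461 : sm gc N33298 = N22857 := ded_32_1 (flp_h L194375) (flp_c L194295) L282458
theorem L282463 : sm gf N33298 = N23067 := ded_47_1 (flp_h L196193) (flp_f L194297) L282458
theorem L282476 : sm gi N22847 = N33300 := rfl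
theorem L282481 : sm gf N33300 = N23069 := ded_48_1 (flp_i L196208) (flp_f L194305) L282476
theorem L282483 : sm gg N33300 = N22849 := ded_51_1 (flp_i L194316) (flp_g L194307) L282476
theorem L282486 : sm ge N22848 = N33301 := rfl
theorem L282491 : sm gi N22848 = N33302 := rfl
theorem L282496 : sm gd N33302 = N22849 := ded_39_1 (flp_i L194316) L194309 L282491
theorem L282505 : sm gi N22850 = N33304 := rfl
theorem L282512 : sm gg N33304 = N23073 := ded_51_1 (flp_i L196238) (flp_g L194329) L282505
theorem L282522 : sm gj N22852 = N33306 := rfl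
theorem L282526 : sm ge N33306 = N23075 := ded_42_1 (flp_j L196253) (flp_e L194345) L282522
theorem L282528 : sm gf N33306 = N22853 := ded_46_1 (flp_j L194347) L194340 L282522
theorem L282555 : sm gi N22854 = N33310 := rfl
theorem L282561 : sm gg N33310 = N22856 := ded_51_1 (flp_i L194368) (flp_g L194360) L282555
theorem L282576 : sm gi N22857 = N33313 := rfl
theorem L282584 : sm gj N33313 = N22858 := ded_53_1 (flp_i L194385) (flp_j L194381) L282576
theorem L282612 : sm gi N22860 = N33317 := rfl
theorem L282617 : sm ge N33317 = N23086 := ded_44_1 (flp_i L196343) (flp_e L194411) L282612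
theorem L282736 : sm gd N22869 = N33330 := rfl
theorem L282740 : sm gb N33330 = N22877 := ded_20_1 (flp_d L194569) (flp_b L194496) L282736
theorem L282791 : sm gh N22872 = N33336 := rfl
theorem L282793 : sm ga N33336 = N22889 := ded_17_1 (flp_h L194679) (flp_a L194525) L282791
theorem L282807 : sm gj N22873 = N33338 := rfl
theorem L282813 : sm ge N33338 = N22875 := ded_42_1 (flp_j L194549) (flp_e L194536) L282807
theorem L282815 : sm gi N33338 = N22935 := ded_53_2 (flp_j L195072) (flp_i L194538) L282807
theorem L282843 : sm gh N22875 = N33342 := rfl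
theorem L282851 : sm gj N33342 = N22876 := ded_52_1 (flp_h L194559) L194549 L282843
theorem L282853 : sm gd N22876 = N33343 := rfl
theorem L282857 : sm gf N33343 = N23112 := ded_35_2 (flp_d L196592) (flp_f L194565) L282853
theorem L282859 : sm gg N33343 = N22877 := ded_36_2 (flp_d L194569) (flp_g L194567) L282853
theorem L282861 : sm gi N22876 = N33344 := rfl
theorem L282865 : sm gc N33344 = N22887 := ded_33_1 (flp_i L194659) (flp_c L194563) L282861
theorem L282873 : sm ge N22877 = N33345 := rfl
theorem L282899 : sm gh N22880 = N33349 := rfl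
theorem L282905 : sm gd N33349 = N22946 := ded_38_1 (flp_h L195163) L134392 (flp_h L134012) (flp_d L194596) L282899
theorem L282986 : sm gf N22888 = N33358 := rfl
theorem L282990 : sm gd N33358 = N22890 := ded_35_1 (flp_f L194684) (flp_d L194675) L282986
theorem L282992 : sm gi N33358 = N22955 := ded_48_2 (flp_f L195247) (flp_i L194677) L282986
theorem L282995 : sm gj N22888 = N33359 := rfl
theorem L282999 : sm gd N33359 = N22891 := ded_37_1 (flp_j L194695) (flp_d L194675) L282995
theorem L283003 : sm gh N22888 = N33360 := rfl
theorem L283005 : sm gb N33360 = N23452 := ded_25_1 (flp_h L199587) (flp_b L194673) L283003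
theorem L283007 : sm gg N33360 = N22889 := ded_50_1 (flp_h L194679) L194671 L283003
theorem L283009 : sm gd N22889 = N33361 := rfl
theorem L283011 : sm gb N33361 = N23453 := ded_20_1 (flp_d L199592) (flp_b L194681) L283009
theorem L283016 : sm gi N22889 = N33362 := rfl
theorem L283018 : sm gb N33362 = N23454 := ded_26_1 (flp_i L199597) (flp_b L194681) L283016
theorem L283020 : sm gf N33362 = N33362 := ded_48_1 (flp_i L283016) L194683 L283016
theorem L283021 : sm gh N33362 = N22959 := ded_54_1 (flp_i L195273) (flp_h L134468) (flp_i L134070) L194679 L283016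
theorem L283023 : sm gj N22890 = N33363 := rfl
theorem L283027 : sm gc N33363 = N22903 := ded_31_1 (flp_j L194795) (flp_c L194688) L283023
theorem L283031 : sm gf N33363 = N22891 := ded_46_1 (flp_j L194695) L194684 L283023
theorem L283035 : sm gh N22890 = N33364 := rfl
theorem L283039 : sm gc N33364 = N22904 := ded_32_1 (flp_h L194805) (flp_c L194688) L283035
theorem L283041 : sm ge N33364 = N23133 := ded_43_1 (flp_h L196777) (flp_e L194692) L283035
theorem L283046 : sm gh N22891 = N33365 := rfl
theorem L283048 : sm gb N33365 = N23457 := ded_25_1 (flp_h L199622) (flp_b L194697) L283046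
theorem L283050 : sm gc N33365 = N22905 := ded_32_1 (flp_h L194814) (flp_c L194699) L283046
theorem L283085 : sm gi N22893 = N33370 := rfl
theorem L283087 : sm gb N33370 = N23462 := ded_26_1 (flp_i L199653) (flp_b L194717) L283085
theorem L283155 : sm gi N22900 = N33379 := rfl
theorem L283157 : sm gb N33379 = N23471 := ded_26_1 (flp_i L199712) (flp_b L194775) L283155
theorem L283170 : sm gg N22903 = N33381 := rfl
theorem L283176 : sm gi N33381 = N22978 := ded_51_2 (flp_g L195426) (flp_i L194803) L283170
theorem L283196 : sm gi N22904 = N33384 := rfl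
theorem L283205 : sm gh N33384 = N22981 := ded_54_1 (flp_i L195450) (flp_h L134588) (flp_i L134146) L194805 L283196
theorem L283213 : sm gi N22905 = N33386 := rfl
theorem L283219 : sm gj N33386 = N22907 := ded_53_1 (flp_i L194828) (flp_j L194820) L283213
theorem L283221 : sm gh N33386 = N22983 := ded_54_1 (flp_i L195466) (flp_h L134597) (flp_i L134157) L194814 L283213
theorem L283227 : sm gi N22906 = N33388 := rfl
theorem L283233 : sm gg N33388 = N22909 := ded_51_1 (flp_i L194841) (flp_g L194826) L283227
theorem L283371 : sm gc N22922 = N33406 := rfl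
theorem L283376 : sm gd N33406 = N25601 := ded_27_2 (flp_c L217333) (flp_d L149737) (flp_c L134282) L194956 L283371
theorem L283378 : sm gg N22922 = N33407 := rfl
theorem L283382 : sm gb N33407 = N22932 := ded_23_1 (flp_g L195052) (flp_b L194960) L283378
theorem L283384 : sm gd N33407 = N22923 := ded_36_1 (flp_g L194963) L194956 L283378
theorem L283386 : sm gh N22922 = N33408 := rfl
theorem L283388 : sm ga N33408 = N23500 := ded_17_1 (flp_h L199951) (flp_a L194958) L283386
theorem L283390 : sm gb N33408 = N22933 := ded_25_1 (flp_h L195058) (flp_b L194960) L283386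
theorem L283393 : sm gf N22923 = N33409 := rfl
theorem L283395 : sm ga N33409 = N23501 := ded_14_1 (flp_f L199956) (flp_a L194965) L283393
theorem L283414 : sm gh N22923 = N33411 := rfl
theorem L283418 : sm gb N33411 = N22936 := ded_25_1 (flp_h L195080) (flp_b L194967) L283414
theorem L283426 : sm gd N22924 = N33412 := rfl
theorem L283430 : sm gb N33412 = N22937 := ded_20_1 (flp_d L195090) (flp_b L194977) L283426
theorem L283478 : sm gc N22927 = N33417 := rfl
theorem L283480 : sm ga N33417 = N23509 := ded_11_1 (flp_c L200025) (flp_a L195008) L283478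
theorem L283556 : sm gj N22932 = N33426 := rfl
theorem L283560 : sm gd N33426 = N22935 := ded_37_1 (flp_j L195072) (flp_d L195056) L283556
theorem L283562 : sm gh N22932 = N33427 := rfl
theorem L283566 : sm gg N33427 = N22933 := ded_50_1 (flp_h L195058) L195052 L283562
theorem L283568 : sm gd N22933 = N33428 := rfl
theorem L283570 : sm ga N33428 = N22958 := ded_12_1 (flp_d L195266) (flp_a L195060) L283568
theorem L283573 : sm gh N33428 = N22937 := ded_38_2 (flp_d L195090) (flp_h L134337) L134324 L195058 L283568
theorem L283575 : sm gi N22933 = N33429 := rfl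
theorem L283577 : sm ga N33429 = N22959 := ded_18_1 (flp_i L195273) (flp_a L195060) L283575
theorem L283579 : sm gf N33429 = N33429 := ded_48_1 (flp_i L283575) L195062 L283575
theorem L283601 : sm gh N22935 = N33432 := rfl
theorem L283607 : sm ge N33432 = N22939 := ded_43_1 (flp_h L195104) (flp_e L195078) L283601
theorem L283609 : sm gj N33432 = N22936 := ded_52_1 (flp_h L195080) L195072 L283601
theorem L283617 : sm gi N22936 = N33434 := rfl
theorem L283625 : sm gg N33434 = N22938 := ded_51_1 (flp_i L195095) (flp_g L195088) L283617
theorem L283634 : sm ge N22937 = N33436 := rfl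
theorem L283636 : sm ga N33436 = N22966 := ded_13_1 (flp_e L195330) (flp_a L195092) L283634
theorem L283638 : sm gd N33436 = N22942 := ded_34_1 (flp_e L195133) (flp_d L134364) (flp_e L134343) L195090 L283634
theorem L283647 : sm gd N22939 = N33438 := rfl
theorem L283649 : sm ga N33438 = N22968 := ded_12_1 (flp_d L195343) (flp_a L195106) L283647
theorem L283653 : sm gj N33438 = N22940 := ded_37_2 (flp_d L195114) (flp_j L195112) L283647
theorem L283666 : sm ge N22940 = N33440 := rfl
theorem L283668 : sm ga N33440 = N22970 := ded_13_1 (flp_e L195362) (flp_a L195116) L283666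
theorem L283684 : sm gf N22942 = N33442 := rfl
theorem L283686 : sm ga N33442 = N22972 := ded_14_1 (flp_f L195380) (flp_a L195135) L283684
theorem L283691 : sm gi N22942 = N33443 := rfl
theorem L283696 : sm ge N33443 = N22943 := ded_44_1 (flp_i L195138) L195133 L283691
theorem L283698 : sm gh N22943 = N33444 := rfl
theorem L283703 : sm gf N33444 = N22946 := ded_47_1 (flp_h L195163) (flp_f L195145) L283698
theorem L283721 : sm gh N22945 = N33447 := rfl
theorem L283723 : sm ga N33447 = N22977 := ded_17_1 (flp_h L195417) (flp_a L195155) L283721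
theorem L283771 : sm gd N22949 = N33452 := rfl
theorem L283775 : sm gb N33452 = N25647 := ded_20_1 (flp_d L217725) (flp_b L195195) L283771
theorem L283777 : sm gj N33452 = N22950 := ded_37_2 (flp_d L195201) (flp_j L195199) L283771
theorem L283797 : sm gi N22950 = N33455 := rfl
theorem L283803 : sm gd N33455 = N22951 := ded_39_1 (flp_i L195210) L195201 L283797
theorem L283806 : sm gg N33455 = N22953 := ded_51_1 (flp_i L195226) (flp_g L195207) L283797
theorem L283814 : sm gi N22952 = N33457 := rfl
theorem L283816 : sm ga N33457 = N22987 := ded_18_1 (flp_i L195494) (flp_a L195222) L283814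
theorem L283818 : sm gc N33457 = N22953 := ded_33_1 (flp_i L195226) L195220 L283814
theorem L283830 : sm ge N22955 = N33459 := rfl
theorem L283832 : sm gb N33459 = N23551 := ded_21_1 (flp_e L200390) (flp_b L195249) L283830
theorem L283835 : sm gd N33459 = N23228 := ded_34_1 (flp_e L197596) L136056 (flp_e L134479) (flp_d L195251) L283830
theorem L283858 : sm gd N22957 = N33463 := rfl
theorem L283862 : sm gg N33463 = N22958 := ded_36_2 (flp_d L195266) (flp_g L195264) L283858
theorem L283864 : sm gh N33463 = N22963 := ded_38_2 (flp_d L195309) (flp_h L134490) (flp_d L134466) L195260 L283858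
theorem L283866 : sm gi N22957 = N33464 := rfl
theorem L283868 : sm gb N33464 = N23556 := ded_26_1 (flp_i L200420) (flp_b L195262) L283866
theorem L283870 : sm gg N33464 = N22959 := ded_51_1 (flp_i L195273) (flp_g L195264) L283866
theorem L283877 : sm ge N22958 = N33466 := rfl
theorem L283879 : sm gb N33466 = N23558 := ded_21_1 (flp_e L200431) (flp_b L195268) L283877
theorem L283881 : sm gh N33466 = N22966 := ded_43_2 (flp_e L195330) (flp_h L195271) L283877
theorem L283883 : sm gi N22958 = N33467 := rfl
theorem L283885 : sm gb N33467 = N23559 := ded_26_1 (flp_i L200435) (flp_b L195268) L283883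
theorem L283887 : sm gd N33467 = N22959 := ded_39_1 (flp_i L195273) L195266 L283883
theorem L283918 : sm gi N22961 = N33471 := rfl
theorem L283922 : sm gc N33471 = N22981 := ded_33_1 (flp_i L195450) (flp_c L195292) L283918
theorem L283959 : sm gi N22963 = N33476 := rfl
theorem L283961 : sm gb N33476 = N23568 := ded_26_1 (flp_i L200495) (flp_b L195311) L283959
theorem L283979 : sm gi N22965 = N33479 := rfl
theorem L283983 : sm gd N33479 = N22987 := ded_39_1 (flp_i L195494) (flp_d L195328) L283979
theorem L283986 : sm gf N22966 = N33480 := rfl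
theorem L283988 : sm gb N33480 = N23572 := ded_22_1 (flp_f L200519) (flp_b L195332) L283986
theorem L283990 : sm gd N33480 = N22972 := ded_35_1 (flp_f L195380) (flp_d L195334) L283986
theorem L283993 : sm gi N22966 = N33481 := rfl
theorem L284013 : sm gi N22968 = N33484 := rfl
theorem L284020 : sm gf N33484 = N23252 := ded_48_1 (flp_i L197787) (flp_f L195347) L284013
theorem L284024 : sm gf N22970 = N33485 := rfl
theorem L284026 : sm gb N33485 = N23577 := ded_22_1 (flp_f L200549) (flp_b L195364) L284024
theorem L284029 : sm ge N33485 = N23253 := ded_40_1 (flp_f L197797) (flp_e L136172) (flp_f L134528) L195362 L284024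
theorem L284031 : sm gi N22970 = N33486 := rfl
theorem L284033 : sm gb N33486 = N23578 := ded_26_1 (flp_i L200555) (flp_b L195364) L284031
theorem L284049 : sm gg N22972 = N33488 := rfl
theorem L284051 : sm gb N33488 = N23580 := ded_23_1 (flp_g L200571) (flp_b L195382) L284049
theorem L284053 : sm gc N33488 = N33488 := ded_30_1 (flp_g L284049) L195384 L284049
theorem L284054 : sm ge N33488 = N22975 := ded_41_1 (flp_g L195401) (flp_e L195385) L284049
theorem L284056 : sm gi N22972 = N33489 := rfl
theorem L284058 : sm gb N33489 = N23581 := ded_26_1 (flp_i L200577) (flp_b L195382) L284056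
theorem L284061 : sm ge N33489 = N22976 := ded_44_1 (flp_i L195409) (flp_e L195385) L284056
theorem L284072 : sm gj N22975 = N33491 := rfl
theorem L284074 : sm gb N33491 = N23583 := ded_24_1 (flp_j L200591) (flp_b L195403) L284072
theorem L284076 : sm gc N33491 = N33491 := ded_31_1 (flp_j L284072) L195405 L284072
theorem L284077 : sm gd N33491 = N33491 := ded_37_1 (flp_j L284072) L195406 L284072
theorem L284078 : sm gf N33491 = N23259 := ded_46_1 (flp_j L197843) (flp_f L195407) L284072
theorem L284080 : sm gi N22975 = N33492 := rfl
theorem L284082 : sm gb N33492 = N23584 := ded_26_1 (flp_i L200598) (flp_b L195403) L284080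
theorem L284090 : sm gh N22976 = N33493 := rfl
theorem L284095 : sm gf N33493 = N22977 := ded_47_1 (flp_h L195417) (flp_f L195415) L284090
theorem L284121 : sm gi N22979 = N33497 := rfl
theorem L284127 : sm gf N33497 = N22983 := ded_48_1 (flp_i L195466) (flp_f L195439) L284121
theorem L284181 : sm gh N22985 = N33505 := rfl
theorem L284183 : sm gb N33505 = N22999 := ded_25_1 (flp_h L195599) (flp_b L195481) L284181
theorem L284186 : sm gg N33505 = N22988 := ded_50_1 (flp_h L195500) (flp_g L195486) L284181
theorem L284194 : sm gi N22986 = N33507 := rfl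
theorem L284196 : sm gb N33507 = N22987 := ded_26_1 (flp_i L195494) L195488 L284194
theorem L284198 : sm gc N33507 = N23001 := ded_33_1 (flp_i L195614) (flp_c L195492) L284194
theorem L284202 : sm gh N22987 = N33508 := rfl
theorem L284204 : sm gc N33508 = N22988 := ded_32_1 (flp_h L195500) (flp_c L195496) L284202
theorem L284282 : sm gi N22993 = N33517 := rfl
theorem L284286 : sm gd N33517 = N23278 := ded_39_1 (flp_i L198003) (flp_d L195551) L284282
theorem L284288 : sm ge N33517 = N22994 := ded_44_1 (flp_i L195554) L195546 L284282
theorem L284292 : sm gh N22994 = N33518 := rfl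
theorem L284294 : sm ga N33518 = N25713 := ded_17_1 (flp_h L218232) (flp_a L195556) L284292
theorem L284296 : sm gf N33518 = N22999 := ded_47_1 (flp_h L195599) (flp_f L195560) L284292
theorem L284306 : sm gi N22995 = N33520 := rfl
theorem L284310 : sm gc N33520 = N22996 := ded_33_1 (flp_i L195572) L195563 L284306
theorem L284315 : sm gj N33520 = N22998 := ded_53_1 (flp_i L195588) (flp_j L195568) L284306
theorem L284374 : sm ge N23003 = N33528 := rfl
theorem L284379 : sm gc N33528 = N25759 := ded_28_1 (flp_e L218604) (flp_c L195635) L284374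
theorem L284383 : sm gf N33528 = N23039 := ded_40_2 (flp_e L195955) (flp_f L134963) (flp_e L134740) L195630 L284374
theorem L284547 : sm gi N23011 = N33546 := rfl
theorem L284551 : sm gb N33546 = N25777 := ded_26_1 (flp_i L218755) (flp_b L195708) L284547
theorem L284553 : sm ge N33546 = N23014 := ded_44_1 (flp_i L195734) (flp_e L195710) L284547
theorem L284627 : sm gi N23017 = N33555 := rfl
theorem L284632 : sm ge N33555 = N23021 := ded_44_1 (flp_i L195795) (flp_e L195767) L284627
theorem L284634 : sm gf N33555 = N23066 := ded_48_1 (flp_i L196184) (flp_f L195769) L284627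
theorem L284676 : sm gf N23022 = N33561 := rfl
theorem L284680 : sm gd N33561 = N23072 := ded_35_1 (flp_f L196232) (flp_d L195810) L284676
theorem L284826 : sm gc N23034 = N33578 := rfl
theorem L284828 : sm ga N33578 = N25809 := ded_11_1 (flp_c L219010) (flp_a L195909) L284826
theorem L284863 : sm gh N23037 = N33582 := rfl
theorem L284865 : sm ga N33582 = N25813 := ded_17_1 (flp_h L219041) (flp_a L195937) L284863
theorem L284873 : sm gd N23039 = N33583 := rfl
theorem L284890 : sm gh N23039 = N33585 := rfl
theorem L284937 : sm gc N23042 = N33590 := rfl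
theorem L284943 : sm gd N33590 = N25821 := ded_27_2 (flp_c L219106) (flp_d L150899) (flp_c L134977) L195982 L284937
theorem L285032 : sm gi N23048 = N33602 := rfl
theorem L285034 : sm ga N33602 = N23069 := ded_18_1 (flp_i L196208) (flp_a L196032) L285032
theorem L285066 : sm gi N23051 = N33606 := rfl
theorem L285068 : sm ga N33606 = N23073 := ded_18_1 (flp_i L196238) (flp_a L196059) L285066
theorem L285070 : sm gc N33606 = N23117 := ded_33_1 (flp_i L196628) (flp_c L196061) L285066
theorem L285123 : sm gi N23055 = N33612 := rfl
theorem L285127 : sm gb N33612 = N25843 := ded_26_1 (flp_i L219290) (flp_b L196096) L285123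
theorem L285213 : sm gh N23063 = N33623 := rfl
theorem L285218 : sm ge N33623 = N23067 := ded_43_1 (flp_h L196193) (flp_e L196167) L285213
theorem L285263 : sm gi N23067 = N33630 := rfl
theorem L285269 : sm gj N33630 = N23069 := ded_53_1 (flp_i L196208) (flp_j L196199) L285263
theorem L285272 : sm ge N23068 = N33631 := rfl
theorem L285275 : sm gc N33631 = N23142 := ded_28_1 (flp_e L196854) (flp_c L196206) L285272
theorem L285304 : sm gh N23071 = N33635 := rfl
theorem L285309 : sm gf N33635 = N23074 := ded_47_1 (flp_h L196246) (flp_f L196229) L285304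
theorem L285326 : sm gh N23073 = N33638 := rfl
theorem L285331 : sm ge N33638 = N23074 := ded_43_1 (flp_h L196246) (flp_e L196243) L285326
theorem L285341 : sm gh N23075 = N33640 := rfl
theorem L285347 : sm gj N33640 = N23076 := ded_52_1 (flp_h L196261) L196253 L285341
theorem L285356 : sm gi N23076 = N33642 := rfl
theorem L285358 : sm gb N33642 = N23086 := ded_26_1 (flp_i L196343) (flp_b L196263) L285356
theorem L285415 : sm gh N23081 = N33649 := rfl
theorem L285419 : sm ge N33649 = N23160 := ded_43_1 (flp_h L196990) (flp_e L196306) L285415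
theorem L285474 : sm gc N23087 = N33656 := rfl
theorem L285476 : sm ga N33656 = N25887 := ded_11_1 (flp_c L219632) (flp_a L196353) L285474
theorem L285478 : sm ge N33656 = N23167 := ded_28_2 (flp_c L197055) (flp_e L196358) L285474
theorem L285481 : sm gj N33656 = N23089 := ded_31_2 (flp_c L196372) (flp_j L196356) L285474
theorem L285485 : sm gi N23087 = N33657 := rfl
theorem L285487 : sm ga N33657 = N25888 := ded_18_1 (flp_i L219641) (flp_a L196353) L285485
theorem L285494 : sm gj N33657 = N23090 := ded_53_1 (flp_i L196382) (flp_j L196356) L285485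
theorem L285525 : sm ga N23091 = N33661 := rfl
theorem L285528 : sm ge N33661 = N23172 := ded_13_2 (flp_a L197100) (flp_e L196395) L285525
theorem L285532 : sm gb N33661 = N25892 := ded_10_2 (flp_a L219675) (flp_b L151288) (flp_a L135241) L196392 L285525
theorem L285542 : sm gh N23092 = N33663 := rfl
theorem L285552 : sm gc N23094 = N33664 := rfl
theorem L285558 : sm gi N33664 = N23175 := ded_33_2 (flp_c L197127) (flp_i L196426) L285552
theorem L285625 : sm gi N23096 = N33671 := rfl
theorem L285629 : sm gb N33671 = N23110 := ded_26_1 (flp_i L196571) (flp_b L196444) L285625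
theorem L285637 : sm gh N33671 = N23182 := ded_54_1 (flp_i L197192) (flp_h L135779) (flp_i L135277) L196440 L285625
theorem L285740 : sm gf N23104 = N33683 := rfl
theorem L285742 : sm ga N33683 = N23127 := ded_14_1 (flp_f L196723) (flp_a L196521) L285740
theorem L285745 : sm gd N33683 = N23106 := ded_35_1 (flp_f L196535) (flp_d L196524) L285740
theorem L285760 : sm gh N23104 = N33685 := rfl
theorem L285762 : sm ga N33685 = N23129 := ded_17_1 (flp_h L196743) (flp_a L196521) L285760
theorem L285765 : sm gg N33685 = N23105 := ded_50_1 (flp_h L196528) L196519 L285760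
theorem L285767 : sm gd N23105 = N33686 := rfl
theorem L285769 : sm ga N33686 = N23130 := ded_12_1 (flp_d L196750) (flp_a L196530) L285767
theorem L285773 : sm gh N33686 = N23109 := ded_38_2 (flp_d L196565) (flp_h L135339) L135320 L196528 L285767
theorem L285775 : sm gi N23105 = N33687 := rfl
theorem L285777 : sm ga N33687 = N23131 := ded_18_1 (flp_i L196758) (flp_a L196530) L285775
theorem L285782 : sm gh N33687 = N23198 := ded_54_1 (flp_i L197335) (flp_h L135862) (flp_i L135326) L196528 L285775
theorem L285803 : sm gh N23107 = N33690 := rfl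
theorem L285805 : sm ga N33690 = N23134 := ded_17_1 (flp_h L196786) (flp_a L196546) L285803
theorem L285812 : sm gj N33690 = N23108 := ded_52_1 (flp_h L196555) L196544 L285803
theorem L285820 : sm gi N23108 = N33692 := rfl
theorem L285822 : sm ga N33692 = N23136 := ded_18_1 (flp_i L196803) (flp_a L196557) L285820
theorem L285828 : sm gg N33692 = N23110 := ded_51_1 (flp_i L196571) (flp_g L196563) L285820
theorem L285840 : sm ge N23109 = N33694 := rfl
theorem L285842 : sm ga N33694 = N23138 := ded_13_1 (flp_e L196821) (flp_a L196567) L285840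
theorem L285845 : sm gd N33694 = N23114 := ded_34_1 (flp_e L196608) (flp_d L135366) (flp_e L135345) L196565 L285840
theorem L285847 : sm gi N23109 = N33695 := rfl
theorem L285849 : sm ga N33695 = N23139 := ded_18_1 (flp_i L196828) (flp_a L196567) L285847
theorem L285851 : sm gd N33695 = N23110 := ded_39_1 (flp_i L196571) L196565 L285847
theorem L285879 : sm gi N23112 = N33699 := rfl
theorem L285885 : sm gg N33699 = N23115 := ded_51_1 (flp_i L196613) (flp_g L196596) L285879
theorem L285887 : sm gf N23114 = N33700 := rfl
theorem L285892 : sm ge N33700 = N23116 := ded_40_1 (flp_f L196622) (flp_e L135384) (flp_f L135370) L196608 L285887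
theorem L285901 : sm gh N23115 = N33702 := rfl
theorem L285903 : sm ga N33702 = N23146 := ded_17_1 (flp_h L196882) (flp_a L196615) L285901
theorem L285915 : sm gi N23116 = N33704 := rfl
theorem L285917 : sm ga N33704 = N23148 := ded_18_1 (flp_i L196896) (flp_a L196624) L285915
theorem L285923 : sm gh N23117 = N33705 := rfl
theorem L285930 : sm gg N23119 = N33706 := rfl
theorem L285937 : sm gi N33706 = N23217 := ded_51_2 (flp_g L197489) (flp_i L196652) L285930
theorem L285941 : sm gh N23119 = N33707 := rfl
theorem L285949 : sm gj N33707 = N23120 := ded_52_1 (flp_h L196654) L196643 L285941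
theorem L285961 : sm gi N23120 = N33709 := rfl
theorem L285970 : sm gh N33709 = N23220 := ded_54_1 (flp_i L197518) (flp_h L135982) (flp_i L135404) L196654 L285961
theorem L285972 : sm gd N23121 = N33710 := rfl
theorem L285976 : sm gb N33710 = N25941 := ded_20_1 (flp_d L220110) (flp_b L196667) L285972
theorem L285979 : sm gj N33710 = N23122 := ded_37_2 (flp_d L196674) (flp_j L196672) L285972
theorem L285982 : sm gi N23121 = N33711 := rfl
theorem L285984 : sm ga N33711 = N23155 := ded_18_1 (flp_i L196953) (flp_a L196665) L285982
theorem L285988 : sm ge N33711 = N23126 := ded_44_1 (flp_i L196712) (flp_e L196669) L285982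
theorem L285993 : sm gh N33711 = N23222 := ded_54_1 (flp_i L197538) (flp_h L135991) (flp_i L135416) L196663 L285982
theorem L286019 : sm gi N23124 = N33715 := rfl
theorem L286021 : sm ga N33715 = N23159 := ded_18_1 (flp_i L196984) (flp_a L196697) L286019
theorem L286023 : sm gc N33715 = N23125 := ded_33_1 (flp_i L196702) L196695 L286019
theorem L286038 : sm ge N23127 = N33717 := rfl
theorem L286046 : sm gj N23127 = N33718 := rfl
theorem L286048 : sm gb N33718 = N23669 := ded_24_1 (flp_j L201347) (flp_b L196725) L286046
theorem L286055 : sm gi N33718 = N23229 := ded_53_2 (flp_j L197602) (flp_i L196730) L286046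
theorem L286057 : sm gh N23127 = N33719 := rfl
theorem L286059 : sm gb N33719 = N23670 := ded_25_1 (flp_h L201357) (flp_b L196725) L286057
theorem L286061 : sm gc N33719 = N33719 := ded_32_1 (flp_h L286057) L196727 L286057
theorem L286062 : sm gf N33719 = N23129 := ded_47_1 (flp_h L196743) L196723 L286057
theorem L286064 : sm gg N33719 = N33719 := ded_50_1 (flp_h L286057) L196732 L286057
theorem L286065 : sm gh N23128 = N33720 := rfl
theorem L286067 : sm gb N33720 = N23671 := ded_25_1 (flp_h L201364) (flp_b L196735) L286065
theorem L286069 : sm gc N33720 = N33720 := ded_32_1 (flp_h L286065) L196737 L286065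
theorem L286070 : sm gg N33720 = N33720 := ded_50_1 (flp_h L286065) L196742 L286065
theorem L286071 : sm gj N33720 = N23129 := ded_52_1 (flp_h L196743) L196733 L286065
theorem L286073 : sm gd N23129 = N33721 := rfl
theorem L286075 : sm gb N33721 = N23672 := ded_20_1 (flp_d L201371) (flp_b L196745) L286073
theorem L286081 : sm gi N23129 = N33722 := rfl
theorem L286083 : sm gb N33722 = N23673 := ded_26_1 (flp_i L201377) (flp_b L196745) L286081
theorem L286085 : sm gc N33722 = N33722 := ded_33_1 (flp_i L286081) L196747 L286081
theorem L286086 : sm gg N33722 = N23131 := ded_51_1 (flp_i L196758) (flp_g L196748) L286081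
theorem L286088 : sm gh N33722 = N23233 := ded_54_1 (flp_i L197635) (flp_h L136067) (flp_i L135476) L196743 L286081
theorem L286097 : sm ge N23130 = N33724 := rfl
theorem L286099 : sm gb N33724 = N23675 := ded_21_1 (flp_e L201393) (flp_b L196752) L286097
theorem L286104 : sm gi N23130 = N33725 := rfl
theorem L286106 : sm gb N33725 = N23676 := ded_26_1 (flp_i L201398) (flp_b L196752) L286104
theorem L286150 : sm gd N23134 = N33730 := rfl
theorem L286152 : sm gb N33730 = N23681 := ded_20_1 (flp_d L201434) (flp_b L196788) L286150
theorem L286170 : sm gc N23135 = N33732 := rfl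
theorem L286172 : sm gg N33732 = N23137 := ded_30_2 (flp_c L196815) (flp_g L196801) L286170
theorem L286230 : sm gh N23139 = N33740 := rfl
theorem L286232 : sm gb N33740 = N23691 := ded_25_1 (flp_h L201501) (flp_b L196830) L286230
theorem L286236 : sm gd N33740 = N23250 := ded_38_1 (flp_h L197773) L136151 (flp_h L135531) (flp_d L196832) L286230
theorem L286258 : sm gi N23142 = N33744 := rfl
theorem L286260 : sm gb N33744 = N23695 := ded_26_1 (flp_i L201524) (flp_b L196856) L286258
theorem L286264 : sm gg N33744 = N23145 := ded_51_1 (flp_i L196875) (flp_g L196858) L286258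
theorem L286274 : sm gg N23144 = N33746 := rfl
theorem L286276 : sm gb N33746 = N23697 := ded_23_1 (flp_g L201538) (flp_b L196870) L286274
theorem L286278 : sm ge N33746 = N23147 := ded_41_1 (flp_g L196891) (flp_e L196873) L286274
theorem L286289 : sm gh N23145 = N33748 := rfl
theorem L286291 : sm gb N33748 = N23699 := ded_25_1 (flp_h L201551) (flp_b L196877) L286289
theorem L286302 : sm gi N23147 = N33750 := rfl
theorem L286307 : sm gg N33750 = N23148 := ded_51_1 (flp_i L196896) L196891 L286302
theorem L286309 : sm gh N23148 = N33751 := rfl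
theorem L286363 : sm gi N23152 = N33758 := rfl
theorem L286365 : sm gb N33758 = N23166 := ded_26_1 (flp_i L197046) (flp_b L196930) L286363
theorem L286369 : sm gf N33758 = N23157 := ded_48_1 (flp_i L196969) (flp_f L196932) L286363
theorem L286416 : sm gi N23158 = N33765 := rfl
theorem L286418 : sm gb N33765 = N23159 := ded_26_1 (flp_i L196984) L196977 L286416
theorem L286420 : sm gc N33765 = N23173 := ded_33_1 (flp_i L197109) (flp_c L196982) L286416
theorem L286440 : sm gi N23161 = N33768 := rfl
theorem L286447 : sm gg N33768 = N23163 := ded_51_1 (flp_i L197018) (flp_g L197006) L286440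
theorem L286450 : sm gh N33768 = N23275 := ded_54_1 (flp_i L197973) (flp_h L136315) (flp_i L135664) L196999 L286440
theorem L286463 : sm ge N23162 = N33770 := rfl
theorem L286465 : sm ga N33770 = N26001 := ded_13_1 (flp_e L220597) (flp_a L197011) L286463
theorem L286467 : sm gj N33770 = N23165 := ded_42_2 (flp_e L197040) (flp_j L197015) L286463
theorem L286480 : sm gb N23164 = N33772 := rfl
theorem L286482 : sm gd N33772 = N23721 := ded_20_2 (flp_b L201738) (flp_d L197038) L286480
theorem L286484 : sm gf N33772 = N23169 := ded_22_2 (flp_b L197074) (flp_f L197034) L286480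
theorem L286507 : sm gi N23165 = N33775 := rfl
theorem L286511 : sm ge N33775 = N23166 := ded_44_1 (flp_i L197046) L197040 L286507
theorem L286514 : sm gh N23166 = N33776 := rfl
theorem L286518 : sm gf N33776 = N23171 := ded_47_1 (flp_h L197091) (flp_f L197052) L286514
theorem L286521 : sm gd N33776 = N23279 := ded_38_1 (flp_h L198012) L136358 (flp_h L135695) (flp_d L197050) L286514
theorem L286532 : sm gi N23167 = N33778 := rfl
theorem L286534 : sm ga N33778 = N26009 := ded_18_1 (flp_i L220654) (flp_a L197057) L286532
theorem L286536 : sm gc N33778 = N23168 := ded_33_1 (flp_i L197065) L197055 L286532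
theorem L286541 : sm gj N33778 = N23170 := ded_53_1 (flp_i L197081) (flp_j L197060) L286532
theorem L286543 : sm gh N23168 = N33779 := rfl
theorem L286548 : sm gj N33779 = N23171 := ded_52_1 (flp_h L197091) (flp_j L197072) L286543
theorem L286550 : sm gd N33779 = N23280 := ded_38_1 (flp_h L198021) L136368 (flp_h L135716) (flp_d L197069) L286543
theorem L286570 : sm gh N23170 = N33782 := rfl
theorem L286574 : sm gc N33782 = N23171 := ded_32_1 (flp_h L197091) (flp_c L197085) L286570
theorem L286598 : sm gg N23175 = N33785 := rfl
theorem L286600 : sm ga N33785 = N23730 := ded_15_1 (flp_g L201820) (flp_a L197129) L286598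
theorem L286603 : sm gc N33785 = N23176 := ded_30_1 (flp_g L197136) L197127 L286598
theorem L286607 : sm gh N23175 = N33786 := rfl
theorem L286616 : sm gf N23176 = N33787 := rfl
theorem L286618 : sm ga N33787 = N23732 := ded_14_1 (flp_f L201836) (flp_a L197138) L286616
theorem L286625 : sm gj N23176 = N33788 := rfl
theorem L286627 : sm ga N33788 = N23733 := ded_16_1 (flp_j L201843) (flp_a L197138) L286625
theorem L286634 : sm gh N23176 = N33789 := rfl
theorem L286636 : sm ga N33789 = N23734 := ded_17_1 (flp_h L201850) (flp_a L197138) L286634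
theorem L286638 : sm gb N33789 = N23196 := ded_25_1 (flp_h L197320) (flp_b L197140) L286634
theorem L286640 : sm gg N33789 = N23177 := ded_50_1 (flp_h L197144) L197136 L286634
theorem L286652 : sm gi N23177 = N33791 := rfl
theorem L286654 : sm ga N33791 = N23736 := ded_18_1 (flp_i L201864) (flp_a L197146) L286652
theorem L286656 : sm gb N33791 = N23198 := ded_26_1 (flp_i L197335) (flp_b L197148) L286652
theorem L286658 : sm gf N33791 = N33791 := ded_48_1 (flp_i L286652) L197150 L286652
theorem L286659 : sm gj N33791 = N33791 := ded_53_1 (flp_i L286652) L197151 L286652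
theorem L286681 : sm gh N23179 = N33794 := rfl
theorem L286692 : sm gj N33794 = N23180 := ded_52_1 (flp_h L197172) L197161 L286681
theorem L286694 : sm gd N23180 = N33795 := rfl
theorem L286698 : sm gb N33795 = N23202 := ded_20_1 (flp_d L197370) (flp_b L197176) L286694
theorem L286702 : sm gi N23180 = N33796 := rfl
theorem L286712 : sm gg N33796 = N23182 := ded_51_1 (flp_i L197192) (flp_g L197182) L286702
theorem L286722 : sm ge N23181 = N33798 := rfl
theorem L286724 : sm ga N33798 = N23743 := ded_13_1 (flp_e L201921) (flp_a L197186) L286722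
theorem L286729 : sm gd N33798 = N23187 := ded_34_1 (flp_e L197243) (flp_d L135810) (flp_e L135787) L197184 L286722
theorem L286750 : sm gi N23183 = N33801 := rfl
theorem L286754 : sm gb N33801 = N23208 := ded_26_1 (flp_i L197417) (flp_b L197208) L286750
theorem L286756 : sm gc N33801 = N26032 := ded_33_1 (flp_i L220856) (flp_c L197210) L286750
theorem L286788 : sm ge N23186 = N33805 := rfl
theorem L286790 : sm ga N33805 = N23750 := ded_13_1 (flp_e L201974) (flp_a L197235) L286788
theorem L286793 : sm gc N33805 = N23187 := ded_28_1 (flp_e L197243) L197233 L286788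
theorem L286808 : sm gf N23187 = N33807 := rfl
theorem L286810 : sm ga N33807 = N23752 := ded_14_1 (flp_f L201992) (flp_a L197245) L286808
theorem L286812 : sm gb N33807 = N23211 := ded_22_1 (flp_f L197442) (flp_b L197247) L286808
theorem L286896 : sm ge N23194 = N33817 := rfl
theorem L286911 : sm gh N23194 = N33819 := rfl
theorem L286913 : sm ga N33819 = N23230 := ded_17_1 (flp_h L197611) (flp_a L197306) L286911
theorem L286916 : sm gf N33819 = N23196 := ded_47_1 (flp_h L197320) L197304 L286911
theorem L286919 : sm gh N23195 = N33820 := rfl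
theorem L286921 : sm ga N33820 = N23231 := ded_17_1 (flp_h L197619) (flp_a L197314) L286919
theorem L286925 : sm gj N33820 = N23196 := ded_52_1 (flp_h L197320) L197312 L286919
theorem L286927 : sm gd N23196 = N33821 := rfl
theorem L286929 : sm ga N33821 = N23232 := ded_12_1 (flp_d L197627) (flp_a L197322) L286927
theorem L286931 : sm gg N33821 = N23197 := ded_36_2 (flp_d L197327) (flp_g L197325) L286927
theorem L286933 : sm gh N33821 = N23202 := ded_38_2 (flp_d L197370) (flp_h L135885) (flp_d L135860) L197320 L286927
theorem L286935 : sm gi N23196 = N33822 := rfl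
theorem L286937 : sm ga N33822 = N23233 := ded_18_1 (flp_i L197635) (flp_a L197322) L286935
theorem L286939 : sm gc N33822 = N33822 := ded_33_1 (flp_i L286935) L197324 L286935
theorem L286940 : sm gg N33822 = N23198 := ded_51_1 (flp_i L197335) (flp_g L197325) L286935
theorem L286942 : sm gc N23197 = N33823 := rfl
theorem L286944 : sm ga N33823 = N23234 := ded_11_1 (flp_c L197642) (flp_a L197329) L286942
theorem L286948 : sm gh N33823 = N23204 := ded_32_2 (flp_c L197386) (flp_h L197333) L286942
theorem L286958 : sm gi N23197 = N33825 := rfl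
theorem L286960 : sm ga N33825 = N23236 := ded_18_1 (flp_i L197657) (flp_a L197329) L286958
theorem L286962 : sm gd N33825 = N23198 := ded_39_1 (flp_i L197335) L197327 L286958
theorem L286964 : sm gf N33825 = N33825 := ded_48_1 (flp_i L286958) L197331 L286958
theorem L286965 : sm gj N33825 = N33825 := ded_53_1 (flp_i L286958) L197332 L286958
theorem L286984 : sm gd N23200 = N33828 := rfl
theorem L286991 : sm gi N23200 = N33829 := rfl
theorem L286995 : sm gc N33829 = N23220 := ded_33_1 (flp_i L197518) (flp_c L197354) L286991
theorem L287000 : sm gd N23201 = N33830 := rfl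
theorem L287002 : sm ga N33830 = N23241 := ded_12_1 (flp_d L197699) (flp_a L197361) L287000
theorem L287005 : sm gj N33830 = N23202 := ded_37_2 (flp_d L197370) (flp_j L197368) L287000
theorem L287018 : sm gc N23202 = N33832 := rfl
theorem L287020 : sm ga N33832 = N23243 := ded_11_1 (flp_c L197717) (flp_a L197372) L287018
theorem L287026 : sm ge N23202 = N33833 := rfl
theorem L287028 : sm ga N33833 = N23244 := ded_13_1 (flp_e L197724) (flp_a L197372) L287026
theorem L287032 : sm gd N33833 = N23209 := ded_34_1 (flp_e L197426) (flp_d L135920) (flp_e L135891) L197370 L287026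
theorem L287034 : sm gi N23202 = N33834 := rfl
theorem L287040 : sm gg N33834 = N23206 := ded_51_1 (flp_i L197401) (flp_g L197374) L287034
theorem L287075 : sm gi N23205 = N33839 := rfl
theorem L287079 : sm gd N33839 = N23212 := ded_39_1 (flp_i L197450) (flp_d L197399) L287075
theorem L287081 : sm ge N33839 = N23206 := ded_44_1 (flp_i L197401) L197394 L287075
theorem L287090 : sm ge N23207 = N33841 := rfl
theorem L287092 : sm ga N33841 = N23251 := ded_13_1 (flp_e L197779) (flp_a L197411) L287090
theorem L287096 : sm gj N33841 = N23209 := ded_42_2 (flp_e L197426) (flp_j L197414) L287090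
theorem L287098 : sm gi N23207 = N33842 := rfl
theorem L287103 : sm gd N33842 = N23208 := ded_39_1 (flp_i L197417) L197409 L287098
theorem L287129 : sm gg N23211 = N33846 := rfl
theorem L287131 : sm ga N33846 = N23256 := ded_15_1 (flp_g L197818) (flp_a L197444) L287129
theorem L287136 : sm gi N23211 = N33847 := rfl
theorem L287143 : sm gf N33847 = N23212 := ded_48_1 (flp_i L197450) L197442 L287136
theorem L287146 : sm gh N23212 = N33848 := rfl
theorem L287154 : sm gj N23214 = N33849 := rfl
theorem L287156 : sm ga N33849 = N23259 := ded_16_1 (flp_j L197843) (flp_a L197468) L287154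
theorem L287169 : sm gh N23215 = N33851 := rfl
theorem L287171 : sm ga N33851 = N23261 := ded_17_1 (flp_h L197858) (flp_a L197474) L287169
theorem L287183 : sm gh N23217 = N33853 := rfl
theorem L287187 : sm gb N33853 = N26084 := ded_25_1 (flp_h L221302) (flp_b L197493) L287183
theorem L287190 : sm gg N33853 = N23218 := ded_50_1 (flp_h L197498) L197489 L287183
theorem L287193 : sm gd N23218 = N33854 := rfl
theorem L287201 : sm gj N33854 = N23219 := ded_37_2 (flp_d L197508) (flp_j L197506) L287193
theorem L287214 : sm gc N23219 = N33856 := rfl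
theorem L287218 : sm gf N33856 = N23223 := ded_29_2 (flp_c L197549) (flp_f L197514) L287214
theorem L287222 : sm ge N23219 = N33857 := rfl
theorem L287226 : sm gb N33857 = N26088 := ded_21_1 (flp_e L221335) (flp_b L197512) L287222
theorem L287231 : sm gi N23219 = N33858 := rfl
theorem L287237 : sm gd N33858 = N23220 := ded_39_1 (flp_i L197518) L197508 L287231
theorem L287272 : sm gi N23223 = N33862 := rfl
theorem L287318 : sm gh N23228 = N33867 := rfl
theorem L287320 : sm gb N33867 = N23796 := ded_25_1 (flp_h L202363) (flp_b L197598) L287318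
theorem L287322 : sm gc N33867 = N33867 := ded_32_1 (flp_h L287318) L197600 L287318
theorem L287323 : sm ge N33867 = N23230 := ded_43_1 (flp_h L197611) L197596 L287318
theorem L287325 : sm gg N33867 = N33867 := ded_50_1 (flp_h L287318) L197601 L287318
theorem L287326 : sm gg N23229 = N33868 := rfl
theorem L287331 : sm gd N33868 = N23237 := ded_36_1 (flp_g L197665) (flp_d L197607) L287326
theorem L287335 : sm gh N23229 = N33869 := rfl
theorem L287340 : sm gf N33869 = N23231 := ded_47_1 (flp_h L197619) (flp_f L197609) L287335
theorem L287342 : sm gj N33869 = N23230 := ded_52_1 (flp_h L197611) L197602 L287335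
theorem L287344 : sm gd N23230 = N33870 := rfl
theorem L287346 : sm gb N33870 = N23799 := ded_20_1 (flp_d L202386) (flp_b L197613) L287344
theorem L287348 : sm gf N33870 = N23232 := ded_35_2 (flp_d L197627) (flp_f L197616) L287344
theorem L287353 : sm gi N23230 = N33871 := rfl
theorem L287355 : sm gb N33871 = N23800 := ded_26_1 (flp_i L202394) (flp_b L197613) L287353
theorem L287357 : sm gc N33871 = N33871 := ded_33_1 (flp_i L287353) L197615 L287353
theorem L287358 : sm gf N33871 = N23233 := ded_48_1 (flp_i L197635) (flp_f L197616) L287353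
theorem L287360 : sm gg N33871 = N33871 := ded_51_1 (flp_i L287353) L197618 L287353
theorem L287361 : sm gd N23231 = N33872 := rfl
theorem L287366 : sm gj N33872 = N23232 := ded_37_2 (flp_d L197627) (flp_j L197625) L287361
theorem L287370 : sm gi N23231 = N33873 := rfl
theorem L287372 : sm gb N33873 = N23802 := ded_26_1 (flp_i L202409) (flp_b L197621) L287370
theorem L287374 : sm gc N33873 = N33873 := ded_33_1 (flp_i L287370) L197623 L287370
theorem L287375 : sm gg N33873 = N33873 := ded_51_1 (flp_i L287370) L197624 L287370
theorem L287376 : sm gj N33873 = N23233 := ded_53_1 (flp_i L197635) (flp_j L197625) L287370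
theorem L287378 : sm gc N23232 = N33874 := rfl
theorem L287380 : sm gg N33874 = N23234 := ded_30_2 (flp_c L197642) (flp_g L197631) L287378
theorem L287386 : sm ge N23232 = N33875 := rfl
theorem L287388 : sm gb N33875 = N23803 := ded_21_1 (flp_e L202416) (flp_b L197629) L287386
theorem L287390 : sm gg N33875 = N23235 := ded_41_2 (flp_e L197650) (flp_g L197631) L287386
theorem L287392 : sm gh N33875 = N23244 := ded_43_2 (flp_e L197724) (flp_h L197633) L287386
theorem L287394 : sm gi N23232 = N33876 := rfl
theorem L287396 : sm gb N33876 = N23804 := ded_26_1 (flp_i L202423) (flp_b L197629) L287394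
theorem L287398 : sm gd N33876 = N23233 := ded_39_1 (flp_i L197635) L197627 L287394
theorem L287400 : sm gg N33876 = N23236 := ded_51_1 (flp_i L197657) (flp_g L197631) L287394
theorem L287402 : sm ge N23234 = N33877 := rfl
theorem L287408 : sm gh N33877 = N23246 := ded_43_2 (flp_e L197740) (flp_h L197646) L287402
theorem L287410 : sm gi N23234 = N33878 := rfl
theorem L287412 : sm gb N33878 = N33878 := ded_26_1 (flp_i L287410) L197648 L287410
theorem L287413 : sm gc N33878 = N23236 := ded_33_1 (flp_i L197657) L197642 L287410
theorem L287415 : sm gd N33878 = N33878 := ded_39_1 (flp_i L287410) L197649 L287410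
theorem L287416 : sm gf N33878 = N33878 := ded_48_1 (flp_i L287410) L197644 L287410
theorem L287417 : sm gj N33878 = N33878 := ded_53_1 (flp_i L287410) L197645 L287410
theorem L287418 : sm gf N23235 = N33879 := rfl
theorem L287423 : sm gh N33879 = N23248 := ded_47_2 (flp_f L197756) (flp_h L197655) L287418
theorem L287426 : sm gi N23235 = N33880 := rfl
theorem L287428 : sm gb N33880 = N23806 := ded_26_1 (flp_i L202437) (flp_b L197652) L287426
theorem L287430 : sm ge N33880 = N23236 := ded_44_1 (flp_i L197657) L197650 L287426
theorem L287432 : sm gj N33880 = N33880 := ded_53_1 (flp_i L287426) L197654 L287426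
theorem L287433 : sm gh N23236 = N33881 := rfl
theorem L287435 : sm gb N33881 = N23807 := ded_25_1 (flp_h L202443) (flp_b L197659) L287433
theorem L287441 : sm gh N23237 = N33882 := rfl
theorem L287448 : sm gg N33882 = N23238 := ded_50_1 (flp_h L197673) L197665 L287441
theorem L287517 : sm ge N23243 = N33891 := rfl
theorem L287520 : sm gc N33891 = N23244 := ded_28_1 (flp_e L197724) L197717 L287517
theorem L287522 : sm gg N33891 = N23246 := ded_41_2 (flp_e L197740) (flp_g L197719) L287517
theorem L287534 : sm gf N23244 = N33893 := rfl
theorem L287536 : sm gb N33893 = N23815 := ded_22_1 (flp_f L202501) (flp_b L197726) L287534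
theorem L287538 : sm gd N33893 = N23253 := ded_35_1 (flp_f L197797) (flp_d L197730) L287534
theorem L287540 : sm gi N23244 = N33894 := rfl
theorem L287544 : sm gd N33894 = N23254 := ded_39_1 (flp_i L197802) (flp_d L197730) L287540
theorem L287548 : sm gg N33894 = N23249 := ded_51_1 (flp_i L197764) (flp_g L197728) L287540
theorem L287556 : sm gf N23246 = N33896 := rfl
theorem L287559 : sm gc N33896 = N23248 := ded_29_1 (flp_f L197756) (flp_c L197743) L287556
theorem L287573 : sm gh N23247 = N33898 := rfl
theorem L287576 : sm gc N33898 = N23250 := ded_32_1 (flp_h L197773) (flp_c L197750) L287573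
theorem L287580 : sm gg N23248 = N33899 := rfl
theorem L287582 : sm gb N33899 = N23818 := ded_23_1 (flp_g L202520) (flp_b L197758) L287580
theorem L287604 : sm gf N23251 = N33902 := rfl
theorem L287606 : sm gb N33902 = N23821 := ded_22_1 (flp_f L202541) (flp_b L197781) L287604
theorem L287609 : sm gj N33902 = N23253 := ded_46_2 (flp_f L197797) (flp_j L197785) L287604
theorem L287629 : sm gg N23253 = N33905 := rfl
theorem L287631 : sm gb N33905 = N23824 := ded_23_1 (flp_g L202563) (flp_b L197799) L287629
theorem L287633 : sm gc N33905 = N33905 := ded_30_1 (flp_g L287629) L197801 L287629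
theorem L287634 : sm gf N33905 = N23256 := ded_45_1 (flp_g L197818) (flp_f L136188) (flp_g L136177) L197797 L287629
theorem L287636 : sm gi N23253 = N33906 := rfl
theorem L287638 : sm gb N33906 = N23825 := ded_26_1 (flp_i L202569) (flp_b L197799) L287636
theorem L287643 : sm gh N23254 = N33907 := rfl
theorem L287652 : sm gj N23256 = N33908 := rfl
theorem L287654 : sm gb N33908 = N23827 := ded_24_1 (flp_j L202583) (flp_b L197820) L287652
theorem L287656 : sm gc N33908 = N33908 := ded_31_1 (flp_j L287652) L197822 L287652
theorem L287657 : sm ge N33908 = N23259 := ded_42_1 (flp_j L197843) (flp_e L197823) L287652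
theorem L287659 : sm gg N33908 = N33908 := ded_49_1 (flp_j L287652) (flp_g L197818) L136193 L197818 L287652
theorem L287660 : sm gi N23256 = N33909 := rfl
theorem L287684 : sm gi N23259 = N33912 := rfl
theorem L287686 : sm gb N33912 = N23831 := ded_26_1 (flp_i L202610) (flp_b L197845) L287684
theorem L287700 : sm gd N23261 = N33914 := rfl
theorem L287702 : sm gb N33914 = N23833 := ded_20_1 (flp_d L202624) (flp_b L197860) L287700
theorem L287722 : sm gi N23263 = N33917 := rfl
theorem L287724 : sm gb N33917 = N23275 := ded_26_1 (flp_i L197973) (flp_b L197874) L287722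
theorem L287730 : sm gc N23264 = N33918 := rfl
theorem L287732 : sm gf N33918 = N23269 := ded_29_2 (flp_c L197920) (flp_f L197884) L287730
theorem L287734 : sm gj N33918 = N23266 := ded_31_2 (flp_c L197897) (flp_j L197886) L287730
theorem L287764 : sm gi N23266 = N33922 := rfl
theorem L287767 : sm gc N33922 = N23268 := ded_33_1 (flp_i L197911) L197897 L287764
theorem L287769 : sm gf N33922 = N23271 := ded_48_1 (flp_i L197938) (flp_f L197899) L287764
theorem L287788 : sm gi N23269 = N33925 := rfl
theorem L287791 : sm gc N33925 = N23270 := ded_33_1 (flp_i L197928) L197920 L287788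
theorem L287797 : sm gh N23270 = N33926 := rfl
theorem L287799 : sm gb N33926 = N23280 := ded_25_1 (flp_h L198021) (flp_b L197930) L287797
theorem L287803 : sm gj N33926 = N23272 := ded_52_1 (flp_h L197946) (flp_j L197936) L287797
theorem L287851 : sm gh N23277 = N33932 := rfl
theorem L287853 : sm ga N33932 = N26163 := ded_17_1 (flp_h L221962) (flp_a L197994) L287851
theorem L287858 : sm gj N33932 = N23279 := ded_52_1 (flp_h L198012) (flp_j L198001) L287851
theorem L287861 : sm gh N23278 = N33933 := rfl
theorem L287863 : sm ga N33933 = N26164 := ded_17_1 (flp_h L221970) (flp_a L198005) L287861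
theorem L287890 : sm gh N23281 = N33936 := rfl
theorem L287899 : sm gj N33936 = N23419 := ded_52_1 (flp_h L199287) (flp_j L198037) L287890
theorem L287912 : sm gh N23282 = N33938 := rfl
theorem L287914 : sm gb N33938 = N23290 := ded_25_1 (flp_h L198122) (flp_b L198044) L287912
theorem L287957 : sm gi N23284 = N33943 := rfl
theorem L287961 : sm gd N33943 = N23285 := ded_39_1 (flp_i L198068) L198061 L287957
theorem L287966 : sm gg N23286 = N33944 := rfl
theorem L287973 : sm gi N33944 = N23346 := ded_51_2 (flp_g L198637) (flp_i L198087) L287966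
theorem L287975 : sm gh N23286 = N33945 := rfl
theorem L287981 : sm gj N33945 = N23428 := ded_52_1 (flp_h L199363) (flp_j L198085) L287975
theorem L288035 : sm gh N23289 = N33951 := rfl
theorem L288044 : sm gj N33951 = N23290 := ded_52_1 (flp_h L198122) L198111 L288035
theorem L288054 : sm gi N23290 = N33953 := rfl
theorem L288063 : sm gh N33953 = N23355 := ded_54_1 (flp_i L198718) (flp_h L136808) (flp_i L136420) L198122 L288054
theorem L288102 : sm gh N23294 = N33958 := rfl
theorem L288108 : sm gj N33958 = N23441 := ded_52_1 (flp_h L199477) (flp_j L198169) L288102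
theorem L288156 : sm gi N23297 = N33963 := rfl
theorem L288166 : sm gh N33963 = N23365 := ded_54_1 (flp_i L198820) (flp_h L136878) (flp_i L136462) L198195 L288156
theorem L288232 : sm gi N23303 = N33971 := rfl
theorem L288234 : sm gc N33971 = N33971 := ded_33_1 (flp_i L288232) L198262 L288232
theorem L288235 : sm gf N33971 = N33971 := ded_48_1 (flp_i L288232) L198263 L288232
theorem L288236 : sm gj N33971 = N23454 := ded_53_1 (flp_i L199597) (flp_j L198264) L288232
theorem L288238 : sm gh N33971 = N23373 := ded_54_1 (flp_i L198891) (flp_h L136940) (flp_i L136516) L198260 L288232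
theorem L288240 : sm gj N23304 = N33972 := rfl
theorem L288242 : sm gc N33972 = N23317 := ded_31_1 (flp_j L198369) (flp_c L198268) L288240
theorem L288247 : sm gi N33972 = N23374 := ded_53_2 (flp_j L198897) (flp_i L198270) L288240
theorem L288257 : sm gh N23305 = N33974 := rfl
theorem L288263 : sm gg N33974 = N23457 := ded_50_1 (flp_h L199622) (flp_g L198282) L288257
theorem L288265 : sm gj N33974 = N23306 := ded_52_1 (flp_h L198284) L198274 L288257
theorem L288325 : sm gi N23310 = N33983 := rfl
theorem L288328 : sm gd N33983 = N23311 := ded_39_1 (flp_i L198323) L198317 L288325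
theorem L288369 : sm gh N23315 = N33989 := rfl
theorem L288388 : sm gh N23317 = N33991 := rfl
theorem L288395 : sm gj N33991 = N23318 := ded_52_1 (flp_h L198379) L198369 L288388
theorem L288405 : sm gi N23318 = N33993 := rfl
theorem L288407 : sm gb N33993 = N23328 := ded_26_1 (flp_i L198472) (flp_b L198381) L288405
theorem L288499 : sm gi N23326 = N34003 := rfl
theorem L288506 : sm gj N34003 = N23328 := ded_53_1 (flp_i L198472) (flp_j L198462) L288499
theorem L288508 : sm gh N34003 = N23405 := ded_54_1 (flp_i L199155) (flp_h L137127) (flp_i L136660) L198455 L288499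
theorem L288518 : sm ge N23327 = N34005 := rfl
theorem L288520 : sm ga N34005 = N26236 := ded_13_1 (flp_e L222611) (flp_a L198466) L288518
theorem L288526 : sm gi N23327 = N34006 := rfl
theorem L288528 : sm ga N34006 = N26237 := ded_18_1 (flp_i L222617) (flp_a L198466) L288526
theorem L288532 : sm gf N34006 = N23332 := ded_48_1 (flp_i L198512) (flp_f L198468) L288526
theorem L288571 : sm gh N23332 = N34011 := rfl
theorem L288576 : sm gg N34011 = N23335 := ded_50_1 (flp_h L198538) (flp_g L198519) L288571
theorem L288676 : sm gh N23339 = N34023 := rfl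
theorem L288680 : sm gc N34023 = N26254 := ded_32_1 (flp_h L222746) (flp_c L198579) L288676
theorem L288719 : sm gi N23341 = N34028 := rfl
theorem L288725 : sm gf N34028 = N23345 := ded_48_1 (flp_i L198628) (flp_f L198597) L288719
theorem L288727 : sm gj N34028 = N23511 := ded_53_1 (flp_i L200037) (flp_j L198599) L288719
theorem L288781 : sm gj N23346 = N34035 := rfl
theorem L288788 : sm gg N34035 = N23518 := ded_49_1 (flp_j L200091) (flp_g L137768) (flp_j L136777) L198637 L288781
theorem L288797 : sm gd N23347 = N34037 := rfl
theorem L288799 : sm ga N34037 = N23372 := ded_12_1 (flp_d L198884) (flp_a L198646) L288797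
theorem L288802 : sm gj N34037 = N23520 := ded_37_2 (flp_d L200105) (flp_j L198650) L288797
theorem L288806 : sm gi N23347 = N34038 := rfl
theorem L288808 : sm ga N34038 = N23373 := ded_18_1 (flp_i L198891) (flp_a L198646) L288806
theorem L288810 : sm gc N34038 = N34038 := ded_33_1 (flp_i L288806) L198648 L288806
theorem L288811 : sm gf N34038 = N34038 := ded_48_1 (flp_i L288806) L198649 L288806
theorem L288812 : sm gj N34038 = N23521 := ded_53_1 (flp_i L200112) (flp_j L198650) L288806
theorem L288909 : sm ge N23354 = N34049 := rfl
theorem L288958 : sm gg N23358 = N34054 := rfl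
theorem L288960 : sm ga N34054 = N23389 := ded_15_1 (flp_g L199011) (flp_a L198749) L288958
theorem L288966 : sm gi N23358 = N34055 := rfl
theorem L288970 : sm gc N34055 = N23996 := ded_33_1 (flp_i L204033) (flp_c L198751) L288966
theorem L288977 : sm gh N23359 = N34056 := rfl
theorem L288986 : sm gj N34056 = N23539 := ded_52_1 (flp_h L200267) (flp_j L198766) L288977
theorem L289030 : sm gd N23363 = N34061 := rfl
theorem L289038 : sm gj N34061 = N23364 := ded_37_2 (flp_d L198809) (flp_j L198807) L289030
theorem L289040 : sm ge N34061 = N24001 := ded_34_2 (flp_d L204087) L140627 (flp_d L136922) (flp_e L198803) L289030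
theorem L289064 : sm gi N23364 = N34064 := rfl
theorem L289070 : sm gd N34064 = N23365 := ded_39_1 (flp_i L198820) L198809 L289064
theorem L289153 : sm ge N23372 = N34075 := rfl
theorem L289157 : sm gh N34075 = N23380 := ded_43_2 (flp_e L198941) (flp_h L198889) L289153
theorem L289159 : sm gi N23372 = N34076 := rfl
theorem L289164 : sm gj N34076 = N23559 := ded_53_1 (flp_i L200435) (flp_j L198887) L289159
theorem L289166 : sm gg N23374 = N34077 := rfl
theorem L289171 : sm gf N34077 = N23560 := ded_45_1 (flp_g L200440) L138009 (flp_g L136958) (flp_f L198902) L289166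
theorem L289212 : sm gc N23377 = N34083 := rfl
theorem L289214 : sm gg N34083 = N23379 := ded_30_2 (flp_c L198934) (flp_g L198924) L289212
theorem L289216 : sm gd N34083 = N23398 := ded_27_2 (flp_c L199090) (flp_d L137071) (flp_c L136962) L198922 L289212
theorem L289245 : sm gi N23379 = N34088 := rfl
theorem L289247 : sm gc N34088 = N23381 := ded_33_1 (flp_i L198947) L198934 L289245
theorem L289254 : sm gf N23380 = N34089 := rfl
theorem L289256 : sm gd N34089 = N23386 := ded_35_1 (flp_f L198987) (flp_d L198945) L289254
theorem L289258 : sm gj N34089 = N23572 := ded_46_2 (flp_f L200519) (flp_j L198943) L289254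
theorem L289274 : sm ge N23382 = N34092 := rfl
theorem L289276 : sm gc N34092 = N24031 := ded_28_1 (flp_e L204351) (flp_c L198961) L289274
theorem L289282 : sm gi N23382 = N34093 := rfl
theorem L289286 : sm gd N34093 = N23383 := ded_39_1 (flp_i L198963) L198954 L289282
theorem L289291 : sm gj N34093 = N23385 := ded_53_1 (flp_i L198978) (flp_j L198959) L289282
theorem L289293 : sm gf N23384 = N34094 := rfl
theorem L289295 : sm gc N34094 = N24033 := ded_29_1 (flp_f L204368) (flp_c L198974) L289293
theorem L289313 : sm gg N23386 = N34097 := rfl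
theorem L289315 : sm gc N34097 = N24036 := ded_30_1 (flp_g L204386) (flp_c L198989) L289313
theorem L289317 : sm ge N34097 = N23389 := ded_41_1 (flp_g L199011) (flp_e L198993) L289313
theorem L289329 : sm gh N23387 = N34099 := rfl
theorem L289333 : sm ge N34099 = N23388 := ded_43_1 (flp_h L199003) (flp_e L198999) L289329
theorem L289337 : sm gj N23389 = N34100 := rfl
theorem L289339 : sm gc N34100 = N24039 := ded_31_1 (flp_j L204407) (flp_c L199013) L289337
theorem L289343 : sm gg N34100 = N23583 := ded_49_1 (flp_j L200591) (flp_g L138104) (flp_j L137026) L199011 L289337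
theorem L289345 : sm gi N23389 = N34101 := rfl
theorem L289353 : sm gh N23390 = N34102 := rfl
theorem L289359 : sm gj N34102 = N23585 := ded_52_1 (flp_h L200607) (flp_j L199024) L289353
theorem L289377 : sm gd N23393 = N34105 := rfl
theorem L289379 : sm gb N34105 = N23404 := ded_20_1 (flp_d L199146) (flp_b L199046) L289377
theorem L289381 : sm gf N34105 = N23396 := ded_35_2 (flp_d L199069) (flp_f L199049) L289377
theorem L289428 : sm gi N23396 = N34111 := rfl
theorem L289430 : sm gb N34111 = N23410 := ded_26_1 (flp_i L199201) (flp_b L199071) L289428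
theorem L289436 : sm gg N34111 = N23593 := ded_51_1 (flp_i L200671) (flp_g L199073) L289428
theorem L289449 : sm gi N23398 = N34113 := rfl
theorem L289453 : sm ge N34113 = N24051 := ded_44_1 (flp_i L204509) (flp_e L199092) L289449
theorem L289536 : sm gi N23404 = N34122 := rfl
theorem L289544 : sm gj N34122 = N23408 := ded_53_1 (flp_i L199181) (flp_j L199152) L289536
theorem L289571 : sm gi N23407 = N34126 := rfl
theorem L289576 : sm ge N34126 = N23408 := ded_44_1 (flp_i L199181) L199172 L289571
theorem L289578 : sm gf N34126 = N24062 := ded_48_1 (flp_i L204610) (flp_f L199179) L289571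
theorem L289581 : sm gh N23408 = N34127 := rfl
theorem L289583 : sm ga N34127 = N26358 := ded_17_1 (flp_h L223636) (flp_a L199183) L289581
theorem L289598 : sm gi N23409 = N34129 := rfl
theorem L289602 : sm gc N34129 = N23410 := ded_33_1 (flp_i L199201) L199190 L289598
theorem L289608 : sm gj N34129 = N23412 := ded_53_1 (flp_i L199220) (flp_j L199198) L289598
theorem L289638 : sm gh N23412 = N34133 := rfl
theorem L289644 : sm ge N34133 = N24069 := ded_43_1 (flp_h L204673) (flp_e L199226) L289638
theorem L289660 : sm gh N23415 = N34135 := rfl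
theorem L289667 : sm gj N34135 = N23614 := ded_52_1 (flp_h L200860) (flp_j L199256) L289660
theorem L289694 : sm gh N23417 = N34139 := rfl
theorem L289696 : sm gb N34139 = N23428 := ded_25_1 (flp_h L199363) (flp_b L199272) L289694
theorem L289735 : sm gi N23419 = N34144 := rfl
theorem L289744 : sm gh N34144 = N23505 := ded_54_1 (flp_i L199988) (flp_h L137704) (flp_i L137227) L199287 L289735
theorem L289852 : sm gh N23427 = N34158 := rfl
theorem L289854 : sm ga N34158 = N23452 := ded_17_1 (flp_h L199587) (flp_a L199356) L289852
theorem L289857 : sm gg N34158 = N23428 := ded_50_1 (flp_h L199363) L199354 L289852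
theorem L289859 : sm gd N23428 = N34159 := rfl
theorem L289861 : sm ga N34159 = N23453 := ded_12_1 (flp_d L199592) (flp_a L199365) L289859
theorem L289866 : sm gi N23428 = N34160 := rfl
theorem L289868 : sm ga N34160 = N23454 := ded_18_1 (flp_i L199597) (flp_a L199365) L289866
theorem L289870 : sm gc N34160 = N34160 := ded_33_1 (flp_i L289866) L199367 L289866
theorem L289871 : sm gf N34160 = N34160 := ded_48_1 (flp_i L289866) L199368 L289866
theorem L289872 : sm gh N34160 = N23521 := ded_54_1 (flp_i L200112) (flp_h L137775) (flp_i L137270) L199363 L289866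
theorem L289886 : sm gh N23429 = N34162 := rfl
theorem L289888 : sm ga N34162 = N23456 := ded_17_1 (flp_h L199613) (flp_a L199371) L289886
theorem L289890 : sm gc N34162 = N23443 := ded_32_1 (flp_h L199499) (flp_c L199373) L289886
theorem L290032 : sm gg N23442 = N34179 := rfl
theorem L290041 : sm gi N34179 = N23540 := ded_51_2 (flp_g L200277) (flp_i L199497) L290032
theorem L290044 : sm gh N23442 = N34180 := rfl
theorem L290052 : sm gf N34180 = N23444 := ded_47_1 (flp_h L199510) (flp_f L199495) L290044
theorem L290089 : sm gi N23444 = N34184 := rfl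
theorem L290099 : sm gh N34184 = N23545 := ded_54_1 (flp_i L200332) (flp_h L137916) (flp_i L137367) L199510 L290089
theorem L290120 : sm gb N23447 = N34187 := rfl
theorem L290125 : sm gc N34187 = N26418 := ded_19_2 (flp_b L224147) (flp_c L154313) (flp_b L137383) L199542 L290120
theorem L290135 : sm gh N23448 = N34189 := rfl
theorem L290139 : sm gb N34189 = N26420 := ded_25_1 (flp_h L224160) (flp_b L199553) L290135
theorem L290146 : sm ge N23450 = N34190 := rfl
theorem L290152 : sm gd N34190 = N23668 := ded_34_1 (flp_e L201340) L138643 (flp_e L137440) (flp_d L199575) L290146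
theorem L290154 : sm gj N23450 = N34191 := rfl
theorem L290157 : sm gd N34191 = N23455 := ded_37_1 (flp_j L199603) (flp_d L199575) L290154
theorem L290161 : sm gi N34191 = N23552 := ded_53_2 (flp_j L200396) (flp_i L199577) L290154
theorem L290163 : sm gh N23450 = N34192 := rfl
theorem L290166 : sm gf N34192 = N23452 := ded_47_1 (flp_h L199587) L199572 L290163
theorem L290169 : sm gh N23451 = N34193 := rfl
theorem L290172 : sm gj N34193 = N23452 := ded_52_1 (flp_h L199587) L199580 L290169
theorem L290174 : sm gd N23452 = N34194 := rfl
theorem L290176 : sm gg N34194 = N23453 := ded_36_2 (flp_d L199592) (flp_g L199590) L290174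
theorem L290180 : sm gi N23452 = N34195 := rfl
theorem L290182 : sm gc N34195 = N34195 := ded_33_1 (flp_i L290180) L199589 L290180
theorem L290183 : sm gg N34195 = N23454 := ded_51_1 (flp_i L199597) (flp_g L199590) L290180
theorem L290185 : sm gh N34195 = N23556 := ded_54_1 (flp_i L200420) (flp_h L137989) (flp_i L137428) L199587 L290180
theorem L290187 : sm gc N23453 = N34196 := rfl
theorem L290193 : sm ge N23453 = N34197 := rfl
theorem L290197 : sm gi N23453 = N34198 := rfl
theorem L290199 : sm gd N34198 = N23454 := ded_39_1 (flp_i L199597) L199592 L290197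
theorem L290201 : sm gf N34198 = N34198 := ded_48_1 (flp_i L290197) L199594 L290197
theorem L290202 : sm gg N23455 = N34199 := rfl
theorem L290208 : sm gi N34199 = N23560 := ded_51_2 (flp_g L200440) (flp_i L199611) L290202
theorem L290241 : sm gi N23457 = N34204 := rfl
theorem L290247 : sm gj N34204 = N23459 := ded_53_1 (flp_i L199634) (flp_j L199628) L290241
theorem L290249 : sm gh N34204 = N23565 := ded_54_1 (flp_i L200475) (flp_h L138020) (flp_i L137449) L199622 L290241
theorem L290251 : sm gc N23458 = N34205 := rfl
theorem L290255 : sm gd N34205 = N23479 := ded_27_2 (flp_c L199782) (flp_d L137553) (flp_c L137453) L199630 L290251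
theorem L290291 : sm gi N23461 = N34212 := rfl
theorem L290293 : sm gd N34212 = N23468 := ded_39_1 (flp_i L199694) (flp_d L199651) L290291
theorem L290295 : sm ge N34212 = N23462 := ded_44_1 (flp_i L199653) L199649 L290291
theorem L290316 : sm gf N23465 = N34216 := rfl
theorem L290319 : sm ge N34216 = N23694 := ded_40_1 (flp_f L201521) (flp_e L138747) (flp_f L137481) L199675 L290316
theorem L290328 : sm gh N23466 = N34218 := rfl
theorem L290333 : sm gg N34218 = N23469 := ded_50_1 (flp_h L199699) (flp_g L199687) L290328
theorem L290337 : sm gg N23467 = N34219 := rfl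
theorem L290340 : sm ge N34219 = N23470 := ded_41_1 (flp_g L199706) (flp_e L199692) L290337
theorem L290360 : sm gi N23470 = N34223 := rfl
theorem L290366 : sm gg N34223 = N23471 := ded_51_1 (flp_i L199712) L199706 L290360
theorem L290389 : sm gd N23474 = N34227 := rfl
theorem L290391 : sm gb N34227 = N23485 := ded_20_1 (flp_d L199828) (flp_b L199737) L290389
theorem L290393 : sm gf N34227 = N23477 := ded_35_2 (flp_d L199764) (flp_f L199741) L290389
theorem L290434 : sm gc N23477 = N34232 := rfl
theorem L290437 : sm gj N34232 = N23479 := ded_31_2 (flp_c L199782) (flp_j L199768) L290434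
theorem L290440 : sm gi N23477 = N34233 := rfl
theorem L290442 : sm gb N34233 = N23491 := ded_26_1 (flp_i L199883) (flp_b L199766) L290440
theorem L290447 : sm gj N34233 = N23480 := ded_53_1 (flp_i L199788) (flp_j L199768) L290440
theorem L290534 : sm gi N23485 = N34244 := rfl
theorem L290542 : sm gj N34244 = N23489 := ded_53_1 (flp_i L199866) (flp_j L199834) L290534
theorem L290568 : sm gi N23488 = N34248 := rfl
theorem L290574 : sm ge N34248 = N23489 := ded_44_1 (flp_i L199866) L199857 L290568
theorem L290661 : sm gg N23498 = N34259 := rfl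
theorem L290666 : sm gd N34259 = N26490 := ded_36_1 (flp_g L224666) (flp_d L199943) L290661
theorem L290668 : sm gh N23498 = N34260 := rfl
theorem L290671 : sm gc N34260 = N23500 := ded_32_1 (flp_h L199951) L199939 L290668
theorem L290687 : sm gh N23499 = N34263 := rfl
theorem L290689 : sm gb N34263 = N23519 := ded_25_1 (flp_h L200098) (flp_b L199947) L290687
theorem L290691 : sm gg N34263 = N23500 := ded_50_1 (flp_h L199951) L199945 L290687
theorem L290700 : sm gi N23500 = N34265 := rfl
theorem L290702 : sm gb N34265 = N23521 := ded_26_1 (flp_i L200112) (flp_b L199953) L290700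
theorem L290788 : sm gc N23507 = N34276 := rfl
theorem L290792 : sm gg N34276 = N23509 := ded_30_2 (flp_c L200025) (flp_g L200013) L290788
theorem L290804 : sm gi N23507 = N34278 := rfl
theorem L290810 : sm gf N34278 = N23749 := ded_48_1 (flp_i L201966) (flp_f L200011) L290804
theorem L290812 : sm gg N34278 = N23511 := ded_51_1 (flp_i L200037) (flp_g L200013) L290804
theorem L290836 : sm gi N23510 = N34282 := rfl
theorem L290840 : sm ge N34282 = N23511 := ded_44_1 (flp_i L200037) L200033 L290836
theorem L290895 : sm gh N23515 = N34290 := rfl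
theorem L290899 : sm ge N34290 = N23516 := ded_43_1 (flp_h L200077) (flp_e L200073) L290895
theorem L290903 : sm ge N23517 = N34291 := rfl
theorem L290909 : sm gd N34291 = N23762 := ded_34_1 (flp_e L202064) L139146 (flp_e L137787) (flp_d L200088) L290903
theorem L290920 : sm gh N23517 = N34293 := rfl
theorem L290922 : sm ga N34293 = N23553 := ded_17_1 (flp_h L200403) (flp_a L200085) L290920
theorem L290925 : sm gf N34293 = N23519 := ded_47_1 (flp_h L200098) L200083 L290920
theorem L290928 : sm gh N23518 = N34294 := rfl
theorem L290933 : sm gj N34294 = N23519 := ded_52_1 (flp_h L200098) L200091 L290928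
theorem L290935 : sm gd N23519 = N34295 := rfl
theorem L290941 : sm gh N34295 = N23525 := ded_38_2 (flp_d L200149) (flp_h L137798) (flp_d L137773) L200098 L290935
theorem L290943 : sm gi N23519 = N34296 := rfl
theorem L290945 : sm ga N34296 = N23556 := ded_18_1 (flp_i L200420) (flp_a L200100) L290943
theorem L290947 : sm gc N34296 = N34296 := ded_33_1 (flp_i L290943) L200102 L290943
theorem L290948 : sm gg N34296 = N23521 := ded_51_1 (flp_i L200112) (flp_g L200103) L290943
theorem L290950 : sm gc N23520 = N34297 := rfl
theorem L290952 : sm ga N34297 = N23557 := ded_11_1 (flp_c L200425) (flp_a L200107) L290950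
theorem L290955 : sm gh N34297 = N23527 := ded_32_2 (flp_c L200165) (flp_h L200110) L290950
theorem L290958 : sm ge N23520 = N34298 := rfl
theorem L290960 : sm ga N34298 = N23558 := ded_13_1 (flp_e L200431) (flp_a L200107) L290958
theorem L290962 : sm gh N34298 = N23528 := ded_43_2 (flp_e L200172) (flp_h L200110) L290958
theorem L290964 : sm gi N23520 = N34299 := rfl
theorem L290966 : sm ga N34299 = N23559 := ded_18_1 (flp_i L200435) (flp_a L200107) L290964
theorem L290968 : sm gd N34299 = N23521 := ded_39_1 (flp_i L200112) L200105 L290964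
theorem L290980 : sm gh N23522 = N34301 := rfl
theorem L290984 : sm gc N34301 = N23541 := ded_32_1 (flp_h L200287) (flp_c L200122) L290980
theorem L290988 : sm gf N34301 = N23524 := ded_47_1 (flp_h L200139) (flp_f L200126) L290980
theorem L290990 : sm gj N34301 = N23523 := ded_52_1 (flp_h L200128) L200118 L290980
theorem L291010 : sm gd N23524 = N34304 := rfl
theorem L291014 : sm gj N34304 = N23525 := ded_37_2 (flp_d L200149) (flp_j L200147) L291010
theorem L291026 : sm gc N23525 = N34306 := rfl
theorem L291030 : sm gg N34306 = N23527 := ded_30_2 (flp_c L200165) (flp_g L200153) L291026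
theorem L291034 : sm ge N23525 = N34307 := rfl
theorem L291036 : sm ga N34307 = N23567 := ded_13_1 (flp_e L200489) (flp_a L200151) L291034
theorem L291038 : sm gg N34307 = N23528 := ded_41_2 (flp_e L200172) (flp_g L200153) L291034
theorem L291050 : sm gb N23527 = N34309 := rfl
theorem L291052 : sm gd N34309 = N23548 := ded_20_2 (flp_b L200363) (flp_d L200170) L291050
theorem L291072 : sm gf N23528 = N34312 := rfl
theorem L291074 : sm ga N34312 = N23572 := ded_14_1 (flp_f L200519) (flp_a L200174) L291072
theorem L291079 : sm gi N23528 = N34313 := rfl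
theorem L291085 : sm ge N34313 = N23529 := ded_44_1 (flp_i L200178) L200172 L291079
theorem L291087 : sm gh N23529 = N34314 := rfl
theorem L291089 : sm ga N34314 = N23574 := ded_17_1 (flp_h L200530) (flp_a L200180) L291087
theorem L291092 : sm ge N23530 = N34315 := rfl
theorem L291094 : sm ga N34315 = N23575 := ded_13_1 (flp_e L200533) (flp_a L200187) L291092
theorem L291112 : sm gf N23532 = N34317 := rfl
theorem L291114 : sm ga N34317 = N23577 := ded_14_1 (flp_f L200549) (flp_a L200207) L291112
theorem L291130 : sm gh N23533 = N34319 := rfl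
theorem L291136 : sm gf N34319 = N23785 := ded_47_1 (flp_h L202267) (flp_f L200221) L291130
theorem L291140 : sm gg N23534 = N34320 := rfl
theorem L291148 : sm gi N23534 = N34321 := rfl
theorem L291150 : sm ga N34321 = N23581 := ded_18_1 (flp_i L200577) (flp_a L200227) L291148
theorem L291166 : sm gj N23537 = N34323 := rfl
theorem L291168 : sm ga N34323 = N23583 := ded_16_1 (flp_j L200591) (flp_a L200251) L291166
theorem L291201 : sm gh N23540 = N34327 := rfl
theorem L291209 : sm gg N34327 = N23541 := ded_50_1 (flp_h L200287) L200277 L291201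
theorem L291318 : sm gi N23548 = N34338 := rfl
theorem L291324 : sm ge N34338 = N24137 := ded_44_1 (flp_i L205249) (flp_e L200365) L291318
theorem L291356 : sm gh N23552 = N34343 := rfl
theorem L291361 : sm gj N34343 = N23553 := ded_52_1 (flp_h L200403) L200396 L291356
theorem L291370 : sm gi N23553 = N34345 := rfl
theorem L291373 : sm gf N34345 = N23556 := ded_48_1 (flp_i L200420) (flp_f L200406) L291370
theorem L291382 : sm gi N23554 = N34347 := rfl
theorem L291385 : sm gj N34347 = N23556 := ded_53_1 (flp_i L200420) (flp_j L200412) L291382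
theorem L291394 : sm ge N23555 = N34349 := rfl
theorem L291398 : sm gh N34349 = N23567 := ded_43_2 (flp_e L200489) (flp_h L200418) L291394
theorem L291400 : sm gi N23555 = N34350 := rfl
theorem L291402 : sm gd N34350 = N23556 := ded_39_1 (flp_i L200420) L200414 L291400
theorem L291404 : sm gg N34350 = N23559 := ded_51_1 (flp_i L200435) (flp_g L200416) L291400
theorem L291412 : sm ge N23557 = N34352 := rfl
theorem L291414 : sm gc N34352 = N23558 := ded_28_1 (flp_e L200431) L200425 L291412
theorem L291418 : sm gi N23557 = N34353 := rfl
theorem L291420 : sm gc N34353 = N23559 := ded_33_1 (flp_i L200435) L200425 L291418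
theorem L291424 : sm gf N23558 = N34354 := rfl
theorem L291426 : sm gh N34354 = N23572 := ded_47_2 (flp_f L200519) (flp_h L200433) L291424
theorem L291428 : sm ge N34354 = N34354 := ded_40_1 (flp_f L291424) (flp_e L200431) L137996 L200431 L291424
theorem L291429 : sm gi N23558 = N34355 := rfl
theorem L291431 : sm ge N34355 = N23559 := ded_44_1 (flp_i L200435) L200431 L291429
theorem L291433 : sm gh N23559 = N34356 := rfl
theorem L291436 : sm gi N34356 = N23574 := ded_54_2 (flp_h L200530) (flp_i L138049) (flp_h L137997) L200435 L291433
theorem L291494 : sm gi N23564 = N34365 := rfl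
theorem L291496 : sm gd N34365 = N23565 := ded_39_1 (flp_i L200475) L200471 L291494
theorem L291498 : sm gj N34365 = N23568 := ded_53_1 (flp_i L200495) (flp_j L200473) L291494
theorem L291526 : sm gi N23567 = N34370 := rfl
theorem L291528 : sm gd N34370 = N23578 := ded_39_1 (flp_i L200555) (flp_d L200493) L291526
theorem L291534 : sm gh N23568 = N34371 := rfl
theorem L291536 : sm gg N34371 = N23574 := ded_50_1 (flp_h L200530) (flp_g L200499) L291534
theorem L291556 : sm gf N23570 = N34375 := rfl
theorem L291558 : sm gc N34375 = N23572 := ded_29_1 (flp_f L200519) (flp_c L200508) L291556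
theorem L291563 : sm gi N23570 = N34376 := rfl
theorem L291569 : sm ge N34376 = N23571 := ded_44_1 (flp_i L200512) L200506 L291563
theorem L291576 : sm gg N23572 = N34378 := rfl
theorem L291578 : sm gd N34378 = N23580 := ded_36_1 (flp_g L200571) (flp_d L200521) L291576
theorem L291580 : sm ge N34378 = N34378 := ded_41_1 (flp_g L291576) L200523 L291576
theorem L291581 : sm gi N23572 = N34379 := rfl
theorem L291583 : sm gd N34379 = N23581 := ded_39_1 (flp_i L200577) (flp_d L200521) L291581
theorem L291592 : sm gf N23575 = N34381 := rfl
theorem L291594 : sm gc N34381 = N24168 := ded_29_1 (flp_f L205473) (flp_c L200535) L291592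
theorem L291596 : sm gj N34381 = N23577 := ded_46_2 (flp_f L200549) (flp_j L200537) L291592
theorem L291598 : sm ge N34381 = N23821 := ded_40_1 (flp_f L202541) (flp_e L139506) (flp_f L138056) L200533 L291592
theorem L291600 : sm gi N23575 = N34382 := rfl
theorem L291606 : sm gj N34382 = N23578 := ded_53_1 (flp_i L200555) (flp_j L200537) L291600
theorem L291616 : sm gg N23577 = N34384 := rfl
theorem L291618 : sm gc N34384 = N24171 := ded_30_1 (flp_g L205495) (flp_c L200551) L291616
theorem L291620 : sm ge N34384 = N23824 := ded_41_1 (flp_g L202563) (flp_e L200553) L291616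
theorem L291622 : sm gf N34384 = N23580 := ded_45_1 (flp_g L200571) (flp_f L138086) (flp_g L138074) L200549 L291616
theorem L291624 : sm gi N23577 = N34385 := rfl
theorem L291630 : sm gf N34385 = N23578 := ded_48_1 (flp_i L200555) L200549 L291624
theorem L291632 : sm gh N23578 = N34386 := rfl
theorem L291640 : sm gj N23580 = N34387 := rfl
theorem L291642 : sm gc N34387 = N24174 := ded_31_1 (flp_j L205516) (flp_c L200573) L291640
theorem L291644 : sm ge N34387 = N23583 := ded_42_1 (flp_j L200591) (flp_e L200575) L291640
theorem L291646 : sm gi N23580 = N34388 := rfl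
theorem L291650 : sm ge N34388 = N23584 := ded_44_1 (flp_i L200598) (flp_e L200575) L291646
theorem L291664 : sm gi N23583 = N34391 := rfl
theorem L291671 : sm gj N34391 = N23584 := ded_53_1 (flp_i L200598) L200591 L291664
theorem L291673 : sm gh N23584 = N34392 := rfl
theorem L291679 : sm gg N34392 = N23585 := ded_50_1 (flp_h L200607) (flp_g L200605) L291673
theorem L291782 : sm ga N23594 = N34405 := rfl
theorem L291784 : sm gc N34405 = N23610 := ded_11_2 (flp_a L200823) (flp_c L200688) L291782
theorem L291786 : sm ge N34405 = N24185 := ded_13_2 (flp_a L205593) (flp_e L200683) L291782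
theorem L291871 : sm gh N23603 = N34415 := rfl
theorem L291873 : sm ga N34415 = N26646 := ded_17_1 (flp_h L225875) (flp_a L200762) L291871
theorem L291878 : sm gj N34415 = N23606 := ded_52_1 (flp_h L200788) (flp_j L200769) L291871
theorem L291909 : sm ga N23607 = N34419 := rfl
theorem L291913 : sm gj N34419 = N23610 := ded_16_2 (flp_a L200823) (flp_j L200801) L291909
theorem L291916 : sm gb N34419 = N26650 := ded_10_2 (flp_a L225907) (flp_b L155531) (flp_a L138269) L200797 L291909
theorem L291918 : sm gi N23607 = N34420 := rfl
theorem L291922 : sm ge N34420 = N24192 := ded_44_1 (flp_i L205650) (flp_e L200799) L291918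
theorem L291947 : sm gh N23611 = N34423 := rfl
theorem L291953 : sm gg N34423 = N23614 := ded_50_1 (flp_h L200860) (flp_g L200838) L291947
theorem L291986 : sm gg N23616 = N34428 := rfl
theorem L291990 : sm gc N34428 = N23617 := ded_30_1 (flp_g L200884) L200874 L291986
theorem L292004 : sm gf N23617 = N34430 := rfl
theorem L292006 : sm gb N34430 = N23635 := ded_22_1 (flp_f L201028) (flp_b L200886) L292004
theorem L292013 : sm gj N23617 = N34431 := rfl
theorem L292015 : sm gb N34431 = N23636 := ded_24_1 (flp_j L201039) (flp_b L200886) L292013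
theorem L292022 : sm gh N23617 = N34432 := rfl
theorem L292024 : sm gb N34432 = N23637 := ded_25_1 (flp_h L201050) (flp_b L200886) L292022
theorem L292026 : sm gg N34432 = N23618 := ded_50_1 (flp_h L200892) L200884 L292022
theorem L292036 : sm gi N23618 = N34434 := rfl
theorem L292038 : sm gb N34434 = N23639 := ded_26_1 (flp_i L201066) (flp_b L200894) L292036
theorem L292042 : sm gh N34434 = N23736 := ded_54_1 (flp_i L201864) (flp_h L139011) (flp_i L138343) L200892 L292036
theorem L292175 : sm gi N23628 = N34451 := rfl
theorem L292177 : sm gb N34451 = N23653 := ded_26_1 (flp_i L201190) (flp_b L200981) L292175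
theorem L292223 : sm gi N23632 = N34458 := rfl
theorem L292225 : sm gb N34458 = N23656 := ded_26_1 (flp_i L201214) (flp_b L201009) L292223
theorem L292231 : sm gh N23633 = N34459 := rfl
theorem L292235 : sm ge N34459 = N23634 := ded_43_1 (flp_h L201021) (flp_e L201018) L292231
theorem L292238 : sm ge N23635 = N34460 := rfl
theorem L292240 : sm ga N34460 = N23668 := ded_13_1 (flp_e L201340) (flp_a L201030) L292238
theorem L292242 : sm gc N34460 = N23857 := ded_28_1 (flp_e L202839) (flp_c L201032) L292238
theorem L292247 : sm gj N23635 = N34461 := rfl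
theorem L292251 : sm gc N34461 = N23858 := ded_31_1 (flp_j L202847) (flp_c L201032) L292247
theorem L292255 : sm gf N34461 = N23636 := ded_46_1 (flp_j L201039) L201028 L292247
theorem L292259 : sm gh N23635 = N34462 := rfl
theorem L292261 : sm ga N34462 = N23670 := ded_17_1 (flp_h L201357) (flp_a L201030) L292259
theorem L292263 : sm gc N34462 = N23859 := ded_32_1 (flp_h L202857) (flp_c L201032) L292259
theorem L292265 : sm gf N34462 = N23637 := ded_47_1 (flp_h L201050) L201028 L292259
theorem L292267 : sm gg N34462 = N34462 := ded_50_1 (flp_h L292259) L201038 L292259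
theorem L292268 : sm gh N23636 = N34463 := rfl
theorem L292270 : sm ga N34463 = N23671 := ded_17_1 (flp_h L201364) (flp_a L201041) L292268
theorem L292272 : sm gc N34463 = N23860 := ded_32_1 (flp_h L202864) (flp_c L201043) L292268
theorem L292274 : sm gg N34463 = N34463 := ded_50_1 (flp_h L292268) L201049 L292268
theorem L292275 : sm gj N34463 = N23637 := ded_52_1 (flp_h L201050) L201039 L292268
theorem L292277 : sm gd N23637 = N34464 := rfl
theorem L292279 : sm ga N34464 = N23672 := ded_12_1 (flp_d L201371) (flp_a L201052) L292277
theorem L292285 : sm gi N23637 = N34465 := rfl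
theorem L292287 : sm ga N34465 = N23673 := ded_18_1 (flp_i L201377) (flp_a L201052) L292285
theorem L292289 : sm gc N34465 = N23862 := ded_33_1 (flp_i L202879) (flp_c L201054) L292285
theorem L292291 : sm gg N34465 = N23639 := ded_51_1 (flp_i L201066) (flp_g L201056) L292285
theorem L292293 : sm gh N34465 = N23767 := ded_54_1 (flp_i L202108) (flp_h L139158) (flp_i L138427) L201050 L292285
theorem L292295 : sm gc N23638 = N34466 := rfl
theorem L292297 : sm ga N34466 = N23674 := ded_11_1 (flp_c L201385) (flp_a L201060) L292295
theorem L292312 : sm gi N23638 = N34468 := rfl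
theorem L292314 : sm ga N34468 = N23676 := ded_18_1 (flp_i L201398) (flp_a L201060) L292312
theorem L292316 : sm gd N34468 = N23639 := ded_39_1 (flp_i L201066) L201058 L292312
theorem L292340 : sm gd N23641 = N34471 := rfl
theorem L292342 : sm ga N34471 = N23679 := ded_12_1 (flp_d L201420) (flp_a L201088) L292340
theorem L292408 : sm ge N23645 = N34479 := rfl
theorem L292412 : sm gc N34479 = N23646 := ded_28_1 (flp_e L201132) L201124 L292408
theorem L292434 : sm gi N23646 = N34482 := rfl
theorem L292436 : sm ga N34482 = N23690 := ded_18_1 (flp_i L201494) (flp_a L201134) L292434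
theorem L292438 : sm gd N34482 = N23653 := ded_39_1 (flp_i L201190) (flp_d L201137) L292434
theorem L292459 : sm gi N23648 = N34485 := rfl
theorem L292467 : sm gj N34485 = N23651 := ded_53_1 (flp_i L201173) (flp_j L201152) L292459
theorem L292509 : sm gh N23653 = N34491 := rfl
theorem L292514 : sm ge N34491 = N23654 := ded_43_1 (flp_h L201198) (flp_e L201195) L292509
theorem L292517 : sm gj N23655 = N34492 := rfl
theorem L292519 : sm ga N34492 = N23700 := ded_16_1 (flp_j L201557) (flp_a L201210) L292517
theorem L292532 : sm gh N23656 = N34494 := rfl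
theorem L292548 : sm gh N23658 = N34496 := rfl
theorem L292550 : sm ga N34496 = N23704 := ded_17_1 (flp_h L201580) (flp_a L201233) L292548
theorem L292552 : sm gb N34496 = N26727 := ded_25_1 (flp_h L226541) (flp_b L201235) L292548
theorem L292582 : sm gc N23660 = N34499 := rfl
theorem L292584 : sm ga N34499 = N23707 := ded_11_1 (flp_c L201608) (flp_a L201255) L292582
theorem L292586 : sm gf N34499 = N23664 := ded_29_2 (flp_c L201300) (flp_f L201259) L292582
theorem L292589 : sm gh N34499 = N23881 := ded_32_2 (flp_c L203049) (flp_h L201262) L292582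
theorem L292613 : sm gc N23662 = N34502 := rfl
theorem L292615 : sm ga N34502 = N23710 := ded_11_1 (flp_c L201633) (flp_a L201277) L292613
theorem L292621 : sm gh N34502 = N23883 := ded_32_2 (flp_c L203067) (flp_h L201285) L292613
theorem L292666 : sm gi N23666 = N34507 := rfl
theorem L292670 : sm gc N34507 = N26738 := ded_33_1 (flp_i L226643) (flp_c L201328) L292666
theorem L292676 : sm gj N23668 = N34508 := rfl
theorem L292678 : sm gc N34508 = N23886 := ded_31_1 (flp_j L203094) (flp_c L201342) L292676
theorem L292684 : sm gh N23668 = N34509 := rfl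
theorem L292686 : sm gc N34509 = N23887 := ded_32_1 (flp_h L203102) (flp_c L201342) L292684
theorem L292688 : sm ge N34509 = N23670 := ded_43_1 (flp_h L201357) L201340 L292684
theorem L292690 : sm gg N34509 = N34509 := ded_50_1 (flp_h L292684) L201344 L292684
theorem L292701 : sm gh N23669 = N34511 := rfl
theorem L292703 : sm gc N34511 = N23889 := ded_32_1 (flp_h L203117) (flp_c L201349) L292701
theorem L292705 : sm gf N34511 = N23671 := ded_47_1 (flp_h L201364) (flp_f L201353) L292701
theorem L292707 : sm gj N34511 = N23670 := ded_52_1 (flp_h L201357) L201347 L292701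
theorem L292709 : sm gd N23670 = N34512 := rfl
theorem L292711 : sm gf N34512 = N23672 := ded_35_2 (flp_d L201371) (flp_f L201361) L292709
theorem L292714 : sm gh N34512 = N23679 := ded_38_2 (flp_d L201420) (flp_h L138685) (flp_d L138643) L201357 L292709
theorem L292716 : sm gi N23670 = N34513 := rfl
theorem L292718 : sm gc N34513 = N23891 := ded_33_1 (flp_i L203132) (flp_c L201359) L292716
theorem L292720 : sm gf N34513 = N23673 := ded_48_1 (flp_i L201377) (flp_f L201361) L292716
theorem L292722 : sm gg N34513 = N34513 := ded_51_1 (flp_i L292716) L201363 L292716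
theorem L292723 : sm gh N34513 = N23800 := ded_54_1 (flp_i L202394) (flp_h L139390) (flp_i L138645) L201357 L292716
theorem L292725 : sm gd N23671 = N34514 := rfl
theorem L292728 : sm gj N34514 = N23672 := ded_37_2 (flp_d L201371) (flp_j L201369) L292725
theorem L292730 : sm gh N34514 = N23681 := ded_38_2 (flp_d L201434) (flp_h L138692) (flp_d L138652) L201364 L292725
theorem L292732 : sm gi N23671 = N34515 := rfl
theorem L292734 : sm gc N34515 = N23893 := ded_33_1 (flp_i L203148) (flp_c L201366) L292732
theorem L292736 : sm gg N34515 = N34515 := ded_51_1 (flp_i L292732) L201368 L292732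
theorem L292737 : sm gj N34515 = N23673 := ded_53_1 (flp_i L201377) (flp_j L201369) L292732
theorem L292739 : sm gh N34515 = N23802 := ded_54_1 (flp_i L202409) (flp_h L139397) (flp_i L138654) L201364 L292732
theorem L292741 : sm gc N23672 = N34516 := rfl
theorem L292743 : sm gg N34516 = N23674 := ded_30_2 (flp_c L201385) (flp_g L201373) L292741
theorem L292745 : sm gh N34516 = N23683 := ded_32_2 (flp_c L201450) (flp_h L201375) L292741
theorem L292747 : sm gd N34516 = N23894 := ded_27_2 (flp_c L203156) (flp_d L139957) (flp_c L138659) L201371 L292741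
theorem L292749 : sm ge N23672 = N34517 := rfl
theorem L292755 : sm gi N23672 = N34518 := rfl
theorem L292757 : sm gd N34518 = N23673 := ded_39_1 (flp_i L201377) L201371 L292755
theorem L292759 : sm gg N34518 = N23676 := ded_51_1 (flp_i L201398) (flp_g L201373) L292755
theorem L292761 : sm gb N23674 = N34519 := rfl
theorem L292763 : sm gd N34519 = N23897 := ded_20_2 (flp_b L203177) (flp_d L201391) L292761
theorem L292769 : sm ge N23674 = N34520 := rfl
theorem L292771 : sm gc N34520 = N23675 := ded_28_1 (flp_e L201393) L201385 L292769
theorem L292776 : sm gi N23674 = N34521 := rfl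
theorem L292778 : sm gc N34521 = N23676 := ded_33_1 (flp_i L201398) L201385 L292776
theorem L292780 : sm gd N34521 = N23899 := ded_39_1 (flp_i L203191) (flp_d L201391) L292776
theorem L292782 : sm gf N34521 = N34521 := ded_48_1 (flp_i L292776) L201387 L292776
theorem L292783 : sm gj N34521 = N34521 := ded_53_1 (flp_i L292776) L201388 L292776
theorem L292790 : sm gi N23675 = N34523 := rfl
theorem L292792 : sm ge N34523 = N23676 := ded_44_1 (flp_i L201398) L201393 L292790
theorem L292795 : sm gh N23676 = N34524 := rfl
theorem L292799 : sm gd N34524 = N23807 := ded_38_1 (flp_h L202443) L139426 (flp_h L138675) (flp_d L201400) L292795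
theorem L292803 : sm gh N23677 = N34525 := rfl
theorem L292805 : sm gc N34525 = N23704 := ded_32_1 (flp_h L201580) (flp_c L201406) L292803
theorem L292808 : sm gg N34525 = N23678 := ded_50_1 (flp_h L201412) L201404 L292803
theorem L292827 : sm gc N23679 = N34528 := rfl
theorem L292829 : sm gf N34528 = N23683 := ded_29_2 (flp_c L201450) (flp_f L201422) L292827
theorem L292834 : sm ge N23679 = N34529 := rfl
theorem L292837 : sm gi N23679 = N34530 := rfl
theorem L292839 : sm gd N34530 = N23680 := ded_39_1 (flp_i L201425) L201420 L292837
theorem L292841 : sm gf N34530 = N23685 := ded_48_1 (flp_i L201462) (flp_f L201422) L292837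
theorem L292844 : sm gc N23681 = N34531 := rfl
theorem L292847 : sm gj N34531 = N23683 := ded_31_2 (flp_c L201450) (flp_j L201437) L292844
theorem L292851 : sm ge N23681 = N34532 := rfl
theorem L292858 : sm gi N23681 = N34533 := rfl
theorem L292863 : sm gj N34533 = N23685 := ded_53_1 (flp_i L201462) (flp_j L201437) L292858
theorem L292865 : sm gb N23683 = N34534 := rfl
theorem L292867 : sm gd N34534 = N23712 := ded_20_2 (flp_b L201652) (flp_d L201454) L292865
theorem L292878 : sm gi N23683 = N34536 := rfl
theorem L292880 : sm gc N34536 = N23685 := ded_33_1 (flp_i L201462) L201450 L292878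
theorem L292884 : sm gg N34536 = N23688 := ded_51_1 (flp_i L201480) (flp_g L201452) L292878
theorem L292898 : sm gh N23685 = N34539 := rfl
theorem L292902 : sm gd N34539 = N23817 := ded_38_1 (flp_h L202515) L139482 (flp_h L138713) (flp_d L201464) L292898
theorem L292946 : sm gg N23689 = N34546 := rfl
theorem L292948 : sm gd N34546 = N23697 := ded_36_1 (flp_g L201538) (flp_d L201490) L292946
theorem L292964 : sm gf N23692 = N34549 := rfl
theorem L292967 : sm gj N34549 = N23694 := ded_46_2 (flp_f L201521) (flp_j L201511) L292964
theorem L292977 : sm gh N23693 = N34551 := rfl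
theorem L292983 : sm gd N34551 = N23823 := ded_38_1 (flp_h L202556) L139517 (flp_h L138745) (flp_d L201516) L292977
theorem L292990 : sm gi N23694 = N34553 := rfl
theorem L292993 : sm gf N34553 = N23695 := ded_48_1 (flp_i L201524) L201521 L292990
theorem L292995 : sm gh N23695 = N34554 := rfl
theorem L293008 : sm gi N23697 = N34556 := rfl
theorem L293013 : sm gg N34556 = N23698 := ded_51_1 (flp_i L201543) L201538 L293008
theorem L293015 : sm gh N23698 = N34557 := rfl
theorem L293020 : sm gf N34557 = N23699 := ded_47_1 (flp_h L201551) (flp_f L201548) L293015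
theorem L293040 : sm gd N23702 = N34561 := rfl
theorem L293042 : sm gf N34561 = N23703 := ded_35_2 (flp_d L201574) (flp_f L201571) L293040
theorem L293046 : sm gc N23703 = N34562 := rfl
theorem L293048 : sm ge N34562 = N23834 := ded_28_2 (flp_c L202630) (flp_e L201577) L293046
theorem L293053 : sm gd N23704 = N34563 := rfl
theorem L293058 : sm gg N34563 = N23705 := ded_36_2 (flp_d L201588) (flp_g L201585) L293053
theorem L293061 : sm gh N34563 = N23918 := ded_38_2 (flp_d L203339) (flp_h L140093) (flp_d L138800) L201580 L293053
theorem L293063 : sm gi N23704 = N34564 := rfl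
theorem L293065 : sm gb N34564 = N23717 := ded_26_1 (flp_i L201698) (flp_b L201582) L293063
theorem L293068 : sm gg N34564 = N23706 := ded_51_1 (flp_i L201598) (flp_g L201585) L293063
theorem L293090 : sm gi N23705 = N34567 := rfl
theorem L293092 : sm gb N34567 = N23720 := ded_26_1 (flp_i L201727) (flp_b L201590) L293090
theorem L293094 : sm gd N34567 = N23706 := ded_39_1 (flp_i L201598) L201588 L293090
theorem L293101 : sm gb N23707 = N34568 := rfl
theorem L293103 : sm gf N34568 = N23712 := ded_22_2 (flp_b L201652) (flp_f L201610) L293101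
theorem L293106 : sm gh N34568 = N23921 := ded_25_2 (flp_b L203364) (flp_h L201613) L293101
theorem L293118 : sm gi N23707 = N34570 := rfl
theorem L293120 : sm gc N34570 = N23709 := ded_33_1 (flp_i L201623) L201608 L293118
theorem L293122 : sm gf N34570 = N23713 := ded_48_1 (flp_i L201661) (flp_f L201610) L293118
theorem L293126 : sm gi N23708 = N34571 := rfl
theorem L293128 : sm gb N34571 = N23724 := ded_26_1 (flp_i L201765) (flp_b L201617) L293126
theorem L293130 : sm ge N34571 = N23709 := ded_44_1 (flp_i L201623) L201615 L293126
theorem L293154 : sm ga N23712 = N34574 := rfl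
theorem L293159 : sm gg N34574 = N23714 := ded_15_2 (flp_a L201669) (flp_g L201655) L293154
theorem L293161 : sm gh N34574 = N23924 := ded_17_2 (flp_a L203388) (flp_h L201657) L293154
theorem L293163 : sm gi N23712 = N34575 := rfl
theorem L293165 : sm gb N34575 = N23713 := ded_26_1 (flp_i L201661) L201652 L293163
theorem L293167 : sm gc N34575 = N23728 := ded_33_1 (flp_i L201802) (flp_c L201659) L293163
theorem L293193 : sm ge N23716 = N34578 := rfl
theorem L293195 : sm ga N34578 = N26809 := ded_13_1 (flp_e L227182) (flp_a L201690) L293193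
theorem L293200 : sm gh N34578 = N23926 := ded_43_2 (flp_e L203406) (flp_h L201696) L293193
theorem L293213 : sm gb N23718 = N34580 := rfl
theorem L293217 : sm gj N34580 = N23721 := ded_24_2 (flp_b L201738) (flp_j L201714) L293213
theorem L293219 : sm gh N34580 = N23927 := ded_25_2 (flp_b L203415) (flp_h L201716) L293213
theorem L293270 : sm gi N23721 = N34586 := rfl
theorem L293272 : sm gb N34586 = N23723 := ded_26_1 (flp_i L201755) L201738 L293270
theorem L293274 : sm gf N34586 = N23728 := ded_48_1 (flp_i L201802) (flp_f L201740) L293270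
theorem L293284 : sm gi N23722 = N34588 := rfl
theorem L293288 : sm gc N34588 = N23724 := ded_33_1 (flp_i L201765) (flp_c L201749) L293284
theorem L293290 : sm ge N34588 = N23723 := ded_44_1 (flp_i L201755) L201745 L293284
theorem L293342 : sm gh N23730 = N34594 := rfl
theorem L293344 : sm gb N34594 = N23935 := ded_25_1 (flp_h L203484) (flp_b L201822) L293342
theorem L293346 : sm gc N34594 = N23734 := ded_32_1 (flp_h L201850) (flp_c L201824) L293342
theorem L293350 : sm gd N23731 = N34595 := rfl
theorem L293352 : sm gb N34595 = N23936 := ded_20_1 (flp_d L203491) (flp_b L201830) L293350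
theorem L293356 : sm gh N34595 = N26826 := ded_38_2 (flp_d L227317) (flp_h L156523) (flp_d L139003) L201828 L293350
theorem L293358 : sm gi N23731 = N34596 := rfl
theorem L293360 : sm gb N34596 = N23937 := ded_26_1 (flp_i L203499) (flp_b L201830) L293358
theorem L293362 : sm gc N34596 = N23736 := ded_33_1 (flp_i L201864) (flp_c L201832) L293358
theorem L293366 : sm ge N23732 = N34597 := rfl
theorem L293379 : sm gh N23732 = N34599 := rfl
theorem L293381 : sm gb N34599 = N23764 := ded_25_1 (flp_h L202081) (flp_b L201838) L293379
theorem L293383 : sm gf N34599 = N23734 := ded_47_1 (flp_h L201850) L201836 L293379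
theorem L293386 : sm gh N23733 = N34600 := rfl
theorem L293388 : sm gb N34600 = N23765 := ded_25_1 (flp_h L202090) (flp_b L201845) L293386
theorem L293391 : sm gj N34600 = N23734 := ded_52_1 (flp_h L201850) L201843 L293386
theorem L293401 : sm gi N23734 = N34602 := rfl
theorem L293403 : sm gb N34602 = N23767 := ded_26_1 (flp_i L202108) (flp_b L201852) L293401
theorem L293405 : sm gg N34602 = N23736 := ded_51_1 (flp_i L201864) (flp_g L201854) L293401
theorem L293429 : sm gg N23737 = N34606 := rfl
theorem L293433 : sm gc N34606 = N26837 := ded_30_1 (flp_g L227399) (flp_c L201874) L293429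
theorem L293437 : sm gh N23737 = N34607 := rfl
theorem L293443 : sm gf N34607 = N23739 := ded_47_1 (flp_h L201887) (flp_f L201876) L293437
theorem L293463 : sm gd N23739 = N34610 := rfl
theorem L293465 : sm gb N34610 = N23774 := ded_20_1 (flp_d L202168) (flp_b L201889) L293463
theorem L293468 : sm gj N34610 = N23740 := ded_37_2 (flp_d L201898) (flp_j L201896) L293463
theorem L293481 : sm gc N23740 = N34612 := rfl
theorem L293483 : sm gg N34612 = N23742 := ded_30_2 (flp_c L201914) (flp_g L201902) L293481
theorem L293486 : sm gd N34612 = N26843 := ded_27_2 (flp_c L227443) (flp_d L156591) (flp_c L139037) L201898 L293481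
theorem L293488 : sm ge N23740 = N34613 := rfl
theorem L293492 : sm gg N34613 = N23743 := ded_41_2 (flp_e L201921) (flp_g L201902) L293488
theorem L293494 : sm gd N34613 = N23748 := ded_34_1 (flp_e L201960) (flp_d L139068) (flp_e L139039) L201898 L293488
theorem L293542 : sm gc N23745 = N34620 := rfl
theorem L293567 : sm ge N23747 = N34623 := rfl
theorem L293573 : sm gg N34623 = N23750 := ded_41_2 (flp_e L201974) (flp_g L201954) L293567
theorem L293643 : sm gi N23752 = N34633 := rfl
theorem L293649 : sm gf N34633 = N23753 := ded_48_1 (flp_i L201999) L201992 L293643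
theorem L293652 : sm gh N23753 = N34634 := rfl
theorem L293656 : sm ge N34634 = N23754 := ded_43_1 (flp_h L202006) (flp_e L202003) L293652
theorem L293729 : sm gh N23760 = N34644 := rfl
theorem L293731 : sm gb N34644 = N23791 := ded_25_1 (flp_h L202320) (flp_b L202051) L293729
theorem L293750 : sm gh N23762 = N34647 := rfl
theorem L293752 : sm ga N34647 = N23796 := ded_17_1 (flp_h L202363) (flp_a L202066) L293750
theorem L293754 : sm gc N34647 = N23945 := ded_32_1 (flp_h L203566) (flp_c L202068) L293750
theorem L293756 : sm ge N34647 = N23764 := ded_43_1 (flp_h L202081) L202064 L293750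
theorem L293758 : sm gg N34647 = N34647 := ded_50_1 (flp_h L293750) L202070 L293750
theorem L293769 : sm gh N23763 = N34649 := rfl
theorem L293771 : sm ga N34649 = N23798 := ded_17_1 (flp_h L202378) (flp_a L202073) L293769
theorem L293773 : sm gc N34649 = N23947 := ded_32_1 (flp_h L203581) (flp_c L202075) L293769
theorem L293775 : sm gf N34649 = N23765 := ded_47_1 (flp_h L202090) (flp_f L202079) L293769
theorem L293777 : sm gj N34649 = N23764 := ded_52_1 (flp_h L202081) L202071 L293769
theorem L293779 : sm gd N23764 = N34650 := rfl
theorem L293781 : sm ga N34650 = N23799 := ded_12_1 (flp_d L202386) (flp_a L202083) L293779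
theorem L293783 : sm gf N34650 = N23766 := ded_35_2 (flp_d L202099) (flp_f L202087) L293779
theorem L293789 : sm gi N23764 = N34651 := rfl
theorem L293791 : sm ga N34651 = N23800 := ded_18_1 (flp_i L202394) (flp_a L202083) L293789
theorem L293793 : sm gc N34651 = N23948 := ded_33_1 (flp_i L203590) (flp_c L202085) L293789
theorem L293795 : sm gf N34651 = N23767 := ded_48_1 (flp_i L202108) (flp_f L202087) L293789
theorem L293797 : sm gg N34651 = N34651 := ded_51_1 (flp_i L293789) L202089 L293789
theorem L293798 : sm gd N23765 = N34652 := rfl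
theorem L293800 : sm ga N34652 = N23801 := ded_12_1 (flp_d L202401) (flp_a L202092) L293798
theorem L293803 : sm gj N34652 = N23766 := ded_37_2 (flp_d L202099) (flp_j L202097) L293798
theorem L293806 : sm gh N34652 = N23774 := ded_38_2 (flp_d L202168) (flp_h L139200) (flp_d L139155) L202090 L293798
theorem L293808 : sm gi N23765 = N34653 := rfl
theorem L293810 : sm ga N34653 = N23802 := ded_18_1 (flp_i L202409) (flp_a L202092) L293808
theorem L293812 : sm gc N34653 = N23949 := ded_33_1 (flp_i L203598) (flp_c L202094) L293808
theorem L293814 : sm gg N34653 = N34653 := ded_51_1 (flp_i L293808) L202096 L293808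
theorem L293815 : sm gj N34653 = N23767 := ded_53_1 (flp_i L202108) (flp_j L202097) L293808
theorem L293817 : sm ge N23766 = N34654 := rfl
theorem L293819 : sm ga N34654 = N23803 := ded_13_1 (flp_e L202416) (flp_a L202101) L293817
theorem L293822 : sm gg N34654 = N23768 := ded_41_2 (flp_e L202116) (flp_g L202103) L293817
theorem L293826 : sm gi N23766 = N34655 := rfl
theorem L293828 : sm ga N34655 = N23804 := ded_18_1 (flp_i L202423) (flp_a L202101) L293826
theorem L293831 : sm gd N34655 = N23767 := ded_39_1 (flp_i L202108) L202099 L293826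
theorem L293835 : sm gf N23768 = N34656 := rfl
theorem L293837 : sm ga N34656 = N23805 := ded_14_1 (flp_f L202430) (flp_a L202118) L293835
theorem L293841 : sm gh N34656 = N23778 := ded_47_2 (flp_f L202205) (flp_h L202122) L293835
theorem L293844 : sm gi N23768 = N34657 := rfl
theorem L293906 : sm ge N23774 = N34664 := rfl
theorem L293908 : sm ga N34664 = N23813 := ded_13_1 (flp_e L202485) (flp_a L202170) L293906
theorem L293914 : sm gd N34664 = N23781 := ded_34_1 (flp_e L202231) (flp_d L139245) (flp_e L139206) L202168 L293906
theorem L293951 : sm gg N23778 = N34669 := rfl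
theorem L293953 : sm ga N34669 = N23818 := ded_15_1 (flp_g L202520) (flp_a L202207) L293951
theorem L293978 : sm gf N23781 = N34672 := rfl
theorem L293980 : sm ga N34672 = N23821 := ded_14_1 (flp_f L202541) (flp_a L202233) L293978
theorem L293986 : sm gi N23781 = N34673 := rfl
theorem L293988 : sm ga N34673 = N23822 := ded_18_1 (flp_i L202547) (flp_a L202233) L293986
theorem L293992 : sm ge N34673 = N23782 := ded_44_1 (flp_i L202240) L202231 L293986
theorem L294014 : sm gi N23783 = N34676 := rfl
theorem L294016 : sm ga N34676 = N23825 := ded_18_1 (flp_i L202569) (flp_a L202253) L294014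
theorem L294018 : sm gc N34676 = N24230 := ded_33_1 (flp_i L205965) (flp_c L202255) L294014
theorem L294032 : sm gj N23786 = N34678 := rfl
theorem L294034 : sm ga N34678 = N23827 := ded_16_1 (flp_j L202583) (flp_a L202277) L294032
theorem L294077 : sm gh N23790 = N34683 := rfl
theorem L294083 : sm gg N34683 = N23791 := ded_50_1 (flp_h L202320) (flp_g L202318) L294077
theorem L294119 : sm gh N23795 = N34688 := rfl
theorem L294121 : sm gc N34688 = N23951 := ded_32_1 (flp_h L203613) (flp_c L202359) L294119
theorem L294123 : sm ge N34688 = N23798 := ded_43_1 (flp_h L202378) (flp_e L202361) L294119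
theorem L294125 : sm gj N34688 = N23796 := ded_52_1 (flp_h L202363) L202357 L294119
theorem L294127 : sm gd N23796 = N34689 := rfl
theorem L294129 : sm gg N34689 = N34689 := ded_36_2 (flp_d L294127) L202369 L294127
theorem L294130 : sm gi N23796 = N34690 := rfl
theorem L294132 : sm gc N34690 = N23953 := ded_33_1 (flp_i L203626) (flp_c L202365) L294130
theorem L294134 : sm ge N34690 = N23800 := ded_44_1 (flp_i L202394) (flp_e L202367) L294130
theorem L294136 : sm gg N34690 = N34690 := ded_51_1 (flp_i L294130) L202369 L294130
theorem L294145 : sm gd N23798 = N34692 := rfl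
theorem L294147 : sm gf N34692 = N23801 := ded_35_2 (flp_d L202401) (flp_f L202382) L294145
theorem L294149 : sm gj N34692 = N23799 := ded_37_2 (flp_d L202386) (flp_j L202384) L294145
theorem L294154 : sm gi N23798 = N34693 := rfl
theorem L294156 : sm gc N34693 = N23955 := ded_33_1 (flp_i L203640) (flp_c L202380) L294154
theorem L294158 : sm gf N34693 = N23802 := ded_48_1 (flp_i L202409) (flp_f L202382) L294154
theorem L294160 : sm gj N34693 = N23800 := ded_53_1 (flp_i L202394) (flp_j L202384) L294154
theorem L294162 : sm ge N23799 = N34694 := rfl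
theorem L294166 : sm gh N34694 = N23811 := ded_43_2 (flp_e L202473) (flp_h L202392) L294162
theorem L294168 : sm gi N23799 = N34695 := rfl
theorem L294171 : sm gd N34695 = N23800 := ded_39_1 (flp_i L202394) L202386 L294168
theorem L294173 : sm gf N34695 = N23804 := ded_48_1 (flp_i L202423) (flp_f L202388) L294168
theorem L294176 : sm ge N23801 = N34696 := rfl
theorem L294180 : sm gj N34696 = N23803 := ded_42_2 (flp_e L202416) (flp_j L202404) L294176
theorem L294184 : sm gi N23801 = N34697 := rfl
theorem L294187 : sm gd N34697 = N23802 := ded_39_1 (flp_i L202409) L202401 L294184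
theorem L294190 : sm gj N34697 = N23804 := ded_53_1 (flp_i L202423) (flp_j L202404) L294184
theorem L294192 : sm gf N23803 = N34698 := rfl
theorem L294194 : sm gc N34698 = N34698 := ded_29_1 (flp_f L294192) L202418 L294192
theorem L294195 : sm gh N34698 = N23815 := ded_47_2 (flp_f L202501) (flp_h L202421) L294192
theorem L294197 : sm gi N23803 = N34699 := rfl
theorem L294199 : sm gc N34699 = N34699 := ded_33_1 (flp_i L294197) L202418 L294197
theorem L294200 : sm ge N34699 = N23804 := ded_44_1 (flp_i L202423) L202416 L294197
theorem L294202 : sm gg N34699 = N23806 := ded_51_1 (flp_i L202437) (flp_g L202419) L294197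
theorem L294204 : sm gh N23804 = N34700 := rfl
theorem L294207 : sm gg N34700 = N23807 := ded_50_1 (flp_h L202443) (flp_g L202428) L294204
theorem L294211 : sm gg N23805 = N34701 := rfl
theorem L294213 : sm gc N34701 = N34701 := ded_30_1 (flp_g L294211) L202432 L294211
theorem L294214 : sm ge N34701 = N34701 := ded_41_1 (flp_g L294211) L202436 L294211
theorem L294215 : sm gh N34701 = N23818 := ded_50_2 (flp_g L202520) (flp_h L202434) L294211
theorem L294217 : sm gi N23805 = N34702 := rfl
theorem L294219 : sm gc N34702 = N34702 := ded_33_1 (flp_i L294217) L202432 L294217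
theorem L294220 : sm ge N34702 = N34702 := ded_44_1 (flp_i L294217) L202436 L294217
theorem L294221 : sm gf N34702 = N23806 := ded_48_1 (flp_i L202437) L202430 L294217
theorem L294223 : sm gj N34702 = N34702 := ded_53_1 (flp_i L294217) L202433 L294217
theorem L294261 : sm gf N23811 = N34708 := rfl
theorem L294264 : sm ge N34708 = N23815 := ded_40_1 (flp_f L202501) (flp_e L139472) (flp_f L139446) L202473 L294261
theorem L294266 : sm gi N23811 = N34709 := rfl
theorem L294269 : sm ge N34709 = N23812 := ded_44_1 (flp_i L202477) L202473 L294266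
theorem L294278 : sm gf N23813 = N34711 := rfl
theorem L294281 : sm gd N34711 = N23821 := ded_35_1 (flp_f L202541) (flp_d L202491) L294278
theorem L294283 : sm gj N34711 = N23815 := ded_46_2 (flp_f L202501) (flp_j L202489) L294278
theorem L294285 : sm gi N23813 = N34712 := rfl
theorem L294301 : sm gg N23815 = N34714 := rfl
theorem L294303 : sm gc N34714 = N34714 := ded_30_1 (flp_g L294301) L202503 L294301
theorem L294304 : sm gd N34714 = N23824 := ded_36_1 (flp_g L202563) (flp_d L202504) L294301
theorem L294306 : sm gf N34714 = N23818 := ded_45_1 (flp_g L202520) (flp_f L139486) (flp_g L139475) L202501 L294301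
theorem L294308 : sm gi N23815 = N34715 := rfl
theorem L294311 : sm gd N34715 = N23825 := ded_39_1 (flp_i L202569) (flp_d L202504) L294308
theorem L294322 : sm gj N23818 = N34717 := rfl
theorem L294324 : sm gc N34717 = N34717 := ded_31_1 (flp_j L294322) L202522 L294322
theorem L294325 : sm gd N34717 = N23827 := ded_37_1 (flp_j L202583) (flp_d L202523) L294322
theorem L294327 : sm ge N34717 = N34717 := ded_42_1 (flp_j L294322) L202525 L294322
theorem L294328 : sm gg N34717 = N34717 := ded_49_1 (flp_j L294322) (flp_g L202520) L139491 L202520 L294322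
theorem L294329 : sm gi N23818 = N34718 := rfl
theorem L294349 : sm gg N23821 = N34721 := rfl
theorem L294351 : sm gc N34721 = N24240 := ded_30_1 (flp_g L206045) (flp_c L202543) L294349
theorem L294353 : sm gf N34721 = N34721 := ded_45_1 (flp_g L294349) (flp_f L202541) L139510 L202541 L294349
theorem L294354 : sm gi N23821 = N34722 := rfl
theorem L294360 : sm gj N34722 = N23825 := ded_53_1 (flp_i L202569) (flp_j L202545) L294354
theorem L294371 : sm gj N23824 = N34724 := rfl
theorem L294373 : sm gc N34724 = N24243 := ded_31_1 (flp_j L206066) (flp_c L202565) L294371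
theorem L294375 : sm gf N34724 = N23827 := ded_46_1 (flp_j L202583) (flp_f L202567) L294371
theorem L294377 : sm gi N23824 = N34725 := rfl
theorem L294379 : sm gc N34725 = N24244 := ded_33_1 (flp_i L206072) (flp_c L202565) L294377
theorem L294385 : sm gh N23825 = N34726 := rfl
theorem L294387 : sm gc N34726 = N24245 := ded_32_1 (flp_h L206080) (flp_c L202571) L294385
theorem L294395 : sm gi N23827 = N34728 := rfl
theorem L294397 : sm gc N34728 = N24247 := ded_33_1 (flp_i L206092) (flp_c L202585) L294395
theorem L294399 : sm ge N34728 = N23831 := ded_44_1 (flp_i L202610) (flp_e L202587) L294395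
theorem L294412 : sm gd N23829 = N34730 := rfl
theorem L294414 : sm gf N34730 = N23830 := ded_35_2 (flp_d L202607) (flp_f L202604) L294412
theorem L294417 : sm gc N23830 = N34731 := rfl
theorem L294420 : sm gd N34731 = N24250 := ded_27_2 (flp_c L206115) (flp_d L142113) (flp_c L139557) L202607 L294417
theorem L294434 : sm gc N23833 = N34734 := rfl
theorem L294436 : sm gf N34734 = N23834 := ded_29_2 (flp_c L202630) (flp_f L202626) L294434
theorem L294440 : sm gd N34734 = N24253 := ded_27_2 (flp_c L206133) (flp_d L142132) (flp_c L139577) L202624 L294434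
theorem L294442 : sm ge N23833 = N34735 := rfl
theorem L294462 : sm gj N23836 = N34738 := rfl
theorem L294467 : sm gd N34738 = N26969 := ded_37_1 (flp_j L228457) (flp_d L202650) L294462
theorem L294469 : sm gi N34738 = N23934 := ded_53_2 (flp_j L203476) (flp_i L202652) L294462
theorem L294495 : sm ge N23838 = N34742 := rfl
theorem L294501 : sm gi N34742 = N23938 := ded_44_2 (flp_e L203506) (flp_i L202668) L294495
theorem L294504 : sm gj N23838 = N34743 := rfl
theorem L294507 : sm gb N34743 = N23858 := ded_24_1 (flp_j L202847) (flp_b L202664) L294504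
theorem L294513 : sm gi N34743 = N23939 := ded_53_2 (flp_j L203513) (flp_i L202668) L294504
theorem L294540 : sm gi N23840 = N34747 := rfl
theorem L294543 : sm gb N34747 = N23862 := ded_26_1 (flp_i L202879) (flp_b L202684) L294540
theorem L294547 : sm gh N34747 = N23942 := ded_54_1 (flp_i L203540) (flp_h L140240) (flp_i L139629) L202681 L294540
theorem L294556 : sm ge N23841 = N34749 := rfl
theorem L294562 : sm gh N34749 = N23848 := ded_43_2 (flp_e L202759) (flp_h L202695) L294556
theorem L294574 : sm gg N23843 = N34751 := rfl
theorem L294577 : sm gb N34751 = N23866 := ded_23_1 (flp_g L202911) (flp_b L202709) L294574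
theorem L294582 : sm gi N34751 = N23943 := ded_51_2 (flp_g L203548) (flp_i L202716) L294574
theorem L294599 : sm gd N23844 = N34753 := rfl
theorem L294602 : sm gb N34753 = N23868 := ded_20_1 (flp_d L202934) (flp_b L202721) L294599
theorem L294604 : sm gf N34753 = N23846 := ded_35_2 (flp_d L202743) (flp_f L202726) L294599
theorem L294661 : sm gc N23849 = N34760 := rfl
theorem L294666 : sm gj N34760 = N23850 := ded_31_2 (flp_c L202778) (flp_j L202775) L294661
theorem L294690 : sm gf N23851 = N34763 := rfl
theorem L294693 : sm gb N34763 = N23876 := ded_22_1 (flp_f L203002) (flp_b L202791) L294690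
theorem L294758 : sm gj N23857 = N34771 := rfl
theorem L294760 : sm ga N34771 = N23886 := ded_16_1 (flp_j L203094) (flp_a L202841) L294758
theorem L294763 : sm ge N34771 = N23858 := ded_42_1 (flp_j L202847) L202839 L294758
theorem L294767 : sm gh N23857 = N34772 := rfl
theorem L294769 : sm ga N34772 = N23887 := ded_17_1 (flp_h L203102) (flp_a L202841) L294767
theorem L294771 : sm ge N34772 = N23859 := ded_43_1 (flp_h L202857) L202839 L294767
theorem L294773 : sm gg N34772 = N34772 := ded_50_1 (flp_h L294767) L202843 L294767
theorem L294784 : sm gh N23858 = N34774 := rfl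
theorem L294786 : sm ga N34774 = N23889 := ded_17_1 (flp_h L203117) (flp_a L202849) L294784
theorem L294788 : sm gf N34774 = N23860 := ded_47_1 (flp_h L202864) (flp_f L202853) L294784
theorem L294790 : sm gj N34774 = N23859 := ded_52_1 (flp_h L202857) L202847 L294784
theorem L294792 : sm gd N23859 = N34775 := rfl
theorem L294794 : sm ga N34775 = N23890 := ded_12_1 (flp_d L203124) (flp_a L202859) L294792
theorem L294801 : sm gi N23859 = N34776 := rfl
theorem L294803 : sm ga N34776 = N23891 := ded_18_1 (flp_i L203132) (flp_a L202859) L294801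
theorem L294805 : sm gf N34776 = N23862 := ded_48_1 (flp_i L202879) (flp_f L202861) L294801
theorem L294807 : sm gg N34776 = N34776 := ded_51_1 (flp_i L294801) L202863 L294801
theorem L294808 : sm gh N34776 = N23948 := ded_54_1 (flp_i L203590) (flp_h L140281) (flp_i L139742) L202857 L294801
theorem L294810 : sm gd N23860 = N34777 := rfl
theorem L294812 : sm ga N34777 = N23892 := ded_12_1 (flp_d L203140) (flp_a L202866) L294810
theorem L294819 : sm gi N23860 = N34778 := rfl
theorem L294821 : sm ga N34778 = N23893 := ded_18_1 (flp_i L203148) (flp_a L202866) L294819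
theorem L294823 : sm gg N34778 = N34778 := ded_51_1 (flp_i L294819) L202868 L294819
theorem L294824 : sm gj N34778 = N23862 := ded_53_1 (flp_i L202879) (flp_j L202869) L294819
theorem L294826 : sm gh N34778 = N23949 := ded_54_1 (flp_i L203598) (flp_h L140289) (flp_i L139751) L202864 L294819
theorem L294828 : sm gc N23861 = N34779 := rfl
theorem L294830 : sm ga N34779 = N23894 := ded_11_1 (flp_c L203156) (flp_a L202873) L294828
theorem L294844 : sm gi N23861 = N34781 := rfl
theorem L294846 : sm ga N34781 = N23896 := ded_18_1 (flp_i L203169) (flp_a L202873) L294844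
theorem L294848 : sm gd N34781 = N23862 := ded_39_1 (flp_i L202879) L202871 L294844
theorem L294868 : sm gi N23863 = N34784 := rfl
theorem L294870 : sm ga N34784 = N23899 := ded_18_1 (flp_i L203191) (flp_a L202889) L294868
theorem L294893 : sm gh N23866 = N34787 := rfl
theorem L294895 : sm ga N34787 = N23902 := ded_17_1 (flp_h L203212) (flp_a L202913) L294893
theorem L294914 : sm gc N23868 = N34789 := rfl
theorem L294922 : sm gd N34789 = N23881 := ded_27_2 (flp_c L203049) (flp_d L139892) (flp_c L139791) L202934 L294914
theorem L294924 : sm ge N23868 = N34790 := rfl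
theorem L294926 : sm ga N34790 = N23905 := ded_13_1 (flp_e L203239) (flp_a L202936) L294924
theorem L294931 : sm gc N23869 = N34791 := rfl
theorem L294933 : sm ga N34791 = N23906 := ded_11_1 (flp_c L203245) (flp_a L202944) L294931
theorem L294939 : sm gd N34791 = N23883 := ded_27_2 (flp_c L203067) (flp_d L139902) (flp_c L139802) L202942 L294931
theorem L294968 : sm gf N23871 = N34795 := rfl
theorem L294970 : sm ga N34795 = N23910 := ded_14_1 (flp_f L203278) (flp_a L202961) L294968
theorem L294972 : sm gd N34795 = N23876 := ded_35_1 (flp_f L203002) (flp_d L202966) L294968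
theorem L295067 : sm gb N23881 = N34806 := rfl
theorem L295069 : sm gf N34806 = N23884 := ded_22_2 (flp_b L203076) (flp_f L203053) L295067
theorem L295073 : sm gc N34806 = N27037 := ded_19_2 (flp_b L229065) (flp_c L157766) (flp_b L139896) L203049 L295067
theorem L295075 : sm ge N23881 = N34807 := rfl
theorem L295077 : sm ga N34807 = N23922 := ded_13_1 (flp_e L203372) (flp_a L203051) L295075
theorem L295103 : sm gg N23886 = N34810 := rfl
theorem L295107 : sm ge N34810 = N23888 := ded_41_1 (flp_g L203108) (flp_e L203098) L295103
theorem L295112 : sm gh N23886 = N34811 := rfl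
theorem L295114 : sm gb N34811 = N34811 := ded_25_1 (flp_h L295112) L203096 L295112
theorem L295115 : sm ge N34811 = N23889 := ded_43_1 (flp_h L203117) (flp_e L203098) L295112
theorem L295117 : sm gj N34811 = N23887 := ded_52_1 (flp_h L203102) L203094 L295112
theorem L295119 : sm gd N23887 = N34812 := rfl
theorem L295121 : sm gb N34812 = N34812 := ded_20_1 (flp_d L295119) L203104 L295119
theorem L295122 : sm gg N34812 = N34812 := ded_36_2 (flp_d L295119) L203107 L295119
theorem L295123 : sm gh N34812 = N34812 := ded_38_2 (flp_d L295119) (flp_h L203102) L139935 L203102 L295119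
theorem L295124 : sm gi N23887 = N34813 := rfl
theorem L295126 : sm gb N34813 = N34813 := ded_26_1 (flp_i L295124) L203104 L295124
theorem L295127 : sm ge N34813 = N23891 := ded_44_1 (flp_i L203132) (flp_e L203105) L295124
theorem L295129 : sm gg N34813 = N34813 := ded_51_1 (flp_i L295124) L203107 L295124
theorem L295130 : sm gh N34813 = N23953 := ded_54_1 (flp_i L203626) (flp_h L140320) (flp_i L139933) L203102 L295124
theorem L295139 : sm gd N23889 = N34815 := rfl
theorem L295142 : sm gf N34815 = N23892 := ded_35_2 (flp_d L203140) (flp_f L203120) L295139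
theorem L295144 : sm gj N34815 = N23890 := ded_37_2 (flp_d L203124) (flp_j L203122) L295139
theorem L295148 : sm gi N23889 = N34816 := rfl
theorem L295150 : sm gb N34816 = N34816 := ded_26_1 (flp_i L295148) L203119 L295148
theorem L295151 : sm gf N34816 = N23893 := ded_48_1 (flp_i L203148) (flp_f L203120) L295148
theorem L295153 : sm gj N34816 = N23891 := ded_53_1 (flp_i L203132) (flp_j L203122) L295148
theorem L295155 : sm gh N34816 = N23955 := ded_54_1 (flp_i L203640) (flp_h L140333) (flp_i L139943) L203117 L295148
theorem L295157 : sm gc N23890 = N34817 := rfl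
theorem L295159 : sm gf N34817 = N23894 := ded_29_2 (flp_c L203156) (flp_f L203127) L295157
theorem L295164 : sm ge N23890 = N34818 := rfl
theorem L295170 : sm gi N23890 = N34819 := rfl
theorem L295172 : sm gb N34819 = N34819 := ded_26_1 (flp_i L295170) L203126 L295170
theorem L295173 : sm gd N34819 = N23891 := ded_39_1 (flp_i L203132) L203124 L295170
theorem L295175 : sm gf N34819 = N23896 := ded_48_1 (flp_i L203169) (flp_f L203127) L295170
theorem L295177 : sm gg N34819 = N34819 := ded_51_1 (flp_i L295170) L203129 L295170
theorem L295178 : sm gh N34819 = N34819 := ded_54_1 (flp_i L295170) L203130 L140018 (flp_h L203130) L295170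
theorem L295179 : sm gc N23892 = N34820 := rfl
theorem L295182 : sm gj N34820 = N23894 := ded_31_2 (flp_c L203156) (flp_j L203144) L295179
theorem L295186 : sm ge N23892 = N34821 := rfl
theorem L295190 : sm gj N34821 = N23895 := ded_42_2 (flp_e L203162) (flp_j L203144) L295186
theorem L295194 : sm gi N23892 = N34822 := rfl
theorem L295196 : sm gb N34822 = N34822 := ded_26_1 (flp_i L295194) L203142 L295194
theorem L295197 : sm gd N34822 = N23893 := ded_39_1 (flp_i L203148) L203140 L295194
theorem L295199 : sm gg N34822 = N34822 := ded_51_1 (flp_i L295194) L203143 L295194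
theorem L295200 : sm gj N34822 = N23896 := ded_53_1 (flp_i L203169) (flp_j L203144) L295194
theorem L295202 : sm gh N34822 = N34822 := ded_54_1 (flp_i L295194) L203146 L140025 (flp_h L203146) L295194
theorem L295203 : sm gb N23894 = N34823 := rfl
theorem L295205 : sm gg N34823 = N23897 := ded_23_2 (flp_b L203177) (flp_g L203158) L295203
theorem L295210 : sm ge N23894 = N34824 := rfl
theorem L295212 : sm gc N34824 = N23895 := ded_28_1 (flp_e L203162) L203156 L295210
theorem L295218 : sm gi N23894 = N34825 := rfl
theorem L295220 : sm gc N34825 = N23896 := ded_33_1 (flp_i L203169) L203156 L295218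
theorem L295222 : sm gg N34825 = N23899 := ded_51_1 (flp_i L203191) (flp_g L203158) L295218
theorem L295224 : sm gh N34825 = N34825 := ded_54_1 (flp_i L295218) L203160 L140030 (flp_h L203160) L295218
theorem L295230 : sm gi N23895 = N34827 := rfl
theorem L295233 : sm ge N34827 = N23896 := ded_44_1 (flp_i L203169) L203162 L295230
theorem L295235 : sm gg N34827 = N23901 := ded_51_1 (flp_i L203205) (flp_g L203165) L295230
theorem L295238 : sm ga N23897 = N34828 := rfl
theorem L295243 : sm gh N34828 = N23911 := ded_17_2 (flp_a L203284) (flp_h L203181) L295238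
theorem L295245 : sm ge N23897 = N34829 := rfl
theorem L295247 : sm gb N34829 = N23898 := ded_21_1 (flp_e L203184) L203177 L295245
theorem L295253 : sm gi N23897 = N34830 := rfl
theorem L295255 : sm gb N34830 = N23899 := ded_26_1 (flp_i L203191) L203177 L295253
theorem L295257 : sm gc N34830 = N34830 := ded_33_1 (flp_i L295253) L203183 L295253
theorem L295258 : sm gf N34830 = N34830 := ded_48_1 (flp_i L295253) L203179 L295253
theorem L295259 : sm gj N34830 = N34830 := ded_53_1 (flp_i L295253) L203180 L295253
theorem L295260 : sm gh N34830 = N34830 := ded_54_1 (flp_i L295253) L203181 L140047 (flp_h L203181) L295253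
theorem L295273 : sm gi N23898 = N34833 := rfl
theorem L295275 : sm gc N34833 = N23901 := ded_33_1 (flp_i L203205) (flp_c L203186) L295273
theorem L295277 : sm ge N34833 = N23899 := ded_44_1 (flp_i L203191) L203184 L295273
theorem L295287 : sm gi N23900 = N34835 := rfl
theorem L295291 : sm gf N34835 = N23901 := ded_48_1 (flp_i L203205) L203198 L295287
theorem L295334 : sm gf N23905 = N34841 := rfl
theorem L295339 : sm ge N34841 = N23910 := ded_40_1 (flp_f L203278) (flp_e L140033) (flp_f L140015) L203239 L295334
theorem L295461 : sm gb N23919 = N34857 := rfl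
theorem L295463 : sm gf N34857 = N23923 := ded_22_2 (flp_b L203379) (flp_f L203350) L295461
theorem L295468 : sm gc N34857 = N23927 := ded_19_2 (flp_b L203415) (flp_c L140158) (flp_b L140105) L203348 L295461
theorem L295478 : sm ga N23921 = N34859 := rfl
theorem L295480 : sm gc N34859 = N23929 := ded_11_2 (flp_a L203433) (flp_c L203370) L295478
theorem L295482 : sm gf N34859 = N23924 := ded_14_2 (flp_a L203388) (flp_f L203366) L295478
theorem L295486 : sm ge N23921 = N34860 := rfl
theorem L295488 : sm gb N34860 = N23922 := ded_21_1 (flp_e L203372) L203364 L295486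
theorem L295490 : sm gc N34860 = N23930 := ded_28_1 (flp_e L203442) (flp_c L203370) L295486
theorem L295510 : sm gb N23925 = N34863 := rfl
theorem L295514 : sm gg N34863 = N23927 := ded_23_2 (flp_b L203415) (flp_g L203401) L295510
theorem L295537 : sm ga N23927 = N34866 := rfl
theorem L295542 : sm gj N34866 = N23929 := ded_16_2 (flp_a L203433) (flp_j L203420) L295537
theorem L295545 : sm gb N34866 = N27097 := ded_10_2 (flp_a L229536) (flp_b L158131) (flp_a L140160) L203415 L295537
theorem L295555 : sm gd N23928 = N34868 := rfl
theorem L295557 : sm ga N34868 = N27099 := ded_12_1 (flp_d L229552) (flp_a L203425) L295555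
theorem L295560 : sm gj N34868 = N23931 := ded_37_2 (flp_d L203449) (flp_j L203429) L295555
theorem L295574 : sm gd N23930 = N34870 := rfl
theorem L295576 : sm gb N34870 = N23931 := ded_20_1 (flp_d L203449) (flp_b L203444) L295574
theorem L295605 : sm gh N23933 = N34874 := rfl
theorem L295608 : sm gc N34874 = N23940 := ded_32_1 (flp_h L203522) (flp_c L203471) L295605
theorem L295610 : sm gf N34874 = N23935 := ded_47_1 (flp_h L203484) L203468 L295605
theorem L295613 : sm gh N23934 = N34875 := rfl
theorem L295616 : sm gc N34875 = N23941 := ded_32_1 (flp_h L203531) (flp_c L203479) L295613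
theorem L295619 : sm gj N34875 = N23935 := ded_52_1 (flp_h L203484) L203476 L295613
theorem L295621 : sm gd N23935 = N34876 := rfl
theorem L295624 : sm gg N34876 = N23936 := ded_36_2 (flp_d L203491) (flp_g L203489) L295621
theorem L295629 : sm gi N23935 = N34877 := rfl
theorem L295631 : sm ga N34877 = N34877 := ded_18_1 (flp_i L295629) L203486 L295629
theorem L295632 : sm gc N34877 = N23942 := ded_33_1 (flp_i L203540) (flp_c L203487) L295629
theorem L295634 : sm gg N34877 = N23937 := ded_51_1 (flp_i L203499) (flp_g L203489) L295629
theorem L295636 : sm ge N23936 = N34878 := rfl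
theorem L295643 : sm gi N23936 = N34879 := rfl
theorem L295645 : sm ga N34879 = N34879 := ded_18_1 (flp_i L295643) L203493 L295643
theorem L295647 : sm gd N34879 = N23937 := ded_39_1 (flp_i L203499) L203491 L295643
theorem L295659 : sm gh N23938 = N34881 := rfl
theorem L295664 : sm ge N34881 = N23940 := ded_43_1 (flp_h L203522) L203506 L295659
theorem L295676 : sm gh N23939 = N34883 := rfl
theorem L295679 : sm gb N34883 = N23947 := ded_25_1 (flp_h L203581) (flp_b L203516) L295676
theorem L295681 : sm gf N34883 = N23941 := ded_47_1 (flp_h L203531) (flp_f L203520) L295676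
theorem L295683 : sm gj N34883 = N23940 := ded_52_1 (flp_h L203522) L203513 L295676
theorem L295686 : sm gi N23940 = N34884 := rfl
theorem L295688 : sm ga N34884 = N34884 := ded_18_1 (flp_i L295686) L203524 L295686
theorem L295689 : sm gb N34884 = N23948 := ded_26_1 (flp_i L203590) (flp_b L203525) L295686
theorem L295691 : sm gd N34884 = N34884 := ded_39_1 (flp_i L295686) L203530 L295686
theorem L295692 : sm gf N34884 = N23942 := ded_48_1 (flp_i L203540) (flp_f L203527) L295686
theorem L295694 : sm gg N34884 = N34884 := ded_51_1 (flp_i L295686) L203529 L295686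
theorem L295695 : sm gi N23941 = N34885 := rfl
theorem L295697 : sm ga N34885 = N34885 := ded_18_1 (flp_i L295695) L203533 L295695
theorem L295698 : sm gb N34885 = N23949 := ded_26_1 (flp_i L203598) (flp_b L203534) L295695
theorem L295700 : sm gd N34885 = N34885 := ded_39_1 (flp_i L295695) L203539 L295695
theorem L295701 : sm gg N34885 = N34885 := ded_51_1 (flp_i L295695) L203536 L295695
theorem L295702 : sm gj N34885 = N23942 := ded_53_1 (flp_i L203540) (flp_j L203537) L295695
theorem L295712 : sm gh N23944 = N34887 := rfl
theorem L295714 : sm ga N34887 = N23951 := ded_17_1 (flp_h L203613) (flp_a L203561) L295712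
theorem L295716 : sm ge N34887 = N23947 := ded_43_1 (flp_h L203581) (flp_e L203564) L295712
theorem L295718 : sm gj N34887 = N23945 := ded_52_1 (flp_h L203566) L203559 L295712
theorem L295720 : sm gd N23945 = N34888 := rfl
theorem L295722 : sm ga N34888 = N23952 := ded_12_1 (flp_d L203620) (flp_a L203568) L295720
theorem L295724 : sm gg N34888 = N34888 := ded_36_2 (flp_d L295720) L203572 L295720
theorem L295725 : sm ge N34888 = N34888 := ded_34_2 (flp_d L295720) L203570 L140288 (flp_e L203570) L295720
theorem L295726 : sm gh N34888 = N34888 := ded_38_2 (flp_d L295720) (flp_h L203566) L140272 L203566 L295720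
theorem L295727 : sm gi N23945 = N34889 := rfl
theorem L295729 : sm ga N34889 = N23953 := ded_18_1 (flp_i L203626) (flp_a L203568) L295727
theorem L295731 : sm ge N34889 = N23948 := ded_44_1 (flp_i L203590) (flp_e L203570) L295727
theorem L295733 : sm gg N34889 = N34889 := ded_51_1 (flp_i L295727) L203572 L295727
theorem L295734 : sm gh N23946 = N34890 := rfl
theorem L295736 : sm ga N34890 = N23954 := ded_17_1 (flp_h L203632) (flp_a L203575) L295734
theorem L295739 : sm gg N34890 = N23947 := ded_50_1 (flp_h L203581) L203573 L295734
theorem L295743 : sm gi N23947 = N34891 := rfl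
theorem L295745 : sm ga N34891 = N23955 := ded_18_1 (flp_i L203640) (flp_a L203583) L295743
theorem L295747 : sm gd N34891 = N34891 := ded_39_1 (flp_i L295743) L203589 L295743
theorem L295748 : sm gf N34891 = N23949 := ded_48_1 (flp_i L203598) (flp_f L203585) L295743
theorem L295750 : sm gj N34891 = N23948 := ded_53_1 (flp_i L203590) (flp_j L203587) L295743
theorem L295758 : sm gh N23950 = N34893 := rfl
theorem L295761 : sm ge N34893 = N23954 := ded_43_1 (flp_h L203632) (flp_e L203610) L295758
theorem L295763 : sm gg N34893 = N23951 := ded_50_1 (flp_h L203613) L203606 L295758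
theorem L295766 : sm gd N23951 = N34894 := rfl
theorem L295768 : sm gb N34894 = N34894 := ded_20_1 (flp_d L295766) L203615 L295766
theorem L295769 : sm gj N34894 = N23952 := ded_37_2 (flp_d L203620) (flp_j L203618) L295766
theorem L295771 : sm ge N34894 = N34894 := ded_34_2 (flp_d L295766) L203616 L140340 (flp_e L203616) L295766
theorem L295772 : sm gh N34894 = N34894 := ded_38_2 (flp_d L295766) (flp_h L203613) L140317 L203613 L295766
theorem L295773 : sm gi N23951 = N34895 := rfl
theorem L295775 : sm gb N34895 = N34895 := ded_26_1 (flp_i L295773) L203615 L295773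
theorem L295776 : sm ge N34895 = N23955 := ded_44_1 (flp_i L203640) (flp_e L203616) L295773
theorem L295778 : sm gj N34895 = N23953 := ded_53_1 (flp_i L203626) (flp_j L203618) L295773
theorem L295780 : sm gc N23952 = N34896 := rfl
theorem L295782 : sm ge N34896 = N34896 := ded_28_2 (flp_c L295780) L203624 L295780
theorem L295783 : sm gg N34896 = N34896 := ded_30_2 (flp_c L295780) L203623 L295780
theorem L295784 : sm gh N34896 = N34896 := ded_32_2 (flp_c L295780) L203625 L295780
theorem L295785 : sm gi N23952 = N34897 := rfl
theorem L295787 : sm gb N34897 = N34897 := ded_26_1 (flp_i L295785) L203622 L295785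
theorem L295788 : sm gd N34897 = N23953 := ded_39_1 (flp_i L203626) L203620 L295785
theorem L295790 : sm ge N34897 = N34897 := ded_44_1 (flp_i L295785) L203624 L295785
theorem L295791 : sm gg N34897 = N34897 := ded_51_1 (flp_i L295785) L203623 L295785
theorem L295792 : sm gi N23954 = N34898 := rfl
theorem L295797 : sm gg N34898 = N23955 := ded_51_1 (flp_i L203640) (flp_g L203636) L295792
theorem L295819 : sm gf N23957 = N34901 := rfl
theorem L295822 : sm gb N34901 = N23975 := ded_22_1 (flp_f L203839) (flp_b L203662) L295819
theorem L295846 : sm gd N23958 = N34904 := rfl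
theorem L295855 : sm gh N34904 = N23962 := ded_38_2 (flp_d L203710) (flp_h L140375) L140355 L203667 L295846
theorem L295911 : sm gi N23961 = N34910 := rfl
theorem L295918 : sm ge N34910 = N23966 := ded_44_1 (flp_i L203753) (flp_e L203706) L295911
theorem L295923 : sm gc N23962 = N34911 := rfl
theorem L295928 : sm gj N34911 = N24082 := ded_31_2 (flp_c L204798) (flp_j L203717) L295923
theorem L295952 : sm gd N23964 = N34914 := rfl
theorem L295960 : sm gj N34914 = N23965 := ded_37_2 (flp_d L203745) (flp_j L203743) L295952
theorem L295962 : sm gi N23964 = N34915 := rfl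
theorem L295972 : sm gj N34915 = N23966 := ded_53_1 (flp_i L203753) (flp_j L203743) L295962
theorem L296000 : sm ge N23967 = N34919 := rfl
theorem L296005 : sm gj N34919 = N24090 := ded_42_2 (flp_e L204869) (flp_j L203769) L296000
theorem L296018 : sm gf N23968 = N34921 := rfl
theorem L296023 : sm gj N34921 = N24092 := ded_46_2 (flp_f L204883) (flp_j L203778) L296018
theorem L296025 : sm ge N34921 = N23972 := ded_40_1 (flp_f L203809) (flp_e L140438) (flp_f L140414) L203773 L296018
theorem L296110 : sm ge N23975 = N34931 := rfl
theorem L296112 : sm ga N34931 = N24008 := ded_13_1 (flp_e L204159) (flp_a L203841) L296110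
theorem L296183 : sm gi N23978 = N34939 := rfl
theorem L296185 : sm ga N34939 = N24016 := ded_18_1 (flp_i L204223) (flp_a L203868) L296183
theorem L296246 : sm gc N23983 = N34945 := rfl
theorem L296250 : sm gg N34945 = N23985 := ded_30_2 (flp_c L203937) (flp_g L203924) L296246
theorem L296252 : sm gd N34945 = N24003 := ded_27_2 (flp_c L204111) (flp_d L140633) (flp_c L140500) L203920 L296246
theorem L296254 : sm ge N23983 = N34946 := rfl
theorem L296256 : sm ga N34946 = N24023 := ded_13_1 (flp_e L204286) (flp_a L203922) L296254
theorem L296367 : sm gg N23992 = N34959 := rfl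
theorem L296369 : sm ga N34959 = N24036 := ded_15_1 (flp_g L204386) (flp_a L204003) L296367
theorem L296409 : sm gh N23996 = N34964 := rfl
theorem L296415 : sm gj N34964 = N24129 := ded_52_1 (flp_h L205178) (flp_j L204041) L296409
theorem L296439 : sm gi N23998 = N34967 := rfl
theorem L296449 : sm gj N34967 = N24000 := ded_53_1 (flp_i L204075) (flp_j L204062) L296439
theorem L296452 : sm gc N23999 = N34968 := rfl
theorem L296454 : sm ga N34968 = N24045 := ded_11_1 (flp_c L204460) (flp_a L204066) L296452
theorem L296456 : sm gf N34968 = N24003 := ded_29_2 (flp_c L204111) (flp_f L204070) L296452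
theorem L296578 : sm gh N24009 = N34981 := rfl
theorem L296585 : sm gj N34981 = N24010 := ded_52_1 (flp_h L204177) L204167 L296578
theorem L296596 : sm gi N24010 = N34983 := rfl
theorem L296600 : sm gf N34983 = N24013 := ded_48_1 (flp_i L204200) (flp_f L204181) L296596
theorem L296602 : sm gg N34983 = N24322 := ded_51_1 (flp_i L206771) (flp_g L204183) L296596
theorem L296614 : sm gi N24011 = N34985 := rfl
theorem L296618 : sm gg N34985 = N24140 := ded_51_1 (flp_i L205274) (flp_g L204189) L296614
theorem L296620 : sm gj N34985 = N24013 := ded_53_1 (flp_i L204200) (flp_j L204191) L296614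
theorem L296630 : sm ge N24012 = N34987 := rfl
theorem L296633 : sm gg N34987 = N24015 := ded_41_2 (flp_e L204216) (flp_g L204196) L296630
theorem L296637 : sm gi N24012 = N34988 := rfl
theorem L296640 : sm gd N34988 = N24013 := ded_39_1 (flp_i L204200) L204193 L296637
theorem L296642 : sm gg N34988 = N24016 := ded_51_1 (flp_i L204223) (flp_g L204196) L296637
theorem L296654 : sm ge N24014 = N34990 := rfl
theorem L296656 : sm gc N34990 = N24015 := ded_28_1 (flp_e L204216) L204207 L296654
theorem L296658 : sm gj N34990 = N24145 := ded_42_2 (flp_e L205313) (flp_j L204211) L296654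
theorem L296662 : sm gi N24014 = N34991 := rfl
theorem L296664 : sm gc N34991 = N24016 := ded_33_1 (flp_i L204223) L204207 L296662
theorem L296667 : sm gf N34991 = N24328 := ded_48_1 (flp_i L206820) (flp_f L204209) L296662
theorem L296669 : sm gj N34991 = N24146 := ded_53_1 (flp_i L205319) (flp_j L204211) L296662
theorem L296671 : sm gf N24015 = N34992 := rfl
theorem L296673 : sm gb N34992 = N34992 := ded_22_1 (flp_f L296671) L204218 L296671
theorem L296674 : sm gj N34992 = N24147 := ded_46_2 (flp_f L205326) (flp_j L204219) L296671
theorem L296676 : sm gh N34992 = N24028 := ded_47_2 (flp_f L204325) (flp_h L204221) L296671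
theorem L296678 : sm ge N34992 = N24329 := ded_40_1 (flp_f L206827) (flp_e L142590) (flp_f L140713) L204216 L296671
theorem L296680 : sm gi N24015 = N34993 := rfl
theorem L296682 : sm gb N34993 = N34993 := ded_26_1 (flp_i L296680) L204218 L296680
theorem L296683 : sm ge N34993 = N24016 := ded_44_1 (flp_i L204223) L204216 L296680
theorem L296685 : sm gj N34993 = N24148 := ded_53_1 (flp_i L205333) (flp_j L204219) L296680
theorem L296687 : sm gh N24016 = N34994 := rfl
theorem L296690 : sm gf N34994 = N24331 := ded_47_1 (flp_h L206843) (flp_f L204228) L296687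
theorem L296695 : sm gi N34994 = N24030 := ded_54_2 (flp_h L204343) (flp_i L140789) (flp_h L140717) L204223 L296687
theorem L296705 : sm gi N24017 = N34996 := rfl
theorem L296711 : sm gf N34996 = N24021 := ded_48_1 (flp_i L204268) (flp_f L204238) L296705
theorem L296714 : sm gj N34996 = N24019 := ded_53_1 (flp_i L204250) (flp_j L204241) L296705
theorem L296740 : sm gc N24020 = N35000 := rfl
theorem L296742 : sm gg N35000 = N24150 := ded_30_2 (flp_c L205346) (flp_g L204264) L296740
theorem L296744 : sm gj N35000 = N24022 := ded_31_2 (flp_c L204280) (flp_j L204266) L296740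
theorem L296787 : sm gf N24023 = N35006 := rfl
theorem L296790 : sm gd N35006 = N24033 := ded_35_1 (flp_f L204368) (flp_d L204291) L296787
theorem L296801 : sm gh N24024 = N35008 := rfl
theorem L296804 : sm gg N35008 = N24030 := ded_50_1 (flp_h L204343) (flp_g L204298) L296801
theorem L296834 : sm gf N24026 = N35012 := rfl
theorem L296836 : sm gc N35012 = N24028 := ded_29_1 (flp_f L204325) (flp_c L204311) L296834
theorem L296840 : sm ge N35012 = N24344 := ded_40_1 (flp_f L206943) (flp_e L142651) (flp_f L140776) L204309 L296834
theorem L296858 : sm gg N24028 = N35015 := rfl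
theorem L296861 : sm gd N35015 = N24036 := ded_36_1 (flp_g L204386) (flp_d L204328) L296858
theorem L296863 : sm ge N35015 = N24347 := ded_41_1 (flp_g L206965) (flp_e L204332) L296858
theorem L296865 : sm gi N24028 = N35016 := rfl
theorem L296872 : sm gf N35016 = N24029 := ded_48_1 (flp_i L204334) L204325 L296865
theorem L296883 : sm gf N24031 = N35018 := rfl
theorem L296886 : sm gj N35018 = N24033 := ded_46_2 (flp_f L204368) (flp_j L204356) L296883
theorem L296907 : sm gg N24033 = N35021 := rfl
theorem L296909 : sm gb N35021 = N35021 := ded_23_1 (flp_g L296907) L204370 L296907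
theorem L296910 : sm ge N35021 = N35021 := ded_41_1 (flp_g L296907) L204371 L296907
theorem L296911 : sm gf N35021 = N24036 := ded_45_1 (flp_g L204386) (flp_f L140830) (flp_g L140820) L204368 L296907
theorem L296913 : sm gi N24033 = N35022 := rfl
theorem L296917 : sm gf N35022 = N24034 := ded_48_1 (flp_i L204372) L204368 L296913
theorem L296919 : sm gh N24034 = N35023 := rfl
theorem L296922 : sm ge N35023 = N24035 := ded_43_1 (flp_h L204379) (flp_e L204375) L296919
theorem L296926 : sm gj N24036 = N35024 := rfl
theorem L296929 : sm ge N35024 = N24039 := ded_42_1 (flp_j L204407) (flp_e L204389) L296926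
theorem L296931 : sm gg N35024 = N24174 := ded_49_1 (flp_j L205516) (flp_g L141632) (flp_j L140833) L204386 L296926
theorem L296933 : sm gi N24036 = N35025 := rfl
theorem L296938 : sm gg N35025 = N24037 := ded_51_1 (flp_i L204391) L204386 L296933
theorem L296940 : sm gh N24037 = N35026 := rfl
theorem L296947 : sm gj N35026 = N24176 := ded_52_1 (flp_h L205528) (flp_j L204398) L296940
theorem L296980 : sm gc N24042 = N35031 := rfl
theorem L296984 : sm gj N35031 = N24181 := ded_31_2 (flp_c L205562) (flp_j L204434) L296980
theorem L296986 : sm gh N35031 = N24360 := ded_32_2 (flp_c L207072) (flp_h L204437) L296980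
theorem L297059 : sm gb N24048 = N35040 := rfl
theorem L297061 : sm gg N35040 = N24182 := ded_23_2 (flp_b L205569) (flp_g L204487) L297059
theorem L297063 : sm gj N35040 = N24050 := ded_24_2 (flp_b L204502) (flp_j L204489) L297059
theorem L297093 : sm gi N24050 = N35044 := rfl
theorem L297097 : sm gc N35044 = N24068 := ded_33_1 (flp_i L204666) (flp_c L204507) L297093
theorem L297178 : sm gh N24058 = N35053 := rfl
theorem L297185 : sm gj N35053 = N24063 := ded_52_1 (flp_h L204619) (flp_j L204580) L297178
theorem L297206 : sm gi N24059 = N35056 := rfl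
theorem L297211 : sm gf N35056 = N24068 := ded_48_1 (flp_i L204666) (flp_f L204585) L297206
theorem L297213 : sm gg N35056 = N24374 := ded_51_1 (flp_i L207189) (flp_g L204587) L297206
theorem L297292 : sm gh N24068 = N35065 := rfl
theorem L297296 : sm gg N35065 = N24071 := ded_50_1 (flp_h L204693) (flp_g L204671) L297292
theorem L297299 : sm gd N24069 = N35066 := rfl
theorem L297303 : sm gg N35066 = N24072 := ded_36_2 (flp_d L204702) (flp_g L204679) L297299
theorem L297365 : sm gi N24074 = N35073 := rfl
theorem L297369 : sm gc N35073 = N24078 := ded_33_1 (flp_i L204757) (flp_c L204727) L297365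
theorem L297371 : sm gf N35073 = N24386 := ded_48_1 (flp_i L207299) (flp_f L204729) L297365
theorem L297432 : sm gi N24079 = N35081 := rfl
theorem L297442 : sm gj N35081 = N24081 := ded_53_1 (flp_i L204785) (flp_j L204775) L297432
theorem L297445 : sm gc N24080 = N35082 := rfl
theorem L297449 : sm gg N35082 = N24082 := ded_30_2 (flp_c L204798) (flp_g L204783) L297445
theorem L297451 : sm gd N35082 = N27313 := ded_27_2 (flp_c L231420) (flp_d L159460) (flp_c L141128) L204777 L297445
theorem L297536 : sm gi N24085 = N35093 := rfl
theorem L297539 : sm gb N35093 = N24120 := ded_26_1 (flp_i L205107) (flp_b L204824) L297536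
theorem L297543 : sm gf N35093 = N24202 := ded_48_1 (flp_i L205737) (flp_f L204826) L297536
theorem L297735 : sm gd N24102 = N35117 := rfl
theorem L297737 : sm ga N35117 = N24139 := ded_12_1 (flp_d L205266) (flp_a L204964) L297735
theorem L297740 : sm gj N35117 = N24103 := ded_37_2 (flp_d L204970) (flp_j L204968) L297735
theorem L297742 : sm gh N35117 = N24108 := ded_38_2 (flp_d L205011) (flp_h L141282) (flp_d L141254) L204962 L297735
theorem L297753 : sm gc N24103 = N35119 := rfl
theorem L297755 : sm ga N35119 = N24141 := ded_11_1 (flp_c L205282) (flp_a L204972) L297753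
theorem L297763 : sm ge N24103 = N35120 := rfl
theorem L297765 : sm ga N35120 = N24142 := ded_13_1 (flp_e L205290) (flp_a L204972) L297763
theorem L297771 : sm gi N24103 = N35121 := rfl
theorem L297773 : sm ga N35121 = N24143 := ded_18_1 (flp_i L205297) (flp_a L204972) L297771
theorem L297778 : sm gg N35121 = N24107 := ded_51_1 (flp_i L205003) (flp_g L204975) L297771
theorem L297780 : sm gb N24105 = N35122 := rfl
theorem L297783 : sm gf N35122 = N24414 := ded_22_2 (flp_b L207535) (flp_f L204992) L297780
theorem L297785 : sm gh N35122 = N24113 := ded_25_2 (flp_b L205056) (flp_h L204994) L297780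
theorem L297812 : sm gi N24106 = N35126 := rfl
theorem L297814 : sm ga N35126 = N24148 := ded_18_1 (flp_i L205333) (flp_a L204999) L297812
theorem L297818 : sm gh N24107 = N35127 := rfl
theorem L297825 : sm gi N35127 = N24118 := ded_54_2 (flp_h L205094) (flp_i L141326) (flp_h L141272) L205003 L297818
theorem L297844 : sm gi N24108 = N35130 := rfl
theorem L297846 : sm ga N35130 = N24152 := ded_18_1 (flp_i L205360) (flp_a L205013) L297844
theorem L297853 : sm gb N24110 = N35131 := rfl
theorem L297855 : sm gd N35131 = N24133 := ded_20_2 (flp_b L205212) (flp_d L205037) L297853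
theorem L297858 : sm gg N35131 = N24113 := ded_23_2 (flp_b L205056) (flp_g L205035) L297853
theorem L297879 : sm gf N24111 = N35134 := rfl
theorem L297881 : sm ga N35134 = N24156 := ded_14_1 (flp_f L205391) (flp_a L205041) L297879
theorem L297924 : sm gf N24114 = N35140 := rfl
theorem L297926 : sm ga N35140 = N24162 := ded_14_1 (flp_f L205434) (flp_a L205064) L297924
theorem L297928 : sm gc N35140 = N24116 := ded_29_1 (flp_f L205078) (flp_c L205066) L297924
theorem L297948 : sm gg N24116 = N35143 := rfl
theorem L297950 : sm ga N35143 = N24165 := ded_15_1 (flp_g L205452) (flp_a L205080) L297948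
theorem L297954 : sm ge N35143 = N24426 := ded_41_1 (flp_g L207625) (flp_e L205084) L297948
theorem L297972 : sm gf N24119 = N35146 := rfl
theorem L297974 : sm ga N35146 = N24168 := ded_14_1 (flp_f L205473) (flp_a L205103) L297972
theorem L297997 : sm gg N24121 = N35149 := rfl
theorem L297999 : sm ga N35149 = N24171 := ded_15_1 (flp_g L205495) (flp_a L205119) L297997
theorem L298021 : sm gj N24124 = N35152 := rfl
theorem L298023 : sm ga N35152 = N24174 := ded_16_1 (flp_j L205516) (flp_a L205142) L298021
theorem L298048 : sm gi N24127 = N35156 := rfl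
theorem L298050 : sm ga N35156 = N24178 := ded_18_1 (flp_i L205539) (flp_a L205162) L298048
theorem L298054 : sm gf N35156 = N24236 := ded_48_1 (flp_i L206013) (flp_f L205166) L298048
theorem L298056 : sm gj N35156 = N24128 := ded_53_1 (flp_i L205168) L205160 L298048
theorem L298121 : sm gi N24133 = N35164 := rfl
theorem L298128 : sm gg N35164 = N24137 := ded_51_1 (flp_i L205249) (flp_g L205215) L298121
theorem L298182 : sm gi N24139 = N35171 := rfl
theorem L298185 : sm gd N35171 = N24140 := ded_39_1 (flp_i L205274) L205266 L298182
theorem L298188 : sm gj N35171 = N24143 := ded_53_1 (flp_i L205297) (flp_j L205270) L298182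
theorem L298199 : sm ge N24141 = N35173 := rfl
theorem L298203 : sm gg N35173 = N24145 := ded_41_2 (flp_e L205313) (flp_g L205285) L298199
theorem L298207 : sm gi N24141 = N35174 := rfl
theorem L298209 : sm gc N35174 = N24143 := ded_33_1 (flp_i L205297) L205282 L298207
theorem L298213 : sm gg N35174 = N24146 := ded_51_1 (flp_i L205319) (flp_g L205285) L298207
theorem L298215 : sm gf N24142 = N35175 := rfl
theorem L298217 : sm gb N35175 = N35175 := ded_22_1 (flp_f L298215) L205292 L298215
theorem L298218 : sm gh N35175 = N24156 := ded_47_2 (flp_f L205391) (flp_h L205295) L298215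
theorem L298220 : sm ge N35175 = N35175 := ded_40_1 (flp_f L298215) (flp_e L205290) L141488 L205290 L298215
theorem L298221 : sm gi N24142 = N35176 := rfl
theorem L298223 : sm gb N35176 = N35176 := ded_26_1 (flp_i L298221) L205292 L298221
theorem L298224 : sm ge N35176 = N24143 := ded_44_1 (flp_i L205297) L205290 L298221
theorem L298226 : sm gg N35176 = N24148 := ded_51_1 (flp_i L205333) (flp_g L205293) L298221
theorem L298245 : sm ge N24144 = N35179 := rfl
theorem L298247 : sm gb N35179 = N24145 := ded_21_1 (flp_e L205313) L205305 L298245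
theorem L298252 : sm gi N24144 = N35180 := rfl
theorem L298254 : sm gb N35180 = N24146 := ded_26_1 (flp_i L205319) L205305 L298252
theorem L298258 : sm gf N35180 = N24442 := ded_48_1 (flp_i L207759) (flp_f L205308) L298252
theorem L298260 : sm gd N24145 = N35181 := rfl
theorem L298262 : sm ge N35181 = N35181 := ded_34_2 (flp_d L298260) (flp_e L205313) L141507 L205313 L298260
theorem L298263 : sm gf N24145 = N35182 := rfl
theorem L298265 : sm gc N35182 = N24147 := ded_29_1 (flp_f L205326) (flp_c L205315) L298263
theorem L298271 : sm gi N24145 = N35183 := rfl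
theorem L298273 : sm gc N35183 = N24148 := ded_33_1 (flp_i L205333) (flp_c L205315) L298271
theorem L298277 : sm gh N24146 = N35184 := rfl
theorem L298281 : sm gf N35184 = N24446 := ded_47_1 (flp_h L207785) (flp_f L205324) L298277
theorem L298285 : sm gg N24147 = N35185 := rfl
theorem L298287 : sm gb N35185 = N35185 := ded_23_1 (flp_g L298285) L205328 L298285
theorem L298288 : sm ge N35185 = N24447 := ded_41_1 (flp_g L207792) (flp_e L205331) L298285
theorem L298290 : sm gh N35185 = N24165 := ded_50_2 (flp_g L205452) (flp_h L205329) L298285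
theorem L298292 : sm gi N24147 = N35186 := rfl
theorem L298295 : sm ge N35186 = N24448 := ded_44_1 (flp_i L207799) (flp_e L205331) L298292
theorem L298297 : sm gf N35186 = N24148 := ded_48_1 (flp_i L205333) L205326 L298292
theorem L298299 : sm gh N24148 = N35187 := rfl
theorem L298304 : sm gi N35187 = N24167 := ded_54_2 (flp_h L205468) (flp_i L141585) (flp_h L141511) L205333 L298299
theorem L298329 : sm gf N24151 = N35191 := rfl
theorem L298332 : sm gd N35191 = N24168 := ded_35_1 (flp_f L205473) (flp_d L205358) L298329
theorem L298346 : sm gh N24152 = N35193 := rfl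
theorem L298350 : sm gj N35193 = N24158 := ded_52_1 (flp_h L205406) (flp_j L205366) L298346
theorem L298378 : sm gf N24154 = N35197 := rfl
theorem L298380 : sm gc N35197 = N24156 := ded_29_1 (flp_f L205391) (flp_c L205378) L298378
theorem L298391 : sm gh N24155 = N35199 := rfl
theorem L298393 : sm gc N35199 = N24158 := ded_32_1 (flp_h L205406) (flp_c L205384) L298391
theorem L298398 : sm gg N24156 = N35200 := rfl
theorem L298400 : sm gb N35200 = N35200 := ded_23_1 (flp_g L298398) L205393 L298398
theorem L298401 : sm gd N35200 = N24171 := ded_36_1 (flp_g L205495) (flp_d L205394) L298398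
theorem L298403 : sm ge N35200 = N35200 := ded_41_1 (flp_g L298398) L205396 L298398
theorem L298404 : sm gf N35200 = N24165 := ded_45_1 (flp_g L205452) (flp_f L141578) (flp_g L141547) L205391 L298398
theorem L298406 : sm gi N24156 = N35201 := rfl
theorem L298409 : sm gd N35201 = N24172 := ded_39_1 (flp_i L205502) (flp_d L205394) L298406
theorem L298412 : sm gf N35201 = N24157 := ded_48_1 (flp_i L205397) L205391 L298406
theorem L298426 : sm gi N24159 = N35204 := rfl
theorem L298433 : sm gf N35204 = N24451 := ded_48_1 (flp_i L207820) (flp_f L205418) L298426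
theorem L298483 : sm gj N24165 = N35212 := rfl
theorem L298486 : sm gd N35212 = N24174 := ded_37_1 (flp_j L205516) (flp_d L205455) L298483
theorem L298488 : sm ge N35212 = N24459 := ded_42_1 (flp_j L207875) (flp_e L205457) L298483
theorem L298512 : sm gg N24168 = N35216 := rfl
theorem L298514 : sm gb N35216 = N35216 := ded_23_1 (flp_g L298512) L205475 L298512
theorem L298515 : sm ge N35216 = N24240 := ded_41_1 (flp_g L206045) (flp_e L205478) L298512
theorem L298517 : sm gi N24168 = N35217 := rfl
theorem L298524 : sm gj N35217 = N24172 := ded_53_1 (flp_i L205502) (flp_j L205476) L298517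
theorem L298533 : sm gj N24171 = N35219 := rfl
theorem L298535 : sm gb N35219 = N35219 := ded_24_1 (flp_j L298533) L205497 L298533
theorem L298536 : sm ge N35219 = N24243 := ded_42_1 (flp_j L206066) (flp_e L205498) L298533
theorem L298538 : sm gf N35219 = N24174 := ded_46_1 (flp_j L205516) (flp_f L205500) L298533
theorem L298540 : sm gi N24171 = N35220 := rfl
theorem L298543 : sm ge N35220 = N24244 := ded_44_1 (flp_i L206072) (flp_e L205498) L298540
theorem L298600 : sm gc N24180 = N35229 := rfl
theorem L298602 : sm gf N35229 = N24181 := ded_29_2 (flp_c L205562) (flp_f L205558) L298600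
theorem L298604 : sm gh N35229 = N24469 := ded_32_2 (flp_c L207949) (flp_h L205560) L298600
theorem L298612 : sm gb N24181 = N35231 := rfl
theorem L298615 : sm gg N35231 = N24255 := ded_23_2 (flp_b L206147) (flp_g L205565) L298612
theorem L298617 : sm gh N35231 = N24471 := ded_25_2 (flp_b L207960) (flp_h L205567) L298612
theorem L298701 : sm gh N24192 = N35242 := rfl
theorem L298706 : sm gj N35242 = N24195 := ded_52_1 (flp_h L205678) (flp_j L205656) L298701
theorem L298825 : sm gd N24203 = N35256 := rfl
theorem L298831 : sm ge N35256 = N27487 := ded_34_2 (flp_d L232808) (flp_e L160431) (flp_d L141842) L205747 L298825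
theorem L298838 : sm gi N24203 = N35258 := rfl
theorem L298845 : sm gg N35258 = N24210 := ded_51_1 (flp_i L205802) (flp_g L205752) L298838
theorem L298919 : sm gh N24210 = N35268 := rfl
theorem L298924 : sm ge N35268 = N24211 := ded_43_1 (flp_h L205810) (flp_e L205807) L298919
theorem L298945 : sm gi N24212 = N35271 := rfl
theorem L298953 : sm gg N35271 = N24213 := ded_51_1 (flp_i L205826) L205818 L298945
theorem L299088 : sm gg N24226 = N35289 := rfl
theorem L299090 : sm ga N35289 = N24240 := ded_15_1 (flp_g L206045) (flp_a L205935) L299088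
theorem L299112 : sm gj N24229 = N35292 := rfl
theorem L299114 : sm ga N35292 = N24243 := ded_16_1 (flp_j L206066) (flp_a L205960) L299112
theorem L299199 : sm ge N24238 = N35303 := rfl
theorem L299201 : sm ga N35303 = N24254 := ded_13_1 (flp_e L206140) (flp_a L206030) L299199
theorem L299204 : sm gh N35303 = N24497 := ded_43_2 (flp_e L208169) (flp_h L206035) L299199
theorem L299213 : sm gj N24240 = N35305 := rfl
theorem L299215 : sm gb N35305 = N35305 := ded_24_1 (flp_j L299213) L206047 L299213
theorem L299216 : sm gd N35305 = N35305 := ded_37_1 (flp_j L299213) L206048 L299213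
theorem L299217 : sm gf N35305 = N35305 := ded_46_1 (flp_j L299213) L206049 L299213
theorem L299218 : sm gg N35305 = N24243 := ded_49_1 (flp_j L206066) (flp_g L142071) (flp_j L142053) L206045 L299213
theorem L299220 : sm gi N24240 = N35306 := rfl
theorem L299227 : sm gh N24241 = N35307 := rfl
theorem L299230 : sm gf N35307 = N24242 := ded_47_1 (flp_h L206058) (flp_f L206054) L299227
theorem L299232 : sm gj N35307 = N24245 := ded_52_1 (flp_h L206080) (flp_j L206056) L299227
theorem L299242 : sm gi N24243 = N35309 := rfl
theorem L299248 : sm gj N35309 = N24244 := ded_53_1 (flp_i L206072) L206066 L299242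
theorem L299250 : sm gh N24244 = N35310 := rfl
theorem L299255 : sm gg N35310 = N24245 := ded_50_1 (flp_h L206080) (flp_g L206078) L299250
theorem L299283 : sm gc N24249 = N35315 := rfl
theorem L299289 : sm ge N24249 = N35316 := rfl
theorem L299294 : sm gd N35316 = N24254 := ded_34_1 (flp_e L206140) (flp_d L142132) (flp_e L142108) L206108 L299289
theorem L299317 : sm ge N24252 = N35320 := rfl
theorem L299320 : sm gg N35320 = N24254 := ded_41_2 (flp_e L206140) (flp_g L206129) L299317
theorem L299322 : sm gh N35320 = N24501 := ded_43_2 (flp_e L208196) (flp_h L206131) L299317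
theorem L299347 : sm gf N24256 = N35324 := rfl
theorem L299351 : sm gc N35324 = N24258 := ded_29_1 (flp_f L206174) (flp_c L206158) L299347
theorem L299353 : sm gd N35324 = N27555 := ded_35_1 (flp_f L233364) (flp_d L206160) L299347
theorem L299357 : sm gh N24256 = N35325 := rfl
theorem L299361 : sm gc N35325 = N24259 := ded_32_1 (flp_h L206183) (flp_c L206158) L299357
theorem L299364 : sm gg N35325 = N24257 := ded_50_1 (flp_h L206165) L206154 L299357
theorem L299375 : sm gi N24257 = N35327 := rfl
theorem L299379 : sm gc N35327 = N24261 := ded_33_1 (flp_i L206201) (flp_c L206169) L299375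
theorem L299382 : sm gj N35327 = N24386 := ded_53_1 (flp_i L207299) (flp_j L206172) L299375
theorem L299412 : sm gi N24259 = N35331 := rfl
theorem L299415 : sm gb N35331 = N24286 := ded_26_1 (flp_i L206441) (flp_b L206186) L299412
theorem L299529 : sm gi N24266 = N35344 := rfl
theorem L299534 : sm gd N35344 = N24274 := ded_39_1 (flp_i L206329) (flp_d L206256) L299529
theorem L299538 : sm gj N35344 = N24394 := ded_53_1 (flp_i L207359) (flp_j L206254) L299529
theorem L299540 : sm gh N24267 = N35345 := rfl
theorem L299543 : sm gb N35345 = N24300 := ded_25_1 (flp_h L206565) (flp_b L206261) L299540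
theorem L299545 : sm gj N35345 = N24395 := ded_52_1 (flp_h L207369) (flp_j L206265) L299540
theorem L299599 : sm gd N24271 = N35351 := rfl
theorem L299603 : sm gj N35351 = N24396 := ded_37_2 (flp_d L207376) (flp_j L206304) L299599
theorem L299605 : sm ge N35351 = N27582 := ded_34_2 (flp_d L233610) (flp_e L161005) (flp_d L142246) L206298 L299599
theorem L299628 : sm gh N24272 = N35354 := rfl
theorem L299634 : sm gf N35354 = N24279 := ded_47_1 (flp_h L206378) (flp_f L206315) L299628
theorem L299639 : sm gg N24273 = N35355 := rfl
theorem L299642 : sm gb N35355 = N24304 := ded_23_1 (flp_g L206601) (flp_b L206322) L299639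
theorem L299644 : sm ge N35355 = N24280 := ded_41_1 (flp_g L206388) (flp_e L206327) L299639
theorem L299658 : sm gh N24274 = N35357 := rfl
theorem L299665 : sm gj N35357 = N24402 := ded_52_1 (flp_h L207429) (flp_j L206336) L299658
theorem L299668 : sm gf N24276 = N35358 := rfl
theorem L299672 : sm gd N35358 = N24277 := ded_35_1 (flp_f L206358) L206349 L299668
theorem L299686 : sm gi N24276 = N35360 := rfl
theorem L299695 : sm gj N35360 = N24405 := ded_53_1 (flp_i L207453) (flp_j L206354) L299686
theorem L299738 : sm gj N24280 = N35365 := rfl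
theorem L299745 : sm gg N35365 = N24410 := ded_49_1 (flp_j L207501) (flp_g L143073) (flp_j L142293) L206388 L299738
theorem L299755 : sm gh N24281 = N35367 := rfl
theorem L299760 : sm gf N35367 = N24282 := ded_47_1 (flp_h L206404) (flp_f L206400) L299755
theorem L299762 : sm gj N35367 = N24412 := ded_52_1 (flp_h L207518) (flp_j L206402) L299755
theorem L299802 : sm gc N24285 = N35372 := rfl
theorem L299804 : sm ga N35372 = N24323 := ded_11_1 (flp_c L206779) (flp_a L206434) L299802
theorem L299812 : sm ge N24285 = N35373 := rfl
theorem L299814 : sm ga N35373 = N24324 := ded_13_1 (flp_e L206787) (flp_a L206434) L299812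
theorem L299822 : sm gi N24285 = N35374 := rfl
theorem L299824 : sm ga N35374 = N24325 := ded_18_1 (flp_i L206796) (flp_a L206434) L299822
theorem L299826 : sm gd N35374 = N24286 := ded_39_1 (flp_i L206441) L206432 L299822
theorem L299828 : sm gg N35374 = N24289 := ded_51_1 (flp_i L206469) (flp_g L206436) L299822
theorem L299838 : sm ge N24287 = N35376 := rfl
theorem L299840 : sm ga N35376 = N24327 := ded_13_1 (flp_e L206812) (flp_a L206453) L299838
theorem L299848 : sm gi N24287 = N35377 := rfl
theorem L299855 : sm gj N35377 = N24416 := ded_53_1 (flp_i L207550) (flp_j L206455) L299848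
theorem L299893 : sm ge N24290 = N35382 := rfl
theorem L299895 : sm ga N35382 = N24333 := ded_13_1 (flp_e L206858) (flp_a L206479) L299893
theorem L299915 : sm ge N24292 = N35385 := rfl
theorem L299917 : sm ga N35385 = N24336 := ded_13_1 (flp_e L206879) (flp_a L206497) L299915
theorem L299921 : sm gg N35385 = N24296 := ded_41_2 (flp_e L206528) (flp_g L206499) L299915
theorem L299977 : sm gi N24295 = N35392 := rfl
theorem L299981 : sm gd N35392 = N24318 := ded_39_1 (flp_i L206736) (flp_d L206524) L299977
theorem L299983 : sm gj N35392 = N24422 := ded_53_1 (flp_i L207594) (flp_j L206526) L299977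
theorem L299994 : sm gi N24296 = N35394 := rfl
theorem L300003 : sm gj N35394 = N24424 := ded_53_1 (flp_i L207608) (flp_j L206534) L299994
theorem L300013 : sm gg N24298 = N35396 := rfl
theorem L300015 : sm ga N35396 = N24347 := ded_15_1 (flp_g L206965) (flp_a L206549) L300013
theorem L300019 : sm gi N24298 = N35397 := rfl
theorem L300023 : sm gd N35397 = N24305 := ded_39_1 (flp_i L206609) (flp_d L206551) L300019
theorem L300037 : sm gg N24301 = N35399 := rfl
theorem L300039 : sm ga N35399 = N24350 := ded_15_1 (flp_g L206986) (flp_a L206574) L300037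
theorem L300085 : sm gh N24305 = N35404 := rfl
theorem L300094 : sm gj N35404 = N24431 := ded_52_1 (flp_h L207666) (flp_j L206618) L300085
theorem L300133 : sm gc N24310 = N35409 := rfl
theorem L300135 : sm ga N35409 = N24360 := ded_11_1 (flp_c L207072) (flp_a L206659) L300133
theorem L300223 : sm gi N24317 = N35418 := rfl
theorem L300225 : sm ga N35418 = N24318 := ded_18_1 (flp_i L206736) L206726 L300223
theorem L300229 : sm gc N35418 = N27649 := ded_33_1 (flp_i L234239) (flp_c L206728) L300223
theorem L300281 : sm gi N24321 = N35425 := rfl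
theorem L300284 : sm gd N35425 = N24322 := ded_39_1 (flp_i L206771) L206763 L300281
theorem L300286 : sm gf N35425 = N24325 := ded_48_1 (flp_i L206796) (flp_f L206766) L300281
theorem L300307 : sm gi N24323 = N35428 := rfl
theorem L300309 : sm gc N35428 = N24325 := ded_33_1 (flp_i L206796) L206779 L300307
theorem L300312 : sm gg N35428 = N24328 := ded_51_1 (flp_i L206820) (flp_g L206781) L300307
theorem L300322 : sm gi N24324 = N35430 := rfl
theorem L300326 : sm ge N35430 = N24325 := ded_44_1 (flp_i L206796) L206787 L300322
theorem L300331 : sm gh N24325 = N35431 := rfl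
theorem L300338 : sm gi N35431 = N24340 := ded_54_2 (flp_h L206912) (flp_i L142636) (flp_h L142572) L206796 L300331
theorem L300348 : sm ge N24326 = N35433 := rfl
theorem L300353 : sm gj N35433 = N24441 := ded_42_2 (flp_e L207751) (flp_j L206807) L300348
theorem L300355 : sm gh N35433 = N24342 := ded_43_2 (flp_e L206926) (flp_h L206809) L300348
theorem L300357 : sm gi N24326 = N35434 := rfl
theorem L300359 : sm gb N35434 = N24328 := ded_26_1 (flp_i L206820) L206804 L300357
theorem L300363 : sm gj N35434 = N24442 := ded_53_1 (flp_i L207759) (flp_j L206807) L300357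
theorem L300372 : sm gf N24327 = N35436 := rfl
theorem L300376 : sm gj N35436 = N24444 := ded_46_2 (flp_f L207772) (flp_j L206816) L300372
theorem L300402 : sm gi N24329 = N35440 := rfl
theorem L300410 : sm gh N24330 = N35441 := rfl
theorem L300417 : sm gi N35441 = N24349 := ded_54_2 (flp_h L206979) (flp_i L142673) (flp_h L142595) L206835 L300410
theorem L300432 : sm gi N24332 = N35444 := rfl
theorem L300434 : sm gc N35444 = N24334 := ded_33_1 (flp_i L206863) L206851 L300432
theorem L300448 : sm gi N24333 = N35446 := rfl
theorem L300452 : sm ge N35446 = N24334 := ded_44_1 (flp_i L206863) L206858 L300448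
theorem L300455 : sm gh N24334 = N35447 := rfl
theorem L300458 : sm gf N35447 = N24340 := ded_47_1 (flp_h L206912) (flp_f L206868) L300455
theorem L300495 : sm gi N24336 = N35452 := rfl
theorem L300560 : sm gi N24342 = N35460 := rfl
theorem L300566 : sm ge N35460 = N24343 := ded_44_1 (flp_i L206934) L206926 L300560
theorem L300568 : sm gj N35460 = N24453 := ded_53_1 (flp_i L207834) (flp_j L206931) L300560
theorem L300613 : sm gi N24347 = N35467 := rfl
theorem L300635 : sm gj N24350 = N35470 := rfl
theorem L300640 : sm gf N35470 = N24353 := ded_46_1 (flp_j L207012) (flp_f L206992) L300635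
theorem L300644 : sm gi N24350 = N35471 := rfl
theorem L300662 : sm gd N24352 = N35473 := rfl
theorem L300665 : sm gg N35473 = N24356 := ded_36_2 (flp_d L207040) (flp_g L207008) L300662
theorem L300670 : sm gi N24353 = N35474 := rfl
theorem L300674 : sm ge N35474 = N24357 := ded_44_1 (flp_i L207047) (flp_e L207016) L300670
theorem L300689 : sm gd N24355 = N35476 := rfl
theorem L300692 : sm gf N35476 = N24356 := ded_35_2 (flp_d L207040) (flp_f L207035) L300689
theorem L300694 : sm gj N35476 = N24465 := ded_37_2 (flp_d L207920) (flp_j L207037) L300689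
theorem L300822 : sm gd N24368 = N35492 := rfl
theorem L300824 : sm gg N35492 = N24371 := ded_36_2 (flp_d L207167) (flp_g L207144) L300822
theorem L300925 : sm gd N24377 = N35504 := rfl
theorem L300927 : sm ga N35504 = N27735 := ded_12_1 (flp_d L234945) (flp_a L207217) L300925
theorem L300975 : sm gd N24382 = N35509 := rfl
theorem L300977 : sm ga N35509 = N24383 := ded_12_1 (flp_d L207274) (flp_a L207266) L300975
theorem L301072 : sm gh N24389 = N35521 := rfl
theorem L301079 : sm gi N35521 = N24395 := ded_54_2 (flp_h L207369) (flp_i L142986) (flp_h L142962) L207323 L301072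
theorem L301089 : sm ge N24390 = N35523 := rfl
theorem L301093 : sm gc N35523 = N24421 := ded_28_1 (flp_e L207588) (flp_c L207336) L301089
theorem L301096 : sm gi N24390 = N35524 := rfl
theorem L301100 : sm gc N35524 = N24422 := ded_33_1 (flp_i L207594) (flp_c L207336) L301096
theorem L301105 : sm gd N24391 = N35525 := rfl
theorem L301109 : sm gc N35525 = N24396 := ded_27_1 (flp_d L207376) L142998 (flp_d L142984) (flp_c L207341) L301105
theorem L301111 : sm ge N35525 = N27756 := ded_34_2 (flp_d L235108) (flp_e L162038) (flp_d L142976) L207338 L301105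
theorem L301398 : sm gi N24414 = N35560 := rfl
theorem L301400 : sm gb N35560 = N24416 := ded_26_1 (flp_i L207550) L207535 L301398
theorem L301479 : sm gf N24421 = N35570 := rfl
theorem L301481 : sm gb N35570 = N24423 := ded_22_1 (flp_f L207601) (flp_b L207590) L301479
theorem L301497 : sm gg N24423 = N35573 := rfl
theorem L301499 : sm ga N35573 = N24455 := ded_15_1 (flp_g L207849) (flp_a L207603) L301497
theorem L301501 : sm gc N35573 = N24426 := ded_30_1 (flp_g L207625) (flp_c L207605) L301497
theorem L301505 : sm gi N24423 = N35574 := rfl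
theorem L301512 : sm gf N35574 = N24424 := ded_48_1 (flp_i L207608) L207601 L301505
theorem L301531 : sm gj N24426 = N35577 := rfl
theorem L301533 : sm ga N35577 = N24459 := ded_16_1 (flp_j L207875) (flp_a L207627) L301531
theorem L301535 : sm gd N35577 = N24429 := ded_37_1 (flp_j L207647) (flp_d L207629) L301531
theorem L301571 : sm gh N24430 = N35582 := rfl
theorem L301579 : sm gg N35582 = N24431 := ded_50_1 (flp_h L207666) (flp_g L207664) L301571
theorem L301699 : sm gh N24442 = N35598 := rfl
theorem L301701 : sm gb N35598 = N24446 := ded_25_1 (flp_h L207785) (flp_b L207761) L301699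
theorem L301720 : sm gg N24444 = N35601 := rfl
theorem L301722 : sm gc N35601 = N24447 := ded_30_1 (flp_g L207792) (flp_c L207774) L301720
theorem L301749 : sm gj N24447 = N35605 := rfl
theorem L301756 : sm gi N24447 = N35606 := rfl
theorem L301873 : sm gd N24461 = N35623 := rfl
theorem L301878 : sm gh N35623 = N24465 := ded_38_2 (flp_d L207920) (flp_h L143365) (flp_d L143338) L207889 L301873
theorem L301945 : sm gb N24469 = N35633 := rfl
theorem L301948 : sm gf N35633 = N24471 := ded_22_2 (flp_b L207960) (flp_f L207951) L301945
theorem L302275 : sm ge N24500 = N35675 := rfl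
theorem L302277 : sm gc N35675 = N24501 := ded_28_1 (flp_e L208196) L208190 L302275
theorem L302311 : sm gh N24505 = N35680 := rfl
theorem L302314 : sm gb N35680 = N35680 := ded_25_1 (flp_h L302311) L208228 L302311
theorem L302320 : sm gi N35680 = N35680 := ded_54_2 (flp_h L302311) (flp_i L208225) L143632 L208225 L302311
theorem L302341 : sm gh N24508 = N35683 := rfl
theorem L302347 : sm gf N35683 = N24512 := ded_47_1 (flp_h L208304) (flp_f L208267) L302341
theorem L302362 : sm gc N24510 = N35685 := rfl
theorem L302365 : sm gf N35685 = N24514 := ded_29_2 (flp_c L208322) (flp_f L208287) L302362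
theorem L302370 : sm gd N35685 = N24520 := ded_27_2 (flp_c L208385) (flp_d L143770) (flp_c L143681) L208283 L302362
theorem L302379 : sm gh N24511 = N35687 := rfl
theorem L302384 : sm ge N35687 = N24512 := ded_43_1 (flp_h L208304) (flp_e L208298) L302379
theorem L302387 : sm gg N35687 = N24679 := ded_50_1 (flp_h L209737) (flp_g L208301) L302379
theorem L302401 : sm gc N24513 = N35689 := rfl
theorem L302404 : sm gg N35689 = N24681 := ded_30_2 (flp_c L209757) (flp_g L208317) L302401
theorem L302407 : sm gi N35689 = N24514 := ded_33_2 (flp_c L208322) (flp_i L208320) L302401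
theorem L302474 : sm ge N24518 = N35697 := rfl
theorem L302477 : sm gb N35697 = N24546 := ded_21_1 (flp_e L208625) (flp_b L208367) L302474
theorem L302482 : sm gd N35697 = N24521 := ded_34_1 (flp_e L208394) (flp_d L143770) (flp_e L143754) L208364 L302474
theorem L302514 : sm ge N24520 = N35701 := rfl
theorem L302517 : sm gc N35701 = N24521 := ded_28_1 (flp_e L208394) L208385 L302514
theorem L302543 : sm ge N24522 = N35704 := rfl
theorem L302548 : sm gg N35704 = N24687 := ded_41_2 (flp_e L209812) (flp_g L208406) L302543
theorem L302552 : sm gi N35704 = N24525 := ded_44_2 (flp_e L208433) (flp_i L208410) L302543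
theorem L302694 : sm gh N24532 = N35720 := rfl
theorem L302699 : sm ge N35720 = N35720 := ded_43_1 (flp_h L302694) L208509 L302694
theorem L302700 : sm gg N35720 = N24698 := ded_50_1 (flp_h L209917) (flp_g L208503) L302694
theorem L302752 : sm gf N24536 = N35726 := rfl
theorem L302754 : sm gb N35726 = N24538 := ded_22_1 (flp_f L208558) (flp_b L208541) L302752
theorem L302756 : sm gd N35726 = N24537 := ded_35_1 (flp_f L208548) L208539 L302752
theorem L302811 : sm gj N24540 = N35733 := rfl
theorem L302817 : sm gf N35733 = N24711 := ded_46_1 (flp_j L210031) (flp_f L208581) L302811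
theorem L302832 : sm gd N24543 = N35735 := rfl
theorem L302838 : sm gh N35735 = N24544 := ded_38_2 (flp_d L208611) (flp_h L143923) (flp_d L143917) L208604 L302832
theorem L302840 : sm gc N24544 = N35736 := rfl
theorem L302845 : sm gi N35736 = N24545 := ded_33_2 (flp_c L208618) (flp_i L208616) L302840
theorem L302863 : sm ge N24545 = N35739 := rfl
theorem L302865 : sm gc N35739 = N24546 := ded_28_1 (flp_e L208625) L208618 L302863
theorem L302877 : sm gb N24547 = N35741 := rfl
theorem L302880 : sm gf N35741 = N24552 := ded_22_2 (flp_b L208673) (flp_f L208634) L302877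
theorem L302885 : sm gi N35741 = N24549 := ded_26_2 (flp_b L208649) (flp_i L208639) L302877
theorem L302896 : sm gf N24548 = N35743 := rfl
theorem L302900 : sm gi N35743 = N24551 := ded_48_2 (flp_f L208666) (flp_i L208647) L302896
theorem L302913 : sm ge N24549 = N35745 := rfl
theorem L302915 : sm gb N35745 = N24550 := ded_21_1 (flp_e L208658) L208649 L302913
theorem L302935 : sm gg N24551 = N35748 := rfl
theorem L302939 : sm gh N35748 = N24564 := ded_50_2 (flp_g L208769) (flp_h L208669) L302935
theorem L302951 : sm ge N24552 = N35750 := rfl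
theorem L302959 : sm gi N35750 = N24556 := ded_44_2 (flp_e L208707) (flp_i L208680) L302951
theorem L303016 : sm gh N24557 = N35758 := rfl
theorem L303020 : sm gg N35758 = N24721 := ded_50_1 (flp_h L210116) (flp_g L208718) L303016
theorem L303023 : sm gd N35758 = N24569 := ded_38_1 (flp_h L208808) (flp_d L144043) (flp_h L143996) L208716 L303016
theorem L303145 : sm ge N24568 = N35774 := rfl
theorem L303151 : sm gf N35774 = N24596 := ded_40_2 (flp_e L209032) (flp_f L144192) (flp_e L144051) L208800 L303145
theorem L303205 : sm gh N24572 = N35781 := rfl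
theorem L303211 : sm gg N35781 = N24737 := ded_50_1 (flp_h L210248) (flp_g L208836) L303205
theorem L303215 : sm gg N24573 = N35782 := rfl
theorem L303222 : sm gf N35782 = N24738 := ded_45_1 (flp_g L210257) (flp_f L145005) (flp_g L144070) L208842 L303215
theorem L303230 : sm gh N24574 = N35784 := rfl
theorem L303234 : sm ge N35784 = N24606 := ded_43_1 (flp_h L209117) (flp_e L208852) L303230
theorem L303236 : sm gg N35784 = N24740 := ded_50_1 (flp_h L210272) (flp_g L208854) L303230
theorem L303321 : sm gd N24583 = N35795 := rfl
theorem L303323 : sm ga N35795 = N24584 := ded_12_1 (flp_d L208933) (flp_a L208926) L303321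
theorem L303353 : sm gh N24584 = N35799 := rfl
theorem L303355 : sm gb N35799 = N24587 := ded_25_1 (flp_h L208957) (flp_b L208935) L303353
theorem L303377 : sm gg N24586 = N35802 := rfl
theorem L303379 : sm gc N35802 = N35802 := ded_30_1 (flp_g L303377) L208952 L303377
theorem L303384 : sm gh N24586 = N35803 := rfl
theorem L303386 : sm gc N35803 = N35803 := ded_32_1 (flp_h L303384) L208952 L303384
theorem L303387 : sm gf N35803 = N24587 := ded_47_1 (flp_h L208957) L208950 L303384
theorem L303509 : sm gh N24596 = N35818 := rfl
theorem L303511 : sm gc N35818 = N24613 := ded_32_1 (flp_h L209177) (flp_c L209034) L303509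
theorem L303516 : sm gj N24597 = N35819 := rfl
theorem L303520 : sm gd N35819 = N24600 := ded_37_1 (flp_j L209064) (flp_d L209042) L303516
theorem L303526 : sm gh N24597 = N35820 := rfl
theorem L303530 : sm gf N35820 = N24765 := ded_47_1 (flp_h L210479) (flp_f L209045) L303526
theorem L303653 : sm gg N24607 = N35835 := rfl
theorem L303655 : sm gb N35835 = N24612 := ded_23_1 (flp_g L209171) (flp_b L209126) L303653
theorem L303658 : sm ge N35835 = N24608 := ded_41_1 (flp_g L209131) L209124 L303653
theorem L303688 : sm gi N24609 = N35839 := rfl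
theorem L303690 : sm gb N35839 = N24616 := ded_26_1 (flp_i L209198) (flp_b L209142) L303688
theorem L303723 : sm gi N24613 = N35844 := rfl
theorem L303725 : sm ge N35844 = N24616 := ded_44_1 (flp_i L209198) (flp_e L209179) L303723
theorem L303815 : sm gg N24620 = N35854 := rfl
theorem L303822 : sm gi N35854 = N24649 := ded_51_2 (flp_g L209490) (flp_i L209241) L303815
theorem L303832 : sm gj N24621 = N35856 := rfl
theorem L303838 : sm gf N35856 = N24801 := ded_46_1 (flp_j L210782) (flp_f L209253) L303832
theorem L303840 : sm gi N35856 = N24651 := ded_53_2 (flp_j L209505) (flp_i L209251) L303832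
theorem L303851 : sm gi N24622 = N35858 := rfl
theorem L303858 : sm gh N35858 = N24653 := ded_54_1 (flp_i L209523) (flp_h L144501) (flp_i L144335) L209255 L303851
theorem L303869 : sm gg N24625 = N35860 := rfl
theorem L303871 : sm gb N35860 = N35860 := ded_23_1 (flp_g L303869) L209285 L303869
theorem L303876 : sm gi N35860 = N24655 := ded_51_2 (flp_g L209538) (flp_i L209289) L303869
theorem L303960 : sm gh N24630 = N35870 := rfl
theorem L303964 : sm ge N35870 = N24633 := ded_43_1 (flp_h L209356) (flp_e L209333) L303960
theorem L303966 : sm gg N35870 = N24631 := ded_50_1 (flp_h L209337) L209328 L303960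
theorem L303975 : sm gi N24631 = N35872 := rfl
theorem L303983 : sm gh N35872 = N24667 := ded_54_1 (flp_i L209638) (flp_h L144575) (flp_i L144378) L209337 L303975
theorem L303994 : sm gi N24633 = N35874 := rfl
theorem L303996 : sm gb N35874 = N24641 := ded_26_1 (flp_i L209420) (flp_b L209358) L303994
theorem L304004 : sm gj N24635 = N35875 := rfl
theorem L304008 : sm ge N35875 = N24820 := ded_42_1 (flp_j L210953) (flp_e L209379) L304004
theorem L304010 : sm gf N35875 = N24636 := ded_46_1 (flp_j L209382) L209373 L304004
theorem L304073 : sm gg N24642 = N35884 := rfl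
theorem L304079 : sm gf N35884 = N24829 := ded_45_1 (flp_g L211024) (flp_f L145529) (flp_g L144464) L209429 L304073
theorem L304191 : sm gf N24649 = N35897 := rfl
theorem L304196 : sm ge N35897 = N24842 := ded_40_1 (flp_f L211139) L145594 (flp_f L144499) (flp_e L209495) L304191
theorem L304231 : sm gh N24651 = N35902 := rfl
theorem L304238 : sm gj N35902 = N24652 := ded_52_1 (flp_h L209514) L209505 L304231
theorem L304241 : sm gi N24652 = N35903 := rfl
theorem L304246 : sm gf N35903 = N24848 := ded_48_1 (flp_i L211192) (flp_f L209518) L304241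
theorem L304248 : sm gg N35903 = N24653 := ded_51_1 (flp_i L209523) (flp_g L209520) L304241
theorem L304272 : sm gj N24655 = N35907 := rfl
theorem L304275 : sm gc N35907 = N24664 := ded_31_1 (flp_j L209614) (flp_c L209541) L304272
theorem L304277 : sm ge N35907 = N24657 := ded_42_1 (flp_j L209554) (flp_e L209543) L304272
theorem L304289 : sm gd N24656 = N35909 := rfl
theorem L304294 : sm gi N24656 = N35910 := rfl
theorem L304297 : sm gc N35910 = N24667 := ded_33_1 (flp_i L209638) (flp_c L209548) L304294
theorem L304299 : sm ge N35910 = N24660 := ded_44_1 (flp_i L209580) (flp_e L209550) L304294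
theorem L304303 : sm gh N24657 = N35911 := rfl
theorem L304308 : sm gf N35911 = N24856 := ded_47_1 (flp_h L211256) (flp_f L209560) L304303
theorem L304311 : sm gj N35911 = N24658 := ded_52_1 (flp_h L209563) L209554 L304303
theorem L304371 : sm gj N24663 = N35919 := rfl
theorem L304376 : sm ge N35919 = N24864 := ded_42_1 (flp_j L211320) (flp_e L209611) L304371
theorem L304378 : sm gf N35919 = N24664 := ded_46_1 (flp_j L209614) L209606 L304371
theorem L304456 : sm gd N24671 = N35929 := rfl
theorem L304458 : sm gf N35929 = N24673 := ded_35_2 (flp_d L209689) (flp_f L209678) L304456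
theorem L304520 : sm gh N24678 = N35938 := rfl
theorem L304526 : sm gf N35938 = N24679 := ded_47_1 (flp_h L209737) (flp_f L209732) L304520
theorem L304540 : sm gc N24680 = N35940 := rfl
theorem L304546 : sm gh N35940 = N24681 := ded_32_2 (flp_c L209757) (flp_h L209755) L304540
theorem L304709 : sm gf N24691 = N35958 := rfl
theorem L304713 : sm gd N35958 = N24692 := ded_35_1 (flp_f L209860) L209854 L304709
theorem L304715 : sm gj N35958 = N24904 := ded_46_2 (flp_f L211654) (flp_j L209857) L304709
theorem L304744 : sm gd N24694 = N35962 := rfl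
theorem L304746 : sm ga N35962 = N24695 := ded_12_1 (flp_d L209889) (flp_a L209881) L304744
theorem L304752 : sm ge N35962 = N35962 := ded_34_2 (flp_d L304744) (flp_e L209879) L144769 L209879 L304744
theorem L304764 : sm gc N24695 = N35964 := rfl
theorem L304770 : sm gb N35964 = N24703 := ded_19_1 (flp_c L209965) L144824 (flp_c L144790) (flp_b L209891) L304764
theorem L304825 : sm gi N24698 = N35971 := rfl
theorem L304831 : sm gj N35971 = N24917 := ded_53_1 (flp_i L211758) (flp_j L209923) L304825
theorem L304883 : sm gf N24703 = N35977 := rfl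
theorem L304889 : sm gj N35977 = N24923 := ded_46_2 (flp_f L211811) (flp_j L209968) L304883
theorem L304925 : sm gi N24705 = N35982 := rfl
theorem L304930 : sm ge N35982 = N35982 := ded_44_1 (flp_i L304925) L209986 L304925
theorem L304931 : sm gj N35982 = N24928 := ded_53_1 (flp_i L211847) (flp_j L209987) L304925
theorem L304946 : sm gg N24707 = N35984 := rfl
theorem L304951 : sm ge N35984 = N24708 := ded_41_1 (flp_g L210009) L210000 L304946
theorem L304970 : sm gh N24708 = N35987 := rfl
theorem L304973 : sm gg N35987 = N24709 := ded_50_1 (flp_h L210015) L210009 L304970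
theorem L304976 : sm gi N24709 = N35988 := rfl
theorem L304982 : sm gj N35988 = N24934 := ded_53_1 (flp_i L211894) (flp_j L210020) L304976
theorem L304985 : sm ge N24712 = N35989 := rfl
theorem L304989 : sm gj N35989 = N24935 := ded_42_2 (flp_e L211901) (flp_j L210046) L304985
theorem L305022 : sm gh N24714 = N35993 := rfl
theorem L305026 : sm gj N35993 = N24939 := ded_52_1 (flp_h L211932) (flp_j L210062) L305022
theorem L305037 : sm gj N24716 = N35995 := rfl
theorem L305044 : sm gg N35995 = N24941 := ded_49_1 (flp_j L211947) (flp_g L146146) (flp_j L144898) L210078 L305037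
theorem L305053 : sm gf N24717 = N35997 := rfl
theorem L305057 : sm gj N35997 = N24943 := ded_46_2 (flp_f L211961) (flp_j L210089) L305053
theorem L305059 : sm gh N35997 = N24725 := ded_47_2 (flp_f L210148) (flp_h L210091) L305053
theorem L305139 : sm gf N24724 = N36008 := rfl
theorem L305143 : sm gd N36008 = N24725 := ded_35_1 (flp_f L210148) L210139 L305139
theorem L305145 : sm gj N36008 = N24954 := ded_46_2 (flp_f L212036) (flp_j L210143) L305139
theorem L305241 : sm gj N24731 = N36020 := rfl
theorem L305248 : sm gg N36020 = N24966 := ded_49_1 (flp_j L212126) (flp_g L146252) (flp_j L144971) L210198 L305241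
theorem L305256 : sm gi N24732 = N36022 := rfl
theorem L305262 : sm gj N36022 = N24968 := ded_53_1 (flp_i L212141) (flp_j L210211) L305256
theorem L305318 : sm gi N24737 = N36029 := rfl
theorem L305325 : sm gj N36029 = N24975 := ded_53_1 (flp_i L212194) (flp_j L210254) L305318
theorem L305360 : sm gd N24740 = N36034 := rfl
theorem L305362 : sm gj N36034 = N24980 := ded_37_2 (flp_d L212231) (flp_j L210278) L305360
theorem L305393 : sm gj N24742 = N36038 := rfl
theorem L305400 : sm gg N36038 = N24984 := ded_49_1 (flp_j L212260) (flp_g L146334) (flp_j L145028) L210291 L305393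
theorem L305409 : sm gi N24743 = N36040 := rfl
theorem L305416 : sm gj N36040 = N24986 := ded_53_1 (flp_i L212276) (flp_j L210304) L305409
theorem L305522 : sm gi N24753 = N36054 := rfl
theorem L305527 : sm gj N36054 = N25000 := ded_53_1 (flp_i L212375) (flp_j L210383) L305522
theorem L305530 : sm gj N24754 = N36055 := rfl
theorem L305538 : sm gg N36055 = N25001 := ded_49_1 (flp_j L212382) (flp_g L146418) (flp_j L145099) L210386 L305530
theorem L305609 : sm gh N24758 = N36064 := rfl
theorem L305611 : sm gb N36064 = N24765 := ded_25_1 (flp_h L210479) (flp_b L210422) L305609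
theorem L305732 : sm gi N24769 = N36079 := rfl
theorem L305734 : sm ga N36079 = N24779 := ded_18_1 (flp_i L210595) (flp_a L210514) L305732
theorem L305758 : sm gj N24771 = N36082 := rfl
theorem L305765 : sm gg N36082 = N25028 := ded_49_1 (flp_j L212585) (flp_g L146544) (flp_j L145191) L210529 L305758
theorem L305817 : sm gh N24776 = N36089 := rfl
theorem L305819 : sm gc N36089 = N24783 := ded_32_1 (flp_h L210628) (flp_c L210576) L305817
theorem L305821 : sm gg N36089 = N24777 := ded_50_1 (flp_h L210580) L210574 L305817
theorem L305892 : sm gi N24781 = N36098 := rfl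
theorem L305898 : sm gj N36098 = N25044 := ded_53_1 (flp_i L212704) (flp_j L210617) L305892
theorem L305911 : sm gi N24783 = N36100 := rfl
theorem L305913 : sm gb N36100 = N24791 := ded_26_1 (flp_i L210690) (flp_b L210630) L305911
theorem L305970 : sm gi N24790 = N36108 := rfl
theorem L305976 : sm gj N36108 = N24791 := ded_53_1 (flp_i L210690) (flp_j L210686) L305970
theorem L305979 : sm ge N24792 = N36109 := rfl
theorem L305984 : sm gj N36109 = N25055 := ded_42_2 (flp_e L212784) (flp_j L210703) L305979
theorem L305986 : sm gi N36109 = N24828 := ded_44_2 (flp_e L211016) (flp_i L210705) L305979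
theorem L306076 : sm gd N24796 = N36119 := rfl
theorem L306080 : sm gf N36119 = N24797 := ded_35_2 (flp_d L210745) (flp_f L210741) L306076
theorem L306113 : sm gf N24799 = N36123 := rfl
theorem L306117 : sm gd N36123 = N25282 := ded_35_1 (flp_f L214673) (flp_d L210767) L306113
theorem L306119 : sm gi N36123 = N24842 := ded_48_2 (flp_f L211139) (flp_i L210771) L306113
theorem L306151 : sm gi N24800 = N36127 := rfl
theorem L306160 : sm gh N36127 = N24846 := ded_54_1 (flp_i L211174) (flp_h L145596) (flp_i L145343) L210773 L306151
theorem L306162 : sm gh N24801 = N36128 := rfl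
theorem L306166 : sm gg N36128 = N25074 := ded_50_1 (flp_h L212947) (flp_g L210790) L306162
theorem L306168 : sm gj N36128 = N24802 := ded_52_1 (flp_h L210792) L210782 L306162
theorem L306170 : sm gi N24802 = N36129 := rfl
theorem L306176 : sm gh N36129 = N24848 := ded_54_1 (flp_i L211192) (flp_h L145613) (flp_i L145354) L210792 L306170
theorem L306322 : sm gh N24814 = N36147 := rfl
theorem L306328 : sm gg N36147 = N25093 := ded_50_1 (flp_h L213095) (flp_g L210907) L306322
theorem L306330 : sm gj N36147 = N24815 := ded_52_1 (flp_h L210909) L210897 L306322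
theorem L306340 : sm gi N24815 = N36149 := rfl
theorem L306348 : sm gh N36149 = N24868 := ded_54_1 (flp_i L211354) (flp_h L145721) (flp_i L145435) L210909 L306340
theorem L306350 : sm gc N24816 = N36150 := rfl
theorem L306353 : sm gj N36150 = N25096 := ded_31_2 (flp_c L213121) (flp_j L210922) L306350
theorem L306355 : sm gh N36150 = N25309 := ded_32_2 (flp_c L214922) (flp_h L210924) L306350
theorem L306376 : sm gg N24820 = N36153 := rfl
theorem L306383 : sm gf N36153 = N25099 := ded_45_1 (flp_g L213142) L146930 (flp_g L145489) (flp_f L210958) L306376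
theorem L306408 : sm gd N24822 = N36157 := rfl
theorem L306410 : sm gg N36157 = N25103 := ded_36_2 (flp_d L213175) (flp_g L210973) L306408
theorem L306414 : sm gh N36157 = N25316 := ded_38_2 (flp_d L214981) (flp_h L148138) (flp_d L145483) L210968 L306408
theorem L306456 : sm gh N24826 = N36163 := rfl
theorem L306463 : sm gi N36163 = N25322 := ded_54_2 (flp_h L215027) (flp_i L148169) (flp_h L145503) L211000 L306456
theorem L306481 : sm gh N24828 = N36166 := rfl
theorem L306489 : sm gj N36166 = N25112 := ded_52_1 (flp_h L213236) (flp_j L211021) L306481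
theorem L306576 : sm gj N24834 = N36177 := rfl
theorem L306580 : sm gc N36177 = N24843 := ded_31_1 (flp_j L211146) (flp_c L211069) L306576
theorem L306586 : sm gh N24834 = N36178 := rfl
theorem L306592 : sm ge N36178 = N24837 := ded_43_1 (flp_h L211093) (flp_e L211071) L306586
theorem L306624 : sm gd N24837 = N36182 := rfl
theorem L306628 : sm gg N36182 = N24838 := ded_36_2 (flp_d L211101) (flp_g L211099) L306624
theorem L306640 : sm ge N24838 = N36184 := rfl
theorem L306642 : sm ga N36184 = N24859 := ded_13_1 (flp_e L211279) (flp_a L211103) L306640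
theorem L306645 : sm gj N36184 = N25130 := ded_42_2 (flp_e L213380) (flp_j L211107) L306640
theorem L306738 : sm gi N24845 = N36195 := rfl
theorem L306742 : sm gd N36195 = N24846 := ded_39_1 (flp_i L211174) L211164 L306738
theorem L306746 : sm gj N36195 = N25141 := ded_53_1 (flp_i L213468) (flp_j L211169) L306738
theorem L306757 : sm gf N24849 = N36197 := rfl
theorem L306762 : sm gd N36197 = N24851 := ded_35_1 (flp_f L211216) (flp_d L211204) L306757
theorem L306800 : sm gj N24851 = N36202 := rfl
theorem L306803 : sm gc N36202 = N24864 := ded_31_1 (flp_j L211320) (flp_c L211219) L306800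
theorem L306847 : sm ge N24854 = N36208 := rfl
theorem L306852 : sm gd N36208 = N24859 := ded_34_1 (flp_e L211279) (flp_d L145670) (flp_e L145650) L211240 L306847
theorem L306912 : sm gh N24860 = N36216 := rfl
theorem L306916 : sm gf N36216 = N24863 := ded_47_1 (flp_h L211313) (flp_f L211292) L306912
theorem L306918 : sm gj N36216 = N25162 := ded_52_1 (flp_h L213622) (flp_j L211294) L306912
theorem L306945 : sm gg N24864 = N36220 := rfl
theorem L306951 : sm gf N36220 = N25166 := ded_45_1 (flp_g L213651) L147259 (flp_g L145719) (flp_f L211326) L306945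
theorem L306954 : sm gh N24864 = N36221 := rfl
theorem L306958 : sm gf N36221 = N24866 := ded_47_1 (flp_h L211335) (flp_f L211326) L306954
theorem L306960 : sm gj N36221 = N24865 := ded_52_1 (flp_h L211328) L211320 L306954
theorem L306962 : sm gd N24865 = N36222 := rfl
theorem L306966 : sm gf N36222 = N24867 := ded_35_2 (flp_d L211345) (flp_f L211332) L306962
theorem L306969 : sm gh N36222 = N25381 := ded_38_2 (flp_d L215566) (flp_h L148522) (flp_d L145708) L211328 L306962
theorem L306978 : sm gd N24866 = N36224 := rfl
theorem L306984 : sm gj N36224 = N24867 := ded_37_2 (flp_d L211345) (flp_j L211343) L306978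
theorem L306987 : sm gh N36224 = N25383 := ded_38_2 (flp_d L215581) (flp_h L148530) (flp_d L145715) L211335 L306978
theorem L306989 : sm gi N24866 = N36225 := rfl
theorem L306993 : sm ge N36225 = N24871 := ded_44_1 (flp_i L211380) (flp_e L211339) L306989
theorem L306997 : sm gj N36225 = N24868 := ded_53_1 (flp_i L211354) (flp_j L211343) L306989
theorem L307051 : sm gd N24873 = N36232 := rfl
theorem L307055 : sm gj N36232 = N24874 := ded_37_2 (flp_d L211404) (flp_j L211402) L307051
theorem L307057 : sm gh N36232 = N25391 := ded_38_2 (flp_d L215648) (flp_h L148589) (flp_d L145767) L211397 L307051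
theorem L307074 : sm ge N24874 = N36235 := rfl
theorem L307077 : sm gh N36235 = N25394 := ded_43_2 (flp_e L215670) (flp_h L211409) L307074
theorem L307122 : sm gh N24879 = N36241 := rfl
theorem L307127 : sm gi N36241 = N25400 := ded_54_2 (flp_h L215716) (flp_i L148635) (flp_h L145791) L211443 L307122
theorem L307147 : sm gh N24881 = N36244 := rfl
theorem L307155 : sm gi N36244 = N25403 := ded_54_2 (flp_h L215739) (flp_i L148650) (flp_h L145806) L211459 L307147
theorem L307201 : sm ge N24886 = N36250 := rfl
theorem L307207 : sm gh N36250 = N24889 := ded_43_2 (flp_e L211529) (flp_h L211508) L307201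
theorem L307209 : sm gi N36250 = N36250 := ded_44_2 (flp_e L307201) L211510 L307201
theorem L307228 : sm ge N24888 = N36253 := rfl
theorem L307230 : sm gb N36253 = N24889 := ded_21_1 (flp_e L211529) L211520 L307228
theorem L307234 : sm gi N36253 = N24892 := ded_44_2 (flp_e L211554) (flp_i L211526) L307228
theorem L307262 : sm ge N24891 = N36257 := rfl
theorem L307264 : sm ga N36257 = N24892 := ded_13_1 (flp_e L211554) L211545 L307262
theorem L307270 : sm gd N24892 = N36258 := rfl
theorem L307275 : sm ge N36258 = N24902 := ded_34_2 (flp_d L211640) (flp_e L145938) (flp_d L145881) L211554 L307270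
theorem L307393 : sm gc N24902 = N36273 := rfl
theorem L307397 : sm gd N36273 = N24944 := ded_27_2 (flp_c L211968) (flp_d L146161) (flp_c L145942) L211640 L307393
theorem L307412 : sm gg N24903 = N36276 := rfl
theorem L307414 : sm gb N36276 = N24906 := ded_23_1 (flp_g L211667) (flp_b L211647) L307412
theorem L307419 : sm gh N36276 = N24913 := ded_50_2 (flp_g L211725) (flp_h L211651) L307412
theorem L307434 : sm gh N24904 = N36279 := rfl
theorem L307438 : sm gf N36279 = N24905 := ded_47_1 (flp_h L211660) L211654 L307434
theorem L307442 : sm gi N24905 = N36280 := rfl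
theorem L307446 : sm gd N36280 = N24917 := ded_39_1 (flp_i L211758) (flp_d L211665) L307442
theorem L307449 : sm gj N24906 = N36281 := rfl
theorem L307456 : sm gh N36281 = N24918 := ded_52_2 (flp_j L211766) (flp_h L211673) L307449
theorem L307563 : sm gj N24915 = N36295 := rfl
theorem L307568 : sm gd N36295 = N24918 := ded_37_1 (flp_j L211766) (flp_d L211747) L307563
theorem L307693 : sm gg N24925 = N36311 := rfl
theorem L307697 : sm gd N36311 = N25417 := ded_36_1 (flp_g L215862) (flp_d L211829) L307693
theorem L307699 : sm ge N36311 = N24926 := ded_41_1 (flp_g L211832) L211824 L307693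
theorem L307717 : sm gh N24926 = N36314 := rfl
theorem L307722 : sm gg N36314 = N24927 := ded_50_1 (flp_h L211840) L211832 L307717
theorem L307756 : sm gd N24931 = N36319 := rfl
theorem L307761 : sm gh N36319 = N25425 := ded_38_2 (flp_d L215925) (flp_h L148768) (flp_d L146082) L211874 L307756
theorem L307763 : sm gi N24931 = N36320 := rfl
theorem L307766 : sm ge N36320 = N24934 := ded_44_1 (flp_i L211894) (flp_e L211877) L307763
theorem L307793 : sm gf N24935 = N36324 := rfl
theorem L307798 : sm gi N36324 = N24943 := ded_48_2 (flp_f L211961) (flp_i L211907) L307793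
theorem L307801 : sm gc N24936 = N36325 := rfl
theorem L307805 : sm gi N36325 = N24944 := ded_33_2 (flp_c L211968) (flp_i L211914) L307801
theorem L307816 : sm gh N24936 = N36327 := rfl
theorem L307818 : sm gb N36327 = N24939 := ded_25_1 (flp_h L211932) (flp_b L211911) L307816
theorem L308026 : sm gi N24955 = N36356 := rfl
theorem L308030 : sm ge N36356 = N25000 := ded_44_1 (flp_i L212375) (flp_e L212047) L308026
theorem L308136 : sm gh N24964 = N36370 := rfl
theorem L308140 : sm ge N36370 = N24967 := ded_43_1 (flp_h L212134) (flp_e L212115) L308136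
theorem L308158 : sm gh N24966 = N36373 := rfl
theorem L308163 : sm gj N36373 = N24967 := ded_52_1 (flp_h L212134) L212126 L308158
theorem L308216 : sm gi N24971 = N36381 := rfl
theorem L308220 : sm gc N36381 = N24975 := ded_33_1 (flp_i L212194) (flp_c L212165) L308216
theorem L308302 : sm gd N24979 = N36392 := rfl
theorem L308304 : sm gf N36392 = N24980 := ded_35_2 (flp_d L212231) (flp_f L212229) L308302
theorem L308326 : sm gf N24982 = N36396 := rfl
theorem L308328 : sm gb N36396 = N24987 := ded_22_1 (flp_f L212284) (flp_b L212245) L308326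
theorem L308334 : sm gg N36396 = N25040 := ded_45_2 (flp_f L212671) (flp_g L146609) (flp_f L146332) L212243 L308326
theorem L308336 : sm gj N24982 = N36397 := rfl
theorem L308340 : sm gd N36397 = N25451 := ded_37_1 (flp_j L216136) (flp_d L212247) L308336
theorem L308342 : sm ge N36397 = N24984 := ded_42_1 (flp_j L212260) (flp_e L212249) L308336
theorem L308345 : sm gh N24982 = N36398 := rfl
theorem L308349 : sm ge N36398 = N24985 := ded_43_1 (flp_h L212268) (flp_e L212249) L308345
theorem L308351 : sm gg N36398 = N24983 := ded_50_1 (flp_h L212252) L212243 L308345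
theorem L308379 : sm gi N24985 = N36402 := rfl
theorem L308385 : sm gg N36402 = N24986 := ded_51_1 (flp_i L212276) (flp_g L212273) L308379
theorem L308396 : sm gh N24987 = N36404 := rfl
theorem L308401 : sm gg N36404 = N25048 := ded_50_1 (flp_h L212738) (flp_g L212290) L308396
theorem L308498 : sm gg N24997 = N36418 := rfl
theorem L308500 : sm ga N36418 = N25007 := ded_15_1 (flp_g L212430) (flp_a L212356) L308498
theorem L308503 : sm ge N36418 = N24998 := ded_41_1 (flp_g L212360) L212354 L308498
theorem L308512 : sm gj N24998 = N36420 := rfl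
theorem L308516 : sm gd N36420 = N25001 := ded_37_1 (flp_j L212382) (flp_d L212364) L308512
theorem L308543 : sm gg N25002 = N36424 := rfl
theorem L308547 : sm gc N36424 = N25007 := ded_30_1 (flp_g L212430) (flp_c L212395) L308543
theorem L308552 : sm gh N25002 = N36425 := rfl
theorem L308554 : sm gb N36425 = N25033 := ded_25_1 (flp_h L212624) (flp_b L212393) L308552
theorem L308639 : sm gi N25008 = N36436 := rfl
theorem L308641 : sm gb N36436 = N25016 := ded_26_1 (flp_i L212495) (flp_b L212440) L308639
theorem L308643 : sm ge N36436 = N25011 := ded_44_1 (flp_i L212460) (flp_e L212442) L308639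
theorem L308663 : sm gj N25012 = N36439 := rfl
theorem L308669 : sm gf N36439 = N25013 := ded_46_1 (flp_j L212475) L212468 L308663
theorem L308672 : sm gh N25012 = N36440 := rfl
theorem L308674 : sm gc N36440 = N25048 := ded_32_1 (flp_h L212738) (flp_c L212470) L308672
theorem L308679 : sm gh N25013 = N36441 := rfl
theorem L308683 : sm ge N36441 = N25017 := ded_43_1 (flp_h L212502) (flp_e L212480) L308679
theorem L308722 : sm ge N25019 = N36447 := rfl
theorem L308724 : sm gb N36447 = N25021 := ded_21_1 (flp_e L212530) (flp_b L212521) L308722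
theorem L308734 : sm gh N25019 = N36449 := rfl
theorem L308738 : sm gf N36449 = N25020 := ded_47_1 (flp_h L212525) L212519 L308734
theorem L308769 : sm gh N25021 = N36454 := rfl
theorem L308771 : sm ga N36454 = N25033 := ded_17_1 (flp_h L212624) (flp_a L212532) L308769
theorem L308838 : sm gj N25026 = N36462 := rfl
theorem L308844 : sm ge N36462 = N25028 := ded_42_1 (flp_j L212585) (flp_e L212576) L308838
theorem L308847 : sm gh N25026 = N36463 := rfl
theorem L308849 : sm ga N36463 = N25042 := ded_17_1 (flp_h L212688) (flp_a L212572) L308847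
theorem L308987 : sm gj N25040 = N36483 := rfl
theorem L308991 : sm gd N36483 = N25501 := ded_37_1 (flp_j L216534) (flp_d L212675) L308987
theorem L309022 : sm gi N25042 = N36487 := rfl
theorem L309028 : sm gg N36487 = N25044 := ded_51_1 (flp_i L212704) (flp_g L212694) L309022
theorem L309103 : sm gi N25050 = N36498 := rfl
theorem L309109 : sm gg N36498 = N25053 := ded_51_1 (flp_i L212770) (flp_g L212751) L309103
theorem L309123 : sm gh N25053 = N36501 := rfl
theorem L309128 : sm gi N36501 = N25519 := ded_54_2 (flp_h L216667) (flp_i L149264) (flp_h L146673) L212770 L309123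
theorem L309130 : sm gd N25055 = N36502 := rfl
theorem L309136 : sm gi N36502 = N25110 := ded_39_2 (flp_d L213222) (flp_i L212789) L309130
theorem L309156 : sm gj N25056 = N36505 := rfl
theorem L309159 : sm gb N36505 = N25063 := ded_24_1 (flp_j L212853) (flp_b L212795) L309156
theorem L309181 : sm gi N25057 = N36508 := rfl
theorem L309186 : sm gf N36508 = N25059 := ded_48_1 (flp_i L212815) (flp_f L212806) L309181
theorem L309188 : sm gh N36508 = N25116 := ded_54_1 (flp_i L213267) (flp_h L146995) (flp_i L146701) L212801 L309181
theorem L309293 : sm gi N25064 = N36521 := rfl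
theorem L309302 : sm gh N36521 = N25129 := ded_54_1 (flp_i L213371) (flp_h L147049) (flp_i L146726) L212863 L309293
theorem L309331 : sm gh N25068 = N36526 := rfl
theorem L309336 : sm gd N36526 = N25134 := ded_38_1 (flp_h L213411) L147087 (flp_h L146751) (flp_d L212900) L309331
theorem L309374 : sm gi N25071 = N36531 := rfl
theorem L309382 : sm gh N36531 = N25139 := ded_54_1 (flp_i L213452) (flp_h L147106) (flp_i L146761) L212923 L309374
theorem L309398 : sm gi N25074 = N36534 := rfl
theorem L309405 : sm gh N36534 = N25142 := ded_54_1 (flp_i L213476) (flp_h L147129) (flp_i L146777) L212947 L309398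
theorem L309427 : sm gh N25076 = N36537 := rfl
theorem L309433 : sm gg N36537 = N25077 := ded_50_1 (flp_h L212973) L212963 L309427
theorem L309441 : sm gi N25077 = N36539 := rfl
theorem L309448 : sm gh N36539 = N25147 := ded_54_1 (flp_i L213514) (flp_h L147153) (flp_i L146798) L212973 L309441
theorem L309469 : sm gh N25079 = N36542 := rfl
theorem L309472 : sm gc N36542 = N25093 := ded_32_1 (flp_h L213095) (flp_c L212992) L309469
theorem L309476 : sm gj N36542 = N25080 := ded_52_1 (flp_h L212998) L212989 L309469
theorem L309483 : sm gi N25080 = N36544 := rfl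
theorem L309492 : sm gh N36544 = N25152 := ded_54_1 (flp_i L213552) (flp_h L147174) (flp_i L146810) L212998 L309483
theorem L309607 : sm gi N25092 = N36561 := rfl
theorem L309609 : sm gb N36561 = N25102 := ded_26_1 (flp_i L213166) (flp_b L213089) L309607
theorem L309615 : sm gh N36561 = N25169 := ded_54_1 (flp_i L213677) (flp_h L147261) (flp_i L146870) L213087 L309607
theorem L309635 : sm gc N25094 = N36564 := rfl
theorem L309637 : sm gg N36564 = N25096 := ded_30_2 (flp_c L213121) (flp_g L213107) L309635
theorem L309639 : sm gh N36564 = N25582 := ded_32_2 (flp_c L217209) (flp_h L213109) L309635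
theorem L309723 : sm gi N25103 = N36576 := rfl
theorem L309725 : sm gd N36576 = N25104 := ded_39_1 (flp_i L213181) L213175 L309723
theorem L309763 : sm gh N25108 = N36582 := rfl
theorem L309768 : sm gi N36582 = N25600 := ded_54_2 (flp_h L217328) (flp_i L149725) (flp_h L146966) L213209 L309763
theorem L309770 : sm gc N25110 = N36583 := rfl
theorem L309775 : sm gb N36583 = N25601 := ded_19_1 (flp_c L217333) L149741 (flp_c L147021) (flp_b L213225) L309770
theorem L309806 : sm gh N25111 = N36588 := rfl
theorem L309813 : sm gg N36588 = N25112 := ded_50_1 (flp_h L213236) L213229 L309806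
theorem L309846 : sm gi N25114 = N36593 := rfl
theorem L309849 : sm gb N36593 = N25129 := ded_26_1 (flp_i L213371) (flp_b L213254) L309846
theorem L309852 : sm gg N36593 = N25116 := ded_51_1 (flp_i L213267) (flp_g L213257) L309846
theorem L310096 : sm gh N25133 = N36624 := rfl
theorem L310098 : sm ga N36624 = N25165 := ded_17_1 (flp_h L213643) (flp_a L213404) L310096
theorem L310101 : sm ge N36624 = N25134 := ded_43_1 (flp_h L213411) (flp_e L213408) L310096
theorem L310148 : sm gi N25137 = N36630 := rfl
theorem L310152 : sm ge N36630 = N25142 := ded_44_1 (flp_i L213476) (flp_e L213439) L310148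
theorem L310154 : sm gj N36630 = N25139 := ded_53_1 (flp_i L213452) (flp_j L213441) L310148
theorem L310156 : sm gc N25138 = N36631 := rfl
theorem L310158 : sm ga N36631 = N25172 := ded_11_1 (flp_c L213702) (flp_a L213445) L310156
theorem L310161 : sm gg N36631 = N25140 := ded_30_2 (flp_c L213460) (flp_g L213447) L310156
theorem L310188 : sm gh N25141 = N36635 := rfl
theorem L310194 : sm gi N36635 = N25653 := ded_54_2 (flp_h L217768) (flp_i L149996) (flp_h L147120) L213468 L310188
theorem L310221 : sm gh N25144 = N36639 := rfl
theorem L310224 : sm gc N36639 = N25657 := ded_32_1 (flp_h L217797) (flp_c L213495) L310221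
theorem L310263 : sm gg N25148 = N36645 := rfl
theorem L310266 : sm gc N36645 = N25166 := ded_30_1 (flp_g L213651) (flp_c L213524) L310263
theorem L310300 : sm gi N25150 = N36650 := rfl
theorem L310305 : sm ge N36650 = N25157 := ded_44_1 (flp_i L213585) (flp_e L213543) L310300
theorem L310307 : sm gj N36650 = N25152 := ded_53_1 (flp_i L213552) (flp_j L213545) L310300
theorem L310371 : sm gi N25156 = N36661 := rfl
theorem L310375 : sm gd N36661 = N25157 := ded_39_1 (flp_i L213585) L213577 L310371
theorem L310378 : sm gj N36661 = N25159 := ded_53_1 (flp_i L213600) (flp_j L213581) L310371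
theorem L310394 : sm gh N25159 = N36664 := rfl
theorem L310399 : sm gg N36664 = N25162 := ded_50_1 (flp_h L213622) (flp_g L213607) L310394
theorem L310460 : sm gd N25167 = N36673 := rfl
theorem L310466 : sm gj N36673 = N25168 := ded_37_2 (flp_d L213668) (flp_j L213666) L310460
theorem L310468 : sm gh N36673 = N25691 := ded_38_2 (flp_d L218069) (flp_h L150208) (flp_d L147256) L213659 L310460
theorem L310495 : sm gi N25168 = N36677 := rfl
theorem L310499 : sm gd N36677 = N25169 := ded_39_1 (flp_i L213677) L213668 L310495
theorem L310501 : sm gf N36677 = N25173 := ded_48_1 (flp_i L213709) (flp_f L213672) L310495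
theorem L310504 : sm gc N25170 = N36678 := rfl
theorem L310507 : sm gj N36678 = N25172 := ded_31_2 (flp_c L213702) (flp_j L213689) L310504
theorem L310509 : sm gh N36678 = N25696 := ded_32_2 (flp_c L218109) (flp_h L213692) L310504
theorem L310536 : sm gh N25173 = N36682 := rfl
theorem L310543 : sm gi N36682 = N25700 := ded_54_2 (flp_h L218137) (flp_i L150254) (flp_h L147284) L213709 L310536
theorem L310553 : sm gi N25174 = N36684 := rfl
theorem L310555 : sm gb N36684 = N25175 := ded_26_1 (flp_i L213726) L213718 L310553
theorem L310557 : sm gc N36684 = N25189 := ded_33_1 (flp_i L213830) (flp_c L213724) L310553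
theorem L310561 : sm gh N25175 = N36685 := rfl
theorem L310567 : sm gi N36685 = N25703 := ded_54_2 (flp_h L218158) (flp_i L150269) (flp_h L147298) L213726 L310561
theorem L310592 : sm ge N25178 = N36689 := rfl
theorem L310594 : sm gj N36689 = N25181 := ded_42_2 (flp_e L213771) (flp_j L213751) L310592
theorem L310596 : sm gh N36689 = N25707 := ded_43_2 (flp_e L218186) (flp_h L213753) L310592
theorem L310677 : sm gi N25185 = N36700 := rfl
theorem L310679 : sm gb N36700 = N25186 := ded_26_1 (flp_i L213808) L213800 L310677
theorem L310683 : sm gg N36700 = N25189 := ded_51_1 (flp_i L213830) (flp_g L213804) L310677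
theorem L310685 : sm gh N25186 = N36701 := rfl
theorem L310692 : sm gi N36701 = N25719 := ded_54_2 (flp_h L218274) (flp_i L150347) (flp_h L147364) L213808 L310685
theorem L310765 : sm gh N25192 = N36710 := rfl
theorem L310772 : sm gj N36710 = N25409 := ded_52_1 (flp_h L215792) (flp_j L213863) L310765
theorem L310775 : sm gi N25193 = N36711 := rfl
theorem L310777 : sm ga N36711 = N25200 := ded_18_1 (flp_i L213930) (flp_a L213868) L310775
theorem L310783 : sm gj N36711 = N25410 := ded_53_1 (flp_i L215800) (flp_j L213873) L310775
theorem L310825 : sm gd N25196 = N36716 := rfl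
theorem L310829 : sm gj N36716 = N25415 := ded_37_2 (flp_d L215845) (flp_j L213903) L310825
theorem L310832 : sm gh N36716 = N25218 := ded_38_2 (flp_d L214096) (flp_h L147541) (flp_d L147423) L213896 L310825
theorem L310851 : sm gh N25197 = N36719 := rfl
theorem L310853 : sm gb N36719 = N25203 := ded_25_1 (flp_h L213958) (flp_b L213907) L310851
theorem L310858 : sm gj N36719 = N25418 := ded_52_1 (flp_h L215869) (flp_j L213909) L310851
theorem L310939 : sm gi N25205 = N36729 := rfl
theorem L310944 : sm gf N36729 = N36729 := ded_48_1 (flp_i L310939) L213981 L310939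
theorem L311032 : sm gj N25211 = N36739 := rfl
theorem L311036 : sm gd N36739 = N25214 := ded_37_1 (flp_j L214061) (flp_d L214037) L311032
theorem L311050 : sm gi N25212 = N36741 := rfl
theorem L311057 : sm gj N36741 = N25440 := ded_53_1 (flp_i L216049) (flp_j L214047) L311050
theorem L311068 : sm gg N25215 = N36743 := rfl
theorem L311071 : sm gc N36743 = N25220 := ded_30_1 (flp_g L214114) (flp_c L214073) L311068
theorem L311073 : sm ge N36743 = N25216 := ded_41_1 (flp_g L214080) L214070 L311068
theorem L311096 : sm gh N25216 = N36746 := rfl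
theorem L311101 : sm gf N36746 = N36746 := ded_47_1 (flp_h L311096) L214086 L311096
theorem L311112 : sm gi N25217 = N36748 := rfl
theorem L311119 : sm gj N36748 = N25447 := ded_53_1 (flp_i L216103) (flp_j L214094) L311112
theorem L311131 : sm gi N25218 = N36750 := rfl
theorem L311135 : sm gd N36750 = N25219 := ded_39_1 (flp_i L214103) L214096 L311131
theorem L311174 : sm gi N25221 = N36755 := rfl
theorem L311182 : sm gj N36755 = N25454 := ded_53_1 (flp_i L216158) (flp_j L214129) L311174
theorem L311204 : sm gj N25225 = N36758 := rfl
theorem L311207 : sm ge N36758 = N36758 := ded_42_1 (flp_j L311204) L214163 L311204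
theorem L311211 : sm gh N25225 = N36759 := rfl
theorem L311215 : sm gf N36759 = N25227 := ded_47_1 (flp_h L214174) L214159 L311211
theorem L311233 : sm gi N25227 = N36762 := rfl
theorem L311236 : sm ge N36762 = N25231 := ded_44_1 (flp_i L214207) (flp_e L214177) L311233
theorem L311302 : sm gi N25233 = N36770 := rfl
theorem L311305 : sm gb N36770 = N25238 := ded_26_1 (flp_i L214270) (flp_b L214227) L311302
theorem L311311 : sm gd N25234 = N36771 := rfl
theorem L311313 : sm ga N36771 = N25244 := ded_12_1 (flp_d L214325) (flp_a L214234) L311311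
theorem L311482 : sm gj N25245 = N36790 := rfl
theorem L311490 : sm gg N36790 = N25489 := ded_49_1 (flp_j L216438) (flp_g L149101) (flp_j L147715) L214332 L311482
theorem L311492 : sm gh N25245 = N36791 := rfl
theorem L311499 : sm gg N36791 = N25246 := ded_50_1 (flp_h L214340) L214332 L311492
theorem L311501 : sm gd N25246 = N36792 := rfl
theorem L311504 : sm gj N36792 = N25491 := ded_37_2 (flp_d L216455) (flp_j L214347) L311501
theorem L311535 : sm gi N25248 = N36796 := rfl
theorem L311541 : sm gg N36796 = N25250 := ded_51_1 (flp_i L214377) (flp_g L214365) L311535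
theorem L311571 : sm gi N25251 = N36800 := rfl
theorem L311576 : sm ge N36800 = N25252 := ded_44_1 (flp_i L214396) L214387 L311571
theorem L311579 : sm gj N36800 = N25499 := ded_53_1 (flp_i L216516) (flp_j L214393) L311571
theorem L311639 : sm gi N25256 = N36808 := rfl
theorem L311645 : sm ge N36808 = N25310 := ded_44_1 (flp_i L214927) (flp_e L214435) L311639
theorem L311736 : sm gh N25266 = N36820 := rfl
theorem L311738 : sm ge N36820 = N25322 := ded_43_1 (flp_h L215027) (flp_e L214514) L311736
theorem L311740 : sm gj N36820 = N25519 := ded_52_1 (flp_h L216667) (flp_j L214516) L311736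
theorem L311839 : sm gi N25271 = N36830 := rfl
theorem L311841 : sm ga N36830 = N26174 := ded_18_1 (flp_i L222057) (flp_a L214562) L311839
theorem L311843 : sm gb N36830 = N25281 := ded_26_1 (flp_i L214664) (flp_b L214564) L311839
theorem L311930 : sm gd N25277 = N36839 := rfl
theorem L311935 : sm gg N36839 = N25278 := ded_36_2 (flp_d L214634) (flp_g L214632) L311930
theorem L311984 : sm gh N25281 = N36845 := rfl
theorem L311986 : sm ga N36845 = N25303 := ded_17_1 (flp_h L214869) (flp_a L214666) L311984
theorem L311989 : sm gj N36845 = N25544 := ded_52_1 (flp_h L216889) (flp_j L214671) L311984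
theorem L311991 : sm gd N36845 = N25347 := ded_38_1 (flp_h L215263) L148315 (flp_h L147921) (flp_d L214668) L311984
theorem L311994 : sm gj N25282 = N36846 := rfl
theorem L312001 : sm gi N36846 = N25348 := ded_53_2 (flp_j L215272) (flp_i L214677) L311994
theorem L312027 : sm gi N25284 = N36850 := rfl
theorem L312033 : sm gg N36850 = N25286 := ded_51_1 (flp_i L214706) (flp_g L214697) L312027
theorem L312053 : sm gi N25287 = N36853 := rfl
theorem L312055 : sm ga N36853 = N25311 := ded_18_1 (flp_i L214936) (flp_a L214719) L312053
theorem L312058 : sm gg N36853 = N25552 := ded_51_1 (flp_i L216953) (flp_g L214722) L312053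
theorem L312073 : sm gj N25289 = N36855 := rfl
theorem L312075 : sm gb N36855 = N26199 := ded_24_1 (flp_j L222303) (flp_b L214737) L312073
theorem L312080 : sm gi N36855 = N25357 := ded_53_2 (flp_j L215347) (flp_i L214742) L312073
theorem L312100 : sm gi N25290 = N36858 := rfl
theorem L312108 : sm gh N36858 = N25360 := ded_54_1 (flp_i L215372) (flp_h L148384) (flp_i L147975) L214744 L312100
theorem L312149 : sm gi N25293 = N36863 := rfl
theorem L312159 : sm gh N36863 = N25365 := ded_54_1 (flp_i L215417) (flp_h L148410) (flp_i L147986) L214774 L312149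
theorem L312353 : sm gi N25309 = N36886 := rfl
theorem L312355 : sm gc N36886 = N25310 := ded_33_1 (flp_i L214927) L214922 L312353
theorem L312396 : sm gc N25314 = N36891 := rfl
theorem L312398 : sm gf N36891 = N25318 := ded_29_2 (flp_c L214999) (flp_f L214968) L312396
theorem L312401 : sm gd N36891 = N26235 := ded_27_2 (flp_c L222605) (flp_d L153292) (flp_c L148132) L214966 L312396
theorem L312422 : sm gi N25316 = N36895 := rfl
theorem L312428 : sm gj N36895 = N25319 := ded_53_1 (flp_i L215005) (flp_j L214985) L312422
theorem L312436 : sm gi N25318 = N36897 := rfl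
theorem L312438 : sm gc N36897 = N25319 := ded_33_1 (flp_i L215005) L214999 L312436
theorem L312669 : sm gj N25333 = N36922 := rfl
theorem L312671 : sm ga N36922 = N25357 := ded_16_1 (flp_j L215347) (flp_a L215136) L312669
theorem L312676 : sm gg N36922 = N25621 := ded_49_1 (flp_j L217509) (flp_g L149826) (flp_j L148239) L215134 L312669
theorem L312815 : sm gf N25343 = N36938 := rfl
theorem L312820 : sm gj N36938 = N25637 := ded_46_2 (flp_f L217642) (flp_j L215229) L312815
theorem L312825 : sm gi N25343 = N36939 := rfl
theorem L312832 : sm gj N36939 = N25638 := ded_53_1 (flp_i L217650) (flp_j L215229) L312825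
theorem L312881 : sm gh N25348 = N36945 := rfl
theorem L312888 : sm gj N36945 = N25349 := ded_52_1 (flp_h L215279) L215272 L312881
theorem L312890 : sm gd N25349 = N36946 := rfl
theorem L312892 : sm ga N36946 = N25381 := ded_12_1 (flp_d L215566) (flp_a L215281) L312890
theorem L312956 : sm gh N25354 = N36954 := rfl
theorem L312958 : sm ga N36954 = N25389 := ded_17_1 (flp_h L215630) (flp_a L215322) L312956
theorem L312962 : sm gj N36954 = N25653 := ded_52_1 (flp_h L217768) (flp_j L215328) L312956
theorem L312964 : sm ge N25356 = N36955 := rfl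
theorem L312971 : sm gj N25356 = N36956 := rfl
theorem L312977 : sm gf N36956 = N25357 := ded_46_1 (flp_j L215347) L215340 L312971
theorem L312979 : sm gh N25356 = N36957 := rfl
theorem L312983 : sm gf N36957 = N25358 := ded_47_1 (flp_h L215356) L215340 L312979
theorem L313003 : sm gi N25358 = N36960 := rfl
theorem L313008 : sm gg N36960 = N25360 := ded_51_1 (flp_i L215372) (flp_g L215361) L313003
theorem L313045 : sm gh N25361 = N36965 := rfl
theorem L313049 : sm gc N36965 = N25380 := ded_32_1 (flp_h L215557) (flp_c L215384) L313045
theorem L313159 : sm gh N25368 = N36978 := rfl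
theorem L313164 : sm gj N36978 = N25677 := ded_52_1 (flp_h L217949) (flp_j L215449) L313159
theorem L313298 : sm gi N25380 = N36993 := rfl
theorem L313303 : sm gf N36993 = N25384 := ded_48_1 (flp_i L215590) (flp_f L215562) L313298
theorem L313319 : sm gi N25381 = N36996 := rfl
theorem L313321 : sm gb N36996 = N25395 := ded_26_1 (flp_i L215675) (flp_b L215568) L313319
theorem L313353 : sm gi N25385 = N37000 := rfl
theorem L313358 : sm gg N37000 = N25388 := ded_51_1 (flp_i L215622) (flp_g L215603) L313353
theorem L313385 : sm gh N25388 = N37004 := rfl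
theorem L313387 : sm gc N37004 = N25389 := ded_32_1 (flp_h L215630) (flp_c L215624) L313385
theorem L313391 : sm gj N37004 = N25703 := ded_52_1 (flp_h L218158) (flp_j L215628) L313385
theorem L313424 : sm gi N25391 = N37009 := rfl
theorem L313428 : sm gf N37009 = N25397 := ded_48_1 (flp_i L215691) (flp_f L215650) L313424
theorem L313445 : sm gi N25393 = N37012 := rfl
theorem L313449 : sm gd N37012 = N26356 := ded_39_1 (flp_i L223621) (flp_d L215668) L313445
theorem L313454 : sm gi N25394 = N37013 := rfl
theorem L313457 : sm ge N37013 = N25395 := ded_44_1 (flp_i L215675) L215670 L313454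
theorem L313486 : sm gh N25397 = N37017 := rfl
theorem L313489 : sm gg N37017 = N25716 := ded_50_1 (flp_h L218253) (flp_g L215696) L313486
theorem L313491 : sm gj N37017 = N25400 := ded_52_1 (flp_h L215716) (flp_j L215698) L313486
theorem L313621 : sm gj N25408 = N37033 := rfl
theorem L313628 : sm gf N37033 = N25732 := ded_46_1 (flp_j L218380) (flp_f L215790) L313621
theorem L313631 : sm gh N25408 = N37034 := rfl
theorem L313638 : sm gg N37034 = N25409 := ded_50_1 (flp_h L215792) L215782 L313631
theorem L313717 : sm gi N25415 = N37044 := rfl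
theorem L313723 : sm gg N37044 = N25743 := ded_51_1 (flp_i L218475) (flp_g L215848) L313717
theorem L313781 : sm gj N25422 = N37052 := rfl
theorem L313785 : sm ge N37052 = N25751 := ded_42_1 (flp_j L218539) (flp_e L215907) L313781
theorem L313790 : sm gh N25422 = N37053 := rfl
theorem L313796 : sm gf N37053 = N25424 := ded_47_1 (flp_h L215917) L215902 L313790
theorem L313807 : sm gd N25424 = N37055 := rfl
theorem L313810 : sm gg N37055 = N25425 := ded_36_2 (flp_d L215925) (flp_g L215923) L313807
theorem L313835 : sm gi N25427 = N37059 := rfl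
theorem L313840 : sm gf N37059 = N25758 := ded_48_1 (flp_i L218595) (flp_f L215942) L313835
theorem L313875 : sm gi N25430 = N37064 := rfl
theorem L313882 : sm gg N37064 = N25763 := ded_51_1 (flp_i L218633) (flp_g L215970) L313875
theorem L314013 : sm gi N25439 = N37080 := rfl
theorem L314020 : sm gg N37080 = N25440 := ded_51_1 (flp_i L216049) (flp_g L216046) L314013
theorem L314093 : sm gi N25445 = N37090 := rfl
theorem L314100 : sm gg N37090 = N25447 := ded_51_1 (flp_i L216103) (flp_g L216095) L314093
theorem L314157 : sm gh N25451 = N37098 := rfl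
theorem L314163 : sm gj N37098 = N25452 := ded_52_1 (flp_h L216143) L216136 L314157
theorem L314172 : sm gi N25452 = N37100 := rfl
theorem L314178 : sm gg N37100 = N25454 := ded_51_1 (flp_i L216158) (flp_g L216149) L314172
theorem L314315 : sm gh N25466 = N37119 := rfl
theorem L314318 : sm gb N37119 = N25474 := ded_25_1 (flp_h L216316) (flp_b L216254) L314315
theorem L314322 : sm gg N37119 = N25467 := ded_50_1 (flp_h L216260) L216251 L314315
theorem L314324 : sm gd N25467 = N37120 := rfl
theorem L314329 : sm gf N37120 = N25468 := ded_35_2 (flp_d L216267) (flp_f L216265) L314324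
theorem L314356 : sm gi N25468 = N37124 := rfl
theorem L314363 : sm gg N37124 = N25823 := ded_51_1 (flp_i L219120) (flp_g L216272) L314356
theorem L314410 : sm gi N25472 = N37131 := rfl
theorem L314414 : sm gc N37131 = N25483 := ded_33_1 (flp_i L216391) (flp_c L216302) L314410
theorem L314429 : sm gd N25474 = N37133 := rfl
theorem L314433 : sm gf N37133 = N25832 := ded_35_2 (flp_d L219195) (flp_f L216322) L314429
theorem L314543 : sm gi N25482 = N37146 := rfl
theorem L314547 : sm gd N37146 = N25483 := ded_39_1 (flp_i L216391) L216385 L314543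
theorem L314549 : sm ge N37146 = N25551 := ded_44_1 (flp_i L216946) (flp_e L216389) L314543
theorem L314551 : sm gi N25484 = N37147 := rfl
theorem L314555 : sm gd N37147 = N25552 := ded_39_1 (flp_i L216953) (flp_d L216406) L314551
theorem L314557 : sm gf N37147 = N25846 := ded_48_1 (flp_i L219316) (flp_f L216402) L314551
theorem L314581 : sm gd N25487 = N37151 := rfl
theorem L314584 : sm gh N37151 = N25491 := ded_38_2 (flp_d L216455) (flp_h L149109) L149096 L216426 L314581
theorem L314624 : sm gi N25490 = N37157 := rfl
theorem L314627 : sm gc N37157 = N25505 := ded_33_1 (flp_i L216567) (flp_c L216449) L314624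
theorem L314658 : sm gi N25493 = N37162 := rfl
theorem L314663 : sm gf N37162 = N25861 := ded_48_1 (flp_i L219428) (flp_f L216471) L314658
theorem L314726 : sm gh N25499 = N37170 := rfl
theorem L314729 : sm gc N37170 = N25575 := ded_32_1 (flp_h L217147) (flp_c L216519) L314726
theorem L314743 : sm gh N25501 = N37172 := rfl
theorem L314751 : sm gj N37172 = N25502 := ded_52_1 (flp_h L216543) L216534 L314743
theorem L314759 : sm gi N25502 = N37174 := rfl
theorem L314765 : sm gf N37174 = N25505 := ded_48_1 (flp_i L216567) (flp_f L216549) L314759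
theorem L314867 : sm gi N25513 = N37189 := rfl
theorem L314869 : sm gd N37189 = N25514 := ded_39_1 (flp_i L216632) L216626 L314867
theorem L314873 : sm gj N37189 = N25516 := ded_53_1 (flp_i L216647) (flp_j L216628) L314867
theorem L314916 : sm gc N25520 = N37196 := rfl
theorem L314922 : sm gi N37196 = N25601 := ded_33_2 (flp_c L217333) (flp_i L216679) L314916
theorem L314935 : sm gh N25520 = N37198 := rfl
theorem L314939 : sm gb N37198 = N25531 := ded_25_1 (flp_h L216777) (flp_b L216676) L314935
theorem L314954 : sm gj N25521 = N37200 := rfl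
theorem L314962 : sm gi N37200 = N25605 := ded_53_2 (flp_j L217365) (flp_i L216690) L314954
theorem L314964 : sm gh N25521 = N37201 := rfl
theorem L314972 : sm gg N37201 = N25522 := ded_50_1 (flp_h L216692) L216682 L314964
theorem L314981 : sm gi N25522 = N37203 := rfl
theorem L314990 : sm gh N37203 = N25608 := ded_54_1 (flp_i L217390) (flp_h L149753) (flp_i L149286) L216692 L314981
theorem L315074 : sm gi N25528 = N37213 := rfl
theorem L315078 : sm gb N37213 = N25543 := ded_26_1 (flp_i L216880) (flp_b L216752) L315074
theorem L315083 : sm gg N37213 = N25912 := ded_51_1 (flp_i L219857) (flp_g L216754) L315074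
theorem L315096 : sm gf N25530 = N37215 := rfl
theorem L315102 : sm gi N37215 = N25620 := ded_48_2 (flp_f L217502) (flp_i L216775) L315096
theorem L315105 : sm gj N25530 = N37216 := rfl
theorem L315112 : sm gi N37216 = N25621 := ded_53_2 (flp_j L217509) (flp_i L216775) L315105
theorem L315128 : sm gi N25531 = N37219 := rfl
theorem L315134 : sm gh N37219 = N25624 := ded_54_1 (flp_i L217530) (flp_h L149833) (flp_i L149333) L216777 L315128
theorem L315258 : sm gh N25541 = N37234 := rfl
theorem L315262 : sm gf N37234 = N25544 := ded_47_1 (flp_h L216889) (flp_f L216872) L315258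
theorem L315300 : sm gh N25545 = N37239 := rfl
theorem L315306 : sm gf N37239 = N25547 := ded_47_1 (flp_h L216917) (flp_f L216904) L315300
theorem L315494 : sm gi N25560 = N37263 := rfl
theorem L315504 : sm gh N37263 = N25668 := ded_54_1 (flp_i L217883) (flp_h L150068) (flp_i L149500) L217026 L315494
theorem L315676 : sm gd N25577 = N37286 := rfl
theorem L315678 : sm gb N37286 = N25588 := ded_20_1 (flp_d L217247) (flp_b L217167) L315676
theorem L315680 : sm gf N37286 = N25580 := ded_35_2 (flp_d L217193) (flp_f L217171) L315676
theorem L315721 : sm gi N25580 = N37292 := rfl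
theorem L315727 : sm gj N37292 = N25583 := ded_53_1 (flp_i L217213) (flp_j L217197) L315721
theorem L315735 : sm gi N25582 = N37294 := rfl
theorem L315737 : sm gc N37294 = N25583 := ded_33_1 (flp_i L217213) L217209 L315735
theorem L315771 : sm gi N25587 = N37300 := rfl
theorem L315780 : sm gh N37300 = N25705 := ded_54_1 (flp_i L218169) (flp_h L150281) (flp_i L149665) L217238 L315771
theorem L315832 : sm gh N25592 = N37308 := rfl
theorem L315837 : sm gd N37308 = N25713 := ded_38_1 (flp_h L218232) L150321 (flp_h L149692) (flp_d L217279) L315832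
theorem L315845 : sm gi N25593 = N37310 := rfl
theorem L315849 : sm gd N37310 = N26482 := ded_39_1 (flp_i L224611) (flp_d L217288) L315845
theorem L315905 : sm gh N25601 = N37319 := rfl
theorem L315907 : sm ga N37319 = N26491 := ded_17_1 (flp_h L224672) (flp_a L217335) L315905
theorem L316190 : sm ge N25620 = N37350 := rfl
theorem L316195 : sm gd N37350 = N26048 := ded_34_1 (flp_e L221003) L152162 (flp_e L149845) (flp_d L217506) L316190
theorem L316319 : sm ge N25628 = N37366 := rfl
theorem L316323 : sm gg N37366 = N25631 := ded_41_2 (flp_e L217590) (flp_g L217571) L316319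
theorem L316327 : sm gi N25628 = N37367 := rfl
theorem L316333 : sm gg N37367 = N25632 := ded_51_1 (flp_i L217596) (flp_g L217571) L316327
theorem L316347 : sm gi N25630 = N37370 := rfl
theorem L316351 : sm gc N37370 = N25632 := ded_33_1 (flp_i L217596) L217583 L316347
theorem L316356 : sm gf N25631 = N37371 := rfl
theorem L316360 : sm gd N37371 = N25637 := ded_35_1 (flp_f L217642) (flp_d L217594) L316356
theorem L316447 : sm gj N25640 = N37382 := rfl
theorem L316453 : sm gf N37382 = N26080 := ded_46_1 (flp_j L221270) (flp_f L217672) L316447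
theorem L316456 : sm gi N25640 = N37383 := rfl
theorem L316464 : sm gg N37383 = N25641 := ded_51_1 (flp_i L217674) L217665 L316456
theorem L316466 : sm gh N25641 = N37384 := rfl
theorem L316471 : sm gf N37384 = N25642 := ded_47_1 (flp_h L217682) (flp_f L217680) L316466
theorem L316540 : sm gi N25647 = N37393 := rfl
theorem L316544 : sm gd N37393 = N25648 := ded_39_1 (flp_i L217732) L217725 L316540
theorem L316590 : sm gj N25654 = N37400 := rfl
theorem L316594 : sm gd N37400 = N26097 := ded_37_1 (flp_j L221412) (flp_d L217779) L316590
theorem L316646 : sm gi N25657 = N37407 := rfl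
theorem L316651 : sm gj N37407 = N25659 := ded_53_1 (flp_i L217812) (flp_j L217802) L316646
theorem L316668 : sm gi N25658 = N37410 := rfl
theorem L316672 : sm gd N37410 = N25659 := ded_39_1 (flp_i L217812) L217804 L316668
theorem L316709 : sm gh N25662 = N37416 := rfl
theorem L316711 : sm gb N37416 = N26587 := ded_25_1 (flp_h L225433) (flp_b L217833) L316709
theorem L316714 : sm gi N37416 = N25677 := ded_54_2 (flp_h L217949) (flp_i L150105) (flp_h L150039) L217831 L316709
theorem L316716 : sm gh N25663 = N37417 := rfl
theorem L316720 : sm gc N37417 = N25690 := ded_32_1 (flp_h L218060) (flp_c L217842) L316716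
theorem L316735 : sm gi N25664 = N37419 := rfl
theorem L316743 : sm gf N37419 = N25668 := ded_48_1 (flp_i L217883) (flp_f L217855) L316735
theorem L316800 : sm ge N25669 = N37427 := rfl
theorem L316804 : sm gg N37427 = N25673 := ded_41_2 (flp_e L217922) (flp_g L217895) L316800
theorem L316807 : sm gi N25669 = N37428 := rfl
theorem L316811 : sm gd N37428 = N25699 := ded_39_1 (flp_i L218130) (flp_d L217897) L316807
theorem L316844 : sm ge N25672 = N37433 := rfl
theorem L316846 : sm gb N37433 = N25673 := ded_21_1 (flp_e L217922) L217915 L316844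
theorem L316851 : sm gi N25672 = N37434 := rfl
theorem L316857 : sm gd N37434 = N25702 := ded_39_1 (flp_i L218150) (flp_d L217917) L316851
theorem L316919 : sm gh N25679 = N37443 := rfl
theorem L316924 : sm gf N37443 = N26135 := ded_47_1 (flp_h L221729) (flp_f L217969) L316919
theorem L317025 : sm gd N25690 = N37455 := rfl
theorem L317029 : sm gg N37455 = N25691 := ded_36_2 (flp_d L218069) (flp_g L218066) L317025
theorem L317032 : sm gi N25690 = N37456 := rfl
theorem L317034 : sm gb N37456 = N25705 := ded_26_1 (flp_i L218169) (flp_b L218062) L317032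
theorem L317056 : sm gi N25691 = N37459 := rfl
theorem L317064 : sm gj N37459 = N25695 := ded_53_1 (flp_i L218100) (flp_j L218075) L317056
theorem L317096 : sm gh N25695 = N37464 := rfl
theorem L317100 : sm gf N37464 = N25700 := ded_47_1 (flp_h L218137) (flp_f L218106) L317096
theorem L317110 : sm gi N25696 = N37466 := rfl
theorem L317115 : sm gj N37466 = N25699 := ded_53_1 (flp_i L218130) (flp_j L218112) L317110
theorem L317117 : sm gh N25697 = N37467 := rfl
theorem L317119 : sm gb N37467 = N25716 := ded_25_1 (flp_h L218253) (flp_b L218116) L317117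
theorem L317122 : sm gj N37467 = N25700 := ded_52_1 (flp_h L218137) (flp_j L218121) L317117
theorem L317213 : sm gi N25707 = N37480 := rfl
theorem L317215 : sm gd N37480 = N26162 := ded_39_1 (flp_i L221954) (flp_d L218190) L317213
theorem L317289 : sm gh N25715 = N37490 := rfl
theorem L317291 : sm gc N37490 = N25716 := ded_32_1 (flp_h L218253) (flp_c L218246) L317289
theorem L317427 : sm gd N25727 = N37507 := rfl
theorem L317431 : sm gf N37507 = N25728 := ded_35_2 (flp_d L218345) (flp_f L218342) L317427
theorem L317435 : sm gh N37507 = N25769 := ded_38_2 (flp_d L218687) (flp_h L150621) (flp_d L150396) L218336 L317427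
theorem L317447 : sm ge N25728 = N37509 := rfl
theorem L317449 : sm ga N37509 = N25742 := ded_13_1 (flp_e L218467) (flp_a L218347) L317447
theorem L317500 : sm gi N25731 = N37515 := rfl
theorem L317502 : sm ga N37515 = N25748 := ded_18_1 (flp_i L218514) (flp_a L218373) L317500
theorem L317505 : sm ge N37515 = N25734 := ded_44_1 (flp_i L218397) (flp_e L218376) L317500
theorem L317510 : sm gh N25732 = N37516 := rfl
theorem L317512 : sm ga N37516 = N25749 := ded_17_1 (flp_h L218523) (flp_a L218382) L317510
theorem L317528 : sm gg N25735 = N37518 := rfl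
theorem L317532 : sm gd N37518 = N25736 := ded_36_1 (flp_g L218416) L218407 L317528
theorem L317534 : sm ge N37518 = N25780 := ded_41_1 (flp_g L218781) (flp_e L218414) L317528
theorem L317585 : sm gh N25738 = N37525 := rfl
theorem L317588 : sm gc N37525 = N25749 := ded_32_1 (flp_h L218523) (flp_c L218436) L317585
theorem L317590 : sm gg N37525 = N37525 := ded_50_1 (flp_h L317585) L218441 L317585
theorem L317641 : sm gh N25743 = N37532 := rfl
theorem L317647 : sm gi N37532 = N25794 := ded_54_2 (flp_h L218890) (flp_i L150750) (flp_h L150483) L218475 L317641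
theorem L317803 : sm gd N25759 = N37552 := rfl
theorem L317808 : sm gf N37552 = N25814 := ded_35_2 (flp_d L219049) (flp_f L218611) L317803
theorem L317820 : sm gh N25759 = N37554 := rfl
theorem L317823 : sm gb N37554 = N25766 := ded_25_1 (flp_h L218660) (flp_b L218607) L317820
theorem L317844 : sm gd N25761 = N37557 := rfl
theorem L317847 : sm gb N37557 = N25769 := ded_20_1 (flp_d L218687) (flp_b L218622) L317844
theorem L317849 : sm gf N37557 = N25762 := ded_35_2 (flp_d L218627) (flp_f L218624) L317844
theorem L317874 : sm gi N25762 = N37561 := rfl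
theorem L317879 : sm gd N37561 = N25763 := ded_39_1 (flp_i L218633) L218627 L317874
theorem L318073 : sm gi N25778 = N37584 := rfl
theorem L318075 : sm ga N37584 = N25802 := ded_18_1 (flp_i L218955) (flp_a L218767) L318073
theorem L318082 : sm gf N25780 = N37585 := rfl
theorem L318089 : sm gg N37585 = N25847 := ded_45_2 (flp_f L219326) (flp_g L151050) (flp_f L150690) L218781 L318082
theorem L318129 : sm gh N25782 = N37591 := rfl
theorem L318134 : sm gf N37591 = N25784 := ded_47_1 (flp_h L218812) L218795 L318129
theorem L318136 : sm gg N37591 = N25853 := ded_50_1 (flp_h L219370) (flp_g L218801) L318129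
theorem L318153 : sm gi N25784 = N37594 := rfl
theorem L318156 : sm gc N37594 = N25799 := ded_33_1 (flp_i L218929) (flp_c L218815) L318153
theorem L318191 : sm gi N25787 = N37599 := rfl
theorem L318194 : sm gc N37599 = N25802 := ded_33_1 (flp_i L218955) (flp_c L218841) L318191
theorem L318318 : sm gi N25798 = N37615 := rfl
theorem L318322 : sm gd N37615 = N25799 := ded_39_1 (flp_i L218929) L218921 L318318
theorem L318369 : sm gi N25804 = N37621 := rfl
theorem L318372 : sm gf N37621 = N25808 := ded_48_1 (flp_i L219001) (flp_f L218975) L318369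
theorem L318374 : sm gj N37621 = N25806 := ded_53_1 (flp_i L218986) (flp_j L218977) L318369
theorem L318470 : sm gg N25814 = N37634 := rfl
theorem L318473 : sm gb N37634 = N25824 := ded_23_1 (flp_g L219128) (flp_b L219052) L318470
theorem L318575 : sm ge N25821 = N37647 := rfl
theorem L318580 : sm gc N37647 = N25822 := ded_28_1 (flp_e L219113) L219106 L318575
theorem L318599 : sm gi N25822 = N37650 := rfl
theorem L318604 : sm ge N37650 = N25823 := ded_44_1 (flp_i L219120) L219113 L318599
theorem L318673 : sm gh N25827 = N37659 := rfl
theorem L318679 : sm ge N37659 = N25831 := ded_43_1 (flp_h L219186) (flp_e L219157) L318673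
theorem L318682 : sm gj N37659 = N25828 := ded_52_1 (flp_h L219161) L219151 L318673
theorem L318690 : sm gi N25828 = N37661 := rfl
theorem L318694 : sm gc N37661 = N25843 := ded_33_1 (flp_i L219290) (flp_c L219165) L318690
theorem L318856 : sm gi N25841 = N37680 := rfl
theorem L318860 : sm ge N37680 = N25846 := ded_44_1 (flp_i L219316) (flp_e L219276) L318856
theorem L318863 : sm gj N37680 = N25843 := ded_53_1 (flp_i L219290) (flp_j L219279) L318856
theorem L318875 : sm gi N25842 = N37682 := rfl
theorem L318879 : sm gd N37682 = N25843 := ded_39_1 (flp_i L219290) L219281 L318875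
theorem L318883 : sm gg N37682 = N25845 := ded_51_1 (flp_i L219307) (flp_g L219285) L318875
theorem L318900 : sm gh N25845 = N37685 := rfl
theorem L318904 : sm ge N37685 = N25947 := ded_43_1 (flp_h L220157) (flp_e L219313) L318900
theorem L318915 : sm gj N25847 = N37687 := rfl
theorem L318919 : sm gd N37687 = N25852 := ded_37_1 (flp_j L219362) (flp_d L219330) L318915
theorem L318979 : sm gh N25852 = N37696 := rfl
theorem L318986 : sm gj N37696 = N25853 := ded_52_1 (flp_h L219370) L219362 L318979
theorem L319313 : sm ge N25882 = N37739 := rfl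
theorem L319315 : sm gj N37739 = N25885 := ded_42_2 (flp_e L219621) (flp_j L219604) L319313
theorem L319318 : sm gf N37739 = N26001 := ded_40_2 (flp_e L220597) L151895 (flp_e L151260) (flp_f L219602) L319313
theorem L319320 : sm gi N25882 = N37740 := rfl
theorem L319322 : sm gd N37740 = N25883 := ded_39_1 (flp_i L219607) L219600 L319320
theorem L319326 : sm gj N37740 = N25886 := ded_53_1 (flp_i L219626) (flp_j L219604) L319320
theorem L319348 : sm gi N25885 = N37744 := rfl
theorem L319350 : sm ge N37744 = N25886 := ded_44_1 (flp_i L219626) L219621 L319348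
theorem L319369 : sm gi N25887 = N37747 := rfl
theorem L319371 : sm gc N37747 = N25888 := ded_33_1 (flp_i L219641) L219632 L319369
theorem L319377 : sm gj N37747 = N25890 := ded_53_1 (flp_i L219658) (flp_j L219637) L319369
theorem L319396 : sm gi N25889 = N37750 := rfl
theorem L319401 : sm ge N37750 = N26012 := ded_44_1 (flp_i L220678) (flp_e L219653) L319396
theorem L319403 : sm gg N37750 = N25893 := ded_51_1 (flp_i L219682) (flp_g L219655) L319396
theorem L319414 : sm gi N25892 = N37752 := rfl
theorem L319416 : sm ga N37752 = N25893 := ded_18_1 (flp_i L219682) L219675 L319414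
theorem L319575 : sm gi N25901 = N37769 := rfl
theorem L319577 : sm ga N37769 = N26673 := ded_18_1 (flp_i L226084) (flp_a L219760) L319575
theorem L319579 : sm gb N37769 = N25926 := ded_26_1 (flp_i L219987) (flp_b L219762) L319575
theorem L319585 : sm gd N25903 = N37770 := rfl
theorem L319592 : sm gj N37770 = N25904 := ded_37_2 (flp_d L219787) (flp_j L219785) L319585
theorem L319595 : sm gi N25903 = N37771 := rfl
theorem L319604 : sm gh N37771 = N26032 := ded_54_1 (flp_i L220856) (flp_h L152059) (flp_i L151348) L219778 L319595
theorem L319668 : sm gh N25908 = N37779 := rfl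
theorem L319674 : sm gf N37779 = N25913 := ded_47_1 (flp_h L219867) (flp_f L219830) L319668
theorem L319729 : sm gh N25912 = N37786 := rfl
theorem L319735 : sm ge N37786 = N25913 := ded_43_1 (flp_h L219867) (flp_e L219864) L319729
theorem L319739 : sm ge N25914 = N37787 := rfl
theorem L319745 : sm gi N37787 = N26048 := ded_44_2 (flp_e L221003) (flp_i L219884) L319739
theorem L319748 : sm gj N25914 = N37788 := rfl
theorem L319757 : sm gi N37788 = N26049 := ded_53_2 (flp_j L221010) (flp_i L219884) L319748
theorem L319776 : sm gd N25916 = N37791 := rfl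
theorem L319782 : sm gh N37791 = N25922 := ded_38_2 (flp_d L219954) (flp_h L151442) (flp_d L151409) L219898 L319776
theorem L319784 : sm gi N25916 = N37792 := rfl
theorem L319792 : sm gh N37792 = N26053 := ded_54_1 (flp_i L221044) (flp_h L152174) (flp_i L151412) L219898 L319784
theorem L319819 : sm gg N25919 = N37796 := rfl
theorem L319821 : sm ga N37796 = N25957 := ded_15_1 (flp_g L220244) (flp_a L219926) L319819
theorem L319825 : sm gi N37796 = N26057 := ded_51_2 (flp_g L221077) (flp_i L219932) L319819
theorem L319864 : sm gi N25921 = N37801 := rfl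
theorem L319875 : sm gh N37801 = N26062 := ded_54_1 (flp_i L221118) (flp_h L152215) (flp_i L151439) L219943 L319864
theorem L319893 : sm gi N25922 = N37804 := rfl
theorem L319899 : sm gg N37804 = N25926 := ded_51_1 (flp_i L219987) (flp_g L219958) L319893
theorem L320093 : sm gc N25941 = N37829 := rfl
theorem L320095 : sm ga N37829 = N25990 := ded_11_1 (flp_c L220512) (flp_a L220112) L320093
theorem L320098 : sm gj N37829 = N25943 := ded_31_2 (flp_c L220129) (flp_j L220115) L320093
theorem L320101 : sm gi N25941 = N37830 := rfl
theorem L320103 : sm ga N37830 = N25991 := ded_18_1 (flp_i L220518) (flp_a L220112) L320101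
theorem L320115 : sm gi N25943 = N37832 := rfl
theorem L320119 : sm gc N37832 = N25944 := ded_33_1 (flp_i L220136) L220129 L320115
theorem L320123 : sm gh N25944 = N37833 := rfl
theorem L320127 : sm gg N37833 = N25947 := ded_50_1 (flp_h L220157) (flp_g L220142) L320123
theorem L320173 : sm gg N25949 = N37839 := rfl
theorem L320178 : sm gd N37839 = N25957 := ded_36_1 (flp_g L220244) (flp_d L220180) L320173
theorem L320180 : sm gi N37839 = N26099 := ded_51_2 (flp_g L221429) (flp_i L220184) L320173
theorem L320296 : sm gh N25956 = N37853 := rfl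
theorem L320304 : sm gi N37853 = N25971 := ded_54_2 (flp_h L220362) (flp_i L151708) (flp_h L151635) L220236 L320296
theorem L320336 : sm gc N25959 = N37857 := rfl
theorem L320338 : sm gf N37857 = N25963 := ded_29_2 (flp_c L220302) (flp_f L220268) L320336
theorem L320341 : sm gd N37857 = N25987 := ded_27_2 (flp_c L220491) (flp_d L151814) (flp_c L151661) L220264 L320336
theorem L320396 : sm gi N25963 = N37865 := rfl
theorem L320402 : sm gg N37865 = N25968 := ded_51_1 (flp_i L220337) (flp_g L220304) L320396
theorem L320466 : sm gh N25968 = N37874 := rfl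
theorem L320468 : sm gc N37874 = N25971 := ded_32_1 (flp_h L220362) (flp_c L220339) L320466
theorem L320479 : sm gi N25969 = N37876 := rfl
theorem L320483 : sm gd N37876 = N25978 := ded_39_1 (flp_i L220416) (flp_d L220349) L320479
theorem L320486 : sm gf N37876 = N25970 := ded_48_1 (flp_i L220353) L220345 L320479
theorem L320512 : sm gh N25973 = N37880 := rfl
theorem L320519 : sm gd N37880 = N26135 := ded_38_1 (flp_h L221729) L152641 (flp_h L151733) (flp_d L220382) L320512
theorem L320544 : sm gj N25977 = N37884 := rfl
theorem L320548 : sm ge N37884 = N25980 := ded_42_1 (flp_j L220433) (flp_e L220413) L320544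
theorem L320578 : sm gi N25980 = N37888 := rfl
theorem L320584 : sm gj N37888 = N25981 := ded_53_1 (flp_i L220440) L220433 L320578
theorem L320586 : sm gh N25981 = N37889 := rfl
theorem L320590 : sm gg N37889 = N25982 := ded_50_1 (flp_h L220447) (flp_g L220445) L320586
theorem L320593 : sm gd N25982 = N37890 := rfl
theorem L320595 : sm gb N37890 = N26792 := ded_20_1 (flp_d L227029) (flp_b L220449) L320593
theorem L320628 : sm gc N25985 = N37894 := rfl
theorem L320630 : sm gf N37894 = N25990 := ded_29_2 (flp_c L220512) (flp_f L220476) L320628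
theorem L320632 : sm gj N37894 = N25987 := ded_31_2 (flp_c L220491) (flp_j L220478) L320628
theorem L320705 : sm gh N25991 = N37904 := rfl
theorem L320710 : sm gj N37904 = N25994 := ded_52_1 (flp_h L220540) (flp_j L220525) L320705
theorem L320784 : sm gb N26000 = N37914 := rfl
theorem L320786 : sm gd N37914 = N26811 := ded_20_2 (flp_b L227198) (flp_d L220595) L320784
theorem L320788 : sm gf N37914 = N26008 := ded_22_2 (flp_b L220646) (flp_f L220590) L320784
theorem L320800 : sm gi N26000 = N37916 := rfl
theorem L320806 : sm gf N37916 = N26009 := ded_48_1 (flp_i L220654) (flp_f L220590) L320800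
theorem L320909 : sm gh N26012 = N37930 := rfl
theorem L320913 : sm gg N37930 = N26015 := ded_50_1 (flp_h L220702) (flp_g L220684) L320909
theorem L320925 : sm gf N26016 = N37932 := rfl
theorem L320927 : sm ga N37932 = N26823 := ded_14_1 (flp_f L227293) (flp_a L220712) L320925
theorem L320942 : sm gh N26016 = N37934 := rfl
theorem L320950 : sm gg N37934 = N26017 := ded_50_1 (flp_h L220718) L220710 L320942
theorem L320952 : sm gd N26017 = N37935 := rfl
theorem L320954 : sm ga N37935 = N26826 := ded_12_1 (flp_d L227317) (flp_a L220720) L320952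
theorem L320959 : sm gi N26017 = N37936 := rfl
theorem L320961 : sm ga N37936 = N26827 := ded_18_1 (flp_i L227323) (flp_a L220720) L320959
theorem L320964 : sm gc N37936 = N26022 := ded_33_1 (flp_i L220766) (flp_c L220723) L320959
theorem L321053 : sm gg N26023 = N37946 := rfl
theorem L321055 : sm ga N37946 = N26837 := ded_15_1 (flp_g L227399) (flp_a L220777) L321053
theorem L321057 : sm gb N37946 = N26057 := ded_23_1 (flp_g L221077) (flp_b L220779) L321053
theorem L321135 : sm gb N26028 = N37955 := rfl
theorem L321140 : sm gc N37955 = N26066 := ded_19_2 (flp_b L221153) (flp_c L152242) (flp_b L152045) L220821 L321135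
theorem L321142 : sm ge N26028 = N37956 := rfl
theorem L321144 : sm ga N37956 = N26846 := ded_13_1 (flp_e L227464) (flp_a L220823) L321142
theorem L321454 : sm gh N26049 = N37990 := rfl
theorem L321456 : sm ga N37990 = N26100 := ded_17_1 (flp_h L221438) (flp_a L221012) L321454
theorem L321461 : sm gj N37990 = N26050 := ded_52_1 (flp_h L221019) L221010 L321454
theorem L321463 : sm gd N26050 = N37991 := rfl
theorem L321470 : sm gh N37991 = N26059 := ded_38_2 (flp_d L221095) (flp_h L152206) (flp_d L152162) L221019 L321463
theorem L321524 : sm gb N26054 = N37998 := rfl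
theorem L321529 : sm gh N37998 = N26066 := ded_25_2 (flp_b L221153) (flp_h L221058) L321524
theorem L321617 : sm gi N26059 = N38009 := rfl
theorem L321619 : sm ga N38009 = N26118 := ded_18_1 (flp_i L221589) (flp_a L221097) L321617
theorem L321855 : sm gi N26080 = N38037 := rfl
theorem L321857 : sm ga N38037 = N26143 := ded_18_1 (flp_i L221798) (flp_a L221272) L321855
theorem L321898 : sm gi N26084 = N38042 := rfl
theorem L321903 : sm gg N38042 = N26086 := ded_51_1 (flp_i L221319) (flp_g L221307) L321898
theorem L321940 : sm ge N26087 = N38047 := rfl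
theorem L321944 : sm gc N38047 = N26088 := ded_28_1 (flp_e L221335) L221327 L321940
theorem L321949 : sm gi N26087 = N38048 := rfl
theorem L321951 : sm ga N38048 = N26153 := ded_18_1 (flp_i L221881) (flp_a L221329) L321949
theorem L322019 : sm gh N26095 = N38056 := rfl
theorem L322022 : sm gb N38056 = N26096 := ded_25_1 (flp_h L221402) (flp_b L221397) L322019
theorem L322043 : sm gh N26097 = N38059 := rfl
theorem L322048 : sm ge N38059 = N26100 := ded_43_1 (flp_h L221438) (flp_e L221417) L322043
theorem L322068 : sm gh N26099 = N38062 := rfl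
theorem L322074 : sm gg N38062 = N26100 := ded_50_1 (flp_h L221438) L221429 L322068
theorem L322130 : sm ge N26103 = N38069 := rfl
theorem L322137 : sm gh N38069 = N26120 := ded_43_2 (flp_e L221606) (flp_h L221471) L322130
theorem L322166 : sm gf N26106 = N38073 := rfl
theorem L322168 : sm gb N38073 = N26929 := ded_22_1 (flp_f L228172) (flp_b L221492) L322166
theorem L322171 : sm gh N38073 = N26124 := ded_47_2 (flp_f L221641) (flp_h L221496) L322166
theorem L322214 : sm gh N26109 = N38079 := rfl
theorem L322221 : sm gi N38079 = N26129 := ded_54_2 (flp_h L221680) (flp_i L152595) (flp_h L152493) L221515 L322214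
theorem L322223 : sm gg N26110 = N38080 := rfl
theorem L322225 : sm gb N38080 = N26932 := ded_23_1 (flp_g L228193) (flp_b L221525) L322223
theorem L322267 : sm gc N26114 = N38085 := rfl
theorem L322269 : sm gf N38085 = N26119 := ded_29_2 (flp_c L221598) (flp_f L221562) L322267
theorem L322271 : sm gj N38085 = N26116 := ded_31_2 (flp_c L221576) (flp_j L221564) L322267
theorem L322292 : sm ge N26116 = N38088 := rfl
theorem L322295 : sm gc N38088 = N26117 := ded_28_1 (flp_e L221584) L221576 L322292
theorem L322314 : sm gi N26117 = N38091 := rfl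
theorem L322318 : sm ge N38091 = N26118 := ded_44_1 (flp_i L221589) L221584 L322314
theorem L322337 : sm gi N26119 = N38094 := rfl
theorem L322345 : sm gj N38094 = N26123 := ded_53_1 (flp_i L221632) (flp_j L221601) L322337
theorem L322355 : sm gi N26120 = N38096 := rfl
theorem L322364 : sm gj N38096 = N26125 := ded_53_1 (flp_i L221647) (flp_j L221611) L322355
theorem L322366 : sm gh N26121 = N38097 := rfl
theorem L322368 : sm gb N38097 = N26944 := ded_25_1 (flp_h L228279) (flp_b L221617) L322366
theorem L322371 : sm gj N38097 = N26126 := ded_52_1 (flp_h L221657) (flp_j L221622) L322366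
theorem L322389 : sm gh N26123 = N38100 := rfl
theorem L322392 : sm gc N38100 = N26126 := ded_32_1 (flp_h L221657) (flp_c L221635) L322389
theorem L322394 : sm gg N38100 = N26129 := ded_50_1 (flp_h L221680) (flp_g L221639) L322389
theorem L322404 : sm gi N26124 = N38102 := rfl
theorem L322410 : sm gf N38102 = N26125 := ded_48_1 (flp_i L221647) L221641 L322404
theorem L322460 : sm gi N26130 = N38109 := rfl
theorem L322464 : sm gd N38109 = N26140 := ded_39_1 (flp_i L221772) (flp_d L221691) L322460
theorem L322467 : sm gg N38109 = N26131 := ded_51_1 (flp_i L221694) L221687 L322460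
theorem L322576 : sm gh N26143 = N38123 := rfl
theorem L322582 : sm gj N38123 = N26144 := ded_52_1 (flp_h L221807) (flp_j L221805) L322576
theorem L322660 : sm gi N26150 = N38133 := rfl
theorem L322662 : sm gb N38133 = N26162 := ded_26_1 (flp_i L221954) (flp_b L221857) L322660
theorem L322669 : sm gh N26151 = N38134 := rfl
theorem L322671 : sm gb N38134 = N26163 := ded_25_1 (flp_h L221962) (flp_b L221865) L322669
theorem L322675 : sm gj N38134 = N26155 := ded_52_1 (flp_h L221897) (flp_j L221871) L322669
theorem L322683 : sm gi N26152 = N38136 := rfl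
theorem L322686 : sm gc N38136 = N26154 := ded_33_1 (flp_i L221889) (flp_c L221876) L322683
theorem L322688 : sm ge N38136 = N26153 := ded_44_1 (flp_i L221881) L221873 L322683
theorem L322755 : sm gh N26162 = N38145 := rfl
theorem L322761 : sm gj N38145 = N26164 := ded_52_1 (flp_h L221970) (flp_j L221960) L322755
theorem L322813 : sm gh N26166 = N38152 := rfl
theorem L322815 : sm gb N38152 = N26179 := ded_25_1 (flp_h L222107) (flp_b L221990) L322813
theorem L322848 : sm gd N26169 = N38156 := rfl
theorem L322850 : sm gb N38156 = N26183 := ded_20_1 (flp_d L222148) (flp_b L222017) L322848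
theorem L322890 : sm ge N26172 = N38161 := rfl
theorem L322896 : sm gj N38161 = N26382 := ded_42_2 (flp_e L223826) (flp_j L222044) L322890
theorem L322935 : sm gf N26175 = N38166 := rfl
theorem L322937 : sm ga N38166 = N26198 := ded_14_1 (flp_f L222295) (flp_a L222068) L322935
theorem L322942 : sm gi N38166 = N26265 := ded_48_2 (flp_f L222841) (flp_i L222074) L322935
theorem L322974 : sm gi N26176 = N38170 := rfl
theorem L322983 : sm gh N38170 = N26269 := ded_54_1 (flp_i L222876) (flp_h L153450) (flp_i L152923) L222076 L322974
theorem L323024 : sm gi N26179 = N38175 := rfl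
theorem L323026 : sm ga N38175 = N26207 := ded_18_1 (flp_i L222366) (flp_a L222109) L323024
theorem L323034 : sm gh N38175 = N26274 := ded_54_1 (flp_i L222922) (flp_h L153477) (flp_i L152935) L222107 L323024
theorem L323202 : sm gd N26192 = N38193 := rfl
theorem L323206 : sm gg N38193 = N26414 := ded_36_2 (flp_d L224112) (flp_g L222242) L323202
theorem L323258 : sm gh N26196 = N38199 := rfl
theorem L323264 : sm gj N38199 = N26420 := ded_52_1 (flp_h L224160) (flp_j L222281) L323258
theorem L323286 : sm gh N26198 = N38202 := rfl
theorem L323289 : sm gf N38202 = N26200 := ded_47_1 (flp_h L222313) L222295 L323286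
theorem L323292 : sm gh N26199 = N38203 := rfl
theorem L323298 : sm gj N38203 = N26200 := ded_52_1 (flp_h L222313) L222303 L323292
theorem L323329 : sm gi N26201 = N38208 := rfl
theorem L323334 : sm gj N38208 = N26429 := ded_53_1 (flp_i L224224) (flp_j L222322) L323329
theorem L323444 : sm gh N26210 = N38223 := rfl
theorem L323447 : sm gj N38223 = N26444 := ded_52_1 (flp_h L224324) (flp_j L222394) L323444
theorem L323474 : sm gi N26213 = N38227 := rfl
theorem L323477 : sm ge N38227 = N26214 := ded_44_1 (flp_i L222422) L222416 L323474
theorem L323481 : sm gh N26214 = N38228 := rfl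
theorem L323487 : sm gd N38228 = N26327 := ded_38_1 (flp_h L223371) L153784 (flp_h L153159) (flp_d L222425) L323481
theorem L323564 : sm gi N26222 = N38238 := rfl
theorem L323573 : sm gh N38238 = N26337 := ded_54_1 (flp_i L223457) (flp_h L153850) (flp_i L153209) L222489 L323564
theorem L323581 : sm ge N26223 = N38240 := rfl
theorem L323583 : sm gb N38240 = N26236 := ded_21_1 (flp_e L222611) (flp_b L222500) L323581
theorem L323606 : sm gi N26225 = N38243 := rfl
theorem L323613 : sm gg N38243 = N26464 := ded_51_1 (flp_i L224475) (flp_g L222520) L323606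
theorem L323710 : sm gb N26235 = N38255 := rfl
theorem L323712 : sm gf N38255 = N26240 := ded_22_2 (flp_b L222641) (flp_f L222607) L323710
theorem L323745 : sm gb N26238 = N38260 := rfl
theorem L323748 : sm gg N38260 = N26481 := ded_23_2 (flp_b L224605) (flp_g L222627) L323745
theorem L323750 : sm gj N38260 = N26240 := ded_24_2 (flp_b L222641) (flp_j L222629) L323745
theorem L323856 : sm gd N26248 = N38274 := rfl
theorem L323863 : sm gh N38274 = N26252 := ded_38_2 (flp_d L222730) (flp_h L153375) L153361 L222700 L323856
theorem L323925 : sm gi N26252 = N38283 := rfl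
theorem L323927 : sm gb N38283 = N26277 := ded_26_1 (flp_i L222949) (flp_b L222732) L323925
theorem L324050 : sm gh N26261 = N38297 := rfl
theorem L324054 : sm gc N38297 = N26264 := ded_32_1 (flp_h L222833) (flp_c L222810) L324050
theorem L324103 : sm gh N26265 = N38303 := rfl
theorem L324108 : sm gf N38303 = N26267 := ded_47_1 (flp_h L222859) L222841 L324103
theorem L324129 : sm gi N26267 = N38306 := rfl
theorem L324135 : sm gg N38306 = N26269 := ded_51_1 (flp_i L222876) (flp_g L222865) L324129
theorem L324294 : sm gh N26277 = N38324 := rfl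
theorem L324299 : sm gj N38324 = N26545 := ded_52_1 (flp_h L225091) (flp_j L222956) L324294
theorem L324385 : sm gj N26285 = N38333 := rfl
theorem L324394 : sm gg N38333 = N26554 := ded_49_1 (flp_j L225175) (flp_g L154999) (flp_j L153563) L223033 L324385
theorem L324417 : sm gd N26287 = N38336 := rfl
theorem L324419 : sm ga N38336 = N26334 := ded_12_1 (flp_d L223431) (flp_a L223055) L324417
theorem L324632 : sm gi N26303 = N38361 := rfl
theorem L324636 : sm gg N38361 = N26307 := ded_51_1 (flp_i L223222) (flp_g L223197) L324632
theorem L324662 : sm gf N26306 = N38365 := rfl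
theorem L324665 : sm gj N38365 = N26585 := ded_46_2 (flp_f L225422) (flp_j L223217) L324662
theorem L324743 : sm gi N26312 = N38376 := rfl
theorem L324747 : sm gg N38376 = N26596 := ded_51_1 (flp_i L225494) (flp_g L223261) L324743
theorem L324749 : sm gj N38376 = N26316 := ded_53_1 (flp_i L223287) (flp_j L223263) L324743
theorem L324853 : sm gh N26321 = N38391 := rfl
theorem L324857 : sm gj N38391 = N26611 := ded_52_1 (flp_h L225588) (flp_j L223330) L324853
theorem L324911 : sm gj N26328 = N38398 := rfl
theorem L324918 : sm gg N38398 = N26618 := ded_49_1 (flp_j L225644) (flp_g L155312) (flp_j L153793) L223379 L324911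
theorem L324920 : sm gi N26328 = N38399 := rfl
theorem L324926 : sm gg N38399 = N26329 := ded_51_1 (flp_i L223386) L223379 L324920
theorem L324928 : sm gh N26329 = N38400 := rfl
theorem L324936 : sm gj N38400 = N26620 := ded_52_1 (flp_h L225659) (flp_j L223394) L324928
theorem L324979 : sm gd N26335 = N38406 := rfl
theorem L324981 : sm gb N38406 = N26349 := ded_20_1 (flp_d L223568) (flp_b L223440) L324979
theorem L324985 : sm gg N38406 = N26336 := ded_36_2 (flp_d L223448) (flp_g L223445) L324979
theorem L324999 : sm gc N26336 = N38408 := rfl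
theorem L325003 : sm gj N38408 = N26338 := ded_31_2 (flp_c L223466) (flp_j L223454) L324999
theorem L325006 : sm ge N26336 = N38409 := rfl
theorem L325010 : sm gj N38409 = N26339 := ded_42_2 (flp_e L223472) (flp_j L223454) L325006
theorem L325049 : sm gi N26339 = N38414 := rfl
theorem L325056 : sm gf N38414 = N27269 := ded_48_1 (flp_i L231045) (flp_f L223479) L325049
theorem L325156 : sm gc N26349 = N38425 := rfl
theorem L325160 : sm gg N38425 = N26351 := ded_30_2 (flp_c L223584) (flp_g L223572) L325156
theorem L325172 : sm gi N26349 = N38427 := rfl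
theorem L325176 : sm gf N38427 = N26643 := ded_48_1 (flp_i L225850) (flp_f L223570) L325172
theorem L325178 : sm gg N38427 = N26353 := ded_51_1 (flp_i L223599) (flp_g L223572) L325172
theorem L325197 : sm gi N26351 = N38430 := rfl
theorem L325199 : sm gc N38430 = N26353 := ded_33_1 (flp_i L223599) L223584 L325197
theorem L325203 : sm gj N38430 = N26356 := ded_53_1 (flp_i L223621) (flp_j L223588) L325197
theorem L325205 : sm gi N26352 = N38431 := rfl
theorem L325208 : sm ge N38431 = N26353 := ded_44_1 (flp_i L223599) L223591 L325205
theorem L325210 : sm gf N38431 = N27283 := ded_48_1 (flp_i L231169) (flp_f L223597) L325205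
theorem L325311 : sm gh N26363 = N38444 := rfl
theorem L325317 : sm gg N38444 = N26366 := ded_50_1 (flp_h L223703) (flp_g L223683) L325311
theorem L325415 : sm gh N26371 = N38457 := rfl
theorem L325419 : sm ge N38457 = N26667 := ded_43_1 (flp_h L226041) (flp_e L223747) L325415
theorem L325508 : sm ge N26379 = N38469 := rfl
theorem L325511 : sm gc N38469 = N26380 := ded_28_1 (flp_e L223813) L223807 L325508
theorem L325514 : sm gi N26379 = N38470 := rfl
theorem L325519 : sm gf N38470 = N26383 := ded_48_1 (flp_i L223834) (flp_f L223809) L325514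
theorem L325521 : sm gf N26380 = N38471 := rfl
theorem L325523 : sm gb N38471 = N26404 := ded_22_1 (flp_f L224021) (flp_b L223815) L325521
theorem L325564 : sm gh N26383 = N38477 := rfl
theorem L325569 : sm gg N38477 = N26687 := ded_50_1 (flp_h L226190) (flp_g L223839) L325564
theorem L325634 : sm gd N26389 = N38485 := rfl
theorem L325640 : sm gh N38485 = N26395 := ded_38_2 (flp_d L223942) (flp_h L154167) (flp_d L154134) L223885 L325634
theorem L325642 : sm gi N26389 = N38486 := rfl
theorem L325650 : sm gh N38486 = N26527 := ded_54_1 (flp_i L224945) (flp_h L154842) (flp_i L154137) L223885 L325642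
theorem L325723 : sm gi N26394 = N38495 := rfl
theorem L325729 : sm ge N38495 = N26401 := ded_44_1 (flp_i L223990) (flp_e L223938) L325723
theorem L325751 : sm gi N26395 = N38498 := rfl
theorem L325753 : sm ga N38498 = N26438 := ded_18_1 (flp_i L224290) (flp_a L223944) L325751
theorem L325764 : sm ge N26397 = N38500 := rfl
theorem L325768 : sm gc N38500 = N26398 := ded_28_1 (flp_e L223967) L223960 L325764
theorem L325771 : sm gi N26397 = N38501 := rfl
theorem L325777 : sm gd N38501 = N26419 := ded_39_1 (flp_i L224152) (flp_d L223965) L325771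
theorem L325780 : sm gf N26398 = N38502 := rfl
theorem L325784 : sm gd N38502 = N26404 := ded_35_1 (flp_f L224021) (flp_d L223971) L325780
theorem L325838 : sm gh N26403 = N38509 := rfl
theorem L325843 : sm gf N38509 = N26719 := ded_47_1 (flp_h L226470) (flp_f L224017) L325838
theorem L325845 : sm gg N38509 = N26406 := ded_50_1 (flp_h L224036) (flp_g L224019) L325838
theorem L325976 : sm gi N26414 = N38524 := rfl
theorem L325978 : sm ga N38524 = N26464 := ded_18_1 (flp_i L224475) (flp_a L224114) L325976
theorem L325983 : sm gj N38524 = N26417 := ded_53_1 (flp_i L224138) (flp_j L224116) L325976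
theorem L326017 : sm gi N26418 = N38529 := rfl
theorem L326019 : sm gb N38529 = N26419 := ded_26_1 (flp_i L224152) L224147 L326017
theorem L326049 : sm gg N26422 = N38533 := rfl
theorem L326052 : sm gd N38533 = N26430 := ded_36_1 (flp_g L224229) (flp_d L224181) L326049
theorem L326057 : sm gh N26422 = N38534 := rfl
theorem L326062 : sm gj N38534 = N26423 := ded_52_1 (flp_h L224187) L224178 L326057
theorem L326071 : sm gi N26423 = N38536 := rfl
theorem L326077 : sm gh N38536 = N26576 := ded_54_1 (flp_i L225366) (flp_h L155138) (flp_i L154344) L224187 L326071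
theorem L326093 : sm gc N26425 = N38539 := rfl
theorem L326095 : sm gg N38539 = N26427 := ded_30_2 (flp_c L224213) (flp_g L224201) L326093
theorem L326097 : sm gh N38539 = N26436 := ded_32_2 (flp_c L224278) (flp_h L224203) L326093
theorem L326100 : sm ge N26425 = N38540 := rfl
theorem L326102 : sm gg N38540 = N26428 := ded_41_2 (flp_e L224219) (flp_g L224201) L326100
theorem L326104 : sm gh N38540 = N26437 := ded_43_2 (flp_e L224284) (flp_h L224203) L326100
theorem L326137 : sm gi N26428 = N38546 := rfl
theorem L326140 : sm ge N38546 = N26429 := ded_44_1 (flp_i L224224) L224219 L326137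
theorem L326195 : sm gc N26434 = N38554 := rfl
theorem L326197 : sm gj N38554 = N26436 := ded_31_2 (flp_c L224278) (flp_j L224266) L326195
theorem L326201 : sm ge N26434 = N38555 := rfl
theorem L326203 : sm gj N38555 = N26437 := ded_42_2 (flp_e L224284) (flp_j L224266) L326201
theorem L326246 : sm gh N26438 = N38562 := rfl
theorem L326248 : sm gg N38562 = N26444 := ded_50_1 (flp_h L224324) (flp_g L224294) L326246
theorem L326364 : sm gh N26451 = N38580 := rfl
theorem L326367 : sm ge N38580 = N26455 := ded_43_1 (flp_h L224401) (flp_e L224376) L326364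
theorem L326369 : sm gf N38580 = N26452 := ded_47_1 (flp_h L224380) (flp_f L224378) L326364
theorem L326416 : sm gi N26457 = N38587 := rfl
theorem L326422 : sm gg N38587 = N26459 := ded_51_1 (flp_i L224433) (flp_g L224421) L326416
theorem L326425 : sm gh N38587 = N26627 := ded_54_1 (flp_i L225712) (flp_h L155364) (flp_i L154508) L224415 L326416
theorem L326590 : sm gb N26473 = N38608 := rfl
theorem L326592 : sm gf N38608 = N26481 := ded_22_2 (flp_b L224605) (flp_f L224548) L326590
theorem L326594 : sm gj N38608 = N26476 := ded_24_2 (flp_b L224569) (flp_j L224550) L326590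
theorem L326644 : sm gi N26476 = N38615 := rfl
theorem L326648 : sm gf N38615 = N26485 := ded_48_1 (flp_i L224632) (flp_f L224571) L326644
theorem L326694 : sm gh N26482 = N38622 := rfl
theorem L326699 : sm gj N38622 = N26486 := ded_52_1 (flp_h L224639) (flp_j L224616) L326694
theorem L326767 : sm gi N26491 = N38633 := rfl
theorem L326770 : sm gc N38633 = N26496 := ded_33_1 (flp_i L224707) (flp_c L224675) L326767
theorem L326812 : sm gi N26494 = N38639 := rfl
theorem L326817 : sm gg N38639 = N26496 := ded_51_1 (flp_i L224707) (flp_g L224698) L326812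
theorem L326955 : sm gi N26505 = N38660 := rfl
theorem L326961 : sm gf N38660 = N26853 := ded_48_1 (flp_i L227516) (flp_f L224772) L326955
theorem L326963 : sm gj N38660 = N26509 := ded_53_1 (flp_i L224801) (flp_j L224774) L326955
theorem L326965 : sm ge N26507 = N38661 := rfl
theorem L326967 : sm gb N38661 = N27325 := ded_21_1 (flp_e L231516) (flp_b L224792) L326965
theorem L326971 : sm gg N38661 = N26510 := ded_41_2 (flp_e L224811) (flp_g L224789) L326965
theorem L327012 : sm gf N26510 = N38667 := rfl
theorem L327019 : sm ge N38667 = N26516 := ded_40_1 (flp_f L224853) (flp_e L154787) (flp_f L154769) L224811 L327012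
theorem L327093 : sm gi N26516 = N38677 := rfl
theorem L327099 : sm gf N38677 = N26517 := ded_48_1 (flp_i L224860) L224853 L327093
theorem L327101 : sm gh N26517 = N38678 := rfl
theorem L327109 : sm gg N38678 = N26871 := ded_50_1 (flp_h L227659) (flp_g L224868) L327101
theorem L327187 : sm gd N26524 = N38688 := rfl
theorem L327191 : sm gf N38688 = N26526 := ded_35_2 (flp_d L224937) (flp_f L224926) L327187
theorem L327194 : sm gh N38688 = N26533 := ded_38_2 (flp_d L224996) (flp_h L154874) (flp_d L154831) L224921 L327187
theorem L327212 : sm gi N26525 = N38691 := rfl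
theorem L327218 : sm gj N38691 = N26527 := ded_53_1 (flp_i L224945) (flp_j L224935) L327212
theorem L327330 : sm ge N26533 = N38705 := rfl
theorem L327335 : sm gd N38705 = N26893 := ded_34_1 (flp_e L227858) (flp_d L156846) (flp_e L154880) L224996 L327330
theorem L327447 : sm gi N26541 = N38720 := rfl
theorem L327451 : sm gc N38720 = N26544 := ded_33_1 (flp_i L225083) (flp_c L225063) L327447
theorem L327455 : sm ge N38720 = N26542 := ded_44_1 (flp_i L225067) L225059 L327447
theorem L327457 : sm gh N26542 = N38721 := rfl
theorem L327461 : sm gc N38721 = N26545 := ded_32_1 (flp_h L225091) (flp_c L225071) L327457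
theorem L327615 : sm gc N26557 = N38738 := rfl
theorem L327619 : sm gg N38738 = N26916 := ded_30_2 (flp_c L228070) (flp_g L225209) L327615
theorem L327623 : sm gd N38738 = N27390 := ded_27_2 (flp_c L232060) (flp_d L159875) (flp_c L155022) L225205 L327615
theorem L327744 : sm gi N26568 = N38752 := rfl
theorem L327748 : sm gb N38752 = N26639 := ded_26_1 (flp_i L225820) (flp_b L225312) L327744
theorem L327750 : sm ge N38752 = N27397 := ded_44_1 (flp_i L232119) (flp_e L225308) L327744
theorem L327844 : sm ge N26577 = N38766 := rfl
theorem L327846 : sm gj N38766 = N26580 := ded_42_2 (flp_e L225391) (flp_j L225374) L327844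
theorem L327857 : sm gb N26579 = N38768 := rfl
theorem L327862 : sm gh N38768 = N26597 := ded_25_2 (flp_b L225500) (flp_h L225388) L327857
theorem L327872 : sm gi N26579 = N38770 := rfl
theorem L327877 : sm gg N38770 = N26584 := ded_51_1 (flp_i L225416) (flp_g L225386) L327872
theorem L327915 : sm gd N26583 = N38777 := rfl
theorem L327919 : sm gh N38777 = N27412 := ded_38_2 (flp_d L232238) L160001 (flp_d L155248) (flp_h L225414) L327915
theorem L327928 : sm gi N26583 = N38779 := rfl
theorem L327932 : sm ge N38779 = N26584 := ded_44_1 (flp_i L225416) L225410 L327928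
theorem L328035 : sm gb N26594 = N38795 := rfl
theorem L328037 : sm gd N38795 = N26633 := ded_20_2 (flp_b L225766) (flp_d L225486) L328035
theorem L328039 : sm gj N38795 = N26597 := ded_24_2 (flp_b L225500) (flp_j L225484) L328035
theorem L328131 : sm gh N26601 = N38809 := rfl
theorem L328135 : sm gg N38809 = N26611 := ded_50_1 (flp_h L225588) (flp_g L225532) L328131
theorem L328202 : sm gi N26609 = N38820 := rfl
theorem L328204 : sm gd N38820 = N26619 := ded_39_1 (flp_i L225651) (flp_d L225578) L328202
theorem L328207 : sm gg N38820 = N26610 := ded_51_1 (flp_i L225581) L225576 L328202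
theorem L328358 : sm gb N26628 = N38841 := rfl
theorem L328361 : sm gf N38841 = N26633 := ded_22_2 (flp_b L225766) (flp_f L225724) L328358
theorem L328363 : sm gj N38841 = N26630 := ded_24_2 (flp_b L225740) (flp_j L225726) L328358
theorem L328387 : sm ga N26630 = N38844 := rfl
theorem L328392 : sm gf N38844 = N26636 := ded_14_2 (flp_a L225792) (flp_f L225743) L328387
theorem L328396 : sm gi N26630 = N38845 := rfl
theorem L328400 : sm gc N38845 = N26648 := ded_33_1 (flp_i L225890) (flp_c L225747) L328396
theorem L328497 : sm gi N26642 = N38857 := rfl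
theorem L328499 : sm gc N38857 = N26643 := ded_33_1 (flp_i L225850) L225843 L328497
theorem L328502 : sm gg N38857 = N26645 := ded_51_1 (flp_i L225866) (flp_g L225846) L328497
theorem L328520 : sm gi N26644 = N38860 := rfl
theorem L328522 : sm gb N38860 = N26645 := ded_26_1 (flp_i L225866) L225858 L328520
theorem L328527 : sm gj N38860 = N26648 := ded_53_1 (flp_i L225890) (flp_j L225863) L328520
theorem L328562 : sm gi N26650 = N38865 := rfl
theorem L328568 : sm gj N38865 = N26653 := ded_53_1 (flp_i L225931) (flp_j L225911) L328562
theorem L328584 : sm gh N26653 = N38868 := rfl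
theorem L328590 : sm gg N38868 = N26656 := ded_50_1 (flp_h L225953) (flp_g L225937) L328584
theorem L328664 : sm gi N26660 = N38879 := rfl
theorem L328666 : sm gb N38879 = N26972 := ded_26_1 (flp_i L228479) (flp_b L225983) L328664
theorem L328673 : sm gh N38879 = N26827 := ded_54_1 (flp_i L227323) (flp_h L156523) (flp_i L155601) L225981 L328664
theorem L328675 : sm ge N26661 = N38880 := rfl
theorem L328680 : sm gi N38880 = N26828 := ded_44_2 (flp_e L227332) (flp_i L225996) L328675
theorem L328683 : sm gj N26661 = N38881 := rfl
theorem L328691 : sm gi N38881 = N26829 := ded_53_2 (flp_j L227338) (flp_i L225996) L328683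
theorem L328716 : sm gi N26663 = N38885 := rfl
theorem L328723 : sm gh N38885 = N26833 := ded_54_1 (flp_i L227369) (flp_h L156547) (flp_i L155612) L226009 L328716
theorem L328770 : sm gi N26667 = N38892 := rfl
theorem L328777 : sm gh N38892 = N26840 := ded_54_1 (flp_i L227420) (flp_h L156575) (flp_i L155625) L226041 L328770
theorem L328786 : sm gi N26668 = N38894 := rfl
theorem L328795 : sm gh N38894 = N26842 := ded_54_1 (flp_i L227434) (flp_h L156582) (flp_i L155634) L226048 L328786
theorem L328941 : sm gh N26680 = N38915 := rfl
theorem L328946 : sm gf N38915 = N26687 := ded_47_1 (flp_h L226190) (flp_f L226142) L328941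
theorem L329158 : sm gi N26695 = N38940 := rfl
theorem L329164 : sm gg N38940 = N26699 := ded_51_1 (flp_i L226297) (flp_g L226264) L329158
theorem L329166 : sm gb N26697 = N38941 := rfl
theorem L329168 : sm gd N38941 = N27013 := ded_20_2 (flp_b L228850) (flp_d L226287) L329166
theorem L329172 : sm gh N38941 = N26709 := ded_25_2 (flp_b L226387) (flp_h L226285) L329166
theorem L329193 : sm gf N26698 = N38944 := rfl
theorem L329195 : sm ga N38944 = N26753 := ded_14_1 (flp_f L226763) (flp_a L226291) L329193
theorem L329210 : sm gh N26699 = N38946 := rfl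
theorem L329218 : sm gi N38946 = N26714 := ded_54_2 (flp_h L226428) (flp_i L155855) (flp_h L155779) L226297 L329210
theorem L329315 : sm gi N26706 = N38958 := rfl
theorem L329319 : sm gc N38958 = N26708 := ded_33_1 (flp_i L226379) L226363 L329315
theorem L329321 : sm gd N38958 = N26736 := ded_39_1 (flp_i L226624) (flp_d L226369) L329315
theorem L329363 : sm gi N26709 = N38964 := rfl
theorem L329367 : sm gd N38964 = N26738 := ded_39_1 (flp_i L226643) (flp_d L226389) L329363
theorem L329416 : sm gh N26713 = N38970 := rfl
theorem L329420 : sm ge N38970 = N26714 := ded_43_1 (flp_h L226428) (flp_e L226425) L329416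
theorem L329540 : sm gc N26726 = N38984 := rfl
theorem L329544 : sm ge N38984 = N26916 := ded_28_2 (flp_c L228070) (flp_e L226538) L329540
theorem L329570 : sm gc N26728 = N38987 := rfl
theorem L329576 : sm gj N38987 = N26730 := ded_31_2 (flp_c L226569) (flp_j L226555) L329570
theorem L329578 : sm gh N38987 = N27035 := ded_32_2 (flp_c L229047) (flp_h L226557) L329570
theorem L329627 : sm gi N26731 = N38993 := rfl
theorem L329629 : sm ga N38993 = N26802 := ded_18_1 (flp_i L227117) (flp_a L226580) L329627
theorem L329655 : sm ga N26735 = N38996 := rfl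
theorem L329658 : sm gg N38996 = N26737 := ded_15_2 (flp_a L226634) (flp_g L226620) L329655
theorem L329660 : sm gh N38996 = N27040 := ded_17_2 (flp_a L229087) (flp_h L226622) L329655
theorem L329682 : sm gg N26739 = N38999 := rfl
theorem L329688 : sm gi N38999 = N26918 := ded_51_2 (flp_g L228088) (flp_i L226658) L329682
theorem L329730 : sm gi N26742 = N39005 := rfl
theorem L329738 : sm gh N39005 = N26924 := ded_54_1 (flp_i L228133) (flp_h L157079) (flp_i L156062) L226678 L329730
theorem L329814 : sm gi N26748 = N39016 := rfl
theorem L329819 : sm gg N39016 = N26754 := ded_51_1 (flp_i L226770) (flp_g L226729) L329814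
theorem L329821 : sm gh N26749 = N39017 := rfl
theorem L329825 : sm gd N39017 = N26931 := ded_38_1 (flp_h L228186) L157129 (flp_h L156092) (flp_d L226736) L329821
theorem L329827 : sm gi N39017 = N26770 := ded_54_2 (flp_h L226879) (flp_i L156172) (flp_h L156083) L226734 L329821
theorem L329874 : sm gh N26752 = N39024 := rfl
theorem L329881 : sm gi N39024 = N26776 := ded_54_2 (flp_h L226920) (flp_i L156190) (flp_h L156098) L226755 L329874
theorem L329889 : sm gi N26753 = N39026 := rfl
theorem L329893 : sm gf N39026 = N26754 := ded_48_1 (flp_i L226770) L226763 L329889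
theorem L329951 : sm gi N26759 = N39035 := rfl
theorem L329955 : sm gd N39035 = N26801 := ded_39_1 (flp_i L227109) (flp_d L226813) L329951
theorem L330076 : sm gh N26769 = N39053 := rfl
theorem L330078 : sm ge N39053 = N26770 := ded_43_1 (flp_h L226879) (flp_e L226875) L330076
theorem L330263 : sm ge N26792 = N39080 := rfl
theorem L330268 : sm gf N39080 = N26966 := ded_40_2 (flp_e L228437) L157339 (flp_e L156295) (flp_f L227031) L330263
theorem L330377 : sm gi N26800 = N39093 := rfl
theorem L330381 : sm ge N39093 = N26801 := ded_44_1 (flp_i L227109) L227101 L330377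
theorem L330396 : sm gi N26803 = N39095 := rfl
theorem L330398 : sm gb N39095 = N26804 := ded_26_1 (flp_i L227136) L227126 L330396
theorem L330404 : sm gj N39095 = N26806 := ded_53_1 (flp_i L227154) (flp_j L227130) L330396
theorem L330450 : sm gi N26809 = N39101 := rfl
theorem L330454 : sm gg N39101 = N26814 := ded_51_1 (flp_i L227224) (flp_g L227184) L330450
theorem L330475 : sm gi N26811 = N39104 := rfl
theorem L330481 : sm gj N39104 = N26817 := ded_53_1 (flp_i L227247) (flp_j L227202) L330475
theorem L330521 : sm gi N26816 = N39110 := rfl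
theorem L330525 : sm ge N39110 = N26817 := ded_44_1 (flp_i L227247) L227239 L330521
theorem L330567 : sm gh N26823 = N39116 := rfl
theorem L330571 : sm gc N39116 = N26830 := ded_32_1 (flp_h L227346) (flp_c L227297) L330567
theorem L330629 : sm gh N26828 = N39124 := rfl
theorem L330633 : sm ge N39124 = N26830 := ded_43_1 (flp_h L227346) L227332 L330629
theorem L330637 : sm gg N26829 = N39125 := rfl
theorem L330641 : sm gd N39125 = N26837 := ded_36_1 (flp_g L227399) (flp_d L227342) L330637
theorem L330669 : sm gd N26831 = N39129 := rfl
theorem L330674 : sm gj N39129 = N26832 := ded_37_2 (flp_d L227361) (flp_j L227359) L330669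
theorem L330676 : sm gh N39129 = N26841 := ded_38_2 (flp_d L227427) (flp_h L156582) (flp_d L156543) L227353 L330669
theorem L330702 : sm gi N26832 = N39133 := rfl
theorem L330706 : sm gd N39133 = N26833 := ded_39_1 (flp_i L227369) L227361 L330702
theorem L330708 : sm gg N39133 = N26836 := ded_51_1 (flp_i L227391) (flp_g L227365) L330702
theorem L330742 : sm gh N26836 = N39138 := rfl
theorem L330748 : sm gi N39138 = N26850 := ded_54_2 (flp_h L227494) (flp_i L156617) (flp_h L156560) L227391 L330742
theorem L330780 : sm ge N26839 = N39143 := rfl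
theorem L330782 : sm gb N39143 = N26893 := ded_21_1 (flp_e L227858) (flp_b L227415) L330780
theorem L330809 : sm gi N26841 = N39147 := rfl
theorem L330813 : sm gd N39147 = N26842 := ded_39_1 (flp_i L227434) L227427 L330809
theorem L330818 : sm ge N26843 = N39148 := rfl
theorem L330823 : sm gg N39148 = N26846 := ded_41_2 (flp_e L227464) (flp_g L227445) L330818
theorem L330889 : sm gi N26848 = N39158 := rfl
theorem L330891 : sm gb N39158 = N26901 := ded_26_1 (flp_i L227927) (flp_b L227479) L330889
theorem L330896 : sm gf N39158 = N26849 := ded_48_1 (flp_i L227485) L227477 L330889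
theorem L330899 : sm gh N26849 = N39159 := rfl
theorem L330901 : sm gb N39159 = N26902 := ded_25_1 (flp_h L227938) (flp_b L227487) L330899
theorem L330903 : sm ge N39159 = N26850 := ded_43_1 (flp_h L227494) (flp_e L227491) L330899
theorem L330972 : sm gh N26855 = N39168 := rfl
theorem L330978 : sm gg N39168 = N26862 := ded_50_1 (flp_h L227586) (flp_g L227540) L330972
theorem L330994 : sm gh N26857 = N39171 := rfl
theorem L331000 : sm gg N39171 = N26865 := ded_50_1 (flp_h L227612) (flp_g L227553) L330994
theorem L331077 : sm gh N26864 = N39181 := rfl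
theorem L331081 : sm ge N39181 = N26875 := ded_43_1 (flp_h L227689) (flp_e L227607) L331077
theorem L331083 : sm gf N39181 = N26865 := ded_47_1 (flp_h L227612) (flp_f L227609) L331077
theorem L331176 : sm gi N26873 = N39194 := rfl
theorem L331178 : sm gb N39194 = N26913 := ded_26_1 (flp_i L228042) (flp_b L227677) L331176
theorem L331205 : sm gg N26877 = N39198 := rfl
theorem L331207 : sm ga N39198 = N26918 := ded_15_1 (flp_g L228088) (flp_a L227706) L331205
theorem L331209 : sm gc N39198 = N27117 := ded_30_1 (flp_g L229696) (flp_c L227708) L331205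
theorem L331290 : sm ge N26883 = N39207 := rfl
theorem L331296 : sm gj N39207 = N26885 := ded_42_2 (flp_e L227782) (flp_j L227767) L331290
theorem L331298 : sm gh N39207 = N26895 := ded_43_2 (flp_e L227874) (flp_h L227770) L331290
theorem L331376 : sm gi N26890 = N39216 := rfl
theorem L331380 : sm gc N39216 = N26917 := ded_33_1 (flp_i L228079) (flp_c L227833) L331376
theorem L331383 : sm gg N39216 = N26892 := ded_51_1 (flp_i L227848) (flp_g L227836) L331376
theorem L331419 : sm gh N26894 = N39221 := rfl
theorem L331421 : sm ga N39221 = N26941 := ded_17_1 (flp_h L228256) (flp_a L227866) L331419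
theorem L331424 : sm gf N39221 = N26899 := ded_47_1 (flp_h L227912) (flp_f L227871) L331419
theorem L331436 : sm gi N26895 = N39223 := rfl
theorem L331446 : sm gj N39223 = N26898 := ded_53_1 (flp_i L227901) (flp_j L227880) L331436
theorem L331456 : sm gg N26897 = N39225 := rfl
theorem L331461 : sm gd N39225 = N26906 := ded_36_1 (flp_g L227976) (flp_d L227899) L331456
theorem L331465 : sm gi N26897 = N39226 := rfl
theorem L331472 : sm gf N39226 = N26898 := ded_48_1 (flp_i L227901) L227894 L331465
theorem L331474 : sm gh N26898 = N39227 := rfl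
theorem L331479 : sm ge N39227 = N26899 := ded_43_1 (flp_h L227912) (flp_e L227908) L331474
theorem L331481 : sm gg N39227 = N26902 := ded_50_1 (flp_h L227938) (flp_g L227910) L331474
theorem L331548 : sm gj N26906 = N39235 := rfl
theorem L331552 : sm gc N39235 = N27523 := ded_31_1 (flp_j L233101) (flp_c L227980) L331548
theorem L331621 : sm gh N26913 = N39243 := rfl
theorem L331628 : sm gj N39243 = N26914 := ded_52_1 (flp_h L228052) (flp_j L228050) L331621
theorem L331631 : sm gd N26914 = N39244 := rfl
theorem L331633 : sm ga N39244 = N26964 := ded_12_1 (flp_d L228422) (flp_a L228054) L331631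
theorem L331671 : sm gh N26918 = N39249 := rfl
theorem L331677 : sm gg N39249 = N26919 := ded_50_1 (flp_h L228095) L228088 L331671
theorem L331711 : sm gd N26922 = N39255 := rfl
theorem L331714 : sm gg N39255 = N26923 := ded_36_2 (flp_d L228124) (flp_g L228121) L331711
theorem L331718 : sm gh N39255 = N26935 := ded_38_2 (flp_d L228216) (flp_h L157155) (flp_d L157075) L228116 L331711
theorem L331735 : sm gi N26923 = N39258 := rfl
theorem L331738 : sm gd N39258 = N26924 := ded_39_1 (flp_i L228133) L228124 L331735
theorem L331740 : sm gf N39258 = N26928 := ded_48_1 (flp_i L228164) (flp_f L228126) L331735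
theorem L331744 : sm gf N26925 = N39259 := rfl
theorem L331747 : sm gh N39259 = N26939 := ded_47_2 (flp_f L228245) (flp_h L228145) L331744
theorem L331749 : sm ge N39259 = N26929 := ded_40_1 (flp_f L228172) (flp_e L157118) (flp_f L157089) L228141 L331744
theorem L331837 : sm gd N26934 = N39271 := rfl
theorem L331840 : sm gi N39271 = N26951 := ded_39_2 (flp_d L228328) (flp_i L228214) L331837
theorem L331849 : sm gi N26935 = N39273 := rfl
theorem L331855 : sm gg N39273 = N26938 := ded_51_1 (flp_i L228236) (flp_g L228219) L331849
theorem L331858 : sm gf N26937 = N39274 := rfl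
theorem L331861 : sm gj N39274 = N26939 := ded_46_2 (flp_f L228245) (flp_j L228234) L331858
theorem L331865 : sm gi N26937 = N39275 := rfl
theorem L331868 : sm ge N39275 = N26938 := ded_44_1 (flp_i L228236) L228231 L331865
theorem L331872 : sm gh N26938 = N39276 := rfl
theorem L331875 : sm gf N39276 = N26944 := ded_47_1 (flp_h L228279) (flp_f L228241) L331872
theorem L331877 : sm gj N39276 = N26941 := ded_52_1 (flp_h L228256) (flp_j L228243) L331872
theorem L331948 : sm gi N26948 = N39287 := rfl
theorem L331951 : sm gd N39287 = N26959 := ded_39_1 (flp_i L228384) (flp_d L228309) L331948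
theorem L331963 : sm gd N26950 = N39289 := rfl
theorem L331965 : sm gf N39289 = N26951 := ded_35_2 (flp_d L228328) (flp_f L228325) L331963
theorem L331968 : sm gh N39289 = N26961 := ded_38_2 (flp_d L228402) (flp_h L157308) (flp_d L157234) L228321 L331963
theorem L331984 : sm gi N26952 = N39292 := rfl
theorem L331986 : sm gc N39292 = N27537 := ded_33_1 (flp_i L233221) (flp_c L228335) L331984
theorem L331991 : sm gh N26953 = N39293 := rfl
theorem L331995 : sm gf N39293 = N26954 := ded_47_1 (flp_h L228347) (flp_f L228343) L331991
theorem L331997 : sm gj N39293 = N26957 := ded_52_1 (flp_h L228372) (flp_j L228345) L331991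
theorem L332035 : sm gh N26959 = N39299 := rfl
theorem L332042 : sm gj N39299 = N26960 := ded_52_1 (flp_h L228393) (flp_j L228391) L332035
theorem L332058 : sm ge N26961 = N39302 := rfl
theorem L332062 : sm gd N39302 = N26966 := ded_34_1 (flp_e L228437) (flp_d L157337) (flp_e L157312) L228402 L332058
theorem L332140 : sm gh N26969 = N39313 := rfl
theorem L332143 : sm gc N39313 = N26976 := ded_32_1 (flp_h L228518) (flp_c L228460) L332140
theorem L332147 : sm gj N39313 = N26970 := ded_52_1 (flp_h L228466) L228457 L332140
theorem L332203 : sm gg N26974 = N39321 := rfl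
theorem L332210 : sm gi N39321 = N27113 := ded_51_2 (flp_g L229658) (flp_i L228508) L332203
theorem L332223 : sm gd N26975 = N39323 := rfl
theorem L332228 : sm gf N39323 = N26977 := ded_35_2 (flp_d L228527) (flp_f L228515) L332223
theorem L332233 : sm gi N26975 = N39324 := rfl
theorem L332238 : sm gf N39324 = N26978 := ded_48_1 (flp_i L228536) (flp_f L228515) L332233
theorem L332253 : sm gi N26976 = N39326 := rfl
theorem L332260 : sm gj N39326 = N26978 := ded_53_1 (flp_i L228536) (flp_j L228525) L332253
theorem L332378 : sm ge N26985 = N39340 := rfl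
theorem L332387 : sm gd N39340 = N26992 := ded_34_1 (flp_e L228661) (flp_d L157478) (flp_e L157449) L228602 L332378
theorem L332523 : sm gj N26997 = N39357 := rfl
theorem L332528 : sm ge N39357 = N27001 := ded_42_1 (flp_j L228741) (flp_e L228711) L332523
theorem L332577 : sm gg N27002 = N39363 := rfl
theorem L332584 : sm gi N39363 = N27117 := ded_51_2 (flp_g L229696) (flp_i L228759) L332577
theorem L332603 : sm gi N27003 = N39366 := rfl
theorem L332611 : sm gh N39366 = N27120 := ded_54_1 (flp_i L229721) (flp_h L158273) (flp_i L157557) L228761 L332603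
theorem L332621 : sm gd N27005 = N39368 := rfl
theorem L332629 : sm gh N39368 = N27019 := ded_38_2 (flp_d L228904) (flp_h L157639) (flp_d L157565) L228779 L332621
theorem L332631 : sm gi N27005 = N39369 := rfl
theorem L332639 : sm gh N39369 = N27122 := ded_54_1 (flp_i L229738) (flp_h L158289) (flp_i L157569) L228779 L332631
theorem L332641 : sm gc N27006 = N39370 := rfl
theorem L332645 : sm gf N39370 = N27010 := ded_29_2 (flp_c L228824) (flp_f L228791) L332641
theorem L332648 : sm gh N39370 = N27020 := ded_32_2 (flp_c L228913) (flp_h L228794) L332641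
theorem L332712 : sm gi N27010 = N39378 := rfl
theorem L332718 : sm gg N39378 = N27015 := ded_51_1 (flp_i L228865) (flp_g L228828) L332712
theorem L332777 : sm gi N27014 = N39386 := rfl
theorem L332783 : sm ge N39386 = N27015 := ded_44_1 (flp_i L228865) L228856 L332777
theorem L332857 : sm gb N27022 = N39395 := rfl
theorem L332862 : sm gj N39395 = N27024 := ded_24_2 (flp_b L228950) (flp_j L228935) L332857
theorem L332865 : sm ge N27022 = N39396 := rfl
theorem L332872 : sm gj N39396 = N27025 := ded_42_2 (flp_e L228957) (flp_j L228935) L332865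
theorem L332998 : sm ge N27035 = N39411 := rfl
theorem L333000 : sm ga N39411 = N27089 := ded_13_1 (flp_e L229473) (flp_a L229049) L332998
theorem L333008 : sm ga N27037 = N39412 := rfl
theorem L333010 : sm gf N39412 = N27040 := ded_14_2 (flp_a L229087) (flp_f L229067) L333008
theorem L333064 : sm gi N27042 = N39419 := rfl
theorem L333072 : sm gh N39419 = N27126 := ded_54_1 (flp_i L229770) (flp_h L158322) (flp_i L157812) L229104 L333064
theorem L333093 : sm gd N27045 = N39423 := rfl
theorem L333100 : sm gh N39423 = N27067 := ded_38_2 (flp_d L229296) (flp_h L157929) (flp_d L157824) L229127 L333093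
theorem L333102 : sm gi N27045 = N39424 := rfl
theorem L333109 : sm gh N39424 = N27129 := ded_54_1 (flp_i L229792) (flp_h L158344) (flp_i L157826) L229127 L333102
theorem L333370 : sm ge N27067 = N39458 := rfl
theorem L333373 : sm gg N39458 = N27069 := ded_41_2 (flp_e L229313) (flp_g L229300) L333370
theorem L333377 : sm gd N39458 = N39458 := ded_34_1 (flp_e L333370) (flp_d L229296) L157934 L229296 L333370
theorem L333543 : sm gb N27086 = N39479 := rfl
theorem L333546 : sm gg N39479 = N27088 := ded_23_2 (flp_b L229464) (flp_g L229451) L333543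
theorem L333550 : sm gc N39479 = N27094 := ded_19_2 (flp_b L229513) (flp_c L158116) (flp_b L158061) L229448 L333543
theorem L333624 : sm ge N27094 = N39489 := rfl
theorem L333628 : sm gg N39489 = N27098 := ded_41_2 (flp_e L229544) (flp_g L229517) L333624
theorem L333731 : sm gh N27104 = N39503 := rfl
theorem L333734 : sm gc N39503 = N27114 := ded_32_1 (flp_h L229667) (flp_c L229591) L333731
theorem L333736 : sm gf N39503 = N27106 := ded_47_1 (flp_h L229603) (flp_f L229593) L333731
theorem L333844 : sm gh N27113 = N39517 := rfl
theorem L333850 : sm gg N39517 = N27114 := ded_50_1 (flp_h L229667) L229658 L333844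
theorem L333941 : sm gi N27124 = N39528 := rfl
theorem L333944 : sm ge N39528 = N27129 := ded_44_1 (flp_i L229792) (flp_e L229757) L333941
theorem L333946 : sm gg N39528 = N27126 := ded_51_1 (flp_i L229770) (flp_g L229759) L333941
theorem L333995 : sm gj N27130 = N39535 := rfl
theorem L334003 : sm gg N39535 = N27301 := ded_49_1 (flp_j L231313) (flp_g L159395) (flp_j L158366) L229800 L333995
theorem L334005 : sm gh N27130 = N39536 := rfl
theorem L334009 : sm gc N39536 = N27134 := ded_32_1 (flp_h L229840) (flp_c L229804) L334005
theorem L334022 : sm gi N27131 = N39538 := rfl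
theorem L334029 : sm gf N39538 = N27558 := ded_48_1 (flp_i L233389) (flp_f L229815) L334022
theorem L334031 : sm gj N39538 = N27304 := ded_53_1 (flp_i L231338) (flp_j L229817) L334022
theorem L334074 : sm gd N27134 = N39543 := rfl
theorem L334081 : sm gh N39543 = N27140 := ded_38_2 (flp_d L229901) (flp_h L158408) (flp_d L158375) L229840 L334074
theorem L334243 : sm gh N27144 = N39561 := rfl
theorem L334248 : sm gf N39561 = N27576 := ded_47_1 (flp_h L233550) (flp_f L229941) L334243
theorem L334250 : sm gj N39561 = N27321 := ded_52_1 (flp_h L231481) (flp_j L229943) L334243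
theorem L334360 : sm gg N27152 = N39574 := rfl
theorem L334363 : sm gb N39574 = N27190 := ded_23_1 (flp_g L230369) (flp_b L230012) L334360
theorem L334365 : sm ge N39574 = N27159 := ded_41_1 (flp_g L230074) (flp_e L230017) L334360
theorem L334368 : sm gi N27152 = N39575 := rfl
theorem L334375 : sm gf N39575 = N27153 := ded_48_1 (flp_i L230019) L230009 L334368
theorem L334377 : sm gj N39575 = N27335 := ded_53_1 (flp_i L231595) (flp_j L230014) L334368
theorem L334483 : sm gd N27161 = N39587 := rfl
theorem L334489 : sm gj N39587 = N27347 := ded_37_2 (flp_d L231697) (flp_j L230102) L334483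
theorem L334506 : sm gh N27162 = N39589 := rfl
theorem L334511 : sm ge N39589 = N27164 := ded_43_1 (flp_h L230126) L230105 L334506
theorem L334536 : sm gi N27164 = N39592 := rfl
theorem L334543 : sm gg N39592 = N27602 := ded_51_1 (flp_i L233808) (flp_g L230133) L334536
theorem L334556 : sm gi N27165 = N39594 := rfl
theorem L334562 : sm gg N39594 = N27349 := ded_51_1 (flp_i L231717) (flp_g L230141) L334556
theorem L334576 : sm ge N27166 = N39596 := rfl
theorem L334580 : sm gg N39596 = N27169 := ded_41_2 (flp_e L230173) (flp_g L230149) L334576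
theorem L334582 : sm gh N39596 = N27177 := ded_43_2 (flp_e L230253) (flp_h L230151) L334576
theorem L334612 : sm gi N27168 = N39600 := rfl
theorem L334614 : sm ga N39600 = N27222 := ded_18_1 (flp_i L230655) (flp_a L230164) L334612
theorem L334621 : sm gj N39600 = N27355 := ded_53_1 (flp_i L231770) (flp_j L230168) L334612
theorem L334634 : sm gi N27169 = N39602 := rfl
theorem L334641 : sm gj N39602 = N27357 := ded_53_1 (flp_i L231788) (flp_j L230177) L334634
theorem L334703 : sm gc N27174 = N39609 := rfl
theorem L334707 : sm gg N39609 = N27359 := ded_30_2 (flp_c L231804) (flp_g L230228) L334703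
theorem L334711 : sm gd N39609 = N27202 := ded_27_2 (flp_c L230482) (flp_d L158793) (flp_c L158618) L230224 L334703
theorem L334816 : sm gi N27180 = N39622 := rfl
theorem L334822 : sm ge N39622 = N27181 := ded_44_1 (flp_i L230285) L230277 L334816
theorem L334882 : sm gh N27186 = N39629 := rfl
theorem L334889 : sm gj N39629 = N27189 := ded_52_1 (flp_h L230360) (flp_j L230344) L334882
theorem L334901 : sm gi N27187 = N39631 := rfl
theorem L334903 : sm ga N39631 = N27253 := ded_18_1 (flp_i L230911) (flp_a L230348) L334901
theorem L334906 : sm gf N39631 = N27188 := ded_48_1 (flp_i L230352) L230346 L334901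
theorem L335103 : sm gi N27204 = N39653 := rfl
theorem L335105 : sm gb N39653 = N27205 := ded_26_1 (flp_i L230506) L230501 L335103
theorem L335107 : sm gg N39653 = N27208 := ded_51_1 (flp_i L230531) (flp_g L230503) L335103
theorem L335137 : sm gd N27209 = N39657 := rfl
theorem L335141 : sm gf N39657 = N27651 := ded_35_2 (flp_d L234256) (flp_f L230545) L335137
theorem L335263 : sm gi N27217 = N39671 := rfl
theorem L335265 : sm gc N39671 = N27219 := ded_33_1 (flp_i L230630) L230615 L335263
theorem L335268 : sm gg N39671 = N27222 := ded_51_1 (flp_i L230655) (flp_g L230617) L335263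
theorem L335284 : sm gh N27219 = N39674 := rfl
theorem L335290 : sm gi N39674 = N27239 := ded_54_2 (flp_h L230796) (flp_i L158993) (flp_h L158896) L230630 L335284
theorem L335302 : sm ge N27220 = N39676 := rfl
theorem L335307 : sm gj N39676 = N27410 := ded_42_2 (flp_e L232223) (flp_j L230642) L335302
theorem L335327 : sm gf N27221 = N39679 := rfl
theorem L335333 : sm gh N39679 = N27243 := ded_47_2 (flp_f L230829) (flp_h L230653) L335327
theorem L335335 : sm ge N39679 = N27667 := ded_40_1 (flp_f L234389) (flp_e L161522) (flp_f L158908) L230647 L335327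
theorem L335345 : sm gh N27222 = N39681 := rfl
theorem L335353 : sm gi N39681 = N27245 := ded_54_2 (flp_h L230845) (flp_i L159015) (flp_h L158912) L230655 L335345
theorem L335455 : sm gb N27231 = N39694 := rfl
theorem L335457 : sm gd N39694 = N27271 := ded_20_2 (flp_b L231064) (flp_d L230741) L335455
theorem L335459 : sm gg N39694 = N27419 := ded_23_2 (flp_b L232287) (flp_g L230737) L335455
theorem L335606 : sm gh N27242 = N39713 := rfl
theorem L335608 : sm gb N39713 = N27245 := ded_25_1 (flp_h L230845) (flp_b L230820) L335606
theorem L335611 : sm gf N39713 = N27692 := ded_47_1 (flp_h L234589) (flp_f L230825) L335606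
theorem L335615 : sm gg N27243 = N39714 := rfl
theorem L335619 : sm ge N39714 = N27693 := ded_41_1 (flp_g L234596) (flp_e L230835) L335615
theorem L335631 : sm gh N27244 = N39716 := rfl
theorem L335635 : sm ge N39716 = N27245 := ded_43_1 (flp_h L230845) (flp_e L230841) L335631
theorem L335637 : sm gj N39716 = N27441 := ded_52_1 (flp_h L232451) (flp_j L230843) L335631
theorem L335698 : sm gh N27250 = N39724 := rfl
theorem L335705 : sm gj N39724 = N27254 := ded_52_1 (flp_h L230917) (flp_j L230892) L335698
theorem L335777 : sm gd N27260 = N39734 := rfl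
theorem L335784 : sm gh N39734 = N27710 := ded_38_2 (flp_d L234740) (flp_h L161773) (flp_d L159124) L230967 L335777
theorem L335786 : sm gc N27261 = N39735 := rfl
theorem L335790 : sm gj N39735 = N27460 := ded_31_2 (flp_c L232591) (flp_j L230979) L335786
theorem L335792 : sm gh N39735 = N27711 := ded_32_2 (flp_c L234748) (flp_h L230982) L335786
theorem L335851 : sm gh N27265 = N39742 := rfl
theorem L335858 : sm gj N39742 = N27270 := ded_52_1 (flp_h L231054) (flp_j L231019) L335851
theorem L335895 : sm gi N27267 = N39747 := rfl
theorem L335897 : sm gc N39747 = N27269 := ded_33_1 (flp_i L231045) (flp_c L231032) L335895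
theorem L335930 : sm gi N27271 = N39751 := rfl
theorem L335938 : sm gj N39751 = N27275 := ded_53_1 (flp_i L231098) (flp_j L231068) L335930
theorem L335940 : sm gh N27272 = N39752 := rfl
theorem L335944 : sm gg N39752 = N27465 := ded_50_1 (flp_h L232631) (flp_g L231077) L335940
theorem L335946 : sm gj N39752 = N27276 := ded_52_1 (flp_h L231106) (flp_j L231079) L335940
theorem L335957 : sm gh N27275 = N39754 := rfl
theorem L335959 : sm gb N39754 = N27276 := ded_25_1 (flp_h L231106) (flp_b L231100) L335957
theorem L335972 : sm gh N27277 = N39756 := rfl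
theorem L335978 : sm gf N39756 = N27724 := ded_47_1 (flp_h L234859) (flp_f L231119) L335972
theorem L335998 : sm ga N27280 = N39759 := rfl
theorem L336004 : sm gj N39759 = N27285 := ded_16_2 (flp_a L231186) (flp_j L231148) L335998
theorem L336007 : sm ge N27280 = N39760 := rfl
theorem L336012 : sm gj N39760 = N27286 := ded_42_2 (flp_e L231194) (flp_j L231148) L336007
theorem L336032 : sm gi N27281 = N39763 := rfl
theorem L336034 : sm gc N39763 = N27283 := ded_33_1 (flp_i L231169) (flp_c L231153) L336032
theorem L336041 : sm gh N27282 = N39764 := rfl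
theorem L336045 : sm gf N39764 = N27294 := ded_47_1 (flp_h L231257) (flp_f L231164) L336041
theorem L336048 : sm gj N39764 = N27290 := ded_52_1 (flp_h L231224) (flp_j L231167) L336041
theorem L336066 : sm gi N27285 = N39767 := rfl
theorem L336073 : sm gg N39767 = N27728 := ded_51_1 (flp_i L234890) (flp_g L231191) L336066
theorem L336082 : sm gi N27286 = N39769 := rfl
theorem L336088 : sm gg N39769 = N27730 := ded_51_1 (flp_i L234905) (flp_g L231198) L336082
theorem L336224 : sm gh N27301 = N39786 := rfl
theorem L336232 : sm gj N39786 = N27302 := ded_52_1 (flp_h L231322) L231313 L336224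
theorem L336241 : sm gi N27302 = N39788 := rfl
theorem L336249 : sm gg N39788 = N27304 := ded_51_1 (flp_i L231338) (flp_g L231330) L336241
theorem L336360 : sm gh N27310 = N39802 := rfl
theorem L336368 : sm gi N39802 = N27321 := ded_54_2 (flp_h L231481) (flp_i L159491) (flp_h L159439) L231392 L336360
theorem L336402 : sm ge N27313 = N39807 := rfl
theorem L336407 : sm gg N39807 = N27317 := ded_41_2 (flp_e L231451) (flp_g L231424) L336402
theorem L336466 : sm gd N27317 = N39815 := rfl
theorem L336469 : sm gc N39815 = N27330 := ded_27_1 (flp_d L231561) L159550 (flp_d L159489) (flp_c L231454) L336466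
theorem L336555 : sm gh N27324 = N39826 := rfl
theorem L336562 : sm gj N39826 = N27329 := ded_52_1 (flp_h L231550) (flp_j L231514) L336555
theorem L336579 : sm gi N27325 = N39829 := rfl
theorem L336586 : sm gg N39829 = N27332 := ded_51_1 (flp_i L231572) (flp_g L231521) L336579
theorem L336636 : sm gi N27330 = N39836 := rfl
theorem L336639 : sm gd N39836 = N27332 := ded_39_1 (flp_i L231572) L231561 L336636
theorem L336673 : sm gj N27334 = N39841 := rfl
theorem L336678 : sm ge N39841 = N27344 := ded_42_1 (flp_j L231668) (flp_e L231592) L336673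
theorem L336681 : sm gi N27334 = N39842 := rfl
theorem L336688 : sm gg N39842 = N27335 := ded_51_1 (flp_i L231595) L231587 L336681
theorem L336791 : sm gi N27344 = N39856 := rfl
theorem L336798 : sm gf N39856 = N27516 := ded_48_1 (flp_i L233038) (flp_f L231675) L336791
theorem L336960 : sm gh N27355 = N39875 := rfl
theorem L336968 : sm gi N39875 = N27373 := ded_54_2 (flp_h L231917) (flp_i L159752) (flp_h L159677) L231770 L336960
theorem L336988 : sm gh N27357 = N39878 := rfl
theorem L336994 : sm gi N39878 = N27376 := ded_54_2 (flp_h L231943) (flp_i L159770) (flp_h L159684) L231788 L336988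
theorem L337049 : sm ga N27362 = N39885 := rfl
theorem L337051 : sm gd N39885 = N27394 := ded_12_2 (flp_a L232094) (flp_d L231832) L337049
theorem L337159 : sm gg N27371 = N39899 := rfl
theorem L337161 : sm ga N39899 = N27439 := ded_15_1 (flp_g L232437) (flp_a L231903) L337159
theorem L337165 : sm ge N39899 = N27804 := ded_41_1 (flp_g L235503) (flp_e L231907) L337159
theorem L337281 : sm gd N27382 = N39913 := rfl
theorem L337283 : sm ga N39913 = N27453 := ded_12_1 (flp_d L232541) (flp_a L231995) L337281
theorem L337437 : sm gb N27400 = N39932 := rfl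
theorem L337441 : sm gj N39932 = N27403 := ded_24_2 (flp_b L232166) (flp_j L232145) L337437
theorem L337443 : sm gh N39932 = N27419 := ded_25_2 (flp_b L232287) (flp_h L232147) L337437
theorem L337479 : sm gh N27402 = N39937 := rfl
theorem L337486 : sm gi N39937 = N27424 := ded_54_2 (flp_h L232327) (flp_i L160046) (flp_h L159954) L232158 L337479
theorem L337488 : sm ga N27403 = N39938 := rfl
theorem L337493 : sm gg N39938 = N27409 := ded_15_2 (flp_a L232215) (flp_g L232170) L337488
theorem L337515 : sm gd N27404 = N39941 := rfl
theorem L337517 : sm gg N39941 = N27412 := ded_36_2 (flp_d L232238) (flp_g L232179) L337515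
theorem L337521 : sm gf N27404 = N39942 := rfl
theorem L337525 : sm gh N39942 = N27428 := ded_47_2 (flp_f L232359) (flp_h L232181) L337521
theorem L337528 : sm gi N27404 = N39943 := rfl
theorem L337530 : sm gc N39943 = N27407 := ded_33_1 (flp_i L232198) (flp_c L232177) L337528
theorem L337534 : sm gg N39943 = N27414 := ded_51_1 (flp_i L232250) (flp_g L232179) L337528
theorem L337642 : sm gh N27414 = N39958 := rfl
theorem L337648 : sm gi N39958 = N27441 := ded_54_2 (flp_h L232451) (flp_i L160126) (flp_h L160001) L232250 L337642
theorem L337666 : sm gi N27416 = N39961 := rfl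
theorem L337670 : sm ge N39961 = N27837 := ded_44_1 (flp_i L235771) (flp_e L232268) L337666
theorem L337753 : sm gh N27423 = N39972 := rfl
theorem L337756 : sm ge N39972 = N27424 := ded_43_1 (flp_h L232327) (flp_e L232323) L337753
theorem L337800 : sm gg N27428 = N39978 := rfl
theorem L337805 : sm gf N39978 = N27439 := ded_45_1 (flp_g L232437) (flp_f L160120) (flp_g L160066) L232359 L337800
theorem L337890 : sm gi N27436 = N39990 := rfl
theorem L337895 : sm ge N39990 = N27844 := ded_44_1 (flp_i L235823) (flp_e L232421) L337890
theorem L337897 : sm gf N39990 = N27437 := ded_48_1 (flp_i L232423) L232416 L337890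
theorem L337959 : sm gd N27445 = N40000 := rfl
theorem L337964 : sm gh N40000 = N27456 := ded_38_2 (flp_d L232563) (flp_h L160219) (flp_d L160148) L232480 L337959
theorem L337971 : sm gj N27447 = N40002 := rfl
theorem L337974 : sm ge N40002 = N27536 := ded_42_1 (flp_j L233213) (flp_e L232496) L337971
theorem L337977 : sm gg N40002 = N27450 := ded_49_1 (flp_j L232516) (flp_g L160183) (flp_j L160162) L232493 L337971
theorem L337986 : sm gh N27448 = N40004 := rfl
theorem L337993 : sm gj N40004 = N27452 := ded_52_1 (flp_h L232533) (flp_j L232506) L337986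
theorem L338012 : sm gh N27451 = N40007 := rfl
theorem L338019 : sm gg N40007 = N27452 := ded_50_1 (flp_h L232533) (flp_g L232531) L338012
theorem L338065 : sm gd N27458 = N40015 := rfl
theorem L338068 : sm gf N40015 = N27549 := ded_35_2 (flp_d L233314) (flp_f L232576) L338065
theorem L338073 : sm gh N40015 = N27861 := ded_38_2 (flp_d L235945) (flp_h L162643) (flp_d L160235) L232573 L338065
theorem L338075 : sm gc N27459 = N40016 := rfl
theorem L338079 : sm gg N40016 = N27460 := ded_30_2 (flp_c L232591) (flp_g L232586) L338075
theorem L338081 : sm gh N40016 = N27862 := ded_32_2 (flp_c L235954) (flp_h L232589) L338075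
theorem L338201 : sm gd N27473 = N40032 := rfl
theorem L338206 : sm gj N40032 = N27476 := ded_37_2 (flp_d L232717) (flp_j L232698) L338201
theorem L338291 : sm gf N27482 = N40044 := rfl
theorem L338294 : sm gc N40044 = N27484 := ded_29_1 (flp_f L232778) (flp_c L232764) L338291
theorem L338296 : sm gj N40044 = N27488 := ded_46_2 (flp_f L232814) (flp_j L232767) L338291
theorem L338368 : sm gg N27488 = N40053 := rfl
theorem L338374 : sm gf N40053 = N27497 := ded_45_1 (flp_g L232884) (flp_f L160477) (flp_g L160436) L232814 L338368
theorem L338427 : sm gd N27493 = N40060 := rfl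
theorem L338430 : sm gb N40060 = N27526 := ded_20_1 (flp_d L233125) (flp_b L232857) L338427
theorem L338487 : sm gi N27497 = N40068 := rfl
theorem L338494 : sm gg N40068 = N27498 := ded_51_1 (flp_i L232892) L232884 L338487
theorem L338678 : sm gh N27516 = N40092 := rfl
theorem L338684 : sm gj N40092 = N27517 := ded_52_1 (flp_h L233048) (flp_j L233046) L338678
theorem L338706 : sm ge N27518 = N40095 := rfl
theorem L338709 : sm gb N40095 = N27534 := ded_21_1 (flp_e L233197) (flp_b L233059) L338706
theorem L338712 : sm gh N40095 = N27895 := ded_43_2 (flp_e L236215) (flp_h L233065) L338706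
theorem L338770 : sm gh N27524 = N40102 := rfl
theorem L338774 : sm gf N40102 = N27528 := ded_47_1 (flp_h L233144) (flp_f L233114) L338770
theorem L338776 : sm gg N40102 = N27525 := ded_50_1 (flp_h L233118) (flp_g L233116) L338770
theorem L338823 : sm ge N27529 = N40108 := rfl
theorem L338830 : sm gd N40108 = N27534 := ded_34_1 (flp_e L233197) (flp_d L160724) (flp_e L160694) L233153 L338823
theorem L338895 : sm gi N27536 = N40116 := rfl
theorem L338902 : sm gj N40116 = N27537 := ded_53_1 (flp_i L233221) L233213 L338895
theorem L339086 : sm gh N27555 = N40140 := rfl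
theorem L339090 : sm gc N40140 = N27560 := ded_32_1 (flp_h L233410) (flp_c L233368) L339086
theorem L339186 : sm gi N27561 = N40151 := rfl
theorem L339191 : sm gd N40151 = N27562 := ded_39_1 (flp_i L233428) L233418 L339186
theorem L339193 : sm gg N40151 = N27565 := ded_51_1 (flp_i L233457) (flp_g L233423) L339186
theorem L339213 : sm gi N27563 = N40154 := rfl
theorem L339216 : sm gc N40154 = N27565 := ded_33_1 (flp_i L233457) L233439 L339213
theorem L339220 : sm gf N27564 = N40155 := rfl
theorem L339225 : sm gd N40155 = N27927 := ded_35_1 (flp_f L236499) (flp_d L233455) L339220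
theorem L339229 : sm gh N40155 = N27574 := ded_47_2 (flp_f L233530) (flp_h L233453) L339220
theorem L339357 : sm gf N27572 = N40171 := rfl
theorem L339360 : sm gc N40171 = N27574 := ded_29_1 (flp_f L233530) (flp_c L233519) L339357
theorem L339362 : sm gj N40171 = N27757 := ded_46_2 (flp_f L235114) (flp_j L233521) L339357
theorem L339407 : sm gd N27577 = N40177 := rfl
theorem L339411 : sm gg N40177 = N27582 := ded_36_2 (flp_d L233610) (flp_g L233564) L339407
theorem L339457 : sm gi N27579 = N40182 := rfl
theorem L339463 : sm gf N40182 = N27580 := ded_48_1 (flp_i L233588) L233579 L339457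
theorem L339524 : sm gh N27584 = N40189 := rfl
theorem L339532 : sm gj N40189 = N27768 := ded_52_1 (flp_h L235199) (flp_j L233636) L339524
theorem L339534 : sm gi N40189 = N27961 := ded_54_2 (flp_h L236807) (flp_i L163216) (flp_h L161013) L233628 L339524
theorem L339580 : sm gd N27588 = N40194 := rfl
theorem L339585 : sm gj N40194 = N27773 := ded_37_2 (flp_d L235251) (flp_j L233677) L339580
theorem L339587 : sm gi N40194 = N27966 := ded_39_2 (flp_d L236856) (flp_i L233679) L339580
theorem L339613 : sm gi N27589 = N40198 := rfl
theorem L339617 : sm gd N40198 = N27593 := ded_39_1 (flp_i L233716) (flp_d L233685) L339613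
theorem L339621 : sm gj N40198 = N27777 := ded_53_1 (flp_i L235280) (flp_j L233687) L339613
theorem L339766 : sm gi N27601 = N40214 := rfl
theorem L339770 : sm gd N40214 = N27602 := ded_39_1 (flp_i L233808) L233799 L339766
theorem L339775 : sm gb N27603 = N40215 := rfl
theorem L339778 : sm gg N40215 = N27606 := ded_23_2 (flp_b L233847) (flp_g L233821) L339775
theorem L339781 : sm gh N40215 = N27615 := ded_25_2 (flp_b L233926) (flp_h L233824) L339775
theorem L339804 : sm gf N27604 = N40218 := rfl
theorem L339808 : sm gd N40218 = N27990 := ded_35_1 (flp_f L237074) (flp_d L233836) L339804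
theorem L339811 : sm gh N40218 = N27618 := ded_47_2 (flp_f L233954) (flp_h L233834) L339804
theorem L339824 : sm gh N27605 = N40220 := rfl
theorem L339828 : sm gg N40220 = N27611 := ded_50_1 (flp_h L233893) (flp_g L233844) L339824
theorem L339832 : sm gi N40220 = N27620 := ded_54_2 (flp_h L233972) (flp_i L161226) (flp_h L161150) L233838 L339824
theorem L339967 : sm gh N27614 = N40236 := rfl
theorem L339971 : sm gf N40236 = N27620 := ded_47_1 (flp_h L233972) (flp_f L233923) L339967
theorem L339984 : sm ge N27615 = N40238 := rfl
theorem L339988 : sm gg N40238 = N27622 := ded_41_2 (flp_e L233988) (flp_g L233930) L339984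
theorem L340065 : sm gi N27621 = N40247 := rfl
theorem L340071 : sm gd N40247 = N27649 := ded_39_1 (flp_i L234239) (flp_d L233982) L340065
theorem L340082 : sm gi N27622 = N40249 := rfl
theorem L340089 : sm gj N40249 = N27802 := ded_53_1 (flp_i L235490) (flp_j L233992) L340082
theorem L340125 : sm gd N27626 = N40254 := rfl
theorem L340129 : sm gj N40254 = N27807 := ded_37_2 (flp_d L235529) (flp_j L234029) L340125
theorem L340132 : sm gh N40254 = N27651 := ded_38_2 (flp_d L234256) (flp_h L161453) (flp_d L161256) L234023 L340125
theorem L340150 : sm gh N27628 = N40257 := rfl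
theorem L340154 : sm gf N40257 = N27629 := ded_47_1 (flp_h L234047) (flp_f L234043) L340150
theorem L340156 : sm gj N40257 = N27810 := ded_52_1 (flp_h L235553) (flp_j L234045) L340150
theorem L340188 : sm gh N27631 = N40261 := rfl
theorem L340194 : sm gf N40261 = N27632 := ded_47_1 (flp_h L234074) (flp_f L234071) L340188
theorem L340197 : sm gi N40261 = N28033 := ded_54_2 (flp_h L237466) (flp_i L163648) (flp_h L161291) L234065 L340188
theorem L340241 : sm gc N27636 = N40266 := rfl
theorem L340246 : sm gj N40266 = N27815 := ded_31_2 (flp_c L235597) (flp_j L234123) L340241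
theorem L340248 : sm gi N40266 = N28038 := ded_33_2 (flp_c L237511) (flp_i L234125) L340241
theorem L340251 : sm gh N27637 = N40267 := rfl
theorem L340261 : sm gi N40267 = N28039 := ded_54_2 (flp_h L237519) (flp_i L163703) (flp_h L161353) L234128 L340251
theorem L340272 : sm gc N27639 = N40269 := rfl
theorem L340274 : sm ga N40269 = N27711 := ded_11_1 (flp_c L234748) (flp_a L234150) L340272
theorem L340280 : sm gi N40269 = N28041 := ded_33_2 (flp_c L237537) (flp_i L234156) L340272
theorem L340301 : sm ga N27641 = N40272 := rfl
theorem L340307 : sm gb N40272 = N27714 := ded_10_2 (flp_a L234775) (flp_b L161800) (flp_a L161388) L234169 L340301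
theorem L340316 : sm gi N27641 = N40274 := rfl
theorem L340320 : sm gf N40274 = N27647 := ded_48_1 (flp_i L234220) (flp_f L234171) L340316
theorem L340369 : sm gh N27647 = N40280 := rfl
theorem L340374 : sm gg N40280 = N27650 := ded_50_1 (flp_h L234248) (flp_g L234225) L340369
theorem L340420 : sm ge N27652 = N40286 := rfl
theorem L340425 : sm gd N40286 = N27655 := ded_34_1 (flp_e L234289) (flp_d L161472) (flp_e L161467) L234264 L340420
theorem L340451 : sm gi N27654 = N40290 := rfl
theorem L340456 : sm gf N40290 = N27659 := ded_48_1 (flp_i L234321) (flp_f L234283) L340451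
theorem L340526 : sm gi N27658 = N40299 := rfl
theorem L340530 : sm ge N40299 = N27659 := ded_44_1 (flp_i L234321) L234312 L340526
theorem L340535 : sm gh N27659 = N40300 := rfl
theorem L340542 : sm gi N40300 = N27684 := ded_54_2 (flp_h L234524) (flp_i L161599) (flp_h L161493) L234321 L340535
theorem L340561 : sm gh N27661 = N40303 := rfl
theorem L340566 : sm gg N40303 = N27672 := ded_50_1 (flp_h L234429) (flp_g L234344) L340561
theorem L340569 : sm gi N40303 = N27687 := ded_54_2 (flp_h L234546) (flp_i L161614) (flp_h L161502) L234337 L340561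
theorem L340596 : sm gf N27664 = N40307 := rfl
theorem L340601 : sm gj N40307 = N27827 := ded_46_2 (flp_f L235696) (flp_j L234369) L340596
theorem L340632 : sm gi N27666 = N40311 := rfl
theorem L340634 : sm gc N40311 = N28083 := ded_33_1 (flp_i L237909) (flp_c L234385) L340632
theorem L340689 : sm gh N27671 = N40318 := rfl
theorem L340692 : sm gf N40318 = N27672 := ded_47_1 (flp_h L234429) (flp_f L234425) L340689
theorem L340765 : sm gi N27676 = N40328 := rfl
theorem L340769 : sm ge N40328 = N27686 := ded_44_1 (flp_i L234538) (flp_e L234465) L340765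
theorem L340771 : sm gf N40328 = N27677 := ded_48_1 (flp_i L234467) L234460 L340765
theorem L340825 : sm gg N27682 = N40335 := rfl
theorem L340827 : sm gc N40335 = N27685 := ded_30_1 (flp_g L234531) (flp_c L234510) L340825
theorem L340830 : sm gf N40335 = N27693 := ded_45_1 (flp_g L234596) (flp_f L161655) (flp_g L161595) L234508 L340825
theorem L340874 : sm gh N27686 = N40341 := rfl
theorem L340877 : sm gf N40341 = N27687 := ded_47_1 (flp_h L234546) (flp_f L234543) L340874
theorem L340897 : sm gi N27688 = N40344 := rfl
theorem L340905 : sm gj N40344 = N27841 := ded_53_1 (flp_i L235801) (flp_j L234559) L340897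
theorem L340981 : sm gi N27697 = N40355 := rfl
theorem L340988 : sm gj N40355 = N27698 := ded_53_1 (flp_i L234632) L234625 L340981
theorem L340995 : sm gd N27699 = N40357 := rfl
theorem L340998 : sm gf N40357 = N27700 := ded_35_2 (flp_d L234646) (flp_f L234642) L340995
theorem L341000 : sm gj N40357 = N27854 := ded_37_2 (flp_d L235890) (flp_j L234644) L340995
theorem L341021 : sm gh N27702 = N40360 := rfl
theorem L341026 : sm gf N40360 = N27706 := ded_47_1 (flp_h L234702) (flp_f L234669) L341021
theorem L341030 : sm gi N40360 = N28132 := ded_54_2 (flp_h L238314) (flp_i L164260) (flp_h L161703) L234664 L341021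
theorem L341061 : sm gd N27706 = N40364 := rfl
theorem L341066 : sm gi N40364 = N28136 := ded_39_2 (flp_d L238346) (flp_i L234710) L341061
theorem L341087 : sm gb N27708 = N40367 := rfl
theorem L341091 : sm gj N40367 = N27860 := ded_24_2 (flp_b L235937) (flp_j L234724) L341087
theorem L341093 : sm gi N40367 = N28139 := ded_26_2 (flp_b L238366) (flp_i L234726) L341087
theorem L341174 : sm gi N27715 = N40377 := rfl
theorem L341178 : sm gc N40377 = N27730 := ded_33_1 (flp_i L234905) (flp_c L234787) L341174
theorem L341232 : sm gh N27721 = N40384 := rfl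
theorem L341239 : sm gg N40384 = N27724 := ded_50_1 (flp_h L234859) (flp_g L234838) L341232
theorem L341304 : sm gh N27728 = N40393 := rfl
theorem L341308 : sm gf N40393 = N27737 := ded_47_1 (flp_h L234960) (flp_f L234895) L341304
theorem L341626 : sm gf N27756 = N40435 := rfl
theorem L341631 : sm gd N40435 = N27757 := ded_35_1 (flp_f L235114) L235108 L341626
theorem L341660 : sm gh N27758 = N40440 := rfl
theorem L341663 : sm gc N40440 = N27762 := ded_32_1 (flp_h L235150) (flp_c L235122) L341660
theorem L341665 : sm ge N40440 = N27759 := ded_43_1 (flp_h L235127) (flp_e L235124) L341660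
theorem L341819 : sm gd N27772 = N40459 := rfl
theorem L341824 : sm gf N40459 = N27773 := ded_35_2 (flp_d L235251) (flp_f L235247) L341819
theorem L341826 : sm gi N40459 = N28231 := ded_39_2 (flp_d L239139) (flp_i L235249) L341819
theorem L341921 : sm gh N27781 = N40472 := rfl
theorem L341929 : sm gg N40472 = N27782 := ded_50_1 (flp_h L235322) (flp_g L235320) L341921
theorem L341978 : sm gd N27786 = N40478 := rfl
theorem L341983 : sm gf N40478 = N27893 := ded_35_2 (flp_d L236198) (flp_f L235363) L341978
theorem L341987 : sm gi N40478 = N28250 := ded_39_2 (flp_d L239291) (flp_i L235367) L341978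
theorem L342050 : sm gh N27791 = N40487 := rfl
theorem L342055 : sm gi N40487 = N27803 := ded_54_2 (flp_h L235498) (flp_i L162297) (flp_h L162240) L235401 L342050
theorem L342139 : sm gd N27798 = N40497 := rfl
theorem L342141 : sm ga N40497 = N27839 := ded_12_1 (flp_d L235786) (flp_a L235461) L342139
theorem L342144 : sm gi N40497 = N27811 := ded_39_2 (flp_d L235559) (flp_i L235466) L342139
theorem L342173 : sm gg N27801 = N40501 := rfl
theorem L342175 : sm gb N40501 = N27804 := ded_23_1 (flp_g L235503) (flp_b L235487) L342173
theorem L342179 : sm gi N27801 = N40502 := rfl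
theorem L342184 : sm gf N40502 = N27802 := ded_48_1 (flp_i L235490) L235485 L342179
theorem L342193 : sm gd N27803 = N40504 := rfl
theorem L342195 : sm gb N40504 = N27807 := ded_20_1 (flp_d L235529) (flp_b L235500) L342193
theorem L342264 : sm gc N27811 = N40513 := rfl
theorem L342270 : sm gh N40513 = N27815 := ded_32_2 (flp_c L235597) (flp_h L235565) L342264
theorem L342272 : sm gh N27812 = N40514 := rfl
theorem L342282 : sm gi N40514 = N28286 := ded_54_2 (flp_h L239590) (flp_i L165184) (flp_h L162358) L235567 L342272
theorem L342557 : sm gh N27837 = N40550 := rfl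
theorem L342563 : sm gi N40550 = N27853 := ded_54_2 (flp_h L235884) (flp_i L162589) (flp_h L162503) L235771 L342557
theorem L342765 : sm ga N27860 = N40579 := rfl
theorem L342771 : sm gi N40579 = N28351 := ded_18_2 (flp_a L240068) (flp_i L235942) L342765
theorem L343045 : sm gh N27886 = N40616 := rfl
theorem L343055 : sm gi N40616 = N28388 := ded_54_2 (flp_h L240357) (flp_i L165748) (flp_h L162781) L236131 L343045
theorem L343117 : sm gd N27892 = N40624 := rfl
theorem L343123 : sm gj N40624 = N27893 := ded_37_2 (flp_d L236198) (flp_j L236194) L343117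
theorem L343125 : sm gi N40624 = N28396 := ded_39_2 (flp_d L240414) (flp_i L236196) L343117
theorem L343382 : sm gi N27913 = N40654 := rfl
theorem L343386 : sm gd N40654 = N27914 := ded_39_1 (flp_i L236380) L236372 L343382
theorem L343388 : sm gg N40654 = N27917 := ded_51_1 (flp_i L236406) (flp_g L236376) L343382
theorem L343470 : sm ge N27919 = N40664 := rfl
theorem L343473 : sm gb N40664 = N27985 := ded_21_1 (flp_e L237027) (flp_b L236427) L343470
theorem L343477 : sm gh N40664 = N27931 := ded_43_2 (flp_e L236537) (flp_h L236433) L343470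
theorem L343499 : sm ge N27921 = N40667 := rfl
theorem L343504 : sm gg N40667 = N27925 := ded_41_2 (flp_e L236482) (flp_g L236448) L343499
theorem L343507 : sm gh N40667 = N27934 := ded_43_2 (flp_e L236564) (flp_h L236451) L343499
theorem L343535 : sm gh N27923 = N40671 := rfl
theorem L343544 : sm gi N40671 = N27938 := ded_54_2 (flp_h L236601) (flp_i L163088) (flp_h L163012) L236463 L343535
theorem L343566 : sm gi N27924 = N40674 := rfl
theorem L343570 : sm gc N40674 = N27995 := ded_33_1 (flp_i L237118) (flp_c L236480) L343566
theorem L343575 : sm gd N27925 = N40675 := rfl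
theorem L343578 : sm gj N40675 = N28194 := ded_37_2 (flp_d L238842) (flp_j L236487) L343575
theorem L343627 : sm gh N27928 = N40681 := rfl
theorem L343636 : sm gi N40681 = N27948 := ded_54_2 (flp_h L236690) (flp_i L163132) (flp_h L163038) L236509 L343627
theorem L343683 : sm gh N27932 = N40687 := rfl
theorem L343688 : sm gf N40687 = N27938 := ded_47_1 (flp_h L236601) (flp_f L236552) L343683
theorem L343702 : sm ge N27933 = N40689 := rfl
theorem L343704 : sm gb N40689 = N27934 := ded_21_1 (flp_e L236564) L236556 L343702
theorem L343706 : sm gc N40689 = N28010 := ded_28_1 (flp_e L237255) (flp_c L236562) L343702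
theorem L343830 : sm gh N27941 = N40703 := rfl
theorem L343832 : sm gb N40703 = N27945 := ded_25_1 (flp_h L236662) (flp_b L236629) L343830
theorem L344023 : sm gh N27954 = N40724 := rfl
theorem L344026 : sm gb N40724 = N28033 := ded_25_1 (flp_h L237466) (flp_b L236747) L344023
theorem L344032 : sm gd N27955 = N40725 := rfl
theorem L344035 : sm gb N40725 = N28034 := ded_20_1 (flp_d L237475) (flp_b L236756) L344032
theorem L344037 : sm gg N40725 = N27966 := ded_36_2 (flp_d L236856) (flp_g L236760) L344032
theorem L344041 : sm ge N27956 = N40726 := rfl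
theorem L344045 : sm gj N40726 = N28218 := ded_42_2 (flp_e L239037) (flp_j L236769) L344041
theorem L344047 : sm gd N40726 = N27967 := ded_34_1 (flp_e L236864) L163268 (flp_e L163214) (flp_d L236767) L344041
theorem L344088 : sm gj N27959 = N40732 := rfl
theorem L344094 : sm ge N40732 = N27973 := ded_42_1 (flp_j L236918) (flp_e L236793) L344088
theorem L344098 : sm gi N27959 = N40733 := rfl
theorem L344102 : sm gc N40733 = N27964 := ded_33_1 (flp_i L236836) (flp_c L236791) L344098
theorem L344145 : sm gh N27964 = N40738 := rfl
theorem L344150 : sm ge N40738 = N27979 := ded_43_1 (flp_h L236973) (flp_e L236841) L344145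
theorem L344169 : sm gg N27967 = N40741 := rfl
theorem L344174 : sm ge N40741 = N27968 := ded_41_1 (flp_g L236872) L236864 L344169
theorem L344196 : sm gj N27968 = N40744 := rfl
theorem L344201 : sm gd N40744 = N27973 := ded_37_1 (flp_j L236918) (flp_d L236877) L344196
theorem L344325 : sm gd N27979 = N40758 := rfl
theorem L344331 : sm gg N40758 = N27980 := ded_36_2 (flp_d L236981) (flp_g L236979) L344325
theorem L344385 : sm gb N27984 = N40765 := rfl
theorem L344392 : sm gh N40765 = N28003 := ded_25_2 (flp_b L237192) (flp_h L237024) L344385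
theorem L344424 : sm gi N27985 = N40769 := rfl
theorem L344426 : sm ga N40769 = N28064 := ded_18_1 (flp_i L237747) (flp_a L237029) L344424
theorem L344499 : sm gh N27989 = N40777 := rfl
theorem L344508 : sm gi N40777 = N28014 := ded_54_2 (flp_h L237292) (flp_i L163522) (flp_h L163402) L237064 L344499
theorem L344518 : sm gi N27990 = N40779 := rfl
theorem L344522 : sm gf N40779 = N27991 := ded_48_1 (flp_i L237081) L237074 L344518
theorem L344525 : sm gh N27991 = N40780 := rfl
theorem L344534 : sm gi N40780 = N28017 := ded_54_2 (flp_h L237318) (flp_i L163540) (flp_h L163412) L237081 L344525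
theorem L344581 : sm gh N27995 = N40786 := rfl
theorem L344586 : sm gj N40786 = N28259 := ded_52_1 (flp_h L239361) (flp_j L237124) L344581
theorem L344660 : sm gi N28000 = N40794 := rfl
theorem L344662 : sm ga N40794 = N28089 := ded_18_1 (flp_i L237959) (flp_a L237168) L344660
theorem L344667 : sm gh N28001 = N40795 := rfl
theorem L344674 : sm gj N40795 = N28268 := ded_52_1 (flp_h L239440) (flp_j L237180) L344667
theorem L344676 : sm gi N40795 = N28029 := ded_54_2 (flp_h L237429) (flp_i L163621) (flp_h L163457) L237173 L344667
theorem L344687 : sm ga N28003 = N40797 := rfl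
theorem L344689 : sm gd N40797 = N28044 := ded_12_2 (flp_a L237563) (flp_d L237194) L344687
theorem L344713 : sm gd N28004 = N40800 := rfl
theorem L344720 : sm ge N40800 = N28047 := ded_34_2 (flp_d L237591) (flp_e L163749) (flp_d L163486) L237200 L344713
theorem L344722 : sm gf N28004 = N40801 := rfl
theorem L344729 : sm ge N40801 = N28012 := ded_40_1 (flp_f L237272) (flp_e L163512) (flp_f L163482) L237200 L344722
theorem L344798 : sm gf N28010 = N40809 := rfl
theorem L344800 : sm gb N40809 = N28012 := ded_22_1 (flp_f L237272) (flp_b L237257) L344798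
theorem L344998 : sm ge N28026 = N40831 := rfl
theorem L345003 : sm gj N40831 = N28281 := ded_42_2 (flp_e L239548) (flp_j L237406) L344998
theorem L345005 : sm gh N40831 = N28056 := ded_43_2 (flp_e L237682) (flp_h L237409) L344998
theorem L345072 : sm gc N28034 = N40839 := rfl
theorem L345077 : sm gg N40839 = N28038 := ded_30_2 (flp_c L237511) (flp_g L237479) L345072
theorem L345187 : sm gi N28044 = N40852 := rfl
theorem L345191 : sm gb N40852 = N28147 := ded_26_1 (flp_i L238431) (flp_b L237571) L345187
theorem L345225 : sm gh N28047 = N40856 := rfl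
theorem L345227 : sm ga N40856 = N28151 := ded_17_1 (flp_h L238470) (flp_a L237593) L345225
theorem L345297 : sm ge N28053 = N40863 := rfl
theorem L345299 : sm ga N40863 = N28158 := ded_13_1 (flp_e L238532) (flp_a L237655) L345297
theorem L345302 : sm gg N40863 = N28056 := ded_41_2 (flp_e L237682) (flp_g L237657) L345297
theorem L345364 : sm gf N28058 = N40871 := rfl
theorem L345367 : sm gd N40871 = N28063 := ded_35_1 (flp_f L237739) (flp_d L237703) L345364
theorem L345464 : sm gh N28064 = N40883 := rfl
theorem L345471 : sm gi N40883 = N28101 := ded_54_2 (flp_h L238056) (flp_i L164054) (flp_h L163880) L237747 L345464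
theorem L345483 : sm gi N28066 = N40885 := rfl
theorem L345485 : sm ga N40885 = N28068 := ded_18_1 (flp_i L237783) L237764 L345483
theorem L345489 : sm gg N40885 = N28077 := ded_51_1 (flp_i L237856) (flp_g L237768) L345483
theorem L345543 : sm gg N28070 = N40892 := rfl
theorem L345547 : sm gh N40892 = N28107 := ded_50_2 (flp_g L238108) (flp_h L237804) L345543
theorem L345551 : sm gi N28070 = N40893 := rfl
theorem L345555 : sm gf N40893 = N28071 := ded_48_1 (flp_i L237806) L237799 L345551
theorem L345558 : sm gh N28071 = N40894 := rfl
theorem L345567 : sm gi N40894 = N28109 := ded_54_2 (flp_h L238123) (flp_i L164103) (flp_h L163907) L237806 L345558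
theorem L345637 : sm gh N28077 = N40903 := rfl
theorem L345639 : sm ga N40903 = N28081 := ded_17_1 (flp_h L237892) (flp_a L237858) L345637
theorem L345643 : sm gj N40903 = N28304 := ded_52_1 (flp_h L239729) (flp_j L237863) L345637
theorem L345690 : sm gh N28080 = N40909 := rfl
theorem L345695 : sm ge N40909 = N28081 := ded_43_1 (flp_h L237892) (flp_e L237888) L345690
theorem L345701 : sm gd N28081 = N40910 := rfl
theorem L345703 : sm gb N40910 = N28087 := ded_20_1 (flp_d L237942) (flp_b L237894) L345701
theorem L345731 : sm gh N28083 = N40914 := rfl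
theorem L345734 : sm gj N40914 = N28315 := ded_52_1 (flp_h L239812) (flp_j L237914) L345731
theorem L345753 : sm gh N28085 = N40917 := rfl
theorem L345762 : sm gi N40917 = N28124 := ded_54_2 (flp_h L238251) (flp_i L164194) (flp_h L163979) L237923 L345753
theorem L345764 : sm gd N28086 = N40918 := rfl
theorem L345766 : sm gj N40918 = N28319 := ded_37_2 (flp_d L239842) (flp_j L237938) L345764
theorem L345768 : sm gi N40918 = N28125 := ded_39_2 (flp_d L238260) (flp_i L237940) L345764
theorem L345770 : sm ge N28087 = N40919 := rfl
theorem L345773 : sm gj N40919 = N28320 := ded_42_2 (flp_e L239847) (flp_j L237945) L345770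
theorem L345786 : sm gh N28089 = N40921 := rfl
theorem L345792 : sm gi N40921 = N28128 := ded_54_2 (flp_h L238282) (flp_i L164228) (flp_h L164003) L237959 L345786
theorem L345836 : sm gf N28093 = N40927 := rfl
theorem L345842 : sm ge N40927 = N28104 := ded_40_1 (flp_f L238082) (flp_e L164078) (flp_f L164026) L237992 L345836
theorem L345844 : sm gi N28093 = N40928 := rfl
theorem L345846 : sm gb N40928 = N28097 := ded_26_1 (flp_i L238024) (flp_b L237994) L345844
theorem L345950 : sm gf N28102 = N40941 := rfl
theorem L345952 : sm ga N40941 = N28104 := ded_14_1 (flp_f L238082) (flp_a L238065) L345950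
theorem L345957 : sm gi N28102 = N40942 := rfl
theorem L345963 : sm ge N40942 = N28103 := ded_44_1 (flp_i L238072) L238063 L345957
theorem L345965 : sm gg N40942 = N28116 := ded_51_1 (flp_i L238181) (flp_g L238068) L345957
theorem L346020 : sm gi N28107 = N40949 := rfl
theorem L346025 : sm gf N40949 = N28123 := ded_48_1 (flp_i L238243) (flp_f L238113) L346020
theorem L346090 : sm gi N28115 = N40958 := rfl
theorem L346097 : sm gf N40958 = N28116 := ded_48_1 (flp_i L238181) L238172 L346090
theorem L346119 : sm gj N28118 = N40961 := rfl
theorem L346126 : sm gg N40961 = N28329 := ded_49_1 (flp_j L239916) (flp_g L165425) (flp_j L164167) L238199 L346119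
theorem L346202 : sm ge N28125 = N40971 := rfl
theorem L346204 : sm gj N40971 = N28339 := ded_42_2 (flp_e L239991) (flp_j L238262) L346202
theorem L346217 : sm gh N28127 = N40973 := rfl
theorem L346223 : sm gj N40973 = N28128 := ded_52_1 (flp_h L238282) (flp_j L238280) L346217
theorem L346240 : sm ge N28129 = N40976 := rfl
theorem L346243 : sm gj N40976 = N28344 := ded_42_2 (flp_e L240024) (flp_j L238293) L346240
theorem L346245 : sm gh N40976 = N28138 := ded_43_2 (flp_e L238358) (flp_h L238295) L346240
theorem L346294 : sm gd N28135 = N40983 := rfl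
theorem L346297 : sm gg N40983 = N28346 := ded_36_2 (flp_d L240038) (flp_g L238342) L346294
theorem L346299 : sm gj N40983 = N28136 := ded_37_2 (flp_d L238346) (flp_j L238344) L346294
theorem L346313 : sm gb N28137 = N40986 := rfl
theorem L346316 : sm gf N40986 = N28139 := ded_22_2 (flp_b L238366) (flp_f L238353) L346313
theorem L346426 : sm gc N28148 = N41000 := rfl
theorem L346432 : sm gd N41000 = N28166 := ded_27_2 (flp_c L238602) (flp_d L164491) (flp_c L164368) L238441 L346426
theorem L346434 : sm gh N28148 = N41001 := rfl
theorem L346436 : sm gb N41001 = N28151 := ded_25_1 (flp_h L238470) (flp_b L238443) L346434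
theorem L346463 : sm gd N28150 = N41004 := rfl
theorem L346467 : sm gf N41004 = N28157 := ded_35_2 (flp_d L238524) (flp_f L238465) L346463
theorem L346522 : sm ge N28157 = N41012 := rfl
theorem L346524 : sm gb N41012 = N28158 := ded_21_1 (flp_e L238532) (flp_b L238526) L346522
theorem L346596 : sm gi N28163 = N41021 := rfl
theorem L346598 : sm ga N41021 = N28168 := ded_18_1 (flp_i L238618) (flp_a L238575) L346596
theorem L346601 : sm gd N41021 = N28164 := ded_39_1 (flp_i L238582) L238573 L346596
theorem L346638 : sm gi N28166 = N41025 := rfl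
theorem L346641 : sm gc N41025 = N28168 := ded_33_1 (flp_i L238618) L238602 L346638
theorem L346647 : sm gi N28167 = N41026 := rfl
theorem L346649 : sm gb N41026 = N28171 := ded_26_1 (flp_i L238648) (flp_b L238611) L346647
theorem L346689 : sm gh N28171 = N41031 := rfl
theorem L346697 : sm gi N41031 = N28172 := ded_54_2 (flp_h L238657) (flp_i L164526) L164517 L238648 L346689
theorem L346699 : sm gd N28172 = N41032 := rfl
theorem L346705 : sm gh N41032 = N28173 := ded_38_2 (flp_d L238665) (flp_h L164536) (flp_d L164530) L238657 L346699
theorem L346707 : sm gc N28173 = N41033 := rfl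
theorem L346714 : sm gd N41033 = N28175 := ded_27_2 (flp_c L238680) (flp_d L164557) (flp_c L164539) L238665 L346707
theorem L346899 : sm gh N28187 = N41055 := rfl
theorem L346902 : sm gc N41055 = N28190 := ded_32_1 (flp_h L238808) (flp_c L238789) L346899
theorem L346921 : sm gh N28189 = N41058 := rfl
theorem L346925 : sm ge N41058 = N28190 := ded_43_1 (flp_h L238808) (flp_e L238805) L346921
theorem L346981 : sm gf N28194 = N41065 := rfl
theorem L346984 : sm gd N41065 = N28195 := ded_35_1 (flp_f L238846) L238842 L346981
theorem L346998 : sm gg N28195 = N41068 := rfl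
theorem L347004 : sm gh N41068 = N28210 := ded_50_2 (flp_g L238970) (flp_h L238851) L346998
theorem L347161 : sm ge N28207 = N41087 := rfl
theorem L347164 : sm gc N41087 = N28218 := ded_28_1 (flp_e L239037) (flp_c L238950) L347161
theorem L347168 : sm gg N28207 = N41088 := rfl
theorem L347173 : sm gd N41088 = N28210 := ded_36_1 (flp_g L238970) (flp_d L238952) L347168
theorem L347260 : sm gd N28216 = N41100 := rfl
theorem L347267 : sm gh N41100 = N28231 := ded_38_2 (flp_d L239139) (flp_h L164857) (flp_d L164769) L239020 L347260
theorem L347329 : sm gh N28221 = N41109 := rfl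
theorem L347333 : sm gf N41109 = N28223 := ded_47_1 (flp_h L239071) (flp_f L239063) L347329
theorem L347335 : sm gh N28222 = N41110 := rfl
theorem L347341 : sm gi N41110 = N28223 := ded_54_2 (flp_h L239071) (flp_i L164794) L164788 L239065 L347335
theorem L347570 : sm gh N28243 = N41139 := rfl
theorem L347576 : sm gf N41139 = N28388 := ded_47_1 (flp_h L240357) (flp_f L239241) L347570
theorem L347797 : sm gj N28262 = N41168 := rfl
theorem L347805 : sm gh N41168 = N28277 := ded_52_2 (flp_j L239513) (flp_h L239391) L347797
theorem L347807 : sm gi N28262 = N41169 := rfl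
theorem L347815 : sm gg N41169 = N28263 := ded_51_1 (flp_i L239394) L239384 L347807
theorem L347952 : sm ge N28276 = N41186 := rfl
theorem L347954 : sm gb N41186 = N28281 := ded_21_1 (flp_e L239548) (flp_b L239507) L347952
theorem L347957 : sm gh N41186 = N28299 := ded_43_2 (flp_e L239691) (flp_h L239511) L347952
theorem L348162 : sm ge N28297 = N41213 := rfl
theorem L348164 : sm ga N41213 = N28299 := ded_13_1 (flp_e L239691) (flp_a L239677) L348162
theorem L348244 : sm gd N28304 = N41223 := rfl
theorem L348246 : sm ga N41223 = N28311 := ded_12_1 (flp_d L239786) (flp_a L239731) L348244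
theorem L348296 : sm gj N28308 = N41230 := rfl
theorem L348298 : sm gb N41230 = N28316 := ded_24_1 (flp_j L239817) (flp_b L239761) L348296
theorem L348303 : sm gh N41230 = N28329 := ded_52_2 (flp_j L239916) (flp_h L239765) L348296
theorem L348314 : sm gh N28309 = N41232 := rfl
theorem L348322 : sm gi N41232 = N28331 := ded_54_2 (flp_h L239934) (flp_i L165433) (flp_h L165310) L239768 L348314
theorem L348373 : sm gh N28314 = N41240 := rfl
theorem L348375 : sm gf N41240 = N28315 := ded_47_1 (flp_h L239812) (flp_f L239810) L348373
theorem L348408 : sm gc N28319 = N41245 := rfl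
theorem L348411 : sm gi N41245 = N28338 := ded_33_2 (flp_c L239985) (flp_i L239845) L348408
theorem L348422 : sm gf N28320 = N41247 := rfl
theorem L348426 : sm gi N41247 = N28340 := ded_48_2 (flp_f L239997) (flp_i L239852) L348422
theorem L348429 : sm gh N28321 = N41248 := rfl
theorem L348434 : sm gj N41248 = N28322 := ded_52_1 (flp_h L239861) (flp_j L239859) L348429
theorem L348593 : sm gb N28338 = N41270 := rfl
theorem L348595 : sm gd N41270 = N28345 := ded_20_2 (flp_b L240031) (flp_d L239989) L348593
theorem L348606 : sm gf N28339 = N41272 := rfl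
theorem L348608 : sm gd N41272 = N28340 := ded_35_1 (flp_f L239997) (flp_d L239995) L348606
theorem L348648 : sm ge N28343 = N41278 := rfl
theorem L348650 : sm gc N41278 = N28344 := ded_28_1 (flp_e L240024) L240018 L348648
theorem L348652 : sm gh N41278 = N28350 := ded_43_2 (flp_e L240063) (flp_h L240022) L348648
theorem L348655 : sm ga N28345 = N41279 := rfl
theorem L348660 : sm gh N41279 = N28351 := ded_17_2 (flp_a L240068) (flp_h L240035) L348655
theorem L349189 : sm ge N28396 = N41349 := rfl
theorem L349195 : sm gj N41349 = N28398 := ded_42_2 (flp_e L240429) (flp_j L240420) L349189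
theorem L349540 : sm gg N28427 = N41392 := rfl
theorem L349547 : sm gf N41392 = N28437 := ded_45_1 (flp_g L240759) (flp_f L166035) (flp_g L165984) L240666 L349540
theorem L349678 : sm gi N28436 = N41407 := rfl
theorem L349684 : sm gj N41407 = N28452 := ded_53_1 (flp_i L240887) (flp_j L240756) L349678
theorem L349863 : sm gh N28449 = N41428 := rfl
theorem L349865 : sm gb N41428 = N28455 := ded_25_1 (flp_h L240913) (flp_b L240867) L349863
theorem L349867 : sm ge N41428 = N28451 := ded_43_1 (flp_h L240880) L240865 L349863
theorem L349886 : sm gi N28451 = N41431 := rfl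
theorem L349891 : sm gf N41431 = N28452 := ded_48_1 (flp_i L240887) (flp_f L240884) L349886
theorem L349985 : sm gg N28460 = N41442 := rfl
theorem L349992 : sm gh N41442 = N28641 := ded_50_2 (flp_g L242565) (flp_h L240965) L349985
theorem L350029 : sm gh N28462 = N41447 := rfl
theorem L350036 : sm gd N41447 = N28646 := ded_38_1 (flp_h L242607) L167258 (flp_h L166201) (flp_d L240981) L350029
theorem L350170 : sm gj N28473 = N41462 := rfl
theorem L350178 : sm gh N41462 = N28677 := ded_52_2 (flp_j L242898) (flp_h L241088) L350170
theorem L350181 : sm gg N41462 = N28493 := ded_49_1 (flp_j L241256) (flp_g L166370) (flp_j L166258) L241080 L350170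
theorem L350183 : sm ge N28474 = N41463 := rfl
theorem L350185 : sm gc N41463 = N28476 := ded_28_1 (flp_e L241106) (flp_c L241093) L350183
theorem L350229 : sm gh N28476 = N41469 := rfl
theorem L350236 : sm gj N41469 = N28500 := ded_52_1 (flp_h L241309) (flp_j L241110) L350229
theorem L350392 : sm gh N28489 = N41488 := rfl
theorem L350394 : sm ga N41488 = N28500 := ded_17_1 (flp_h L241309) (flp_a L241221) L350392
theorem L350397 : sm ge N41488 = N28491 := ded_43_1 (flp_h L241237) L241219 L350392
theorem L350518 : sm gd N28500 = N41504 := rfl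
theorem L350520 : sm gb N41504 = N28507 := ded_20_1 (flp_d L241365) (flp_b L241311) L350518
theorem L350563 : sm gh N28504 = N41509 := rfl
theorem L350567 : sm gf N41509 = N28506 := ded_47_1 (flp_h L241358) L241342 L350563
theorem L350570 : sm gh N28505 = N41510 := rfl
theorem L350575 : sm gj N41510 = N28506 := ded_52_1 (flp_h L241358) L241350 L350570
theorem L350668 : sm gd N28513 = N41521 := rfl
theorem L350670 : sm ga N41521 = N28522 := ded_12_1 (flp_d L241506) (flp_a L241419) L350668
theorem L350673 : sm gj N41521 = N28541 := ded_37_2 (flp_d L241677) (flp_j L241425) L350668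
theorem L350675 : sm gc N41521 = N28786 := ded_27_1 (flp_d L243871) L168097 (flp_d L166504) (flp_c L241421) L350668
theorem L350678 : sm gi N28513 = N41522 := rfl
theorem L350680 : sm ga N41522 = N28523 := ded_18_1 (flp_i L241515) (flp_a L241419) L350678
theorem L350682 : sm gc N41522 = N28517 := ded_33_1 (flp_i L241456) (flp_c L241421) L350678
theorem L350686 : sm gj N41522 = N28542 := ded_53_1 (flp_i L241686) (flp_j L241425) L350678
theorem L350707 : sm gj N28515 = N41525 := rfl
theorem L350709 : sm ga N41525 = N28526 := ded_16_1 (flp_j L241541) (flp_a L241438) L350707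
theorem L350716 : sm gg N41525 = N28545 := ded_49_1 (flp_j L241712) (flp_g L166661) (flp_j L166492) L241436 L350707
theorem L350728 : sm gi N28516 = N41527 := rfl
theorem L350733 : sm gd N41527 = N28792 := ded_39_1 (flp_i L243926) (flp_d L241454) L350728
theorem L350737 : sm gj N41527 = N28547 := ded_53_1 (flp_i L241733) (flp_j L241452) L350728
theorem L350784 : sm gd N28521 = N41533 := rfl
theorem L350787 : sm gf N41533 = N28522 := ded_35_2 (flp_d L241506) (flp_f L241502) L350784
theorem L350789 : sm gj N41533 = N28553 := ded_37_2 (flp_d L241783) (flp_j L241504) L350784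
theorem L350791 : sm gc N41533 = N28798 := ded_27_1 (flp_d L243983) L168171 (flp_d L166558) (flp_c L241500) L350784
theorem L350794 : sm gi N28521 = N41534 := rfl
theorem L350797 : sm gc N41534 = N28528 := ded_33_1 (flp_i L241560) (flp_c L241500) L350794
theorem L350799 : sm gf N41534 = N28523 := ded_48_1 (flp_i L241515) (flp_f L241502) L350794
theorem L350801 : sm gj N41534 = N28554 := ded_53_1 (flp_i L241791) (flp_j L241504) L350794
theorem L350804 : sm ge N28522 = N41535 := rfl
theorem L350806 : sm gb N41535 = N41535 := ded_21_1 (flp_e L350804) L241508 L350804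
theorem L350807 : sm gc N41535 = N28800 := ded_28_1 (flp_e L244002) (flp_c L241512) L350804
theorem L350809 : sm gg N41535 = N41535 := ded_41_2 (flp_e L350804) L241509 L350804
theorem L350810 : sm gj N41535 = N28555 := ded_42_2 (flp_e L241799) (flp_j L241510) L350804
theorem L350812 : sm gh N41535 = N41535 := ded_43_2 (flp_e L350804) L241514 L350804
theorem L350813 : sm gd N41535 = N41535 := ded_34_1 (flp_e L350804) (flp_d L241506) L166530 L241506 L350804
theorem L350814 : sm gi N28522 = N41536 := rfl
theorem L350816 : sm gb N41536 = N41536 := ded_26_1 (flp_i L350814) L241508 L350814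
theorem L350817 : sm gc N41536 = N28801 := ded_33_1 (flp_i L244012) (flp_c L241512) L350814
theorem L350819 : sm gd N41536 = N28523 := ded_39_1 (flp_i L241515) L241506 L350814
theorem L350821 : sm gg N41536 = N41536 := ded_51_1 (flp_i L350814) L241509 L350814
theorem L350822 : sm gj N41536 = N28556 := ded_53_1 (flp_i L241808) (flp_j L241510) L350814
theorem L350848 : sm gd N28525 = N41540 := rfl
theorem L350855 : sm ge N41540 = N28805 := ded_34_2 (flp_d L244044) L168206 (flp_d L166558) (flp_e L241536) L350848
theorem L350857 : sm gi N28525 = N41541 := rfl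
theorem L350859 : sm gb N41541 = N28533 := ded_26_1 (flp_i L241603) (flp_b L241534) L350857
theorem L350864 : sm gj N41541 = N28561 := ded_53_1 (flp_i L241847) (flp_j L241539) L350857
theorem L350878 : sm gi N28527 = N41543 := rfl
theorem L350880 : sm gb N41543 = N28535 := ded_26_1 (flp_i L241624) (flp_b L241553) L350878
theorem L350882 : sm gd N41543 = N28808 := ded_39_1 (flp_i L244071) (flp_d L241558) L350878
theorem L350904 : sm gh N28530 = N41546 := rfl
theorem L350908 : sm ge N41546 = N28534 := ded_43_1 (flp_h L241613) (flp_e L241582) L350904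
theorem L350910 : sm gg N41546 = N28566 := ded_50_1 (flp_h L241894) (flp_g L241585) L350904
theorem L350912 : sm gj N41546 = N28531 := ded_52_1 (flp_h L241587) L241578 L350904
theorem L350921 : sm gi N28531 = N41548 := rfl
theorem L350925 : sm ge N41548 = N28535 := ded_44_1 (flp_i L241624) (flp_e L241591) L350921
theorem L350927 : sm gg N41548 = N28533 := ded_51_1 (flp_i L241603) (flp_g L241593) L350921
theorem L350939 : sm gi N28532 = N41550 := rfl
theorem L350942 : sm gd N41550 = N28533 := ded_39_1 (flp_i L241603) L241595 L350939
theorem L350947 : sm gj N41550 = N28570 := ded_53_1 (flp_i L241925) (flp_j L241599) L350939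
theorem L350949 : sm gi N28534 = N41551 := rfl
theorem L350958 : sm gj N41551 = N28535 := ded_53_1 (flp_i L241624) (flp_j L241620) L350949
theorem L350979 : sm gh N28536 = N41554 := rfl
theorem L350982 : sm gb N41554 = N28540 := ded_25_1 (flp_h L241669) (flp_b L241637) L350979
theorem L350985 : sm gf N41554 = N28537 := ded_47_1 (flp_h L241642) L241634 L350979
theorem L350987 : sm gd N28537 = N41555 := rfl
theorem L350990 : sm gb N41555 = N28541 := ded_20_1 (flp_d L241677) (flp_b L241645) L350987
theorem L350992 : sm gg N41555 = N28575 := ded_36_2 (flp_d L241970) (flp_g L241649) L350987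
theorem L350995 : sm gi N28537 = N41556 := rfl
theorem L351002 : sm gg N41556 = N28576 := ded_51_1 (flp_i L241977) (flp_g L241649) L350995
theorem L351040 : sm gh N28539 = N41561 := rfl
theorem L351044 : sm gc N41561 = N28546 := ded_32_1 (flp_h L241722) (flp_c L241663) L351040
theorem L351048 : sm gg N41561 = N28540 := ded_50_1 (flp_h L241669) L241659 L351040
theorem L351050 : sm gd N28540 = N41562 := rfl
theorem L351052 : sm ga N41562 = N28553 := ded_12_1 (flp_d L241783) (flp_a L241671) L351050
theorem L351054 : sm gf N41562 = N28541 := ded_35_2 (flp_d L241677) (flp_f L241675) L351050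
theorem L351056 : sm gc N41562 = N28863 := ded_27_1 (flp_d L244586) L168581 (flp_d L166678) (flp_c L241673) L351050
theorem L351059 : sm gi N28540 = N41563 := rfl
theorem L351061 : sm ga N41563 = N28554 := ded_18_1 (flp_i L241791) (flp_a L241671) L351059
theorem L351063 : sm gc N41563 = N28547 := ded_33_1 (flp_i L241733) (flp_c L241673) L351059
theorem L351065 : sm gf N41563 = N28542 := ded_48_1 (flp_i L241686) (flp_f L241675) L351059
theorem L351068 : sm ge N28541 = N41564 := rfl
theorem L351070 : sm ga N41564 = N28555 := ded_13_1 (flp_e L241799) (flp_a L241679) L351068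
theorem L351072 : sm gc N41564 = N28865 := ded_28_1 (flp_e L244601) (flp_c L241683) L351068
theorem L351074 : sm gg N41564 = N28584 := ded_41_2 (flp_e L242051) (flp_g L241681) L351068
theorem L351076 : sm gh N41564 = N41564 := ded_43_2 (flp_e L351068) L241685 L351068
theorem L351077 : sm gd N41564 = N41564 := ded_34_1 (flp_e L351068) (flp_d L241677) L166651 L241677 L351068
theorem L351078 : sm gi N28541 = N41565 := rfl
theorem L351080 : sm ga N41565 = N28556 := ded_18_1 (flp_i L241808) (flp_a L241679) L351078
theorem L351082 : sm gc N41565 = N28866 := ded_33_1 (flp_i L244610) (flp_c L241683) L351078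
theorem L351084 : sm gd N41565 = N28542 := ded_39_1 (flp_i L241686) L241677 L351078
theorem L351086 : sm gg N41565 = N28585 := ded_51_1 (flp_i L242060) (flp_g L241681) L351078
theorem L351114 : sm gd N28544 = N41569 := rfl
theorem L351116 : sm ga N41569 = N28560 := ded_12_1 (flp_d L241840) (flp_a L241706) L351114
theorem L351120 : sm ge N41569 = N28870 := ded_34_2 (flp_d L244643) L168614 (flp_d L166678) (flp_e L241709) L351114
theorem L351122 : sm gi N28544 = N41570 := rfl
theorem L351124 : sm ga N41570 = N28561 := ded_18_1 (flp_i L241847) (flp_a L241706) L351122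
theorem L351127 : sm ge N41570 = N28547 := ded_44_1 (flp_i L241733) (flp_e L241709) L351122
theorem L351142 : sm gi N28546 = N41572 := rfl
theorem L351147 : sm gd N41572 = N28873 := ded_39_1 (flp_i L244668) (flp_d L241731) L351142
theorem L351149 : sm gf N41572 = N28592 := ded_48_1 (flp_i L242126) (flp_f L241727) L351142
theorem L351151 : sm gg N41572 = N28547 := ded_51_1 (flp_i L241733) (flp_g L241729) L351142
theorem L351175 : sm gj N28549 = N41576 := rfl
theorem L351178 : sm gc N41576 = N28558 := ded_31_1 (flp_j L241825) (flp_c L241752) L351175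
theorem L351180 : sm ge N41576 = N28551 := ded_42_1 (flp_j L241765) (flp_e L241754) L351175
theorem L351196 : sm gi N28550 = N41579 := rfl
theorem L351199 : sm gc N41579 = N28561 := ded_33_1 (flp_i L241847) (flp_c L241760) L351196
theorem L351201 : sm ge N41579 = N28554 := ded_44_1 (flp_i L241791) (flp_e L241762) L351196
theorem L351214 : sm gd N28552 = N41581 := rfl
theorem L351217 : sm gf N41581 = N28601 := ded_35_2 (flp_d L242199) (flp_f L241779) L351214
theorem L351219 : sm gg N41581 = N28553 := ded_36_2 (flp_d L241783) (flp_g L241781) L351214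
theorem L351221 : sm gc N41581 = N28882 := ded_27_1 (flp_d L244745) L168681 (flp_d L166773) (flp_c L241777) L351214
theorem L351224 : sm gi N28552 = N41582 := rfl
theorem L351227 : sm gc N41582 = N28563 := ded_33_1 (flp_i L241865) (flp_c L241777) L351224
theorem L351229 : sm gf N41582 = N28602 := ded_48_1 (flp_i L242207) (flp_f L241779) L351224
theorem L351231 : sm gg N41582 = N28554 := ded_51_1 (flp_i L241791) (flp_g L241781) L351224
theorem L351234 : sm ge N28553 = N41583 := rfl
theorem L351236 : sm gb N41583 = N41583 := ded_21_1 (flp_e L351234) L241785 L351234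
theorem L351237 : sm gc N41583 = N28884 := ded_28_1 (flp_e L244764) (flp_c L241788) L351234
theorem L351239 : sm gh N41583 = N41583 := ded_43_2 (flp_e L351234) L241790 L351234
theorem L351240 : sm gi N28553 = N41584 := rfl
theorem L351242 : sm gb N41584 = N41584 := ded_26_1 (flp_i L351240) L241785 L351240
theorem L351243 : sm gc N41584 = N28885 := ded_33_1 (flp_i L244769) (flp_c L241788) L351240
theorem L351245 : sm gd N41584 = N28554 := ded_39_1 (flp_i L241791) L241783 L351240
theorem L351247 : sm gf N41584 = N28556 := ded_48_1 (flp_i L241808) (flp_f L241786) L351240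
theorem L351249 : sm gf N28555 = N41585 := rfl
theorem L351251 : sm gb N41585 = N41585 := ded_22_1 (flp_f L351249) L241801 L351249
theorem L351252 : sm gc N41585 = N28886 := ded_29_1 (flp_f L244777) (flp_c L241802) L351249
theorem L351254 : sm gd N41585 = N41585 := ded_35_1 (flp_f L351249) L241807 L351249
theorem L351255 : sm gh N41585 = N41585 := ded_47_2 (flp_f L351249) L241806 L351249
theorem L351256 : sm gi N28555 = N41586 := rfl
theorem L351258 : sm gb N41586 = N41586 := ded_26_1 (flp_i L351256) L241801 L351256
theorem L351259 : sm gc N41586 = N28887 := ded_33_1 (flp_i L244784) (flp_c L241802) L351256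
theorem L351261 : sm gd N41586 = N41586 := ded_39_1 (flp_i L351256) L241807 L351256
theorem L351262 : sm ge N41586 = N28556 := ded_44_1 (flp_i L241808) L241799 L351256
theorem L351264 : sm gg N41586 = N28606 := ded_51_1 (flp_i L242240) (flp_g L241804) L351256
theorem L351266 : sm gh N28556 = N41587 := rfl
theorem L351268 : sm gb N41587 = N41587 := ded_25_1 (flp_h L351266) L241810 L351266
theorem L351269 : sm gc N41587 = N28888 := ded_32_1 (flp_h L244794) (flp_c L241811) L351266
theorem L351271 : sm gg N41587 = N28607 := ded_50_1 (flp_h L242249) (flp_g L241815) L351266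
theorem L351273 : sm gd N41587 = N41587 := ded_38_1 (flp_h L351266) L241813 L166741 (flp_d L241813) L351266
theorem L351274 : sm gi N41587 = N41587 := ded_54_2 (flp_h L351266) (flp_i L241808) L166732 L241808 L351266
theorem L351301 : sm gd N28559 = N41591 := rfl
theorem L351303 : sm gb N41591 = N28567 := ded_20_1 (flp_d L241902) (flp_b L241834) L351301
theorem L351307 : sm ge N41591 = N28892 := ded_34_2 (flp_d L244827) L168737 (flp_d L166773) (flp_e L241836) L351301
theorem L351309 : sm gi N28559 = N41592 := rfl
theorem L351311 : sm gb N41592 = N28568 := ded_26_1 (flp_i L241909) (flp_b L241834) L351309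
theorem L351315 : sm gg N41592 = N28561 := ded_51_1 (flp_i L241847) (flp_g L241838) L351309
theorem L351318 : sm gc N28560 = N41593 := rfl
theorem L351320 : sm ge N41593 = N28894 := ded_28_2 (flp_c L244841) (flp_e L241845) L351318
theorem L351323 : sm gi N28560 = N41594 := rfl
theorem L351325 : sm gb N41594 = N28570 := ded_26_1 (flp_i L241925) (flp_b L241842) L351323
theorem L351327 : sm gd N41594 = N28561 := ded_39_1 (flp_i L241847) L241840 L351323
theorem L351329 : sm ge N41594 = N28895 := ded_44_1 (flp_i L244845) (flp_e L241845) L351323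
theorem L351331 : sm gf N41594 = N41594 := ded_48_1 (flp_i L351323) L241844 L351323
theorem L351332 : sm gi N28562 = N41595 := rfl
theorem L351336 : sm gd N41595 = N28896 := ded_39_1 (flp_i L244853) (flp_d L241863) L351332
theorem L351367 : sm gi N28565 = N41599 := rfl
theorem L351371 : sm ge N41599 = N28619 := ded_44_1 (flp_i L242349) (flp_e L241889) L351367
theorem L351373 : sm gf N41599 = N28568 := ded_48_1 (flp_i L241909) (flp_f L241891) L351367
theorem L351384 : sm gi N28566 = N41601 := rfl
theorem L351388 : sm ge N41601 = N28571 := ded_44_1 (flp_i L241933) (flp_e L241898) L351384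
theorem L351390 : sm gj N41601 = N28568 := ded_53_1 (flp_i L241909) (flp_j L241900) L351384
theorem L351393 : sm gc N28567 = N41602 := rfl
theorem L351396 : sm ge N41602 = N28903 := ded_28_2 (flp_c L244913) (flp_e L241907) L351393
theorem L351398 : sm gg N41602 = N28569 := ded_30_2 (flp_c L241918) (flp_g L241905) L351393
theorem L351401 : sm gi N28567 = N41603 := rfl
theorem L351404 : sm gd N41603 = N28568 := ded_39_1 (flp_i L241909) L241902 L351401
theorem L351408 : sm gg N41603 = N28570 := ded_51_1 (flp_i L241925) (flp_g L241905) L351401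
theorem L351410 : sm gb N28569 = N41604 := rfl
theorem L351413 : sm ge N41604 = N28905 := ded_21_2 (flp_b L244927) (flp_e L241921) L351410
theorem L351416 : sm gi N28569 = N41605 := rfl
theorem L351419 : sm gc N41605 = N28570 := ded_33_1 (flp_i L241925) L241918 L351416
theorem L351422 : sm ge N41605 = N28906 := ded_44_1 (flp_i L244933) (flp_e L241921) L351416
theorem L351425 : sm gh N28570 = N41606 := rfl
theorem L351477 : sm gd N28574 = N41612 := rfl
theorem L351482 : sm gf N41612 = N28575 := ded_35_2 (flp_d L241970) (flp_f L241967) L351477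
theorem L351486 : sm gi N28574 = N41613 := rfl
theorem L351489 : sm gb N41613 = N28583 := ded_26_1 (flp_i L242041) (flp_b L241964) L351486
theorem L351492 : sm gf N41613 = N28576 := ded_48_1 (flp_i L241977) (flp_f L241967) L351486
theorem L351496 : sm gc N28575 = N41614 := rfl
theorem L351498 : sm ga N41614 = N41614 := ded_11_1 (flp_c L351496) L241972 L351496
theorem L351499 : sm gj N41614 = N41614 := ded_31_2 (flp_c L351496) L241975 L351496
theorem L351500 : sm gh N41614 = N41614 := ded_32_2 (flp_c L351496) L241976 L351496
theorem L351501 : sm gb N41614 = N28970 := ded_19_1 (flp_c L245545) L169214 (flp_c L166890) (flp_b L241973) L351496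
theorem L351503 : sm gd N41614 = N41614 := ded_27_2 (flp_c L351496) (flp_d L241970) L166856 L241970 L351496
theorem L351504 : sm ge N28575 = N41615 := rfl
theorem L351506 : sm ga N41615 = N41615 := ded_13_1 (flp_e L351504) L241972 L351504
theorem L351507 : sm gb N41615 = N28584 := ded_21_1 (flp_e L242051) (flp_b L241973) L351504
theorem L351509 : sm gj N41615 = N41615 := ded_42_2 (flp_e L351504) L241975 L351504
theorem L351510 : sm gh N41615 = N41615 := ded_43_2 (flp_e L351504) L241976 L351504
theorem L351511 : sm gd N41615 = N41615 := ded_34_1 (flp_e L351504) (flp_d L241970) L166857 L241970 L351504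
theorem L351512 : sm gi N28575 = N41616 := rfl
theorem L351514 : sm ga N41616 = N41616 := ded_18_1 (flp_i L351512) L241972 L351512
theorem L351515 : sm gb N41616 = N28585 := ded_26_1 (flp_i L242060) (flp_b L241973) L351512
theorem L351517 : sm gd N41616 = N28576 := ded_39_1 (flp_i L241977) L241970 L351512
theorem L351519 : sm gj N41616 = N41616 := ded_53_1 (flp_i L351512) L241975 L351512
theorem L351537 : sm gf N28578 = N41619 := rfl
theorem L351539 : sm ga N41619 = N28595 := ded_14_1 (flp_f L242151) (flp_a L241997) L351537
theorem L351541 : sm gc N41619 = N28586 := ded_29_1 (flp_f L242069) (flp_c L241999) L351537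
theorem L351545 : sm gj N28578 = N41620 := rfl
theorem L351549 : sm gc N41620 = N28587 := ded_31_1 (flp_j L242077) (flp_c L241999) L351545
theorem L351551 : sm ge N41620 = N28580 := ded_42_1 (flp_j L242014) (flp_e L242001) L351545
theorem L351555 : sm gh N28578 = N41621 := rfl
theorem L351557 : sm ga N41621 = N28597 := ded_17_1 (flp_h L242167) (flp_a L241997) L351555
theorem L351571 : sm gi N28579 = N41623 := rfl
theorem L351573 : sm ga N41623 = N28599 := ded_18_1 (flp_i L242181) (flp_a L242006) L351571
theorem L351575 : sm gc N41623 = N28590 := ded_33_1 (flp_i L242106) (flp_c L242008) L351571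
theorem L351577 : sm ge N41623 = N28583 := ded_44_1 (flp_i L242041) (flp_e L242010) L351571
theorem L351591 : sm gd N28581 = N41625 := rfl
theorem L351593 : sm ga N41625 = N28601 := ded_12_1 (flp_d L242199) (flp_a L242025) L351591
theorem L351595 : sm gg N41625 = N28582 := ded_36_2 (flp_d L242031) (flp_g L242029) L351591
theorem L351597 : sm gc N41625 = N28981 := ded_27_1 (flp_d L245642) L169268 (flp_d L166936) (flp_c L242027) L351591
theorem L351600 : sm gi N28581 = N41626 := rfl
theorem L351602 : sm ga N41626 = N28602 := ded_18_1 (flp_i L242207) (flp_a L242025) L351600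
theorem L351604 : sm gc N41626 = N28592 := ded_33_1 (flp_i L242126) (flp_c L242027) L351600
theorem L351606 : sm gg N41626 = N28583 := ded_51_1 (flp_i L242041) (flp_g L242029) L351600
theorem L351609 : sm ge N28582 = N41627 := rfl
theorem L351611 : sm ga N41627 = N28603 := ded_13_1 (flp_e L242215) (flp_a L242033) L351609
theorem L351617 : sm gi N28582 = N41628 := rfl
theorem L351619 : sm ga N41628 = N28604 := ded_18_1 (flp_i L242222) (flp_a L242033) L351617
theorem L351621 : sm gc N41628 = N28984 := ded_33_1 (flp_i L245663) (flp_c L242038) L351617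
theorem L351623 : sm gd N41628 = N28583 := ded_39_1 (flp_i L242041) L242031 L351617
theorem L351625 : sm gf N41628 = N28585 := ded_48_1 (flp_i L242060) (flp_f L242035) L351617
theorem L351627 : sm gj N41628 = N41628 := ded_53_1 (flp_i L351617) L242037 L351617
theorem L351628 : sm gf N28584 = N41629 := rfl
theorem L351630 : sm ga N41629 = N28605 := ded_14_1 (flp_f L242232) (flp_a L242053) L351628
theorem L351632 : sm gc N41629 = N28985 := ded_29_1 (flp_f L245672) (flp_c L242055) L351628
theorem L351634 : sm gd N41629 = N41629 := ded_35_1 (flp_f L351628) L242059 L351628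
theorem L351635 : sm gj N41629 = N41629 := ded_46_2 (flp_f L351628) L242057 L351628
theorem L351636 : sm gh N41629 = N41629 := ded_47_2 (flp_f L351628) L242058 L351628
theorem L351637 : sm gi N28584 = N41630 := rfl
theorem L351639 : sm ga N41630 = N28606 := ded_18_1 (flp_i L242240) (flp_a L242053) L351637
theorem L351641 : sm gc N41630 = N28986 := ded_33_1 (flp_i L245680) (flp_c L242055) L351637
theorem L351643 : sm gd N41630 = N41630 := ded_39_1 (flp_i L351637) L242059 L351637
theorem L351644 : sm ge N41630 = N28585 := ded_44_1 (flp_i L242060) L242051 L351637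
theorem L351646 : sm gj N41630 = N41630 := ded_53_1 (flp_i L351637) L242057 L351637
theorem L351647 : sm gh N28585 = N41631 := rfl
theorem L351649 : sm ga N41631 = N28607 := ded_17_1 (flp_h L242249) (flp_a L242062) L351647
theorem L351651 : sm gc N41631 = N28987 := ded_32_1 (flp_h L245689) (flp_c L242064) L351647
theorem L351653 : sm gj N41631 = N41631 := ded_52_1 (flp_h L351647) L242068 L351647
theorem L351654 : sm gd N41631 = N41631 := ded_38_1 (flp_h L351647) L242066 L166901 (flp_d L242066) L351647
theorem L351655 : sm gi N41631 = N41631 := ded_54_2 (flp_h L351647) (flp_i L242060) L166892 L242060 L351647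
theorem L351683 : sm gd N28588 = N41635 := rfl
theorem L351685 : sm ga N41635 = N28611 := ded_12_1 (flp_d L242281) (flp_a L242089) L351683
theorem L351688 : sm gg N41635 = N28589 := ded_36_2 (flp_d L242096) (flp_g L242094) L351683
theorem L351690 : sm ge N41635 = N28991 := ded_34_2 (flp_d L245722) L169326 (flp_d L166936) (flp_e L242092) L351683
theorem L351693 : sm gi N28588 = N41636 := rfl
theorem L351695 : sm ga N41636 = N28612 := ded_18_1 (flp_i L242290) (flp_a L242089) L351693
theorem L351703 : sm gc N28589 = N41637 := rfl
theorem L351705 : sm ga N41637 = N28613 := ded_11_1 (flp_c L242299) (flp_a L242098) L351703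
theorem L351712 : sm gi N28589 = N41638 := rfl
theorem L351714 : sm ga N41638 = N28614 := ded_18_1 (flp_i L242306) (flp_a L242098) L351712
theorem L351716 : sm gb N41638 = N41638 := ded_26_1 (flp_i L351712) L242100 L351712
theorem L351717 : sm gd N41638 = N28590 := ded_39_1 (flp_i L242106) L242096 L351712
theorem L351719 : sm ge N41638 = N28994 := ded_44_1 (flp_i L245747) (flp_e L242103) L351712
theorem L351721 : sm gf N41638 = N41638 := ded_48_1 (flp_i L351712) L242101 L351712
theorem L351722 : sm gj N41638 = N41638 := ded_53_1 (flp_i L351712) L242102 L351712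
theorem L351723 : sm gi N28591 = N41639 := rfl
theorem L351728 : sm gd N41639 = N28995 := ded_39_1 (flp_i L245757) (flp_d L242124) L351723
theorem L351804 : sm gi N28597 = N41649 := rfl
theorem L351807 : sm gc N41649 = N28612 := ded_33_1 (flp_i L242290) (flp_c L242170) L351804
theorem L351809 : sm ge N41649 = N28602 := ded_44_1 (flp_i L242207) (flp_e L242172) L351804
theorem L351811 : sm gg N41649 = N28599 := ded_51_1 (flp_i L242181) (flp_g L242174) L351804
theorem L351814 : sm gc N28598 = N41650 := rfl
theorem L351818 : sm gd N41650 = N28613 := ded_27_2 (flp_c L242299) (flp_d L167047) (flp_c L166968) L242176 L351814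
theorem L351820 : sm ge N28598 = N41651 := rfl
theorem L351824 : sm gd N41651 = N28603 := ded_34_1 (flp_e L242215) (flp_d L166989) (flp_e L166970) L242176 L351820
theorem L351833 : sm gd N28600 = N41653 := rfl
theorem L351837 : sm gj N41653 = N28601 := ded_37_2 (flp_d L242199) (flp_j L242197) L351833
theorem L351839 : sm gc N41653 = N29009 := ded_27_1 (flp_d L245877) L169430 (flp_d L167072) (flp_c L242194) L351833
theorem L351842 : sm gi N28600 = N41654 := rfl
theorem L351845 : sm gc N41654 = N28615 := ded_33_1 (flp_i L242316) (flp_c L242194) L351842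
theorem L351848 : sm gj N41654 = N28602 := ded_53_1 (flp_i L242207) (flp_j L242197) L351842
theorem L351851 : sm ge N28601 = N41655 := rfl
theorem L351853 : sm gb N41655 = N41655 := ded_21_1 (flp_e L351851) L242201 L351851
theorem L351854 : sm gc N41655 = N29011 := ded_28_1 (flp_e L245894) (flp_c L242204) L351851
theorem L351856 : sm gg N41655 = N28603 := ded_41_2 (flp_e L242215) (flp_g L242202) L351851
theorem L351858 : sm gh N41655 = N41655 := ded_43_2 (flp_e L351851) L242206 L351851
theorem L351859 : sm gi N28601 = N41656 := rfl
theorem L351861 : sm gb N41656 = N41656 := ded_26_1 (flp_i L351859) L242201 L351859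
theorem L351862 : sm gc N41656 = N29012 := ded_33_1 (flp_i L245901) (flp_c L242204) L351859
theorem L351864 : sm gd N41656 = N28602 := ded_39_1 (flp_i L242207) L242199 L351859
theorem L351866 : sm gg N41656 = N28604 := ded_51_1 (flp_i L242222) (flp_g L242202) L351859
theorem L351868 : sm gf N28603 = N41657 := rfl
theorem L351870 : sm gb N41657 = N41657 := ded_22_1 (flp_f L351868) L242217 L351868
theorem L351871 : sm gc N41657 = N29013 := ded_29_1 (flp_f L245909) (flp_c L242218) L351868
theorem L351873 : sm gj N41657 = N41657 := ded_46_2 (flp_f L351868) L242220 L351868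
theorem L351874 : sm gh N41657 = N41657 := ded_47_2 (flp_f L351868) L242221 L351868
theorem L351875 : sm ge N41657 = N28605 := ded_40_1 (flp_f L242232) (flp_e L167007) (flp_f L166992) L242215 L351868
theorem L351877 : sm gi N28603 = N41658 := rfl
theorem L351879 : sm gb N41658 = N41658 := ded_26_1 (flp_i L351877) L242217 L351877
theorem L351880 : sm gc N41658 = N29014 := ded_33_1 (flp_i L245917) (flp_c L242218) L351877
theorem L351882 : sm ge N41658 = N28604 := ded_44_1 (flp_i L242222) L242215 L351877
theorem L351884 : sm gj N41658 = N41658 := ded_53_1 (flp_i L351877) L242220 L351877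
theorem L351885 : sm gh N28604 = N41659 := rfl
theorem L351887 : sm gb N41659 = N41659 := ded_25_1 (flp_h L351885) L242224 L351885
theorem L351888 : sm gc N41659 = N29015 := ded_32_1 (flp_h L245924) (flp_c L242225) L351885
theorem L351890 : sm gf N41659 = N28607 := ded_47_1 (flp_h L242249) (flp_f L242229) L351885
theorem L351892 : sm gj N41659 = N41659 := ded_52_1 (flp_h L351885) L242231 L351885
theorem L351893 : sm gd N41659 = N41659 := ded_38_1 (flp_h L351885) L242227 L167006 (flp_d L242227) L351885
theorem L351894 : sm gi N41659 = N41659 := ded_54_2 (flp_h L351885) (flp_i L242222) L166997 L242222 L351885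
theorem L351895 : sm gg N28605 = N41660 := rfl
theorem L351897 : sm gb N41660 = N41660 := ded_23_1 (flp_g L351895) L242234 L351895
theorem L351898 : sm gc N41660 = N29016 := ded_30_1 (flp_g L245932) (flp_c L242235) L351895
theorem L351900 : sm gd N41660 = N41660 := ded_36_1 (flp_g L351895) L242237 L351895
theorem L351901 : sm gh N41660 = N41660 := ded_50_2 (flp_g L351895) L242239 L351895
theorem L351902 : sm gi N28605 = N41661 := rfl
theorem L351904 : sm gb N41661 = N41661 := ded_26_1 (flp_i L351902) L242234 L351902
theorem L351905 : sm gc N41661 = N29017 := ded_33_1 (flp_i L245939) (flp_c L242235) L351902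
theorem L351907 : sm gd N41661 = N41661 := ded_39_1 (flp_i L351902) L242237 L351902
theorem L351908 : sm gf N41661 = N28606 := ded_48_1 (flp_i L242240) L242232 L351902
theorem L351910 : sm gj N41661 = N41661 := ded_53_1 (flp_i L351902) L242238 L351902
theorem L351911 : sm gh N28606 = N41662 := rfl
theorem L351913 : sm gb N41662 = N41662 := ded_25_1 (flp_h L351911) L242242 L351911
theorem L351914 : sm gc N41662 = N29018 := ded_32_1 (flp_h L245948) (flp_c L242243) L351911
theorem L351916 : sm ge N41662 = N28607 := ded_43_1 (flp_h L242249) (flp_e L242246) L351911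
theorem L351918 : sm gj N41662 = N41662 := ded_52_1 (flp_h L351911) L242248 L351911
theorem L351919 : sm gi N41662 = N41662 := ded_54_2 (flp_h L351911) (flp_i L242240) L167013 L242240 L351911
theorem L351928 : sm gh N28608 = N41664 := rfl
theorem L351930 : sm gb N41664 = N28617 := ded_25_1 (flp_h L242334) (flp_b L242259) L351928
theorem L351934 : sm gj N41664 = N28609 := ded_52_1 (flp_h L242265) L242257 L351928
theorem L351936 : sm gd N28609 = N41665 := rfl
theorem L351938 : sm gb N41665 = N28618 := ded_20_1 (flp_d L242342) (flp_b L242267) L351936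
theorem L351940 : sm gf N41665 = N28611 := ded_35_2 (flp_d L242281) (flp_f L242269) L351936
theorem L351944 : sm gi N28609 = N41666 := rfl
theorem L351948 : sm gf N41666 = N28612 := ded_48_1 (flp_i L242290) (flp_f L242269) L351944
theorem L351952 : sm gd N28610 = N41667 := rfl
theorem L351954 : sm gb N41667 = N28620 := ded_20_1 (flp_d L242357) (flp_b L242274) L351952
theorem L351957 : sm gj N41667 = N28611 := ded_37_2 (flp_d L242281) (flp_j L242279) L351952
theorem L351959 : sm ge N41667 = N29023 := ded_34_2 (flp_d L245989) L169507 (flp_d L167072) (flp_e L242276) L351952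
theorem L351962 : sm gi N28610 = N41668 := rfl
theorem L351964 : sm gb N41668 = N28621 := ded_26_1 (flp_i L242366) (flp_b L242274) L351962
theorem L351969 : sm gj N41668 = N28612 := ded_53_1 (flp_i L242290) (flp_j L242279) L351962
theorem L351972 : sm gc N28611 = N41669 := rfl
theorem L351974 : sm ge N41669 = N29025 := ded_28_2 (flp_c L246006) (flp_e L242287) L351972
theorem L351976 : sm gg N41669 = N28613 := ded_30_2 (flp_c L242299) (flp_g L242285) L351972
theorem L351978 : sm gh N41669 = N41669 := ded_32_2 (flp_c L351972) L242289 L351972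
theorem L351979 : sm gi N28611 = N41670 := rfl
theorem L351981 : sm gb N41670 = N28623 := ded_26_1 (flp_i L242385) (flp_b L242283) L351979
theorem L351983 : sm gd N41670 = N28612 := ded_39_1 (flp_i L242290) L242281 L351979
theorem L351985 : sm ge N41670 = N29026 := ded_44_1 (flp_i L246011) (flp_e L242287) L351979
theorem L351987 : sm gg N41670 = N28614 := ded_51_1 (flp_i L242306) (flp_g L242285) L351979
theorem L351989 : sm gb N28613 = N41671 := rfl
theorem L351991 : sm ge N41671 = N29027 := ded_21_2 (flp_b L246019) (flp_e L242301) L351989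
theorem L351993 : sm gf N41671 = N41671 := ded_22_2 (flp_b L351989) L242303 L351989
theorem L351994 : sm gj N41671 = N41671 := ded_24_2 (flp_b L351989) L242304 L351989
theorem L351995 : sm gh N41671 = N41671 := ded_25_2 (flp_b L351989) L242305 L351989
theorem L351996 : sm gc N41671 = N28624 := ded_19_2 (flp_b L242394) (flp_c L167124) (flp_b L167049) L242299 L351989
theorem L351998 : sm gi N28613 = N41672 := rfl
theorem L352000 : sm gc N41672 = N28614 := ded_33_1 (flp_i L242306) L242299 L351998
theorem L352002 : sm ge N41672 = N29028 := ded_44_1 (flp_i L246027) (flp_e L242301) L351998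
theorem L352004 : sm gf N41672 = N41672 := ded_48_1 (flp_i L351998) L242303 L351998
theorem L352005 : sm gj N41672 = N41672 := ded_53_1 (flp_i L351998) L242304 L351998
theorem L352006 : sm gh N28614 = N41673 := rfl
theorem L352008 : sm gb N41673 = N28626 := ded_25_1 (flp_h L242412) (flp_b L242308) L352006
theorem L352010 : sm ge N41673 = N29029 := ded_43_1 (flp_h L246034) (flp_e L242312) L352006
theorem L352012 : sm gf N41673 = N41673 := ded_47_1 (flp_h L352006) L242314 L352006
theorem L352013 : sm gj N41673 = N41673 := ded_52_1 (flp_h L352006) L242315 L352006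
theorem L352014 : sm gd N41673 = N41673 := ded_38_1 (flp_h L352006) L242310 L167064 (flp_d L242310) L352006
theorem L352015 : sm gi N41673 = N41673 := ded_54_2 (flp_h L352006) (flp_i L242306) L167055 L242306 L352006
theorem L352024 : sm gd N28617 = N41675 := rfl
theorem L352027 : sm gf N41675 = N28620 := ded_35_2 (flp_d L242357) (flp_f L242338) L352024
theorem L352029 : sm gj N41675 = N28618 := ded_37_2 (flp_d L242342) (flp_j L242340) L352024
theorem L352032 : sm gi N28617 = N41676 := rfl
theorem L352036 : sm gf N41676 = N28621 := ded_48_1 (flp_i L242366) (flp_f L242338) L352032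
theorem L352041 : sm gc N28618 = N41677 := rfl
theorem L352043 : sm ga N41677 = N41677 := ded_11_1 (flp_c L352041) L242344 L352041
theorem L352044 : sm gf N41677 = N28622 := ded_29_2 (flp_c L242376) (flp_f L242345) L352041
theorem L352046 : sm gg N41677 = N41677 := ded_30_2 (flp_c L352041) L242347 L352041
theorem L352047 : sm gh N41677 = N41677 := ded_32_2 (flp_c L352041) L242348 L352041
theorem L352048 : sm gd N41677 = N41677 := ded_27_2 (flp_c L352041) (flp_d L242342) L167094 L242342 L352041
theorem L352049 : sm ge N28618 = N41678 := rfl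
theorem L352054 : sm gf N41678 = N29034 := ded_40_2 (flp_e L246079) L169570 (flp_e L167112) (flp_f L242345) L352049
theorem L352056 : sm gi N28618 = N41679 := rfl
theorem L352058 : sm ga N41679 = N41679 := ded_18_1 (flp_i L352056) L242344 L352056
theorem L352059 : sm gd N41679 = N28619 := ded_39_1 (flp_i L242349) L242342 L352056
theorem L352061 : sm gf N41679 = N28623 := ded_48_1 (flp_i L242385) (flp_f L242345) L352056
theorem L352063 : sm gg N41679 = N41679 := ded_51_1 (flp_i L352056) L242347 L352056
theorem L352064 : sm gc N28620 = N41680 := rfl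
theorem L352066 : sm ga N41680 = N41680 := ded_11_1 (flp_c L352064) L242359 L352064
theorem L352067 : sm ge N41680 = N29036 := ded_28_2 (flp_c L246094) (flp_e L242363) L352064
theorem L352069 : sm gg N41680 = N41680 := ded_30_2 (flp_c L352064) L242360 L352064
theorem L352070 : sm gj N41680 = N28622 := ded_31_2 (flp_c L242376) (flp_j L242361) L352064
theorem L352072 : sm gh N41680 = N41680 := ded_32_2 (flp_c L352064) L242365 L352064
theorem L352073 : sm gd N41680 = N41680 := ded_27_2 (flp_c L352064) (flp_d L242357) L167101 L242357 L352064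
theorem L352074 : sm gi N28620 = N41681 := rfl
theorem L352076 : sm ga N41681 = N41681 := ded_18_1 (flp_i L352074) L242359 L352074
theorem L352077 : sm gd N41681 = N28621 := ded_39_1 (flp_i L242366) L242357 L352074
theorem L352079 : sm ge N41681 = N29037 := ded_44_1 (flp_i L246103) (flp_e L242363) L352074
theorem L352081 : sm gg N41681 = N41681 := ded_51_1 (flp_i L352074) L242360 L352074
theorem L352082 : sm gj N41681 = N28623 := ded_53_1 (flp_i L242385) (flp_j L242361) L352074
theorem L352084 : sm gb N28622 = N41682 := rfl
theorem L352086 : sm gd N41682 = N41682 := ded_20_2 (flp_b L352084) L242384 L352084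
theorem L352087 : sm ge N41682 = N29038 := ded_21_2 (flp_b L246111) (flp_e L242379) L352084
theorem L352089 : sm gg N41682 = N28624 := ded_23_2 (flp_b L242394) (flp_g L242381) L352084
theorem L352091 : sm gh N41682 = N41682 := ded_25_2 (flp_b L352084) L242383 L352084
theorem L352092 : sm gi N28622 = N41683 := rfl
theorem L352094 : sm ga N41683 = N41683 := ded_18_1 (flp_i L352092) L242378 L352092
theorem L352095 : sm gc N41683 = N28623 := ded_33_1 (flp_i L242385) L242376 L352092
theorem L352097 : sm gd N41683 = N41683 := ded_39_1 (flp_i L352092) L242384 L352092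
theorem L352098 : sm ge N41683 = N29039 := ded_44_1 (flp_i L246118) (flp_e L242379) L352092
theorem L352100 : sm gg N41683 = N28625 := ded_51_1 (flp_i L242402) (flp_g L242381) L352092
theorem L352102 : sm gh N28623 = N41684 := rfl
theorem L352104 : sm ga N41684 = N41684 := ded_17_1 (flp_h L352102) L242387 L352102
theorem L352105 : sm ge N41684 = N29040 := ded_43_1 (flp_h L246127) (flp_e L242390) L352102
theorem L352107 : sm gg N41684 = N28626 := ded_50_1 (flp_h L242412) (flp_g L242392) L352102
theorem L352109 : sm gd N41684 = N41684 := ded_38_1 (flp_h L352102) L242388 L167123 (flp_d L242388) L352102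
theorem L352110 : sm gi N41684 = N41684 := ded_54_2 (flp_h L352102) (flp_i L242385) L167114 L242385 L352102
theorem L352111 : sm ga N28624 = N41685 := rfl
theorem L352113 : sm gd N41685 = N41685 := ded_12_2 (flp_a L352111) L242396 L352111
theorem L352114 : sm ge N41685 = N29041 := ded_13_2 (flp_a L246133) (flp_e L242397) L352111
theorem L352116 : sm gf N41685 = N41685 := ded_14_2 (flp_a L352111) L242399 L352111
theorem L352117 : sm gj N41685 = N41685 := ded_16_2 (flp_a L352111) L242400 L352111
theorem L352118 : sm gh N41685 = N41685 := ded_17_2 (flp_a L352111) L242401 L352111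
theorem L352119 : sm gb N41685 = N41685 := ded_10_2 (flp_a L352111) (flp_b L242394) L167126 L242394 L352111
theorem L352120 : sm gi N28624 = N41686 := rfl
theorem L352122 : sm gb N41686 = N28625 := ded_26_1 (flp_i L242402) L242394 L352120
theorem L352124 : sm gd N41686 = N41686 := ded_39_1 (flp_i L352120) L242396 L352120
theorem L352125 : sm ge N41686 = N29042 := ded_44_1 (flp_i L246142) (flp_e L242397) L352120
theorem L352127 : sm gf N41686 = N41686 := ded_48_1 (flp_i L352120) L242399 L352120
theorem L352128 : sm gj N41686 = N41686 := ded_53_1 (flp_i L352120) L242400 L352120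
theorem L352129 : sm gh N28625 = N41687 := rfl
theorem L352131 : sm ga N41687 = N41687 := ded_17_1 (flp_h L352129) L242404 L352129
theorem L352132 : sm gc N41687 = N28626 := ded_32_1 (flp_h L242412) (flp_c L242405) L352129
theorem L352134 : sm ge N41687 = N29043 := ded_43_1 (flp_h L246151) (flp_e L242408) L352129
theorem L352136 : sm gf N41687 = N41687 := ded_47_1 (flp_h L352129) L242410 L352129
theorem L352137 : sm gj N41687 = N41687 := ded_52_1 (flp_h L352129) L242411 L352129
theorem L352138 : sm gi N41687 = N41687 := ded_54_2 (flp_h L352129) (flp_i L242402) L167131 L242402 L352129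
theorem L352139 : sm gc N28627 = N41688 := rfl
theorem L352141 : sm ga N41688 = N28629 := ded_11_1 (flp_c L242444) (flp_a L242423) L352139
theorem L352148 : sm gi N41688 = N28638 := ded_33_2 (flp_c L242537) (flp_i L242429) L352139
theorem L352161 : sm gh N28627 = N41690 := rfl
theorem L352163 : sm ga N41690 = N28631 := ded_17_1 (flp_h L242464) (flp_a L242423) L352161
theorem L352172 : sm gg N28628 = N41691 := rfl
theorem L352174 : sm ga N41691 = N28632 := ded_15_1 (flp_g L242474) (flp_a L242435) L352172
theorem L352180 : sm gi N41691 = N28641 := ded_51_2 (flp_g L242565) (flp_i L242441) L352172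
theorem L352182 : sm gf N41691 = N28657 := ded_45_1 (flp_g L242704) (flp_f L167330) (flp_g L167158) L242433 L352172
theorem L352184 : sm gf N28629 = N41692 := rfl
theorem L352193 : sm gh N28629 = N41693 := rfl
theorem L352196 : sm gc N41693 = N28631 := ded_32_1 (flp_h L242464) L242444 L352193
theorem L352198 : sm ge N41693 = N30029 := ded_43_1 (flp_h L254611) (flp_e L242446) L352193
theorem L352200 : sm gg N41693 = N28659 := ded_50_1 (flp_h L242725) (flp_g L242448) L352193
theorem L352213 : sm gg N28630 = N41695 := rfl
theorem L352215 : sm gb N41695 = N28634 := ded_23_1 (flp_g L242495) (flp_b L242457) L352213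
theorem L352219 : sm gi N41695 = N28645 := ded_51_2 (flp_g L242599) (flp_i L242462) L352213
theorem L352221 : sm gf N41695 = N28661 := ded_45_1 (flp_g L242746) (flp_f L167353) (flp_g L167168) L242455 L352213
theorem L352223 : sm gh N28630 = N41696 := rfl
theorem L352225 : sm gb N41696 = N28635 := ded_25_1 (flp_h L242505) (flp_b L242457) L352223
theorem L352227 : sm gf N41696 = N28631 := ded_47_1 (flp_h L242464) L242455 L352223
theorem L352231 : sm gi N28631 = N41697 := rfl
theorem L352233 : sm gb N41697 = N28636 := ded_26_1 (flp_i L242513) (flp_b L242466) L352231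
theorem L352255 : sm gg N28633 = N41699 := rfl
theorem L352262 : sm gi N41699 = N28649 := ded_51_2 (flp_g L242632) (flp_i L242490) L352255
theorem L352264 : sm gh N28633 = N41700 := rfl
theorem L352268 : sm ge N41700 = N28635 := ded_43_1 (flp_h L242505) L242485 L352264
theorem L352284 : sm gh N28634 = N41702 := rfl
theorem L352288 : sm gf N41702 = N28668 := ded_47_1 (flp_h L242816) (flp_f L242503) L352284
theorem L352290 : sm gg N41702 = N28635 := ded_50_1 (flp_h L242505) L242495 L352284
theorem L352303 : sm gb N28638 = N41704 := rfl
theorem L352308 : sm gg N41704 = N28670 := ded_23_2 (flp_b L242834) (flp_g L242543) L352303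
theorem L352332 : sm ge N28639 = N41707 := rfl
theorem L352334 : sm ga N41707 = N28644 := ded_13_1 (flp_e L242591) (flp_a L242549) L352332
theorem L352339 : sm gf N41707 = N30043 := ded_40_2 (flp_e L254736) (flp_f L175425) (flp_e L167235) L242547 L352332
theorem L352386 : sm gg N28642 = N41713 := rfl
theorem L352392 : sm gf N41713 = N28679 := ded_45_1 (flp_g L242917) (flp_f L167469) (flp_g L167249) L242574 L352386
theorem L352394 : sm gh N28642 = N41714 := rfl
theorem L352399 : sm gf N41714 = N28643 := ded_47_1 (flp_h L242581) L242574 L352394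
theorem L352402 : sm gd N28643 = N41715 := rfl
theorem L352405 : sm gg N41715 = N28681 := ded_36_2 (flp_d L242932) (flp_g L242588) L352402
theorem L352426 : sm gh N28644 = N41718 := rfl
theorem L352430 : sm ge N41718 = N28646 := ded_43_1 (flp_h L242607) L242591 L352426
theorem L352435 : sm gj N28645 = N41719 := rfl
theorem L352441 : sm gf N41719 = N28685 := ded_46_1 (flp_j L242965) (flp_f L242605) L352435
theorem L352459 : sm gf N28649 = N41722 := rfl
theorem L352466 : sm gg N41722 = N30058 := ded_45_2 (flp_f L254862) (flp_g L175510) (flp_f L167284) L242632 L352459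
theorem L352517 : sm gb N28654 = N41729 := rfl
theorem L352522 : sm gj N41729 = N28695 := ded_24_2 (flp_b L243046) (flp_j L242678) L352517
theorem L352524 : sm gi N41729 = N28670 := ded_26_2 (flp_b L242834) (flp_i L242680) L352517
theorem L352539 : sm gh N28654 = N41731 := rfl
theorem L352541 : sm ga N41731 = N28659 := ded_17_1 (flp_h L242725) (flp_a L242674) L352539
theorem L352549 : sm ge N28655 = N41732 := rfl
theorem L352551 : sm ga N41732 = N28660 := ded_13_1 (flp_e L242734) (flp_a L242685) L352549
theorem L352560 : sm gf N41732 = N30095 := ded_40_2 (flp_e L255201) (flp_f L175734) (flp_e L167328) L242683 L352549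
theorem L352562 : sm gg N28655 = N41733 := rfl
theorem L352564 : sm ga N41733 = N28661 := ded_15_1 (flp_g L242746) (flp_a L242685) L352562
theorem L352567 : sm gd N41733 = N28657 := ded_36_1 (flp_g L242704) (flp_d L242688) L352562
theorem L352569 : sm gi N41733 = N28674 := ded_51_2 (flp_g L242873) (flp_i L242692) L352562
theorem L352571 : sm gh N28655 = N41734 := rfl
theorem L352573 : sm ga N41734 = N28662 := ded_17_1 (flp_h L242754) (flp_a L242685) L352571
theorem L352578 : sm gj N41734 = N28700 := ded_52_1 (flp_h L243095) (flp_j L242690) L352571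
theorem L352581 : sm gi N28656 = N41735 := rfl
theorem L352589 : sm gj N41735 = N28701 := ded_53_1 (flp_i L243103) (flp_j L242701) L352581
theorem L352591 : sm gh N41735 = N28676 := ded_54_1 (flp_i L242889) (flp_h L167452) (flp_i L167326) L242694 L352581
theorem L352593 : sm gj N28657 = N41736 := rfl
theorem L352595 : sm ga N41736 = N28664 := ded_16_1 (flp_j L242774) (flp_a L242706) L352593
theorem L352599 : sm ge N41736 = N28763 := ded_42_1 (flp_j L243634) (flp_e L242710) L352593
theorem L352606 : sm ge N28658 = N41737 := rfl
theorem L352608 : sm gb N41737 = N41737 := ded_21_1 (flp_e L352606) L242717 L352606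
theorem L352609 : sm gc N41737 = N28660 := ded_28_1 (flp_e L242734) (flp_c L242718) L352606
theorem L352611 : sm gj N41737 = N28703 := ded_42_2 (flp_e L243126) (flp_j L242721) L352606
theorem L352613 : sm gi N41737 = N28678 := ded_44_2 (flp_e L242908) (flp_i L242723) L352606
theorem L352615 : sm gf N41737 = N30100 := ded_40_2 (flp_e L255252) (flp_f L175763) (flp_e L167345) L242715 L352606
theorem L352617 : sm gg N28658 = N41738 := rfl
theorem L352620 : sm gc N41738 = N28661 := ded_30_1 (flp_g L242746) (flp_c L242718) L352617
theorem L352623 : sm gi N41738 = N28679 := ded_51_2 (flp_g L242917) (flp_i L242723) L352617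
theorem L352625 : sm gh N28658 = N41739 := rfl
theorem L352628 : sm gc N41739 = N28662 := ded_32_1 (flp_h L242754) (flp_c L242718) L352625
theorem L352641 : sm gi N28659 = N41741 := rfl
theorem L352648 : sm gj N41741 = N28707 := ded_53_1 (flp_i L243157) (flp_j L242732) L352641
theorem L352652 : sm gg N28660 = N41742 := rfl
theorem L352654 : sm gb N41742 = N28665 := ded_23_1 (flp_g L242786) (flp_b L242736) L352652
theorem L352656 : sm gd N41742 = N28769 := ded_36_1 (flp_g L243700) (flp_d L242742) L352652
theorem L352658 : sm ge N41742 = N28661 := ded_41_1 (flp_g L242746) L242734 L352652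
theorem L352660 : sm gi N41742 = N28683 := ded_51_2 (flp_g L242947) (flp_i L242740) L352652
theorem L352662 : sm gh N28660 = N41743 := rfl
theorem L352664 : sm gb N41743 = N28666 := ded_25_1 (flp_h L242796) (flp_b L242736) L352662
theorem L352666 : sm ge N41743 = N28662 := ded_43_1 (flp_h L242754) L242734 L352662
theorem L352668 : sm gf N41743 = N30106 := ded_47_1 (flp_h L255305) (flp_f L242744) L352662
theorem L352670 : sm gj N41743 = N28709 := ded_52_1 (flp_h L243177) (flp_j L242738) L352662
theorem L352672 : sm gj N28661 = N41744 := rfl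
theorem L352678 : sm gi N41744 = N28685 := ded_53_2 (flp_j L242965) (flp_i L242752) L352672
theorem L352680 : sm gg N41744 = N28710 := ded_49_1 (flp_j L243185) (flp_g L167633) (flp_j L167359) L242746 L352672
theorem L352682 : sm gh N28661 = N41745 := rfl
theorem L352686 : sm gg N41745 = N28662 := ded_50_1 (flp_h L242754) L242746 L352682
theorem L352689 : sm gi N28662 = N41746 := rfl
theorem L352691 : sm gb N41746 = N28669 := ded_26_1 (flp_i L242823) (flp_b L242756) L352689
theorem L352694 : sm gf N41746 = N28663 := ded_48_1 (flp_i L242763) (flp_f L242758) L352689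
theorem L352696 : sm gj N41746 = N28712 := ded_53_1 (flp_i L243202) (flp_j L242760) L352689
theorem L352698 : sm gh N41746 = N28687 := ded_54_1 (flp_i L242979) (flp_h L167502) (flp_i L167361) L242754 L352689
theorem L352700 : sm gf N28665 = N41747 := rfl
theorem L352704 : sm gd N41747 = N28774 := ded_35_1 (flp_f L243748) (flp_d L242790) L352700
theorem L352708 : sm gg N41747 = N30110 := ded_45_2 (flp_f L255339) (flp_g L175827) (flp_f L167392) L242786 L352700
theorem L352710 : sm gj N28665 = N41748 := rfl
theorem L352714 : sm gd N41748 = N28775 := ded_37_1 (flp_j L243758) (flp_d L242790) L352710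
theorem L352716 : sm ge N41748 = N28667 := ded_42_1 (flp_j L242806) (flp_e L242792) L352710
theorem L352718 : sm gi N41748 = N28689 := ded_53_2 (flp_j L242995) (flp_i L242794) L352710
theorem L352720 : sm gg N41748 = N28714 := ded_49_1 (flp_j L243222) (flp_g L167670) (flp_j L167386) L242786 L352710
theorem L352722 : sm gh N28665 = N41749 := rfl
theorem L352728 : sm gg N41749 = N28666 := ded_50_1 (flp_h L242796) L242786 L352722
theorem L352730 : sm gd N28666 = N41750 := rfl
theorem L352735 : sm gj N41750 = N28716 := ded_37_2 (flp_d L243240) (flp_j L242804) L352730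
theorem L352738 : sm gh N41750 = N28777 := ded_38_2 (flp_d L243778) (flp_h L168029) (flp_d L167390) L242796 L352730
theorem L352740 : sm gi N28666 = N41751 := rfl
theorem L352746 : sm gf N41751 = N30114 := ded_48_1 (flp_i L255374) (flp_f L242802) L352740
theorem L352748 : sm gj N41751 = N28717 := ded_53_1 (flp_i L243248) (flp_j L242804) L352740
theorem L352750 : sm gh N41751 = N28692 := ded_54_1 (flp_i L243022) (flp_h L167535) (flp_i L167388) L242796 L352740
theorem L352770 : sm gf N28670 = N41754 := rfl
theorem L352789 : sm ge N28671 = N41756 := rfl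
theorem L352791 : sm ga N41756 = N28678 := ded_13_1 (flp_e L242908) (flp_a L242845) L352789
theorem L352793 : sm gc N41756 = N28673 := ded_28_1 (flp_e L242862) (flp_c L242847) L352789
theorem L352797 : sm gf N41756 = N30119 := ded_40_2 (flp_e L255418) (flp_f L175879) (flp_e L167438) L242843 L352789
theorem L352799 : sm gg N28671 = N41757 := rfl
theorem L352801 : sm ga N41757 = N28679 := ded_15_1 (flp_g L242917) (flp_a L242845) L352799
theorem L352823 : sm gi N28672 = N41760 := rfl
theorem L352827 : sm gc N41760 = N28676 := ded_33_1 (flp_i L242889) (flp_c L242856) L352823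
theorem L352833 : sm gg N28673 = N41761 := rfl
theorem L352835 : sm ga N41761 = N28683 := ded_15_1 (flp_g L242947) (flp_a L242864) L352833
theorem L352838 : sm gd N41761 = N28788 := ded_36_1 (flp_g L243890) (flp_d L242869) L352833
theorem L352842 : sm gh N28673 = N41762 := rfl
theorem L352844 : sm ga N41762 = N28684 := ded_17_1 (flp_h L242955) (flp_a L242864) L352842
theorem L352847 : sm ge N41762 = N28675 := ded_43_1 (flp_h L242880) L242862 L352842
theorem L352849 : sm gf N41762 = N30125 := ded_47_1 (flp_h L255470) (flp_f L242871) L352842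
theorem L352862 : sm gh N28674 = N41764 := rfl
theorem L352864 : sm ga N41764 = N28686 := ded_17_1 (flp_h L242973) (flp_a L242875) L352862
theorem L352878 : sm gd N28678 = N41766 := rfl
theorem L352883 : sm gj N41766 = N28732 := ded_37_2 (flp_d L243372) (flp_j L242913) L352878
theorem L352885 : sm gc N41766 = N28793 := ded_27_1 (flp_d L243935) L168153 (flp_d L167492) (flp_c L242911) L352878
theorem L352888 : sm gg N28678 = N41767 := rfl
theorem L352890 : sm gb N41767 = N41767 := ded_23_1 (flp_g L352888) L242910 L352888
theorem L352891 : sm gc N41767 = N28683 := ded_30_1 (flp_g L242947) (flp_c L242911) L352888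
theorem L352893 : sm ge N41767 = N28679 := ded_41_1 (flp_g L242917) L242908 L352888
theorem L352895 : sm gh N28678 = N41768 := rfl
theorem L352898 : sm gc N41768 = N28684 := ded_32_1 (flp_h L242955) (flp_c L242911) L352895
theorem L352902 : sm gf N41768 = N30131 := ded_47_1 (flp_h L255522) (flp_f L242915) L352895
theorem L352906 : sm gj N28679 = N41769 := rfl
theorem L352912 : sm gg N41769 = N28735 := ded_49_1 (flp_j L243396) (flp_g L167786) (flp_j L167475) L242917 L352906
theorem L352914 : sm gh N28679 = N41770 := rfl
theorem L352946 : sm gi N28681 = N41774 := rfl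
theorem L352951 : sm gj N41774 = N28740 := ded_53_1 (flp_i L243431) (flp_j L242935) L352946
theorem L352953 : sm gf N28683 = N41775 := rfl
theorem L352957 : sm gd N41775 = N28802 := ded_35_1 (flp_f L244021) (flp_d L242951) L352953
theorem L352959 : sm gg N41775 = N30138 := ded_45_2 (flp_f L255582) (flp_g L175981) (flp_f L167494) L242947 L352953
theorem L352961 : sm gj N28683 = N41776 := rfl
theorem L352963 : sm gb N41776 = N28689 := ded_24_1 (flp_j L242995) (flp_b L242949) L352961
theorem L352965 : sm gd N41776 = N28803 := ded_37_1 (flp_j L244028) (flp_d L242951) L352961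
theorem L352969 : sm gg N41776 = N28742 := ded_49_1 (flp_j L243446) (flp_g L167813) (flp_j L167490) L242947 L352961
theorem L352979 : sm gd N28684 = N41778 := rfl
theorem L352983 : sm gf N41778 = N30141 := ded_35_2 (flp_d L255606) (flp_f L242961) L352979
theorem L352987 : sm gh N41778 = N28805 := ded_38_2 (flp_d L244044) (flp_h L168202) (flp_d L167492) L242955 L352979
theorem L353007 : sm gi N28686 = N41781 := rfl
theorem L353011 : sm gg N41781 = N28687 := ded_51_1 (flp_i L242979) (flp_g L242977) L353007
theorem L353029 : sm gh N28689 = N41784 := rfl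
theorem L353037 : sm gj N41784 = N28690 := ded_52_1 (flp_h L243005) L242995 L353029
theorem L353046 : sm gi N28690 = N41786 := rfl
theorem L353052 : sm gg N41786 = N28692 := ded_51_1 (flp_i L243022) (flp_g L243011) L353046
theorem L353109 : sm gg N28696 = N41793 := rfl
theorem L353111 : sm ga N41793 = N28704 := ded_15_1 (flp_g L243135) (flp_a L243058) L353109
theorem L353145 : sm gg N28698 = N41797 := rfl
theorem L353147 : sm ga N41797 = N28708 := ded_15_1 (flp_g L243167) (flp_a L243076) L353145
theorem L353154 : sm gi N41797 = N28727 := ded_51_2 (flp_g L243331) (flp_i L243079) L353145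
theorem L353156 : sm gh N28698 = N41798 := rfl
theorem L353158 : sm ga N41798 = N28709 := ded_17_1 (flp_h L243177) (flp_a L243076) L353156
theorem L353163 : sm gf N41798 = N30202 := ded_47_1 (flp_h L256119) (flp_f L243083) L353156
theorem L353165 : sm gj N28699 = N41799 := rfl
theorem L353167 : sm ga N41799 = N28710 := ded_16_1 (flp_j L243185) (flp_a L243087) L353165
theorem L353175 : sm gh N28699 = N41800 := rfl
theorem L353177 : sm ga N41800 = N28711 := ded_17_1 (flp_h L243194) (flp_a L243087) L353175
theorem L353181 : sm gg N41800 = N28700 := ded_50_1 (flp_h L243095) L243085 L353175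
theorem L353194 : sm gd N28703 = N41802 := rfl
theorem L353196 : sm gb N41802 = N41802 := ded_20_1 (flp_d L353194) L243128 L353194
theorem L353197 : sm gf N41802 = N30206 := ded_35_2 (flp_d L256153) (flp_f L243133) L353194
theorem L353199 : sm gi N41802 = N28732 := ded_39_2 (flp_d L243372) (flp_i L243131) L353194
theorem L353201 : sm gc N41802 = N28829 := ded_27_1 (flp_d L244268) L168384 (flp_d L167629) (flp_c L243129) L353194
theorem L353203 : sm ge N41802 = N41802 := ded_34_2 (flp_d L353194) (flp_e L243126) L167612 L243126 L353194
theorem L353204 : sm gg N28703 = N41803 := rfl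
theorem L353206 : sm gb N41803 = N41803 := ded_23_1 (flp_g L353204) L243128 L353204
theorem L353207 : sm gc N41803 = N28708 := ded_30_1 (flp_g L243167) (flp_c L243129) L353204
theorem L353209 : sm ge N41803 = N28704 := ded_41_1 (flp_g L243135) L243126 L353204
theorem L353211 : sm gi N41803 = N28733 := ded_51_2 (flp_g L243380) (flp_i L243131) L353204
theorem L353213 : sm gh N28703 = N41804 := rfl
theorem L353216 : sm gc N41804 = N28709 := ded_32_1 (flp_h L243177) (flp_c L243129) L353213
theorem L353218 : sm ge N41804 = N28705 := ded_43_1 (flp_h L243144) L243126 L353213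
theorem L353220 : sm gf N41804 = N30208 := ded_47_1 (flp_h L256171) (flp_f L243133) L353213
theorem L353222 : sm gj N28704 = N41805 := rfl
theorem L353225 : sm gc N41805 = N28710 := ded_31_1 (flp_j L243185) (flp_c L243138) L353222
theorem L353229 : sm gi N41805 = N28735 := ded_53_2 (flp_j L243396) (flp_i L243141) L353222
theorem L353231 : sm gh N28704 = N41806 := rfl
theorem L353246 : sm gi N28705 = N41808 := rfl
theorem L353251 : sm gf N41808 = N28707 := ded_48_1 (flp_i L243157) (flp_f L243149) L353246
theorem L353253 : sm gh N41808 = N28738 := ded_54_1 (flp_i L243417) (flp_h L167793) (flp_i L167613) L243144 L353246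
theorem L353270 : sm gf N28708 = N41811 := rfl
theorem L353272 : sm gb N41811 = N28713 := ded_22_1 (flp_f L243211) (flp_b L243169) L353270
theorem L353274 : sm gd N41811 = N28838 := ded_35_1 (flp_f L244355) (flp_d L243171) L353270
theorem L353276 : sm gi N41811 = N28741 := ded_48_2 (flp_f L243437) (flp_i L243175) L353270
theorem L353278 : sm ge N41811 = N41811 := ded_40_1 (flp_f L353270) L243173 L167641 (flp_e L243173) L353270
theorem L353279 : sm gg N41811 = N30215 := ded_45_2 (flp_f L256224) (flp_g L176415) (flp_f L167631) L243167 L353270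
theorem L353281 : sm gj N28708 = N41812 := rfl
theorem L353283 : sm gb N41812 = N28714 := ded_24_1 (flp_j L243222) (flp_b L243169) L353281
theorem L353285 : sm gd N41812 = N28839 := ded_37_1 (flp_j L244365) (flp_d L243171) L353281
theorem L353287 : sm ge N41812 = N28710 := ded_42_1 (flp_j L243185) (flp_e L243173) L353281
theorem L353289 : sm gi N41812 = N28742 := ded_53_2 (flp_j L243446) (flp_i L243175) L353281
theorem L353291 : sm gh N28708 = N41813 := rfl
theorem L353293 : sm gb N41813 = N28715 := ded_25_1 (flp_h L243232) (flp_b L243169) L353291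
theorem L353295 : sm ge N41813 = N28711 := ded_43_1 (flp_h L243194) (flp_e L243173) L353291
theorem L353297 : sm gg N41813 = N28709 := ded_50_1 (flp_h L243177) L243167 L353291
theorem L353299 : sm gd N28709 = N41814 := rfl
theorem L353301 : sm gb N41814 = N28716 := ded_20_1 (flp_d L243240) (flp_b L243179) L353299
theorem L353305 : sm ge N41814 = N41814 := ded_34_2 (flp_d L353299) L243181 L167648 (flp_e L243181) L353299
theorem L353306 : sm gh N41814 = N28841 := ded_38_2 (flp_d L244381) (flp_h L168437) (flp_d L167629) L243177 L353299
theorem L353318 : sm gh N28710 = N41816 := rfl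
theorem L353326 : sm gi N28711 = N41817 := rfl
theorem L353328 : sm gb N41817 = N28719 := ded_26_1 (flp_i L243266) (flp_b L243196) L353326
theorem L353334 : sm gh N41817 = N28747 := ded_54_1 (flp_i L243485) (flp_h L167836) (flp_i L167639) L243194 L353326
theorem L353336 : sm gj N28713 = N41818 := rfl
theorem L353338 : sm ga N41818 = N41818 := ded_16_1 (flp_j L353336) L243213 L353336
theorem L353339 : sm gc N41818 = N41818 := ded_31_1 (flp_j L353336) L243214 L353336
theorem L353340 : sm gd N41818 = N28845 := ded_37_1 (flp_j L244418) (flp_d L243215) L353336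
theorem L353342 : sm ge N41818 = N41818 := ded_42_1 (flp_j L353336) L243219 L353336
theorem L353343 : sm gf N41818 = N28714 := ded_46_1 (flp_j L243222) L243211 L353336
theorem L353345 : sm gi N41818 = N28748 := ded_53_2 (flp_j L243492) (flp_i L243217) L353336
theorem L353347 : sm gh N28713 = N41819 := rfl
theorem L353349 : sm ga N41819 = N41819 := ded_17_1 (flp_h L353347) L243213 L353347
theorem L353350 : sm gc N41819 = N41819 := ded_32_1 (flp_h L353347) L243214 L353347
theorem L353351 : sm ge N41819 = N41819 := ded_43_1 (flp_h L353347) L243219 L353347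
theorem L353352 : sm gf N41819 = N28715 := ded_47_1 (flp_h L243232) L243211 L353347
theorem L353354 : sm gg N41819 = N30223 := ded_50_1 (flp_h L256292) (flp_g L243220) L353347
theorem L353356 : sm gh N28714 = N41820 := rfl
theorem L353364 : sm gd N28715 = N41821 := rfl
theorem L353366 : sm ga N41821 = N41821 := ded_12_1 (flp_d L353364) L243234 L353364
theorem L353367 : sm gg N41821 = N28716 := ded_36_2 (flp_d L243240) (flp_g L243238) L353364
theorem L353369 : sm ge N41821 = N41821 := ded_34_2 (flp_d L353364) L243236 L167704 (flp_e L243236) L353364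
theorem L353370 : sm gh N41821 = N28848 := ded_38_2 (flp_d L244449) (flp_h L168493) (flp_d L167674) L243232 L353364
theorem L353372 : sm gi N28715 = N41822 := rfl
theorem L353376 : sm ge N41822 = N28719 := ded_44_1 (flp_i L243266) (flp_e L243236) L353372
theorem L353378 : sm gg N41822 = N28717 := ded_51_1 (flp_i L243248) (flp_g L243238) L353372
theorem L353382 : sm gc N28716 = N41823 := rfl
theorem L353388 : sm gh N41823 = N28850 := ded_32_2 (flp_c L244466) (flp_h L243246) L353382
theorem L353391 : sm gi N28716 = N41824 := rfl
theorem L353393 : sm ga N41824 = N41824 := ded_18_1 (flp_i L353391) L243242 L353391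
theorem L353394 : sm gd N41824 = N28717 := ded_39_1 (flp_i L243248) L243240 L353391
theorem L353396 : sm ge N41824 = N41824 := ded_44_1 (flp_i L353391) L243245 L353391
theorem L353397 : sm gf N41824 = N30228 := ded_48_1 (flp_i L256330) (flp_f L243243) L353391
theorem L353449 : sm gd N28722 = N41831 := rfl
theorem L353451 : sm ga N41831 = N28732 := ded_12_1 (flp_d L243372) (flp_a L243294) L353449
theorem L353455 : sm gc N41831 = N28858 := ded_27_1 (flp_d L244542) L168564 (flp_d L167743) (flp_c L243296) L353449
theorem L353458 : sm gg N28722 = N41832 := rfl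
theorem L353460 : sm ga N41832 = N28733 := ded_15_1 (flp_g L243380) (flp_a L243294) L353458
theorem L353476 : sm gj N28723 = N41834 := rfl
theorem L353478 : sm ga N41834 = N28735 := ded_16_1 (flp_j L243396) (flp_a L243302) L353476
theorem L353500 : sm gi N28724 = N41837 := rfl
theorem L353502 : sm ga N41837 = N28738 := ded_18_1 (flp_i L243417) (flp_a L243310) L353500
theorem L353523 : sm gf N28727 = N41840 := rfl
theorem L353525 : sm ga N41840 = N28741 := ded_14_1 (flp_f L243437) (flp_a L243333) L353523
theorem L353527 : sm gb N41840 = N41840 := ded_22_1 (flp_f L353523) L243335 L353523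
theorem L353528 : sm gd N41840 = N28867 := ded_35_1 (flp_f L244618) (flp_d L243336) L353523
theorem L353530 : sm ge N41840 = N41840 := ded_40_1 (flp_f L353523) L243338 L167754 (flp_e L243338) L353523
theorem L353531 : sm gg N41840 = N30244 := ded_45_2 (flp_f L256457) (flp_g L176564) (flp_f L167745) L243331 L353523
theorem L353533 : sm gj N28727 = N41841 := rfl
theorem L353535 : sm ga N41841 = N28742 := ded_16_1 (flp_j L243446) (flp_a L243333) L353533
theorem L353542 : sm gh N28727 = N41842 := rfl
theorem L353544 : sm ga N41842 = N28743 := ded_17_1 (flp_h L243454) (flp_a L243333) L353542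
theorem L353551 : sm gd N28728 = N41843 := rfl
theorem L353553 : sm ga N41843 = N28744 := ded_12_1 (flp_d L243462) (flp_a L243342) L353551
theorem L353556 : sm gf N41843 = N30247 := ded_35_2 (flp_d L256483) (flp_f L243347) L353551
theorem L353558 : sm gh N41843 = N28870 := ded_38_2 (flp_d L244643) (flp_h L168609) (flp_d L167743) L243340 L353551
theorem L353585 : sm gg N28732 = N41847 := rfl
theorem L353587 : sm gb N41847 = N41847 := ded_23_1 (flp_g L353585) L243374 L353585
theorem L353588 : sm gc N41847 = N28874 := ded_30_1 (flp_g L244677) (flp_c L243377) L353585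
theorem L353590 : sm gd N41847 = N28733 := ded_36_1 (flp_g L243380) L243372 L353585
theorem L353592 : sm ge N41847 = N41847 := ded_41_1 (flp_g L353585) L243379 L353585
theorem L353593 : sm gh N28732 = N41848 := rfl
theorem L353596 : sm gc N41848 = N28875 := ded_32_1 (flp_h L244684) (flp_c L243377) L353593
theorem L353599 : sm gf N41848 = N30252 := ded_47_1 (flp_h L256525) (flp_f L243375) L353593
theorem L353601 : sm gf N28733 = N41849 := rfl
theorem L353603 : sm gb N41849 = N41849 := ded_22_1 (flp_f L353601) L243382 L353601
theorem L353604 : sm gc N41849 = N28741 := ded_29_1 (flp_f L243437) (flp_c L243383) L353601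
theorem L353606 : sm ge N41849 = N41849 := ded_40_1 (flp_f L353601) L243385 L167792 (flp_e L243385) L353601
theorem L353607 : sm gg N41849 = N30253 := ded_45_2 (flp_f L256532) (flp_g L176612) (flp_f L167784) L243380 L353601
theorem L353609 : sm gj N28733 = N41850 := rfl
theorem L353611 : sm gb N41850 = N41850 := ded_24_1 (flp_j L353609) L243382 L353609
theorem L353612 : sm gc N41850 = N28742 := ded_31_1 (flp_j L243446) (flp_c L243383) L353609
theorem L353614 : sm ge N41850 = N28735 := ded_42_1 (flp_j L243396) (flp_e L243385) L353609
theorem L353616 : sm gh N28733 = N41851 := rfl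
theorem L353639 : sm gh N28735 = N41854 := rfl
theorem L353673 : sm gf N28739 = N41859 := rfl
theorem L353676 : sm gd N41859 = N30263 := ded_35_1 (flp_f L256603) (flp_d L243429) L353673
theorem L353679 : sm gi N28739 = N41860 := rfl
theorem L353684 : sm ge N41860 = N28740 := ded_44_1 (flp_i L243431) L243424 L353679
theorem L353692 : sm gj N28741 = N41862 := rfl
theorem L353694 : sm gb N41862 = N28748 := ded_24_1 (flp_j L243492) (flp_b L243439) L353692
theorem L353696 : sm gd N41862 = N28889 := ded_37_1 (flp_j L244801) (flp_d L243441) L353692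
theorem L353698 : sm ge N41862 = N41862 := ded_42_1 (flp_j L353692) L243443 L353692
theorem L353699 : sm gf N41862 = N28742 := ded_46_1 (flp_j L243446) L243437 L353692
theorem L353701 : sm gh N28741 = N41863 := rfl
theorem L353703 : sm gb N41863 = N28749 := ded_25_1 (flp_h L243501) (flp_b L243439) L353701
theorem L353705 : sm ge N41863 = N41863 := ded_43_1 (flp_h L353701) L243443 L353701
theorem L353706 : sm gf N41863 = N28743 := ded_47_1 (flp_h L243454) L243437 L353701
theorem L353708 : sm gg N41863 = N30267 := ded_50_1 (flp_h L256632) (flp_g L243444) L353701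
theorem L353710 : sm gh N28742 = N41864 := rfl
theorem L353718 : sm gd N28743 = N41865 := rfl
theorem L353724 : sm gh N41865 = N28892 := ded_38_2 (flp_d L244827) (flp_h L168733) (flp_d L167817) L243454 L353718
theorem L353734 : sm gc N28744 = N41867 := rfl
theorem L353736 : sm gf N41867 = N30271 := ded_29_2 (flp_c L256664) (flp_f L243466) L353734
theorem L353738 : sm gh N41867 = N28894 := ded_32_2 (flp_c L244841) (flp_h L243468) L353734
theorem L353755 : sm gg N28748 = N41870 := rfl
theorem L353759 : sm gd N41870 = N28897 := ded_36_1 (flp_g L244861) (flp_d L243496) L353755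
theorem L353762 : sm gj N41870 = N30274 := ded_49_2 (flp_g L256684) (flp_j L176723) (flp_g L167856) L243492 L353755
theorem L353764 : sm gh N28748 = N41871 := rfl
theorem L353773 : sm gd N28749 = N41872 := rfl
theorem L353778 : sm gg N41872 = N30276 := ded_36_2 (flp_d L256700) (flp_g L243508) L353773
theorem L353780 : sm gh N41872 = N28899 := ded_38_2 (flp_d L244881) (flp_h L168780) (flp_d L167853) L243501 L353773
theorem L353782 : sm gi N28749 = N41873 := rfl
theorem L353787 : sm gf N41873 = N28752 := ded_48_1 (flp_i L243525) (flp_f L243506) L353782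
theorem L353798 : sm gi N28750 = N41875 := rfl
theorem L353802 : sm ge N41875 = N28755 := ded_44_1 (flp_i L243548) (flp_e L243514) L353798
theorem L353804 : sm gj N41875 = N28752 := ded_53_1 (flp_i L243525) (flp_j L243516) L353798
theorem L353821 : sm gb N28753 = N41878 := rfl
theorem L353826 : sm gh N41878 = N28905 := ded_25_2 (flp_b L244927) (flp_h L243538) L353821
theorem L353843 : sm gf N28756 = N41881 := rfl
theorem L353845 : sm ga N41881 = N29069 := ded_14_1 (flp_f L246403) (flp_a L243565) L353843
theorem L353851 : sm gj N41881 = N28817 := ded_46_2 (flp_f L244149) (flp_j L243561) L353843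
theorem L353853 : sm gi N41881 = N28781 := ded_48_2 (flp_f L243821) (flp_i L243563) L353843
theorem L353867 : sm ge N28757 = N41883 := rfl
theorem L353869 : sm ga N41883 = N28764 := ded_13_1 (flp_e L243646) (flp_a L243570) L353867
theorem L353875 : sm gi N41883 = N28783 := ded_44_2 (flp_e L243843) (flp_i L243577) L353867
theorem L353877 : sm gf N41883 = N30312 := ded_40_2 (flp_e L257031) (flp_f L176953) (flp_e L167907) L243568 L353867
theorem L353879 : sm gg N28757 = N41884 := rfl
theorem L353883 : sm gc N41884 = N28760 := ded_30_1 (flp_g L243601) (flp_c L243572) L353879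
theorem L353886 : sm gi N41884 = N28784 := ded_51_2 (flp_g L243853) (flp_i L243577) L353879
theorem L353889 : sm gh N28757 = N41885 := rfl
theorem L353893 : sm gc N41885 = N28761 := ded_32_1 (flp_h L243611) (flp_c L243572) L353889
theorem L353897 : sm gj N41885 = N28821 := ded_52_1 (flp_h L244191) (flp_j L243575) L353889
theorem L353908 : sm gi N28758 = N41887 := rfl
theorem L353910 : sm ga N41887 = N28768 := ded_18_1 (flp_i L243687) (flp_a L243581) L353908
theorem L353921 : sm gg N28759 = N41888 := rfl
theorem L353923 : sm ga N41888 = N28769 := ded_15_1 (flp_g L243700) (flp_a L243592) L353921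
theorem L353926 : sm ge N41888 = N28760 := ded_41_1 (flp_g L243601) L243590 L353921
theorem L353928 : sm gi N41888 = N28788 := ded_51_2 (flp_g L243890) (flp_i L243597) L353921
theorem L353941 : sm gj N28760 = N41890 := rfl
theorem L353943 : sm ga N41890 = N28771 := ded_16_1 (flp_j L243718) (flp_a L243603) L353941
theorem L353946 : sm gd N41890 = N28763 := ded_37_1 (flp_j L243634) (flp_d L243606) L353941
theorem L353953 : sm gh N28760 = N41891 := rfl
theorem L353955 : sm ga N41891 = N28772 := ded_17_1 (flp_h L243729) (flp_a L243603) L353953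
theorem L353959 : sm gg N41891 = N28761 := ded_50_1 (flp_h L243611) L243601 L353953
theorem L353962 : sm gi N28761 = N41892 := rfl
theorem L353968 : sm gf N41892 = N28762 := ded_48_1 (flp_i L243621) (flp_f L243616) L353962
theorem L353972 : sm gh N41892 = N28792 := ded_54_1 (flp_i L243926) (flp_h L168121) (flp_i L167924) L243611 L353962
theorem L353974 : sm gd N28764 = N41893 := rfl
theorem L353976 : sm gb N41893 = N29081 := ded_20_1 (flp_d L246528) (flp_b L243648) L353974
theorem L353978 : sm gf N41893 = N30322 := ded_35_2 (flp_d L257131) (flp_f L243656) L353974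
theorem L353980 : sm gj N41893 = N28829 := ded_37_2 (flp_d L244268) (flp_j L243652) L353974
theorem L353982 : sm gi N41893 = N28793 := ded_39_2 (flp_d L243935) (flp_i L243654) L353974
theorem L353984 : sm ge N41893 = N41893 := ded_34_2 (flp_d L353974) (flp_e L243646) L167953 L243646 L353974
theorem L353985 : sm gg N28764 = N41894 := rfl
theorem L353987 : sm gb N41894 = N29082 := ded_23_1 (flp_g L246538) (flp_b L243648) L353985
theorem L353989 : sm gc N41894 = N28769 := ded_30_1 (flp_g L243700) (flp_c L243650) L353985
theorem L353991 : sm ge N41894 = N28765 := ded_41_1 (flp_g L243658) L243646 L353985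
theorem L353993 : sm gi N41894 = N28794 := ded_51_2 (flp_g L243944) (flp_i L243654) L353985
theorem L353995 : sm gh N28764 = N41895 := rfl
theorem L353997 : sm gb N41895 = N29083 := ded_25_1 (flp_h L246546) (flp_b L243648) L353995
theorem L353999 : sm gc N41895 = N28770 := ded_32_1 (flp_h L243708) (flp_c L243650) L353995
theorem L354001 : sm ge N41895 = N28766 := ded_43_1 (flp_h L243668) L243646 L353995
theorem L354003 : sm gf N41895 = N30324 := ded_47_1 (flp_h L257151) (flp_f L243656) L353995
theorem L354005 : sm gj N41895 = N28831 := ded_52_1 (flp_h L244287) (flp_j L243652) L353995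
theorem L354007 : sm gj N28765 = N41896 := rfl
theorem L354009 : sm gb N41896 = N29084 := ded_24_1 (flp_j L246556) (flp_b L243660) L354007
theorem L354011 : sm gc N41896 = N28771 := ded_31_1 (flp_j L243718) (flp_c L243662) L354007
theorem L354013 : sm gd N41896 = N41896 := ded_37_1 (flp_j L354007) L243664 L354007
theorem L354014 : sm gf N41896 = N41896 := ded_46_1 (flp_j L354007) L243667 L354007
theorem L354015 : sm gi N41896 = N28796 := ded_53_2 (flp_j L243964) (flp_i L243665) L354007
theorem L354017 : sm gg N41896 = N28832 := ded_49_1 (flp_j L244297) (flp_g L168390) (flp_j L167954) L243658 L354007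
theorem L354019 : sm gh N28765 = N41897 := rfl
theorem L354021 : sm gb N41897 = N29085 := ded_25_1 (flp_h L246566) (flp_b L243660) L354019
theorem L354023 : sm gc N41897 = N28772 := ded_32_1 (flp_h L243729) (flp_c L243662) L354019
theorem L354025 : sm gf N41897 = N41897 := ded_47_1 (flp_h L354019) L243667 L354019
theorem L354026 : sm gg N41897 = N28766 := ded_50_1 (flp_h L243668) L243658 L354019
theorem L354028 : sm gd N28766 = N41898 := rfl
theorem L354030 : sm gb N41898 = N29086 := ded_20_1 (flp_d L246573) (flp_b L243670) L354028
theorem L354032 : sm gf N41898 = N28767 := ded_35_2 (flp_d L243678) (flp_f L243674) L354028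
theorem L354034 : sm gj N41898 = N28834 := ded_37_2 (flp_d L244318) (flp_j L243676) L354028
theorem L354036 : sm gc N41898 = N41898 := ded_27_1 (flp_d L354028) L243672 L167996 (flp_c L243672) L354028
theorem L354037 : sm gh N41898 = N41898 := ded_38_2 (flp_d L354028) (flp_h L243668) L167953 L243668 L354028
theorem L354038 : sm gi N28766 = N41899 := rfl
theorem L354040 : sm gb N41899 = N29087 := ded_26_1 (flp_i L246580) (flp_b L243670) L354038
theorem L354042 : sm gc N41899 = N28773 := ded_33_1 (flp_i L243737) (flp_c L243672) L354038
theorem L354044 : sm gf N41899 = N28768 := ded_48_1 (flp_i L243687) (flp_f L243674) L354038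
theorem L354046 : sm gj N41899 = N28835 := ded_53_1 (flp_i L244326) (flp_j L243676) L354038
theorem L354048 : sm gh N41899 = N28799 := ded_54_1 (flp_i L243992) (flp_h L168167) (flp_i L167956) L243668 L354038
theorem L354050 : sm ge N28767 = N41900 := rfl
theorem L354052 : sm gb N41900 = N29088 := ded_21_1 (flp_e L246590) (flp_b L243680) L354050
theorem L354061 : sm gi N28767 = N41901 := rfl
theorem L354063 : sm gb N41901 = N29089 := ded_26_1 (flp_i L246598) (flp_b L243680) L354061
theorem L354065 : sm gc N41901 = N41901 := ded_33_1 (flp_i L354061) L243685 L354061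
theorem L354066 : sm gd N41901 = N28768 := ded_39_1 (flp_i L243687) L243678 L354061
theorem L354068 : sm gg N41901 = N41901 := ded_51_1 (flp_i L354061) L243682 L354061
theorem L354069 : sm gj N41901 = N28837 := ded_53_1 (flp_i L244346) (flp_j L243683) L354061
theorem L354071 : sm gf N28769 = N41902 := rfl
theorem L354073 : sm gb N41902 = N28774 := ded_22_1 (flp_f L243748) (flp_b L243702) L354071
theorem L354075 : sm gi N41902 = N28802 := ded_48_2 (flp_f L244021) (flp_i L243706) L354071
theorem L354077 : sm ge N41902 = N41902 := ded_40_1 (flp_f L354071) L243704 L167987 (flp_e L243704) L354071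
theorem L354078 : sm gg N41902 = N30331 := ded_45_2 (flp_f L257223) (flp_g L177075) (flp_f L167977) L243700 L354071
theorem L354080 : sm gj N28769 = N41903 := rfl
theorem L354082 : sm gb N41903 = N28775 := ded_24_1 (flp_j L243758) (flp_b L243702) L354080
theorem L354084 : sm ge N41903 = N28771 := ded_42_1 (flp_j L243718) (flp_e L243704) L354080
theorem L354086 : sm gi N41903 = N28803 := ded_53_2 (flp_j L244028) (flp_i L243706) L354080
theorem L354088 : sm gg N41903 = N28839 := ded_49_1 (flp_j L244365) (flp_g L168429) (flp_j L167973) L243700 L354080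
theorem L354090 : sm gh N28769 = N41904 := rfl
theorem L354092 : sm gb N41904 = N28776 := ded_25_1 (flp_h L243769) (flp_b L243702) L354090
theorem L354094 : sm ge N41904 = N28772 := ded_43_1 (flp_h L243729) (flp_e L243704) L354090
theorem L354096 : sm gg N41904 = N28770 := ded_50_1 (flp_h L243708) L243700 L354090
theorem L354098 : sm gd N28770 = N41905 := rfl
theorem L354100 : sm gb N41905 = N28777 := ded_20_1 (flp_d L243778) (flp_b L243710) L354098
theorem L354104 : sm gj N41905 = N28841 := ded_37_2 (flp_d L244381) (flp_j L243716) L354098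
theorem L354106 : sm ge N41905 = N41905 := ded_34_2 (flp_d L354098) L243712 L167996 (flp_e L243712) L354098
theorem L354107 : sm gi N28770 = N41906 := rfl
theorem L354109 : sm gb N41906 = N28778 := ded_26_1 (flp_i L243786) (flp_b L243710) L354107
theorem L354111 : sm ge N41906 = N28773 := ded_44_1 (flp_i L243737) (flp_e L243712) L354107
theorem L354113 : sm gf N41906 = N30335 := ded_48_1 (flp_i L257254) (flp_f L243714) L354107
theorem L354115 : sm gj N41906 = N28842 := ded_53_1 (flp_i L244388) (flp_j L243716) L354107
theorem L354117 : sm gh N41906 = N28806 := ded_54_1 (flp_i L244052) (flp_h L168202) (flp_i L167975) L243708 L354107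
theorem L354119 : sm gh N28771 = N41907 := rfl
theorem L354121 : sm gb N41907 = N28779 := ded_25_1 (flp_h L243799) (flp_b L243720) L354119
theorem L354123 : sm gf N41907 = N41907 := ded_47_1 (flp_h L354119) L243724 L354119
theorem L354124 : sm gg N41907 = N28843 := ded_50_1 (flp_h L244398) (flp_g L243727) L354119
theorem L354126 : sm gj N41907 = N28772 := ded_52_1 (flp_h L243729) L243718 L354119
theorem L354128 : sm gd N41907 = N41907 := ded_38_1 (flp_h L354119) L243722 L168015 (flp_d L243722) L354119
theorem L354129 : sm gi N28772 = N41908 := rfl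
theorem L354131 : sm gb N41908 = N28780 := ded_26_1 (flp_i L243810) (flp_b L243731) L354129
theorem L354133 : sm gd N41908 = N41908 := ded_39_1 (flp_i L354129) L243736 L354129
theorem L354134 : sm gf N41908 = N41908 := ded_48_1 (flp_i L354129) L243733 L354129
theorem L354135 : sm gg N41908 = N28773 := ded_51_1 (flp_i L243737) (flp_g L243734) L354129
theorem L354137 : sm gh N41908 = N28808 := ded_54_1 (flp_i L244071) (flp_h L168221) (flp_i L167985) L243729 L354129
theorem L354139 : sm gj N28774 = N41909 := rfl
theorem L354142 : sm gc N41909 = N29097 := ded_31_1 (flp_j L246673) (flp_c L243751) L354139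
theorem L354147 : sm gi N41909 = N28809 := ded_53_2 (flp_j L244078) (flp_i L243753) L354139
theorem L354149 : sm gh N28774 = N41910 := rfl
theorem L354152 : sm gc N41910 = N29098 := ded_32_1 (flp_h L246682) (flp_c L243751) L354149
theorem L354155 : sm gf N41910 = N28776 := ded_47_1 (flp_h L243769) L243748 L354149
theorem L354157 : sm gg N41910 = N30339 := ded_50_1 (flp_h L257292) (flp_g L243756) L354149
theorem L354159 : sm gh N28775 = N41911 := rfl
theorem L354161 : sm ga N41911 = N41911 := ded_17_1 (flp_h L354159) L243760 L354159
theorem L354162 : sm gc N41911 = N29099 := ded_32_1 (flp_h L246690) (flp_c L243761) L354159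
theorem L354164 : sm ge N41911 = N28779 := ded_43_1 (flp_h L243799) (flp_e L243763) L354159
theorem L354166 : sm gg N41911 = N28847 := ded_50_1 (flp_h L244440) (flp_g L243767) L354159
theorem L354168 : sm gj N41911 = N28776 := ded_52_1 (flp_h L243769) L243758 L354159
theorem L354170 : sm gd N28776 = N41912 := rfl
theorem L354173 : sm gg N41912 = N28777 := ded_36_2 (flp_d L243778) (flp_g L243776) L354170

end Cfsg.Agent.Helper28.FicA
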