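import Cfsg.Agent.Helper28.FicB23

/-! # The Fi₂₃ presentation, cosets of the subgroup generated by a, …, i: the coset enumeration, part 24 (helper28; generated) -/

set_option autoImplicit false

noncomputable section

namespace Cfsg.Agent.Helper28.FicA

open Cfsg.Agent.Helper28.CosetTable

theorem L354176 : sm gi N28776 = N41913 := rfl
theorem L354178 : sm ga N41913 = N41913 := ded_18_1 (flp_i L354176) L243771 L354176
theorem L354179 : sm gc N41913 = N29101 := ded_33_1 (flp_i L246705) (flp_c L243772) L354176
theorem L354181 : sm ge N41913 = N28780 := ded_44_1 (flp_i L243810) (flp_e L243774) L354176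
theorem L354183 : sm gg N41913 = N28778 := ded_51_1 (flp_i L243786) (flp_g L243776) L354176
theorem L354185 : sm gh N41913 = N28813 := ded_54_1 (flp_i L244112) (flp_h L168253) (flp_i L168027) L243769 L354176
theorem L354187 : sm gc N28777 = N41914 := rfl
theorem L354193 : sm gj N41914 = N28850 := ded_31_2 (flp_c L244466) (flp_j L243783) L354187
theorem L354195 : sm gd N41914 = N29102 := ded_27_2 (flp_c L246714) (flp_d L170002) (flp_c L168032) L243778 L354187
theorem L354197 : sm gi N28777 = N41915 := rfl
theorem L354199 : sm ga N41915 = N41915 := ded_18_1 (flp_i L354197) L243780 L354197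
theorem L354200 : sm gd N41915 = N28778 := ded_39_1 (flp_i L243786) L243778 L354197
theorem L354202 : sm ge N41915 = N41915 := ded_44_1 (flp_i L354197) L243785 L354197
theorem L354203 : sm gf N41915 = N30344 := ded_48_1 (flp_i L257334) (flp_f L243781) L354197
theorem L354205 : sm gj N41915 = N28851 := ded_53_1 (flp_i L244474) (flp_j L243783) L354197
theorem L354207 : sm gi N28779 = N41916 := rfl
theorem L354209 : sm ga N41916 = N41916 := ded_18_1 (flp_i L354207) L243801 L354207
theorem L354210 : sm gc N41916 = N29104 := ded_33_1 (flp_i L246731) (flp_c L243802) L354207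
theorem L354212 : sm gd N41916 = N41916 := ded_39_1 (flp_i L354207) L243809 L354207
theorem L354213 : sm gf N41916 = N41916 := ded_48_1 (flp_i L354207) L243804 L354207
theorem L354214 : sm gg N41916 = N28852 := ded_51_1 (flp_i L244482) (flp_g L243805) L354207
theorem L354216 : sm gj N41916 = N28780 := ded_53_1 (flp_i L243810) (flp_j L243807) L354207
theorem L354218 : sm gh N41916 = N28816 := ded_54_1 (flp_i L244139) (flp_h L168280) (flp_i L168048) L243799 L354207
theorem L354220 : sm ge N28781 = N41917 := rfl
theorem L354222 : sm ga N41917 = N29105 := ded_13_1 (flp_e L246741) (flp_a L243823) L354220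
theorem L354224 : sm gb N41917 = N28783 := ded_21_1 (flp_e L243843) (flp_b L243825) L354220
theorem L354226 : sm gc N41917 = N41917 := ded_28_1 (flp_e L354220) L243827 L354220
theorem L354227 : sm gj N41917 = N28853 := ded_42_2 (flp_e L244494) (flp_j L243829) L354220
theorem L354229 : sm gf N41917 = N30346 := ded_40_2 (flp_e L257353) (flp_f L177183) (flp_e L168076) L243821 L354220
theorem L354231 : sm gg N28781 = N41918 := rfl
theorem L354233 : sm ga N41918 = N29106 := ded_15_1 (flp_g L246750) (flp_a L243823) L354231
theorem L354235 : sm gb N41918 = N28784 := ded_23_1 (flp_g L243853) (flp_b L243825) L354231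
theorem L354237 : sm gc N41918 = N41918 := ded_30_1 (flp_g L354231) L243827 L354231
theorem L354238 : sm gd N41918 = N41918 := ded_36_1 (flp_g L354231) L243828 L354231
theorem L354239 : sm gf N41918 = N41918 := ded_45_1 (flp_g L354231) (flp_f L243821) L168078 L243821 L354231
theorem L354240 : sm gh N28781 = N41919 := rfl
theorem L354242 : sm ga N41919 = N29107 := ded_17_1 (flp_h L246757) (flp_a L243823) L354240
theorem L354244 : sm gb N41919 = N28785 := ded_25_1 (flp_h L243861) (flp_b L243825) L354240
theorem L354246 : sm gc N41919 = N41919 := ded_32_1 (flp_h L354240) L243827 L354240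
theorem L354247 : sm gf N41919 = N28782 := ded_47_1 (flp_h L243831) L243821 L354240
theorem L354249 : sm gj N41919 = N28855 := ded_52_1 (flp_h L244513) (flp_j L243829) L354240
theorem L354251 : sm gd N28782 = N41920 := rfl
theorem L354255 : sm gb N41920 = N28786 := ded_20_1 (flp_d L243871) (flp_b L243835) L354251
theorem L354257 : sm gg N41920 = N41920 := ded_36_2 (flp_d L354251) L243840 L354251
theorem L354258 : sm gj N41920 = N28856 := ded_37_2 (flp_d L244522) (flp_j L243841) L354251
theorem L354260 : sm gh N41920 = N41920 := ded_38_2 (flp_d L354251) (flp_h L243831) L168075 L243831 L354251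
theorem L354261 : sm gi N28782 = N41921 := rfl
theorem L354263 : sm ga N41921 = N29109 := ded_18_1 (flp_i L246774) (flp_a L243833) L354261
theorem L354265 : sm gb N41921 = N28787 := ded_26_1 (flp_i L243879) (flp_b L243835) L354261
theorem L354267 : sm gc N41921 = N41921 := ded_33_1 (flp_i L354261) L243837 L354261
theorem L354268 : sm ge N41921 = N30350 := ded_44_1 (flp_i L257394) (flp_e L243838) L354261
theorem L354270 : sm gg N41921 = N41921 := ded_51_1 (flp_i L354261) L243840 L354261
theorem L354271 : sm gj N41921 = N28857 := ded_53_1 (flp_i L244531) (flp_j L243841) L354261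
theorem L354273 : sm gd N28783 = N41922 := rfl
theorem L354275 : sm ga N41922 = N28793 := ded_12_1 (flp_d L243935) (flp_a L243845) L354273
theorem L354277 : sm gf N41922 = N30351 := ded_35_2 (flp_d L257404) (flp_f L243851) L354273
theorem L354279 : sm gj N41922 = N28858 := ded_37_2 (flp_d L244542) (flp_j L243849) L354273
theorem L354281 : sm ge N41922 = N41922 := ded_34_2 (flp_d L354273) (flp_e L243843) L168090 L243843 L354273
theorem L354282 : sm gg N28783 = N41923 := rfl
theorem L354284 : sm ga N41923 = N28794 := ded_15_1 (flp_g L243944) (flp_a L243845) L354282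
theorem L354286 : sm gc N41923 = N28788 := ded_30_1 (flp_g L243890) (flp_c L243847) L354282
theorem L354288 : sm ge N41923 = N28784 := ded_41_1 (flp_g L243853) L243843 L354282
theorem L354290 : sm gh N28783 = N41924 := rfl
theorem L354292 : sm ga N41924 = N28795 := ded_17_1 (flp_h L243952) (flp_a L243845) L354290
theorem L354294 : sm gc N41924 = N28789 := ded_32_1 (flp_h L243897) (flp_c L243847) L354290
theorem L354296 : sm ge N41924 = N28785 := ded_43_1 (flp_h L243861) L243843 L354290
theorem L354298 : sm gf N41924 = N30353 := ded_47_1 (flp_h L257420) (flp_f L243851) L354290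
theorem L354300 : sm gj N41924 = N28860 := ded_52_1 (flp_h L244557) (flp_j L243849) L354290
theorem L354302 : sm gj N28784 = N41925 := rfl
theorem L354304 : sm ga N41925 = N28796 := ded_16_1 (flp_j L243964) (flp_a L243855) L354302
theorem L354312 : sm gh N28784 = N41926 := rfl
theorem L354319 : sm gg N41926 = N28785 := ded_50_1 (flp_h L243861) L243853 L354312
theorem L354321 : sm gd N28785 = N41927 := rfl
theorem L354325 : sm gf N41927 = N28786 := ded_35_2 (flp_d L243871) (flp_f L243867) L354321
theorem L354327 : sm gj N41927 = N28863 := ded_37_2 (flp_d L244586) (flp_j L243869) L354321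
theorem L354330 : sm gi N28785 = N41928 := rfl
theorem L354332 : sm ga N41928 = N28799 := ded_18_1 (flp_i L243992) (flp_a L243863) L354330
theorem L354334 : sm gc N41928 = N28792 := ded_33_1 (flp_i L243926) (flp_c L243865) L354330
theorem L354336 : sm gf N41928 = N28787 := ded_48_1 (flp_i L243879) (flp_f L243867) L354330
theorem L354338 : sm gj N41928 = N28864 := ded_53_1 (flp_i L244593) (flp_j L243869) L354330
theorem L354340 : sm ge N28786 = N41929 := rfl
theorem L354342 : sm ga N41929 = N28800 := ded_13_1 (flp_e L244002) (flp_a L243873) L354340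
theorem L354344 : sm gg N41929 = N41929 := ded_41_2 (flp_e L354340) L243875 L354340
theorem L354345 : sm gj N41929 = N28865 := ded_42_2 (flp_e L244601) (flp_j L243876) L354340
theorem L354347 : sm gh N41929 = N41929 := ded_43_2 (flp_e L354340) L243878 L354340
theorem L354348 : sm gd N41929 = N30358 := ded_34_1 (flp_e L257471) (flp_d L177231) (flp_e L168099) L243871 L354340
theorem L354350 : sm gi N28786 = N41930 := rfl
theorem L354352 : sm ga N41930 = N28801 := ded_18_1 (flp_i L244012) (flp_a L243873) L354350
theorem L354354 : sm gd N41930 = N28787 := ded_39_1 (flp_i L243879) L243871 L354350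
theorem L354356 : sm gg N41930 = N41930 := ded_51_1 (flp_i L354350) L243875 L354350
theorem L354357 : sm gj N41930 = N28866 := ded_53_1 (flp_i L244610) (flp_j L243876) L354350
theorem L354359 : sm gf N28788 = N41931 := rfl
theorem L354361 : sm ga N41931 = N28802 := ded_14_1 (flp_f L244021) (flp_a L243892) L354359
theorem L354363 : sm gb N41931 = N41931 := ded_22_1 (flp_f L354359) L243894 L354359
theorem L354364 : sm ge N41931 = N41931 := ded_40_1 (flp_f L354359) L243895 L168120 (flp_e L243895) L354359
theorem L354365 : sm gg N41931 = N30360 := ded_45_2 (flp_f L257491) (flp_g L177250) (flp_f L168111) L243890 L354359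
theorem L354367 : sm gj N28788 = N41932 := rfl
theorem L354369 : sm ga N41932 = N28803 := ded_16_1 (flp_j L244028) (flp_a L243892) L354367
theorem L354376 : sm gh N28788 = N41933 := rfl
theorem L354383 : sm gg N41933 = N28789 := ded_50_1 (flp_h L243897) L243890 L354376
theorem L354385 : sm gd N28789 = N41934 := rfl
theorem L354387 : sm ga N41934 = N28805 := ded_12_1 (flp_d L244044) (flp_a L243899) L354385
theorem L354390 : sm gf N41934 = N30363 := ded_35_2 (flp_d L257515) (flp_f L243904) L354385
theorem L354392 : sm gj N41934 = N28870 := ded_37_2 (flp_d L244643) (flp_j L243906) L354385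
theorem L354394 : sm gi N28789 = N41935 := rfl
theorem L354396 : sm ga N41935 = N28806 := ded_18_1 (flp_i L244052) (flp_a L243899) L354394
theorem L354398 : sm gb N41935 = N41935 := ded_26_1 (flp_i L354394) L243901 L354394
theorem L354399 : sm ge N41935 = N28792 := ded_44_1 (flp_i L243926) (flp_e L243902) L354394
theorem L354401 : sm gf N41935 = N30364 := ded_48_1 (flp_i L257523) (flp_f L243904) L354394
theorem L354403 : sm gj N41935 = N28871 := ded_53_1 (flp_i L244650) (flp_j L243906) L354394
theorem L354415 : sm gi N28791 = N41937 := rfl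
theorem L354417 : sm ga N41937 = N28808 := ded_18_1 (flp_i L244071) (flp_a L243920) L354415
theorem L354423 : sm gg N28793 = N41938 := rfl
theorem L354425 : sm gb N41938 = N29126 := ded_23_1 (flp_g L246944) (flp_b L243937) L354423
theorem L354427 : sm gd N41938 = N28794 := ded_36_1 (flp_g L243944) L243935 L354423
theorem L354429 : sm ge N41938 = N41938 := ded_41_1 (flp_g L354423) L243943 L354423
theorem L354430 : sm gh N28793 = N41939 := rfl
theorem L354432 : sm gb N41939 = N29127 := ded_25_1 (flp_h L246950) (flp_b L243937) L354430
theorem L354434 : sm ge N41939 = N41939 := ded_43_1 (flp_h L354430) L243943 L354430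
theorem L354435 : sm gf N41939 = N30368 := ded_47_1 (flp_h L257560) (flp_f L243939) L354430
theorem L354437 : sm gj N41939 = N28875 := ded_52_1 (flp_h L244684) (flp_j L243941) L354430
theorem L354439 : sm gf N28794 = N41940 := rfl
theorem L354441 : sm gb N41940 = N29128 := ded_22_1 (flp_f L246958) (flp_b L243946) L354439
theorem L354443 : sm gc N41940 = N28802 := ded_29_1 (flp_f L244021) (flp_c L243948) L354439
theorem L354445 : sm ge N41940 = N41940 := ded_40_1 (flp_f L354439) L243950 L168166 (flp_e L243950) L354439
theorem L354446 : sm gg N41940 = N30369 := ded_45_2 (flp_f L257568) (flp_g L177303) (flp_f L168157) L243944 L354439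
theorem L354448 : sm gj N28794 = N41941 := rfl
theorem L354450 : sm gb N41941 = N29129 := ded_24_1 (flp_j L246965) (flp_b L243946) L354448
theorem L354452 : sm gc N41941 = N28803 := ded_31_1 (flp_j L244028) (flp_c L243948) L354448
theorem L354454 : sm ge N41941 = N28796 := ded_42_1 (flp_j L243964) (flp_e L243950) L354448
theorem L354456 : sm gg N41941 = N28877 := ded_49_1 (flp_j L244701) (flp_g L168650) (flp_j L168155) L243944 L354448
theorem L354458 : sm gh N28794 = N41942 := rfl
theorem L354460 : sm gb N41942 = N29130 := ded_25_1 (flp_h L246973) (flp_b L243946) L354458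
theorem L354462 : sm gc N41942 = N28804 := ded_32_1 (flp_h L244036) (flp_c L243948) L354458
theorem L354464 : sm ge N41942 = N28797 := ded_43_1 (flp_h L243974) (flp_e L243950) L354458
theorem L354466 : sm gg N41942 = N28795 := ded_50_1 (flp_h L243952) L243944 L354458
theorem L354468 : sm gd N28795 = N41943 := rfl
theorem L354470 : sm gb N41943 = N29131 := ded_20_1 (flp_d L246981) (flp_b L243954) L354468
theorem L354472 : sm gf N41943 = N30372 := ded_35_2 (flp_d L257595) (flp_f L243960) L354468
theorem L354474 : sm gj N41943 = N28879 := ded_37_2 (flp_d L244719) (flp_j L243962) L354468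
theorem L354476 : sm gi N28795 = N41944 := rfl
theorem L354478 : sm gb N41944 = N29132 := ded_26_1 (flp_i L246987) (flp_b L243954) L354476
theorem L354480 : sm gc N41944 = N28806 := ded_33_1 (flp_i L244052) (flp_c L243956) L354476
theorem L354482 : sm ge N41944 = N28799 := ded_44_1 (flp_i L243992) (flp_e L243958) L354476
theorem L354484 : sm gf N41944 = N30373 := ded_48_1 (flp_i L257601) (flp_f L243960) L354476
theorem L354486 : sm gj N41944 = N28880 := ded_53_1 (flp_i L244725) (flp_j L243962) L354476
theorem L354488 : sm gh N28796 = N41945 := rfl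
theorem L354490 : sm gb N41945 = N29133 := ded_25_1 (flp_h L246997) (flp_b L243966) L354488
theorem L354499 : sm gd N28797 = N41946 := rfl
theorem L354501 : sm gb N41946 = N29134 := ded_20_1 (flp_d L247006) (flp_b L243976) L354499
theorem L354507 : sm gi N28797 = N41947 := rfl
theorem L354509 : sm gb N41947 = N29135 := ded_26_1 (flp_i L247013) (flp_b L243976) L354507
theorem L354511 : sm gc N41947 = N28808 := ded_33_1 (flp_i L244071) (flp_c L243978) L354507
theorem L354513 : sm gf N41947 = N41947 := ded_48_1 (flp_i L354507) L243980 L354507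
theorem L354514 : sm gg N41947 = N28799 := ded_51_1 (flp_i L243992) (flp_g L243981) L354507
theorem L354516 : sm ge N28798 = N41948 := rfl
theorem L354518 : sm gb N41948 = N29136 := ded_21_1 (flp_e L247020) (flp_b L243985) L354516
theorem L354520 : sm gj N41948 = N28884 := ded_42_2 (flp_e L244764) (flp_j L243989) L354516
theorem L354522 : sm gh N41948 = N41948 := ded_43_2 (flp_e L354516) L243991 L354516
theorem L354523 : sm gi N28798 = N41949 := rfl
theorem L354525 : sm gb N41949 = N29137 := ded_26_1 (flp_i L247026) (flp_b L243985) L354523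
theorem L354527 : sm gd N41949 = N28799 := ded_39_1 (flp_i L243992) L243983 L354523
theorem L354529 : sm gf N41949 = N28801 := ded_48_1 (flp_i L244012) (flp_f L243987) L354523
theorem L354531 : sm gj N41949 = N28885 := ded_53_1 (flp_i L244769) (flp_j L243989) L354523
theorem L354533 : sm gf N28800 = N41950 := rfl
theorem L354535 : sm gb N41950 = N29138 := ded_22_1 (flp_f L247035) (flp_b L244004) L354533
theorem L354537 : sm gd N41950 = N30379 := ded_35_1 (flp_f L257661) (flp_d L244010) L354533
theorem L354539 : sm gj N41950 = N28886 := ded_46_2 (flp_f L244777) (flp_j L244007) L354533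
theorem L354541 : sm gh N41950 = N41950 := ded_47_2 (flp_f L354533) L244009 L354533
theorem L354542 : sm gi N28800 = N41951 := rfl
theorem L354544 : sm gb N41951 = N29139 := ded_26_1 (flp_i L247043) (flp_b L244004) L354542
theorem L354546 : sm gd N41951 = N30380 := ded_39_1 (flp_i L257670) (flp_d L244010) L354542
theorem L354548 : sm ge N41951 = N28801 := ded_44_1 (flp_i L244012) L244002 L354542
theorem L354550 : sm gg N41951 = N41951 := ded_51_1 (flp_i L354542) L244006 L354542
theorem L354551 : sm gj N41951 = N28887 := ded_53_1 (flp_i L244784) (flp_j L244007) L354542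
theorem L354553 : sm gh N28801 = N41952 := rfl
theorem L354555 : sm gb N41952 = N29140 := ded_25_1 (flp_h L247053) (flp_b L244014) L354553
theorem L354557 : sm gg N41952 = N41952 := ded_50_1 (flp_h L354553) L244018 L354553
theorem L354558 : sm gj N41952 = N28888 := ded_52_1 (flp_h L244794) (flp_j L244019) L354553
theorem L354560 : sm gi N41952 = N41952 := ded_54_2 (flp_h L354553) (flp_i L244012) L168184 L244012 L354553
theorem L354561 : sm gj N28802 = N41953 := rfl
theorem L354563 : sm gb N41953 = N28809 := ded_24_1 (flp_j L244078) (flp_b L244023) L354561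
theorem L354566 : sm gf N41953 = N28803 := ded_46_1 (flp_j L244028) L244021 L354561
theorem L354568 : sm gh N28802 = N41954 := rfl
theorem L354570 : sm gb N41954 = N28810 := ded_25_1 (flp_h L244086) (flp_b L244023) L354568
theorem L354573 : sm gf N41954 = N28804 := ded_47_1 (flp_h L244036) L244021 L354568
theorem L354575 : sm gg N41954 = N30383 := ded_50_1 (flp_h L257697) (flp_g L244026) L354568
theorem L354577 : sm gh N28803 = N41955 := rfl
theorem L354579 : sm gb N41955 = N28811 := ded_25_1 (flp_h L244096) (flp_b L244030) L354577
theorem L354587 : sm gd N28804 = N41956 := rfl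
theorem L354589 : sm gb N41956 = N28812 := ded_20_1 (flp_d L244107) (flp_b L244038) L354587
theorem L354591 : sm gg N41956 = N28805 := ded_36_2 (flp_d L244044) (flp_g L244042) L354587
theorem L354593 : sm gi N28804 = N41957 := rfl
theorem L354595 : sm gb N41957 = N28813 := ded_26_1 (flp_i L244112) (flp_b L244038) L354593
theorem L354597 : sm ge N41957 = N28808 := ded_44_1 (flp_i L244071) (flp_e L244040) L354593
theorem L354599 : sm gg N41957 = N28806 := ded_51_1 (flp_i L244052) (flp_g L244042) L354593
theorem L354601 : sm gc N28805 = N41958 := rfl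
theorem L354603 : sm gf N41958 = N30387 := ded_29_2 (flp_c L257729) (flp_f L244048) L354601
theorem L354605 : sm gj N41958 = N28894 := ded_31_2 (flp_c L244841) (flp_j L244050) L354601
theorem L354607 : sm gi N28805 = N41959 := rfl
theorem L354609 : sm gb N41959 = N28815 := ded_26_1 (flp_i L244130) (flp_b L244046) L354607
theorem L354611 : sm gd N41959 = N28806 := ded_39_1 (flp_i L244052) L244044 L354607
theorem L354613 : sm gf N41959 = N30388 := ded_48_1 (flp_i L257734) (flp_f L244048) L354607
theorem L354615 : sm gj N41959 = N28895 := ded_53_1 (flp_i L244845) (flp_j L244050) L354607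
theorem L354617 : sm gi N28807 = N41960 := rfl
theorem L354622 : sm gg N41960 = N28896 := ded_51_1 (flp_i L244853) (flp_g L244067) L354617
theorem L354624 : sm gj N41960 = N28808 := ded_53_1 (flp_i L244071) (flp_j L244069) L354617
theorem L354626 : sm gg N28809 = N41961 := rfl
theorem L354629 : sm gc N41961 = N29149 := ded_30_1 (flp_g L247132) (flp_c L244081) L354626
theorem L354632 : sm gf N41961 = N28897 := ded_45_1 (flp_g L244861) L168778 (flp_g L168251) (flp_f L244084) L354626
theorem L354634 : sm gj N41961 = N30390 := ded_49_2 (flp_g L257753) (flp_j L177436) (flp_g L168242) L244078 L354626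
theorem L354653 : sm gi N28810 = N41964 := rfl
theorem L354656 : sm gc N41964 = N29152 := ded_33_1 (flp_i L247157) (flp_c L244089) L354653
theorem L354659 : sm gf N41964 = N28813 := ded_48_1 (flp_i L244112) (flp_f L244092) L354653
theorem L354661 : sm gg N41964 = N30393 := ded_51_1 (flp_i L257776) (flp_g L244094) L354653
theorem L354663 : sm gd N28811 = N41965 := rfl
theorem L354668 : sm gj N41965 = N28812 := ded_37_2 (flp_d L244107) (flp_j L244105) L354663
theorem L354670 : sm gi N28811 = N41966 := rfl
theorem L354673 : sm gc N41966 = N29154 := ded_33_1 (flp_i L247174) (flp_c L244099) L354670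
theorem L354675 : sm ge N41966 = N28816 := ded_44_1 (flp_i L244139) (flp_e L244101) L354670
theorem L354677 : sm gg N41966 = N28902 := ded_51_1 (flp_i L244904) (flp_g L244103) L354670
theorem L354679 : sm gj N41966 = N28813 := ded_53_1 (flp_i L244112) (flp_j L244105) L354670
theorem L354681 : sm gc N28812 = N41967 := rfl
theorem L354684 : sm gg N41967 = N28814 := ded_30_2 (flp_c L244121) (flp_g L244110) L354681
theorem L354686 : sm gd N41967 = N29155 := ded_27_2 (flp_c L247183) (flp_d L170310) (flp_c L168256) L244107 L354681
theorem L354688 : sm gi N28812 = N41968 := rfl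
theorem L354691 : sm gd N41968 = N28813 := ded_39_1 (flp_i L244112) L244107 L354688
theorem L354695 : sm gb N28814 = N41969 := rfl
theorem L354697 : sm gd N41969 = N29157 := ded_20_2 (flp_b L247198) (flp_d L244128) L354695
theorem L354699 : sm gf N41969 = N30398 := ded_22_2 (flp_b L257819) (flp_f L244124) L354695
theorem L354701 : sm gj N41969 = N28905 := ded_24_2 (flp_b L244927) (flp_j L244126) L354695
theorem L354703 : sm gi N28814 = N41970 := rfl
theorem L354708 : sm gd N41970 = N29158 := ded_39_1 (flp_i L247206) (flp_d L244128) L354703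
theorem L354710 : sm gf N41970 = N30399 := ded_48_1 (flp_i L257826) (flp_f L244124) L354703
theorem L354712 : sm gj N41970 = N28906 := ded_53_1 (flp_i L244933) (flp_j L244126) L354703
theorem L354721 : sm ge N28817 = N41972 := rfl
theorem L354723 : sm ga N41972 = N29196 := ded_13_1 (flp_e L247543) (flp_a L244151) L354721
theorem L354728 : sm gi N41972 = N28853 := ded_44_2 (flp_e L244494) (flp_i L244157) L354721
theorem L354732 : sm gg N28817 = N41973 := rfl
theorem L354734 : sm ga N41973 = N29197 := ded_15_1 (flp_g L247552) (flp_a L244151) L354732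
theorem L354736 : sm gb N41973 = N28820 := ded_23_1 (flp_g L244180) (flp_b L244153) L354732
theorem L354744 : sm gh N28817 = N41974 := rfl
theorem L354746 : sm ga N41974 = N29198 := ded_17_1 (flp_h L247562) (flp_a L244151) L354744
theorem L354748 : sm gb N41974 = N28821 := ded_25_1 (flp_h L244191) (flp_b L244153) L354744
theorem L354753 : sm gd N28818 = N41975 := rfl
theorem L354755 : sm ga N41975 = N29199 := ded_12_1 (flp_d L247569) (flp_a L244161) L354753
theorem L354759 : sm gg N41975 = N28911 := ded_36_2 (flp_d L244979) (flp_g L244168) L354753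
theorem L354762 : sm gi N28818 = N41976 := rfl
theorem L354764 : sm ga N41976 = N29200 := ded_18_1 (flp_i L247576) (flp_a L244161) L354762
theorem L354773 : sm gh N41976 = N28857 := ded_54_1 (flp_i L244531) (flp_h L168549) (flp_i L168305) L244159 L354762
theorem L354775 : sm gd N28819 = N41977 := rfl
theorem L354781 : sm gi N41977 = N28858 := ded_39_2 (flp_d L244542) (flp_i L244176) L354775
theorem L354784 : sm gg N28819 = N41978 := rfl
theorem L354786 : sm ga N41978 = N28830 := ded_15_1 (flp_g L244277) (flp_a L244172) L354784
theorem L354790 : sm ge N41978 = N28820 := ded_41_1 (flp_g L244180) L244170 L354784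
theorem L354794 : sm gh N28819 = N41979 := rfl
theorem L354796 : sm ga N41979 = N28831 := ded_17_1 (flp_h L244287) (flp_a L244172) L354794
theorem L354802 : sm gf N41979 = N30444 := ded_47_1 (flp_h L258229) (flp_f L244178) L354794
theorem L354804 : sm gj N28820 = N41980 := rfl
theorem L354806 : sm ga N41980 = N28832 := ded_16_1 (flp_j L244297) (flp_a L244182) L354804
theorem L354815 : sm gh N28820 = N41981 := rfl
theorem L354823 : sm gg N41981 = N28821 := ded_50_1 (flp_h L244191) L244180 L354815
theorem L354825 : sm gd N28821 = N41982 := rfl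
theorem L354827 : sm ga N41982 = N28834 := ded_12_1 (flp_d L244318) (flp_a L244193) L354825
theorem L354843 : sm ge N28822 = N41984 := rfl
theorem L354848 : sm gg N41984 = N28920 := ded_41_2 (flp_e L245069) (flp_g L244203) L354843
theorem L354851 : sm gd N41984 = N30449 := ded_34_1 (flp_e L258277) (flp_d L177772) (flp_e L168325) L244199 L354843
theorem L354862 : sm gf N28824 = N41986 := rfl
theorem L354864 : sm ga N41986 = N28838 := ded_14_1 (flp_f L244355) (flp_a L244221) L354862
theorem L354869 : sm ge N41986 = N28922 := ded_40_1 (flp_f L245086) L168911 (flp_f L168347) (flp_e L244224) L354862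
theorem L354873 : sm gj N28824 = N41987 := rfl
theorem L354875 : sm ga N41987 = N28839 := ded_16_1 (flp_j L244365) (flp_a L244221) L354873
theorem L354880 : sm gi N41987 = N28868 := ded_53_2 (flp_j L244627) (flp_i L244226) L354873
theorem L354882 : sm gh N28824 = N41988 := rfl
theorem L354884 : sm ga N41988 = N28840 := ded_17_1 (flp_h L244373) (flp_a L244221) L354882
theorem L354889 : sm gg N41988 = N28825 := ded_50_1 (flp_h L244228) L244219 L354882
theorem L354891 : sm gd N28825 = N41989 := rfl
theorem L354893 : sm ga N41989 = N28841 := ded_12_1 (flp_d L244381) (flp_a L244230) L354891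
theorem L354899 : sm gi N28825 = N41990 := rfl
theorem L354908 : sm gh N41990 = N28871 := ded_54_1 (flp_i L244650) (flp_h L168609) (flp_i L168334) L244228 L354899
theorem L354920 : sm gi N28827 = N41992 := rfl
theorem L354930 : sm gh N41992 = N28873 := ded_54_1 (flp_i L244668) (flp_h L168627) (flp_i L168345) L244248 L354920
theorem L354932 : sm gg N28829 = N41993 := rfl
theorem L354934 : sm gb N41993 = N29217 := ded_23_1 (flp_g L247742) (flp_b L244270) L354932
theorem L354936 : sm gd N41993 = N28830 := ded_36_1 (flp_g L244277) L244268 L354932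
theorem L354938 : sm ge N41993 = N41993 := ded_41_1 (flp_g L354932) L244276 L354932
theorem L354939 : sm gi N41993 = N28874 := ded_51_2 (flp_g L244677) (flp_i L244274) L354932
theorem L354941 : sm gh N28829 = N41994 := rfl
theorem L354943 : sm gb N41994 = N29218 := ded_25_1 (flp_h L247750) (flp_b L244270) L354941
theorem L354945 : sm ge N41994 = N41994 := ded_43_1 (flp_h L354941) L244276 L354941
theorem L354946 : sm gf N41994 = N30459 := ded_47_1 (flp_h L258364) (flp_f L244272) L354941
theorem L354948 : sm gf N28830 = N41995 := rfl
theorem L354950 : sm gb N41995 = N29219 := ded_22_1 (flp_f L247756) (flp_b L244279) L354948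
theorem L354952 : sm gc N41995 = N28838 := ded_29_1 (flp_f L244355) (flp_c L244281) L354948
theorem L354954 : sm gi N41995 = N28876 := ded_48_2 (flp_f L244691) (flp_i L244285) L354948
theorem L354956 : sm ge N41995 = N28931 := ded_40_1 (flp_f L245176) L168971 (flp_f L168399) (flp_e L244283) L354948
theorem L354958 : sm gg N41995 = N30460 := ded_45_2 (flp_f L258370) (flp_g L177843) (flp_f L168388) L244277 L354948
theorem L354960 : sm gj N28830 = N41996 := rfl
theorem L354962 : sm gb N41996 = N29220 := ded_24_1 (flp_j L247766) (flp_b L244279) L354960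
theorem L354964 : sm gc N41996 = N28839 := ded_31_1 (flp_j L244365) (flp_c L244281) L354960
theorem L354966 : sm ge N41996 = N28832 := ded_42_1 (flp_j L244297) (flp_e L244283) L354960
theorem L354968 : sm gi N41996 = N28877 := ded_53_2 (flp_j L244701) (flp_i L244285) L354960
theorem L354970 : sm gh N28830 = N41997 := rfl
theorem L354972 : sm gb N41997 = N29221 := ded_25_1 (flp_h L247774) (flp_b L244279) L354970
theorem L354974 : sm gc N41997 = N28840 := ded_32_1 (flp_h L244373) (flp_c L244281) L354970
theorem L354976 : sm ge N41997 = N28833 := ded_43_1 (flp_h L244308) (flp_e L244283) L354970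
theorem L354978 : sm gg N41997 = N28831 := ded_50_1 (flp_h L244287) L244277 L354970
theorem L354980 : sm gd N28831 = N41998 := rfl
theorem L354982 : sm gb N41998 = N29222 := ded_20_1 (flp_d L247782) (flp_b L244289) L354980
theorem L354984 : sm gf N41998 = N30463 := ded_35_2 (flp_d L258400) (flp_f L244295) L354980
theorem L354986 : sm gi N28831 = N41999 := rfl
theorem L354988 : sm gb N41999 = N29223 := ded_26_1 (flp_i L247786) (flp_b L244289) L354986
theorem L354990 : sm gc N41999 = N28842 := ded_33_1 (flp_i L244388) (flp_c L244291) L354986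
theorem L354992 : sm ge N41999 = N28835 := ded_44_1 (flp_i L244326) (flp_e L244293) L354986
theorem L354994 : sm gf N41999 = N30464 := ded_48_1 (flp_i L258404) (flp_f L244295) L354986
theorem L354996 : sm gh N41999 = N28880 := ded_54_1 (flp_i L244725) (flp_h L168658) (flp_i L168386) L244287 L354986
theorem L354998 : sm gh N28832 = N42000 := rfl
theorem L355000 : sm gb N42000 = N29224 := ded_25_1 (flp_h L247796) (flp_b L244299) L354998
theorem L355002 : sm gc N42000 = N28843 := ded_32_1 (flp_h L244398) (flp_c L244301) L354998
theorem L355004 : sm gf N42000 = N28936 := ded_47_1 (flp_h L245227) (flp_f L244304) L354998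
theorem L355006 : sm gj N42000 = N28833 := ded_52_1 (flp_h L244308) L244297 L354998
theorem L355008 : sm gd N28833 = N42001 := rfl
theorem L355010 : sm gb N42001 = N29225 := ded_20_1 (flp_d L247804) (flp_b L244310) L355008
theorem L355012 : sm gf N42001 = N28937 := ded_35_2 (flp_d L245236) (flp_f L244314) L355008
theorem L355014 : sm gg N42001 = N28834 := ded_36_2 (flp_d L244318) (flp_g L244316) L355008
theorem L355016 : sm gc N42001 = N42001 := ded_27_1 (flp_d L355008) L244312 L168463 (flp_c L244312) L355008
theorem L355017 : sm gh N42001 = N42001 := ded_38_2 (flp_d L355008) (flp_h L244308) L168396 L244308 L355008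
theorem L355018 : sm gi N28833 = N42002 := rfl
theorem L355020 : sm gb N42002 = N29226 := ded_26_1 (flp_i L247811) (flp_b L244310) L355018
theorem L355022 : sm gc N42002 = N28844 := ded_33_1 (flp_i L244407) (flp_c L244312) L355018
theorem L355024 : sm gf N42002 = N28938 := ded_48_1 (flp_i L245244) (flp_f L244314) L355018
theorem L355026 : sm gg N42002 = N28835 := ded_51_1 (flp_i L244326) (flp_g L244316) L355018
theorem L355028 : sm gh N42002 = N28883 := ded_54_1 (flp_i L244754) (flp_h L168677) (flp_i L168397) L244308 L355018
theorem L355030 : sm ge N28834 = N42003 := rfl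
theorem L355032 : sm gb N42003 = N29227 := ded_21_1 (flp_e L247821) (flp_b L244320) L355030
theorem L355034 : sm gc N42003 = N42003 := ded_28_1 (flp_e L355030) L244324 L355030
theorem L355035 : sm gh N42003 = N42003 := ded_43_2 (flp_e L355030) L244325 L355030
theorem L355036 : sm gi N28834 = N42004 := rfl
theorem L355038 : sm gb N42004 = N29228 := ded_26_1 (flp_i L247824) (flp_b L244320) L355036
theorem L355040 : sm gc N42004 = N42004 := ded_33_1 (flp_i L355036) L244324 L355036
theorem L355041 : sm gd N42004 = N28835 := ded_39_1 (flp_i L244326) L244318 L355036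
theorem L355043 : sm gf N42004 = N28837 := ded_48_1 (flp_i L244346) (flp_f L244322) L355036
theorem L355045 : sm gf N28836 = N42005 := rfl
theorem L355047 : sm gb N42005 = N29229 := ded_22_1 (flp_f L247830) (flp_b L244338) L355045
theorem L355050 : sm gd N42005 = N30470 := ded_35_1 (flp_f L258460) (flp_d L244344) L355045
theorem L355064 : sm gh N28837 = N42007 := rfl
theorem L355066 : sm gb N42007 = N29231 := ded_25_1 (flp_h L247843) (flp_b L244348) L355064
theorem L355068 : sm gc N42007 = N42007 := ded_32_1 (flp_h L355064) L244350 L355064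
theorem L355069 : sm gg N42007 = N28943 := ded_50_1 (flp_h L245290) (flp_g L244353) L355064
theorem L355071 : sm gd N42007 = N28888 := ded_38_1 (flp_h L244794) L168715 (flp_h L168427) (flp_d L244351) L355064
theorem L355073 : sm gi N42007 = N42007 := ded_54_2 (flp_h L355064) (flp_i L244346) L168416 L244346 L355064
theorem L355074 : sm gj N28838 = N42008 := rfl
theorem L355076 : sm gb N42008 = N28845 := ded_24_1 (flp_j L244418) (flp_b L244357) L355074
theorem L355078 : sm ge N42008 = N28944 := ded_42_1 (flp_j L245299) (flp_e L244361) L355074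
theorem L355080 : sm gf N42008 = N28839 := ded_46_1 (flp_j L244365) L244355 L355074
theorem L355082 : sm gi N42008 = N28889 := ded_53_2 (flp_j L244801) (flp_i L244359) L355074
theorem L355084 : sm gh N28838 = N42009 := rfl
theorem L355086 : sm gb N42009 = N28846 := ded_25_1 (flp_h L244429) (flp_b L244357) L355084
theorem L355088 : sm ge N42009 = N28945 := ded_43_1 (flp_h L245308) (flp_e L244361) L355084
theorem L355090 : sm gf N42009 = N28840 := ded_47_1 (flp_h L244373) L244355 L355084
theorem L355092 : sm gg N42009 = N30474 := ded_50_1 (flp_h L258494) (flp_g L244363) L355084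
theorem L355094 : sm gh N28839 = N42010 := rfl
theorem L355096 : sm gb N42010 = N28847 := ded_25_1 (flp_h L244440) (flp_b L244367) L355094
theorem L355098 : sm ge N42010 = N28843 := ded_43_1 (flp_h L244398) (flp_e L244369) L355094
theorem L355100 : sm gj N42010 = N28840 := ded_52_1 (flp_h L244373) L244365 L355094
theorem L355102 : sm gd N28840 = N42011 := rfl
theorem L355104 : sm gb N42011 = N28848 := ded_20_1 (flp_d L244449) (flp_b L244375) L355102
theorem L355106 : sm gg N42011 = N28841 := ded_36_2 (flp_d L244381) (flp_g L244379) L355102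
theorem L355108 : sm ge N42011 = N42011 := ded_34_2 (flp_d L355102) L244377 L168463 (flp_e L244377) L355102
theorem L355109 : sm gi N28840 = N42012 := rfl
theorem L355111 : sm gb N42012 = N28849 := ded_26_1 (flp_i L244455) (flp_b L244375) L355109
theorem L355113 : sm ge N42012 = N28844 := ded_44_1 (flp_i L244407) (flp_e L244377) L355109
theorem L355115 : sm gg N42012 = N28842 := ded_51_1 (flp_i L244388) (flp_g L244379) L355109
theorem L355117 : sm gh N42012 = N28893 := ded_54_1 (flp_i L244833) (flp_h L168733) (flp_i L168435) L244373 L355109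
theorem L355119 : sm gc N28841 = N42013 := rfl
theorem L355121 : sm ge N42013 = N42013 := ded_28_2 (flp_c L355119) L244387 L355119
theorem L355122 : sm gf N42013 = N30478 := ded_29_2 (flp_c L258526) (flp_f L244385) L355119
theorem L355124 : sm gi N28841 = N42014 := rfl
theorem L355126 : sm gb N42014 = N28851 := ded_26_1 (flp_i L244474) (flp_b L244383) L355124
theorem L355128 : sm gd N42014 = N28842 := ded_39_1 (flp_i L244388) L244381 L355124
theorem L355130 : sm ge N42014 = N42014 := ded_44_1 (flp_i L355124) L244387 L355124
theorem L355131 : sm gf N42014 = N30479 := ded_48_1 (flp_i L258528) (flp_f L244385) L355124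
theorem L355133 : sm gi N28843 = N42015 := rfl
theorem L355135 : sm gb N42015 = N28852 := ded_26_1 (flp_i L244482) (flp_b L244400) L355133
theorem L355137 : sm gd N42015 = N42015 := ded_39_1 (flp_i L355133) L244406 L355133
theorem L355138 : sm gf N42015 = N28951 := ded_48_1 (flp_i L245360) (flp_f L244402) L355133
theorem L355140 : sm gj N42015 = N28844 := ded_53_1 (flp_i L244407) (flp_j L244404) L355133
theorem L355142 : sm gh N42015 = N28896 := ded_54_1 (flp_i L244853) (flp_h L168755) (flp_i L168453) L244398 L355133
theorem L355144 : sm gg N28845 = N42016 := rfl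
theorem L355146 : sm ga N42016 = N42016 := ded_15_1 (flp_g L355144) L244420 L355144
theorem L355147 : sm gc N42016 = N29240 := ded_30_1 (flp_g L247919) (flp_c L244421) L355144
theorem L355149 : sm ge N42016 = N28952 := ded_41_1 (flp_g L245370) (flp_e L244423) L355144
theorem L355151 : sm gi N42016 = N28897 := ded_51_2 (flp_g L244861) (flp_i L244427) L355144
theorem L355153 : sm gj N42016 = N30481 := ded_49_2 (flp_g L258544) (flp_j L177971) (flp_g L168482) L244418 L355144
theorem L355155 : sm gh N28845 = N42017 := rfl
theorem L355157 : sm ga N42017 = N42017 := ded_17_1 (flp_h L355155) L244420 L355155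
theorem L355158 : sm gc N42017 = N29241 := ded_32_1 (flp_h L247929) (flp_c L244421) L355155
theorem L355160 : sm ge N42017 = N28953 := ded_43_1 (flp_h L245381) (flp_e L244423) L355155
theorem L355162 : sm gf N42017 = N28847 := ded_47_1 (flp_h L244440) (flp_f L244425) L355155
theorem L355164 : sm gj N42017 = N28846 := ded_52_1 (flp_h L244429) L244418 L355155
theorem L355166 : sm gd N28846 = N42018 := rfl
theorem L355168 : sm ga N42018 = N42018 := ded_12_1 (flp_d L355166) L244431 L355166
theorem L355169 : sm gf N42018 = N28848 := ded_35_2 (flp_d L244449) (flp_f L244436) L355166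
theorem L355171 : sm gg N42018 = N30483 := ded_36_2 (flp_d L258564) (flp_g L244438) L355166
theorem L355173 : sm gi N28846 = N42019 := rfl
theorem L355175 : sm ga N42019 = N42019 := ded_18_1 (flp_i L355173) L244431 L355173
theorem L355176 : sm gc N42019 = N29243 := ded_33_1 (flp_i L247946) (flp_c L244432) L355173
theorem L355178 : sm ge N42019 = N28955 := ded_44_1 (flp_i L245398) (flp_e L244434) L355173
theorem L355180 : sm gf N42019 = N28849 := ded_48_1 (flp_i L244455) (flp_f L244436) L355173
theorem L355182 : sm gg N42019 = N30484 := ded_51_1 (flp_i L258569) (flp_g L244438) L355173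
theorem L355184 : sm gh N42019 = N28900 := ded_54_1 (flp_i L244888) (flp_h L168780) (flp_i L168478) L244429 L355173
theorem L355186 : sm gd N28847 = N42020 := rfl
theorem L355188 : sm ga N42020 = N42020 := ded_12_1 (flp_d L355186) L244442 L355186
theorem L355189 : sm gj N42020 = N28848 := ded_37_2 (flp_d L244449) (flp_j L244447) L355186
theorem L355191 : sm ge N42020 = N42020 := ded_34_2 (flp_d L355186) L244445 L168528 (flp_e L244445) L355186
theorem L355192 : sm gi N28847 = N42021 := rfl
theorem L355194 : sm ga N42021 = N42021 := ded_18_1 (flp_i L355192) L244442 L355192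
theorem L355195 : sm gc N42021 = N29245 := ded_33_1 (flp_i L247963) (flp_c L244443) L355192
theorem L355197 : sm ge N42021 = N28852 := ded_44_1 (flp_i L244482) (flp_e L244445) L355192
theorem L355199 : sm gj N42021 = N28849 := ded_53_1 (flp_i L244455) (flp_j L244447) L355192
theorem L355201 : sm gh N42021 = N28902 := ded_54_1 (flp_i L244904) (flp_h L168791) (flp_i L168491) L244440 L355192
theorem L355203 : sm gc N28848 = N42022 := rfl
theorem L355205 : sm ga N42022 = N42022 := ded_11_1 (flp_c L355203) L244451 L355203
theorem L355206 : sm ge N42022 = N42022 := ded_28_2 (flp_c L355203) L244454 L355203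
theorem L355207 : sm gg N42022 = N28850 := ded_30_2 (flp_c L244466) (flp_g L244452) L355203
theorem L355209 : sm gd N42022 = N29246 := ded_27_2 (flp_c L247972) (flp_d L170841) (flp_c L168496) L244449 L355203
theorem L355211 : sm gi N28848 = N42023 := rfl
theorem L355213 : sm ga N42023 = N42023 := ded_18_1 (flp_i L355211) L244451 L355211
theorem L355214 : sm gd N42023 = N28849 := ded_39_1 (flp_i L244455) L244449 L355211
theorem L355216 : sm ge N42023 = N42023 := ded_44_1 (flp_i L355211) L244454 L355211
theorem L355217 : sm gg N42023 = N28851 := ded_51_1 (flp_i L244474) (flp_g L244452) L355211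
theorem L355219 : sm gb N28850 = N42024 := rfl
theorem L355221 : sm gd N42024 = N29248 := ded_20_2 (flp_b L247985) (flp_d L244472) L355219
theorem L355223 : sm ge N42024 = N42024 := ded_21_2 (flp_b L355219) L244469 L355219
theorem L355226 : sm gi N28850 = N42025 := rfl
theorem L355228 : sm ga N42025 = N42025 := ded_18_1 (flp_i L355226) L244468 L355226
theorem L355229 : sm gc N42025 = N28851 := ded_33_1 (flp_i L244474) L244466 L355226
theorem L355231 : sm gd N42025 = N29249 := ded_39_1 (flp_i L247990) (flp_d L244472) L355226
theorem L355233 : sm ge N42025 = N42025 := ded_44_1 (flp_i L355226) L244469 L355226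
theorem L355234 : sm gf N42025 = N30490 := ded_48_1 (flp_i L258614) (flp_f L244470) L355226
theorem L355236 : sm gh N28851 = N42026 := rfl
theorem L355238 : sm ga N42026 = N42026 := ded_17_1 (flp_h L355236) L244476 L355236
theorem L355239 : sm ge N42026 = N42026 := ded_43_1 (flp_h L355236) L244479 L355236
theorem L355240 : sm gf N42026 = N30491 := ded_47_1 (flp_h L258621) (flp_f L244480) L355236
theorem L355242 : sm gd N42026 = N28907 := ded_38_1 (flp_h L244942) L168824 (flp_h L168517) (flp_d L244477) L355236
theorem L355244 : sm gd N28853 = N42027 := rfl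
theorem L355246 : sm ga N42027 = N29251 := ded_12_1 (flp_d L248005) (flp_a L244496) L355244
theorem L355248 : sm gb N42027 = N28858 := ded_20_1 (flp_d L244542) (flp_b L244498) L355244
theorem L355250 : sm gf N42027 = N30492 := ded_35_2 (flp_d L258626) (flp_f L244501) L355244
theorem L355252 : sm ge N42027 = N42027 := ded_34_2 (flp_d L355244) (flp_e L244494) L168548 L244494 L355244
theorem L355253 : sm gg N28853 = N42028 := rfl
theorem L355255 : sm ga N42028 = N29252 := ded_15_1 (flp_g L248012) (flp_a L244496) L355253
theorem L355257 : sm gb N42028 = N28859 := ded_23_1 (flp_g L244549) (flp_b L244498) L355253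
theorem L355259 : sm gc N42028 = N42028 := ded_30_1 (flp_g L355253) L244500 L355253
theorem L355260 : sm ge N42028 = N28854 := ded_41_1 (flp_g L244503) L244494 L355253
theorem L355262 : sm gh N28853 = N42029 := rfl
theorem L355264 : sm ga N42029 = N29253 := ded_17_1 (flp_h L248019) (flp_a L244496) L355262
theorem L355266 : sm gb N42029 = N28860 := ded_25_1 (flp_h L244557) (flp_b L244498) L355262
theorem L355268 : sm gc N42029 = N42029 := ded_32_1 (flp_h L355262) L244500 L355262
theorem L355269 : sm ge N42029 = N28855 := ded_43_1 (flp_h L244513) L244494 L355262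
theorem L355271 : sm gf N42029 = N30494 := ded_47_1 (flp_h L258643) (flp_f L244501) L355262
theorem L355273 : sm gj N28854 = N42030 := rfl
theorem L355275 : sm ga N42030 = N29254 := ded_16_1 (flp_j L248028) (flp_a L244505) L355273
theorem L355277 : sm gb N42030 = N28861 := ded_24_1 (flp_j L244567) (flp_b L244507) L355273
theorem L355279 : sm gc N42030 = N42030 := ded_31_1 (flp_j L355273) L244509 L355273
theorem L355280 : sm gd N42030 = N42030 := ded_37_1 (flp_j L355273) L244510 L355273
theorem L355281 : sm gf N42030 = N28966 := ded_46_1 (flp_j L245507) (flp_f L244511) L355273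
theorem L355283 : sm gh N28854 = N42031 := rfl
theorem L355285 : sm ga N42031 = N29255 := ded_17_1 (flp_h L248036) (flp_a L244505) L355283
theorem L355287 : sm gb N42031 = N28862 := ded_25_1 (flp_h L244576) (flp_b L244507) L355283
theorem L355289 : sm gc N42031 = N42031 := ded_32_1 (flp_h L355283) L244509 L355283
theorem L355290 : sm gf N42031 = N28967 := ded_47_1 (flp_h L245516) (flp_f L244511) L355283
theorem L355292 : sm gg N42031 = N28855 := ded_50_1 (flp_h L244513) L244503 L355283
theorem L355294 : sm gd N28855 = N42032 := rfl
theorem L355296 : sm ga N42032 = N29256 := ded_12_1 (flp_d L248045) (flp_a L244515) L355294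
theorem L355298 : sm gb N42032 = N28863 := ded_20_1 (flp_d L244586) (flp_b L244517) L355294
theorem L355300 : sm gf N42032 = N28856 := ded_35_2 (flp_d L244522) (flp_f L244520) L355294
theorem L355302 : sm gh N42032 = N42032 := ded_38_2 (flp_d L355294) (flp_h L244513) L168548 L244513 L355294
theorem L355303 : sm gi N28855 = N42033 := rfl
theorem L355305 : sm ga N42033 = N29257 := ded_18_1 (flp_i L248052) (flp_a L244515) L355303
theorem L355307 : sm gb N42033 = N28864 := ded_26_1 (flp_i L244593) (flp_b L244517) L355303
theorem L355309 : sm gc N42033 = N42033 := ded_33_1 (flp_i L355303) L244519 L355303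
theorem L355310 : sm gf N42033 = N28857 := ded_48_1 (flp_i L244531) (flp_f L244520) L355303
theorem L355312 : sm gc N28856 = N42034 := rfl
theorem L355316 : sm gg N42034 = N28970 := ded_30_2 (flp_c L245545) (flp_g L244528) L355312
theorem L355318 : sm gh N42034 = N42034 := ded_32_2 (flp_c L355312) L244530 L355312
theorem L355319 : sm gd N42034 = N42034 := ded_27_2 (flp_c L355312) (flp_d L244522) L168555 L244522 L355312
theorem L355320 : sm ge N28856 = N42035 := rfl
theorem L355324 : sm gb N42035 = N28865 := ded_21_1 (flp_e L244601) (flp_b L244526) L355320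
theorem L355331 : sm gi N28856 = N42036 := rfl
theorem L355333 : sm ga N42036 = N29260 := ded_18_1 (flp_i L248075) (flp_a L244524) L355331
theorem L355335 : sm gb N42036 = N28866 := ded_26_1 (flp_i L244610) (flp_b L244526) L355331
theorem L355337 : sm gd N42036 = N28857 := ded_39_1 (flp_i L244531) L244522 L355331
theorem L355339 : sm gg N42036 = N28972 := ded_51_1 (flp_i L245562) (flp_g L244528) L355331
theorem L355341 : sm gg N28858 = N42037 := rfl
theorem L355343 : sm ga N42037 = N28874 := ded_15_1 (flp_g L244677) (flp_a L244544) L355341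
theorem L355345 : sm gd N42037 = N28859 := ded_36_1 (flp_g L244549) L244542 L355341
theorem L355347 : sm ge N42037 = N42037 := ded_41_1 (flp_g L355341) L244548 L355341
theorem L355348 : sm gh N28858 = N42038 := rfl
theorem L355350 : sm ga N42038 = N28875 := ded_17_1 (flp_h L244684) (flp_a L244544) L355348
theorem L355353 : sm gf N42038 = N30503 := ded_47_1 (flp_h L258731) (flp_f L244546) L355348
theorem L355355 : sm gf N28859 = N42039 := rfl
theorem L355357 : sm ga N42039 = N28876 := ded_14_1 (flp_f L244691) (flp_a L244551) L355355
theorem L355359 : sm gc N42039 = N28867 := ded_29_1 (flp_f L244618) (flp_c L244553) L355355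
theorem L355361 : sm ge N42039 = N28975 := ded_40_1 (flp_f L245588) L169243 (flp_f L168575) (flp_e L244555) L355355
theorem L355363 : sm gg N42039 = N30504 := ded_45_2 (flp_f L258737) (flp_g L178089) (flp_f L168566) L244549 L355355
theorem L355365 : sm gj N28859 = N42040 := rfl
theorem L355367 : sm ga N42040 = N28877 := ded_16_1 (flp_j L244701) (flp_a L244551) L355365
theorem L355369 : sm gc N42040 = N28868 := ded_31_1 (flp_j L244627) (flp_c L244553) L355365
theorem L355371 : sm ge N42040 = N28861 := ded_42_1 (flp_j L244567) (flp_e L244555) L355365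
theorem L355373 : sm gh N28859 = N42041 := rfl
theorem L355375 : sm ga N42041 = N28878 := ded_17_1 (flp_h L244709) (flp_a L244551) L355373
theorem L355377 : sm gc N42041 = N28869 := ded_32_1 (flp_h L244634) (flp_c L244553) L355373
theorem L355379 : sm ge N42041 = N28862 := ded_43_1 (flp_h L244576) (flp_e L244555) L355373
theorem L355381 : sm gg N42041 = N28860 := ded_50_1 (flp_h L244557) L244549 L355373
theorem L355383 : sm gd N28860 = N42042 := rfl
theorem L355385 : sm ga N42042 = N28879 := ded_12_1 (flp_d L244719) (flp_a L244559) L355383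
theorem L355387 : sm gf N42042 = N30507 := ded_35_2 (flp_d L258763) (flp_f L244565) L355383
theorem L355389 : sm gi N28860 = N42043 := rfl
theorem L355391 : sm ga N42043 = N28880 := ded_18_1 (flp_i L244725) (flp_a L244559) L355389
theorem L355393 : sm gc N42043 = N28871 := ded_33_1 (flp_i L244650) (flp_c L244561) L355389
theorem L355395 : sm ge N42043 = N28864 := ded_44_1 (flp_i L244593) (flp_e L244563) L355389
theorem L355397 : sm gf N42043 = N30508 := ded_48_1 (flp_i L258767) (flp_f L244565) L355389
theorem L355399 : sm gh N28861 = N42044 := rfl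
theorem L355405 : sm gf N42044 = N28980 := ded_47_1 (flp_h L245633) (flp_f L244574) L355399
theorem L355407 : sm gj N42044 = N28862 := ded_52_1 (flp_h L244576) L244567 L355399
theorem L355409 : sm gd N28862 = N42045 := rfl
theorem L355413 : sm gf N42045 = N28981 := ded_35_2 (flp_d L245642) (flp_f L244582) L355409
theorem L355415 : sm gg N42045 = N28863 := ded_36_2 (flp_d L244586) (flp_g L244584) L355409
theorem L355418 : sm gi N28862 = N42046 := rfl
theorem L355420 : sm ga N42046 = N28883 := ded_18_1 (flp_i L244754) (flp_a L244578) L355418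
theorem L355422 : sm gc N42046 = N28873 := ded_33_1 (flp_i L244668) (flp_c L244580) L355418
theorem L355424 : sm gf N42046 = N28982 := ded_48_1 (flp_i L245649) (flp_f L244582) L355418
theorem L355426 : sm gg N42046 = N28864 := ded_51_1 (flp_i L244593) (flp_g L244584) L355418
theorem L355428 : sm ge N28863 = N42047 := rfl
theorem L355430 : sm ga N42047 = N28884 := ded_13_1 (flp_e L244764) (flp_a L244588) L355428
theorem L355432 : sm gh N42047 = N42047 := ded_43_2 (flp_e L355428) L244592 L355428
theorem L355433 : sm gi N28863 = N42048 := rfl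
theorem L355435 : sm ga N42048 = N28885 := ded_18_1 (flp_i L244769) (flp_a L244588) L355433
theorem L355437 : sm gd N42048 = N28864 := ded_39_1 (flp_i L244593) L244586 L355433
theorem L355439 : sm gf N42048 = N28866 := ded_48_1 (flp_i L244610) (flp_f L244590) L355433
theorem L355441 : sm gf N28865 = N42049 := rfl
theorem L355443 : sm ga N42049 = N28886 := ded_14_1 (flp_f L244777) (flp_a L244603) L355441
theorem L355445 : sm gd N42049 = N30514 := ded_35_1 (flp_f L258822) (flp_d L244608) L355441
theorem L355447 : sm gh N42049 = N42049 := ded_47_2 (flp_f L355441) L244607 L355441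
theorem L355448 : sm gi N28865 = N42050 := rfl
theorem L355450 : sm ga N42050 = N28887 := ded_18_1 (flp_i L244784) (flp_a L244603) L355448
theorem L355452 : sm gd N42050 = N30515 := ded_39_1 (flp_i L258829) (flp_d L244608) L355448
theorem L355454 : sm ge N42050 = N28866 := ded_44_1 (flp_i L244610) L244601 L355448
theorem L355456 : sm gg N42050 = N28986 := ded_51_1 (flp_i L245680) (flp_g L244605) L355448
theorem L355458 : sm gh N28866 = N42051 := rfl
theorem L355460 : sm ga N42051 = N28888 := ded_17_1 (flp_h L244794) (flp_a L244612) L355458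
theorem L355462 : sm gg N42051 = N28987 := ded_50_1 (flp_h L245689) (flp_g L244616) L355458
theorem L355464 : sm gi N42051 = N42051 := ded_54_2 (flp_h L355458) (flp_i L244610) L168591 L244610 L355458
theorem L355465 : sm gj N28867 = N42052 := rfl
theorem L355467 : sm ga N42052 = N28889 := ded_16_1 (flp_j L244801) (flp_a L244620) L355465
theorem L355469 : sm gb N42052 = N42052 := ded_24_1 (flp_j L355465) L244622 L355465
theorem L355470 : sm ge N42052 = N28988 := ded_42_1 (flp_j L245695) (flp_e L244623) L355465
theorem L355472 : sm gf N42052 = N28868 := ded_46_1 (flp_j L244627) L244618 L355465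
theorem L355474 : sm gh N28867 = N42053 := rfl
theorem L355476 : sm ga N42053 = N28890 := ded_17_1 (flp_h L244809) (flp_a L244620) L355474
theorem L355478 : sm gb N42053 = N42053 := ded_25_1 (flp_h L355474) L244622 L355474
theorem L355479 : sm ge N42053 = N28989 := ded_43_1 (flp_h L245703) (flp_e L244623) L355474
theorem L355481 : sm gf N42053 = N28869 := ded_47_1 (flp_h L244634) L244618 L355474
theorem L355483 : sm gg N42053 = N30518 := ded_50_1 (flp_h L258856) (flp_g L244625) L355474
theorem L355485 : sm gh N28868 = N42054 := rfl
theorem L355492 : sm gj N42054 = N28869 := ded_52_1 (flp_h L244634) L244627 L355485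
theorem L355494 : sm gd N28869 = N42055 := rfl
theorem L355496 : sm ga N42055 = N28892 := ded_12_1 (flp_d L244827) (flp_a L244636) L355494
theorem L355499 : sm gg N42055 = N28870 := ded_36_2 (flp_d L244643) (flp_g L244641) L355494
theorem L355501 : sm gi N28869 = N42056 := rfl
theorem L355503 : sm ga N42056 = N28893 := ded_18_1 (flp_i L244833) (flp_a L244636) L355501
theorem L355505 : sm gb N42056 = N42056 := ded_26_1 (flp_i L355501) L244638 L355501
theorem L355506 : sm ge N42056 = N28873 := ded_44_1 (flp_i L244668) (flp_e L244639) L355501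
theorem L355508 : sm gg N42056 = N28871 := ded_51_1 (flp_i L244650) (flp_g L244641) L355501
theorem L355510 : sm gc N28870 = N42057 := rfl
theorem L355512 : sm ga N42057 = N28894 := ded_11_1 (flp_c L244841) (flp_a L244645) L355510
theorem L355516 : sm gi N28870 = N42058 := rfl
theorem L355518 : sm ga N42058 = N28895 := ded_18_1 (flp_i L244845) (flp_a L244645) L355516
theorem L355520 : sm gb N42058 = N42058 := ded_26_1 (flp_i L355516) L244647 L355516
theorem L355521 : sm gd N42058 = N28871 := ded_39_1 (flp_i L244650) L244643 L355516
theorem L355523 : sm gf N42058 = N30523 := ded_48_1 (flp_i L258896) (flp_f L244648) L355516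
theorem L355525 : sm gi N28872 = N42059 := rfl
theorem L355527 : sm ga N42059 = N28896 := ded_18_1 (flp_i L244853) (flp_a L244661) L355525
theorem L355530 : sm gf N42059 = N28995 := ded_48_1 (flp_i L245757) (flp_f L244664) L355525
theorem L355534 : sm gf N28874 = N42060 := rfl
theorem L355536 : sm gb N42060 = N29284 := ded_22_1 (flp_f L248291) (flp_b L244679) L355534
theorem L355538 : sm gd N42060 = N28876 := ded_35_1 (flp_f L244691) (flp_d L244681) L355534
theorem L355540 : sm gg N42060 = N30525 := ded_45_2 (flp_f L258914) (flp_g L178216) (flp_f L168647) L244677 L355534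
theorem L355542 : sm gj N28874 = N42061 := rfl
theorem L355544 : sm gb N42061 = N29285 := ded_24_1 (flp_j L248298) (flp_b L244679) L355542
theorem L355546 : sm gd N42061 = N28877 := ded_37_1 (flp_j L244701) (flp_d L244681) L355542
theorem L355548 : sm ge N42061 = N42061 := ded_42_1 (flp_j L355542) L244683 L355542
theorem L355549 : sm gh N28874 = N42062 := rfl
theorem L355551 : sm gb N42062 = N29286 := ded_25_1 (flp_h L248304) (flp_b L244679) L355549
theorem L355553 : sm ge N42062 = N42062 := ded_43_1 (flp_h L355549) L244683 L355549
theorem L355554 : sm gg N42062 = N28875 := ded_50_1 (flp_h L244684) L244677 L355549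
theorem L355556 : sm gd N28875 = N42063 := rfl
theorem L355558 : sm gb N42063 = N29287 := ded_20_1 (flp_d L248310) (flp_b L244686) L355556
theorem L355560 : sm gf N42063 = N30528 := ded_35_2 (flp_d L258936) (flp_f L244689) L355556
theorem L355562 : sm gh N42063 = N28879 := ded_38_2 (flp_d L244719) (flp_h L168658) L168643 L244684 L355556
theorem L355564 : sm gi N28875 = N42064 := rfl
theorem L355566 : sm gb N42064 = N29288 := ded_26_1 (flp_i L248316) (flp_b L244686) L355564
theorem L355568 : sm ge N42064 = N42064 := ded_44_1 (flp_i L355564) L244688 L355564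
theorem L355569 : sm gf N42064 = N30529 := ded_48_1 (flp_i L258942) (flp_f L244689) L355564
theorem L355571 : sm gj N28876 = N42065 := rfl
theorem L355573 : sm gb N42065 = N29289 := ded_24_1 (flp_j L248322) (flp_b L244693) L355571
theorem L355575 : sm gc N42065 = N28889 := ded_31_1 (flp_j L244801) (flp_c L244695) L355571
theorem L355577 : sm ge N42065 = N29001 := ded_42_1 (flp_j L245809) (flp_e L244697) L355571
theorem L355579 : sm gf N42065 = N28877 := ded_46_1 (flp_j L244701) L244691 L355571
theorem L355581 : sm gh N28876 = N42066 := rfl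
theorem L355583 : sm gb N42066 = N29290 := ded_25_1 (flp_h L248330) (flp_b L244693) L355581
theorem L355585 : sm gc N42066 = N28890 := ded_32_1 (flp_h L244809) (flp_c L244695) L355581
theorem L355587 : sm ge N42066 = N29002 := ded_43_1 (flp_h L245817) (flp_e L244697) L355581
theorem L355589 : sm gf N42066 = N28878 := ded_47_1 (flp_h L244709) L244691 L355581
theorem L355591 : sm gg N42066 = N30531 := ded_50_1 (flp_h L258958) (flp_g L244699) L355581
theorem L355593 : sm gh N28877 = N42067 := rfl
theorem L355595 : sm gb N42067 = N29291 := ded_25_1 (flp_h L248340) (flp_b L244703) L355593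
theorem L355597 : sm gc N42067 = N28891 := ded_32_1 (flp_h L244819) (flp_c L244705) L355593
theorem L355599 : sm ge N42067 = N28881 := ded_43_1 (flp_h L244735) (flp_e L244707) L355593
theorem L355601 : sm gj N42067 = N28878 := ded_52_1 (flp_h L244709) L244701 L355593
theorem L355603 : sm gd N28878 = N42068 := rfl
theorem L355605 : sm gb N42068 = N29292 := ded_20_1 (flp_d L248348) (flp_b L244711) L355603
theorem L355607 : sm gg N42068 = N28879 := ded_36_2 (flp_d L244719) (flp_g L244717) L355603
theorem L355609 : sm gi N28878 = N42069 := rfl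
theorem L355611 : sm gb N42069 = N29293 := ded_26_1 (flp_i L248352) (flp_b L244711) L355609
theorem L355613 : sm gc N42069 = N28893 := ded_33_1 (flp_i L244833) (flp_c L244713) L355609
theorem L355615 : sm ge N42069 = N28883 := ded_44_1 (flp_i L244754) (flp_e L244715) L355609
theorem L355617 : sm gg N42069 = N28880 := ded_51_1 (flp_i L244725) (flp_g L244717) L355609
theorem L355619 : sm gc N28879 = N42070 := rfl
theorem L355621 : sm gf N42070 = N30535 := ded_29_2 (flp_c L258994) (flp_f L244723) L355619
theorem L355623 : sm gd N42070 = N28894 := ded_27_2 (flp_c L244841) (flp_d L168741) (flp_c L168662) L244719 L355619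
theorem L355625 : sm ge N28879 = N42071 := rfl
theorem L355627 : sm gb N42071 = N29295 := ded_21_1 (flp_e L248366) (flp_b L244721) L355625
theorem L355629 : sm gd N42071 = N28884 := ded_34_1 (flp_e L244764) (flp_d L168687) (flp_e L168664) L244719 L355625
theorem L355631 : sm gi N28879 = N42072 := rfl
theorem L355633 : sm gb N42072 = N29296 := ded_26_1 (flp_i L248370) (flp_b L244721) L355631
theorem L355635 : sm gd N42072 = N28880 := ded_39_1 (flp_i L244725) L244719 L355631
theorem L355637 : sm gf N42072 = N30537 := ded_48_1 (flp_i L259004) (flp_f L244723) L355631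
theorem L355639 : sm gd N28881 = N42073 := rfl
theorem L355641 : sm gb N42073 = N29297 := ded_20_1 (flp_d L248376) (flp_b L244737) L355639
theorem L355648 : sm gi N28881 = N42074 := rfl
theorem L355650 : sm gb N42074 = N29298 := ded_26_1 (flp_i L248384) (flp_b L244737) L355648
theorem L355652 : sm gc N42074 = N28896 := ded_33_1 (flp_i L244853) (flp_c L244739) L355648
theorem L355654 : sm gf N42074 = N29010 := ded_48_1 (flp_i L245885) (flp_f L244741) L355648
theorem L355656 : sm gj N42074 = N28883 := ded_53_1 (flp_i L244754) (flp_j L244743) L355648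
theorem L355658 : sm ge N28882 = N42075 := rfl
theorem L355660 : sm gb N42075 = N29299 := ded_21_1 (flp_e L248392) (flp_b L244747) L355658
theorem L355662 : sm gg N42075 = N28884 := ded_41_2 (flp_e L244764) (flp_g L244751) L355658
theorem L355664 : sm gh N42075 = N42075 := ded_43_2 (flp_e L355658) L244753 L355658
theorem L355665 : sm gi N28882 = N42076 := rfl
theorem L355667 : sm gb N42076 = N29300 := ded_26_1 (flp_i L248398) (flp_b L244747) L355665
theorem L355669 : sm gd N42076 = N28883 := ded_39_1 (flp_i L244754) L244745 L355665
theorem L355671 : sm gf N42076 = N29012 := ded_48_1 (flp_i L245901) (flp_f L244749) L355665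
theorem L355673 : sm gg N42076 = N28885 := ded_51_1 (flp_i L244769) (flp_g L244751) L355665
theorem L355675 : sm gf N28884 = N42077 := rfl
theorem L355677 : sm gb N42077 = N29301 := ded_22_1 (flp_f L248407) (flp_b L244766) L355675
theorem L355679 : sm gh N42077 = N42077 := ded_47_2 (flp_f L355675) L244768 L355675
theorem L355680 : sm ge N42077 = N28886 := ded_40_1 (flp_f L244777) (flp_e L168702) (flp_f L168691) L244764 L355675
theorem L355682 : sm gi N28884 = N42078 := rfl
theorem L355684 : sm gb N42078 = N29302 := ded_26_1 (flp_i L248413) (flp_b L244766) L355682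
theorem L355686 : sm ge N42078 = N28885 := ded_44_1 (flp_i L244769) L244764 L355682
theorem L355688 : sm gh N28885 = N42079 := rfl
theorem L355690 : sm gb N42079 = N29303 := ded_25_1 (flp_h L248418) (flp_b L244771) L355688
theorem L355692 : sm gf N42079 = N28888 := ded_47_1 (flp_h L244794) (flp_f L244775) L355688
theorem L355694 : sm gi N42079 = N42079 := ded_54_2 (flp_h L355688) (flp_i L244769) L168693 L244769 L355688
theorem L355695 : sm gg N28886 = N42080 := rfl
theorem L355697 : sm gb N42080 = N29304 := ded_23_1 (flp_g L248424) (flp_b L244779) L355695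
theorem L355699 : sm gd N42080 = N30545 := ded_36_1 (flp_g L259076) (flp_d L244781) L355695
theorem L355701 : sm gh N42080 = N42080 := ded_50_2 (flp_g L355695) L244783 L355695
theorem L355702 : sm gf N42080 = N29016 := ded_45_1 (flp_g L245932) (flp_f L169465) (flp_g L168706) L244777 L355695
theorem L355704 : sm gi N28886 = N42081 := rfl
theorem L355706 : sm gb N42081 = N29305 := ded_26_1 (flp_i L248432) (flp_b L244779) L355704
theorem L355708 : sm gd N42081 = N30546 := ded_39_1 (flp_i L259085) (flp_d L244781) L355704
theorem L355710 : sm gf N42081 = N28887 := ded_48_1 (flp_i L244784) L244777 L355704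
theorem L355712 : sm gh N28887 = N42082 := rfl
theorem L355714 : sm gb N42082 = N29306 := ded_25_1 (flp_h L248439) (flp_b L244786) L355712
theorem L355716 : sm ge N42082 = N28888 := ded_43_1 (flp_h L244794) (flp_e L244790) L355712
theorem L355718 : sm gg N42082 = N29018 := ded_50_1 (flp_h L245948) (flp_g L244792) L355712
theorem L355720 : sm gi N42082 = N42082 := ded_54_2 (flp_h L355712) (flp_i L244784) L168708 L244784 L355712
theorem L355721 : sm gg N28889 = N42083 := rfl
theorem L355723 : sm gb N42083 = N28897 := ded_23_1 (flp_g L244861) (flp_b L244803) L355721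
theorem L355725 : sm ge N42083 = N29019 := ded_41_1 (flp_g L245956) (flp_e L244805) L355721
theorem L355727 : sm gj N42083 = N30548 := ded_49_2 (flp_g L259103) (flp_j L178340) (flp_g L168725) L244801 L355721
theorem L355729 : sm gh N28889 = N42084 := rfl
theorem L355731 : sm gb N42084 = N28898 := ded_25_1 (flp_h L244870) (flp_b L244803) L355729
theorem L355733 : sm ge N42084 = N29020 := ded_43_1 (flp_h L245964) (flp_e L244805) L355729
theorem L355735 : sm gf N42084 = N28891 := ded_47_1 (flp_h L244819) (flp_f L244807) L355729
theorem L355737 : sm gj N42084 = N28890 := ded_52_1 (flp_h L244809) L244801 L355729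
theorem L355739 : sm gd N28890 = N42085 := rfl
theorem L355741 : sm gb N42085 = N28899 := ded_20_1 (flp_d L244881) (flp_b L244811) L355739
theorem L355743 : sm gf N42085 = N28892 := ded_35_2 (flp_d L244827) (flp_f L244815) L355739
theorem L355745 : sm gg N42085 = N30550 := ded_36_2 (flp_d L259119) (flp_g L244817) L355739
theorem L355747 : sm gi N28890 = N42086 := rfl
theorem L355749 : sm gb N42086 = N28900 := ded_26_1 (flp_i L244888) (flp_b L244811) L355747
theorem L355751 : sm ge N42086 = N29022 := ded_44_1 (flp_i L245981) (flp_e L244813) L355747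
theorem L355753 : sm gf N42086 = N28893 := ded_48_1 (flp_i L244833) (flp_f L244815) L355747
theorem L355755 : sm gg N42086 = N30551 := ded_51_1 (flp_i L259125) (flp_g L244817) L355747
theorem L355757 : sm gd N28891 = N42087 := rfl
theorem L355761 : sm gj N42087 = N28892 := ded_37_2 (flp_d L244827) (flp_j L244825) L355757
theorem L355763 : sm gi N28891 = N42088 := rfl
theorem L355765 : sm gb N42088 = N28902 := ded_26_1 (flp_i L244904) (flp_b L244821) L355763
theorem L355767 : sm ge N42088 = N28896 := ded_44_1 (flp_i L244853) (flp_e L244823) L355763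
theorem L355769 : sm gj N42088 = N28893 := ded_53_1 (flp_i L244833) (flp_j L244825) L355763
theorem L355771 : sm gc N28892 = N42089 := rfl
theorem L355773 : sm gg N42089 = N28894 := ded_30_2 (flp_c L244841) (flp_g L244831) L355771
theorem L355775 : sm gi N28892 = N42090 := rfl
theorem L355777 : sm gb N42090 = N28904 := ded_26_1 (flp_i L244920) (flp_b L244829) L355775
theorem L355779 : sm gd N42090 = N28893 := ded_39_1 (flp_i L244833) L244827 L355775
theorem L355781 : sm gg N42090 = N28895 := ded_51_1 (flp_i L244845) (flp_g L244831) L355775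
theorem L355783 : sm gb N28894 = N42091 := rfl
theorem L355785 : sm gf N42091 = N30556 := ded_22_2 (flp_b L259162) (flp_f L244843) L355783
theorem L355787 : sm gc N42091 = N28905 := ded_19_2 (flp_b L244927) (flp_c L168814) (flp_b L168743) L244841 L355783
theorem L355789 : sm gi N28894 = N42092 := rfl
theorem L355791 : sm gc N42092 = N28895 := ded_33_1 (flp_i L244845) L244841 L355789
theorem L355793 : sm gf N42092 = N30557 := ded_48_1 (flp_i L259167) (flp_f L244843) L355789
theorem L355795 : sm gh N28895 = N42093 := rfl
theorem L355797 : sm gb N42093 = N28907 := ded_25_1 (flp_h L244942) (flp_b L244847) L355795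
theorem L355799 : sm gf N42093 = N30558 := ded_47_1 (flp_h L259172) (flp_f L244851) L355795
theorem L355801 : sm gh N28897 = N42094 := rfl
theorem L355804 : sm gc N42094 = N29318 := ded_32_1 (flp_h L248539) (flp_c L244864) L355801
theorem L355806 : sm ge N42094 = N29030 := ded_43_1 (flp_h L246042) (flp_e L244866) L355801
theorem L355808 : sm gg N42094 = N28898 := ded_50_1 (flp_h L244870) L244861 L355801
theorem L355810 : sm gj N42094 = N30559 := ded_52_1 (flp_h L259177) (flp_j L244868) L355801
theorem L355812 : sm gd N28898 = N42095 := rfl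
theorem L355817 : sm gj N42095 = N28899 := ded_37_2 (flp_d L244881) (flp_j L244879) L355812
theorem L355819 : sm gi N28898 = N42096 := rfl
theorem L355821 : sm ga N42096 = N42096 := ded_18_1 (flp_i L355819) L244872 L355819
theorem L355822 : sm gc N42096 = N29320 := ded_33_1 (flp_i L248556) (flp_c L244873) L355819
theorem L355824 : sm ge N42096 = N29032 := ded_44_1 (flp_i L246060) (flp_e L244875) L355819
theorem L355826 : sm gf N42096 = N28902 := ded_48_1 (flp_i L244904) (flp_f L244877) L355819
theorem L355828 : sm gj N42096 = N28900 := ded_53_1 (flp_i L244888) (flp_j L244879) L355819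
theorem L355830 : sm gc N28899 = N42097 := rfl
theorem L355835 : sm gg N42097 = N30562 := ded_30_2 (flp_c L259204) (flp_g L244886) L355830
theorem L355837 : sm gd N42097 = N29321 := ded_27_2 (flp_c L248565) (flp_d L171247) (flp_c L168783) L244881 L355830
theorem L355839 : sm ge N28899 = N42098 := rfl
theorem L355842 : sm gg N42098 = N30563 := ded_41_2 (flp_e L259211) (flp_g L244886) L355839
theorem L355844 : sm gd N42098 = N29034 := ded_34_1 (flp_e L246079) (flp_d L169567) (flp_e L168785) L244881 L355839
theorem L355846 : sm gi N28899 = N42099 := rfl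
theorem L355848 : sm ga N42099 = N42099 := ded_18_1 (flp_i L355846) L244883 L355846
theorem L355849 : sm gd N42099 = N28900 := ded_39_1 (flp_i L244888) L244881 L355846
theorem L355851 : sm gf N42099 = N28904 := ded_48_1 (flp_i L244920) (flp_f L244884) L355846
theorem L355853 : sm gg N42099 = N30564 := ded_51_1 (flp_i L259217) (flp_g L244886) L355846
theorem L355855 : sm gc N28901 = N42100 := rfl
theorem L355858 : sm gj N42100 = N28903 := ded_31_2 (flp_c L244913) (flp_j L244902) L355855
theorem L355860 : sm gd N42100 = N29324 := ded_27_2 (flp_c L248591) (flp_d L171264) (flp_c L168794) L244899 L355855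
theorem L355862 : sm gi N28901 = N42101 := rfl
theorem L355865 : sm gd N42101 = N28902 := ded_39_1 (flp_i L244904) L244899 L355862
theorem L355867 : sm gj N42101 = N28904 := ded_53_1 (flp_i L244920) (flp_j L244902) L355862
theorem L355869 : sm gb N28903 = N42102 := rfl
theorem L355871 : sm gd N42102 = N29326 := ded_20_2 (flp_b L248606) (flp_d L244918) L355869
theorem L355873 : sm gg N42102 = N28905 := ded_23_2 (flp_b L244927) (flp_g L244916) L355869
theorem L355875 : sm gi N28903 = N42103 := rfl
theorem L355880 : sm gd N42103 = N29327 := ded_39_1 (flp_i L248612) (flp_d L244918) L355875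
theorem L355882 : sm gg N42103 = N28906 := ded_51_1 (flp_i L244933) (flp_g L244916) L355875
theorem L355884 : sm gh N28904 = N42104 := rfl
theorem L355887 : sm gg N42104 = N28907 := ded_50_1 (flp_h L244942) (flp_g L244925) L355884
theorem L355889 : sm ga N28905 = N42105 := rfl
theorem L355891 : sm gd N42105 = N29329 := ded_12_2 (flp_a L248627) (flp_d L244929) L355889
theorem L355893 : sm gf N42105 = N30570 := ded_14_2 (flp_a L259263) (flp_f L244931) L355889
theorem L355895 : sm gb N42105 = N42105 := ded_10_2 (flp_a L355889) (flp_b L244927) L168816 L244927 L355889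
theorem L355896 : sm gi N28905 = N42106 := rfl
theorem L355898 : sm gb N42106 = N28906 := ded_26_1 (flp_i L244933) L244927 L355896
theorem L355900 : sm gd N42106 = N29330 := ded_39_1 (flp_i L248634) (flp_d L244929) L355896
theorem L355902 : sm gf N42106 = N30571 := ded_48_1 (flp_i L259269) (flp_f L244931) L355896
theorem L355904 : sm gh N28906 = N42107 := rfl
theorem L355907 : sm gc N42107 = N28907 := ded_32_1 (flp_h L244942) (flp_c L244936) L355904
theorem L355909 : sm gf N42107 = N30572 := ded_47_1 (flp_h L259276) (flp_f L244940) L355904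
theorem L355911 : sm gd N28908 = N42108 := rfl
theorem L355917 : sm gf N42108 = N30628 := ded_35_2 (flp_d L259771) (flp_f L244957) L355911
theorem L355920 : sm gi N42108 = N28963 := ded_39_2 (flp_d L245476) (flp_i L244955) L355911
theorem L355923 : sm gg N28908 = N42109 := rfl
theorem L355925 : sm ga N42109 = N29388 := ded_15_1 (flp_g L249152) (flp_a L244949) L355923
theorem L355930 : sm ge N42109 = N28909 := ded_41_1 (flp_g L244959) L244947 L355923
theorem L355932 : sm gi N42109 = N28964 := ded_51_2 (flp_g L245486) (flp_i L244955) L355923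
theorem L355946 : sm gj N28909 = N42111 := rfl
theorem L355948 : sm ga N42111 = N29390 := ded_16_1 (flp_j L249171) (flp_a L244961) L355946
theorem L355950 : sm gb N42111 = N28916 := ded_24_1 (flp_j L245031) (flp_b L244963) L355946
theorem L355954 : sm gi N42111 = N28966 := ded_53_2 (flp_j L245507) (flp_i L244967) L355946
theorem L355966 : sm gd N28910 = N42113 := rfl
theorem L355970 : sm gb N42113 = N28918 := ded_20_1 (flp_d L245049) (flp_b L244973) L355966
theorem L355972 : sm gf N42113 = N28911 := ded_35_2 (flp_d L244979) (flp_f L244976) L355966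
theorem L355976 : sm gi N28910 = N42114 := rfl
theorem L355978 : sm ga N42114 = N29393 := ded_18_1 (flp_i L249195) (flp_a L244971) L355976
theorem L355986 : sm gh N42114 = N28969 := ded_54_1 (flp_i L245535) (flp_h L169200) (flp_i L168846) L244969 L355976
theorem L356015 : sm gg N28913 = N42118 := rfl
theorem L356017 : sm ga N42118 = N28929 := ded_15_1 (flp_g L245157) (flp_a L245001) L356015
theorem L356023 : sm gi N42118 = N28973 := ded_51_2 (flp_g L245571) (flp_i L245006) L356015
theorem L356025 : sm gh N28913 = N42119 := rfl
theorem L356027 : sm ga N42119 = N28930 := ded_17_1 (flp_h L245167) (flp_a L245001) L356025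
theorem L356034 : sm gf N28914 = N42120 := rfl
theorem L356036 : sm ga N42120 = N28931 := ded_14_1 (flp_f L245176) (flp_a L245012) L356034
theorem L356038 : sm gc N42120 = N28922 := ded_29_1 (flp_f L245086) (flp_c L245014) L356034
theorem L356044 : sm gj N28914 = N42121 := rfl
theorem L356046 : sm ga N42121 = N28932 := ded_16_1 (flp_j L245186) (flp_a L245012) L356044
theorem L356052 : sm gi N42121 = N28976 := ded_53_2 (flp_j L245596) (flp_i L245018) L356044
theorem L356072 : sm gi N28915 = N42124 := rfl
theorem L356074 : sm ga N42124 = N28935 := ded_18_1 (flp_i L245214) (flp_a L245022) L356072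
theorem L356083 : sm gh N42124 = N28979 := ded_54_1 (flp_i L245622) (flp_h L169245) (flp_i L168865) L245020 L356072
theorem L356102 : sm gi N28917 = N42127 := rfl
theorem L356104 : sm ga N42127 = N28938 := ded_18_1 (flp_i L245244) (flp_a L245043) L356102
theorem L356110 : sm gh N42127 = N28982 := ded_54_1 (flp_i L245649) (flp_h L169264) (flp_i L168876) L245041 L356102
theorem L356119 : sm gi N28918 = N42129 := rfl
theorem L356126 : sm gf N42129 = N28921 := ded_48_1 (flp_i L245078) (flp_f L245053) L356119
theorem L356138 : sm gi N28920 = N42131 := rfl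
theorem L356145 : sm ge N42131 = N28921 := ded_44_1 (flp_i L245078) L245069 L356138
theorem L356148 : sm gh N28921 = N42132 := rfl
theorem L356150 : sm ga N42132 = N28943 := ded_17_1 (flp_h L245290) (flp_a L245080) L356148
theorem L356154 : sm gd N42132 = N28987 := ded_38_1 (flp_h L245689) L169301 (flp_h L168903) (flp_d L245083) L356148
theorem L356157 : sm gj N28922 = N42133 := rfl
theorem L356159 : sm ga N42133 = N28944 := ded_16_1 (flp_j L245299) (flp_a L245088) L356157
theorem L356167 : sm gh N28922 = N42134 := rfl
theorem L356169 : sm ga N42134 = N28945 := ded_17_1 (flp_h L245308) (flp_a L245088) L356167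
theorem L356186 : sm gd N28924 = N42136 := rfl
theorem L356188 : sm ga N42136 = N28947 := ded_12_1 (flp_d L245325) (flp_a L245109) L356186
theorem L356191 : sm gg N42136 = N28925 := ded_36_2 (flp_d L245116) (flp_g L245114) L356186
theorem L356195 : sm gi N28924 = N42137 := rfl
theorem L356204 : sm gh N42137 = N28992 := ded_54_1 (flp_i L245730) (flp_h L169321) (flp_i L168913) L245107 L356195
theorem L356206 : sm gc N28925 = N42138 := rfl
theorem L356208 : sm ga N42138 = N28949 := ded_11_1 (flp_c L245343) (flp_a L245118) L356206
theorem L356215 : sm gi N28925 = N42139 := rfl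
theorem L356217 : sm ga N42139 = N28950 := ded_18_1 (flp_i L245350) (flp_a L245118) L356215
theorem L356223 : sm gf N42139 = N30659 := ded_48_1 (flp_i L260055) (flp_f L245121) L356215
theorem L356226 : sm gi N28927 = N42140 := rfl
theorem L356228 : sm ga N42140 = N28951 := ded_18_1 (flp_i L245360) (flp_a L245140) L356226
theorem L356233 : sm gj N42140 = N28928 := ded_53_1 (flp_i L245147) (flp_j L245144) L356226
theorem L356235 : sm gh N42140 = N28995 := ded_54_1 (flp_i L245757) (flp_h L169349) (flp_i L168932) L245138 L356226
theorem L356237 : sm gf N28929 = N42141 := rfl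
theorem L356239 : sm gb N42141 = N29420 := ded_22_1 (flp_f L249442) (flp_b L245159) L356237
theorem L356241 : sm gc N42141 = N42141 := ded_29_1 (flp_f L356237) L245161 L356237
theorem L356242 : sm gd N42141 = N28931 := ded_35_1 (flp_f L245176) (flp_d L245162) L356237
theorem L356244 : sm gi N42141 = N28996 := ded_48_2 (flp_f L245765) (flp_i L245165) L356237
theorem L356246 : sm gg N42141 = N30661 := ded_45_2 (flp_f L260073) (flp_g L178989) (flp_f L168958) L245157 L356237
theorem L356248 : sm gj N28929 = N42142 := rfl
theorem L356250 : sm gb N42142 = N29421 := ded_24_1 (flp_j L249452) (flp_b L245159) L356248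
theorem L356252 : sm gc N42142 = N42142 := ded_31_1 (flp_j L356248) L245161 L356248
theorem L356253 : sm gd N42142 = N28932 := ded_37_1 (flp_j L245186) (flp_d L245162) L356248
theorem L356255 : sm ge N42142 = N42142 := ded_42_1 (flp_j L356248) L245164 L356248
theorem L356256 : sm gi N42142 = N28997 := ded_53_2 (flp_j L245774) (flp_i L245165) L356248
theorem L356258 : sm gg N42142 = N42142 := ded_49_1 (flp_j L356248) (flp_g L245157) L168960 L245157 L356248
theorem L356259 : sm gh N28929 = N42143 := rfl
theorem L356261 : sm gb N42143 = N29422 := ded_25_1 (flp_h L249462) (flp_b L245159) L356259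
theorem L356263 : sm gc N42143 = N42143 := ded_32_1 (flp_h L356259) L245161 L356259
theorem L356264 : sm ge N42143 = N42143 := ded_43_1 (flp_h L356259) L245164 L356259
theorem L356265 : sm gg N42143 = N28930 := ded_50_1 (flp_h L245167) L245157 L356259
theorem L356267 : sm gd N28930 = N42144 := rfl
theorem L356269 : sm gb N42144 = N29423 := ded_20_1 (flp_d L249469) (flp_b L245169) L356267
theorem L356271 : sm gf N42144 = N30664 := ded_35_2 (flp_d L260103) (flp_f L245173) L356267
theorem L356273 : sm gj N42144 = N42144 := ded_37_2 (flp_d L356267) L245175 L356267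
theorem L356274 : sm gh N42144 = N28934 := ded_38_2 (flp_d L245207) (flp_h L168975) L168954 L245167 L356267
theorem L356276 : sm gi N28930 = N42145 := rfl
theorem L356278 : sm gb N42145 = N29424 := ded_26_1 (flp_i L249476) (flp_b L245169) L356276
theorem L356280 : sm gc N42145 = N42145 := ded_33_1 (flp_i L356276) L245171 L356276
theorem L356281 : sm ge N42145 = N42145 := ded_44_1 (flp_i L356276) L245172 L356276
theorem L356282 : sm gf N42145 = N30665 := ded_48_1 (flp_i L260110) (flp_f L245173) L356276
theorem L356284 : sm gj N42145 = N42145 := ded_53_1 (flp_i L356276) L245175 L356276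
theorem L356285 : sm gh N42145 = N29000 := ded_54_1 (flp_i L245800) (flp_h L169372) (flp_i L168961) L245167 L356276
theorem L356287 : sm gj N28931 = N42146 := rfl
theorem L356289 : sm gb N42146 = N29425 := ded_24_1 (flp_j L249486) (flp_b L245178) L356287
theorem L356291 : sm gc N42146 = N28944 := ded_31_1 (flp_j L245299) (flp_c L245180) L356287
theorem L356293 : sm gf N42146 = N28932 := ded_46_1 (flp_j L245186) L245176 L356287
theorem L356295 : sm gi N42146 = N29001 := ded_53_2 (flp_j L245809) (flp_i L245182) L356287
theorem L356297 : sm gh N28931 = N42147 := rfl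
theorem L356299 : sm gb N42147 = N29426 := ded_25_1 (flp_h L249494) (flp_b L245178) L356297
theorem L356301 : sm gc N42147 = N28945 := ded_32_1 (flp_h L245308) (flp_c L245180) L356297
theorem L356303 : sm gf N42147 = N28933 := ded_47_1 (flp_h L245197) L245176 L356297
theorem L356305 : sm gg N42147 = N30667 := ded_50_1 (flp_h L260130) (flp_g L245184) L356297
theorem L356307 : sm gh N28932 = N42148 := rfl
theorem L356309 : sm gb N42148 = N29427 := ded_25_1 (flp_h L249502) (flp_b L245188) L356307
theorem L356311 : sm gc N42148 = N28946 := ded_32_1 (flp_h L245316) (flp_c L245190) L356307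
theorem L356313 : sm ge N42148 = N28936 := ded_43_1 (flp_h L245227) (flp_e L245192) L356307
theorem L356315 : sm gg N42148 = N42148 := ded_50_1 (flp_h L356307) L245196 L356307
theorem L356316 : sm gj N42148 = N28933 := ded_52_1 (flp_h L245197) L245186 L356307
theorem L356318 : sm gd N28933 = N42149 := rfl
theorem L356320 : sm gb N42149 = N29428 := ded_20_1 (flp_d L249511) (flp_b L245199) L356318
theorem L356322 : sm gg N42149 = N28934 := ded_36_2 (flp_d L245207) (flp_g L245205) L356318
theorem L356324 : sm gi N28933 = N42150 := rfl
theorem L356326 : sm gb N42150 = N29429 := ded_26_1 (flp_i L249515) (flp_b L245199) L356324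
theorem L356328 : sm gc N42150 = N28948 := ded_33_1 (flp_i L245333) (flp_c L245201) L356324
theorem L356330 : sm ge N42150 = N28938 := ded_44_1 (flp_i L245244) (flp_e L245203) L356324
theorem L356332 : sm gg N42150 = N28935 := ded_51_1 (flp_i L245214) (flp_g L245205) L356324
theorem L356334 : sm gh N42150 = N29005 := ded_54_1 (flp_i L245844) (flp_h L169398) (flp_i L168973) L245197 L356324
theorem L356336 : sm gc N28934 = N42151 := rfl
theorem L356338 : sm gf N42151 = N30671 := ded_29_2 (flp_c L260167) (flp_f L245211) L356336
theorem L356340 : sm gj N42151 = N42151 := ded_31_2 (flp_c L356336) L245213 L356336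
theorem L356341 : sm gd N42151 = N28949 := ded_27_2 (flp_c L245343) (flp_d L169068) (flp_c L168979) L245207 L356336
theorem L356343 : sm ge N28934 = N42152 := rfl
theorem L356345 : sm gb N42152 = N29431 := ded_21_1 (flp_e L249532) (flp_b L245209) L356343
theorem L356347 : sm gj N42152 = N42152 := ded_42_2 (flp_e L356343) L245213 L356343
theorem L356348 : sm gd N42152 = N28939 := ded_34_1 (flp_e L245254) (flp_d L169004) (flp_e L168981) L245207 L356343
theorem L356350 : sm gi N28934 = N42153 := rfl
theorem L356352 : sm gb N42153 = N29432 := ded_26_1 (flp_i L249537) (flp_b L245209) L356350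
theorem L356354 : sm gd N42153 = N28935 := ded_39_1 (flp_i L245214) L245207 L356350
theorem L356356 : sm gf N42153 = N30673 := ded_48_1 (flp_i L260179) (flp_f L245211) L356350
theorem L356358 : sm gj N42153 = N42153 := ded_53_1 (flp_i L356350) L245213 L356350
theorem L356359 : sm gd N28936 = N42154 := rfl
theorem L356361 : sm gb N42154 = N29433 := ded_20_1 (flp_d L249544) (flp_b L245229) L356359
theorem L356363 : sm gg N42154 = N42154 := ded_36_2 (flp_d L356359) L245233 L356359
theorem L356364 : sm gj N42154 = N28937 := ded_37_2 (flp_d L245236) (flp_j L245234) L356359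
theorem L356366 : sm gc N42154 = N42154 := ded_27_1 (flp_d L356359) L245231 L169095 (flp_c L245231) L356359
theorem L356367 : sm gh N42154 = N42154 := ded_38_2 (flp_d L356359) (flp_h L245227) L168992 L245227 L356359
theorem L356368 : sm gi N28936 = N42155 := rfl
theorem L356370 : sm gb N42155 = N29434 := ded_26_1 (flp_i L249550) (flp_b L245229) L356368
theorem L356372 : sm gc N42155 = N28951 := ded_33_1 (flp_i L245360) (flp_c L245231) L356368
theorem L356374 : sm gg N42155 = N42155 := ded_51_1 (flp_i L356368) L245233 L356368
theorem L356375 : sm gj N42155 = N28938 := ded_53_1 (flp_i L245244) (flp_j L245234) L356368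
theorem L356377 : sm gh N42155 = N29010 := ded_54_1 (flp_i L245885) (flp_h L169426) (flp_i L168993) L245227 L356368
theorem L356379 : sm ge N28937 = N42156 := rfl
theorem L356381 : sm gb N42156 = N29435 := ded_21_1 (flp_e L249559) (flp_b L245238) L356379
theorem L356383 : sm gc N42156 = N42156 := ded_28_1 (flp_e L356379) L245242 L356379
theorem L356384 : sm gg N42156 = N28939 := ded_41_2 (flp_e L245254) (flp_g L245240) L356379
theorem L356386 : sm gh N42156 = N42156 := ded_43_2 (flp_e L356379) L245243 L356379
theorem L356387 : sm gi N28937 = N42157 := rfl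
theorem L356389 : sm gb N42157 = N29436 := ded_26_1 (flp_i L249564) (flp_b L245238) L356387
theorem L356391 : sm gc N42157 = N42157 := ded_33_1 (flp_i L356387) L245242 L356387
theorem L356392 : sm gd N42157 = N28938 := ded_39_1 (flp_i L245244) L245236 L356387
theorem L356394 : sm gg N42157 = N28940 := ded_51_1 (flp_i L245261) (flp_g L245240) L356387
theorem L356396 : sm gf N28939 = N42158 := rfl
theorem L356398 : sm gb N42158 = N29437 := ded_22_1 (flp_f L249570) (flp_b L245256) L356396
theorem L356405 : sm gi N28939 = N42159 := rfl
theorem L356407 : sm gb N42159 = N29438 := ded_26_1 (flp_i L249576) (flp_b L245256) L356405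
theorem L356409 : sm gc N42159 = N42159 := ded_33_1 (flp_i L356405) L245258 L356405
theorem L356410 : sm ge N42159 = N28940 := ded_44_1 (flp_i L245261) L245254 L356405
theorem L356412 : sm gj N42159 = N42159 := ded_53_1 (flp_i L356405) L245259 L356405
theorem L356413 : sm gh N28940 = N42160 := rfl
theorem L356415 : sm gb N42160 = N29439 := ded_25_1 (flp_h L249581) (flp_b L245263) L356413
theorem L356417 : sm gc N42160 = N42160 := ded_32_1 (flp_h L356413) L245265 L356413
theorem L356418 : sm gf N42160 = N28943 := ded_47_1 (flp_h L245290) (flp_f L245268) L356413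
theorem L356420 : sm gj N42160 = N42160 := ded_52_1 (flp_h L356413) L245270 L356413
theorem L356421 : sm gd N42160 = N29015 := ded_38_1 (flp_h L245924) L169460 (flp_h L169022) (flp_d L245266) L356413
theorem L356423 : sm gi N42160 = N42160 := ded_54_2 (flp_h L356413) (flp_i L245261) L169012 L245261 L356413
theorem L356424 : sm gg N28941 = N42161 := rfl
theorem L356426 : sm gb N42161 = N29440 := ded_23_1 (flp_g L249589) (flp_b L245273) L356424
theorem L356429 : sm gd N42161 = N30681 := ded_36_1 (flp_g L260249) (flp_d L245276) L356424
theorem L356432 : sm gi N28941 = N42162 := rfl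
theorem L356434 : sm gb N42162 = N29441 := ded_26_1 (flp_i L249594) (flp_b L245273) L356432
theorem L356437 : sm gd N42162 = N30682 := ded_39_1 (flp_i L260255) (flp_d L245276) L356432
theorem L356442 : sm gh N28942 = N42163 := rfl
theorem L356444 : sm gb N42163 = N29442 := ded_25_1 (flp_h L249601) (flp_b L245282) L356442
theorem L356447 : sm ge N42163 = N28943 := ded_43_1 (flp_h L245290) (flp_e L245287) L356442
theorem L356451 : sm gg N28944 = N42164 := rfl
theorem L356453 : sm gb N42164 = N28952 := ded_23_1 (flp_g L245370) (flp_b L245301) L356451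
theorem L356455 : sm gd N42164 = N42164 := ded_36_1 (flp_g L356451) L245303 L356451
theorem L356456 : sm gi N42164 = N29019 := ded_51_2 (flp_g L245956) (flp_i L245306) L356451
theorem L356458 : sm gf N42164 = N42164 := ded_45_1 (flp_g L356451) L245304 L169059 (flp_f L245304) L356451
theorem L356459 : sm gj N42164 = N30684 := ded_49_2 (flp_g L260271) (flp_j L179119) (flp_g L169048) L245299 L356451
theorem L356461 : sm gh N28944 = N42165 := rfl
theorem L356463 : sm gb N42165 = N28953 := ded_25_1 (flp_h L245381) (flp_b L245301) L356461
theorem L356465 : sm gf N42165 = N28946 := ded_47_1 (flp_h L245316) (flp_f L245304) L356461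
theorem L356467 : sm gj N42165 = N28945 := ded_52_1 (flp_h L245308) L245299 L356461
theorem L356469 : sm gd N28945 = N42166 := rfl
theorem L356471 : sm gb N42166 = N28954 := ded_20_1 (flp_d L245390) (flp_b L245310) L356469
theorem L356473 : sm gf N42166 = N28947 := ded_35_2 (flp_d L245325) (flp_f L245312) L356469
theorem L356475 : sm gg N42166 = N30686 := ded_36_2 (flp_d L260287) (flp_g L245314) L356469
theorem L356477 : sm gh N42166 = N42166 := ded_38_2 (flp_d L356469) (flp_h L245308) L169045 L245308 L356469
theorem L356478 : sm gi N28945 = N42167 := rfl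
theorem L356480 : sm gb N42167 = N28955 := ded_26_1 (flp_i L245398) (flp_b L245310) L356478
theorem L356482 : sm gf N42167 = N28948 := ded_48_1 (flp_i L245333) (flp_f L245312) L356478
theorem L356484 : sm gg N42167 = N30687 := ded_51_1 (flp_i L260294) (flp_g L245314) L356478
theorem L356486 : sm gh N42167 = N29022 := ded_54_1 (flp_i L245981) (flp_h L169495) (flp_i L169046) L245308 L356478
theorem L356488 : sm gd N28946 = N42168 := rfl
theorem L356490 : sm gb N42168 = N28956 := ded_20_1 (flp_d L245409) (flp_b L245318) L356488
theorem L356492 : sm gg N42168 = N42168 := ded_36_2 (flp_d L356488) L245322 L356488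
theorem L356493 : sm gj N42168 = N28947 := ded_37_2 (flp_d L245325) (flp_j L245323) L356488
theorem L356495 : sm ge N42168 = N42168 := ded_34_2 (flp_d L356488) L245320 L169095 (flp_e L245320) L356488
theorem L356496 : sm gh N42168 = N42168 := ded_38_2 (flp_d L356488) (flp_h L245316) L169054 L245316 L356488
theorem L356497 : sm gi N28946 = N42169 := rfl
theorem L356499 : sm gb N42169 = N28957 := ded_26_1 (flp_i L245417) (flp_b L245318) L356497
theorem L356501 : sm ge N42169 = N28951 := ded_44_1 (flp_i L245360) (flp_e L245320) L356497
theorem L356503 : sm gg N42169 = N42169 := ded_51_1 (flp_i L356497) L245322 L356497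
theorem L356504 : sm gj N42169 = N28948 := ded_53_1 (flp_i L245333) (flp_j L245323) L356497
theorem L356506 : sm gh N42169 = N29024 := ded_54_1 (flp_i L245997) (flp_h L169503) (flp_i L169057) L245316 L356497
theorem L356508 : sm gc N28947 = N42170 := rfl
theorem L356510 : sm ge N42170 = N42170 := ded_28_2 (flp_c L356508) L245331 L356508
theorem L356511 : sm gg N42170 = N28949 := ded_30_2 (flp_c L245343) (flp_g L245329) L356508
theorem L356513 : sm gh N42170 = N42170 := ded_32_2 (flp_c L356508) L245332 L356508
theorem L356514 : sm gi N28947 = N42171 := rfl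
theorem L356516 : sm gb N42171 = N28959 := ded_26_1 (flp_i L245438) (flp_b L245327) L356514
theorem L356518 : sm gd N42171 = N28948 := ded_39_1 (flp_i L245333) L245325 L356514
theorem L356520 : sm ge N42171 = N42171 := ded_44_1 (flp_i L356514) L245331 L356514
theorem L356521 : sm gg N42171 = N28950 := ded_51_1 (flp_i L245350) (flp_g L245329) L356514
theorem L356523 : sm gb N28949 = N42172 := rfl
theorem L356525 : sm ge N42172 = N42172 := ded_21_2 (flp_b L356523) L245345 L356523
theorem L356526 : sm gf N42172 = N30692 := ded_22_2 (flp_b L260334) (flp_f L245346) L356523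
theorem L356528 : sm gj N42172 = N42172 := ded_24_2 (flp_b L356523) L245348 L356523
theorem L356529 : sm gh N42172 = N42172 := ded_25_2 (flp_b L356523) L245349 L356523
theorem L356530 : sm gc N42172 = N28960 := ded_19_2 (flp_b L245446) (flp_c L169152) (flp_b L169070) L245343 L356523
theorem L356532 : sm gi N28949 = N42173 := rfl
theorem L356534 : sm gc N42173 = N28950 := ded_33_1 (flp_i L245350) L245343 L356532
theorem L356536 : sm ge N42173 = N42173 := ded_44_1 (flp_i L356532) L245345 L356532
theorem L356537 : sm gf N42173 = N30693 := ded_48_1 (flp_i L260340) (flp_f L245346) L356532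
theorem L356539 : sm gj N42173 = N42173 := ded_53_1 (flp_i L356532) L245348 L356532
theorem L356540 : sm gh N28950 = N42174 := rfl
theorem L356542 : sm gb N42174 = N28962 := ded_25_1 (flp_h L245466) (flp_b L245352) L356540
theorem L356544 : sm ge N42174 = N42174 := ded_43_1 (flp_h L356540) L245356 L356540
theorem L356545 : sm gf N42174 = N30694 := ded_47_1 (flp_h L260345) (flp_f L245357) L356540
theorem L356547 : sm gj N42174 = N42174 := ded_52_1 (flp_h L356540) L245359 L356540
theorem L356548 : sm gd N42174 = N29029 := ded_38_1 (flp_h L246034) L169537 (flp_h L169086) (flp_d L245354) L356540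
theorem L356550 : sm gi N42174 = N42174 := ded_54_2 (flp_h L356540) (flp_i L245350) L169076 L245350 L356540
theorem L356551 : sm gh N28952 = N42175 := rfl
theorem L356553 : sm ga N42175 = N42175 := ded_17_1 (flp_h L356551) L245372 L356551
theorem L356554 : sm gc N42175 = N29454 := ded_32_1 (flp_h L249707) (flp_c L245373) L356551
theorem L356556 : sm gf N42175 = N42175 := ded_47_1 (flp_h L356551) L245378 L356551
theorem L356557 : sm gg N42175 = N28953 := ded_50_1 (flp_h L245381) L245370 L356551
theorem L356559 : sm gj N42175 = N30695 := ded_52_1 (flp_h L260353) (flp_j L245379) L356551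
theorem L356561 : sm gd N28953 = N42176 := rfl
theorem L356563 : sm ga N42176 = N42176 := ded_12_1 (flp_d L356561) L245383 L356561
theorem L356564 : sm gf N42176 = N28956 := ded_35_2 (flp_d L245409) (flp_f L245386) L356561
theorem L356566 : sm gj N42176 = N28954 := ded_37_2 (flp_d L245390) (flp_j L245388) L356561
theorem L356568 : sm gh N42176 = N42176 := ded_38_2 (flp_d L356561) (flp_h L245381) L169110 L245381 L356561
theorem L356569 : sm gi N28953 = N42177 := rfl
theorem L356571 : sm ga N42177 = N42177 := ded_18_1 (flp_i L356569) L245383 L356569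
theorem L356572 : sm gc N42177 = N29456 := ded_33_1 (flp_i L249724) (flp_c L245384) L356569
theorem L356574 : sm gf N42177 = N28957 := ded_48_1 (flp_i L245417) (flp_f L245386) L356569
theorem L356576 : sm gj N42177 = N28955 := ded_53_1 (flp_i L245398) (flp_j L245388) L356569
theorem L356578 : sm gh N42177 = N29032 := ded_54_1 (flp_i L246060) (flp_h L169558) (flp_i L169113) L245381 L356569
theorem L356580 : sm gc N28954 = N42178 := rfl
theorem L356582 : sm ga N42178 = N42178 := ded_11_1 (flp_c L356580) L245392 L356580
theorem L356583 : sm gf N42178 = N28958 := ded_29_2 (flp_c L245429) (flp_f L245393) L356580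
theorem L356585 : sm gg N42178 = N30698 := ded_30_2 (flp_c L260380) (flp_g L245395) L356580
theorem L356587 : sm gh N42178 = N42178 := ded_32_2 (flp_c L356580) L245397 L356580
theorem L356588 : sm gd N42178 = N29457 := ded_27_2 (flp_c L249733) (flp_d L172025) (flp_c L169118) L245390 L356580
theorem L356590 : sm ge N28954 = N42179 := rfl
theorem L356592 : sm ga N42179 = N42179 := ded_13_1 (flp_e L356590) L245392 L356590
theorem L356593 : sm gg N42179 = N30699 := ded_41_2 (flp_e L260388) (flp_g L245395) L356590
theorem L356595 : sm gh N42179 = N42179 := ded_43_2 (flp_e L356590) L245397 L356590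
theorem L356596 : sm gf N42179 = N42179 := ded_40_2 (flp_e L356590) L245393 L169139 (flp_f L245393) L356590
theorem L356597 : sm gi N28954 = N42180 := rfl
theorem L356599 : sm ga N42180 = N42180 := ded_18_1 (flp_i L356597) L245392 L356597
theorem L356600 : sm gd N42180 = N28955 := ded_39_1 (flp_i L245398) L245390 L356597
theorem L356602 : sm gf N42180 = N28959 := ded_48_1 (flp_i L245438) (flp_f L245393) L356597
theorem L356604 : sm gg N42180 = N30700 := ded_51_1 (flp_i L260392) (flp_g L245395) L356597
theorem L356606 : sm gc N28956 = N42181 := rfl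
theorem L356608 : sm ga N42181 = N42181 := ded_11_1 (flp_c L356606) L245411 L356606
theorem L356609 : sm ge N42181 = N42181 := ded_28_2 (flp_c L356606) L245415 L356606
theorem L356610 : sm gg N42181 = N42181 := ded_30_2 (flp_c L356606) L245412 L356606
theorem L356611 : sm gj N42181 = N28958 := ded_31_2 (flp_c L245429) (flp_j L245413) L356606
theorem L356613 : sm gh N42181 = N42181 := ded_32_2 (flp_c L356606) L245416 L356606
theorem L356614 : sm gd N42181 = N29460 := ded_27_2 (flp_c L249758) (flp_d L172043) (flp_c L169127) L245409 L356606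
theorem L356616 : sm gi N28956 = N42182 := rfl
theorem L356618 : sm ga N42182 = N42182 := ded_18_1 (flp_i L356616) L245411 L356616
theorem L356619 : sm gd N42182 = N28957 := ded_39_1 (flp_i L245417) L245409 L356616
theorem L356621 : sm ge N42182 = N42182 := ded_44_1 (flp_i L356616) L245415 L356616
theorem L356622 : sm gg N42182 = N42182 := ded_51_1 (flp_i L356616) L245412 L356616
theorem L356623 : sm gj N42182 = N28959 := ded_53_1 (flp_i L245438) (flp_j L245413) L356616
theorem L356625 : sm gb N28958 = N42183 := rfl
theorem L356627 : sm gd N42183 = N29462 := ded_20_2 (flp_b L249774) (flp_d L245436) L356625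
theorem L356629 : sm ge N42183 = N42183 := ded_21_2 (flp_b L356625) L245432 L356625
theorem L356630 : sm gg N42183 = N28960 := ded_23_2 (flp_b L245446) (flp_g L245433) L356625
theorem L356632 : sm gh N42183 = N42183 := ded_25_2 (flp_b L356625) L245435 L356625
theorem L356633 : sm gi N28958 = N42184 := rfl
theorem L356635 : sm ga N42184 = N42184 := ded_18_1 (flp_i L356633) L245431 L356633
theorem L356636 : sm gc N42184 = N28959 := ded_33_1 (flp_i L245438) L245429 L356633
theorem L356638 : sm gd N42184 = N29463 := ded_39_1 (flp_i L249780) (flp_d L245436) L356633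
theorem L356640 : sm ge N42184 = N42184 := ded_44_1 (flp_i L356633) L245432 L356633
theorem L356641 : sm gg N42184 = N28961 := ded_51_1 (flp_i L245455) (flp_g L245433) L356633
theorem L356643 : sm gh N28959 = N42185 := rfl
theorem L356645 : sm ga N42185 = N42185 := ded_17_1 (flp_h L356643) L245440 L356643
theorem L356646 : sm ge N42185 = N42185 := ded_43_1 (flp_h L356643) L245443 L356643
theorem L356647 : sm gg N42185 = N28962 := ded_50_1 (flp_h L245466) (flp_g L245444) L356643
theorem L356649 : sm gd N42185 = N29040 := ded_38_1 (flp_h L246127) L169612 (flp_h L169150) (flp_d L245441) L356643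
theorem L356651 : sm gi N42185 = N42185 := ded_54_2 (flp_h L356643) (flp_i L245438) L169140 L245438 L356643
theorem L356652 : sm ga N28960 = N42186 := rfl
theorem L356654 : sm gd N42186 = N29465 := ded_12_2 (flp_a L249796) (flp_d L245448) L356652
theorem L356656 : sm ge N42186 = N42186 := ded_13_2 (flp_a L356652) L245450 L356652
theorem L356657 : sm gf N42186 = N30706 := ded_14_2 (flp_a L260440) (flp_f L245451) L356652
theorem L356659 : sm gj N42186 = N42186 := ded_16_2 (flp_a L356652) L245453 L356652
theorem L356660 : sm gh N42186 = N42186 := ded_17_2 (flp_a L356652) L245454 L356652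
theorem L356661 : sm gb N42186 = N42186 := ded_10_2 (flp_a L356652) (flp_b L245446) L169154 L245446 L356652
theorem L356662 : sm gi N28960 = N42187 := rfl
theorem L356664 : sm gb N42187 = N28961 := ded_26_1 (flp_i L245455) L245446 L356662
theorem L356666 : sm gd N42187 = N29466 := ded_39_1 (flp_i L249804) (flp_d L245448) L356662
theorem L356668 : sm ge N42187 = N42187 := ded_44_1 (flp_i L356662) L245450 L356662
theorem L356669 : sm gf N42187 = N30707 := ded_48_1 (flp_i L260447) (flp_f L245451) L356662
theorem L356671 : sm gj N42187 = N42187 := ded_53_1 (flp_i L356662) L245453 L356662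
theorem L356672 : sm gh N28961 = N42188 := rfl
theorem L356674 : sm ga N42188 = N42188 := ded_17_1 (flp_h L356672) L245457 L356672
theorem L356675 : sm gc N42188 = N28962 := ded_32_1 (flp_h L245466) (flp_c L245458) L356672
theorem L356677 : sm ge N42188 = N42188 := ded_43_1 (flp_h L356672) L245462 L356672
theorem L356678 : sm gf N42188 = N30708 := ded_47_1 (flp_h L260454) (flp_f L245463) L356672
theorem L356680 : sm gj N42188 = N42188 := ded_52_1 (flp_h L356672) L245465 L356672
theorem L356681 : sm gi N42188 = N42188 := ded_54_2 (flp_h L356672) (flp_i L245455) L169159 L245455 L356672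
theorem L356682 : sm gc N28963 = N42189 := rfl
theorem L356684 : sm ga N42189 = N29468 := ded_11_1 (flp_c L249821) (flp_a L245478) L356682
theorem L356687 : sm gf N42189 = N30709 := ded_29_2 (flp_c L260461) (flp_f L245482) L356682
theorem L356692 : sm gg N28963 = N42190 := rfl
theorem L356694 : sm ga N42190 = N29469 := ded_15_1 (flp_g L249830) (flp_a L245478) L356692
theorem L356696 : sm gb N42190 = N28973 := ded_23_1 (flp_g L245571) (flp_b L245480) L356692
theorem L356698 : sm gd N42190 = N28964 := ded_36_1 (flp_g L245486) L245476 L356692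
theorem L356700 : sm ge N42190 = N42190 := ded_41_1 (flp_g L356692) L245485 L356692
theorem L356701 : sm gh N28963 = N42191 := rfl
theorem L356703 : sm ga N42191 = N29470 := ded_17_1 (flp_h L249837) (flp_a L245478) L356701
theorem L356705 : sm gb N42191 = N28974 := ded_25_1 (flp_h L245579) (flp_b L245480) L356701
theorem L356707 : sm ge N42191 = N42191 := ded_43_1 (flp_h L356701) L245485 L356701
theorem L356708 : sm gf N42191 = N30711 := ded_47_1 (flp_h L260480) (flp_f L245482) L356701
theorem L356710 : sm gj N42191 = N42191 := ded_52_1 (flp_h L356701) L245484 L356701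
theorem L356711 : sm gf N28964 = N42192 := rfl
theorem L356713 : sm ga N42192 = N29471 := ded_14_1 (flp_f L249845) (flp_a L245488) L356711
theorem L356715 : sm gb N42192 = N28975 := ded_22_1 (flp_f L245588) (flp_b L245490) L356711
theorem L356717 : sm gc N42192 = N42192 := ded_29_1 (flp_f L356711) L245492 L356711
theorem L356718 : sm gg N42192 = N30712 := ded_45_2 (flp_f L260489) (flp_g L179277) (flp_f L169190) L245486 L356711
theorem L356720 : sm gj N28964 = N42193 := rfl
theorem L356722 : sm ga N42193 = N29472 := ded_16_1 (flp_j L249852) (flp_a L245488) L356720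
theorem L356724 : sm gb N42193 = N28976 := ded_24_1 (flp_j L245596) (flp_b L245490) L356720
theorem L356726 : sm gc N42193 = N42193 := ded_31_1 (flp_j L356720) L245492 L356720
theorem L356727 : sm ge N42193 = N28966 := ded_42_1 (flp_j L245507) (flp_e L245493) L356720
theorem L356729 : sm gg N42193 = N42193 := ded_49_1 (flp_j L356720) (flp_g L245486) L169189 L245486 L356720
theorem L356730 : sm gh N28964 = N42194 := rfl
theorem L356732 : sm ga N42194 = N29473 := ded_17_1 (flp_h L249860) (flp_a L245488) L356730
theorem L356734 : sm gb N42194 = N28977 := ded_25_1 (flp_h L245605) (flp_b L245490) L356730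
theorem L356736 : sm gc N42194 = N42194 := ded_32_1 (flp_h L356730) L245492 L356730
theorem L356737 : sm ge N42194 = N28967 := ded_43_1 (flp_h L245516) (flp_e L245493) L356730
theorem L356739 : sm gg N42194 = N28965 := ded_50_1 (flp_h L245495) L245486 L356730
theorem L356741 : sm gd N28965 = N42195 := rfl
theorem L356743 : sm ga N42195 = N29474 := ded_12_1 (flp_d L249869) (flp_a L245497) L356741
theorem L356745 : sm gb N42195 = N28978 := ded_20_1 (flp_d L245615) (flp_b L245499) L356741
theorem L356747 : sm gf N42195 = N30715 := ded_35_2 (flp_d L260517) (flp_f L245504) L356741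
theorem L356749 : sm gj N42195 = N42195 := ded_37_2 (flp_d L356741) L245506 L356741
theorem L356750 : sm gi N28965 = N42196 := rfl
theorem L356752 : sm ga N42196 = N29475 := ded_18_1 (flp_i L249876) (flp_a L245497) L356750
theorem L356754 : sm gb N42196 = N28979 := ded_26_1 (flp_i L245622) (flp_b L245499) L356750
theorem L356756 : sm gc N42196 = N42196 := ded_33_1 (flp_i L356750) L245501 L356750
theorem L356757 : sm ge N42196 = N28969 := ded_44_1 (flp_i L245535) (flp_e L245502) L356750
theorem L356759 : sm gf N42196 = N30716 := ded_48_1 (flp_i L260524) (flp_f L245504) L356750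
theorem L356761 : sm gj N42196 = N42196 := ded_53_1 (flp_i L356750) L245506 L356750
theorem L356762 : sm gh N28966 = N42197 := rfl
theorem L356764 : sm ga N42197 = N29476 := ded_17_1 (flp_h L249886) (flp_a L245509) L356762
theorem L356766 : sm gb N42197 = N28980 := ded_25_1 (flp_h L245633) (flp_b L245511) L356762
theorem L356768 : sm gc N42197 = N42197 := ded_32_1 (flp_h L356762) L245513 L356762
theorem L356769 : sm gg N42197 = N42197 := ded_50_1 (flp_h L356762) L245515 L356762
theorem L356770 : sm gj N42197 = N28967 := ded_52_1 (flp_h L245516) L245507 L356762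
theorem L356772 : sm gd N28967 = N42198 := rfl
theorem L356776 : sm gb N42198 = N28981 := ded_20_1 (flp_d L245642) (flp_b L245520) L356772
theorem L356778 : sm gg N42198 = N28968 := ded_36_2 (flp_d L245525) (flp_g L245523) L356772
theorem L356780 : sm gh N42198 = N42198 := ded_38_2 (flp_d L356772) (flp_h L245516) L169199 L245516 L356772
theorem L356781 : sm gi N28967 = N42199 := rfl
theorem L356783 : sm ga N42199 = N29478 := ded_18_1 (flp_i L249901) (flp_a L245518) L356781
theorem L356785 : sm gb N42199 = N28982 := ded_26_1 (flp_i L245649) (flp_b L245520) L356781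
theorem L356787 : sm gc N42199 = N42199 := ded_33_1 (flp_i L356781) L245522 L356781
theorem L356788 : sm gg N42199 = N28969 := ded_51_1 (flp_i L245535) (flp_g L245523) L356781
theorem L356790 : sm gc N28968 = N42200 := rfl
theorem L356792 : sm ga N42200 = N29479 := ded_11_1 (flp_c L249908) (flp_a L245527) L356790
theorem L356794 : sm gf N42200 = N28970 := ded_29_2 (flp_c L245545) (flp_f L245531) L356790
theorem L356796 : sm gj N42200 = N42200 := ded_31_2 (flp_c L356790) L245533 L356790
theorem L356797 : sm gh N42200 = N42200 := ded_32_2 (flp_c L356790) L245534 L356790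
theorem L356798 : sm gd N42200 = N42200 := ded_27_2 (flp_c L356790) (flp_d L245525) L169206 L245525 L356790
theorem L356799 : sm ge N28968 = N42201 := rfl
theorem L356801 : sm ga N42201 = N29480 := ded_13_1 (flp_e L249916) (flp_a L245527) L356799
theorem L356803 : sm gb N42201 = N28983 := ded_21_1 (flp_e L245657) (flp_b L245529) L356799
theorem L356805 : sm gj N42201 = N42201 := ded_42_2 (flp_e L356799) L245533 L356799
theorem L356806 : sm gh N42201 = N42201 := ded_43_2 (flp_e L356799) L245534 L356799
theorem L356807 : sm gi N28968 = N42202 := rfl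
theorem L356811 : sm gb N42202 = N28984 := ded_26_1 (flp_i L245663) (flp_b L245529) L356807
theorem L356813 : sm gd N42202 = N28969 := ded_39_1 (flp_i L245535) L245525 L356807
theorem L356815 : sm gf N42202 = N28972 := ded_48_1 (flp_i L245562) (flp_f L245531) L356807
theorem L356817 : sm gj N42202 = N42202 := ded_53_1 (flp_i L356807) L245533 L356807
theorem L356826 : sm gi N28970 = N42204 := rfl
theorem L356830 : sm gc N42204 = N28972 := ded_33_1 (flp_i L245562) L245545 L356826
theorem L356832 : sm gd N42204 = N42204 := ded_39_1 (flp_i L356826) L245551 L356826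
theorem L356833 : sm gj N42204 = N42204 := ded_53_1 (flp_i L356826) L245549 L356826
theorem L356844 : sm gi N28971 = N42206 := rfl
theorem L356848 : sm gb N42206 = N28986 := ded_26_1 (flp_i L245680) (flp_b L245556) L356844
theorem L356852 : sm ge N42206 = N28972 := ded_44_1 (flp_i L245562) L245552 L356844
theorem L356855 : sm gh N28972 = N42207 := rfl
theorem L356857 : sm ga N42207 = N29486 := ded_17_1 (flp_h L249962) (flp_a L245564) L356855
theorem L356859 : sm gb N42207 = N28987 := ded_25_1 (flp_h L245689) (flp_b L245566) L356855
theorem L356861 : sm gj N42207 = N42207 := ded_52_1 (flp_h L356855) L245570 L356855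
theorem L356862 : sm gi N42207 = N42207 := ded_54_2 (flp_h L356855) (flp_i L245562) L169217 L245562 L356855
theorem L356863 : sm gf N28973 = N42208 := rfl
theorem L356865 : sm ga N42208 = N28996 := ded_14_1 (flp_f L245765) (flp_a L245573) L356863
theorem L356867 : sm gc N42208 = N42208 := ded_29_1 (flp_f L356863) L245575 L356863
theorem L356868 : sm gd N42208 = N28975 := ded_35_1 (flp_f L245588) (flp_d L245576) L356863
theorem L356870 : sm gg N42208 = N30728 := ded_45_2 (flp_f L260640) (flp_g L179363) (flp_f L169232) L245571 L356863
theorem L356872 : sm gj N28973 = N42209 := rfl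
theorem L356874 : sm ga N42209 = N28997 := ded_16_1 (flp_j L245774) (flp_a L245573) L356872
theorem L356876 : sm gc N42209 = N42209 := ded_31_1 (flp_j L356872) L245575 L356872
theorem L356877 : sm gd N42209 = N28976 := ded_37_1 (flp_j L245596) (flp_d L245576) L356872
theorem L356879 : sm ge N42209 = N42209 := ded_42_1 (flp_j L356872) L245578 L356872
theorem L356880 : sm gg N42209 = N42209 := ded_49_1 (flp_j L356872) (flp_g L245571) L169234 L245571 L356872
theorem L356881 : sm gh N28973 = N42210 := rfl
theorem L356883 : sm ga N42210 = N28998 := ded_17_1 (flp_h L245783) (flp_a L245573) L356881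
theorem L356885 : sm gc N42210 = N42210 := ded_32_1 (flp_h L356881) L245575 L356881
theorem L356886 : sm ge N42210 = N42210 := ded_43_1 (flp_h L356881) L245578 L356881
theorem L356887 : sm gg N42210 = N28974 := ded_50_1 (flp_h L245579) L245571 L356881
theorem L356889 : sm gd N28974 = N42211 := rfl
theorem L356891 : sm ga N42211 = N28999 := ded_12_1 (flp_d L245791) (flp_a L245581) L356889
theorem L356893 : sm gf N42211 = N30731 := ded_35_2 (flp_d L260666) (flp_f L245585) L356889
theorem L356895 : sm gj N42211 = N42211 := ded_37_2 (flp_d L356889) L245587 L356889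
theorem L356896 : sm gh N42211 = N28978 := ded_38_2 (flp_d L245615) (flp_h L169245) L169228 L245579 L356889
theorem L356898 : sm gi N28974 = N42212 := rfl
theorem L356900 : sm ga N42212 = N29000 := ded_18_1 (flp_i L245800) (flp_a L245581) L356898
theorem L356902 : sm gc N42212 = N42212 := ded_33_1 (flp_i L356898) L245583 L356898
theorem L356903 : sm ge N42212 = N42212 := ded_44_1 (flp_i L356898) L245584 L356898
theorem L356904 : sm gf N42212 = N30732 := ded_48_1 (flp_i L260673) (flp_f L245585) L356898
theorem L356906 : sm gj N42212 = N42212 := ded_53_1 (flp_i L356898) L245587 L356898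
theorem L356907 : sm gj N28975 = N42213 := rfl
theorem L356909 : sm ga N42213 = N29001 := ded_16_1 (flp_j L245809) (flp_a L245590) L356907
theorem L356911 : sm gc N42213 = N28988 := ded_31_1 (flp_j L245695) (flp_c L245592) L356907
theorem L356913 : sm gf N42213 = N28976 := ded_46_1 (flp_j L245596) L245588 L356907
theorem L356915 : sm gh N28975 = N42214 := rfl
theorem L356917 : sm ga N42214 = N29002 := ded_17_1 (flp_h L245817) (flp_a L245590) L356915
theorem L356919 : sm gc N42214 = N28989 := ded_32_1 (flp_h L245703) (flp_c L245592) L356915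
theorem L356921 : sm gf N42214 = N28977 := ded_47_1 (flp_h L245605) L245588 L356915
theorem L356923 : sm gg N42214 = N30734 := ded_50_1 (flp_h L260689) (flp_g L245594) L356915
theorem L356925 : sm gh N28976 = N42215 := rfl
theorem L356927 : sm ga N42215 = N29003 := ded_17_1 (flp_h L245827) (flp_a L245598) L356925
theorem L356929 : sm gc N42215 = N28990 := ded_32_1 (flp_h L245712) (flp_c L245600) L356925
theorem L356931 : sm ge N42215 = N28980 := ded_43_1 (flp_h L245633) (flp_e L245602) L356925
theorem L356933 : sm gg N42215 = N42215 := ded_50_1 (flp_h L356925) L245604 L356925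
theorem L356934 : sm gj N42215 = N28977 := ded_52_1 (flp_h L245605) L245596 L356925
theorem L356936 : sm gd N28977 = N42216 := rfl
theorem L356938 : sm ga N42216 = N29004 := ded_12_1 (flp_d L245838) (flp_a L245607) L356936
theorem L356940 : sm gg N42216 = N28978 := ded_36_2 (flp_d L245615) (flp_g L245613) L356936
theorem L356942 : sm gi N28977 = N42217 := rfl
theorem L356944 : sm ga N42217 = N29005 := ded_18_1 (flp_i L245844) (flp_a L245607) L356942
theorem L356946 : sm gc N42217 = N28992 := ded_33_1 (flp_i L245730) (flp_c L245609) L356942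
theorem L356948 : sm ge N42217 = N28982 := ded_44_1 (flp_i L245649) (flp_e L245611) L356942
theorem L356950 : sm gg N42217 = N28979 := ded_51_1 (flp_i L245622) (flp_g L245613) L356942
theorem L356952 : sm gc N28978 = N42218 := rfl
theorem L356954 : sm ga N42218 = N29006 := ded_11_1 (flp_c L245854) (flp_a L245617) L356952
theorem L356956 : sm gf N42218 = N30738 := ded_29_2 (flp_c L260724) (flp_f L245619) L356952
theorem L356958 : sm gj N42218 = N42218 := ded_31_2 (flp_c L356952) L245621 L356952
theorem L356959 : sm gd N42218 = N28993 := ded_27_2 (flp_c L245739) (flp_d L169330) (flp_c L169249) L245615 L356952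
theorem L356961 : sm ge N28978 = N42219 := rfl
theorem L356963 : sm ga N42219 = N29007 := ded_13_1 (flp_e L245861) (flp_a L245617) L356961
theorem L356965 : sm gj N42219 = N42219 := ded_42_2 (flp_e L356961) L245621 L356961
theorem L356966 : sm gd N42219 = N28983 := ded_34_1 (flp_e L245657) (flp_d L169272) (flp_e L169251) L245615 L356961
theorem L356968 : sm gi N28978 = N42220 := rfl
theorem L356970 : sm ga N42220 = N29008 := ded_18_1 (flp_i L245868) (flp_a L245617) L356968
theorem L356972 : sm gd N42220 = N28979 := ded_39_1 (flp_i L245622) L245615 L356968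
theorem L356974 : sm gf N42220 = N30740 := ded_48_1 (flp_i L260738) (flp_f L245619) L356968
theorem L356976 : sm gj N42220 = N42220 := ded_53_1 (flp_i L356968) L245621 L356968
theorem L356977 : sm gd N28980 = N42221 := rfl
theorem L356982 : sm gj N42221 = N28981 := ded_37_2 (flp_d L245642) (flp_j L245640) L356977
theorem L356985 : sm gi N28980 = N42222 := rfl
theorem L356987 : sm ga N42222 = N29010 := ded_18_1 (flp_i L245885) (flp_a L245635) L356985
theorem L356989 : sm gc N42222 = N28995 := ded_33_1 (flp_i L245757) (flp_c L245637) L356985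
theorem L356991 : sm gg N42222 = N42222 := ded_51_1 (flp_i L356985) L245639 L356985
theorem L356992 : sm gj N42222 = N28982 := ded_53_1 (flp_i L245649) (flp_j L245640) L356985
theorem L356994 : sm ge N28981 = N42223 := rfl
theorem L356996 : sm ga N42223 = N29011 := ded_13_1 (flp_e L245894) (flp_a L245644) L356994
theorem L356998 : sm gg N42223 = N28983 := ded_41_2 (flp_e L245657) (flp_g L245646) L356994
theorem L357000 : sm gh N42223 = N42223 := ded_43_2 (flp_e L356994) L245648 L356994
theorem L357001 : sm gi N28981 = N42224 := rfl
theorem L357003 : sm ga N42224 = N29012 := ded_18_1 (flp_i L245901) (flp_a L245644) L357001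
theorem L357005 : sm gd N42224 = N28982 := ded_39_1 (flp_i L245649) L245642 L357001
theorem L357007 : sm gg N42224 = N28984 := ded_51_1 (flp_i L245663) (flp_g L245646) L357001
theorem L357009 : sm gf N28983 = N42225 := rfl
theorem L357011 : sm ga N42225 = N29013 := ded_14_1 (flp_f L245909) (flp_a L245659) L357009
theorem L357013 : sm gj N42225 = N42225 := ded_46_2 (flp_f L357009) L245661 L357009
theorem L357014 : sm gh N42225 = N42225 := ded_47_2 (flp_f L357009) L245662 L357009
theorem L357015 : sm ge N42225 = N28985 := ded_40_1 (flp_f L245672) (flp_e L169289) (flp_f L169276) L245657 L357009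
theorem L357017 : sm gi N28983 = N42226 := rfl
theorem L357019 : sm ga N42226 = N29014 := ded_18_1 (flp_i L245917) (flp_a L245659) L357017
theorem L357021 : sm ge N42226 = N28984 := ded_44_1 (flp_i L245663) L245657 L357017
theorem L357023 : sm gj N42226 = N42226 := ded_53_1 (flp_i L357017) L245661 L357017
theorem L357024 : sm gh N28984 = N42227 := rfl
theorem L357026 : sm ga N42227 = N29015 := ded_17_1 (flp_h L245924) (flp_a L245665) L357024
theorem L357028 : sm gf N42227 = N28987 := ded_47_1 (flp_h L245689) (flp_f L245669) L357024
theorem L357030 : sm gj N42227 = N42227 := ded_52_1 (flp_h L357024) L245671 L357024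
theorem L357031 : sm gi N42227 = N42227 := ded_54_2 (flp_h L357024) (flp_i L245663) L169279 L245663 L357024
theorem L357032 : sm gg N28985 = N42228 := rfl
theorem L357034 : sm ga N42228 = N29016 := ded_15_1 (flp_g L245932) (flp_a L245674) L357032
theorem L357036 : sm gd N42228 = N30748 := ded_36_1 (flp_g L260810) (flp_d L245676) L357032
theorem L357038 : sm gh N42228 = N42228 := ded_50_2 (flp_g L357032) L245679 L357032
theorem L357039 : sm gi N28985 = N42229 := rfl
theorem L357041 : sm ga N42229 = N29017 := ded_18_1 (flp_i L245939) (flp_a L245674) L357039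
theorem L357043 : sm gd N42229 = N30749 := ded_39_1 (flp_i L260817) (flp_d L245676) L357039
theorem L357045 : sm gf N42229 = N28986 := ded_48_1 (flp_i L245680) L245672 L357039
theorem L357047 : sm gj N42229 = N42229 := ded_53_1 (flp_i L357039) L245678 L357039
theorem L357048 : sm gh N28986 = N42230 := rfl
theorem L357050 : sm ga N42230 = N29018 := ded_17_1 (flp_h L245948) (flp_a L245682) L357048
theorem L357052 : sm ge N42230 = N28987 := ded_43_1 (flp_h L245689) (flp_e L245686) L357048
theorem L357054 : sm gj N42230 = N42230 := ded_52_1 (flp_h L357048) L245688 L357048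
theorem L357055 : sm gi N42230 = N42230 := ded_54_2 (flp_h L357048) (flp_i L245680) L169294 L245680 L357048
theorem L357056 : sm gg N28988 = N42231 := rfl
theorem L357058 : sm ga N42231 = N29019 := ded_15_1 (flp_g L245956) (flp_a L245697) L357056
theorem L357060 : sm gb N42231 = N42231 := ded_23_1 (flp_g L357056) L245699 L357056
theorem L357061 : sm gd N42231 = N42231 := ded_36_1 (flp_g L357056) L245700 L357056
theorem L357062 : sm gf N42231 = N42231 := ded_45_1 (flp_g L357056) L245701 L169320 (flp_f L245701) L357056
theorem L357063 : sm gj N42231 = N30751 := ded_49_2 (flp_g L260835) (flp_j L179487) (flp_g L169310) L245695 L357056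
theorem L357065 : sm gh N28988 = N42232 := rfl
theorem L357067 : sm ga N42232 = N29020 := ded_17_1 (flp_h L245964) (flp_a L245697) L357065
theorem L357069 : sm gb N42232 = N42232 := ded_25_1 (flp_h L357065) L245699 L357065
theorem L357070 : sm gf N42232 = N28990 := ded_47_1 (flp_h L245712) (flp_f L245701) L357065
theorem L357072 : sm gj N42232 = N28989 := ded_52_1 (flp_h L245703) L245695 L357065
theorem L357074 : sm gd N28989 = N42233 := rfl
theorem L357076 : sm ga N42233 = N29021 := ded_12_1 (flp_d L245972) (flp_a L245705) L357074
theorem L357078 : sm gb N42233 = N42233 := ded_20_1 (flp_d L357074) L245707 L357074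
theorem L357079 : sm gf N42233 = N28991 := ded_35_2 (flp_d L245722) (flp_f L245708) L357074
theorem L357081 : sm gg N42233 = N30753 := ded_36_2 (flp_d L260851) (flp_g L245710) L357074
theorem L357083 : sm gh N42233 = N42233 := ded_38_2 (flp_d L357074) (flp_h L245703) L169309 L245703 L357074
theorem L357084 : sm gi N28989 = N42234 := rfl
theorem L357086 : sm ga N42234 = N29022 := ded_18_1 (flp_i L245981) (flp_a L245705) L357084
theorem L357088 : sm gb N42234 = N42234 := ded_26_1 (flp_i L357084) L245707 L357084
theorem L357089 : sm gf N42234 = N28992 := ded_48_1 (flp_i L245730) (flp_f L245708) L357084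
theorem L357091 : sm gg N42234 = N30754 := ded_51_1 (flp_i L260859) (flp_g L245710) L357084
theorem L357093 : sm gd N28990 = N42235 := rfl
theorem L357095 : sm ga N42235 = N29023 := ded_12_1 (flp_d L245989) (flp_a L245714) L357093
theorem L357102 : sm gi N28990 = N42236 := rfl
theorem L357104 : sm ga N42236 = N29024 := ded_18_1 (flp_i L245997) (flp_a L245714) L357102
theorem L357106 : sm gb N42236 = N42236 := ded_26_1 (flp_i L357102) L245716 L357102
theorem L357107 : sm ge N42236 = N28995 := ded_44_1 (flp_i L245757) (flp_e L245717) L357102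
theorem L357109 : sm gg N42236 = N42236 := ded_51_1 (flp_i L357102) L245719 L357102
theorem L357110 : sm gj N42236 = N28992 := ded_53_1 (flp_i L245730) (flp_j L245720) L357102
theorem L357112 : sm gc N28991 = N42237 := rfl
theorem L357114 : sm ga N42237 = N29025 := ded_11_1 (flp_c L246006) (flp_a L245724) L357112
theorem L357116 : sm gg N42237 = N28993 := ded_30_2 (flp_c L245739) (flp_g L245727) L357112
theorem L357118 : sm gh N42237 = N42237 := ded_32_2 (flp_c L357112) L245729 L357112
theorem L357119 : sm gi N28991 = N42238 := rfl
theorem L357121 : sm ga N42238 = N29026 := ded_18_1 (flp_i L246011) (flp_a L245724) L357119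
theorem L357123 : sm gb N42238 = N42238 := ded_26_1 (flp_i L357119) L245726 L357119
theorem L357124 : sm gd N42238 = N28992 := ded_39_1 (flp_i L245730) L245722 L357119
theorem L357126 : sm gg N42238 = N28994 := ded_51_1 (flp_i L245747) (flp_g L245727) L357119
theorem L357128 : sm gb N28993 = N42239 := rfl
theorem L357130 : sm gf N42239 = N30759 := ded_22_2 (flp_b L260904) (flp_f L245743) L357128
theorem L357135 : sm gi N28993 = N42240 := rfl
theorem L357137 : sm ga N42240 = N29028 := ded_18_1 (flp_i L246027) (flp_a L245741) L357135
theorem L357139 : sm gc N42240 = N28994 := ded_33_1 (flp_i L245747) L245739 L357135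
theorem L357141 : sm gf N42240 = N30760 := ded_48_1 (flp_i L260910) (flp_f L245743) L357135
theorem L357143 : sm gj N42240 = N42240 := ded_53_1 (flp_i L357135) L245745 L357135
theorem L357144 : sm gh N28994 = N42241 := rfl
theorem L357146 : sm ga N42241 = N29029 := ded_17_1 (flp_h L246034) (flp_a L245749) L357144
theorem L357148 : sm gb N42241 = N42241 := ded_25_1 (flp_h L357144) L245751 L357144
theorem L357149 : sm gf N42241 = N30761 := ded_47_1 (flp_h L260918) (flp_f L245754) L357144
theorem L357151 : sm gj N42241 = N42241 := ded_52_1 (flp_h L357144) L245756 L357144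
theorem L357152 : sm gi N42241 = N42241 := ded_54_2 (flp_h L357144) (flp_i L245747) L169338 L245747 L357144
theorem L357153 : sm ge N28996 = N42242 := rfl
theorem L357155 : sm gb N42242 = N29521 := ded_21_1 (flp_e L250283) (flp_b L245767) L357153
theorem L357157 : sm gc N42242 = N42242 := ded_28_1 (flp_e L357153) L245769 L357153
theorem L357158 : sm gg N42242 = N30762 := ded_41_2 (flp_e L260926) (flp_g L245772) L357153
theorem L357160 : sm gf N42242 = N42242 := ded_40_2 (flp_e L357153) (flp_f L245765) L169371 L245765 L357153
theorem L357161 : sm gj N28996 = N42243 := rfl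
theorem L357163 : sm gb N42243 = N29522 := ded_24_1 (flp_j L250290) (flp_b L245767) L357161
theorem L357165 : sm gc N42243 = N42243 := ded_31_1 (flp_j L357161) L245769 L357161
theorem L357166 : sm gd N42243 = N29001 := ded_37_1 (flp_j L245809) (flp_d L245770) L357161
theorem L357168 : sm gf N42243 = N28997 := ded_46_1 (flp_j L245774) L245765 L357161
theorem L357170 : sm gh N28996 = N42244 := rfl
theorem L357172 : sm gb N42244 = N29523 := ded_25_1 (flp_h L250298) (flp_b L245767) L357170
theorem L357174 : sm gc N42244 = N42244 := ded_32_1 (flp_h L357170) L245769 L357170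
theorem L357175 : sm gf N42244 = N28998 := ded_47_1 (flp_h L245783) L245765 L357170
theorem L357177 : sm gg N42244 = N30764 := ded_50_1 (flp_h L260942) (flp_g L245772) L357170
theorem L357179 : sm gh N28997 = N42245 := rfl
theorem L357181 : sm gb N42245 = N29524 := ded_25_1 (flp_h L250306) (flp_b L245776) L357179
theorem L357183 : sm gc N42245 = N42245 := ded_32_1 (flp_h L357179) L245778 L357179
theorem L357184 : sm ge N42245 = N42245 := ded_43_1 (flp_h L357179) L245781 L357179
theorem L357185 : sm gg N42245 = N42245 := ded_50_1 (flp_h L357179) L245782 L357179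
theorem L357186 : sm gj N42245 = N28998 := ded_52_1 (flp_h L245783) L245774 L357179
theorem L357188 : sm gd N28998 = N42246 := rfl
theorem L357190 : sm gb N42246 = N29525 := ded_20_1 (flp_d L250314) (flp_b L245785) L357188
theorem L357192 : sm gg N42246 = N28999 := ded_36_2 (flp_d L245791) (flp_g L245789) L357188
theorem L357194 : sm gh N42246 = N29004 := ded_38_2 (flp_d L245838) (flp_h L169398) (flp_d L169369) L245783 L357188
theorem L357196 : sm gi N28998 = N42247 := rfl
theorem L357198 : sm gb N42247 = N29526 := ded_26_1 (flp_i L250320) (flp_b L245785) L357196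
theorem L357200 : sm gc N42247 = N42247 := ded_33_1 (flp_i L357196) L245787 L357196
theorem L357201 : sm ge N42247 = N42247 := ded_44_1 (flp_i L357196) L245788 L357196
theorem L357202 : sm gg N42247 = N29000 := ded_51_1 (flp_i L245800) (flp_g L245789) L357196
theorem L357204 : sm gc N28999 = N42248 := rfl
theorem L357206 : sm gf N42248 = N30768 := ded_29_2 (flp_c L260976) (flp_f L245795) L357204
theorem L357208 : sm gj N42248 = N42248 := ded_31_2 (flp_c L357204) L245797 L357204
theorem L357209 : sm gh N42248 = N29006 := ded_32_2 (flp_c L245854) (flp_h L245798) L357204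
theorem L357211 : sm gd N42248 = N42248 := ded_27_2 (flp_c L357204) (flp_d L245791) L169376 L245791 L357204
theorem L357212 : sm ge N28999 = N42249 := rfl
theorem L357214 : sm gb N42249 = N29528 := ded_21_1 (flp_e L250336) (flp_b L245793) L357212
theorem L357216 : sm gj N42249 = N42249 := ded_42_2 (flp_e L357212) L245797 L357212
theorem L357217 : sm gh N42249 = N29007 := ded_43_2 (flp_e L245861) (flp_h L245798) L357212
theorem L357219 : sm gd N42249 = N42249 := ded_34_1 (flp_e L357212) (flp_d L245791) L169377 L245791 L357212
theorem L357220 : sm gi N28999 = N42250 := rfl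
theorem L357222 : sm gb N42250 = N29529 := ded_26_1 (flp_i L250342) (flp_b L245793) L357220
theorem L357224 : sm gd N42250 = N29000 := ded_39_1 (flp_i L245800) L245791 L357220
theorem L357226 : sm gf N42250 = N30770 := ded_48_1 (flp_i L260991) (flp_f L245795) L357220
theorem L357228 : sm gj N42250 = N42250 := ded_53_1 (flp_i L357220) L245797 L357220
theorem L357229 : sm gg N29001 = N42251 := rfl
theorem L357231 : sm gb N42251 = N29530 := ded_23_1 (flp_g L250349) (flp_b L245811) L357229
theorem L357233 : sm gc N42251 = N29019 := ded_30_1 (flp_g L245956) (flp_c L245813) L357229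
theorem L357235 : sm gf N42251 = N42251 := ded_45_1 (flp_g L357229) L245815 L169397 (flp_f L245815) L357229
theorem L357236 : sm gj N42251 = N30771 := ded_49_2 (flp_g L260998) (flp_j L179596) (flp_g L169387) L245809 L357229
theorem L357238 : sm gh N29001 = N42252 := rfl
theorem L357240 : sm gb N42252 = N29531 := ded_25_1 (flp_h L250356) (flp_b L245811) L357238
theorem L357242 : sm gc N42252 = N29020 := ded_32_1 (flp_h L245964) (flp_c L245813) L357238
theorem L357244 : sm gf N42252 = N29003 := ded_47_1 (flp_h L245827) (flp_f L245815) L357238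
theorem L357246 : sm gj N42252 = N29002 := ded_52_1 (flp_h L245817) L245809 L357238
theorem L357248 : sm gd N29002 = N42253 := rfl
theorem L357250 : sm gb N42253 = N29532 := ded_20_1 (flp_d L250364) (flp_b L245819) L357248
theorem L357252 : sm gf N42253 = N29004 := ded_35_2 (flp_d L245838) (flp_f L245823) L357248
theorem L357254 : sm gg N42253 = N30773 := ded_36_2 (flp_d L261015) (flp_g L245825) L357248
theorem L357256 : sm gi N29002 = N42254 := rfl
theorem L357258 : sm gb N42254 = N29533 := ded_26_1 (flp_i L250370) (flp_b L245819) L357256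
theorem L357260 : sm gc N42254 = N29022 := ded_33_1 (flp_i L245981) (flp_c L245821) L357256
theorem L357262 : sm gf N42254 = N29005 := ded_48_1 (flp_i L245844) (flp_f L245823) L357256
theorem L357264 : sm gg N42254 = N30774 := ded_51_1 (flp_i L261021) (flp_g L245825) L357256
theorem L357266 : sm gd N29003 = N42255 := rfl
theorem L357268 : sm gb N42255 = N29534 := ded_20_1 (flp_d L250378) (flp_b L245829) L357266
theorem L357270 : sm gg N42255 = N42255 := ded_36_2 (flp_d L357266) L245835 L357266
theorem L357271 : sm gj N42255 = N29004 := ded_37_2 (flp_d L245838) (flp_j L245836) L357266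
theorem L357273 : sm gi N29003 = N42256 := rfl
theorem L357275 : sm gb N42256 = N29535 := ded_26_1 (flp_i L250383) (flp_b L245829) L357273
theorem L357277 : sm gc N42256 = N29024 := ded_33_1 (flp_i L245997) (flp_c L245831) L357273
theorem L357279 : sm ge N42256 = N29010 := ded_44_1 (flp_i L245885) (flp_e L245833) L357273
theorem L357281 : sm gg N42256 = N42256 := ded_51_1 (flp_i L357273) L245835 L357273
theorem L357282 : sm gj N42256 = N29005 := ded_53_1 (flp_i L245844) (flp_j L245836) L357273
theorem L357284 : sm gc N29004 = N42257 := rfl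
theorem L357286 : sm gg N42257 = N29006 := ded_30_2 (flp_c L245854) (flp_g L245842) L357284
theorem L357288 : sm gd N42257 = N29025 := ded_27_2 (flp_c L246006) (flp_d L169512) (flp_c L169402) L245838 L357284
theorem L357290 : sm ge N29004 = N42258 := rfl
theorem L357292 : sm gb N42258 = N29537 := ded_21_1 (flp_e L250398) (flp_b L245840) L357290
theorem L357294 : sm gg N42258 = N29007 := ded_41_2 (flp_e L245861) (flp_g L245842) L357290
theorem L357296 : sm gd N42258 = N29011 := ded_34_1 (flp_e L245894) (flp_d L169435) (flp_e L169404) L245838 L357290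
theorem L357298 : sm gi N29004 = N42259 := rfl
theorem L357300 : sm gb N42259 = N29538 := ded_26_1 (flp_i L250404) (flp_b L245840) L357298
theorem L357302 : sm gd N42259 = N29005 := ded_39_1 (flp_i L245844) L245838 L357298
theorem L357304 : sm gg N42259 = N29008 := ded_51_1 (flp_i L245868) (flp_g L245842) L357298
theorem L357306 : sm gb N29006 = N42260 := rfl
theorem L357308 : sm gd N42260 = N29027 := ded_20_2 (flp_b L246019) (flp_d L245859) L357306
theorem L357310 : sm gf N42260 = N30780 := ded_22_2 (flp_b L261069) (flp_f L245856) L357306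
theorem L357312 : sm gj N42260 = N42260 := ded_24_2 (flp_b L357306) L245858 L357306
theorem L357313 : sm gc N42260 = N29539 := ded_19_2 (flp_b L250410) (flp_c L172458) (flp_b L169410) L245854 L357306
theorem L357315 : sm ge N29006 = N42261 := rfl
theorem L357317 : sm gc N42261 = N29007 := ded_28_1 (flp_e L245861) L245854 L357315
theorem L357319 : sm gj N42261 = N42261 := ded_42_2 (flp_e L357315) L245858 L357315
theorem L357320 : sm gi N29006 = N42262 := rfl
theorem L357322 : sm gc N42262 = N29008 := ded_33_1 (flp_i L245868) L245854 L357320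
theorem L357324 : sm gd N42262 = N29028 := ded_39_1 (flp_i L246027) (flp_d L245859) L357320
theorem L357326 : sm gf N42262 = N30782 := ded_48_1 (flp_i L261082) (flp_f L245856) L357320
theorem L357328 : sm gj N42262 = N42262 := ded_53_1 (flp_i L357320) L245858 L357320
theorem L357329 : sm gf N29007 = N42263 := rfl
theorem L357331 : sm gb N42263 = N29542 := ded_22_1 (flp_f L250432) (flp_b L245863) L357329
theorem L357333 : sm gd N42263 = N29013 := ded_35_1 (flp_f L245909) (flp_d L245866) L357329
theorem L357335 : sm gj N42263 = N42263 := ded_46_2 (flp_f L357329) L245865 L357329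
theorem L357336 : sm ge N42263 = N30783 := ded_40_1 (flp_f L261089) (flp_e L179644) (flp_f L169412) L245861 L357329
theorem L357338 : sm gi N29007 = N42264 := rfl
theorem L357340 : sm gb N42264 = N29543 := ded_26_1 (flp_i L250439) (flp_b L245863) L357338
theorem L357342 : sm gd N42264 = N29014 := ded_39_1 (flp_i L245917) (flp_d L245866) L357338
theorem L357344 : sm ge N42264 = N29008 := ded_44_1 (flp_i L245868) L245861 L357338
theorem L357346 : sm gj N42264 = N42264 := ded_53_1 (flp_i L357338) L245865 L357338
theorem L357347 : sm gh N29008 = N42265 := rfl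
theorem L357349 : sm gb N42265 = N29544 := ded_25_1 (flp_h L250446) (flp_b L245870) L357347
theorem L357351 : sm gf N42265 = N30785 := ded_47_1 (flp_h L261105) (flp_f L245874) L357347
theorem L357353 : sm gj N42265 = N42265 := ded_52_1 (flp_h L357347) L245876 L357347
theorem L357354 : sm ge N29009 = N42266 := rfl
theorem L357356 : sm gb N42266 = N29545 := ded_21_1 (flp_e L250451) (flp_b L245879) L357354
theorem L357358 : sm gg N42266 = N42266 := ded_41_2 (flp_e L357354) L245881 L357354
theorem L357359 : sm gj N42266 = N29011 := ded_42_2 (flp_e L245894) (flp_j L245882) L357354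
theorem L357361 : sm gh N42266 = N42266 := ded_43_2 (flp_e L357354) L245884 L357354
theorem L357362 : sm gi N29009 = N42267 := rfl
theorem L357364 : sm gb N42267 = N29546 := ded_26_1 (flp_i L250458) (flp_b L245879) L357362
theorem L357366 : sm gd N42267 = N29010 := ded_39_1 (flp_i L245885) L245877 L357362
theorem L357368 : sm gg N42267 = N42267 := ded_51_1 (flp_i L357362) L245881 L357362
theorem L357369 : sm gj N42267 = N29012 := ded_53_1 (flp_i L245901) (flp_j L245882) L357362
theorem L357371 : sm gf N29011 = N42268 := rfl
theorem L357373 : sm gb N42268 = N29547 := ded_22_1 (flp_f L250466) (flp_b L245896) L357371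
theorem L357375 : sm gh N42268 = N42268 := ded_47_2 (flp_f L357371) L245900 L357371
theorem L357376 : sm gi N29011 = N42269 := rfl
theorem L357378 : sm gb N42269 = N29548 := ded_26_1 (flp_i L250470) (flp_b L245896) L357376
theorem L357380 : sm ge N42269 = N29012 := ded_44_1 (flp_i L245901) L245894 L357376
theorem L357382 : sm gg N42269 = N29014 := ded_51_1 (flp_i L245917) (flp_g L245898) L357376
theorem L357384 : sm gh N29012 = N42270 := rfl
theorem L357386 : sm gb N42270 = N29549 := ded_25_1 (flp_h L250477) (flp_b L245903) L357384
theorem L357388 : sm gg N42270 = N29015 := ded_50_1 (flp_h L245924) (flp_g L245907) L357384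
theorem L357390 : sm gi N42270 = N42270 := ded_54_2 (flp_h L357384) (flp_i L245901) L169441 L245901 L357384
theorem L357391 : sm gg N29013 = N42271 := rfl
theorem L357393 : sm gb N42271 = N29550 := ded_23_1 (flp_g L250483) (flp_b L245911) L357391
theorem L357395 : sm ge N42271 = N29016 := ded_41_1 (flp_g L245932) (flp_e L245915) L357391
theorem L357397 : sm gh N42271 = N42271 := ded_50_2 (flp_g L357391) L245914 L357391
theorem L357398 : sm gi N29013 = N42272 := rfl
theorem L357400 : sm gb N42272 = N29551 := ded_26_1 (flp_i L250489) (flp_b L245911) L357398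
theorem L357402 : sm ge N42272 = N29017 := ded_44_1 (flp_i L245939) (flp_e L245915) L357398
theorem L357404 : sm gf N42272 = N29014 := ded_48_1 (flp_i L245917) L245909 L357398
theorem L357406 : sm gj N42272 = N42272 := ded_53_1 (flp_i L357398) L245913 L357398
theorem L357407 : sm gh N29014 = N42273 := rfl
theorem L357409 : sm gb N42273 = N29552 := ded_25_1 (flp_h L250497) (flp_b L245919) L357407
theorem L357411 : sm ge N42273 = N29015 := ded_43_1 (flp_h L245924) (flp_e L245921) L357407
theorem L357413 : sm gj N42273 = N42273 := ded_52_1 (flp_h L357407) L245923 L357407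
theorem L357414 : sm gi N42273 = N42273 := ded_54_2 (flp_h L357407) (flp_i L245917) L169455 L245917 L357407
theorem L357415 : sm gj N29016 = N42274 := rfl
theorem L357417 : sm gb N42274 = N29553 := ded_24_1 (flp_j L250504) (flp_b L245934) L357415
theorem L357419 : sm gd N42274 = N30794 := ded_37_1 (flp_j L261184) (flp_d L245936) L357415
theorem L357421 : sm gh N42274 = N42274 := ded_52_2 (flp_j L357415) L245938 L357415
theorem L357422 : sm gg N42274 = N42274 := ded_49_1 (flp_j L357415) (flp_g L245932) L169471 L245932 L357415
theorem L357423 : sm gi N29016 = N42275 := rfl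
theorem L357425 : sm gb N42275 = N29554 := ded_26_1 (flp_i L250511) (flp_b L245934) L357423
theorem L357427 : sm gd N42275 = N30795 := ded_39_1 (flp_i L261192) (flp_d L245936) L357423
theorem L357429 : sm gg N42275 = N29017 := ded_51_1 (flp_i L245939) L245932 L357423
theorem L357431 : sm gh N29017 = N42276 := rfl
theorem L357433 : sm gb N42276 = N29555 := ded_25_1 (flp_h L250518) (flp_b L245941) L357431
theorem L357435 : sm gf N42276 = N29018 := ded_47_1 (flp_h L245948) (flp_f L245945) L357431
theorem L357437 : sm gj N42276 = N42276 := ded_52_1 (flp_h L357431) L245947 L357431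
theorem L357438 : sm gi N42276 = N42276 := ded_54_2 (flp_h L357431) (flp_i L245939) L169472 L245939 L357431
theorem L357439 : sm gd N29018 = N42277 := rfl
theorem L357441 : sm gb N42277 = N29556 := ded_20_1 (flp_d L250525) (flp_b L245950) L357439
theorem L357447 : sm gh N29019 = N42278 := rfl
theorem L357449 : sm gb N42278 = N29030 := ded_25_1 (flp_h L246042) (flp_b L245958) L357447
theorem L357451 : sm gf N42278 = N42278 := ded_47_1 (flp_h L357447) L245961 L357447
theorem L357452 : sm gg N42278 = N29020 := ded_50_1 (flp_h L245964) L245956 L357447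
theorem L357454 : sm gj N42278 = N30798 := ded_52_1 (flp_h L261216) (flp_j L245962) L357447
theorem L357456 : sm gd N29020 = N42279 := rfl
theorem L357458 : sm gb N42279 = N29031 := ded_20_1 (flp_d L246052) (flp_b L245966) L357456
theorem L357460 : sm gf N42279 = N29023 := ded_35_2 (flp_d L245989) (flp_f L245968) L357456
theorem L357462 : sm gj N42279 = N29021 := ded_37_2 (flp_d L245972) (flp_j L245970) L357456
theorem L357464 : sm gh N42279 = N42279 := ded_38_2 (flp_d L357456) (flp_h L245964) L169492 L245964 L357456
theorem L357465 : sm gi N29020 = N42280 := rfl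
theorem L357467 : sm gb N42280 = N29032 := ded_26_1 (flp_i L246060) (flp_b L245966) L357465
theorem L357469 : sm gf N42280 = N29024 := ded_48_1 (flp_i L245997) (flp_f L245968) L357465
theorem L357471 : sm gj N42280 = N29022 := ded_53_1 (flp_i L245981) (flp_j L245970) L357465
theorem L357473 : sm gc N29021 = N42281 := rfl
theorem L357475 : sm gf N42281 = N29025 := ded_29_2 (flp_c L246006) (flp_f L245976) L357473
theorem L357477 : sm gg N42281 = N30801 := ded_30_2 (flp_c L261240) (flp_g L245978) L357473
theorem L357479 : sm gh N42281 = N42281 := ded_32_2 (flp_c L357473) L245980 L357473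
theorem L357480 : sm ge N29021 = N42282 := rfl
theorem L357482 : sm gb N42282 = N29034 := ded_21_1 (flp_e L246079) (flp_b L245974) L357480
theorem L357484 : sm gg N42282 = N30802 := ded_41_2 (flp_e L261245) (flp_g L245978) L357480
theorem L357486 : sm gh N42282 = N42282 := ded_43_2 (flp_e L357480) L245980 L357480
theorem L357487 : sm gi N29021 = N42283 := rfl
theorem L357489 : sm gb N42283 = N29035 := ded_26_1 (flp_i L246085) (flp_b L245974) L357487
theorem L357491 : sm gd N42283 = N29022 := ded_39_1 (flp_i L245981) L245972 L357487
theorem L357493 : sm gf N42283 = N29026 := ded_48_1 (flp_i L246011) (flp_f L245976) L357487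
theorem L357495 : sm gg N42283 = N30803 := ded_51_1 (flp_i L261251) (flp_g L245978) L357487
theorem L357497 : sm gc N29023 = N42284 := rfl
theorem L357499 : sm gg N42284 = N42284 := ded_30_2 (flp_c L357497) L245993 L357497
theorem L357500 : sm gj N42284 = N29025 := ded_31_2 (flp_c L246006) (flp_j L245994) L357497
theorem L357502 : sm gh N42284 = N42284 := ded_32_2 (flp_c L357497) L245996 L357497
theorem L357503 : sm gi N29023 = N42285 := rfl
theorem L357505 : sm gb N42285 = N29037 := ded_26_1 (flp_i L246103) (flp_b L245991) L357503
theorem L357507 : sm gd N42285 = N29024 := ded_39_1 (flp_i L245997) L245989 L357503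
theorem L357509 : sm gg N42285 = N42285 := ded_51_1 (flp_i L357503) L245993 L357503
theorem L357510 : sm gj N42285 = N29026 := ded_53_1 (flp_i L246011) (flp_j L245994) L357503
theorem L357512 : sm gb N29025 = N42286 := rfl
theorem L357514 : sm gg N42286 = N29027 := ded_23_2 (flp_b L246019) (flp_g L246008) L357512
theorem L357516 : sm gh N42286 = N42286 := ded_25_2 (flp_b L357512) L246010 L357512
theorem L357517 : sm gc N42286 = N29038 := ded_19_2 (flp_b L246111) (flp_c L169601) (flp_b L169514) L246006 L357512
theorem L357519 : sm gi N29025 = N42287 := rfl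
theorem L357521 : sm gc N42287 = N29026 := ded_33_1 (flp_i L246011) L246006 L357519
theorem L357523 : sm gg N42287 = N29028 := ded_51_1 (flp_i L246027) (flp_g L246008) L357519
theorem L357525 : sm gh N29026 = N42288 := rfl
theorem L357527 : sm gb N42288 = N29040 := ded_25_1 (flp_h L246127) (flp_b L246013) L357525
theorem L357529 : sm gg N42288 = N29029 := ded_50_1 (flp_h L246034) (flp_g L246017) L357525
theorem L357531 : sm gi N42288 = N42288 := ded_54_2 (flp_h L357525) (flp_i L246011) L169518 L246011 L357525
theorem L357532 : sm ga N29027 = N42289 := rfl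
theorem L357534 : sm gc N42289 = N29041 := ded_11_2 (flp_a L246133) (flp_c L246025) L357532
theorem L357536 : sm gf N42289 = N30809 := ded_14_2 (flp_a L261299) (flp_f L246021) L357532
theorem L357538 : sm gj N42289 = N42289 := ded_16_2 (flp_a L357532) L246023 L357532
theorem L357539 : sm gh N42289 = N42289 := ded_17_2 (flp_a L357532) L246024 L357532
theorem L357540 : sm gi N29027 = N42290 := rfl
theorem L357542 : sm gb N42290 = N29028 := ded_26_1 (flp_i L246027) L246019 L357540
theorem L357544 : sm gc N42290 = N29042 := ded_33_1 (flp_i L246142) (flp_c L246025) L357540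
theorem L357546 : sm gf N42290 = N30810 := ded_48_1 (flp_i L261306) (flp_f L246021) L357540
theorem L357548 : sm gj N42290 = N42290 := ded_53_1 (flp_i L357540) L246023 L357540
theorem L357549 : sm gh N29028 = N42291 := rfl
theorem L357551 : sm gc N42291 = N29029 := ded_32_1 (flp_h L246034) (flp_c L246029) L357549
theorem L357553 : sm gf N42291 = N30811 := ded_47_1 (flp_h L261314) (flp_f L246031) L357549
theorem L357555 : sm gj N42291 = N42291 := ded_52_1 (flp_h L357549) L246033 L357549
theorem L357556 : sm gi N42291 = N42291 := ded_54_2 (flp_h L357549) (flp_i L246027) L169532 L246027 L357549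
theorem L357557 : sm gd N29030 = N42292 := rfl
theorem L357561 : sm gg N42292 = N29031 := ded_36_2 (flp_d L246052) (flp_g L246048) L357557
theorem L357563 : sm gj N42292 = N30812 := ded_37_2 (flp_d L261321) (flp_j L246050) L357557
theorem L357566 : sm gi N29030 = N42293 := rfl
theorem L357568 : sm ga N42293 = N42293 := ded_18_1 (flp_i L357566) L246044 L357566
theorem L357569 : sm gc N42293 = N29572 := ded_33_1 (flp_i L250668) (flp_c L246045) L357566
theorem L357571 : sm gf N42293 = N42293 := ded_48_1 (flp_i L357566) L246047 L357566
theorem L357572 : sm gg N42293 = N29032 := ded_51_1 (flp_i L246060) (flp_g L246048) L357566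
theorem L357574 : sm gj N42293 = N30813 := ded_53_1 (flp_i L261328) (flp_j L246050) L357566
theorem L357576 : sm gc N29031 = N42294 := rfl
theorem L357578 : sm ga N42294 = N42294 := ded_11_1 (flp_c L357576) L246054 L357576
theorem L357579 : sm gf N42294 = N29036 := ded_29_2 (flp_c L246094) (flp_f L246055) L357576
theorem L357581 : sm gj N42294 = N29033 := ded_31_2 (flp_c L246069) (flp_j L246057) L357576
theorem L357583 : sm gh N42294 = N42294 := ded_32_2 (flp_c L357576) L246059 L357576
theorem L357584 : sm gd N42294 = N29573 := ded_27_2 (flp_c L250676) (flp_d L172651) (flp_c L169561) L246052 L357576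
theorem L357586 : sm ge N29031 = N42295 := rfl
theorem L357589 : sm gj N42295 = N29034 := ded_42_2 (flp_e L246079) (flp_j L246057) L357586
theorem L357592 : sm gi N29031 = N42296 := rfl
theorem L357594 : sm ga N42296 = N42296 := ded_18_1 (flp_i L357592) L246054 L357592
theorem L357595 : sm gd N42296 = N29032 := ded_39_1 (flp_i L246060) L246052 L357592
theorem L357597 : sm gf N42296 = N29037 := ded_48_1 (flp_i L246103) (flp_f L246055) L357592
theorem L357599 : sm gj N42296 = N29035 := ded_53_1 (flp_i L246085) (flp_j L246057) L357592
theorem L357601 : sm gb N29033 = N42297 := rfl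
theorem L357603 : sm gd N42297 = N29576 := ded_20_2 (flp_b L250702) (flp_d L246077) L357601
theorem L357605 : sm gf N42297 = N29038 := ded_22_2 (flp_b L246111) (flp_f L246072) L357601
theorem L357607 : sm gg N42297 = N30817 := ded_23_2 (flp_b L261362) (flp_g L246074) L357601
theorem L357609 : sm gh N42297 = N42297 := ded_25_2 (flp_b L357601) L246076 L357601
theorem L357610 : sm ge N29033 = N42298 := rfl
theorem L357612 : sm ga N42298 = N42298 := ded_13_1 (flp_e L357610) L246071 L357610
theorem L357613 : sm gc N42298 = N29034 := ded_28_1 (flp_e L246079) L246069 L357610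
theorem L357615 : sm gg N42298 = N30818 := ded_41_2 (flp_e L261369) (flp_g L246074) L357610
theorem L357617 : sm gh N42298 = N42298 := ded_43_2 (flp_e L357610) L246076 L357610
theorem L357618 : sm gi N29033 = N42299 := rfl
theorem L357620 : sm ga N42299 = N42299 := ded_18_1 (flp_i L357618) L246071 L357618
theorem L357621 : sm gc N42299 = N29035 := ded_33_1 (flp_i L246085) L246069 L357618
theorem L357623 : sm gd N42299 = N29578 := ded_39_1 (flp_i L250720) (flp_d L246077) L357618
theorem L357625 : sm gf N42299 = N29039 := ded_48_1 (flp_i L246118) (flp_f L246072) L357618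
theorem L357627 : sm gg N42299 = N30819 := ded_51_1 (flp_i L261376) (flp_g L246074) L357618
theorem L357629 : sm gi N29034 = N42300 := rfl
theorem L357631 : sm ga N42300 = N42300 := ded_18_1 (flp_i L357629) L246081 L357629
theorem L357632 : sm ge N42300 = N29035 := ded_44_1 (flp_i L246085) L246079 L357629
theorem L357634 : sm gg N42300 = N30820 := ded_51_1 (flp_i L261385) (flp_g L246082) L357629
theorem L357636 : sm gh N29035 = N42301 := rfl
theorem L357638 : sm ga N42301 = N42301 := ded_17_1 (flp_h L357636) L246087 L357636
theorem L357639 : sm gf N42301 = N29040 := ded_47_1 (flp_h L246127) (flp_f L246090) L357636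
theorem L357641 : sm gg N42301 = N30821 := ded_50_1 (flp_h L261391) (flp_g L246092) L357636
theorem L357643 : sm gi N42301 = N42301 := ded_54_2 (flp_h L357636) (flp_i L246085) L169574 L246085 L357636
theorem L357644 : sm gb N29036 = N42302 := rfl
theorem L357646 : sm gd N42302 = N29581 := ded_20_2 (flp_b L250746) (flp_d L246101) L357644
theorem L357648 : sm gg N42302 = N42302 := ded_23_2 (flp_b L357644) L246097 L357644
theorem L357649 : sm gj N42302 = N29038 := ded_24_2 (flp_b L246111) (flp_j L246098) L357644
theorem L357651 : sm gh N42302 = N42302 := ded_25_2 (flp_b L357644) L246100 L357644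
theorem L357652 : sm gi N29036 = N42303 := rfl
theorem L357654 : sm ga N42303 = N42303 := ded_18_1 (flp_i L357652) L246096 L357652
theorem L357655 : sm gc N42303 = N29037 := ded_33_1 (flp_i L246103) L246094 L357652
theorem L357657 : sm gd N42303 = N29582 := ded_39_1 (flp_i L250754) (flp_d L246101) L357652
theorem L357659 : sm gg N42303 = N42303 := ded_51_1 (flp_i L357652) L246097 L357652
theorem L357660 : sm gj N42303 = N29039 := ded_53_1 (flp_i L246118) (flp_j L246098) L357652
theorem L357662 : sm gh N29037 = N42304 := rfl
theorem L357664 : sm ga N42304 = N42304 := ded_17_1 (flp_h L357662) L246105 L357662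
theorem L357665 : sm gg N42304 = N42304 := ded_50_1 (flp_h L357662) L246108 L357662
theorem L357666 : sm gj N42304 = N29040 := ded_52_1 (flp_h L246127) (flp_j L246109) L357662
theorem L357668 : sm gi N42304 = N42304 := ded_54_2 (flp_h L357662) (flp_i L246103) L169590 L246103 L357662
theorem L357669 : sm ga N29038 = N42305 := rfl
theorem L357671 : sm gd N42305 = N29584 := ded_12_2 (flp_a L250772) (flp_d L246113) L357669
theorem L357673 : sm gg N42305 = N29041 := ded_15_2 (flp_a L246133) (flp_g L246115) L357669
theorem L357675 : sm gh N42305 = N42305 := ded_17_2 (flp_a L357669) L246117 L357669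
theorem L357676 : sm gb N42305 = N42305 := ded_10_2 (flp_a L357669) (flp_b L246111) L169603 L246111 L357669
theorem L357677 : sm gi N29038 = N42306 := rfl
theorem L357679 : sm gb N42306 = N29039 := ded_26_1 (flp_i L246118) L246111 L357677
theorem L357681 : sm gd N42306 = N29585 := ded_39_1 (flp_i L250780) (flp_d L246113) L357677
theorem L357683 : sm gg N42306 = N29042 := ded_51_1 (flp_i L246142) (flp_g L246115) L357677
theorem L357685 : sm gh N29039 = N42307 := rfl
theorem L357687 : sm ga N42307 = N42307 := ded_17_1 (flp_h L357685) L246120 L357685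
theorem L357688 : sm gc N42307 = N29040 := ded_32_1 (flp_h L246127) (flp_c L246121) L357685
theorem L357690 : sm gg N42307 = N29043 := ded_50_1 (flp_h L246151) (flp_g L246125) L357685
theorem L357692 : sm gi N42307 = N42307 := ded_54_2 (flp_h L357685) (flp_i L246118) L169606 L246118 L357685
theorem L357693 : sm gi N29041 = N42308 := rfl
theorem L357695 : sm ga N42308 = N29042 := ded_18_1 (flp_i L246142) L246133 L357693
theorem L357697 : sm gb N42308 = N42308 := ded_26_1 (flp_i L357693) L246141 L357693
theorem L357698 : sm gd N42308 = N29587 := ded_39_1 (flp_i L250797) (flp_d L246135) L357693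
theorem L357700 : sm gf N42308 = N30828 := ded_48_1 (flp_i L261452) (flp_f L246137) L357693
theorem L357702 : sm gj N42308 = N42308 := ded_53_1 (flp_i L357693) L246139 L357693
theorem L357703 : sm gh N29042 = N42309 := rfl
theorem L357705 : sm gb N42309 = N29043 := ded_25_1 (flp_h L246151) (flp_b L246144) L357703
theorem L357707 : sm gf N42309 = N30829 := ded_47_1 (flp_h L261461) (flp_f L246148) L357703
theorem L357709 : sm gj N42309 = N42309 := ded_52_1 (flp_h L357703) L246150 L357703
theorem L357710 : sm gi N42309 = N42309 := ded_54_2 (flp_h L357703) (flp_i L246142) L169623 L246142 L357703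
theorem L357711 : sm gd N29043 = N42310 := rfl
theorem L357713 : sm ga N42310 = N42310 := ded_12_1 (flp_d L357711) L246153 L357711
theorem L357714 : sm gf N42310 = N30830 := ded_35_2 (flp_d L261468) (flp_f L246156) L357711
theorem L357716 : sm gj N42310 = N42310 := ded_37_2 (flp_d L357711) L246158 L357711
theorem L357717 : sm gi N42310 = N42310 := ded_39_2 (flp_d L357711) L246159 L357711
theorem L357718 : sm gh N42310 = N29589 := ded_38_2 (flp_d L250816) (flp_h L172751) (flp_d L169629) L246151 L357711
theorem L357720 : sm gf N29044 = N42311 := rfl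
theorem L357723 : sm gb N42311 = N29045 := ded_22_1 (flp_f L246170) L246160 L357720
theorem L357730 : sm gh N29044 = N42312 := rfl
theorem L357732 : sm ga N42312 = N42312 := ded_17_1 (flp_h L357730) L246168 L357730
theorem L357733 : sm gb N42312 = N29046 := ded_25_1 (flp_h L246180) L246160 L357730
theorem L357735 : sm gc N42312 = N42312 := ded_32_1 (flp_h L357730) L246169 L357730
theorem L357736 : sm ge N42312 = N42312 := ded_43_1 (flp_h L357730) L246163 L357730
theorem L357737 : sm gg N42312 = N42312 := ded_50_1 (flp_h L357730) L246164 L357730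
theorem L357738 : sm gj N42312 = N29161 := ded_52_1 (flp_h L247233) (flp_j L246165) L357730
theorem L357740 : sm ge N29045 = N42313 := rfl
theorem L357742 : sm ga N42313 = N29052 := ded_13_1 (flp_e L246245) (flp_a L246172) L357740
theorem L357744 : sm gc N42313 = N29047 := ded_28_1 (flp_e L246190) (flp_c L246174) L357740
theorem L357750 : sm gg N29045 = N42314 := rfl
theorem L357754 : sm gc N42314 = N29048 := ded_30_1 (flp_g L246200) (flp_c L246174) L357750
theorem L357759 : sm gh N29045 = N42315 := rfl
theorem L357761 : sm ga N42315 = N29054 := ded_17_1 (flp_h L246262) (flp_a L246172) L357759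
theorem L357763 : sm gc N42315 = N29049 := ded_32_1 (flp_h L246209) (flp_c L246174) L357759
theorem L357765 : sm gf N42315 = N29046 := ded_47_1 (flp_h L246180) L246170 L357759
theorem L357767 : sm gj N42315 = N29164 := ded_52_1 (flp_h L247260) (flp_j L246177) L357759
theorem L357769 : sm gd N29046 = N42316 := rfl
theorem L357771 : sm ga N42316 = N29055 := ded_12_1 (flp_d L246271) (flp_a L246182) L357769
theorem L357773 : sm gg N42316 = N42316 := ded_36_2 (flp_d L357769) L246187 L357769
theorem L357774 : sm gj N42316 = N29165 := ded_37_2 (flp_d L247268) (flp_j L246188) L357769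
theorem L357776 : sm gc N42316 = N29074 := ded_27_1 (flp_d L246455) L169824 (flp_d L169670) (flp_c L246184) L357769
theorem L357778 : sm gh N42316 = N42316 := ded_38_2 (flp_d L357769) (flp_h L246180) L169650 L246180 L357769
theorem L357779 : sm gi N29046 = N42317 := rfl
theorem L357781 : sm ga N42317 = N29056 := ded_18_1 (flp_i L246280) (flp_a L246182) L357779
theorem L357783 : sm gc N42317 = N29050 := ded_33_1 (flp_i L246220) (flp_c L246184) L357779
theorem L357785 : sm ge N42317 = N42317 := ded_44_1 (flp_i L357779) L246186 L357779
theorem L357786 : sm gg N42317 = N42317 := ded_51_1 (flp_i L357779) L246187 L357779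
theorem L357787 : sm gj N42317 = N29166 := ded_53_1 (flp_i L247277) (flp_j L246188) L357779
theorem L357789 : sm gh N42317 = N42317 := ded_54_1 (flp_i L357779) (flp_h L246180) L169649 L246180 L357779
theorem L357790 : sm gg N29047 = N42318 := rfl
theorem L357796 : sm ge N42318 = N29048 := ded_41_1 (flp_g L246200) L246190 L357790
theorem L357799 : sm gh N29047 = N42319 := rfl
theorem L357801 : sm ga N42319 = N29058 := ded_17_1 (flp_h L246298) (flp_a L246192) L357799
theorem L357803 : sm gb N42319 = N42319 := ded_25_1 (flp_h L357799) L246194 L357799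
theorem L357804 : sm ge N42319 = N29049 := ded_43_1 (flp_h L246209) L246190 L357799
theorem L357806 : sm gf N42319 = N42319 := ded_47_1 (flp_h L357799) L246199 L357799
theorem L357807 : sm gj N42319 = N29168 := ded_52_1 (flp_h L247296) (flp_j L246195) L357799
theorem L357809 : sm gj N29048 = N42320 := rfl
theorem L357811 : sm ga N42320 = N29059 := ded_16_1 (flp_j L246307) (flp_a L246202) L357809
theorem L357814 : sm gd N42320 = N29051 := ded_37_1 (flp_j L246232) (flp_d L246205) L357809
theorem L357818 : sm gg N42320 = N29169 := ded_49_1 (flp_j L247304) (flp_g L170386) (flp_j L169658) L246200 L357809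
theorem L357820 : sm gh N29048 = N42321 := rfl
theorem L357822 : sm ga N42321 = N29060 := ded_17_1 (flp_h L246317) (flp_a L246202) L357820
theorem L357824 : sm gb N42321 = N42321 := ded_25_1 (flp_h L357820) L246204 L357820
theorem L357825 : sm gf N42321 = N42321 := ded_47_1 (flp_h L357820) L246208 L357820
theorem L357826 : sm gg N42321 = N29049 := ded_50_1 (flp_h L246209) L246200 L357820
theorem L357828 : sm gd N42321 = N29079 := ded_38_1 (flp_h L246509) L169848 (flp_h L169679) (flp_d L246205) L357820
theorem L357830 : sm gi N29049 = N42322 := rfl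
theorem L357832 : sm ga N42322 = N29061 := ded_18_1 (flp_i L246326) (flp_a L246211) L357830
theorem L357834 : sm gb N42322 = N42322 := ded_26_1 (flp_i L357830) L246213 L357830
theorem L357835 : sm gd N42322 = N29080 := ded_39_1 (flp_i L246517) (flp_d L246218) L357830
theorem L357837 : sm gf N42322 = N29050 := ded_48_1 (flp_i L246220) (flp_f L246214) L357830
theorem L357839 : sm gj N42322 = N29171 := ded_53_1 (flp_i L247325) (flp_j L246216) L357830
theorem L357841 : sm gh N42322 = N42322 := ded_54_1 (flp_i L357830) (flp_h L246209) L169660 L246209 L357830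
theorem L357851 : sm gg N29052 = N42324 := rfl
theorem L357854 : sm gc N42324 = N29057 := ded_30_1 (flp_g L246290) (flp_c L246248) L357851
theorem L357856 : sm ge N42324 = N29053 := ded_41_1 (flp_g L246254) L246245 L357851
theorem L357859 : sm gh N29052 = N42325 := rfl
theorem L357862 : sm gc N42325 = N29058 := ded_32_1 (flp_h L246298) (flp_c L246248) L357859
theorem L357864 : sm ge N42325 = N29054 := ded_43_1 (flp_h L246262) L246245 L357859
theorem L357867 : sm gj N42325 = N29174 := ded_52_1 (flp_h L247350) (flp_j L246250) L357859
theorem L357879 : sm gh N29053 = N42327 := rfl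
theorem L357882 : sm gc N42327 = N29060 := ded_32_1 (flp_h L246317) (flp_c L246257) L357879
theorem L357885 : sm gg N42327 = N29054 := ded_50_1 (flp_h L246262) L246254 L357879
theorem L357887 : sm gd N29054 = N42328 := rfl
theorem L357889 : sm gb N42328 = N42328 := ded_20_1 (flp_d L357887) L246264 L357887
theorem L357890 : sm gf N42328 = N29055 := ded_35_2 (flp_d L246271) (flp_f L246267) L357887
theorem L357892 : sm gj N42328 = N29177 := ded_37_2 (flp_d L247376) (flp_j L246269) L357887
theorem L357894 : sm gc N42328 = N29086 := ded_27_1 (flp_d L246573) L169906 (flp_d L169726) (flp_c L246265) L357887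
theorem L357896 : sm gh N42328 = N42328 := ded_38_2 (flp_d L357887) (flp_h L246262) L169688 L246262 L357887
theorem L357897 : sm gi N29054 = N42329 := rfl
theorem L357899 : sm gb N42329 = N42329 := ded_26_1 (flp_i L357897) L246264 L357897
theorem L357900 : sm gc N42329 = N29061 := ded_33_1 (flp_i L246326) (flp_c L246265) L357897
theorem L357902 : sm gf N42329 = N29056 := ded_48_1 (flp_i L246280) (flp_f L246267) L357897
theorem L357904 : sm gj N42329 = N29178 := ded_53_1 (flp_i L247384) (flp_j L246269) L357897
theorem L357906 : sm gh N42329 = N42329 := ded_54_1 (flp_i L357897) (flp_h L246262) L169691 L246262 L357897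
theorem L357907 : sm ge N29055 = N42330 := rfl
theorem L357909 : sm gb N42330 = N42330 := ded_21_1 (flp_e L357907) L246273 L357907
theorem L357910 : sm gc N42330 = N29088 := ded_28_1 (flp_e L246590) (flp_c L246277) L357907
theorem L357912 : sm gg N42330 = N42330 := ded_41_2 (flp_e L357907) L246274 L357907
theorem L357913 : sm gj N42330 = N29179 := ded_42_2 (flp_e L247392) (flp_j L246275) L357907
theorem L357915 : sm gh N42330 = N42330 := ded_43_2 (flp_e L357907) L246279 L357907
theorem L357916 : sm gd N42330 = N42330 := ded_34_1 (flp_e L357907) (flp_d L246271) L169697 L246271 L357907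
theorem L357917 : sm gi N29055 = N42331 := rfl
theorem L357919 : sm gb N42331 = N42331 := ded_26_1 (flp_i L357917) L246273 L357917
theorem L357920 : sm gc N42331 = N29089 := ded_33_1 (flp_i L246598) (flp_c L246277) L357917
theorem L357922 : sm gd N42331 = N29056 := ded_39_1 (flp_i L246280) L246271 L357917
theorem L357924 : sm gg N42331 = N42331 := ded_51_1 (flp_i L357917) L246274 L357917
theorem L357925 : sm gj N42331 = N29180 := ded_53_1 (flp_i L247401) (flp_j L246275) L357917
theorem L357935 : sm gj N29057 = N42333 := rfl
theorem L357937 : sm gb N42333 = N29063 := ded_24_1 (flp_j L246345) (flp_b L246292) L357935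
theorem L357945 : sm gh N29057 = N42334 := rfl
theorem L357947 : sm gb N42334 = N29064 := ded_25_1 (flp_h L246355) (flp_b L246292) L357945
theorem L357949 : sm ge N42334 = N29060 := ded_43_1 (flp_h L246317) (flp_e L246295) L357945
theorem L357951 : sm gg N42334 = N29058 := ded_50_1 (flp_h L246298) L246290 L357945
theorem L357953 : sm gd N29058 = N42335 := rfl
theorem L357955 : sm gb N42335 = N29065 := ded_20_1 (flp_d L246363) (flp_b L246300) L357953
theorem L357957 : sm gf N42335 = N42335 := ded_35_2 (flp_d L357953) L246304 L357953
theorem L357958 : sm gj N42335 = N29184 := ded_37_2 (flp_d L247435) (flp_j L246305) L357953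
theorem L357960 : sm ge N42335 = N29093 := ded_34_2 (flp_d L246634) L169942 (flp_d L169726) (flp_e L246302) L357953
theorem L357962 : sm gh N42335 = N42335 := ded_38_2 (flp_d L357953) (flp_h L246298) L169708 L246298 L357953
theorem L357963 : sm gi N29058 = N42336 := rfl
theorem L357965 : sm gb N42336 = N29066 := ded_26_1 (flp_i L246372) (flp_b L246300) L357963
theorem L357967 : sm ge N42336 = N29061 := ded_44_1 (flp_i L246326) (flp_e L246302) L357963
theorem L357969 : sm gf N42336 = N42336 := ded_48_1 (flp_i L357963) L246304 L357963
theorem L357970 : sm gj N42336 = N29185 := ded_53_1 (flp_i L247443) (flp_j L246305) L357963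
theorem L357972 : sm gh N42336 = N42336 := ded_54_1 (flp_i L357963) (flp_h L246298) L169707 L246298 L357963
theorem L357973 : sm gh N29059 = N42337 := rfl
theorem L357975 : sm gb N42337 = N29067 := ded_25_1 (flp_h L246382) (flp_b L246309) L357973
theorem L357977 : sm gf N42337 = N42337 := ded_47_1 (flp_h L357973) L246313 L357973
theorem L357978 : sm gg N42337 = N29186 := ded_50_1 (flp_h L247451) (flp_g L246315) L357973
theorem L357980 : sm gj N42337 = N29060 := ded_52_1 (flp_h L246317) L246307 L357973
theorem L357982 : sm gd N42337 = N29095 := ded_38_1 (flp_h L246655) L169952 (flp_h L169746) (flp_d L246311) L357973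
theorem L357984 : sm gi N29060 = N42338 := rfl
theorem L357986 : sm gb N42338 = N29068 := ded_26_1 (flp_i L246393) (flp_b L246319) L357984
theorem L357988 : sm gd N42338 = N29096 := ded_39_1 (flp_i L246664) (flp_d L246324) L357984
theorem L357990 : sm gf N42338 = N42338 := ded_48_1 (flp_i L357984) L246321 L357984
theorem L357991 : sm gg N42338 = N29061 := ded_51_1 (flp_i L246326) (flp_g L246322) L357984
theorem L357993 : sm gh N42338 = N42338 := ded_54_1 (flp_i L357984) (flp_h L246317) L169716 L246317 L357984
theorem L357994 : sm gj N29062 = N42339 := rfl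
theorem L358000 : sm gf N42339 = N29063 := ded_46_1 (flp_j L246345) L246337 L357994
theorem L358003 : sm gh N29062 = N42340 := rfl
theorem L358008 : sm gf N42340 = N29064 := ded_47_1 (flp_h L246355) L246337 L358003
theorem L358011 : sm gh N29063 = N42341 := rfl
theorem L358013 : sm ga N42341 = N42341 := ded_17_1 (flp_h L358011) L246347 L358011
theorem L358014 : sm gc N42341 = N42341 := ded_32_1 (flp_h L358011) L246348 L358011
theorem L358015 : sm ge N42341 = N29067 := ded_43_1 (flp_h L246382) (flp_e L246350) L358011
theorem L358017 : sm gg N42341 = N29190 := ded_50_1 (flp_h L247491) (flp_g L246353) L358011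
theorem L358019 : sm gj N42341 = N29064 := ded_52_1 (flp_h L246355) L246345 L358011
theorem L358021 : sm gd N29064 = N42342 := rfl
theorem L358023 : sm ga N42342 = N42342 := ded_12_1 (flp_d L358021) L246357 L358021
theorem L358024 : sm gg N42342 = N29065 := ded_36_2 (flp_d L246363) (flp_g L246361) L358021
theorem L358026 : sm ge N42342 = N29100 := ded_34_2 (flp_d L246699) L169998 (flp_d L169785) (flp_e L246359) L358021
theorem L358028 : sm gh N42342 = N42342 := ded_38_2 (flp_d L358021) (flp_h L246355) L169755 L246355 L358021
theorem L358029 : sm gi N29064 = N42343 := rfl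
theorem L358031 : sm ga N42343 = N42343 := ded_18_1 (flp_i L358029) L246357 L358029
theorem L358032 : sm gc N42343 = N42343 := ded_33_1 (flp_i L358029) L246358 L358029
theorem L358033 : sm ge N42343 = N29068 := ded_44_1 (flp_i L246393) (flp_e L246359) L358029
theorem L358035 : sm gg N42343 = N29066 := ded_51_1 (flp_i L246372) (flp_g L246361) L358029
theorem L358037 : sm gh N42343 = N42343 := ded_54_1 (flp_i L358029) (flp_h L246355) L169758 L246355 L358029
theorem L358038 : sm gc N29065 = N42344 := rfl
theorem L358040 : sm ga N42344 = N42344 := ded_11_1 (flp_c L358038) L246365 L358038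
theorem L358041 : sm ge N42344 = N29102 := ded_28_2 (flp_c L246714) (flp_e L246369) L358038
theorem L358043 : sm gf N42344 = N42344 := ded_29_2 (flp_c L358038) L246366 L358038
theorem L358044 : sm gj N42344 = N29193 := ded_31_2 (flp_c L247516) (flp_j L246367) L358038
theorem L358046 : sm gh N42344 = N42344 := ded_32_2 (flp_c L358038) L246371 L358038
theorem L358047 : sm gd N42344 = N42344 := ded_27_2 (flp_c L358038) (flp_d L246363) L169762 L246363 L358038
theorem L358048 : sm gi N29065 = N42345 := rfl
theorem L358050 : sm ga N42345 = N42345 := ded_18_1 (flp_i L358048) L246365 L358048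
theorem L358051 : sm gd N42345 = N29066 := ded_39_1 (flp_i L246372) L246363 L358048
theorem L358053 : sm ge N42345 = N29103 := ded_44_1 (flp_i L246722) (flp_e L246369) L358048
theorem L358055 : sm gf N42345 = N42345 := ded_48_1 (flp_i L358048) L246366 L358048
theorem L358056 : sm gj N42345 = N29194 := ded_53_1 (flp_i L247524) (flp_j L246367) L358048
theorem L358058 : sm gi N29067 = N42346 := rfl
theorem L358060 : sm ga N42346 = N42346 := ded_18_1 (flp_i L358058) L246384 L358058
theorem L358061 : sm gc N42346 = N42346 := ded_33_1 (flp_i L358058) L246385 L358058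
theorem L358062 : sm gd N42346 = N29104 := ded_39_1 (flp_i L246731) (flp_d L246391) L358058
theorem L358064 : sm gf N42346 = N42346 := ded_48_1 (flp_i L358058) L246386 L358058
theorem L358065 : sm gg N42346 = N29195 := ded_51_1 (flp_i L247532) (flp_g L246387) L358058
theorem L358067 : sm gj N42346 = N29068 := ded_53_1 (flp_i L246393) (flp_j L246389) L358058
theorem L358069 : sm gh N42346 = N42346 := ded_54_1 (flp_i L358058) (flp_h L246382) L169775 L246382 L358058
theorem L358070 : sm ge N29069 = N42347 := rfl
theorem L358072 : sm gb N42347 = N29071 := ded_21_1 (flp_e L246423) (flp_b L246405) L358070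
theorem L358074 : sm gc N42347 = N42347 := ded_28_1 (flp_e L358070) L246407 L358070
theorem L358075 : sm gj N42347 = N29196 := ded_42_2 (flp_e L247543) (flp_j L246409) L358070
theorem L358077 : sm gi N42347 = N29105 := ded_44_2 (flp_e L246741) (flp_i L246411) L358070
theorem L358079 : sm gf N42347 = N30831 := ded_40_2 (flp_e L261475) (flp_f L179941) (flp_e L169801) L246403 L358070
theorem L358081 : sm gg N29069 = N42348 := rfl
theorem L358083 : sm gb N42348 = N29072 := ded_23_1 (flp_g L246435) (flp_b L246405) L358081
theorem L358085 : sm gc N42348 = N42348 := ded_30_1 (flp_g L358081) L246407 L358081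
theorem L358086 : sm gd N42348 = N42348 := ded_36_1 (flp_g L358081) L246408 L358081
theorem L358087 : sm gi N42348 = N29106 := ded_51_2 (flp_g L246750) (flp_i L246411) L358081
theorem L358089 : sm gf N42348 = N42348 := ded_45_1 (flp_g L358081) (flp_f L246403) L169803 L246403 L358081
theorem L358090 : sm gh N29069 = N42349 := rfl
theorem L358092 : sm gb N42349 = N29073 := ded_25_1 (flp_h L246445) (flp_b L246405) L358090
theorem L358094 : sm gc N42349 = N42349 := ded_32_1 (flp_h L358090) L246407 L358090
theorem L358095 : sm gf N42349 = N29070 := ded_47_1 (flp_h L246413) L246403 L358090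
theorem L358097 : sm gj N42349 = N29198 := ded_52_1 (flp_h L247562) (flp_j L246409) L358090
theorem L358099 : sm gd N29070 = N42350 := rfl
theorem L358101 : sm gb N42350 = N29074 := ded_20_1 (flp_d L246455) (flp_b L246415) L358099
theorem L358104 : sm gj N42350 = N29199 := ded_37_2 (flp_d L247569) (flp_j L246421) L358099
theorem L358107 : sm gi N29070 = N42351 := rfl
theorem L358109 : sm gb N42351 = N29075 := ded_26_1 (flp_i L246463) (flp_b L246415) L358107
theorem L358111 : sm gc N42351 = N42351 := ded_33_1 (flp_i L358107) L246417 L358107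
theorem L358112 : sm ge N42351 = N30835 := ded_44_1 (flp_i L261512) (flp_e L246418) L358107
theorem L358114 : sm gg N42351 = N42351 := ded_51_1 (flp_i L358107) L246420 L358107
theorem L358115 : sm gj N42351 = N29200 := ded_53_1 (flp_i L247576) (flp_j L246421) L358107
theorem L358117 : sm gh N42351 = N29109 := ded_54_1 (flp_i L246774) (flp_h L170045) (flp_i L169806) L246413 L358107
theorem L358119 : sm gd N29071 = N42352 := rfl
theorem L358121 : sm ga N42352 = N29081 := ded_12_1 (flp_d L246528) (flp_a L246425) L358119
theorem L358123 : sm gf N42352 = N30836 := ded_35_2 (flp_d L261522) (flp_f L246433) L358119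
theorem L358125 : sm gj N42352 = N29201 := ded_37_2 (flp_d L247587) (flp_j L246429) L358119
theorem L358127 : sm gi N42352 = N29110 := ded_39_2 (flp_d L246784) (flp_i L246431) L358119
theorem L358129 : sm gc N42352 = N42352 := ded_27_1 (flp_d L358119) L246427 L169840 (flp_c L246427) L358119
theorem L358130 : sm ge N42352 = N42352 := ded_34_2 (flp_d L358119) (flp_e L246423) L169815 L246423 L358119
theorem L358131 : sm gg N29071 = N42353 := rfl
theorem L358133 : sm ga N42353 = N29082 := ded_15_1 (flp_g L246538) (flp_a L246425) L358131
theorem L358135 : sm gc N42353 = N29076 := ded_30_1 (flp_g L246476) (flp_c L246427) L358131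
theorem L358137 : sm ge N42353 = N29072 := ded_41_1 (flp_g L246435) L246423 L358131
theorem L358139 : sm gi N42353 = N29111 := ded_51_2 (flp_g L246794) (flp_i L246431) L358131
theorem L358141 : sm gh N29071 = N42354 := rfl
theorem L358143 : sm ga N42354 = N29083 := ded_17_1 (flp_h L246546) (flp_a L246425) L358141
theorem L358145 : sm gc N42354 = N29077 := ded_32_1 (flp_h L246486) (flp_c L246427) L358141
theorem L358147 : sm ge N42354 = N29073 := ded_43_1 (flp_h L246445) L246423 L358141
theorem L358149 : sm gf N42354 = N30838 := ded_47_1 (flp_h L261543) (flp_f L246433) L358141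
theorem L358151 : sm gj N42354 = N29203 := ded_52_1 (flp_h L247607) (flp_j L246429) L358141
theorem L358153 : sm gj N29072 = N42355 := rfl
theorem L358155 : sm ga N42355 = N29084 := ded_16_1 (flp_j L246556) (flp_a L246437) L358153
theorem L358157 : sm gc N42355 = N29078 := ded_31_1 (flp_j L246497) (flp_c L246439) L358153
theorem L358159 : sm gd N42355 = N42355 := ded_37_1 (flp_j L358153) L246441 L358153
theorem L358160 : sm gf N42355 = N42355 := ded_46_1 (flp_j L358153) L246444 L358153
theorem L358161 : sm gi N42355 = N29113 := ded_53_2 (flp_j L246814) (flp_i L246442) L358153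
theorem L358163 : sm gg N42355 = N29204 := ded_49_1 (flp_j L247617) (flp_g L170599) (flp_j L169816) L246435 L358153
theorem L358165 : sm gh N29072 = N42356 := rfl
theorem L358167 : sm ga N42356 = N29085 := ded_17_1 (flp_h L246566) (flp_a L246437) L358165
theorem L358169 : sm gc N42356 = N29079 := ded_32_1 (flp_h L246509) (flp_c L246439) L358165
theorem L358171 : sm gf N42356 = N42356 := ded_47_1 (flp_h L358165) L246444 L358165
theorem L358172 : sm gg N42356 = N29073 := ded_50_1 (flp_h L246445) L246435 L358165
theorem L358174 : sm gd N29073 = N42357 := rfl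
theorem L358176 : sm ga N42357 = N29086 := ded_12_1 (flp_d L246573) (flp_a L246447) L358174
theorem L358178 : sm gf N42357 = N29074 := ded_35_2 (flp_d L246455) (flp_f L246451) L358174
theorem L358180 : sm gj N42357 = N29206 := ded_37_2 (flp_d L247638) (flp_j L246453) L358174
theorem L358182 : sm gh N42357 = N42357 := ded_38_2 (flp_d L358174) (flp_h L246445) L169815 L246445 L358174
theorem L358183 : sm gi N29073 = N42358 := rfl
theorem L358185 : sm ga N42358 = N29087 := ded_18_1 (flp_i L246580) (flp_a L246447) L358183
theorem L358187 : sm gc N42358 = N29080 := ded_33_1 (flp_i L246517) (flp_c L246449) L358183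
theorem L358189 : sm gf N42358 = N29075 := ded_48_1 (flp_i L246463) (flp_f L246451) L358183
theorem L358191 : sm gj N42358 = N29207 := ded_53_1 (flp_i L247645) (flp_j L246453) L358183
theorem L358193 : sm gh N42358 = N29116 := ded_54_1 (flp_i L246843) (flp_h L170073) (flp_i L169818) L246445 L358183
theorem L358195 : sm ge N29074 = N42359 := rfl
theorem L358197 : sm ga N42359 = N29088 := ded_13_1 (flp_e L246590) (flp_a L246457) L358195
theorem L358200 : sm gj N42359 = N29208 := ded_42_2 (flp_e L247655) (flp_j L246460) L358195
theorem L358205 : sm gi N29074 = N42360 := rfl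
theorem L358207 : sm ga N42360 = N29089 := ded_18_1 (flp_i L246598) (flp_a L246457) L358205
theorem L358209 : sm gd N42360 = N29075 := ded_39_1 (flp_i L246463) L246455 L358205
theorem L358211 : sm gg N42360 = N42360 := ded_51_1 (flp_i L358205) L246459 L358205
theorem L358212 : sm gj N42360 = N29209 := ded_53_1 (flp_i L247664) (flp_j L246460) L358205
theorem L358214 : sm gf N29076 = N42361 := rfl
theorem L358216 : sm ga N42361 = N29090 := ded_14_1 (flp_f L246605) (flp_a L246478) L358214
theorem L358218 : sm gb N42361 = N42361 := ded_22_1 (flp_f L358214) L246480 L358214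
theorem L358219 : sm gd N42361 = N42361 := ded_35_1 (flp_f L358214) L246481 L358214
theorem L358220 : sm gi N42361 = N29119 := ded_48_2 (flp_f L246874) (flp_i L246484) L358214
theorem L358222 : sm ge N42361 = N42361 := ded_40_1 (flp_f L358214) L246482 L169852 (flp_e L246482) L358214
theorem L358223 : sm gg N42361 = N30845 := ded_45_2 (flp_f L261618) (flp_g L180012) (flp_f L169841) L246476 L358214
theorem L358225 : sm gj N29076 = N42362 := rfl
theorem L358227 : sm ga N42362 = N29091 := ded_16_1 (flp_j L246615) (flp_a L246478) L358225
theorem L358229 : sm gb N42362 = N42362 := ded_24_1 (flp_j L358225) L246480 L358225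
theorem L358230 : sm gd N42362 = N42362 := ded_37_1 (flp_j L358225) L246481 L358225
theorem L358231 : sm ge N42362 = N29078 := ded_42_1 (flp_j L246497) (flp_e L246482) L358225
theorem L358233 : sm gi N42362 = N29120 := ded_53_2 (flp_j L246883) (flp_i L246484) L358225
theorem L358235 : sm gg N42362 = N29211 := ded_49_1 (flp_j L247684) (flp_g L170637) (flp_j L169836) L246476 L358225
theorem L358237 : sm gh N29076 = N42363 := rfl
theorem L358239 : sm ga N42363 = N29092 := ded_17_1 (flp_h L246626) (flp_a L246478) L358237
theorem L358241 : sm gb N42363 = N42363 := ded_25_1 (flp_h L358237) L246480 L358237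
theorem L358242 : sm ge N42363 = N29079 := ded_43_1 (flp_h L246509) (flp_e L246482) L358237
theorem L358244 : sm gg N42363 = N29077 := ded_50_1 (flp_h L246486) L246476 L358237
theorem L358246 : sm gd N29077 = N42364 := rfl
theorem L358248 : sm ga N42364 = N29093 := ded_12_1 (flp_d L246634) (flp_a L246488) L358246
theorem L358250 : sm gb N42364 = N42364 := ded_20_1 (flp_d L358246) L246490 L358246
theorem L358251 : sm gf N42364 = N30848 := ded_35_2 (flp_d L261648) (flp_f L246493) L358246
theorem L358253 : sm gj N42364 = N29213 := ded_37_2 (flp_d L247703) (flp_j L246495) L358246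
theorem L358255 : sm gh N42364 = N42364 := ded_38_2 (flp_d L358246) (flp_h L246486) L169840 L246486 L358246
theorem L358256 : sm gi N29077 = N42365 := rfl
theorem L358258 : sm ga N42365 = N29094 := ded_18_1 (flp_i L246643) (flp_a L246488) L358256
theorem L358260 : sm gb N42365 = N42365 := ded_26_1 (flp_i L358256) L246490 L358256
theorem L358261 : sm ge N42365 = N29080 := ded_44_1 (flp_i L246517) (flp_e L246491) L358256
theorem L358263 : sm gf N42365 = N30849 := ded_48_1 (flp_i L261657) (flp_f L246493) L358256
theorem L358265 : sm gj N42365 = N29214 := ded_53_1 (flp_i L247711) (flp_j L246495) L358256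
theorem L358267 : sm gh N42365 = N29123 := ded_54_1 (flp_i L246913) (flp_h L170111) (flp_i L169838) L246486 L358256
theorem L358269 : sm gh N29078 = N42366 := rfl
theorem L358271 : sm ga N42366 = N29095 := ded_17_1 (flp_h L246655) (flp_a L246499) L358269
theorem L358273 : sm gb N42366 = N42366 := ded_25_1 (flp_h L358269) L246501 L358269
theorem L358274 : sm gf N42366 = N42366 := ded_47_1 (flp_h L358269) L246504 L358269
theorem L358275 : sm gg N42366 = N29215 := ded_50_1 (flp_h L247722) (flp_g L246507) L358269
theorem L358277 : sm gj N42366 = N29079 := ded_52_1 (flp_h L246509) L246497 L358269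
theorem L358279 : sm gi N29079 = N42367 := rfl
theorem L358281 : sm ga N42367 = N29096 := ded_18_1 (flp_i L246664) (flp_a L246511) L358279
theorem L358283 : sm gb N42367 = N42367 := ded_26_1 (flp_i L358279) L246513 L358279
theorem L358284 : sm gf N42367 = N42367 := ded_48_1 (flp_i L358279) L246514 L358279
theorem L358285 : sm gg N42367 = N29080 := ded_51_1 (flp_i L246517) (flp_g L246515) L358279
theorem L358287 : sm gh N42367 = N29125 := ded_54_1 (flp_i L246935) (flp_h L170132) (flp_i L169850) L246509 L358279
theorem L358289 : sm gg N29081 = N42368 := rfl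
theorem L358291 : sm gc N42368 = N42368 := ded_30_1 (flp_g L358289) L246536 L358289
theorem L358292 : sm gd N42368 = N29082 := ded_36_1 (flp_g L246538) L246528 L358289
theorem L358294 : sm ge N42368 = N42368 := ded_41_1 (flp_g L358289) L246537 L358289
theorem L358295 : sm gi N42368 = N29126 := ded_51_2 (flp_g L246944) (flp_i L246534) L358289
theorem L358297 : sm gh N29081 = N42369 := rfl
theorem L358299 : sm gc N42369 = N42369 := ded_32_1 (flp_h L358297) L246536 L358297
theorem L358300 : sm ge N42369 = N42369 := ded_43_1 (flp_h L358297) L246537 L358297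
theorem L358301 : sm gf N42369 = N30853 := ded_47_1 (flp_h L261699) (flp_f L246530) L358297
theorem L358303 : sm gj N42369 = N29218 := ded_52_1 (flp_h L247750) (flp_j L246532) L358297
theorem L358305 : sm gf N29082 = N42370 := rfl
theorem L358307 : sm gc N42370 = N29090 := ded_29_1 (flp_f L246605) (flp_c L246540) L358305
theorem L358309 : sm gi N42370 = N29128 := ded_48_2 (flp_f L246958) (flp_i L246544) L358305
theorem L358311 : sm ge N42370 = N42370 := ded_40_1 (flp_f L358305) L246542 L169903 (flp_e L246542) L358305
theorem L358312 : sm gg N42370 = N30854 := ded_45_2 (flp_f L261706) (flp_g L180073) (flp_f L169894) L246538 L358305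
theorem L358314 : sm gj N29082 = N42371 := rfl
theorem L358316 : sm gc N42371 = N29091 := ded_31_1 (flp_j L246615) (flp_c L246540) L358314
theorem L358318 : sm ge N42371 = N29084 := ded_42_1 (flp_j L246556) (flp_e L246542) L358314
theorem L358320 : sm gi N42371 = N29129 := ded_53_2 (flp_j L246965) (flp_i L246544) L358314
theorem L358322 : sm gg N42371 = N29220 := ded_49_1 (flp_j L247766) (flp_g L170693) (flp_j L169890) L246538 L358314
theorem L358324 : sm gh N29082 = N42372 := rfl
theorem L358326 : sm gc N42372 = N29092 := ded_32_1 (flp_h L246626) (flp_c L246540) L358324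
theorem L358328 : sm ge N42372 = N29085 := ded_43_1 (flp_h L246566) (flp_e L246542) L358324
theorem L358330 : sm gg N42372 = N29083 := ded_50_1 (flp_h L246546) L246538 L358324
theorem L358332 : sm gd N29083 = N42373 := rfl
theorem L358334 : sm gf N42373 = N30857 := ded_35_2 (flp_d L261731) (flp_f L246552) L358332
theorem L358336 : sm gj N42373 = N29222 := ded_37_2 (flp_d L247782) (flp_j L246554) L358332
theorem L358338 : sm gi N29083 = N42374 := rfl
theorem L358340 : sm gc N42374 = N29094 := ded_33_1 (flp_i L246643) (flp_c L246548) L358338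
theorem L358342 : sm ge N42374 = N29087 := ded_44_1 (flp_i L246580) (flp_e L246550) L358338
theorem L358344 : sm gf N42374 = N30858 := ded_48_1 (flp_i L261735) (flp_f L246552) L358338
theorem L358346 : sm gj N42374 = N29223 := ded_53_1 (flp_i L247786) (flp_j L246554) L358338
theorem L358348 : sm gh N42374 = N29132 := ded_54_1 (flp_i L246987) (flp_h L170165) (flp_i L169892) L246546 L358338
theorem L358350 : sm gh N29084 = N42375 := rfl
theorem L358352 : sm gc N42375 = N29095 := ded_32_1 (flp_h L246655) (flp_c L246558) L358350
theorem L358354 : sm gf N42375 = N42375 := ded_47_1 (flp_h L358350) L246561 L358350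
theorem L358355 : sm gg N42375 = N29224 := ded_50_1 (flp_h L247796) (flp_g L246564) L358350
theorem L358357 : sm gj N42375 = N29085 := ded_52_1 (flp_h L246566) L246556 L358350
theorem L358359 : sm gd N29085 = N42376 := rfl
theorem L358361 : sm gf N42376 = N42376 := ded_35_2 (flp_d L358359) L246570 L358359
theorem L358362 : sm gg N42376 = N29086 := ded_36_2 (flp_d L246573) (flp_g L246571) L358359
theorem L358364 : sm gh N42376 = N42376 := ded_38_2 (flp_d L358359) (flp_h L246566) L169900 L246566 L358359
theorem L358365 : sm gi N29085 = N42377 := rfl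
theorem L358367 : sm gc N42377 = N29096 := ded_33_1 (flp_i L246664) (flp_c L246568) L358365
theorem L358369 : sm gf N42377 = N42377 := ded_48_1 (flp_i L358365) L246570 L358365
theorem L358370 : sm gg N42377 = N29087 := ded_51_1 (flp_i L246580) (flp_g L246571) L358365
theorem L358372 : sm gh N42377 = N29135 := ded_54_1 (flp_i L247013) (flp_h L170183) (flp_i L169901) L246566 L358365
theorem L358374 : sm ge N29086 = N42378 := rfl
theorem L358376 : sm gj N42378 = N29227 := ded_42_2 (flp_e L247821) (flp_j L246577) L358374
theorem L358378 : sm gh N42378 = N42378 := ded_43_2 (flp_e L358374) L246579 L358374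
theorem L358379 : sm gi N29086 = N42379 := rfl
theorem L358381 : sm gd N42379 = N29087 := ded_39_1 (flp_i L246580) L246573 L358379
theorem L358383 : sm gf N42379 = N29089 := ded_48_1 (flp_i L246598) (flp_f L246575) L358379
theorem L358385 : sm gj N42379 = N29228 := ded_53_1 (flp_i L247824) (flp_j L246577) L358379
theorem L358387 : sm gf N29088 = N42380 := rfl
theorem L358389 : sm gd N42380 = N30864 := ded_35_1 (flp_f L261787) (flp_d L246596) L358387
theorem L358391 : sm gj N42380 = N29229 := ded_46_2 (flp_f L247830) (flp_j L246593) L358387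
theorem L358393 : sm gh N42380 = N42380 := ded_47_2 (flp_f L358387) L246595 L358387
theorem L358394 : sm gi N29088 = N42381 := rfl
theorem L358396 : sm gd N42381 = N30865 := ded_39_1 (flp_i L261794) (flp_d L246596) L358394
theorem L358398 : sm ge N42381 = N29089 := ded_44_1 (flp_i L246598) L246590 L358394
theorem L358400 : sm gg N42381 = N42381 := ded_51_1 (flp_i L358394) L246592 L358394
theorem L358401 : sm gj N42381 = N29230 := ded_53_1 (flp_i L247835) (flp_j L246593) L358394
theorem L358403 : sm gh N29089 = N42382 := rfl
theorem L358405 : sm gg N42382 = N42382 := ded_50_1 (flp_h L358403) L246602 L358403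
theorem L358406 : sm gj N42382 = N29231 := ded_52_1 (flp_h L247843) (flp_j L246603) L358403
theorem L358408 : sm gd N42382 = N29140 := ded_38_1 (flp_h L247053) L170218 (flp_h L169927) (flp_d L246600) L358403
theorem L358410 : sm gi N42382 = N42382 := ded_54_2 (flp_h L358403) (flp_i L246598) L169917 L246598 L358403
theorem L358411 : sm gj N29090 = N42383 := rfl
theorem L358413 : sm gb N42383 = N29097 := ded_24_1 (flp_j L246673) (flp_b L246607) L358411
theorem L358415 : sm gd N42383 = N42383 := ded_37_1 (flp_j L358411) L246609 L358411
theorem L358416 : sm ge N42383 = N42383 := ded_42_1 (flp_j L358411) L246612 L358411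
theorem L358417 : sm gf N42383 = N29091 := ded_46_1 (flp_j L246615) L246605 L358411
theorem L358419 : sm gi N42383 = N29141 := ded_53_2 (flp_j L247060) (flp_i L246610) L358411
theorem L358421 : sm gh N29090 = N42384 := rfl
theorem L358423 : sm gb N42384 = N29098 := ded_25_1 (flp_h L246682) (flp_b L246607) L358421
theorem L358425 : sm ge N42384 = N42384 := ded_43_1 (flp_h L358421) L246612 L358421
theorem L358426 : sm gf N42384 = N29092 := ded_47_1 (flp_h L246626) L246605 L358421
theorem L358428 : sm gg N42384 = N30868 := ded_50_1 (flp_h L261822) (flp_g L246613) L358421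
theorem L358430 : sm gh N29091 = N42385 := rfl
theorem L358432 : sm gb N42385 = N29099 := ded_25_1 (flp_h L246690) (flp_b L246617) L358430
theorem L358434 : sm ge N42385 = N29095 := ded_43_1 (flp_h L246655) (flp_e L246620) L358430
theorem L358436 : sm gg N42385 = N29234 := ded_50_1 (flp_h L247871) (flp_g L246624) L358430
theorem L358438 : sm gj N42385 = N29092 := ded_52_1 (flp_h L246626) L246615 L358430
theorem L358440 : sm gd N29092 = N42386 := rfl
theorem L358442 : sm gb N42386 = N29100 := ded_20_1 (flp_d L246699) (flp_b L246628) L358440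
theorem L358444 : sm gg N42386 = N29093 := ded_36_2 (flp_d L246634) (flp_g L246632) L358440
theorem L358446 : sm gh N42386 = N42386 := ded_38_2 (flp_d L358440) (flp_h L246626) L169933 L246626 L358440
theorem L358447 : sm gi N29092 = N42387 := rfl
theorem L358449 : sm gb N42387 = N29101 := ded_26_1 (flp_i L246705) (flp_b L246628) L358447
theorem L358451 : sm ge N42387 = N29096 := ded_44_1 (flp_i L246664) (flp_e L246630) L358447
theorem L358453 : sm gg N42387 = N29094 := ded_51_1 (flp_i L246643) (flp_g L246632) L358447
theorem L358455 : sm gh N42387 = N29145 := ded_54_1 (flp_i L247095) (flp_h L170240) (flp_i L169936) L246626 L358447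
theorem L358457 : sm gc N29093 = N42388 := rfl
theorem L358459 : sm gf N42388 = N30872 := ded_29_2 (flp_c L261857) (flp_f L246638) L358457
theorem L358461 : sm gj N42388 = N29237 := ded_31_2 (flp_c L247896) (flp_j L246640) L358457
theorem L358463 : sm gh N42388 = N42388 := ded_32_2 (flp_c L358457) L246642 L358457
theorem L358464 : sm gi N29093 = N42389 := rfl
theorem L358466 : sm gb N42389 = N29103 := ded_26_1 (flp_i L246722) (flp_b L246636) L358464
theorem L358468 : sm gd N42389 = N29094 := ded_39_1 (flp_i L246643) L246634 L358464
theorem L358470 : sm gf N42389 = N30873 := ded_48_1 (flp_i L261863) (flp_f L246638) L358464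
theorem L358472 : sm gj N42389 = N29238 := ded_53_1 (flp_i L247901) (flp_j L246640) L358464
theorem L358474 : sm gi N29095 = N42390 := rfl
theorem L358476 : sm gb N42390 = N29104 := ded_26_1 (flp_i L246731) (flp_b L246657) L358474
theorem L358478 : sm gf N42390 = N42390 := ded_48_1 (flp_i L358474) L246659 L358474
theorem L358479 : sm gg N42390 = N29239 := ded_51_1 (flp_i L247909) (flp_g L246660) L358474
theorem L358481 : sm gj N42390 = N29096 := ded_53_1 (flp_i L246664) (flp_j L246662) L358474
theorem L358483 : sm gh N42390 = N29148 := ded_54_1 (flp_i L247122) (flp_h L170268) (flp_i L169955) L246655 L358474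
theorem L358485 : sm gg N29097 = N42391 := rfl
theorem L358487 : sm ga N42391 = N42391 := ded_15_1 (flp_g L358485) L246675 L358485
theorem L358488 : sm gd N42391 = N42391 := ded_36_1 (flp_g L358485) L246676 L358485
theorem L358489 : sm ge N42391 = N42391 := ded_41_1 (flp_g L358485) L246677 L358485
theorem L358490 : sm gi N42391 = N29149 := ded_51_2 (flp_g L247132) (flp_i L246680) L358485
theorem L358492 : sm gf N42391 = N29240 := ded_45_1 (flp_g L247919) L170821 (flp_g L169993) (flp_f L246678) L358485
theorem L358494 : sm gj N42391 = N30875 := ded_49_2 (flp_g L261884) (flp_j L180207) (flp_g L169983) L246673 L358485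
theorem L358496 : sm gh N29097 = N42392 := rfl
theorem L358498 : sm ga N42392 = N42392 := ded_17_1 (flp_h L358496) L246675 L358496
theorem L358499 : sm ge N42392 = N42392 := ded_43_1 (flp_h L358496) L246677 L358496
theorem L358500 : sm gf N42392 = N29099 := ded_47_1 (flp_h L246690) (flp_f L246678) L358496
theorem L358502 : sm gj N42392 = N29098 := ded_52_1 (flp_h L246682) L246673 L358496
theorem L358504 : sm gd N29098 = N42393 := rfl
theorem L358507 : sm gf N42393 = N29100 := ded_35_2 (flp_d L246699) (flp_f L246686) L358504
theorem L358509 : sm gg N42393 = N30877 := ded_36_2 (flp_d L261901) (flp_g L246688) L358504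
theorem L358512 : sm gi N29098 = N42394 := rfl
theorem L358514 : sm ga N42394 = N42394 := ded_18_1 (flp_i L358512) L246684 L358512
theorem L358515 : sm ge N42394 = N42394 := ded_44_1 (flp_i L358512) L246685 L358512
theorem L358516 : sm gf N42394 = N29101 := ded_48_1 (flp_i L246705) (flp_f L246686) L358512
theorem L358518 : sm gg N42394 = N30878 := ded_51_1 (flp_i L261907) (flp_g L246688) L358512
theorem L358520 : sm gh N42394 = N29152 := ded_54_1 (flp_i L247157) (flp_h L170293) (flp_i L169980) L246682 L358512
theorem L358522 : sm gd N29099 = N42395 := rfl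
theorem L358524 : sm ga N42395 = N42395 := ded_12_1 (flp_d L358522) L246692 L358522
theorem L358525 : sm gg N42395 = N29244 := ded_36_2 (flp_d L247957) (flp_g L246695) L358522
theorem L358527 : sm gj N42395 = N29100 := ded_37_2 (flp_d L246699) (flp_j L246697) L358522
theorem L358529 : sm gh N42395 = N42395 := ded_38_2 (flp_d L358522) (flp_h L246690) L169988 L246690 L358522
theorem L358530 : sm gi N29099 = N42396 := rfl
theorem L358532 : sm ga N42396 = N42396 := ded_18_1 (flp_i L358530) L246692 L358530
theorem L358533 : sm ge N42396 = N29104 := ded_44_1 (flp_i L246731) (flp_e L246693) L358530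
theorem L358535 : sm gg N42396 = N29245 := ded_51_1 (flp_i L247963) (flp_g L246695) L358530
theorem L358537 : sm gj N42396 = N29101 := ded_53_1 (flp_i L246705) (flp_j L246697) L358530
theorem L358539 : sm gh N42396 = N29154 := ded_54_1 (flp_i L247174) (flp_h L170301) (flp_i L169991) L246690 L358530
theorem L358541 : sm gc N29100 = N42397 := rfl
theorem L358544 : sm gg N42397 = N29102 := ded_30_2 (flp_c L246714) (flp_g L246702) L358541
theorem L358547 : sm gi N29100 = N42398 := rfl
theorem L358549 : sm ga N42398 = N42398 := ded_18_1 (flp_i L358547) L246701 L358547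
theorem L358550 : sm gd N42398 = N29101 := ded_39_1 (flp_i L246705) L246699 L358547
theorem L358552 : sm gg N42398 = N29103 := ded_51_1 (flp_i L246722) (flp_g L246702) L358547
theorem L358554 : sm gb N29102 = N42399 := rfl
theorem L358556 : sm gf N42399 = N30883 := ded_22_2 (flp_b L261950) (flp_f L246717) L358554
theorem L358558 : sm gj N42399 = N29248 := ded_24_2 (flp_b L247985) (flp_j L246719) L358554
theorem L358560 : sm gh N42399 = N42399 := ded_25_2 (flp_b L358554) L246721 L358554
theorem L358561 : sm gi N29102 = N42400 := rfl
theorem L358563 : sm ga N42400 = N42400 := ded_18_1 (flp_i L358561) L246716 L358561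
theorem L358564 : sm gc N42400 = N29103 := ded_33_1 (flp_i L246722) L246714 L358561
theorem L358566 : sm gf N42400 = N30884 := ded_48_1 (flp_i L261956) (flp_f L246717) L358561
theorem L358568 : sm gj N42400 = N29249 := ded_53_1 (flp_i L247990) (flp_j L246719) L358561
theorem L358570 : sm gh N29103 = N42401 := rfl
theorem L358572 : sm ga N42401 = N42401 := ded_17_1 (flp_h L358570) L246724 L358570
theorem L358573 : sm gf N42401 = N30885 := ded_47_1 (flp_h L261964) (flp_f L246727) L358570
theorem L358575 : sm gj N42401 = N29250 := ded_52_1 (flp_h L247997) (flp_j L246729) L358570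
theorem L358577 : sm gd N42401 = N29159 := ded_38_1 (flp_h L247216) L170336 (flp_h L170019) (flp_d L246725) L358570
theorem L358579 : sm gi N42401 = N42401 := ded_54_2 (flp_h L358570) (flp_i L246722) L170009 L246722 L358570
theorem L358580 : sm gd N29105 = N42402 := rfl
theorem L358582 : sm gb N42402 = N29110 := ded_20_1 (flp_d L246784) (flp_b L246743) L358580
theorem L358584 : sm gf N42402 = N30886 := ded_35_2 (flp_d L261973) (flp_f L246748) L358580
theorem L358586 : sm gj N42402 = N29251 := ded_37_2 (flp_d L248005) (flp_j L246746) L358580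
theorem L358588 : sm ge N42402 = N42402 := ded_34_2 (flp_d L358580) (flp_e L246741) L170042 L246741 L358580
theorem L358589 : sm gg N29105 = N42403 := rfl
theorem L358591 : sm gb N42403 = N29111 := ded_23_1 (flp_g L246794) (flp_b L246743) L358589
theorem L358593 : sm gc N42403 = N42403 := ded_30_1 (flp_g L358589) L246745 L358589
theorem L358594 : sm ge N42403 = N29106 := ded_41_1 (flp_g L246750) L246741 L358589
theorem L358596 : sm gh N29105 = N42404 := rfl
theorem L358598 : sm gb N42404 = N29112 := ded_25_1 (flp_h L246802) (flp_b L246743) L358596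
theorem L358600 : sm gc N42404 = N42404 := ded_32_1 (flp_h L358596) L246745 L358596
theorem L358601 : sm ge N42404 = N29107 := ded_43_1 (flp_h L246757) L246741 L358596
theorem L358603 : sm gf N42404 = N30888 := ded_47_1 (flp_h L261988) (flp_f L246748) L358596
theorem L358605 : sm gj N42404 = N29253 := ded_52_1 (flp_h L248019) (flp_j L246746) L358596
theorem L358607 : sm gj N29106 = N42405 := rfl
theorem L358609 : sm gb N42405 = N29113 := ded_24_1 (flp_j L246814) (flp_b L246752) L358607
theorem L358611 : sm gc N42405 = N42405 := ded_31_1 (flp_j L358607) L246754 L358607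
theorem L358612 : sm gd N42405 = N42405 := ded_37_1 (flp_j L358607) L246755 L358607
theorem L358613 : sm gf N42405 = N42405 := ded_46_1 (flp_j L358607) L246756 L358607
theorem L358614 : sm gg N42405 = N29254 := ded_49_1 (flp_j L248028) (flp_g L170885) (flp_j L170043) L246750 L358607
theorem L358616 : sm gh N29106 = N42406 := rfl
theorem L358618 : sm gb N42406 = N29114 := ded_25_1 (flp_h L246824) (flp_b L246752) L358616
theorem L358620 : sm gc N42406 = N42406 := ded_32_1 (flp_h L358616) L246754 L358616
theorem L358621 : sm gf N42406 = N42406 := ded_47_1 (flp_h L358616) L246756 L358616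
theorem L358622 : sm gg N42406 = N29107 := ded_50_1 (flp_h L246757) L246750 L358616
theorem L358624 : sm gd N29107 = N42407 := rfl
theorem L358626 : sm gb N42407 = N29115 := ded_20_1 (flp_d L246833) (flp_b L246759) L358624
theorem L358633 : sm gi N29107 = N42408 := rfl
theorem L358635 : sm gb N42408 = N29116 := ded_26_1 (flp_i L246843) (flp_b L246759) L358633
theorem L358637 : sm gc N42408 = N42408 := ded_33_1 (flp_i L358633) L246761 L358633
theorem L358638 : sm gf N42408 = N29109 := ded_48_1 (flp_i L246774) (flp_f L246762) L358633
theorem L358640 : sm gj N42408 = N29257 := ded_53_1 (flp_i L248052) (flp_j L246764) L358633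
theorem L358642 : sm gc N29108 = N42409 := rfl
theorem L358645 : sm gj N42409 = N29258 := ded_31_2 (flp_c L248059) (flp_j L246771) L358642
theorem L358650 : sm ge N29108 = N42410 := rfl
theorem L358655 : sm gj N42410 = N29259 := ded_42_2 (flp_e L248066) (flp_j L246771) L358650
theorem L358660 : sm gi N29108 = N42411 := rfl
theorem L358662 : sm gb N42411 = N29118 := ded_26_1 (flp_i L246864) (flp_b L246768) L358660
theorem L358664 : sm gd N42411 = N29109 := ded_39_1 (flp_i L246774) L246766 L358660
theorem L358669 : sm gg N29110 = N42412 := rfl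
theorem L358671 : sm ga N42412 = N29126 := ded_15_1 (flp_g L246944) (flp_a L246786) L358669
theorem L358673 : sm gc N42412 = N42412 := ded_30_1 (flp_g L358669) L246792 L358669
theorem L358674 : sm gd N42412 = N29111 := ded_36_1 (flp_g L246794) L246784 L358669
theorem L358676 : sm ge N42412 = N42412 := ded_41_1 (flp_g L358669) L246793 L358669
theorem L358677 : sm gh N29110 = N42413 := rfl
theorem L358679 : sm ga N42413 = N29127 := ded_17_1 (flp_h L246950) (flp_a L246786) L358677
theorem L358681 : sm gc N42413 = N42413 := ded_32_1 (flp_h L358677) L246792 L358677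
theorem L358682 : sm ge N42413 = N42413 := ded_43_1 (flp_h L358677) L246793 L358677
theorem L358683 : sm gf N42413 = N30897 := ded_47_1 (flp_h L262071) (flp_f L246788) L358677
theorem L358685 : sm gj N42413 = N29262 := ded_52_1 (flp_h L248091) (flp_j L246790) L358677
theorem L358687 : sm gf N29111 = N42414 := rfl
theorem L358689 : sm ga N42414 = N29128 := ded_14_1 (flp_f L246958) (flp_a L246796) L358687
theorem L358691 : sm gc N42414 = N29119 := ded_29_1 (flp_f L246874) (flp_c L246798) L358687
theorem L358693 : sm ge N42414 = N42414 := ded_40_1 (flp_f L358687) L246800 L170072 (flp_e L246800) L358687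
theorem L358694 : sm gg N42414 = N30898 := ded_45_2 (flp_f L262080) (flp_g L180323) (flp_f L170063) L246794 L358687
theorem L358696 : sm gj N29111 = N42415 := rfl
theorem L358698 : sm ga N42415 = N29129 := ded_16_1 (flp_j L246965) (flp_a L246796) L358696
theorem L358700 : sm gc N42415 = N29120 := ded_31_1 (flp_j L246883) (flp_c L246798) L358696
theorem L358702 : sm ge N42415 = N29113 := ded_42_1 (flp_j L246814) (flp_e L246800) L358696
theorem L358704 : sm gg N42415 = N29264 := ded_49_1 (flp_j L248109) (flp_g L170924) (flp_j L170061) L246794 L358696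
theorem L358706 : sm gh N29111 = N42416 := rfl
theorem L358708 : sm ga N42416 = N29130 := ded_17_1 (flp_h L246973) (flp_a L246796) L358706
theorem L358710 : sm gc N42416 = N29121 := ded_32_1 (flp_h L246893) (flp_c L246798) L358706
theorem L358712 : sm ge N42416 = N29114 := ded_43_1 (flp_h L246824) (flp_e L246800) L358706
theorem L358714 : sm gg N42416 = N29112 := ded_50_1 (flp_h L246802) L246794 L358706
theorem L358716 : sm gd N29112 = N42417 := rfl
theorem L358718 : sm ga N42417 = N29131 := ded_12_1 (flp_d L246981) (flp_a L246804) L358716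
theorem L358720 : sm gf N42417 = N30901 := ded_35_2 (flp_d L262107) (flp_f L246810) L358716
theorem L358722 : sm gj N42417 = N29266 := ded_37_2 (flp_d L248127) (flp_j L246812) L358716
theorem L358724 : sm gi N29112 = N42418 := rfl
theorem L358726 : sm ga N42418 = N29132 := ded_18_1 (flp_i L246987) (flp_a L246804) L358724
theorem L358728 : sm gc N42418 = N29123 := ded_33_1 (flp_i L246913) (flp_c L246806) L358724
theorem L358730 : sm ge N42418 = N29116 := ded_44_1 (flp_i L246843) (flp_e L246808) L358724
theorem L358732 : sm gf N42418 = N30902 := ded_48_1 (flp_i L262113) (flp_f L246810) L358724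
theorem L358734 : sm gj N42418 = N29267 := ded_53_1 (flp_i L248133) (flp_j L246812) L358724
theorem L358736 : sm gh N29113 = N42419 := rfl
theorem L358738 : sm ga N42419 = N29133 := ded_17_1 (flp_h L246997) (flp_a L246816) L358736
theorem L358740 : sm gc N42419 = N29124 := ded_32_1 (flp_h L246924) (flp_c L246818) L358736
theorem L358742 : sm gf N42419 = N42419 := ded_47_1 (flp_h L358736) L246821 L358736
theorem L358743 : sm gg N42419 = N29268 := ded_50_1 (flp_h L248143) (flp_g L246822) L358736
theorem L358745 : sm gj N42419 = N29114 := ded_52_1 (flp_h L246824) L246814 L358736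
theorem L358747 : sm gd N29114 = N42420 := rfl
theorem L358749 : sm ga N42420 = N29134 := ded_12_1 (flp_d L247006) (flp_a L246826) L358747
theorem L358751 : sm gf N42420 = N42420 := ded_35_2 (flp_d L358747) L246830 L358747
theorem L358752 : sm gg N42420 = N29115 := ded_36_2 (flp_d L246833) (flp_g L246831) L358747
theorem L358754 : sm gc N42420 = N42420 := ded_27_1 (flp_d L358747) L246828 L170140 (flp_c L246828) L358747
theorem L358755 : sm gh N42420 = N42420 := ded_38_2 (flp_d L358747) (flp_h L246824) L170071 L246824 L358747
theorem L358756 : sm gi N29114 = N42421 := rfl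
theorem L358758 : sm ga N42421 = N29135 := ded_18_1 (flp_i L247013) (flp_a L246826) L358756
theorem L358760 : sm gc N42421 = N29125 := ded_33_1 (flp_i L246935) (flp_c L246828) L358756
theorem L358762 : sm gf N42421 = N42421 := ded_48_1 (flp_i L358756) L246830 L358756
theorem L358763 : sm gg N42421 = N29116 := ded_51_1 (flp_i L246843) (flp_g L246831) L358756
theorem L358765 : sm ge N29115 = N42422 := rfl
theorem L358767 : sm ga N42422 = N29136 := ded_13_1 (flp_e L247020) (flp_a L246835) L358765
theorem L358769 : sm gc N42422 = N42422 := ded_28_1 (flp_e L358765) L246841 L358765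
theorem L358770 : sm gj N42422 = N29271 := ded_42_2 (flp_e L248173) (flp_j L246839) L358765
theorem L358772 : sm gh N42422 = N42422 := ded_43_2 (flp_e L358765) L246842 L358765
theorem L358773 : sm gi N29115 = N42423 := rfl
theorem L358775 : sm ga N42423 = N29137 := ded_18_1 (flp_i L247026) (flp_a L246835) L358773
theorem L358777 : sm gc N42423 = N42423 := ded_33_1 (flp_i L358773) L246841 L358773
theorem L358778 : sm gd N42423 = N29116 := ded_39_1 (flp_i L246843) L246833 L358773
theorem L358780 : sm gf N42423 = N29118 := ded_48_1 (flp_i L246864) (flp_f L246837) L358773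
theorem L358782 : sm gj N42423 = N29272 := ded_53_1 (flp_i L248179) (flp_j L246839) L358773
theorem L358784 : sm gf N29117 = N42424 := rfl
theorem L358786 : sm ga N42424 = N29138 := ded_14_1 (flp_f L247035) (flp_a L246855) L358784
theorem L358791 : sm gj N42424 = N29273 := ded_46_2 (flp_f L248188) (flp_j L246859) L358784
theorem L358794 : sm gi N29117 = N42425 := rfl
theorem L358796 : sm ga N42425 = N29139 := ded_18_1 (flp_i L247043) (flp_a L246855) L358794
theorem L358799 : sm gd N42425 = N30909 := ded_39_1 (flp_i L262186) (flp_d L246862) L358794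
theorem L358801 : sm ge N42425 = N29118 := ded_44_1 (flp_i L246864) L246853 L358794
theorem L358806 : sm gh N29118 = N42426 := rfl
theorem L358808 : sm ga N42426 = N29140 := ded_17_1 (flp_h L247053) (flp_a L246866) L358806
theorem L358810 : sm gc N42426 = N42426 := ded_32_1 (flp_h L358806) L246868 L358806
theorem L358811 : sm gg N42426 = N42426 := ded_50_1 (flp_h L358806) L246871 L358806
theorem L358812 : sm gj N42426 = N29275 := ded_52_1 (flp_h L248207) (flp_j L246872) L358806
theorem L358814 : sm gi N42426 = N42426 := ded_54_2 (flp_h L358806) (flp_i L246864) L170091 L246864 L358806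
theorem L358815 : sm gj N29119 = N42427 := rfl
theorem L358817 : sm ga N42427 = N29141 := ded_16_1 (flp_j L247060) (flp_a L246876) L358815
theorem L358819 : sm gb N42427 = N42427 := ded_24_1 (flp_j L358815) L246878 L358815
theorem L358820 : sm gd N42427 = N42427 := ded_37_1 (flp_j L358815) L246879 L358815
theorem L358821 : sm ge N42427 = N42427 := ded_42_1 (flp_j L358815) L246880 L358815
theorem L358822 : sm gf N42427 = N29120 := ded_46_1 (flp_j L246883) L246874 L358815
theorem L358824 : sm gh N29119 = N42428 := rfl
theorem L358826 : sm ga N42428 = N29142 := ded_17_1 (flp_h L247068) (flp_a L246876) L358824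
theorem L358828 : sm gb N42428 = N42428 := ded_25_1 (flp_h L358824) L246878 L358824
theorem L358829 : sm ge N42428 = N42428 := ded_43_1 (flp_h L358824) L246880 L358824
theorem L358830 : sm gf N42428 = N29121 := ded_47_1 (flp_h L246893) L246874 L358824
theorem L358832 : sm gg N42428 = N30912 := ded_50_1 (flp_h L262217) (flp_g L246881) L358824
theorem L358834 : sm gh N29120 = N42429 := rfl
theorem L358836 : sm ga N42429 = N29143 := ded_17_1 (flp_h L247077) (flp_a L246885) L358834
theorem L358838 : sm gb N42429 = N42429 := ded_25_1 (flp_h L358834) L246887 L358834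
theorem L358839 : sm ge N42429 = N29124 := ded_43_1 (flp_h L246924) (flp_e L246889) L358834
theorem L358841 : sm gg N42429 = N29278 := ded_50_1 (flp_h L248236) (flp_g L246891) L358834
theorem L358843 : sm gj N42429 = N29121 := ded_52_1 (flp_h L246893) L246883 L358834
theorem L358845 : sm gd N29121 = N42430 := rfl
theorem L358847 : sm ga N42430 = N29144 := ded_12_1 (flp_d L247087) (flp_a L246895) L358845
theorem L358849 : sm gb N42430 = N42430 := ded_20_1 (flp_d L358845) L246897 L358845
theorem L358850 : sm gg N42430 = N29122 := ded_36_2 (flp_d L246902) (flp_g L246900) L358845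
theorem L358852 : sm ge N42430 = N42430 := ded_34_2 (flp_d L358845) L246898 L170140 (flp_e L246898) L358845
theorem L358853 : sm gh N42430 = N42430 := ded_38_2 (flp_d L358845) (flp_h L246893) L170108 L246893 L358845
theorem L358854 : sm gi N29121 = N42431 := rfl
theorem L358856 : sm ga N42431 = N29145 := ded_18_1 (flp_i L247095) (flp_a L246895) L358854
theorem L358858 : sm gb N42431 = N42431 := ded_26_1 (flp_i L358854) L246897 L358854
theorem L358859 : sm ge N42431 = N29125 := ded_44_1 (flp_i L246935) (flp_e L246898) L358854
theorem L358861 : sm gg N42431 = N29123 := ded_51_1 (flp_i L246913) (flp_g L246900) L358854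
theorem L358863 : sm gc N29122 = N42432 := rfl
theorem L358865 : sm ga N42432 = N29146 := ded_11_1 (flp_c L247103) (flp_a L246904) L358863
theorem L358867 : sm ge N42432 = N42432 := ded_28_2 (flp_c L358863) L246911 L358863
theorem L358868 : sm gf N42432 = N30916 := ded_29_2 (flp_c L262255) (flp_f L246907) L358863
theorem L358870 : sm gj N42432 = N29281 := ded_31_2 (flp_c L248263) (flp_j L246909) L358863
theorem L358872 : sm gh N42432 = N42432 := ded_32_2 (flp_c L358863) L246912 L358863
theorem L358873 : sm gi N29122 = N42433 := rfl
theorem L358875 : sm ga N42433 = N29147 := ded_18_1 (flp_i L247111) (flp_a L246904) L358873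
theorem L358877 : sm gb N42433 = N42433 := ded_26_1 (flp_i L358873) L246906 L358873
theorem L358878 : sm gd N42433 = N29123 := ded_39_1 (flp_i L246913) L246902 L358873
theorem L358880 : sm ge N42433 = N42433 := ded_44_1 (flp_i L358873) L246911 L358873
theorem L358881 : sm gf N42433 = N30917 := ded_48_1 (flp_i L262264) (flp_f L246907) L358873
theorem L358883 : sm gj N42433 = N29282 := ded_53_1 (flp_i L248271) (flp_j L246909) L358873
theorem L358885 : sm gi N29124 = N42434 := rfl
theorem L358887 : sm ga N42434 = N29148 := ded_18_1 (flp_i L247122) (flp_a L246926) L358885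
theorem L358889 : sm gb N42434 = N42434 := ded_26_1 (flp_i L358885) L246928 L358885
theorem L358890 : sm gd N42434 = N42434 := ded_39_1 (flp_i L358885) L246934 L358885
theorem L358891 : sm gf N42434 = N42434 := ded_48_1 (flp_i L358885) L246929 L358885
theorem L358892 : sm gg N42434 = N29283 := ded_51_1 (flp_i L248281) (flp_g L246930) L358885
theorem L358894 : sm gj N42434 = N29125 := ded_53_1 (flp_i L246935) (flp_j L246932) L358885
theorem L358896 : sm gf N29126 = N42435 := rfl
theorem L358898 : sm gc N42435 = N42435 := ded_29_1 (flp_f L358896) L246946 L358896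
theorem L358899 : sm gd N42435 = N29128 := ded_35_1 (flp_f L246958) (flp_d L246947) L358896
theorem L358901 : sm gg N42435 = N30919 := ded_45_2 (flp_f L262287) (flp_g L180472) (flp_f L170153) L246944 L358896
theorem L358903 : sm gj N29126 = N42436 := rfl
theorem L358905 : sm gc N42436 = N42436 := ded_31_1 (flp_j L358903) L246946 L358903
theorem L358906 : sm gd N42436 = N29129 := ded_37_1 (flp_j L246965) (flp_d L246947) L358903
theorem L358908 : sm ge N42436 = N42436 := ded_42_1 (flp_j L358903) L246949 L358903
theorem L358909 : sm gg N42436 = N29285 := ded_49_1 (flp_j L248298) (flp_g L171061) (flp_j L170155) L246944 L358903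
theorem L358911 : sm gh N29126 = N42437 := rfl
theorem L358913 : sm gc N42437 = N42437 := ded_32_1 (flp_h L358911) L246946 L358911
theorem L358914 : sm ge N42437 = N42437 := ded_43_1 (flp_h L358911) L246949 L358911
theorem L358915 : sm gg N42437 = N29127 := ded_50_1 (flp_h L246950) L246944 L358911
theorem L358917 : sm gd N29127 = N42438 := rfl
theorem L358919 : sm gf N42438 = N30922 := ded_35_2 (flp_d L262308) (flp_f L246954) L358917
theorem L358921 : sm gj N42438 = N29287 := ded_37_2 (flp_d L248310) (flp_j L246956) L358917
theorem L358923 : sm gh N42438 = N29131 := ded_38_2 (flp_d L246981) (flp_h L170165) L170151 L246950 L358917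
theorem L358925 : sm gi N29127 = N42439 := rfl
theorem L358927 : sm gc N42439 = N42439 := ded_33_1 (flp_i L358925) L246952 L358925
theorem L358928 : sm ge N42439 = N42439 := ded_44_1 (flp_i L358925) L246953 L358925
theorem L358929 : sm gf N42439 = N30923 := ded_48_1 (flp_i L262314) (flp_f L246954) L358925
theorem L358931 : sm gj N42439 = N29288 := ded_53_1 (flp_i L248316) (flp_j L246956) L358925
theorem L358933 : sm gj N29128 = N42440 := rfl
theorem L358935 : sm gc N42440 = N29141 := ded_31_1 (flp_j L247060) (flp_c L246960) L358933
theorem L358937 : sm ge N42440 = N42440 := ded_42_1 (flp_j L358933) L246962 L358933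
theorem L358938 : sm gf N42440 = N29129 := ded_46_1 (flp_j L246965) L246958 L358933
theorem L358940 : sm gh N29128 = N42441 := rfl
theorem L358942 : sm gc N42441 = N29142 := ded_32_1 (flp_h L247068) (flp_c L246960) L358940
theorem L358944 : sm ge N42441 = N42441 := ded_43_1 (flp_h L358940) L246962 L358940
theorem L358945 : sm gf N42441 = N29130 := ded_47_1 (flp_h L246973) L246958 L358940
theorem L358947 : sm gg N42441 = N30925 := ded_50_1 (flp_h L262328) (flp_g L246963) L358940
theorem L358949 : sm gh N29129 = N42442 := rfl
theorem L358951 : sm gc N42442 = N29143 := ded_32_1 (flp_h L247077) (flp_c L246967) L358949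
theorem L358953 : sm ge N42442 = N29133 := ded_43_1 (flp_h L246997) (flp_e L246969) L358949
theorem L358955 : sm gg N42442 = N29291 := ded_50_1 (flp_h L248340) (flp_g L246971) L358949
theorem L358957 : sm gj N42442 = N29130 := ded_52_1 (flp_h L246973) L246965 L358949
theorem L358959 : sm gd N29130 = N42443 := rfl
theorem L358961 : sm gg N42443 = N29131 := ded_36_2 (flp_d L246981) (flp_g L246979) L358959
theorem L358963 : sm gi N29130 = N42444 := rfl
theorem L358965 : sm gc N42444 = N29145 := ded_33_1 (flp_i L247095) (flp_c L246975) L358963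
theorem L358967 : sm ge N42444 = N29135 := ded_44_1 (flp_i L247013) (flp_e L246977) L358963
theorem L358969 : sm gg N42444 = N29132 := ded_51_1 (flp_i L246987) (flp_g L246979) L358963
theorem L358971 : sm gc N29131 = N42445 := rfl
theorem L358973 : sm gf N42445 = N30929 := ded_29_2 (flp_c L262357) (flp_f L246983) L358971
theorem L358975 : sm gj N42445 = N29294 := ded_31_2 (flp_c L248360) (flp_j L246985) L358971
theorem L358977 : sm gd N42445 = N29146 := ded_27_2 (flp_c L247103) (flp_d L170248) (flp_c L170167) L246981 L358971
theorem L358979 : sm ge N29131 = N42446 := rfl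
theorem L358981 : sm gj N42446 = N29295 := ded_42_2 (flp_e L248366) (flp_j L246985) L358979
theorem L358983 : sm gd N42446 = N29136 := ded_34_1 (flp_e L247020) (flp_d L170190) (flp_e L170169) L246981 L358979
theorem L358985 : sm gi N29131 = N42447 := rfl
theorem L358987 : sm gd N42447 = N29132 := ded_39_1 (flp_i L246987) L246981 L358985
theorem L358989 : sm gf N42447 = N30931 := ded_48_1 (flp_i L262369) (flp_f L246983) L358985
theorem L358991 : sm gj N42447 = N29296 := ded_53_1 (flp_i L248370) (flp_j L246985) L358985
theorem L358993 : sm gd N29133 = N42448 := rfl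
theorem L358996 : sm gg N42448 = N29297 := ded_36_2 (flp_d L248376) (flp_g L247002) L358993
theorem L358998 : sm gj N42448 = N29134 := ded_37_2 (flp_d L247006) (flp_j L247004) L358993
theorem L359002 : sm gi N29133 = N42449 := rfl
theorem L359004 : sm gc N42449 = N29148 := ded_33_1 (flp_i L247122) (flp_c L246999) L359002
theorem L359006 : sm gf N42449 = N42449 := ded_48_1 (flp_i L359002) L247001 L359002
theorem L359007 : sm gg N42449 = N29298 := ded_51_1 (flp_i L248384) (flp_g L247002) L359002
theorem L359009 : sm gj N42449 = N29135 := ded_53_1 (flp_i L247013) (flp_j L247004) L359002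
theorem L359011 : sm ge N29134 = N42450 := rfl
theorem L359013 : sm gc N42450 = N42450 := ded_28_1 (flp_e L359011) L247011 L359011
theorem L359014 : sm gg N42450 = N29136 := ded_41_2 (flp_e L247020) (flp_g L247009) L359011
theorem L359016 : sm gh N42450 = N42450 := ded_43_2 (flp_e L359011) L247012 L359011
theorem L359017 : sm gi N29134 = N42451 := rfl
theorem L359019 : sm gc N42451 = N42451 := ded_33_1 (flp_i L359017) L247011 L359017
theorem L359020 : sm gd N42451 = N29135 := ded_39_1 (flp_i L247013) L247006 L359017
theorem L359022 : sm gf N42451 = N42451 := ded_48_1 (flp_i L359017) L247008 L359017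
theorem L359023 : sm gg N42451 = N29137 := ded_51_1 (flp_i L247026) (flp_g L247009) L359017
theorem L359025 : sm gf N29136 = N42452 := rfl
theorem L359027 : sm gc N42452 = N42452 := ded_29_1 (flp_f L359025) L247022 L359025
theorem L359028 : sm gj N42452 = N29301 := ded_46_2 (flp_f L248407) (flp_j L247023) L359025
theorem L359030 : sm gh N42452 = N42452 := ded_47_2 (flp_f L359025) L247025 L359025
theorem L359031 : sm ge N42452 = N29138 := ded_40_1 (flp_f L247035) (flp_e L170206) (flp_f L170192) L247020 L359025
theorem L359033 : sm gi N29136 = N42453 := rfl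
theorem L359035 : sm gc N42453 = N42453 := ded_33_1 (flp_i L359033) L247022 L359033
theorem L359036 : sm ge N42453 = N29137 := ded_44_1 (flp_i L247026) L247020 L359033
theorem L359038 : sm gj N42453 = N29302 := ded_53_1 (flp_i L248413) (flp_j L247023) L359033
theorem L359040 : sm gh N29137 = N42454 := rfl
theorem L359042 : sm gc N42454 = N42454 := ded_32_1 (flp_h L359040) L247028 L359040
theorem L359043 : sm gf N42454 = N29140 := ded_47_1 (flp_h L247053) (flp_f L247031) L359040
theorem L359045 : sm gj N42454 = N29303 := ded_52_1 (flp_h L248418) (flp_j L247033) L359040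
theorem L359047 : sm gi N42454 = N42454 := ded_54_2 (flp_h L359040) (flp_i L247026) L170197 L247026 L359040
theorem L359048 : sm gg N29138 = N42455 := rfl
theorem L359050 : sm gc N42455 = N42455 := ded_30_1 (flp_g L359048) L247037 L359048
theorem L359051 : sm gd N42455 = N30939 := ded_36_1 (flp_g L262440) (flp_d L247038) L359048
theorem L359053 : sm gh N42455 = N42455 := ded_50_2 (flp_g L359048) L247042 L359048
theorem L359054 : sm gf N42455 = N42455 := ded_45_1 (flp_g L359048) (flp_f L247035) L170209 L247035 L359048
theorem L359055 : sm gi N29138 = N42456 := rfl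
theorem L359057 : sm gc N42456 = N42456 := ded_33_1 (flp_i L359055) L247037 L359055
theorem L359058 : sm gd N42456 = N30940 := ded_39_1 (flp_i L262447) (flp_d L247038) L359055
theorem L359060 : sm gf N42456 = N29139 := ded_48_1 (flp_i L247043) L247035 L359055
theorem L359062 : sm gj N42456 = N29305 := ded_53_1 (flp_i L248432) (flp_j L247040) L359055
theorem L359064 : sm gh N29139 = N42457 := rfl
theorem L359066 : sm gc N42457 = N42457 := ded_32_1 (flp_h L359064) L247045 L359064
theorem L359067 : sm ge N42457 = N29140 := ded_43_1 (flp_h L247053) (flp_e L247048) L359064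
theorem L359069 : sm gg N42457 = N42457 := ded_50_1 (flp_h L359064) L247050 L359064
theorem L359070 : sm gj N42457 = N29306 := ded_52_1 (flp_h L248439) (flp_j L247051) L359064
theorem L359072 : sm gi N42457 = N42457 := ded_54_2 (flp_h L359064) (flp_i L247043) L170212 L247043 L359064
theorem L359073 : sm gg N29141 = N42458 := rfl
theorem L359075 : sm gb N42458 = N29149 := ded_23_1 (flp_g L247132) (flp_b L247062) L359073
theorem L359077 : sm gd N42458 = N42458 := ded_36_1 (flp_g L359073) L247064 L359073
theorem L359078 : sm ge N42458 = N42458 := ded_41_1 (flp_g L359073) L247065 L359073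
theorem L359079 : sm gf N42458 = N29307 := ded_45_1 (flp_g L248447) L171170 (flp_g L170238) (flp_f L247066) L359073
theorem L359081 : sm gj N42458 = N30942 := ded_49_2 (flp_g L262466) (flp_j L180588) (flp_g L170229) L247060 L359073
theorem L359083 : sm gh N29141 = N42459 := rfl
theorem L359085 : sm gb N42459 = N29150 := ded_25_1 (flp_h L247141) (flp_b L247062) L359083
theorem L359088 : sm gf N42459 = N29143 := ded_47_1 (flp_h L247077) (flp_f L247066) L359083
theorem L359090 : sm gj N42459 = N29142 := ded_52_1 (flp_h L247068) L247060 L359083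
theorem L359092 : sm gd N29142 = N42460 := rfl
theorem L359096 : sm gf N42460 = N29144 := ded_35_2 (flp_d L247087) (flp_f L247073) L359092
theorem L359098 : sm gg N42460 = N30944 := ded_36_2 (flp_d L262483) (flp_g L247075) L359092
theorem L359101 : sm gi N29142 = N42461 := rfl
theorem L359103 : sm gb N42461 = N29152 := ded_26_1 (flp_i L247157) (flp_b L247070) L359101
theorem L359105 : sm ge N42461 = N42461 := ded_44_1 (flp_i L359101) L247072 L359101
theorem L359106 : sm gf N42461 = N29145 := ded_48_1 (flp_i L247095) (flp_f L247073) L359101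
theorem L359108 : sm gg N42461 = N30945 := ded_51_1 (flp_i L262490) (flp_g L247075) L359101
theorem L359110 : sm gd N29143 = N42462 := rfl
theorem L359112 : sm gb N42462 = N29153 := ded_20_1 (flp_d L247165) (flp_b L247079) L359110
theorem L359114 : sm gg N42462 = N29311 := ded_36_2 (flp_d L248485) (flp_g L247083) L359110
theorem L359116 : sm gj N42462 = N29144 := ded_37_2 (flp_d L247087) (flp_j L247085) L359110
theorem L359120 : sm gi N29143 = N42463 := rfl
theorem L359122 : sm gb N42463 = N29154 := ded_26_1 (flp_i L247174) (flp_b L247079) L359120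
theorem L359124 : sm ge N42463 = N29148 := ded_44_1 (flp_i L247122) (flp_e L247081) L359120
theorem L359126 : sm gg N42463 = N29312 := ded_51_1 (flp_i L248493) (flp_g L247083) L359120
theorem L359128 : sm gj N42463 = N29145 := ded_53_1 (flp_i L247095) (flp_j L247085) L359120
theorem L359130 : sm gc N29144 = N42464 := rfl
theorem L359132 : sm ge N42464 = N42464 := ded_28_2 (flp_c L359130) L247093 L359130
theorem L359133 : sm gg N42464 = N29146 := ded_30_2 (flp_c L247103) (flp_g L247091) L359130
theorem L359135 : sm gh N42464 = N42464 := ded_32_2 (flp_c L359130) L247094 L359130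
theorem L359136 : sm gi N29144 = N42465 := rfl
theorem L359138 : sm gb N42465 = N29156 := ded_26_1 (flp_i L247190) (flp_b L247089) L359136
theorem L359140 : sm gd N42465 = N29145 := ded_39_1 (flp_i L247095) L247087 L359136
theorem L359142 : sm ge N42465 = N42465 := ded_44_1 (flp_i L359136) L247093 L359136
theorem L359143 : sm gg N42465 = N29147 := ded_51_1 (flp_i L247111) (flp_g L247091) L359136
theorem L359145 : sm gb N29146 = N42466 := rfl
theorem L359147 : sm ge N42466 = N42466 := ded_21_2 (flp_b L359145) L247105 L359145
theorem L359148 : sm gf N42466 = N30950 := ded_22_2 (flp_b L262535) (flp_f L247106) L359145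
theorem L359150 : sm gj N42466 = N29315 := ded_24_2 (flp_b L248516) (flp_j L247108) L359145
theorem L359152 : sm gh N42466 = N42466 := ded_25_2 (flp_b L359145) L247110 L359145
theorem L359153 : sm gc N42466 = N29157 := ded_19_2 (flp_b L247198) (flp_c L170324) (flp_b L170250) L247103 L359145
theorem L359155 : sm gi N29146 = N42467 := rfl
theorem L359157 : sm gc N42467 = N29147 := ded_33_1 (flp_i L247111) L247103 L359155
theorem L359159 : sm ge N42467 = N42467 := ded_44_1 (flp_i L359155) L247105 L359155
theorem L359160 : sm gf N42467 = N30951 := ded_48_1 (flp_i L262544) (flp_f L247106) L359155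
theorem L359162 : sm gj N42467 = N29316 := ded_53_1 (flp_i L248524) (flp_j L247108) L359155
theorem L359164 : sm gh N29147 = N42468 := rfl
theorem L359166 : sm gb N42468 = N29159 := ded_25_1 (flp_h L247216) (flp_b L247113) L359164
theorem L359168 : sm ge N42468 = N42468 := ded_43_1 (flp_h L359164) L247117 L359164
theorem L359169 : sm gf N42468 = N30952 := ded_47_1 (flp_h L262552) (flp_f L247118) L359164
theorem L359171 : sm gj N42468 = N29317 := ded_52_1 (flp_h L248531) (flp_j L247120) L359164
theorem L359173 : sm gi N42468 = N42468 := ded_54_2 (flp_h L359164) (flp_i L247111) L170257 L247111 L359164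
theorem L359174 : sm gh N29149 = N42469 := rfl
theorem L359178 : sm gf N42469 = N29318 := ded_47_1 (flp_h L248539) (flp_f L247137) L359174
theorem L359180 : sm gg N42469 = N29150 := ded_50_1 (flp_h L247141) L247132 L359174
theorem L359182 : sm gj N42469 = N30953 := ded_52_1 (flp_h L262561) (flp_j L247139) L359174
theorem L359192 : sm gi N29150 = N42471 := rfl
theorem L359196 : sm gf N42471 = N29154 := ded_48_1 (flp_i L247174) (flp_f L247145) L359192
theorem L359198 : sm gj N42471 = N29152 := ded_53_1 (flp_i L247157) (flp_j L247147) L359192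
theorem L359200 : sm gc N29151 = N42472 := rfl
theorem L359205 : sm gg N42472 = N30956 := ded_30_2 (flp_c L262585) (flp_g L247154) L359200
theorem L359208 : sm ge N29151 = N42473 := rfl
theorem L359211 : sm gg N42473 = N30957 := ded_41_2 (flp_e L262591) (flp_g L247154) L359208
theorem L359216 : sm gi N29151 = N42474 := rfl
theorem L359219 : sm gd N42474 = N29152 := ded_39_1 (flp_i L247157) L247149 L359216
theorem L359221 : sm gf N42474 = N29156 := ded_48_1 (flp_i L247190) (flp_f L247152) L359216
theorem L359223 : sm gg N42474 = N30958 := ded_51_1 (flp_i L262598) (flp_g L247154) L359216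
theorem L359234 : sm gi N29153 = N42476 := rfl
theorem L359237 : sm gd N42476 = N29154 := ded_39_1 (flp_i L247174) L247165 L359234
theorem L359240 : sm gg N42476 = N29325 := ded_51_1 (flp_i L248598) (flp_g L247168) L359234
theorem L359242 : sm gj N42476 = N29156 := ded_53_1 (flp_i L247190) (flp_j L247170) L359234
theorem L359244 : sm gb N29155 = N42477 := rfl
theorem L359247 : sm gg N42477 = N29157 := ded_23_2 (flp_b L247198) (flp_g L247187) L359244
theorem L359250 : sm gi N29155 = N42478 := rfl
theorem L359253 : sm gc N42478 = N29156 := ded_33_1 (flp_i L247190) L247183 L359250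
theorem L359258 : sm gh N29156 = N42479 := rfl
theorem L359260 : sm ga N42479 = N42479 := ded_17_1 (flp_h L359258) L247192 L359258
theorem L359261 : sm ge N42479 = N42479 := ded_43_1 (flp_h L359258) L247195 L359258
theorem L359262 : sm gg N42479 = N29159 := ded_50_1 (flp_h L247216) (flp_g L247196) L359258
theorem L359264 : sm gi N42479 = N42479 := ded_54_2 (flp_h L359258) (flp_i L247190) L170316 L247190 L359258
theorem L359265 : sm ga N29157 = N42480 := rfl
theorem L359267 : sm ge N42480 = N42480 := ded_13_2 (flp_a L359265) L247200 L359265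
theorem L359268 : sm gf N42480 = N30964 := ded_14_2 (flp_a L262650) (flp_f L247201) L359265
theorem L359270 : sm gj N42480 = N29329 := ded_16_2 (flp_a L248627) (flp_j L247203) L359265
theorem L359272 : sm gh N42480 = N42480 := ded_17_2 (flp_a L359265) L247205 L359265
theorem L359273 : sm gb N42480 = N42480 := ded_10_2 (flp_a L359265) (flp_b L247198) L170326 L247198 L359265
theorem L359274 : sm gi N29157 = N42481 := rfl
theorem L359276 : sm gb N42481 = N29158 := ded_26_1 (flp_i L247206) L247198 L359274
theorem L359278 : sm ge N42481 = N42481 := ded_44_1 (flp_i L359274) L247200 L359274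
theorem L359279 : sm gf N42481 = N30965 := ded_48_1 (flp_i L262658) (flp_f L247201) L359274
theorem L359281 : sm gj N42481 = N29330 := ded_53_1 (flp_i L248634) (flp_j L247203) L359274
theorem L359283 : sm gh N29158 = N42482 := rfl
theorem L359285 : sm ga N42482 = N42482 := ded_17_1 (flp_h L359283) L247208 L359283
theorem L359286 : sm gc N42482 = N29159 := ded_32_1 (flp_h L247216) (flp_c L247209) L359283
theorem L359288 : sm ge N42482 = N42482 := ded_43_1 (flp_h L359283) L247211 L359283
theorem L359289 : sm gf N42482 = N30966 := ded_47_1 (flp_h L262666) (flp_f L247212) L359283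
theorem L359291 : sm gj N42482 = N29331 := ded_52_1 (flp_h L248641) (flp_j L247214) L359283
theorem L359293 : sm gi N42482 = N42482 := ded_54_2 (flp_h L359283) (flp_i L247206) L170332 L247206 L359283
theorem L359312 : sm gh N29160 = N42485 := rfl
theorem L359315 : sm gb N42485 = N29164 := ded_25_1 (flp_h L247260) (flp_b L247228) L359312
theorem L359318 : sm gf N42485 = N29161 := ded_47_1 (flp_h L247233) L247225 L359312
theorem L359320 : sm gd N29161 = N42486 := rfl
theorem L359322 : sm ga N42486 = N42486 := ded_12_1 (flp_d L359320) L247235 L359320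
theorem L359323 : sm gb N42486 = N29165 := ded_20_1 (flp_d L247268) (flp_b L247236) L359320
theorem L359325 : sm gg N42486 = N29335 := ded_36_2 (flp_d L248676) (flp_g L247240) L359320
theorem L359327 : sm gh N42486 = N42486 := ded_38_2 (flp_d L359320) (flp_h L247233) L170354 L247233 L359320
theorem L359328 : sm gi N29161 = N42487 := rfl
theorem L359330 : sm ga N42487 = N42487 := ded_18_1 (flp_i L359328) L247235 L359328
theorem L359331 : sm gb N42487 = N29166 := ded_26_1 (flp_i L247277) (flp_b L247236) L359328
theorem L359333 : sm gc N42487 = N42487 := ded_33_1 (flp_i L359328) L247238 L359328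
theorem L359334 : sm ge N42487 = N42487 := ded_44_1 (flp_i L359328) L247239 L359328
theorem L359335 : sm gg N42487 = N29336 := ded_51_1 (flp_i L248683) (flp_g L247240) L359328
theorem L359337 : sm gh N42487 = N42487 := ded_54_1 (flp_i L359328) (flp_h L247233) L170358 L247233 L359328
theorem L359355 : sm gh N29162 = N42490 := rfl
theorem L359357 : sm ga N42490 = N29174 := ded_17_1 (flp_h L247350) (flp_a L247244) L359355
theorem L359359 : sm gc N42490 = N29168 := ded_32_1 (flp_h L247296) (flp_c L247246) L359355
theorem L359361 : sm ge N42490 = N29164 := ded_43_1 (flp_h L247260) L247242 L359355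
theorem L359364 : sm gj N29163 = N42491 := rfl
theorem L359366 : sm ga N42491 = N29175 := ded_16_1 (flp_j L247358) (flp_a L247252) L359364
theorem L359368 : sm gc N42491 = N29169 := ded_31_1 (flp_j L247304) (flp_c L247254) L359364
theorem L359371 : sm gf N42491 = N29340 := ded_46_1 (flp_j L248721) (flp_f L247258) L359364
theorem L359374 : sm gh N29163 = N42492 := rfl
theorem L359376 : sm ga N42492 = N29176 := ded_17_1 (flp_h L247367) (flp_a L247252) L359374
theorem L359378 : sm gc N42492 = N29170 := ded_32_1 (flp_h L247314) (flp_c L247254) L359374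
theorem L359380 : sm gf N42492 = N29341 := ded_47_1 (flp_h L248730) (flp_f L247258) L359374
theorem L359382 : sm gg N42492 = N29164 := ded_50_1 (flp_h L247260) L247250 L359374
theorem L359384 : sm gd N29164 = N42493 := rfl
theorem L359386 : sm ga N42493 = N29177 := ded_12_1 (flp_d L247376) (flp_a L247262) L359384
theorem L359388 : sm gf N42493 = N29165 := ded_35_2 (flp_d L247268) (flp_f L247266) L359384
theorem L359390 : sm gc N42493 = N29206 := ded_27_1 (flp_d L247638) L170614 (flp_d L170403) (flp_c L247264) L359384
theorem L359392 : sm gh N42493 = N42493 := ded_38_2 (flp_d L359384) (flp_h L247260) L170367 L247260 L359384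
theorem L359393 : sm gi N29164 = N42494 := rfl
theorem L359395 : sm ga N42494 = N29178 := ded_18_1 (flp_i L247384) (flp_a L247262) L359393
theorem L359397 : sm gc N42494 = N29171 := ded_33_1 (flp_i L247325) (flp_c L247264) L359393
theorem L359399 : sm gf N42494 = N29166 := ded_48_1 (flp_i L247277) (flp_f L247266) L359393
theorem L359401 : sm gh N42494 = N42494 := ded_54_1 (flp_i L359393) (flp_h L247260) L170368 L247260 L359393
theorem L359402 : sm ge N29165 = N42495 := rfl
theorem L359404 : sm ga N42495 = N29179 := ded_13_1 (flp_e L247392) (flp_a L247270) L359402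
theorem L359406 : sm gc N42495 = N29208 := ded_28_1 (flp_e L247655) (flp_c L247274) L359402
theorem L359412 : sm gi N29165 = N42496 := rfl
theorem L359414 : sm ga N42496 = N29180 := ded_18_1 (flp_i L247401) (flp_a L247270) L359412
theorem L359416 : sm gc N42496 = N29209 := ded_33_1 (flp_i L247664) (flp_c L247274) L359412
theorem L359418 : sm gd N42496 = N29166 := ded_39_1 (flp_i L247277) L247268 L359412
theorem L359420 : sm gg N42496 = N29345 := ded_51_1 (flp_i L248767) (flp_g L247272) L359412
theorem L359422 : sm gf N29167 = N42497 := rfl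
theorem L359424 : sm ga N42497 = N29181 := ded_14_1 (flp_f L247410) (flp_a L247289) L359422
theorem L359429 : sm ge N42497 = N29346 := ded_40_1 (flp_f L248776) L171381 (flp_f L170394) (flp_e L247293) L359422
theorem L359432 : sm gj N29167 = N42498 := rfl
theorem L359438 : sm ge N42498 = N29169 := ded_42_1 (flp_j L247304) (flp_e L247293) L359432
theorem L359441 : sm gh N29167 = N42499 := rfl
theorem L359443 : sm ga N42499 = N29183 := ded_17_1 (flp_h L247427) (flp_a L247289) L359441
theorem L359445 : sm gb N42499 = N42499 := ded_25_1 (flp_h L359441) L247291 L359441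
theorem L359446 : sm ge N42499 = N29170 := ded_43_1 (flp_h L247314) (flp_e L247293) L359441
theorem L359448 : sm gg N42499 = N29168 := ded_50_1 (flp_h L247296) L247287 L359441
theorem L359450 : sm gd N29168 = N42500 := rfl
theorem L359452 : sm ga N42500 = N29184 := ded_12_1 (flp_d L247435) (flp_a L247298) L359450
theorem L359454 : sm gb N42500 = N42500 := ded_20_1 (flp_d L359450) L247300 L359450
theorem L359455 : sm gf N42500 = N42500 := ded_35_2 (flp_d L359450) L247303 L359450
theorem L359456 : sm ge N42500 = N29213 := ded_34_2 (flp_d L247703) L170652 (flp_d L170403) (flp_e L247301) L359450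
theorem L359458 : sm gh N42500 = N42500 := ded_38_2 (flp_d L359450) (flp_h L247296) L170384 L247296 L359450
theorem L359459 : sm gi N29168 = N42501 := rfl
theorem L359461 : sm ga N42501 = N29185 := ded_18_1 (flp_i L247443) (flp_a L247298) L359459
theorem L359463 : sm gb N42501 = N42501 := ded_26_1 (flp_i L359459) L247300 L359459
theorem L359464 : sm ge N42501 = N29171 := ded_44_1 (flp_i L247325) (flp_e L247301) L359459
theorem L359466 : sm gf N42501 = N42501 := ded_48_1 (flp_i L359459) L247303 L359459
theorem L359467 : sm gh N42501 = N42501 := ded_54_1 (flp_i L359459) (flp_h L247296) L170383 L247296 L359459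
theorem L359468 : sm gh N29169 = N42502 := rfl
theorem L359470 : sm ga N42502 = N29186 := ded_17_1 (flp_h L247451) (flp_a L247306) L359468
theorem L359472 : sm gb N42502 = N42502 := ded_25_1 (flp_h L359468) L247308 L359468
theorem L359473 : sm gf N42502 = N29351 := ded_47_1 (flp_h L248826) (flp_f L247311) L359468
theorem L359475 : sm gj N42502 = N29170 := ded_52_1 (flp_h L247314) L247304 L359468
theorem L359477 : sm gd N42502 = N29215 := ded_38_1 (flp_h L247722) L170661 (flp_h L170425) (flp_d L247309) L359468
theorem L359479 : sm gi N29170 = N42503 := rfl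
theorem L359481 : sm ga N42503 = N29187 := ded_18_1 (flp_i L247461) (flp_a L247316) L359479
theorem L359483 : sm gb N42503 = N42503 := ded_26_1 (flp_i L359479) L247318 L359479
theorem L359484 : sm gd N42503 = N29216 := ded_39_1 (flp_i L247731) (flp_d L247323) L359479
theorem L359486 : sm gf N42503 = N29352 := ded_48_1 (flp_i L248836) (flp_f L247319) L359479
theorem L359488 : sm gg N42503 = N29171 := ded_51_1 (flp_i L247325) (flp_g L247321) L359479
theorem L359490 : sm gh N42503 = N42503 := ded_54_1 (flp_i L359479) (flp_h L247314) L170393 L247314 L359479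
theorem L359505 : sm gf N29173 = N42506 := rfl
theorem L359508 : sm gc N42506 = N29181 := ded_29_1 (flp_f L247410) (flp_c L247345) L359505
theorem L359522 : sm gh N29173 = N42508 := rfl
theorem L359525 : sm gc N42508 = N29183 := ded_32_1 (flp_h L247427) (flp_c L247345) L359522
theorem L359527 : sm ge N42508 = N29176 := ded_43_1 (flp_h L247367) (flp_e L247347) L359522
theorem L359529 : sm gg N42508 = N29174 := ded_50_1 (flp_h L247350) L247342 L359522
theorem L359531 : sm gd N29174 = N42509 := rfl
theorem L359535 : sm gi N29174 = N42510 := rfl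
theorem L359537 : sm gb N42510 = N42510 := ded_26_1 (flp_i L359535) L247352 L359535
theorem L359538 : sm gc N42510 = N29185 := ded_33_1 (flp_i L247443) (flp_c L247353) L359535
theorem L359540 : sm ge N42510 = N29178 := ded_44_1 (flp_i L247384) (flp_e L247355) L359535
theorem L359542 : sm gf N42510 = N42510 := ded_48_1 (flp_i L359535) L247357 L359535
theorem L359543 : sm gh N42510 = N42510 := ded_54_1 (flp_i L359535) (flp_h L247350) L170433 L247350 L359535
theorem L359544 : sm gh N29175 = N42511 := rfl
theorem L359547 : sm gc N42511 = N29186 := ded_32_1 (flp_h L247451) (flp_c L247361) L359544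
theorem L359549 : sm gf N42511 = N29360 := ded_47_1 (flp_h L248903) (flp_f L247364) L359544
theorem L359551 : sm gj N42511 = N29176 := ded_52_1 (flp_h L247367) L247358 L359544
theorem L359553 : sm gd N29176 = N42512 := rfl
theorem L359555 : sm gb N42512 = N42512 := ded_20_1 (flp_d L359553) L247369 L359553
theorem L359556 : sm gf N42512 = N29361 := ded_35_2 (flp_d L248911) (flp_f L247372) L359553
theorem L359558 : sm gg N42512 = N29177 := ded_36_2 (flp_d L247376) (flp_g L247374) L359553
theorem L359560 : sm gc N42512 = N29225 := ded_27_1 (flp_d L247804) L170720 (flp_d L170500) (flp_c L247370) L359553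
theorem L359562 : sm gh N42512 = N42512 := ded_38_2 (flp_d L359553) (flp_h L247367) L170440 L247367 L359553
theorem L359563 : sm gi N29176 = N42513 := rfl
theorem L359565 : sm gb N42513 = N42513 := ded_26_1 (flp_i L359563) L247369 L359563
theorem L359566 : sm gc N42513 = N29187 := ded_33_1 (flp_i L247461) (flp_c L247370) L359563
theorem L359568 : sm gf N42513 = N29362 := ded_48_1 (flp_i L248919) (flp_f L247372) L359563
theorem L359570 : sm gg N42513 = N29178 := ded_51_1 (flp_i L247384) (flp_g L247374) L359563
theorem L359572 : sm gh N42513 = N42513 := ded_54_1 (flp_i L359563) (flp_h L247367) L170441 L247367 L359563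
theorem L359573 : sm ge N29177 = N42514 := rfl
theorem L359575 : sm gb N42514 = N42514 := ded_21_1 (flp_e L359573) L247378 L359573
theorem L359576 : sm gc N42514 = N29227 := ded_28_1 (flp_e L247821) (flp_c L247381) L359573
theorem L359578 : sm gh N42514 = N42514 := ded_43_2 (flp_e L359573) L247383 L359573
theorem L359579 : sm gi N29177 = N42515 := rfl
theorem L359581 : sm gb N42515 = N42515 := ded_26_1 (flp_i L359579) L247378 L359579
theorem L359582 : sm gc N42515 = N29228 := ded_33_1 (flp_i L247824) (flp_c L247381) L359579
theorem L359584 : sm gd N42515 = N29178 := ded_39_1 (flp_i L247384) L247376 L359579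
theorem L359586 : sm gf N42515 = N29180 := ded_48_1 (flp_i L247401) (flp_f L247379) L359579
theorem L359588 : sm gf N29179 = N42516 := rfl
theorem L359590 : sm gb N42516 = N42516 := ded_22_1 (flp_f L359588) L247394 L359588
theorem L359591 : sm gc N42516 = N29229 := ded_29_1 (flp_f L247830) (flp_c L247395) L359588
theorem L359593 : sm gd N42516 = N42516 := ded_35_1 (flp_f L359588) L247400 L359588
theorem L359594 : sm gh N42516 = N42516 := ded_47_2 (flp_f L359588) L247399 L359588
theorem L359595 : sm gi N29179 = N42517 := rfl
theorem L359597 : sm gb N42517 = N42517 := ded_26_1 (flp_i L359595) L247394 L359595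
theorem L359598 : sm gc N42517 = N29230 := ded_33_1 (flp_i L247835) (flp_c L247395) L359595
theorem L359600 : sm gd N42517 = N42517 := ded_39_1 (flp_i L359595) L247400 L359595
theorem L359601 : sm ge N42517 = N29180 := ded_44_1 (flp_i L247401) L247392 L359595
theorem L359603 : sm gg N42517 = N29366 := ded_51_1 (flp_i L248952) (flp_g L247397) L359595
theorem L359605 : sm gh N29180 = N42518 := rfl
theorem L359607 : sm gb N42518 = N42518 := ded_25_1 (flp_h L359605) L247403 L359605
theorem L359608 : sm gc N42518 = N29231 := ded_32_1 (flp_h L247843) (flp_c L247404) L359605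
theorem L359610 : sm gg N42518 = N29367 := ded_50_1 (flp_h L248961) (flp_g L247408) L359605
theorem L359612 : sm gd N42518 = N42518 := ded_38_1 (flp_h L359605) L247406 L170467 (flp_d L247406) L359605
theorem L359613 : sm gi N42518 = N42518 := ded_54_2 (flp_h L359605) (flp_i L247401) L170458 L247401 L359605
theorem L359614 : sm gj N29181 = N42519 := rfl
theorem L359616 : sm gb N42519 = N29188 := ded_24_1 (flp_j L247472) (flp_b L247412) L359614
theorem L359619 : sm ge N42519 = N29368 := ded_42_1 (flp_j L248969) (flp_e L247416) L359614
theorem L359621 : sm gf N42519 = N29182 := ded_46_1 (flp_j L247419) L247410 L359614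
theorem L359624 : sm gh N29181 = N42520 := rfl
theorem L359626 : sm gb N42520 = N29189 := ded_25_1 (flp_h L247482) (flp_b L247412) L359624
theorem L359628 : sm ge N42520 = N29369 := ded_43_1 (flp_h L248978) (flp_e L247416) L359624
theorem L359630 : sm gf N42520 = N29183 := ded_47_1 (flp_h L247427) L247410 L359624
theorem L359632 : sm gg N42520 = N42520 := ded_50_1 (flp_h L359624) L247418 L359624
theorem L359633 : sm gh N29182 = N42521 := rfl
theorem L359635 : sm gb N42521 = N29190 := ded_25_1 (flp_h L247491) (flp_b L247421) L359633
theorem L359637 : sm ge N42521 = N29186 := ded_43_1 (flp_h L247451) (flp_e L247424) L359633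
theorem L359639 : sm gj N42521 = N29183 := ded_52_1 (flp_h L247427) L247419 L359633
theorem L359641 : sm gd N29183 = N42522 := rfl
theorem L359643 : sm gb N42522 = N29191 := ded_20_1 (flp_d L247499) (flp_b L247429) L359641
theorem L359645 : sm gg N42522 = N29184 := ded_36_2 (flp_d L247435) (flp_g L247433) L359641
theorem L359647 : sm ge N42522 = N29235 := ded_34_2 (flp_d L247879) L170776 (flp_d L170500) (flp_e L247431) L359641
theorem L359649 : sm gh N42522 = N42522 := ded_38_2 (flp_d L359641) (flp_h L247427) L170472 L247427 L359641
theorem L359650 : sm gi N29183 = N42523 := rfl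
theorem L359652 : sm gb N42523 = N29192 := ded_26_1 (flp_i L247507) (flp_b L247429) L359650
theorem L359654 : sm ge N42523 = N29187 := ded_44_1 (flp_i L247461) (flp_e L247431) L359650
theorem L359656 : sm gg N42523 = N29185 := ded_51_1 (flp_i L247443) (flp_g L247433) L359650
theorem L359658 : sm gh N42523 = N42523 := ded_54_1 (flp_i L359650) (flp_h L247427) L170475 L247427 L359650
theorem L359659 : sm gc N29184 = N42524 := rfl
theorem L359661 : sm ge N42524 = N29237 := ded_28_2 (flp_c L247896) (flp_e L247440) L359659
theorem L359663 : sm gf N42524 = N42524 := ded_29_2 (flp_c L359659) L247439 L359659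
theorem L359664 : sm gh N42524 = N42524 := ded_32_2 (flp_c L359659) L247442 L359659
theorem L359665 : sm gi N29184 = N42525 := rfl
theorem L359667 : sm gb N42525 = N29194 := ded_26_1 (flp_i L247524) (flp_b L247437) L359665
theorem L359669 : sm gd N42525 = N29185 := ded_39_1 (flp_i L247443) L247435 L359665
theorem L359671 : sm ge N42525 = N29238 := ded_44_1 (flp_i L247901) (flp_e L247440) L359665
theorem L359673 : sm gf N42525 = N42525 := ded_48_1 (flp_i L359665) L247439 L359665
theorem L359674 : sm gi N29186 = N42526 := rfl
theorem L359676 : sm gb N42526 = N29195 := ded_26_1 (flp_i L247532) (flp_b L247453) L359674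
theorem L359678 : sm gd N42526 = N29239 := ded_39_1 (flp_i L247909) (flp_d L247459) L359674
theorem L359680 : sm gf N42526 = N29375 := ded_48_1 (flp_i L249031) (flp_f L247455) L359674
theorem L359682 : sm gj N42526 = N29187 := ded_53_1 (flp_i L247461) (flp_j L247457) L359674
theorem L359684 : sm gh N42526 = N42526 := ded_54_1 (flp_i L359674) (flp_h L247451) L170491 L247451 L359674
theorem L359685 : sm gg N29188 = N42527 := rfl
theorem L359694 : sm gh N29188 = N42528 := rfl
theorem L359696 : sm ga N42528 = N42528 := ded_17_1 (flp_h L359694) L247474 L359694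
theorem L359697 : sm gc N42528 = N42528 := ded_32_1 (flp_h L359694) L247475 L359694
theorem L359698 : sm ge N42528 = N29377 := ded_43_1 (flp_h L249050) (flp_e L247477) L359694
theorem L359700 : sm gf N42528 = N29190 := ded_47_1 (flp_h L247491) (flp_f L247479) L359694
theorem L359702 : sm gj N42528 = N29189 := ded_52_1 (flp_h L247482) L247472 L359694
theorem L359704 : sm gd N29189 = N42529 := rfl
theorem L359706 : sm ga N42529 = N42529 := ded_12_1 (flp_d L359704) L247484 L359704
theorem L359707 : sm gf N42529 = N29191 := ded_35_2 (flp_d L247499) (flp_f L247488) L359704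
theorem L359709 : sm gg N42529 = N42529 := ded_36_2 (flp_d L359704) L247490 L359704
theorem L359710 : sm gh N42529 = N42529 := ded_38_2 (flp_d L359704) (flp_h L247482) L170515 L247482 L359704
theorem L359711 : sm gi N29189 = N42530 := rfl
theorem L359713 : sm ga N42530 = N42530 := ded_18_1 (flp_i L359711) L247484 L359711
theorem L359714 : sm gc N42530 = N42530 := ded_33_1 (flp_i L359711) L247485 L359711
theorem L359715 : sm ge N42530 = N29379 := ded_44_1 (flp_i L249066) (flp_e L247486) L359711
theorem L359717 : sm gf N42530 = N29192 := ded_48_1 (flp_i L247507) (flp_f L247488) L359711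
theorem L359719 : sm gg N42530 = N42530 := ded_51_1 (flp_i L359711) L247490 L359711
theorem L359720 : sm gh N42530 = N42530 := ded_54_1 (flp_i L359711) (flp_h L247482) L170516 L247482 L359711
theorem L359721 : sm gd N29190 = N42531 := rfl
theorem L359723 : sm ga N42531 = N42531 := ded_12_1 (flp_d L359721) L247493 L359721
theorem L359724 : sm gj N42531 = N29191 := ded_37_2 (flp_d L247499) (flp_j L247497) L359721
theorem L359726 : sm ge N42531 = N29244 := ded_34_2 (flp_d L247957) L170837 (flp_d L170559) (flp_e L247495) L359721
theorem L359728 : sm gh N42531 = N42531 := ded_38_2 (flp_d L359721) (flp_h L247491) L170524 L247491 L359721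
theorem L359729 : sm gi N29190 = N42532 := rfl
theorem L359731 : sm ga N42532 = N42532 := ded_18_1 (flp_i L359729) L247493 L359729
theorem L359732 : sm gc N42532 = N42532 := ded_33_1 (flp_i L359729) L247494 L359729
theorem L359733 : sm ge N42532 = N29195 := ded_44_1 (flp_i L247532) (flp_e L247495) L359729
theorem L359735 : sm gj N42532 = N29192 := ded_53_1 (flp_i L247507) (flp_j L247497) L359729
theorem L359737 : sm gh N42532 = N42532 := ded_54_1 (flp_i L359729) (flp_h L247491) L170527 L247491 L359729
theorem L359738 : sm gc N29191 = N42533 := rfl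
theorem L359740 : sm ga N42533 = N42533 := ded_11_1 (flp_c L359738) L247501 L359738
theorem L359741 : sm ge N42533 = N29246 := ded_28_2 (flp_c L247972) (flp_e L247504) L359738
theorem L359743 : sm gg N42533 = N29193 := ded_30_2 (flp_c L247516) (flp_g L247502) L359738
theorem L359745 : sm gh N42533 = N42533 := ded_32_2 (flp_c L359738) L247506 L359738
theorem L359746 : sm gd N42533 = N42533 := ded_27_2 (flp_c L359738) (flp_d L247499) L170531 L247499 L359738
theorem L359747 : sm gi N29191 = N42534 := rfl
theorem L359749 : sm ga N42534 = N42534 := ded_18_1 (flp_i L359747) L247501 L359747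
theorem L359750 : sm gd N42534 = N29192 := ded_39_1 (flp_i L247507) L247499 L359747
theorem L359752 : sm ge N42534 = N29247 := ded_44_1 (flp_i L247978) (flp_e L247504) L359747
theorem L359754 : sm gg N42534 = N29194 := ded_51_1 (flp_i L247524) (flp_g L247502) L359747
theorem L359756 : sm gb N29193 = N42535 := rfl
theorem L359758 : sm gd N42535 = N42535 := ded_20_2 (flp_b L359756) L247523 L359756
theorem L359759 : sm ge N42535 = N29248 := ded_21_2 (flp_b L247985) (flp_e L247519) L359756
theorem L359761 : sm gf N42535 = N42535 := ded_22_2 (flp_b L359756) L247521 L359756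
theorem L359762 : sm gh N42535 = N42535 := ded_25_2 (flp_b L359756) L247522 L359756
theorem L359763 : sm gi N29193 = N42536 := rfl
theorem L359765 : sm ga N42536 = N42536 := ded_18_1 (flp_i L359763) L247518 L359763
theorem L359766 : sm gc N42536 = N29194 := ded_33_1 (flp_i L247524) L247516 L359763
theorem L359768 : sm gd N42536 = N42536 := ded_39_1 (flp_i L359763) L247523 L359763
theorem L359769 : sm ge N42536 = N29249 := ded_44_1 (flp_i L247990) (flp_e L247519) L359763
theorem L359771 : sm gf N42536 = N42536 := ded_48_1 (flp_i L359763) L247521 L359763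
theorem L359772 : sm gh N29194 = N42537 := rfl
theorem L359774 : sm ga N42537 = N42537 := ded_17_1 (flp_h L359772) L247526 L359772
theorem L359775 : sm ge N42537 = N29250 := ded_43_1 (flp_h L247997) (flp_e L247529) L359772
theorem L359777 : sm gf N42537 = N42537 := ded_47_1 (flp_h L359772) L247531 L359772
theorem L359778 : sm gd N42537 = N42537 := ded_38_1 (flp_h L359772) L247527 L170550 (flp_d L247527) L359772
theorem L359779 : sm gi N42537 = N42537 := ded_54_2 (flp_h L359772) (flp_i L247524) L170542 L247524 L359772
theorem L359780 : sm gd N29196 = N42538 := rfl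
theorem L359782 : sm gb N42538 = N29201 := ded_20_1 (flp_d L247587) (flp_b L247545) L359780
theorem L359784 : sm gf N42538 = N30967 := ded_35_2 (flp_d L262676) (flp_f L247550) L359780
theorem L359786 : sm gi N42538 = N29251 := ded_39_2 (flp_d L248005) (flp_i L247548) L359780
theorem L359788 : sm ge N42538 = N42538 := ded_34_2 (flp_d L359780) (flp_e L247543) L170577 L247543 L359780
theorem L359789 : sm gg N29196 = N42539 := rfl
theorem L359791 : sm gb N42539 = N29202 := ded_23_1 (flp_g L247597) (flp_b L247545) L359789
theorem L359793 : sm gc N42539 = N42539 := ded_30_1 (flp_g L359789) L247547 L359789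
theorem L359794 : sm ge N42539 = N29197 := ded_41_1 (flp_g L247552) L247543 L359789
theorem L359796 : sm gi N42539 = N29252 := ded_51_2 (flp_g L248012) (flp_i L247548) L359789
theorem L359798 : sm gh N29196 = N42540 := rfl
theorem L359800 : sm gb N42540 = N29203 := ded_25_1 (flp_h L247607) (flp_b L247545) L359798
theorem L359802 : sm gc N42540 = N42540 := ded_32_1 (flp_h L359798) L247547 L359798
theorem L359803 : sm ge N42540 = N29198 := ded_43_1 (flp_h L247562) L247543 L359798
theorem L359807 : sm gj N29197 = N42541 := rfl
theorem L359809 : sm gb N42541 = N29204 := ded_24_1 (flp_j L247617) (flp_b L247554) L359807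
theorem L359811 : sm gc N42541 = N42541 := ded_31_1 (flp_j L359807) L247556 L359807
theorem L359812 : sm gd N42541 = N42541 := ded_37_1 (flp_j L359807) L247557 L359807
theorem L359813 : sm gf N42541 = N29390 := ded_46_1 (flp_j L249171) (flp_f L247560) L359807
theorem L359815 : sm gi N42541 = N29254 := ded_53_2 (flp_j L248028) (flp_i L247558) L359807
theorem L359817 : sm gh N29197 = N42542 := rfl
theorem L359819 : sm gb N42542 = N29205 := ded_25_1 (flp_h L247628) (flp_b L247554) L359817
theorem L359821 : sm gc N42542 = N42542 := ded_32_1 (flp_h L359817) L247556 L359817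
theorem L359822 : sm gf N42542 = N29391 := ded_47_1 (flp_h L249180) (flp_f L247560) L359817
theorem L359824 : sm gg N42542 = N29198 := ded_50_1 (flp_h L247562) L247552 L359817
theorem L359826 : sm gd N29198 = N42543 := rfl
theorem L359828 : sm gb N42543 = N29206 := ded_20_1 (flp_d L247638) (flp_b L247564) L359826
theorem L359833 : sm gi N29198 = N42544 := rfl
theorem L359835 : sm gb N42544 = N29207 := ded_26_1 (flp_i L247645) (flp_b L247564) L359833
theorem L359837 : sm gc N42544 = N42544 := ded_33_1 (flp_i L359833) L247566 L359833
theorem L359838 : sm gf N42544 = N29200 := ded_48_1 (flp_i L247576) (flp_f L247567) L359833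
theorem L359840 : sm gh N42544 = N29257 := ded_54_1 (flp_i L248052) (flp_h L170893) (flp_i L170578) L247562 L359833
theorem L359842 : sm gc N29199 = N42545 := rfl
theorem L359844 : sm gg N42545 = N29394 := ded_30_2 (flp_c L249205) (flp_g L247573) L359842
theorem L359857 : sm gi N29199 = N42547 := rfl
theorem L359859 : sm gb N42547 = N29209 := ded_26_1 (flp_i L247664) (flp_b L247571) L359857
theorem L359861 : sm gd N42547 = N29200 := ded_39_1 (flp_i L247576) L247569 L359857
theorem L359865 : sm gg N29201 = N42548 := rfl
theorem L359867 : sm ga N42548 = N29217 := ded_15_1 (flp_g L247742) (flp_a L247589) L359865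
theorem L359869 : sm gc N42548 = N42548 := ded_30_1 (flp_g L359865) L247595 L359865
theorem L359870 : sm gd N42548 = N29202 := ded_36_1 (flp_g L247597) L247587 L359865
theorem L359872 : sm ge N42548 = N42548 := ded_41_1 (flp_g L359865) L247596 L359865
theorem L359873 : sm gi N42548 = N29261 := ded_51_2 (flp_g L248083) (flp_i L247593) L359865
theorem L359875 : sm gh N29201 = N42549 := rfl
theorem L359877 : sm ga N42549 = N29218 := ded_17_1 (flp_h L247750) (flp_a L247589) L359875
theorem L359879 : sm gc N42549 = N42549 := ded_32_1 (flp_h L359875) L247595 L359875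
theorem L359880 : sm ge N42549 = N42549 := ded_43_1 (flp_h L359875) L247596 L359875
theorem L359881 : sm gf N42549 = N30978 := ded_47_1 (flp_h L262772) (flp_f L247591) L359875
theorem L359883 : sm gf N29202 = N42550 := rfl
theorem L359885 : sm ga N42550 = N29219 := ded_14_1 (flp_f L247756) (flp_a L247599) L359883
theorem L359887 : sm gc N42550 = N29210 := ded_29_1 (flp_f L247672) (flp_c L247601) L359883
theorem L359889 : sm gi N42550 = N29263 := ded_48_2 (flp_f L248099) (flp_i L247605) L359883
theorem L359891 : sm ge N42550 = N29399 := ded_40_1 (flp_f L249246) L171692 (flp_f L170608) (flp_e L247603) L359883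
theorem L359893 : sm gg N42550 = N30979 := ded_45_2 (flp_f L262779) (flp_g L180796) (flp_f L170597) L247597 L359883
theorem L359895 : sm gj N29202 = N42551 := rfl
theorem L359897 : sm ga N42551 = N29220 := ded_16_1 (flp_j L247766) (flp_a L247599) L359895
theorem L359899 : sm gc N42551 = N29211 := ded_31_1 (flp_j L247684) (flp_c L247601) L359895
theorem L359901 : sm ge N42551 = N29204 := ded_42_1 (flp_j L247617) (flp_e L247603) L359895
theorem L359903 : sm gi N42551 = N29264 := ded_53_2 (flp_j L248109) (flp_i L247605) L359895
theorem L359905 : sm gh N29202 = N42552 := rfl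
theorem L359907 : sm ga N42552 = N29221 := ded_17_1 (flp_h L247774) (flp_a L247599) L359905
theorem L359909 : sm gc N42552 = N29212 := ded_32_1 (flp_h L247694) (flp_c L247601) L359905
theorem L359911 : sm ge N42552 = N29205 := ded_43_1 (flp_h L247628) (flp_e L247603) L359905
theorem L359913 : sm gg N42552 = N29203 := ded_50_1 (flp_h L247607) L247597 L359905
theorem L359915 : sm gd N29203 = N42553 := rfl
theorem L359917 : sm ga N42553 = N29222 := ded_12_1 (flp_d L247782) (flp_a L247609) L359915
theorem L359919 : sm gf N42553 = N30982 := ded_35_2 (flp_d L262809) (flp_f L247615) L359915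
theorem L359921 : sm gi N29203 = N42554 := rfl
theorem L359923 : sm ga N42554 = N29223 := ded_18_1 (flp_i L247786) (flp_a L247609) L359921
theorem L359925 : sm gc N42554 = N29214 := ded_33_1 (flp_i L247711) (flp_c L247611) L359921
theorem L359927 : sm ge N42554 = N29207 := ded_44_1 (flp_i L247645) (flp_e L247613) L359921
theorem L359929 : sm gf N42554 = N30983 := ded_48_1 (flp_i L262813) (flp_f L247615) L359921
theorem L359931 : sm gh N42554 = N29267 := ded_54_1 (flp_i L248133) (flp_h L170932) (flp_i L170595) L247607 L359921
theorem L359933 : sm gh N29204 = N42555 := rfl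
theorem L359935 : sm ga N42555 = N29224 := ded_17_1 (flp_h L247796) (flp_a L247619) L359933
theorem L359937 : sm gc N42555 = N29215 := ded_32_1 (flp_h L247722) (flp_c L247621) L359933
theorem L359939 : sm gf N42555 = N29404 := ded_47_1 (flp_h L249297) (flp_f L247624) L359933
theorem L359941 : sm gj N42555 = N29205 := ded_52_1 (flp_h L247628) L247617 L359933
theorem L359943 : sm gd N29205 = N42556 := rfl
theorem L359945 : sm ga N42556 = N29225 := ded_12_1 (flp_d L247804) (flp_a L247630) L359943
theorem L359947 : sm gf N42556 = N29405 := ded_35_2 (flp_d L249306) (flp_f L247634) L359943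
theorem L359949 : sm gg N42556 = N29206 := ded_36_2 (flp_d L247638) (flp_g L247636) L359943
theorem L359951 : sm gh N42556 = N42556 := ded_38_2 (flp_d L359943) (flp_h L247628) L170605 L247628 L359943
theorem L359952 : sm gi N29205 = N42557 := rfl
theorem L359954 : sm ga N42557 = N29226 := ded_18_1 (flp_i L247811) (flp_a L247630) L359952
theorem L359956 : sm gc N42557 = N29216 := ded_33_1 (flp_i L247731) (flp_c L247632) L359952
theorem L359958 : sm gf N42557 = N29406 := ded_48_1 (flp_i L249313) (flp_f L247634) L359952
theorem L359960 : sm gg N42557 = N29207 := ded_51_1 (flp_i L247645) (flp_g L247636) L359952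
theorem L359962 : sm gh N42557 = N29270 := ded_54_1 (flp_i L248163) (flp_h L170951) (flp_i L170606) L247628 L359952
theorem L359964 : sm ge N29206 = N42558 := rfl
theorem L359966 : sm ga N42558 = N29227 := ded_13_1 (flp_e L247821) (flp_a L247640) L359964
theorem L359968 : sm gh N42558 = N42558 := ded_43_2 (flp_e L359964) L247644 L359964
theorem L359969 : sm gi N29206 = N42559 := rfl
theorem L359971 : sm ga N42559 = N29228 := ded_18_1 (flp_i L247824) (flp_a L247640) L359969
theorem L359973 : sm gd N42559 = N29207 := ded_39_1 (flp_i L247645) L247638 L359969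
theorem L359975 : sm gf N42559 = N29209 := ded_48_1 (flp_i L247664) (flp_f L247642) L359969
theorem L359977 : sm gf N29208 = N42560 := rfl
theorem L359979 : sm ga N42560 = N29229 := ded_14_1 (flp_f L247830) (flp_a L247657) L359977
theorem L359981 : sm gd N42560 = N30989 := ded_35_1 (flp_f L262872) (flp_d L247662) L359977
theorem L359984 : sm gi N29208 = N42561 := rfl
theorem L359990 : sm ge N42561 = N29209 := ded_44_1 (flp_i L247664) L247655 L359984
theorem L359992 : sm gg N42561 = N29410 := ded_51_1 (flp_i L249346) (flp_g L247659) L359984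
theorem L359994 : sm gh N29209 = N42562 := rfl
theorem L359996 : sm ga N42562 = N29231 := ded_17_1 (flp_h L247843) (flp_a L247666) L359994
theorem L359998 : sm gg N42562 = N29411 := ded_50_1 (flp_h L249355) (flp_g L247670) L359994
theorem L360000 : sm gd N42562 = N29275 := ded_38_1 (flp_h L248207) L170992 (flp_h L170635) (flp_d L247668) L359994
theorem L360002 : sm gi N42562 = N42562 := ded_54_2 (flp_h L359994) (flp_i L247664) L170624 L247664 L359994
theorem L360003 : sm gj N29210 = N42563 := rfl
theorem L360005 : sm ga N42563 = N29232 := ded_16_1 (flp_j L247850) (flp_a L247674) L360003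
theorem L360007 : sm gb N42563 = N42563 := ded_24_1 (flp_j L360003) L247676 L360003
theorem L360008 : sm gd N42563 = N42563 := ded_37_1 (flp_j L360003) L247677 L360003
theorem L360009 : sm ge N42563 = N29412 := ded_42_1 (flp_j L249363) (flp_e L247680) L360003
theorem L360011 : sm gf N42563 = N29211 := ded_46_1 (flp_j L247684) L247672 L360003
theorem L360013 : sm gi N42563 = N29276 := ded_53_2 (flp_j L248215) (flp_i L247678) L360003
theorem L360015 : sm gh N29210 = N42564 := rfl
theorem L360017 : sm ga N42564 = N29233 := ded_17_1 (flp_h L247861) (flp_a L247674) L360015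
theorem L360019 : sm gb N42564 = N42564 := ded_25_1 (flp_h L360015) L247676 L360015
theorem L360020 : sm ge N42564 = N29413 := ded_43_1 (flp_h L249374) (flp_e L247680) L360015
theorem L360022 : sm gf N42564 = N29212 := ded_47_1 (flp_h L247694) L247672 L360015
theorem L360024 : sm gg N42564 = N30993 := ded_50_1 (flp_h L262911) (flp_g L247682) L360015
theorem L360026 : sm gh N29211 = N42565 := rfl
theorem L360028 : sm ga N42565 = N29234 := ded_17_1 (flp_h L247871) (flp_a L247686) L360026
theorem L360030 : sm gb N42565 = N42565 := ded_25_1 (flp_h L360026) L247688 L360026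
theorem L360031 : sm ge N42565 = N29215 := ded_43_1 (flp_h L247722) (flp_e L247690) L360026
theorem L360033 : sm gj N42565 = N29212 := ded_52_1 (flp_h L247694) L247684 L360026
theorem L360035 : sm gd N29212 = N42566 := rfl
theorem L360037 : sm ga N42566 = N29235 := ded_12_1 (flp_d L247879) (flp_a L247696) L360035
theorem L360039 : sm gb N42566 = N42566 := ded_20_1 (flp_d L360035) L247698 L360035
theorem L360040 : sm gg N42566 = N29213 := ded_36_2 (flp_d L247703) (flp_g L247701) L360035
theorem L360042 : sm gh N42566 = N42566 := ded_38_2 (flp_d L360035) (flp_h L247694) L170642 L247694 L360035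
theorem L360043 : sm gi N29212 = N42567 := rfl
theorem L360045 : sm ga N42567 = N29236 := ded_18_1 (flp_i L247886) (flp_a L247696) L360043
theorem L360047 : sm gb N42567 = N42567 := ded_26_1 (flp_i L360043) L247698 L360043
theorem L360048 : sm ge N42567 = N29216 := ded_44_1 (flp_i L247731) (flp_e L247699) L360043
theorem L360050 : sm gg N42567 = N29214 := ded_51_1 (flp_i L247711) (flp_g L247701) L360043
theorem L360052 : sm gh N42567 = N29280 := ded_54_1 (flp_i L248254) (flp_h L171014) (flp_i L170645) L247694 L360043
theorem L360054 : sm gc N29213 = N42568 := rfl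
theorem L360056 : sm ga N42568 = N29237 := ded_11_1 (flp_c L247896) (flp_a L247705) L360054
theorem L360058 : sm gf N42568 = N30997 := ded_29_2 (flp_c L262949) (flp_f L247708) L360054
theorem L360060 : sm gh N42568 = N42568 := ded_32_2 (flp_c L360054) L247710 L360054
theorem L360061 : sm gi N29213 = N42569 := rfl
theorem L360063 : sm ga N42569 = N29238 := ded_18_1 (flp_i L247901) (flp_a L247705) L360061
theorem L360065 : sm gb N42569 = N42569 := ded_26_1 (flp_i L360061) L247707 L360061
theorem L360066 : sm gd N42569 = N29214 := ded_39_1 (flp_i L247711) L247703 L360061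
theorem L360068 : sm gf N42569 = N30998 := ded_48_1 (flp_i L262955) (flp_f L247708) L360061
theorem L360070 : sm gi N29215 = N42570 := rfl
theorem L360072 : sm ga N42570 = N29239 := ded_18_1 (flp_i L247909) (flp_a L247724) L360070
theorem L360074 : sm gb N42570 = N42570 := ded_26_1 (flp_i L360070) L247726 L360070
theorem L360075 : sm gf N42570 = N29419 := ded_48_1 (flp_i L249432) (flp_f L247727) L360070
theorem L360077 : sm gj N42570 = N29216 := ded_53_1 (flp_i L247731) (flp_j L247729) L360070
theorem L360079 : sm gh N42570 = N29283 := ded_54_1 (flp_i L248281) (flp_h L171041) (flp_i L170665) L247722 L360070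
theorem L360081 : sm gf N29217 = N42571 := rfl
theorem L360083 : sm gc N42571 = N42571 := ded_29_1 (flp_f L360081) L247744 L360081
theorem L360084 : sm gd N42571 = N29219 := ded_35_1 (flp_f L247756) (flp_d L247745) L360081
theorem L360086 : sm gi N42571 = N29284 := ded_48_2 (flp_f L248291) (flp_i L247748) L360081
theorem L360088 : sm gg N42571 = N31000 := ded_45_2 (flp_f L262975) (flp_g L180940) (flp_f L170687) L247742 L360081
theorem L360090 : sm gj N29217 = N42572 := rfl
theorem L360092 : sm gc N42572 = N42572 := ded_31_1 (flp_j L360090) L247744 L360090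
theorem L360093 : sm gd N42572 = N29220 := ded_37_1 (flp_j L247766) (flp_d L247745) L360090
theorem L360095 : sm ge N42572 = N42572 := ded_42_1 (flp_j L360090) L247747 L360090
theorem L360096 : sm gi N42572 = N29285 := ded_53_2 (flp_j L248298) (flp_i L247748) L360090
theorem L360098 : sm gh N29217 = N42573 := rfl
theorem L360100 : sm gc N42573 = N42573 := ded_32_1 (flp_h L360098) L247744 L360098
theorem L360101 : sm ge N42573 = N42573 := ded_43_1 (flp_h L360098) L247747 L360098
theorem L360102 : sm gg N42573 = N29218 := ded_50_1 (flp_h L247750) L247742 L360098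
theorem L360104 : sm gd N29218 = N42574 := rfl
theorem L360106 : sm gf N42574 = N31003 := ded_35_2 (flp_d L262998) (flp_f L247754) L360104
theorem L360108 : sm gh N42574 = N29222 := ded_38_2 (flp_d L247782) (flp_h L170701) L170685 L247750 L360104
theorem L360110 : sm gi N29218 = N42575 := rfl
theorem L360112 : sm gc N42575 = N42575 := ded_33_1 (flp_i L360110) L247752 L360110
theorem L360113 : sm ge N42575 = N42575 := ded_44_1 (flp_i L360110) L247753 L360110
theorem L360114 : sm gf N42575 = N31004 := ded_48_1 (flp_i L263002) (flp_f L247754) L360110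
theorem L360116 : sm gh N42575 = N29288 := ded_54_1 (flp_i L248316) (flp_h L171067) (flp_i L170689) L247750 L360110
theorem L360118 : sm gj N29219 = N42576 := rfl
theorem L360120 : sm gc N42576 = N29232 := ded_31_1 (flp_j L247850) (flp_c L247758) L360118
theorem L360122 : sm ge N42576 = N29425 := ded_42_1 (flp_j L249486) (flp_e L247762) L360118
theorem L360124 : sm gf N42576 = N29220 := ded_46_1 (flp_j L247766) L247756 L360118
theorem L360126 : sm gi N42576 = N29289 := ded_53_2 (flp_j L248322) (flp_i L247760) L360118
theorem L360128 : sm gh N29219 = N42577 := rfl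
theorem L360130 : sm gc N42577 = N29233 := ded_32_1 (flp_h L247861) (flp_c L247758) L360128
theorem L360132 : sm ge N42577 = N29426 := ded_43_1 (flp_h L249494) (flp_e L247762) L360128
theorem L360134 : sm gf N42577 = N29221 := ded_47_1 (flp_h L247774) L247756 L360128
theorem L360136 : sm gg N42577 = N31006 := ded_50_1 (flp_h L263019) (flp_g L247764) L360128
theorem L360138 : sm gh N29220 = N42578 := rfl
theorem L360140 : sm gc N42578 = N29234 := ded_32_1 (flp_h L247871) (flp_c L247768) L360138
theorem L360142 : sm ge N42578 = N29224 := ded_43_1 (flp_h L247796) (flp_e L247770) L360138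
theorem L360144 : sm gj N42578 = N29221 := ded_52_1 (flp_h L247774) L247766 L360138
theorem L360146 : sm gd N29221 = N42579 := rfl
theorem L360148 : sm gg N42579 = N29222 := ded_36_2 (flp_d L247782) (flp_g L247780) L360146
theorem L360150 : sm gi N29221 = N42580 := rfl
theorem L360152 : sm gc N42580 = N29236 := ded_33_1 (flp_i L247886) (flp_c L247776) L360150
theorem L360154 : sm ge N42580 = N29226 := ded_44_1 (flp_i L247811) (flp_e L247778) L360150
theorem L360156 : sm gg N42580 = N29223 := ded_51_1 (flp_i L247786) (flp_g L247780) L360150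
theorem L360158 : sm gh N42580 = N29293 := ded_54_1 (flp_i L248352) (flp_h L171087) (flp_i L170699) L247774 L360150
theorem L360160 : sm gc N29222 = N42581 := rfl
theorem L360162 : sm gf N42581 = N31010 := ded_29_2 (flp_c L263049) (flp_f L247784) L360160
theorem L360164 : sm gd N42581 = N29237 := ded_27_2 (flp_c L247896) (flp_d L170780) (flp_c L170703) L247782 L360160
theorem L360166 : sm ge N29222 = N42582 := rfl
theorem L360168 : sm gd N42582 = N29227 := ded_34_1 (flp_e L247821) (flp_d L170726) (flp_e L170705) L247782 L360166
theorem L360170 : sm gi N29222 = N42583 := rfl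
theorem L360172 : sm gd N42583 = N29223 := ded_39_1 (flp_i L247786) L247782 L360170
theorem L360174 : sm gf N42583 = N31012 := ded_48_1 (flp_i L263057) (flp_f L247784) L360170
theorem L360176 : sm gd N29224 = N42584 := rfl
theorem L360178 : sm gf N42584 = N29433 := ded_35_2 (flp_d L249544) (flp_f L247800) L360176
theorem L360180 : sm gj N42584 = N29225 := ded_37_2 (flp_d L247804) (flp_j L247802) L360176
theorem L360182 : sm gh N42584 = N42584 := ded_38_2 (flp_d L360176) (flp_h L247796) L170713 L247796 L360176
theorem L360183 : sm gi N29224 = N42585 := rfl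
theorem L360185 : sm gc N42585 = N29239 := ded_33_1 (flp_i L247909) (flp_c L247798) L360183
theorem L360187 : sm gf N42585 = N29434 := ded_48_1 (flp_i L249550) (flp_f L247800) L360183
theorem L360189 : sm gj N42585 = N29226 := ded_53_1 (flp_i L247811) (flp_j L247802) L360183
theorem L360191 : sm gh N42585 = N29298 := ded_54_1 (flp_i L248384) (flp_h L171107) (flp_i L170716) L247796 L360183
theorem L360193 : sm ge N29225 = N42586 := rfl
theorem L360195 : sm gg N42586 = N29227 := ded_41_2 (flp_e L247821) (flp_g L247808) L360193
theorem L360197 : sm gh N42586 = N42586 := ded_43_2 (flp_e L360193) L247810 L360193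
theorem L360198 : sm gi N29225 = N42587 := rfl
theorem L360200 : sm gd N42587 = N29226 := ded_39_1 (flp_i L247811) L247804 L360198
theorem L360202 : sm gf N42587 = N29436 := ded_48_1 (flp_i L249564) (flp_f L247806) L360198
theorem L360204 : sm gg N42587 = N29228 := ded_51_1 (flp_i L247824) (flp_g L247808) L360198
theorem L360206 : sm gf N29227 = N42588 := rfl
theorem L360208 : sm gh N42588 = N42588 := ded_47_2 (flp_f L360206) L247823 L360206
theorem L360209 : sm ge N42588 = N29229 := ded_40_1 (flp_f L247830) (flp_e L170739) (flp_f L170728) L247821 L360206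
theorem L360211 : sm gi N29227 = N42589 := rfl
theorem L360213 : sm ge N42589 = N29228 := ded_44_1 (flp_i L247824) L247821 L360211
theorem L360215 : sm gh N29228 = N42590 := rfl
theorem L360217 : sm gf N42590 = N29231 := ded_47_1 (flp_h L247843) (flp_f L247828) L360215
theorem L360219 : sm gd N42590 = N29303 := ded_38_1 (flp_h L248418) L171138 (flp_h L170737) (flp_d L247826) L360215
theorem L360221 : sm gi N42590 = N42590 := ded_54_2 (flp_h L360215) (flp_i L247824) L170730 L247824 L360215
theorem L360222 : sm gg N29229 = N42591 := rfl
theorem L360224 : sm gd N42591 = N31020 := ded_36_1 (flp_g L263117) (flp_d L247832) L360222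
theorem L360226 : sm gh N42591 = N42591 := ded_50_2 (flp_g L360222) L247834 L360222
theorem L360227 : sm gf N42591 = N29440 := ded_45_1 (flp_g L249589) (flp_f L171919) (flp_g L170741) L247830 L360222
theorem L360229 : sm gi N29229 = N42592 := rfl
theorem L360231 : sm gd N42592 = N31021 := ded_39_1 (flp_i L263124) (flp_d L247832) L360229
theorem L360233 : sm gf N42592 = N29230 := ded_48_1 (flp_i L247835) L247830 L360229
theorem L360235 : sm gh N29230 = N42593 := rfl
theorem L360237 : sm ge N42593 = N29231 := ded_43_1 (flp_h L247843) (flp_e L247839) L360235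
theorem L360239 : sm gg N42593 = N29442 := ded_50_1 (flp_h L249601) (flp_g L247841) L360235
theorem L360241 : sm gi N42593 = N42593 := ded_54_2 (flp_h L360235) (flp_i L247835) L170743 L247835 L360235
theorem L360242 : sm gg N29232 = N42594 := rfl
theorem L360244 : sm gb N42594 = N29240 := ded_23_1 (flp_g L247919) (flp_b L247852) L360242
theorem L360246 : sm gd N42594 = N42594 := ded_36_1 (flp_g L360242) L247854 L360242
theorem L360247 : sm ge N42594 = N29443 := ded_41_1 (flp_g L249607) (flp_e L247855) L360242
theorem L360249 : sm gi N42594 = N29307 := ded_51_2 (flp_g L248447) (flp_i L247859) L360242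
theorem L360251 : sm gj N42594 = N31023 := ded_49_2 (flp_g L263138) (flp_j L181048) (flp_g L170761) L247850 L360242
theorem L360253 : sm gh N29232 = N42595 := rfl
theorem L360255 : sm gb N42595 = N29241 := ded_25_1 (flp_h L247929) (flp_b L247852) L360253
theorem L360257 : sm ge N42595 = N29444 := ded_43_1 (flp_h L249618) (flp_e L247855) L360253
theorem L360259 : sm gf N42595 = N29234 := ded_47_1 (flp_h L247871) (flp_f L247857) L360253
theorem L360261 : sm gj N42595 = N29233 := ded_52_1 (flp_h L247861) L247850 L360253
theorem L360263 : sm gd N29233 = N42596 := rfl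
theorem L360265 : sm gb N42596 = N29242 := ded_20_1 (flp_d L247938) (flp_b L247863) L360263
theorem L360267 : sm gf N42596 = N29235 := ded_35_2 (flp_d L247879) (flp_f L247867) L360263
theorem L360269 : sm gg N42596 = N31025 := ded_36_2 (flp_d L263157) (flp_g L247869) L360263
theorem L360271 : sm gh N42596 = N42596 := ded_38_2 (flp_d L360263) (flp_h L247861) L170756 L247861 L360263
theorem L360272 : sm gi N29233 = N42597 := rfl
theorem L360274 : sm gb N42597 = N29243 := ded_26_1 (flp_i L247946) (flp_b L247863) L360272
theorem L360276 : sm ge N42597 = N29446 := ded_44_1 (flp_i L249636) (flp_e L247865) L360272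
theorem L360278 : sm gf N42597 = N29236 := ded_48_1 (flp_i L247886) (flp_f L247867) L360272
theorem L360280 : sm gg N42597 = N31026 := ded_51_1 (flp_i L263164) (flp_g L247869) L360272
theorem L360282 : sm gh N42597 = N29310 := ded_54_1 (flp_i L248475) (flp_h L171172) (flp_i L170757) L247861 L360272
theorem L360284 : sm gd N29234 = N42598 := rfl
theorem L360286 : sm gb N42598 = N29244 := ded_20_1 (flp_d L247957) (flp_b L247873) L360284
theorem L360288 : sm gj N42598 = N29235 := ded_37_2 (flp_d L247879) (flp_j L247877) L360284
theorem L360290 : sm gh N42598 = N42598 := ded_38_2 (flp_d L360284) (flp_h L247871) L170767 L247871 L360284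
theorem L360291 : sm gi N29234 = N42599 := rfl
theorem L360293 : sm gb N42599 = N29245 := ded_26_1 (flp_i L247963) (flp_b L247873) L360291
theorem L360295 : sm ge N42599 = N29239 := ded_44_1 (flp_i L247909) (flp_e L247875) L360291
theorem L360297 : sm gj N42599 = N29236 := ded_53_1 (flp_i L247886) (flp_j L247877) L360291
theorem L360299 : sm gh N42599 = N29312 := ded_54_1 (flp_i L248493) (flp_h L171182) (flp_i L170770) L247871 L360291
theorem L360301 : sm gc N29235 = N42600 := rfl
theorem L360303 : sm gg N42600 = N29237 := ded_30_2 (flp_c L247896) (flp_g L247883) L360301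
theorem L360305 : sm gh N42600 = N42600 := ded_32_2 (flp_c L360301) L247885 L360301
theorem L360306 : sm gi N29235 = N42601 := rfl
theorem L360308 : sm gb N42601 = N29247 := ded_26_1 (flp_i L247978) (flp_b L247881) L360306
theorem L360310 : sm gd N42601 = N29236 := ded_39_1 (flp_i L247886) L247879 L360306
theorem L360312 : sm gg N42601 = N29238 := ded_51_1 (flp_i L247901) (flp_g L247883) L360306
theorem L360314 : sm gb N29237 = N42602 := rfl
theorem L360316 : sm gf N42602 = N31031 := ded_22_2 (flp_b L263207) (flp_f L247898) L360314
theorem L360318 : sm gh N42602 = N42602 := ded_25_2 (flp_b L360314) L247900 L360314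
theorem L360319 : sm gc N42602 = N29248 := ded_19_2 (flp_b L247985) (flp_c L170856) (flp_b L170782) L247896 L360314
theorem L360321 : sm gi N29237 = N42603 := rfl
theorem L360323 : sm gc N42603 = N29238 := ded_33_1 (flp_i L247901) L247896 L360321
theorem L360325 : sm gf N42603 = N31032 := ded_48_1 (flp_i L263213) (flp_f L247898) L360321
theorem L360327 : sm gh N29238 = N42604 := rfl
theorem L360329 : sm gb N42604 = N29250 := ded_25_1 (flp_h L247997) (flp_b L247903) L360327
theorem L360331 : sm gf N42604 = N31033 := ded_47_1 (flp_h L263218) (flp_f L247907) L360327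
theorem L360333 : sm gd N42604 = N29317 := ded_38_1 (flp_h L248531) L171216 (flp_h L170795) (flp_d L247905) L360327
theorem L360335 : sm gi N42604 = N42604 := ded_54_2 (flp_h L360327) (flp_i L247901) L170786 L247901 L360327
theorem L360336 : sm gh N29240 = N42605 := rfl
theorem L360338 : sm ga N42605 = N42605 := ded_17_1 (flp_h L360336) L247921 L360336
theorem L360339 : sm ge N42605 = N29454 := ded_43_1 (flp_h L249707) (flp_e L247923) L360336
theorem L360341 : sm gg N42605 = N29241 := ded_50_1 (flp_h L247929) L247919 L360336
theorem L360343 : sm gj N42605 = N31034 := ded_52_1 (flp_h L263226) (flp_j L247927) L360336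
theorem L360345 : sm gd N29241 = N42606 := rfl
theorem L360347 : sm ga N42606 = N42606 := ded_12_1 (flp_d L360345) L247931 L360345
theorem L360348 : sm gf N42606 = N29244 := ded_35_2 (flp_d L247957) (flp_f L247934) L360345
theorem L360350 : sm gj N42606 = N29242 := ded_37_2 (flp_d L247938) (flp_j L247936) L360345
theorem L360352 : sm gh N42606 = N42606 := ded_38_2 (flp_d L360345) (flp_h L247929) L170818 L247929 L360345
theorem L360353 : sm gi N29241 = N42607 := rfl
theorem L360355 : sm ga N42607 = N42607 := ded_18_1 (flp_i L360353) L247931 L360353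
theorem L360356 : sm ge N42607 = N29456 := ded_44_1 (flp_i L249724) (flp_e L247932) L360353
theorem L360358 : sm gf N42607 = N29245 := ded_48_1 (flp_i L247963) (flp_f L247934) L360353
theorem L360360 : sm gj N42607 = N29243 := ded_53_1 (flp_i L247946) (flp_j L247936) L360353
theorem L360362 : sm gh N42607 = N29320 := ded_54_1 (flp_i L248556) (flp_h L171238) (flp_i L170823) L247929 L360353
theorem L360364 : sm gc N29242 = N42608 := rfl
theorem L360366 : sm ga N42608 = N42608 := ded_11_1 (flp_c L360364) L247940 L360364
theorem L360367 : sm gf N42608 = N29246 := ded_29_2 (flp_c L247972) (flp_f L247941) L360364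
theorem L360369 : sm gg N42608 = N31037 := ded_30_2 (flp_c L263252) (flp_g L247943) L360364
theorem L360371 : sm gh N42608 = N42608 := ded_32_2 (flp_c L360364) L247945 L360364
theorem L360372 : sm ge N29242 = N42609 := rfl
theorem L360374 : sm ga N42609 = N42609 := ded_13_1 (flp_e L360372) L247940 L360372
theorem L360375 : sm gg N42609 = N31038 := ded_41_2 (flp_e L263258) (flp_g L247943) L360372
theorem L360377 : sm gh N42609 = N42609 := ded_43_2 (flp_e L360372) L247945 L360372
theorem L360378 : sm gd N42609 = N29458 := ded_34_1 (flp_e L249742) (flp_d L172025) (flp_e L170828) L247938 L360372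
theorem L360380 : sm gi N29242 = N42610 := rfl
theorem L360382 : sm ga N42610 = N42610 := ded_18_1 (flp_i L360380) L247940 L360380
theorem L360383 : sm gd N42610 = N29243 := ded_39_1 (flp_i L247946) L247938 L360380
theorem L360385 : sm gf N42610 = N29247 := ded_48_1 (flp_i L247978) (flp_f L247941) L360380
theorem L360387 : sm gg N42610 = N31039 := ded_51_1 (flp_i L263265) (flp_g L247943) L360380
theorem L360389 : sm gc N29244 = N42611 := rfl
theorem L360391 : sm ga N42611 = N42611 := ded_11_1 (flp_c L360389) L247959 L360389
theorem L360392 : sm gj N42611 = N29246 := ded_31_2 (flp_c L247972) (flp_j L247960) L360389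
theorem L360394 : sm gh N42611 = N42611 := ded_32_2 (flp_c L360389) L247962 L360389
theorem L360395 : sm gi N29244 = N42612 := rfl
theorem L360397 : sm ga N42612 = N42612 := ded_18_1 (flp_i L360395) L247959 L360395
theorem L360398 : sm gd N42612 = N29245 := ded_39_1 (flp_i L247963) L247957 L360395
theorem L360400 : sm gj N42612 = N29247 := ded_53_1 (flp_i L247978) (flp_j L247960) L360395
theorem L360402 : sm gb N29246 = N42613 := rfl
theorem L360404 : sm gg N42613 = N29248 := ded_23_2 (flp_b L247985) (flp_g L247975) L360402
theorem L360406 : sm gh N42613 = N42613 := ded_25_2 (flp_b L360402) L247977 L360402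
theorem L360407 : sm gi N29246 = N42614 := rfl
theorem L360409 : sm ga N42614 = N42614 := ded_18_1 (flp_i L360407) L247974 L360407
theorem L360410 : sm gc N42614 = N29247 := ded_33_1 (flp_i L247978) L247972 L360407
theorem L360412 : sm gg N42614 = N29249 := ded_51_1 (flp_i L247990) (flp_g L247975) L360407
theorem L360414 : sm gh N29247 = N42615 := rfl
theorem L360416 : sm ga N42615 = N42615 := ded_17_1 (flp_h L360414) L247980 L360414
theorem L360417 : sm gg N42615 = N29250 := ded_50_1 (flp_h L247997) (flp_g L247983) L360414
theorem L360419 : sm gd N42615 = N29328 := ded_38_1 (flp_h L248620) L171288 (flp_h L170854) (flp_d L247981) L360414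
theorem L360421 : sm gi N42615 = N42615 := ded_54_2 (flp_h L360414) (flp_i L247978) L170846 L247978 L360414
theorem L360422 : sm ga N29248 = N42616 := rfl
theorem L360424 : sm gf N42616 = N31045 := ded_14_2 (flp_a L263310) (flp_f L247987) L360422
theorem L360426 : sm gh N42616 = N42616 := ded_17_2 (flp_a L360422) L247989 L360422
theorem L360427 : sm gb N42616 = N42616 := ded_10_2 (flp_a L360422) (flp_b L247985) L170858 L247985 L360422
theorem L360428 : sm gi N29248 = N42617 := rfl
theorem L360430 : sm gb N42617 = N29249 := ded_26_1 (flp_i L247990) L247985 L360428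
theorem L360432 : sm gf N42617 = N31046 := ded_48_1 (flp_i L263315) (flp_f L247987) L360428
theorem L360434 : sm gh N29249 = N42618 := rfl
theorem L360436 : sm ga N42618 = N42618 := ded_17_1 (flp_h L360434) L247992 L360434
theorem L360437 : sm gc N42618 = N29250 := ded_32_1 (flp_h L247997) (flp_c L247993) L360434
theorem L360439 : sm gf N42618 = N31047 := ded_47_1 (flp_h L263320) (flp_f L247995) L360434
theorem L360441 : sm gi N42618 = N42618 := ded_54_2 (flp_h L360434) (flp_i L247990) L170861 L247990 L360434
theorem L360442 : sm gc N29251 = N42619 := rfl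
theorem L360444 : sm ge N42619 = N42619 := ded_28_2 (flp_c L360442) L248011 L360442
theorem L360445 : sm gf N42619 = N31048 := ded_29_2 (flp_c L263327) (flp_f L248009) L360442
theorem L360447 : sm gb N42619 = N42619 := ded_19_1 (flp_c L360442) L248007 L170922 (flp_b L248007) L360442
theorem L360448 : sm gd N42619 = N42619 := ded_27_2 (flp_c L360442) (flp_d L248005) L170882 L248005 L360442
theorem L360449 : sm gg N29251 = N42620 := rfl
theorem L360451 : sm gb N42620 = N29261 := ded_23_1 (flp_g L248083) (flp_b L248007) L360449
theorem L360453 : sm gd N42620 = N29252 := ded_36_1 (flp_g L248012) L248005 L360449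
theorem L360455 : sm ge N42620 = N42620 := ded_41_1 (flp_g L360449) L248011 L360449
theorem L360456 : sm gh N29251 = N42621 := rfl
theorem L360458 : sm gb N42621 = N29262 := ded_25_1 (flp_h L248091) (flp_b L248007) L360456
theorem L360460 : sm ge N42621 = N42621 := ded_43_1 (flp_h L360456) L248011 L360456
theorem L360461 : sm gf N42621 = N31050 := ded_47_1 (flp_h L263341) (flp_f L248009) L360456
theorem L360463 : sm gf N29252 = N42622 := rfl
theorem L360465 : sm gb N42622 = N29263 := ded_22_1 (flp_f L248099) (flp_b L248014) L360463
theorem L360467 : sm gc N42622 = N42622 := ded_29_1 (flp_f L360463) L248016 L360463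
theorem L360468 : sm ge N42622 = N29471 := ded_40_1 (flp_f L249845) L172113 (flp_f L170891) (flp_e L248017) L360463
theorem L360470 : sm gg N42622 = N31051 := ded_45_2 (flp_f L263347) (flp_g L181201) (flp_f L170883) L248012 L360463
theorem L360472 : sm gj N29252 = N42623 := rfl
theorem L360474 : sm gb N42623 = N29264 := ded_24_1 (flp_j L248109) (flp_b L248014) L360472
theorem L360476 : sm gc N42623 = N42623 := ded_31_1 (flp_j L360472) L248016 L360472
theorem L360477 : sm ge N42623 = N29254 := ded_42_1 (flp_j L248028) (flp_e L248017) L360472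
theorem L360479 : sm gh N29252 = N42624 := rfl
theorem L360481 : sm gb N42624 = N29265 := ded_25_1 (flp_h L248117) (flp_b L248014) L360479
theorem L360483 : sm gc N42624 = N42624 := ded_32_1 (flp_h L360479) L248016 L360479
theorem L360484 : sm ge N42624 = N29255 := ded_43_1 (flp_h L248036) (flp_e L248017) L360479
theorem L360486 : sm gg N42624 = N29253 := ded_50_1 (flp_h L248019) L248012 L360479
theorem L360488 : sm gd N29253 = N42625 := rfl
theorem L360490 : sm gb N42625 = N29266 := ded_20_1 (flp_d L248127) (flp_b L248021) L360488
theorem L360494 : sm gi N29253 = N42626 := rfl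
theorem L360496 : sm gb N42626 = N29267 := ded_26_1 (flp_i L248133) (flp_b L248021) L360494
theorem L360498 : sm gc N42626 = N42626 := ded_33_1 (flp_i L360494) L248023 L360494
theorem L360499 : sm ge N42626 = N29257 := ded_44_1 (flp_i L248052) (flp_e L248024) L360494
theorem L360501 : sm gf N42626 = N31055 := ded_48_1 (flp_i L263374) (flp_f L248026) L360494
theorem L360503 : sm gh N29254 = N42627 := rfl
theorem L360505 : sm gb N42627 = N29268 := ded_25_1 (flp_h L248143) (flp_b L248030) L360503
theorem L360507 : sm gc N42627 = N42627 := ded_32_1 (flp_h L360503) L248032 L360503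
theorem L360508 : sm gf N42627 = N29476 := ded_47_1 (flp_h L249886) (flp_f L248034) L360503
theorem L360510 : sm gj N42627 = N29255 := ded_52_1 (flp_h L248036) L248028 L360503
theorem L360512 : sm gd N29255 = N42628 := rfl
theorem L360514 : sm gb N42628 = N29269 := ded_20_1 (flp_d L248153) (flp_b L248038) L360512
theorem L360516 : sm gf N42628 = N29477 := ded_35_2 (flp_d L249894) (flp_f L248041) L360512
theorem L360521 : sm gi N29255 = N42629 := rfl
theorem L360523 : sm gb N42629 = N29270 := ded_26_1 (flp_i L248163) (flp_b L248038) L360521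
theorem L360525 : sm gc N42629 = N42629 := ded_33_1 (flp_i L360521) L248040 L360521
theorem L360526 : sm gf N42629 = N29478 := ded_48_1 (flp_i L249901) (flp_f L248041) L360521
theorem L360528 : sm gg N42629 = N29257 := ded_51_1 (flp_i L248052) (flp_g L248043) L360521
theorem L360537 : sm ge N29256 = N42631 := rfl
theorem L360539 : sm gb N42631 = N29271 := ded_21_1 (flp_e L248173) (flp_b L248047) L360537
theorem L360542 : sm gi N29256 = N42632 := rfl
theorem L360544 : sm gb N42632 = N29272 := ded_26_1 (flp_i L248179) (flp_b L248047) L360542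
theorem L360566 : sm gf N29259 = N42635 := rfl
theorem L360568 : sm gb N42635 = N29273 := ded_22_1 (flp_f L248188) (flp_b L248068) L360566
theorem L360573 : sm gi N29259 = N42636 := rfl
theorem L360575 : sm gb N42636 = N29274 := ded_26_1 (flp_i L248196) (flp_b L248068) L360573
theorem L360581 : sm gg N42636 = N29485 := ded_51_1 (flp_i L249953) (flp_g L248070) L360573
theorem L360583 : sm gh N29260 = N42637 := rfl
theorem L360585 : sm gb N42637 = N29275 := ded_25_1 (flp_h L248207) (flp_b L248077) L360583
theorem L360587 : sm gg N42637 = N29486 := ded_50_1 (flp_h L249962) (flp_g L248081) L360583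
theorem L360590 : sm gf N29261 = N42638 := rfl
theorem L360592 : sm ga N42638 = N29284 := ded_14_1 (flp_f L248291) (flp_a L248085) L360590
theorem L360594 : sm gc N42638 = N42638 := ded_29_1 (flp_f L360590) L248087 L360590
theorem L360595 : sm gd N42638 = N29263 := ded_35_1 (flp_f L248099) (flp_d L248088) L360590
theorem L360597 : sm gg N42638 = N31067 := ded_45_2 (flp_f L263473) (flp_g L181273) (flp_f L170920) L248083 L360590
theorem L360599 : sm gj N29261 = N42639 := rfl
theorem L360601 : sm ga N42639 = N29285 := ded_16_1 (flp_j L248298) (flp_a L248085) L360599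
theorem L360603 : sm gc N42639 = N42639 := ded_31_1 (flp_j L360599) L248087 L360599
theorem L360604 : sm gd N42639 = N29264 := ded_37_1 (flp_j L248109) (flp_d L248088) L360599
theorem L360606 : sm ge N42639 = N42639 := ded_42_1 (flp_j L360599) L248090 L360599
theorem L360607 : sm gh N29261 = N42640 := rfl
theorem L360609 : sm ga N42640 = N29286 := ded_17_1 (flp_h L248304) (flp_a L248085) L360607
theorem L360611 : sm gc N42640 = N42640 := ded_32_1 (flp_h L360607) L248087 L360607
theorem L360612 : sm ge N42640 = N42640 := ded_43_1 (flp_h L360607) L248090 L360607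
theorem L360613 : sm gg N42640 = N29262 := ded_50_1 (flp_h L248091) L248083 L360607
theorem L360615 : sm gd N29262 = N42641 := rfl
theorem L360617 : sm ga N42641 = N29287 := ded_12_1 (flp_d L248310) (flp_a L248093) L360615
theorem L360619 : sm gf N42641 = N31070 := ded_35_2 (flp_d L263498) (flp_f L248097) L360615
theorem L360621 : sm gh N42641 = N29266 := ded_38_2 (flp_d L248127) (flp_h L170932) L170916 L248091 L360615
theorem L360623 : sm gi N29262 = N42642 := rfl
theorem L360625 : sm ga N42642 = N29288 := ded_18_1 (flp_i L248316) (flp_a L248093) L360623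
theorem L360627 : sm gc N42642 = N42642 := ded_33_1 (flp_i L360623) L248095 L360623
theorem L360628 : sm ge N42642 = N42642 := ded_44_1 (flp_i L360623) L248096 L360623
theorem L360629 : sm gf N42642 = N31071 := ded_48_1 (flp_i L263504) (flp_f L248097) L360623
theorem L360631 : sm gj N29263 = N42643 := rfl
theorem L360633 : sm ga N42643 = N29289 := ded_16_1 (flp_j L248322) (flp_a L248101) L360631
theorem L360635 : sm gc N42643 = N29276 := ded_31_1 (flp_j L248215) (flp_c L248103) L360631
theorem L360637 : sm ge N42643 = N29492 := ded_42_1 (flp_j L250016) (flp_e L248105) L360631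
theorem L360639 : sm gf N42643 = N29264 := ded_46_1 (flp_j L248109) L248099 L360631
theorem L360641 : sm gh N29263 = N42644 := rfl
theorem L360643 : sm ga N42644 = N29290 := ded_17_1 (flp_h L248330) (flp_a L248101) L360641
theorem L360645 : sm gc N42644 = N29277 := ded_32_1 (flp_h L248225) (flp_c L248103) L360641
theorem L360647 : sm ge N42644 = N29493 := ded_43_1 (flp_h L250024) (flp_e L248105) L360641
theorem L360649 : sm gf N42644 = N29265 := ded_47_1 (flp_h L248117) L248099 L360641
theorem L360651 : sm gg N42644 = N31073 := ded_50_1 (flp_h L263521) (flp_g L248107) L360641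
theorem L360653 : sm gh N29264 = N42645 := rfl
theorem L360655 : sm ga N42645 = N29291 := ded_17_1 (flp_h L248340) (flp_a L248111) L360653
theorem L360657 : sm gc N42645 = N29278 := ded_32_1 (flp_h L248236) (flp_c L248113) L360653
theorem L360659 : sm ge N42645 = N29268 := ded_43_1 (flp_h L248143) (flp_e L248115) L360653
theorem L360661 : sm gj N42645 = N29265 := ded_52_1 (flp_h L248117) L248109 L360653
theorem L360663 : sm gd N29265 = N42646 := rfl
theorem L360665 : sm ga N42646 = N29292 := ded_12_1 (flp_d L248348) (flp_a L248119) L360663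
theorem L360667 : sm gg N42646 = N29266 := ded_36_2 (flp_d L248127) (flp_g L248125) L360663
theorem L360669 : sm gi N29265 = N42647 := rfl
theorem L360671 : sm ga N42647 = N29293 := ded_18_1 (flp_i L248352) (flp_a L248119) L360669
theorem L360673 : sm gc N42647 = N29280 := ded_33_1 (flp_i L248254) (flp_c L248121) L360669
theorem L360675 : sm ge N42647 = N29270 := ded_44_1 (flp_i L248163) (flp_e L248123) L360669
theorem L360677 : sm gg N42647 = N29267 := ded_51_1 (flp_i L248133) (flp_g L248125) L360669
theorem L360679 : sm gc N29266 = N42648 := rfl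
theorem L360681 : sm ga N42648 = N29294 := ded_11_1 (flp_c L248360) (flp_a L248129) L360679
theorem L360683 : sm gf N42648 = N31077 := ded_29_2 (flp_c L263557) (flp_f L248131) L360679
theorem L360685 : sm gd N42648 = N29281 := ded_27_2 (flp_c L248263) (flp_d L171023) (flp_c L170936) L248127 L360679
theorem L360687 : sm ge N29266 = N42649 := rfl
theorem L360689 : sm ga N42649 = N29295 := ded_13_1 (flp_e L248366) (flp_a L248129) L360687
theorem L360691 : sm gd N42649 = N29271 := ded_34_1 (flp_e L248173) (flp_d L170961) (flp_e L170938) L248127 L360687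
theorem L360693 : sm gi N29266 = N42650 := rfl
theorem L360695 : sm ga N42650 = N29296 := ded_18_1 (flp_i L248370) (flp_a L248129) L360693
theorem L360697 : sm gd N42650 = N29267 := ded_39_1 (flp_i L248133) L248127 L360693
theorem L360699 : sm gf N42650 = N31079 := ded_48_1 (flp_i L263569) (flp_f L248131) L360693
theorem L360701 : sm gd N29268 = N42651 := rfl
theorem L360703 : sm ga N42651 = N29297 := ded_12_1 (flp_d L248376) (flp_a L248145) L360701
theorem L360705 : sm gf N42651 = N29500 := ded_35_2 (flp_d L250086) (flp_f L248149) L360701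
theorem L360707 : sm gj N42651 = N29269 := ded_37_2 (flp_d L248153) (flp_j L248151) L360701
theorem L360709 : sm gc N42651 = N42651 := ded_27_1 (flp_d L360701) L248147 L171050 (flp_c L248147) L360701
theorem L360710 : sm gh N42651 = N42651 := ded_38_2 (flp_d L360701) (flp_h L248143) L170948 L248143 L360701
theorem L360711 : sm gi N29268 = N42652 := rfl
theorem L360713 : sm ga N42652 = N29298 := ded_18_1 (flp_i L248384) (flp_a L248145) L360711
theorem L360715 : sm gc N42652 = N29283 := ded_33_1 (flp_i L248281) (flp_c L248147) L360711
theorem L360717 : sm gf N42652 = N29501 := ded_48_1 (flp_i L250095) (flp_f L248149) L360711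
theorem L360719 : sm gj N42652 = N29270 := ded_53_1 (flp_i L248163) (flp_j L248151) L360711
theorem L360721 : sm ge N29269 = N42653 := rfl
theorem L360723 : sm ga N42653 = N29299 := ded_13_1 (flp_e L248392) (flp_a L248155) L360721
theorem L360725 : sm gc N42653 = N42653 := ded_28_1 (flp_e L360721) L248161 L360721
theorem L360726 : sm gg N42653 = N29271 := ded_41_2 (flp_e L248173) (flp_g L248159) L360721
theorem L360728 : sm gh N42653 = N42653 := ded_43_2 (flp_e L360721) L248162 L360721
theorem L360729 : sm gi N29269 = N42654 := rfl
theorem L360731 : sm ga N42654 = N29300 := ded_18_1 (flp_i L248398) (flp_a L248155) L360729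
theorem L360733 : sm gc N42654 = N42654 := ded_33_1 (flp_i L360729) L248161 L360729
theorem L360734 : sm gd N42654 = N29270 := ded_39_1 (flp_i L248163) L248153 L360729
theorem L360736 : sm gf N42654 = N29503 := ded_48_1 (flp_i L250112) (flp_f L248157) L360729
theorem L360738 : sm gg N42654 = N29272 := ded_51_1 (flp_i L248179) (flp_g L248159) L360729
theorem L360740 : sm gf N29271 = N42655 := rfl
theorem L360742 : sm ga N42655 = N29301 := ded_14_1 (flp_f L248407) (flp_a L248175) L360740
theorem L360746 : sm ge N42655 = N29273 := ded_40_1 (flp_f L248188) (flp_e L170977) (flp_f L170965) L248173 L360740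
theorem L360748 : sm gi N29271 = N42656 := rfl
theorem L360750 : sm ga N42656 = N29302 := ded_18_1 (flp_i L248413) (flp_a L248175) L360748
theorem L360752 : sm gc N42656 = N42656 := ded_33_1 (flp_i L360748) L248177 L360748
theorem L360753 : sm ge N42656 = N29272 := ded_44_1 (flp_i L248179) L248173 L360748
theorem L360755 : sm gh N29272 = N42657 := rfl
theorem L360757 : sm ga N42657 = N29303 := ded_17_1 (flp_h L248418) (flp_a L248181) L360755
theorem L360759 : sm gc N42657 = N42657 := ded_32_1 (flp_h L360755) L248183 L360755
theorem L360760 : sm gf N42657 = N29275 := ded_47_1 (flp_h L248207) (flp_f L248186) L360755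
theorem L360762 : sm gi N42657 = N42657 := ded_54_2 (flp_h L360755) (flp_i L248179) L170968 L248179 L360755
theorem L360763 : sm gg N29273 = N42658 := rfl
theorem L360765 : sm ga N42658 = N29304 := ded_15_1 (flp_g L248424) (flp_a L248190) L360763
theorem L360773 : sm gi N29273 = N42659 := rfl
theorem L360775 : sm ga N42659 = N29305 := ded_18_1 (flp_i L248432) (flp_a L248190) L360773
theorem L360782 : sm gh N29274 = N42660 := rfl
theorem L360784 : sm ga N42660 = N29306 := ded_17_1 (flp_h L248439) (flp_a L248198) L360782
theorem L360787 : sm ge N42660 = N29275 := ded_43_1 (flp_h L248207) (flp_e L248203) L360782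
theorem L360789 : sm gg N42660 = N29509 := ded_50_1 (flp_h L250165) (flp_g L248205) L360782
theorem L360792 : sm gg N29276 = N42661 := rfl
theorem L360794 : sm ga N42661 = N29307 := ded_15_1 (flp_g L248447) (flp_a L248217) L360792
theorem L360796 : sm gb N42661 = N42661 := ded_23_1 (flp_g L360792) L248219 L360792
theorem L360797 : sm gd N42661 = N42661 := ded_36_1 (flp_g L360792) L248220 L360792
theorem L360798 : sm ge N42661 = N29510 := ded_41_1 (flp_g L250174) (flp_e L248221) L360792
theorem L360800 : sm gj N42661 = N31090 := ded_49_2 (flp_g L263677) (flp_j L181405) (flp_g L171004) L248215 L360792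
theorem L360802 : sm gh N29276 = N42662 := rfl
theorem L360804 : sm ga N42662 = N29308 := ded_17_1 (flp_h L248456) (flp_a L248217) L360802
theorem L360806 : sm gb N42662 = N42662 := ded_25_1 (flp_h L360802) L248219 L360802
theorem L360807 : sm ge N42662 = N29511 := ded_43_1 (flp_h L250184) (flp_e L248221) L360802
theorem L360809 : sm gf N42662 = N29278 := ded_47_1 (flp_h L248236) (flp_f L248223) L360802
theorem L360811 : sm gj N42662 = N29277 := ded_52_1 (flp_h L248225) L248215 L360802
theorem L360813 : sm gd N29277 = N42663 := rfl
theorem L360815 : sm ga N42663 = N29309 := ded_12_1 (flp_d L248466) (flp_a L248227) L360813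
theorem L360817 : sm gb N42663 = N42663 := ded_20_1 (flp_d L360813) L248229 L360813
theorem L360818 : sm gf N42663 = N29279 := ded_35_2 (flp_d L248245) (flp_f L248232) L360813
theorem L360820 : sm gg N42663 = N31092 := ded_36_2 (flp_d L263696) (flp_g L248234) L360813
theorem L360822 : sm gh N42663 = N42663 := ded_38_2 (flp_d L360813) (flp_h L248225) L171001 L248225 L360813
theorem L360823 : sm gi N29277 = N42664 := rfl
theorem L360825 : sm ga N42664 = N29310 := ded_18_1 (flp_i L248475) (flp_a L248227) L360823
theorem L360827 : sm gb N42664 = N42664 := ded_26_1 (flp_i L360823) L248229 L360823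
theorem L360828 : sm ge N42664 = N29513 := ded_44_1 (flp_i L250204) (flp_e L248230) L360823
theorem L360830 : sm gf N42664 = N29280 := ded_48_1 (flp_i L248254) (flp_f L248232) L360823
theorem L360832 : sm gg N42664 = N31093 := ded_51_1 (flp_i L263704) (flp_g L248234) L360823
theorem L360834 : sm gd N29278 = N42665 := rfl
theorem L360836 : sm ga N42665 = N29311 := ded_12_1 (flp_d L248485) (flp_a L248238) L360834
theorem L360838 : sm gb N42665 = N42665 := ded_20_1 (flp_d L360834) L248240 L360834
theorem L360839 : sm gj N42665 = N29279 := ded_37_2 (flp_d L248245) (flp_j L248243) L360834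
theorem L360841 : sm ge N42665 = N42665 := ded_34_2 (flp_d L360834) L248241 L171050 (flp_e L248241) L360834
theorem L360842 : sm gh N42665 = N42665 := ded_38_2 (flp_d L360834) (flp_h L248236) L171011 L248236 L360834
theorem L360843 : sm gi N29278 = N42666 := rfl
theorem L360845 : sm ga N42666 = N29312 := ded_18_1 (flp_i L248493) (flp_a L248238) L360843
theorem L360847 : sm gb N42666 = N42666 := ded_26_1 (flp_i L360843) L248240 L360843
theorem L360848 : sm ge N42666 = N29283 := ded_44_1 (flp_i L248281) (flp_e L248241) L360843
theorem L360850 : sm gj N42666 = N29280 := ded_53_1 (flp_i L248254) (flp_j L248243) L360843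
theorem L360852 : sm gc N29279 = N42667 := rfl
theorem L360854 : sm ga N42667 = N29313 := ded_11_1 (flp_c L248501) (flp_a L248247) L360852
theorem L360856 : sm ge N42667 = N42667 := ded_28_2 (flp_c L360852) L248252 L360852
theorem L360857 : sm gg N42667 = N29281 := ded_30_2 (flp_c L248263) (flp_g L248250) L360852
theorem L360859 : sm gh N42667 = N42667 := ded_32_2 (flp_c L360852) L248253 L360852
theorem L360860 : sm gi N29279 = N42668 := rfl
theorem L360862 : sm ga N42668 = N29314 := ded_18_1 (flp_i L248507) (flp_a L248247) L360860
theorem L360864 : sm gb N42668 = N42668 := ded_26_1 (flp_i L360860) L248249 L360860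
theorem L360865 : sm gd N42668 = N29280 := ded_39_1 (flp_i L248254) L248245 L360860
theorem L360867 : sm ge N42668 = N42668 := ded_44_1 (flp_i L360860) L248252 L360860
theorem L360868 : sm gg N42668 = N29282 := ded_51_1 (flp_i L248271) (flp_g L248250) L360860
theorem L360870 : sm gb N29281 = N42669 := rfl
theorem L360872 : sm ge N42669 = N42669 := ded_21_2 (flp_b L360870) L248267 L360870
theorem L360873 : sm gf N42669 = N31098 := ded_22_2 (flp_b L263752) (flp_f L248268) L360870
theorem L360875 : sm gh N42669 = N42669 := ded_25_2 (flp_b L360870) L248270 L360870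
theorem L360876 : sm gc N42669 = N42669 := ded_19_2 (flp_b L360870) (flp_c L248263) L171027 L248263 L360870
theorem L360877 : sm gi N29281 = N42670 := rfl
theorem L360879 : sm ga N42670 = N29316 := ded_18_1 (flp_i L248524) (flp_a L248265) L360877
theorem L360881 : sm gc N42670 = N29282 := ded_33_1 (flp_i L248271) L248263 L360877
theorem L360883 : sm ge N42670 = N42670 := ded_44_1 (flp_i L360877) L248267 L360877
theorem L360884 : sm gf N42670 = N31099 := ded_48_1 (flp_i L263758) (flp_f L248268) L360877
theorem L360886 : sm gh N29282 = N42671 := rfl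
theorem L360888 : sm ga N42671 = N29317 := ded_17_1 (flp_h L248531) (flp_a L248273) L360886
theorem L360890 : sm gb N42671 = N42671 := ded_25_1 (flp_h L360886) L248275 L360886
theorem L360891 : sm ge N42671 = N42671 := ded_43_1 (flp_h L360886) L248278 L360886
theorem L360892 : sm gf N42671 = N31100 := ded_47_1 (flp_h L263766) (flp_f L248279) L360886
theorem L360894 : sm gi N42671 = N42671 := ded_54_2 (flp_h L360886) (flp_i L248271) L171031 L248271 L360886
theorem L360895 : sm ge N29284 = N42672 := rfl
theorem L360897 : sm gc N42672 = N42672 := ded_28_1 (flp_e L360895) L248293 L360895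
theorem L360898 : sm gg N42672 = N31101 := ded_41_2 (flp_e L263774) (flp_g L248296) L360895
theorem L360900 : sm gd N42672 = N29521 := ded_34_1 (flp_e L250283) L172389 (flp_e L171077) (flp_d L248294) L360895
theorem L360902 : sm gf N42672 = N42672 := ded_40_2 (flp_e L360895) (flp_f L248291) L171066 L248291 L360895
theorem L360903 : sm gj N29284 = N42673 := rfl
theorem L360905 : sm gc N42673 = N42673 := ded_31_1 (flp_j L360903) L248293 L360903
theorem L360906 : sm gd N42673 = N29289 := ded_37_1 (flp_j L248322) (flp_d L248294) L360903
theorem L360908 : sm gf N42673 = N29285 := ded_46_1 (flp_j L248298) L248291 L360903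
theorem L360910 : sm gh N29284 = N42674 := rfl
theorem L360912 : sm gc N42674 = N42674 := ded_32_1 (flp_h L360910) L248293 L360910
theorem L360913 : sm gf N42674 = N29286 := ded_47_1 (flp_h L248304) L248291 L360910
theorem L360915 : sm gg N42674 = N31103 := ded_50_1 (flp_h L263788) (flp_g L248296) L360910
theorem L360917 : sm gh N29285 = N42675 := rfl
theorem L360919 : sm gc N42675 = N42675 := ded_32_1 (flp_h L360917) L248300 L360917
theorem L360920 : sm ge N42675 = N42675 := ded_43_1 (flp_h L360917) L248303 L360917
theorem L360921 : sm gj N42675 = N29286 := ded_52_1 (flp_h L248304) L248298 L360917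
theorem L360923 : sm gd N29286 = N42676 := rfl
theorem L360925 : sm gg N42676 = N29287 := ded_36_2 (flp_d L248310) (flp_g L248308) L360923
theorem L360927 : sm gh N42676 = N29292 := ded_38_2 (flp_d L248348) (flp_h L171087) (flp_d L171064) L248304 L360923
theorem L360929 : sm gi N29286 = N42677 := rfl
theorem L360931 : sm gc N42677 = N42677 := ded_33_1 (flp_i L360929) L248306 L360929
theorem L360932 : sm ge N42677 = N42677 := ded_44_1 (flp_i L360929) L248307 L360929
theorem L360933 : sm gg N42677 = N29288 := ded_51_1 (flp_i L248316) (flp_g L248308) L360929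
theorem L360935 : sm gc N29287 = N42678 := rfl
theorem L360937 : sm gf N42678 = N31107 := ded_29_2 (flp_c L263813) (flp_f L248312) L360935
theorem L360939 : sm gh N42678 = N29294 := ded_32_2 (flp_c L248360) (flp_h L248314) L360935
theorem L360941 : sm gd N42678 = N42678 := ded_27_2 (flp_c L360935) (flp_d L248310) L171069 L248310 L360935
theorem L360942 : sm ge N29287 = N42679 := rfl
theorem L360944 : sm gh N42679 = N29295 := ded_43_2 (flp_e L248366) (flp_h L248314) L360942
theorem L360946 : sm gd N42679 = N42679 := ded_34_1 (flp_e L360942) (flp_d L248310) L171070 L248310 L360942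
theorem L360947 : sm gi N29287 = N42680 := rfl
theorem L360949 : sm gd N42680 = N29288 := ded_39_1 (flp_i L248316) L248310 L360947
theorem L360951 : sm gf N42680 = N31109 := ded_48_1 (flp_i L263824) (flp_f L248312) L360947
theorem L360953 : sm gg N29289 = N42681 := rfl
theorem L360955 : sm gc N42681 = N29307 := ded_30_1 (flp_g L248447) (flp_c L248324) L360953
theorem L360957 : sm ge N42681 = N29530 := ded_41_1 (flp_g L250349) (flp_e L248326) L360953
theorem L360959 : sm gj N42681 = N31110 := ded_49_2 (flp_g L263828) (flp_j L181507) (flp_g L171079) L248322 L360953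
theorem L360961 : sm gh N29289 = N42682 := rfl
theorem L360963 : sm gc N42682 = N29308 := ded_32_1 (flp_h L248456) (flp_c L248324) L360961
theorem L360965 : sm ge N42682 = N29531 := ded_43_1 (flp_h L250356) (flp_e L248326) L360961
theorem L360967 : sm gf N42682 = N29291 := ded_47_1 (flp_h L248340) (flp_f L248328) L360961
theorem L360969 : sm gj N42682 = N29290 := ded_52_1 (flp_h L248330) L248322 L360961
theorem L360971 : sm gd N29290 = N42683 := rfl
theorem L360973 : sm gf N42683 = N29292 := ded_35_2 (flp_d L248348) (flp_f L248336) L360971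
theorem L360975 : sm gg N42683 = N31112 := ded_36_2 (flp_d L263844) (flp_g L248338) L360971
theorem L360977 : sm gi N29290 = N42684 := rfl
theorem L360979 : sm gc N42684 = N29310 := ded_33_1 (flp_i L248475) (flp_c L248332) L360977
theorem L360981 : sm ge N42684 = N29533 := ded_44_1 (flp_i L250370) (flp_e L248334) L360977
theorem L360983 : sm gf N42684 = N29293 := ded_48_1 (flp_i L248352) (flp_f L248336) L360977
theorem L360985 : sm gg N42684 = N31113 := ded_51_1 (flp_i L263848) (flp_g L248338) L360977
theorem L360987 : sm gd N29291 = N42685 := rfl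
theorem L360989 : sm gj N42685 = N29292 := ded_37_2 (flp_d L248348) (flp_j L248346) L360987
theorem L360991 : sm gi N29291 = N42686 := rfl
theorem L360993 : sm gc N42686 = N29312 := ded_33_1 (flp_i L248493) (flp_c L248342) L360991
theorem L360995 : sm ge N42686 = N29298 := ded_44_1 (flp_i L248384) (flp_e L248344) L360991
theorem L360997 : sm gj N42686 = N29293 := ded_53_1 (flp_i L248352) (flp_j L248346) L360991
theorem L360999 : sm gc N29292 = N42687 := rfl
theorem L361001 : sm gg N42687 = N29294 := ded_30_2 (flp_c L248360) (flp_g L248350) L360999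
theorem L361003 : sm gd N42687 = N29313 := ded_27_2 (flp_c L248501) (flp_d L171190) (flp_c L171089) L248348 L360999
theorem L361005 : sm ge N29292 = N42688 := rfl
theorem L361007 : sm gg N42688 = N29295 := ded_41_2 (flp_e L248366) (flp_g L248350) L361005
theorem L361009 : sm gd N42688 = N29299 := ded_34_1 (flp_e L248392) (flp_d L171115) (flp_e L171091) L248348 L361005
theorem L361011 : sm gi N29292 = N42689 := rfl
theorem L361013 : sm gd N42689 = N29293 := ded_39_1 (flp_i L248352) L248348 L361011
theorem L361015 : sm gg N42689 = N29296 := ded_51_1 (flp_i L248370) (flp_g L248350) L361011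
theorem L361017 : sm gb N29294 = N42690 := rfl
theorem L361019 : sm gd N42690 = N29315 := ded_20_2 (flp_b L248516) (flp_d L248364) L361017
theorem L361021 : sm gf N42690 = N31119 := ded_22_2 (flp_b L263886) (flp_f L248362) L361017
theorem L361023 : sm ge N29294 = N42691 := rfl
theorem L361025 : sm gc N42691 = N29295 := ded_28_1 (flp_e L248366) L248360 L361023
theorem L361027 : sm gd N42691 = N42691 := ded_34_1 (flp_e L361023) L248364 L171208 (flp_d L248364) L361023
theorem L361028 : sm gi N29294 = N42692 := rfl
theorem L361030 : sm gc N42692 = N29296 := ded_33_1 (flp_i L248370) L248360 L361028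
theorem L361032 : sm gd N42692 = N29316 := ded_39_1 (flp_i L248524) (flp_d L248364) L361028
theorem L361034 : sm gf N42692 = N31121 := ded_48_1 (flp_i L263896) (flp_f L248362) L361028
theorem L361036 : sm gf N29295 = N42693 := rfl
theorem L361038 : sm gd N42693 = N29301 := ded_35_1 (flp_f L248407) (flp_d L248368) L361036
theorem L361040 : sm ge N42693 = N31122 := ded_40_1 (flp_f L263902) (flp_e L181547) (flp_f L171097) L248366 L361036
theorem L361042 : sm gi N29295 = N42694 := rfl
theorem L361044 : sm gd N42694 = N29302 := ded_39_1 (flp_i L248413) (flp_d L248368) L361042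
theorem L361046 : sm ge N42694 = N29296 := ded_44_1 (flp_i L248370) L248366 L361042
theorem L361048 : sm gh N29296 = N42695 := rfl
theorem L361050 : sm gf N42695 = N31124 := ded_47_1 (flp_h L263912) (flp_f L248374) L361048
theorem L361052 : sm ge N29297 = N42696 := rfl
theorem L361054 : sm gc N42696 = N42696 := ded_28_1 (flp_e L361052) L248382 L361052
theorem L361055 : sm gj N42696 = N29299 := ded_42_2 (flp_e L248392) (flp_j L248380) L361052
theorem L361057 : sm gh N42696 = N42696 := ded_43_2 (flp_e L361052) L248383 L361052
theorem L361058 : sm gi N29297 = N42697 := rfl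
theorem L361060 : sm gc N42697 = N42697 := ded_33_1 (flp_i L361058) L248382 L361058
theorem L361061 : sm gd N42697 = N29298 := ded_39_1 (flp_i L248384) L248376 L361058
theorem L361063 : sm gf N42697 = N29546 := ded_48_1 (flp_i L250458) (flp_f L248378) L361058
theorem L361065 : sm gj N42697 = N29300 := ded_53_1 (flp_i L248398) (flp_j L248380) L361058
theorem L361067 : sm gf N29299 = N42698 := rfl
theorem L361069 : sm gc N42698 = N42698 := ded_29_1 (flp_f L361067) L248394 L361067
theorem L361070 : sm gh N42698 = N42698 := ded_47_2 (flp_f L361067) L248397 L361067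
theorem L361071 : sm ge N42698 = N29547 := ded_40_1 (flp_f L250466) (flp_e L172491) (flp_f L171117) L248392 L361067
theorem L361073 : sm gi N29299 = N42699 := rfl
theorem L361075 : sm gc N42699 = N42699 := ded_33_1 (flp_i L361073) L248394 L361073
theorem L361076 : sm ge N42699 = N29300 := ded_44_1 (flp_i L248398) L248392 L361073
theorem L361078 : sm gg N42699 = N29302 := ded_51_1 (flp_i L248413) (flp_g L248395) L361073
theorem L361080 : sm gh N29300 = N42700 := rfl
theorem L361082 : sm gc N42700 = N42700 := ded_32_1 (flp_h L361080) L248400 L361080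
theorem L361083 : sm gf N42700 = N29549 := ded_47_1 (flp_h L250477) (flp_f L248403) L361080
theorem L361085 : sm gg N42700 = N29303 := ded_50_1 (flp_h L248418) (flp_g L248405) L361080
theorem L361087 : sm gi N42700 = N42700 := ded_54_2 (flp_h L361080) (flp_i L248398) L171122 L248398 L361080
theorem L361088 : sm gg N29301 = N42701 := rfl
theorem L361090 : sm gc N42701 = N42701 := ded_30_1 (flp_g L361088) L248409 L361088
theorem L361091 : sm ge N42701 = N29304 := ded_41_1 (flp_g L248424) (flp_e L248411) L361088
theorem L361093 : sm gh N42701 = N42701 := ded_50_2 (flp_g L361088) L248410 L361088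
theorem L361094 : sm gi N29301 = N42702 := rfl
theorem L361096 : sm gc N42702 = N42702 := ded_33_1 (flp_i L361094) L248409 L361094
theorem L361097 : sm ge N42702 = N29305 := ded_44_1 (flp_i L248432) (flp_e L248411) L361094
theorem L361099 : sm gf N42702 = N29302 := ded_48_1 (flp_i L248413) L248407 L361094
theorem L361101 : sm gh N29302 = N42703 := rfl
theorem L361103 : sm gc N42703 = N42703 := ded_32_1 (flp_h L361101) L248415 L361101
theorem L361104 : sm ge N42703 = N29303 := ded_43_1 (flp_h L248418) (flp_e L248416) L361101
theorem L361106 : sm gi N42703 = N42703 := ded_54_2 (flp_h L361101) (flp_i L248413) L171134 L248413 L361101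
theorem L361107 : sm gj N29304 = N42704 := rfl
theorem L361109 : sm gc N42704 = N42704 := ded_31_1 (flp_j L361107) L248426 L361107
theorem L361110 : sm gd N42704 = N31133 := ded_37_1 (flp_j L263982) (flp_d L248427) L361107
theorem L361112 : sm gf N42704 = N29553 := ded_46_1 (flp_j L250504) (flp_f L248430) L361107
theorem L361114 : sm gh N42704 = N42704 := ded_52_2 (flp_j L361107) L248429 L361107
theorem L361115 : sm gi N29304 = N42705 := rfl
theorem L361117 : sm gc N42705 = N42705 := ded_33_1 (flp_i L361115) L248426 L361115
theorem L361118 : sm gd N42705 = N31134 := ded_39_1 (flp_i L263990) (flp_d L248427) L361115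
theorem L361120 : sm gf N42705 = N29554 := ded_48_1 (flp_i L250511) (flp_f L248430) L361115
theorem L361122 : sm gg N42705 = N29305 := ded_51_1 (flp_i L248432) L248424 L361115
theorem L361124 : sm gh N29305 = N42706 := rfl
theorem L361126 : sm gc N42706 = N42706 := ded_32_1 (flp_h L361124) L248434 L361124
theorem L361127 : sm gf N42706 = N29306 := ded_47_1 (flp_h L248439) (flp_f L248437) L361124
theorem L361129 : sm gi N42706 = N42706 := ded_54_2 (flp_h L361124) (flp_i L248432) L171147 L248432 L361124
theorem L361130 : sm gd N29306 = N42707 := rfl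
theorem L361135 : sm gh N42707 = N31136 := ded_38_2 (flp_d L264006) (flp_h L181627) (flp_d L171151) L248439 L361130
theorem L361137 : sm gh N29307 = N42708 := rfl
theorem L361139 : sm gb N42708 = N29318 := ded_25_1 (flp_h L248539) (flp_b L248449) L361137
theorem L361141 : sm ge N42708 = N29557 := ded_43_1 (flp_h L250531) (flp_e L248452) L361137
theorem L361143 : sm gg N42708 = N29308 := ded_50_1 (flp_h L248456) L248447 L361137
theorem L361145 : sm gj N42708 = N31137 := ded_52_1 (flp_h L264012) (flp_j L248454) L361137
theorem L361147 : sm gd N29308 = N42709 := rfl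
theorem L361149 : sm gb N42709 = N29319 := ded_20_1 (flp_d L248548) (flp_b L248458) L361147
theorem L361151 : sm gf N42709 = N29311 := ded_35_2 (flp_d L248485) (flp_f L248462) L361147
theorem L361153 : sm gj N42709 = N29309 := ded_37_2 (flp_d L248466) (flp_j L248464) L361147
theorem L361155 : sm gh N42709 = N42709 := ded_38_2 (flp_d L361147) (flp_h L248456) L171167 L248456 L361147
theorem L361156 : sm gi N29308 = N42710 := rfl
theorem L361158 : sm gb N42710 = N29320 := ded_26_1 (flp_i L248556) (flp_b L248458) L361156
theorem L361160 : sm ge N42710 = N29559 := ded_44_1 (flp_i L250550) (flp_e L248460) L361156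
theorem L361162 : sm gf N42710 = N29312 := ded_48_1 (flp_i L248493) (flp_f L248462) L361156
theorem L361164 : sm gj N42710 = N29310 := ded_53_1 (flp_i L248475) (flp_j L248464) L361156
theorem L361166 : sm gc N29309 = N42711 := rfl
theorem L361168 : sm gf N42711 = N29313 := ded_29_2 (flp_c L248501) (flp_f L248470) L361166
theorem L361170 : sm gg N42711 = N31140 := ded_30_2 (flp_c L264039) (flp_g L248472) L361166
theorem L361172 : sm gh N42711 = N42711 := ded_32_2 (flp_c L361166) L248474 L361166
theorem L361173 : sm ge N29309 = N42712 := rfl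
theorem L361175 : sm gb N42712 = N29322 := ded_21_1 (flp_e L248573) (flp_b L248468) L361173
theorem L361177 : sm gg N42712 = N31141 := ded_41_2 (flp_e L264044) (flp_g L248472) L361173
theorem L361179 : sm gh N42712 = N42712 := ded_43_2 (flp_e L361173) L248474 L361173
theorem L361180 : sm gd N42712 = N29561 := ded_34_1 (flp_e L250566) (flp_d L172562) (flp_e L171176) L248466 L361173
theorem L361182 : sm gf N42712 = N42712 := ded_40_2 (flp_e L361173) L248470 L171196 (flp_f L248470) L361173
theorem L361183 : sm gi N29309 = N42713 := rfl
theorem L361185 : sm gb N42713 = N29323 := ded_26_1 (flp_i L248582) (flp_b L248468) L361183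
theorem L361187 : sm gd N42713 = N29310 := ded_39_1 (flp_i L248475) L248466 L361183
theorem L361189 : sm gf N42713 = N29314 := ded_48_1 (flp_i L248507) (flp_f L248470) L361183
theorem L361191 : sm gg N42713 = N31142 := ded_51_1 (flp_i L264053) (flp_g L248472) L361183
theorem L361193 : sm gc N29311 = N42714 := rfl
theorem L361195 : sm ge N42714 = N42714 := ded_28_2 (flp_c L361193) L248491 L361193
theorem L361196 : sm gj N42714 = N29313 := ded_31_2 (flp_c L248501) (flp_j L248489) L361193
theorem L361198 : sm gh N42714 = N42714 := ded_32_2 (flp_c L361193) L248492 L361193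
theorem L361199 : sm gi N29311 = N42715 := rfl
theorem L361201 : sm gb N42715 = N29325 := ded_26_1 (flp_i L248598) (flp_b L248487) L361199
theorem L361203 : sm gd N42715 = N29312 := ded_39_1 (flp_i L248493) L248485 L361199
theorem L361205 : sm ge N42715 = N42715 := ded_44_1 (flp_i L361199) L248491 L361199
theorem L361206 : sm gj N42715 = N29314 := ded_53_1 (flp_i L248507) (flp_j L248489) L361199
theorem L361208 : sm gb N29313 = N42716 := rfl
theorem L361210 : sm ge N42716 = N42716 := ded_21_2 (flp_b L361208) L248503 L361208
theorem L361211 : sm gg N42716 = N29315 := ded_23_2 (flp_b L248516) (flp_g L248504) L361208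
theorem L361213 : sm gh N42716 = N42716 := ded_25_2 (flp_b L361208) L248506 L361208
theorem L361214 : sm gc N42716 = N29326 := ded_19_2 (flp_b L248606) (flp_c L171278) (flp_b L171192) L248501 L361208
theorem L361216 : sm gi N29313 = N42717 := rfl
theorem L361218 : sm gc N42717 = N29314 := ded_33_1 (flp_i L248507) L248501 L361216
theorem L361220 : sm ge N42717 = N42717 := ded_44_1 (flp_i L361216) L248503 L361216
theorem L361221 : sm gg N42717 = N29316 := ded_51_1 (flp_i L248524) (flp_g L248504) L361216
theorem L361223 : sm gh N29314 = N42718 := rfl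
theorem L361225 : sm gb N42718 = N29328 := ded_25_1 (flp_h L248620) (flp_b L248509) L361223
theorem L361227 : sm ge N42718 = N42718 := ded_43_1 (flp_h L361223) L248513 L361223
theorem L361228 : sm gg N42718 = N29317 := ded_50_1 (flp_h L248531) (flp_g L248514) L361223
theorem L361230 : sm gi N42718 = N42718 := ded_54_2 (flp_h L361223) (flp_i L248507) L171197 L248507 L361223
theorem L361231 : sm ga N29315 = N42719 := rfl
theorem L361233 : sm gc N42719 = N29329 := ded_11_2 (flp_a L248627) (flp_c L248522) L361231
theorem L361235 : sm ge N42719 = N42719 := ded_13_2 (flp_a L361231) L248518 L361231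
theorem L361236 : sm gf N42719 = N31148 := ded_14_2 (flp_a L264104) (flp_f L248519) L361231
theorem L361238 : sm gh N42719 = N42719 := ded_17_2 (flp_a L361231) L248521 L361231
theorem L361239 : sm gi N29315 = N42720 := rfl
theorem L361241 : sm gb N42720 = N29316 := ded_26_1 (flp_i L248524) L248516 L361239
theorem L361243 : sm gc N42720 = N29330 := ded_33_1 (flp_i L248634) (flp_c L248522) L361239
theorem L361245 : sm ge N42720 = N42720 := ded_44_1 (flp_i L361239) L248518 L361239
theorem L361246 : sm gf N42720 = N31149 := ded_48_1 (flp_i L264111) (flp_f L248519) L361239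
theorem L361248 : sm gh N29316 = N42721 := rfl
theorem L361250 : sm gc N42721 = N29317 := ded_32_1 (flp_h L248531) (flp_c L248526) L361248
theorem L361252 : sm ge N42721 = N42721 := ded_43_1 (flp_h L361248) L248528 L361248
theorem L361253 : sm gf N42721 = N31150 := ded_47_1 (flp_h L264119) (flp_f L248529) L361248
theorem L361255 : sm gi N42721 = N42721 := ded_54_2 (flp_h L361248) (flp_i L248524) L171211 L248524 L361248
theorem L361256 : sm gd N29318 = N42722 := rfl
theorem L361259 : sm gg N42722 = N29319 := ded_36_2 (flp_d L248548) (flp_g L248544) L361256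
theorem L361261 : sm gj N42722 = N31151 := ded_37_2 (flp_d L264126) (flp_j L248546) L361256
theorem L361264 : sm gi N29318 = N42723 := rfl
theorem L361266 : sm ga N42723 = N42723 := ded_18_1 (flp_i L361264) L248541 L361264
theorem L361267 : sm ge N42723 = N29572 := ded_44_1 (flp_i L250668) (flp_e L248542) L361264
theorem L361269 : sm gg N42723 = N29320 := ded_51_1 (flp_i L248556) (flp_g L248544) L361264
theorem L361271 : sm gj N42723 = N31152 := ded_53_1 (flp_i L264132) (flp_j L248546) L361264
theorem L361273 : sm gc N29319 = N42724 := rfl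
theorem L361276 : sm gf N42724 = N29324 := ded_29_2 (flp_c L248591) (flp_f L248551) L361273
theorem L361278 : sm gj N42724 = N29321 := ded_31_2 (flp_c L248565) (flp_j L248553) L361273
theorem L361281 : sm ge N29319 = N42725 := rfl
theorem L361283 : sm ga N42725 = N42725 := ded_13_1 (flp_e L361281) L248550 L361281
theorem L361284 : sm gj N42725 = N29322 := ded_42_2 (flp_e L248573) (flp_j L248553) L361281
theorem L361286 : sm gh N42725 = N42725 := ded_43_2 (flp_e L361281) L248555 L361281
theorem L361287 : sm gd N42725 = N29574 := ded_34_1 (flp_e L250685) (flp_d L172651) (flp_e L171241) L248548 L361281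
theorem L361289 : sm gf N42725 = N42725 := ded_40_2 (flp_e L361281) L248551 L171269 (flp_f L248551) L361281
theorem L361290 : sm gi N29319 = N42726 := rfl
theorem L361292 : sm ga N42726 = N42726 := ded_18_1 (flp_i L361290) L248550 L361290
theorem L361293 : sm gd N42726 = N29320 := ded_39_1 (flp_i L248556) L248548 L361290
theorem L361295 : sm gf N42726 = N29325 := ded_48_1 (flp_i L248598) (flp_f L248551) L361290
theorem L361297 : sm gj N42726 = N29323 := ded_53_1 (flp_i L248582) (flp_j L248553) L361290
theorem L361299 : sm gb N29321 = N42727 := rfl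
theorem L361301 : sm gf N42727 = N29326 := ded_22_2 (flp_b L248606) (flp_f L248568) L361299
theorem L361303 : sm gg N42727 = N31156 := ded_23_2 (flp_b L264166) (flp_g L248570) L361299
theorem L361305 : sm gh N42727 = N42727 := ded_25_2 (flp_b L361299) L248572 L361299
theorem L361306 : sm ge N29321 = N42728 := rfl
theorem L361308 : sm ga N42728 = N42728 := ded_13_1 (flp_e L361306) L248567 L361306
theorem L361309 : sm gc N42728 = N29322 := ded_28_1 (flp_e L248573) L248565 L361306
theorem L361311 : sm gg N42728 = N31157 := ded_41_2 (flp_e L264171) (flp_g L248570) L361306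
theorem L361313 : sm gh N42728 = N42728 := ded_43_2 (flp_e L361306) L248572 L361306
theorem L361314 : sm gf N42728 = N42728 := ded_40_2 (flp_e L361306) L248568 L171281 (flp_f L248568) L361306
theorem L361315 : sm gi N29321 = N42729 := rfl
theorem L361317 : sm ga N42729 = N42729 := ded_18_1 (flp_i L361315) L248567 L361315
theorem L361318 : sm gc N42729 = N29323 := ded_33_1 (flp_i L248582) L248565 L361315
theorem L361320 : sm gf N42729 = N29327 := ded_48_1 (flp_i L248612) (flp_f L248568) L361315
theorem L361322 : sm gg N42729 = N31158 := ded_51_1 (flp_i L264179) (flp_g L248570) L361315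
theorem L361324 : sm gi N29322 = N42730 := rfl
theorem L361326 : sm ga N42730 = N42730 := ded_18_1 (flp_i L361324) L248575 L361324
theorem L361327 : sm gd N42730 = N29579 := ded_39_1 (flp_i L250729) (flp_d L248579) L361324
theorem L361329 : sm ge N42730 = N29323 := ded_44_1 (flp_i L248582) L248573 L361324
theorem L361331 : sm gf N42730 = N42730 := ded_48_1 (flp_i L361324) L248581 L361324
theorem L361332 : sm gg N42730 = N31159 := ded_51_1 (flp_i L264186) (flp_g L248576) L361324
theorem L361334 : sm gh N29323 = N42731 := rfl
theorem L361336 : sm ga N42731 = N42731 := ded_17_1 (flp_h L361334) L248584 L361334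
theorem L361337 : sm gf N42731 = N29328 := ded_47_1 (flp_h L248620) (flp_f L248587) L361334
theorem L361339 : sm gg N42731 = N31160 := ded_50_1 (flp_h L264195) (flp_g L248589) L361334
theorem L361341 : sm gi N42731 = N42731 := ded_54_2 (flp_h L361334) (flp_i L248582) L171254 L248582 L361334
theorem L361342 : sm gb N29324 = N42732 := rfl
theorem L361345 : sm gj N42732 = N29326 := ded_24_2 (flp_b L248606) (flp_j L248595) L361342
theorem L361348 : sm gi N29324 = N42733 := rfl
theorem L361351 : sm gc N42733 = N29325 := ded_33_1 (flp_i L248598) L248591 L361348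
theorem L361354 : sm gj N42733 = N29327 := ded_53_1 (flp_i L248612) (flp_j L248595) L361348
theorem L361356 : sm gh N29325 = N42734 := rfl
theorem L361358 : sm ga N42734 = N42734 := ded_17_1 (flp_h L361356) L248600 L361356
theorem L361359 : sm ge N42734 = N42734 := ded_43_1 (flp_h L361356) L248603 L361356
theorem L361360 : sm gj N42734 = N29328 := ded_52_1 (flp_h L248620) (flp_j L248604) L361356
theorem L361362 : sm gi N42734 = N42734 := ded_54_2 (flp_h L361356) (flp_i L248598) L171270 L248598 L361356
theorem L361363 : sm ga N29326 = N42735 := rfl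
theorem L361365 : sm ge N42735 = N42735 := ded_13_2 (flp_a L361363) L248608 L361363
theorem L361366 : sm gg N42735 = N29329 := ded_15_2 (flp_a L248627) (flp_g L248609) L361363
theorem L361368 : sm gh N42735 = N42735 := ded_17_2 (flp_a L361363) L248611 L361363
theorem L361369 : sm gb N42735 = N42735 := ded_10_2 (flp_a L361363) (flp_b L248606) L171280 L248606 L361363
theorem L361370 : sm gi N29326 = N42736 := rfl
theorem L361372 : sm gb N42736 = N29327 := ded_26_1 (flp_i L248612) L248606 L361370
theorem L361374 : sm ge N42736 = N42736 := ded_44_1 (flp_i L361370) L248608 L361370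
theorem L361375 : sm gg N42736 = N29330 := ded_51_1 (flp_i L248634) (flp_g L248609) L361370
theorem L361377 : sm gh N29327 = N42737 := rfl
theorem L361379 : sm ga N42737 = N42737 := ded_17_1 (flp_h L361377) L248614 L361377
theorem L361380 : sm gc N42737 = N29328 := ded_32_1 (flp_h L248620) (flp_c L248615) L361377
theorem L361382 : sm ge N42737 = N42737 := ded_43_1 (flp_h L361377) L248617 L361377
theorem L361383 : sm gg N42737 = N29331 := ded_50_1 (flp_h L248641) (flp_g L248618) L361377
theorem L361385 : sm gi N42737 = N42737 := ded_54_2 (flp_h L361377) (flp_i L248612) L171284 L248612 L361377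
theorem L361386 : sm gi N29329 = N42738 := rfl
theorem L361388 : sm ga N42738 = N29330 := ded_18_1 (flp_i L248634) L248627 L361386
theorem L361390 : sm gb N42738 = N42738 := ded_26_1 (flp_i L361386) L248633 L361386
theorem L361391 : sm ge N42738 = N42738 := ded_44_1 (flp_i L361386) L248629 L361386
theorem L361392 : sm gf N42738 = N31167 := ded_48_1 (flp_i L264251) (flp_f L248630) L361386
theorem L361394 : sm gh N29330 = N42739 := rfl
theorem L361396 : sm gb N42739 = N29331 := ded_25_1 (flp_h L248641) (flp_b L248636) L361394
theorem L361398 : sm ge N42739 = N42739 := ded_43_1 (flp_h L361394) L248638 L361394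
theorem L361399 : sm gf N42739 = N31168 := ded_47_1 (flp_h L264258) (flp_f L248639) L361394
theorem L361401 : sm gi N42739 = N42739 := ded_54_2 (flp_h L361394) (flp_i L248634) L171298 L248634 L361394
theorem L361402 : sm gd N29331 = N42740 := rfl
theorem L361404 : sm ga N42740 = N42740 := ded_12_1 (flp_d L361402) L248643 L361402
theorem L361405 : sm gf N42740 = N31169 := ded_35_2 (flp_d L264265) (flp_f L248647) L361402
theorem L361407 : sm gi N42740 = N42740 := ded_39_2 (flp_d L361402) L248649 L361402
theorem L361445 : sm gh N29333 = N42745 := rfl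
theorem L361448 : sm gb N42745 = N29341 := ded_25_1 (flp_h L248730) (flp_b L248662) L361445
theorem L361451 : sm gg N42745 = N29334 := ded_50_1 (flp_h L248667) L248659 L361445
theorem L361453 : sm gd N29334 = N42746 := rfl
theorem L361455 : sm ga N42746 = N42746 := ded_12_1 (flp_d L361453) L248669 L361453
theorem L361456 : sm gb N42746 = N29342 := ded_20_1 (flp_d L248738) (flp_b L248670) L361453
theorem L361458 : sm gf N42746 = N29335 := ded_35_2 (flp_d L248676) (flp_f L248673) L361453
theorem L361460 : sm gj N42746 = N42746 := ded_37_2 (flp_d L361453) L248675 L361453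
theorem L361461 : sm gh N42746 = N42746 := ded_38_2 (flp_d L361453) (flp_h L248667) L171320 L248667 L361453
theorem L361462 : sm gi N29334 = N42747 := rfl
theorem L361464 : sm ga N42747 = N42747 := ded_18_1 (flp_i L361462) L248669 L361462
theorem L361465 : sm gb N42747 = N29343 := ded_26_1 (flp_i L248748) (flp_b L248670) L361462
theorem L361467 : sm gc N42747 = N42747 := ded_33_1 (flp_i L361462) L248672 L361462
theorem L361468 : sm gf N42747 = N29336 := ded_48_1 (flp_i L248683) (flp_f L248673) L361462
theorem L361470 : sm gj N42747 = N42747 := ded_53_1 (flp_i L361462) L248675 L361462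
theorem L361471 : sm gh N42747 = N42747 := ded_54_1 (flp_i L361462) (flp_h L248667) L171322 L248667 L361462
theorem L361472 : sm gc N29335 = N42748 := rfl
theorem L361477 : sm gb N42748 = N29394 := ded_19_1 (flp_c L249205) L171660 (flp_c L171362) (flp_b L248679) L361472
theorem L361480 : sm ge N29335 = N42749 := rfl
theorem L361483 : sm gb N42749 = N29344 := ded_21_1 (flp_e L248758) (flp_b L248679) L361480
theorem L361488 : sm gi N29335 = N42750 := rfl
theorem L361490 : sm ga N42750 = N42750 := ded_18_1 (flp_i L361488) L248678 L361488
theorem L361491 : sm gb N42750 = N29345 := ded_26_1 (flp_i L248767) (flp_b L248679) L361488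
theorem L361493 : sm gd N42750 = N29336 := ded_39_1 (flp_i L248683) L248676 L361488
theorem L361495 : sm gj N42750 = N42750 := ded_53_1 (flp_i L361488) L248681 L361488
theorem L361523 : sm gj N29338 = N42754 := rfl
theorem L361525 : sm ga N42754 = N29356 := ded_16_1 (flp_j L248870) (flp_a L248704) L361523
theorem L361527 : sm gc N42754 = N29347 := ded_31_1 (flp_j L248785) (flp_c L248706) L361523
theorem L361533 : sm gh N29338 = N42755 := rfl
theorem L361535 : sm ga N42755 = N29357 := ded_17_1 (flp_h L248879) (flp_a L248704) L361533
theorem L361541 : sm gg N42755 = N29339 := ded_50_1 (flp_h L248711) L248702 L361533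
theorem L361543 : sm gd N29339 = N42756 := rfl
theorem L361545 : sm ga N42756 = N29358 := ded_12_1 (flp_d L248888) (flp_a L248713) L361543
theorem L361549 : sm gi N29339 = N42757 := rfl
theorem L361551 : sm ga N42757 = N29359 := ded_18_1 (flp_i L248893) (flp_a L248713) L361549
theorem L361560 : sm gh N29340 = N42758 := rfl
theorem L361562 : sm ga N42758 = N29360 := ded_17_1 (flp_h L248903) (flp_a L248723) L361560
theorem L361564 : sm gc N42758 = N29351 := ded_32_1 (flp_h L248826) (flp_c L248725) L361560
theorem L361567 : sm gj N42758 = N29341 := ded_52_1 (flp_h L248730) L248721 L361560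
theorem L361569 : sm gd N29341 = N42759 := rfl
theorem L361571 : sm ga N42759 = N29361 := ded_12_1 (flp_d L248911) (flp_a L248732) L361569
theorem L361573 : sm gg N42759 = N29342 := ded_36_2 (flp_d L248738) (flp_g L248736) L361569
theorem L361575 : sm gc N42759 = N29405 := ded_27_1 (flp_d L249306) L171721 (flp_d L171409) (flp_c L248734) L361569
theorem L361577 : sm gh N42759 = N42759 := ded_38_2 (flp_d L361569) (flp_h L248730) L171346 L248730 L361569
theorem L361578 : sm gi N29341 = N42760 := rfl
theorem L361580 : sm ga N42760 = N29362 := ded_18_1 (flp_i L248919) (flp_a L248732) L361578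
theorem L361582 : sm gc N42760 = N29352 := ded_33_1 (flp_i L248836) (flp_c L248734) L361578
theorem L361584 : sm gg N42760 = N29343 := ded_51_1 (flp_i L248748) (flp_g L248736) L361578
theorem L361586 : sm gh N42760 = N42760 := ded_54_1 (flp_i L361578) (flp_h L248730) L171347 L248730 L361578
theorem L361587 : sm ge N29342 = N42761 := rfl
theorem L361589 : sm ga N42761 = N29363 := ded_13_1 (flp_e L248927) (flp_a L248740) L361587
theorem L361591 : sm gc N42761 = N29407 := ded_28_1 (flp_e L249323) (flp_c L248745) L361587
theorem L361593 : sm gj N42761 = N42761 := ded_42_2 (flp_e L361587) L248744 L361587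
theorem L361594 : sm gh N42761 = N42761 := ded_43_2 (flp_e L361587) L248747 L361587
theorem L361595 : sm gi N29342 = N42762 := rfl
theorem L361597 : sm ga N42762 = N29364 := ded_18_1 (flp_i L248934) (flp_a L248740) L361595
theorem L361599 : sm gc N42762 = N29408 := ded_33_1 (flp_i L249329) (flp_c L248745) L361595
theorem L361601 : sm gd N42762 = N29343 := ded_39_1 (flp_i L248748) L248738 L361595
theorem L361603 : sm gf N42762 = N29345 := ded_48_1 (flp_i L248767) (flp_f L248742) L361595
theorem L361605 : sm gj N42762 = N42762 := ded_53_1 (flp_i L361595) L248744 L361595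
theorem L361615 : sm gi N29344 = N42764 := rfl
theorem L361617 : sm ga N42764 = N29366 := ded_18_1 (flp_i L248952) (flp_a L248760) L361615
theorem L361619 : sm gc N42764 = N29410 := ded_33_1 (flp_i L249346) (flp_c L248762) L361615
theorem L361622 : sm ge N42764 = N29345 := ded_44_1 (flp_i L248767) L248758 L361615
theorem L361625 : sm gh N29345 = N42765 := rfl
theorem L361627 : sm ga N42765 = N29367 := ded_17_1 (flp_h L248961) (flp_a L248769) L361625
theorem L361629 : sm gc N42765 = N29411 := ded_32_1 (flp_h L249355) (flp_c L248771) L361625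
theorem L361631 : sm gj N42765 = N42765 := ded_52_1 (flp_h L361625) L248775 L361625
theorem L361632 : sm gd N42765 = N42765 := ded_38_1 (flp_h L361625) L248773 L171373 (flp_d L248773) L361625
theorem L361633 : sm gi N42765 = N42765 := ded_54_2 (flp_h L361625) (flp_i L248767) L171364 L248767 L361625
theorem L361634 : sm gj N29346 = N42766 := rfl
theorem L361639 : sm gd N42766 = N29670 := ded_37_1 (flp_j L251551) (flp_d L248781) L361634
theorem L361641 : sm gf N42766 = N29347 := ded_46_1 (flp_j L248785) L248776 L361634
theorem L361644 : sm gh N29346 = N42767 := rfl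
theorem L361646 : sm ga N42767 = N29369 := ded_17_1 (flp_h L248978) (flp_a L248778) L361644
theorem L361652 : sm gh N29347 = N42768 := rfl
theorem L361654 : sm ga N42768 = N29370 := ded_17_1 (flp_h L248985) (flp_a L248787) L361652
theorem L361673 : sm gi N29348 = N42770 := rfl
theorem L361678 : sm ge N42770 = N29352 := ded_44_1 (flp_i L248836) (flp_e L248801) L361673
theorem L361704 : sm gi N29351 = N42773 := rfl
theorem L361706 : sm ga N42773 = N29375 := ded_18_1 (flp_i L249031) (flp_a L248828) L361704
theorem L361708 : sm gb N42773 = N42773 := ded_26_1 (flp_i L361704) L248830 L361704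
theorem L361709 : sm gd N42773 = N29419 := ded_39_1 (flp_i L249432) (flp_d L248834) L361704
theorem L361711 : sm gg N42773 = N42773 := ded_51_1 (flp_i L361704) L248831 L361704
theorem L361712 : sm gj N42773 = N29352 := ded_53_1 (flp_i L248836) (flp_j L248832) L361704
theorem L361714 : sm gh N42773 = N42773 := ded_54_1 (flp_i L361704) (flp_h L248826) L171400 L248826 L361704
theorem L361715 : sm gf N29353 = N42774 := rfl
theorem L361720 : sm gd N42774 = N29355 := ded_35_1 (flp_f L248863) (flp_d L248851) L361715
theorem L361734 : sm gh N29353 = N42776 := rfl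
theorem L361737 : sm gc N42776 = N29680 := ded_32_1 (flp_h L251642) (flp_c L248849) L361734
theorem L361742 : sm gd N29354 = N42777 := rfl
theorem L361747 : sm gh N42777 = N29358 := ded_38_2 (flp_d L248888) (flp_h L171439) L171422 L248855 L361742
theorem L361766 : sm gh N29355 = N42780 := rfl
theorem L361769 : sm gc N42780 = N29369 := ded_32_1 (flp_h L248978) (flp_c L248866) L361766
theorem L361771 : sm gf N42780 = N29357 := ded_47_1 (flp_h L248879) L248863 L361766
theorem L361774 : sm gh N29356 = N42781 := rfl
theorem L361777 : sm gc N42781 = N29370 := ded_32_1 (flp_h L248985) (flp_c L248873) L361774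
theorem L361779 : sm ge N42781 = N29360 := ded_43_1 (flp_h L248903) (flp_e L248875) L361774
theorem L361782 : sm gj N42781 = N29357 := ded_52_1 (flp_h L248879) L248870 L361774
theorem L361784 : sm gd N29357 = N42782 := rfl
theorem L361787 : sm gg N42782 = N29358 := ded_36_2 (flp_d L248888) (flp_g L248886) L361784
theorem L361789 : sm gi N29357 = N42783 := rfl
theorem L361791 : sm gb N42783 = N42783 := ded_26_1 (flp_i L361789) L248881 L361789
theorem L361792 : sm gc N42783 = N29372 := ded_33_1 (flp_i L249004) (flp_c L248882) L361789
theorem L361794 : sm ge N42783 = N29362 := ded_44_1 (flp_i L248919) (flp_e L248884) L361789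
theorem L361796 : sm gg N42783 = N29359 := ded_51_1 (flp_i L248893) (flp_g L248886) L361789
theorem L361798 : sm gh N42783 = N42783 := ded_54_1 (flp_i L361789) (flp_h L248879) L171438 L248879 L361789
theorem L361799 : sm gc N29358 = N42784 := rfl
theorem L361803 : sm gd N42784 = N29373 := ded_27_2 (flp_c L249013) (flp_d L171523) (flp_c L171442) L248888 L361799
theorem L361805 : sm ge N29358 = N42785 := rfl
theorem L361807 : sm gb N42785 = N42785 := ded_21_1 (flp_e L361805) L248890 L361805
theorem L361808 : sm gj N42785 = N42785 := ded_42_2 (flp_e L361805) L248892 L361805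
theorem L361809 : sm gd N42785 = N29363 := ded_34_1 (flp_e L248927) (flp_d L171463) (flp_e L171444) L248888 L361805
theorem L361811 : sm gi N29358 = N42786 := rfl
theorem L361813 : sm gb N42786 = N42786 := ded_26_1 (flp_i L361811) L248890 L361811
theorem L361814 : sm gd N42786 = N29359 := ded_39_1 (flp_i L248893) L248888 L361811
theorem L361816 : sm gf N42786 = N42786 := ded_48_1 (flp_i L361811) L248891 L361811
theorem L361817 : sm gj N42786 = N42786 := ded_53_1 (flp_i L361811) L248892 L361811
theorem L361818 : sm gd N29360 = N42787 := rfl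
theorem L361820 : sm gb N42787 = N42787 := ded_20_1 (flp_d L361818) L248905 L361818
theorem L361821 : sm gg N42787 = N42787 := ded_36_2 (flp_d L361818) L248908 L361818
theorem L361822 : sm gj N42787 = N29361 := ded_37_2 (flp_d L248911) (flp_j L248909) L361818
theorem L361824 : sm gc N42787 = N29433 := ded_27_1 (flp_d L249544) L171890 (flp_d L171549) (flp_c L248906) L361818
theorem L361826 : sm gh N42787 = N42787 := ded_38_2 (flp_d L361818) (flp_h L248903) L171453 L248903 L361818
theorem L361827 : sm gi N29360 = N42788 := rfl
theorem L361829 : sm gb N42788 = N42788 := ded_26_1 (flp_i L361827) L248905 L361827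
theorem L361830 : sm gc N42788 = N29375 := ded_33_1 (flp_i L249031) (flp_c L248906) L361827
theorem L361832 : sm gg N42788 = N42788 := ded_51_1 (flp_i L361827) L248908 L361827
theorem L361833 : sm gj N42788 = N29362 := ded_53_1 (flp_i L248919) (flp_j L248909) L361827
theorem L361835 : sm gh N42788 = N42788 := ded_54_1 (flp_i L361827) (flp_h L248903) L171454 L248903 L361827
theorem L361836 : sm ge N29361 = N42789 := rfl
theorem L361838 : sm gb N42789 = N42789 := ded_21_1 (flp_e L361836) L248913 L361836
theorem L361839 : sm gc N42789 = N29435 := ded_28_1 (flp_e L249559) (flp_c L248916) L361836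
theorem L361841 : sm gg N42789 = N29363 := ded_41_2 (flp_e L248927) (flp_g L248914) L361836
theorem L361843 : sm gh N42789 = N42789 := ded_43_2 (flp_e L361836) L248918 L361836
theorem L361844 : sm gi N29361 = N42790 := rfl
theorem L361846 : sm gb N42790 = N42790 := ded_26_1 (flp_i L361844) L248913 L361844
theorem L361847 : sm gc N42790 = N29436 := ded_33_1 (flp_i L249564) (flp_c L248916) L361844
theorem L361849 : sm gd N42790 = N29362 := ded_39_1 (flp_i L248919) L248911 L361844
theorem L361851 : sm gg N42790 = N29364 := ded_51_1 (flp_i L248934) (flp_g L248914) L361844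
theorem L361853 : sm gf N29363 = N42791 := rfl
theorem L361855 : sm gb N42791 = N42791 := ded_22_1 (flp_f L361853) L248929 L361853
theorem L361856 : sm gc N42791 = N29437 := ded_29_1 (flp_f L249570) (flp_c L248930) L361853
theorem L361858 : sm gj N42791 = N42791 := ded_46_2 (flp_f L361853) L248932 L361853
theorem L361859 : sm gh N42791 = N42791 := ded_47_2 (flp_f L361853) L248933 L361853
theorem L361860 : sm ge N42791 = N29365 := ded_40_1 (flp_f L248944) (flp_e L171481) (flp_f L171466) L248927 L361853
theorem L361862 : sm gi N29363 = N42792 := rfl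
theorem L361864 : sm gb N42792 = N42792 := ded_26_1 (flp_i L361862) L248929 L361862
theorem L361865 : sm gc N42792 = N29438 := ded_33_1 (flp_i L249576) (flp_c L248930) L361862
theorem L361867 : sm ge N42792 = N29364 := ded_44_1 (flp_i L248934) L248927 L361862
theorem L361869 : sm gj N42792 = N42792 := ded_53_1 (flp_i L361862) L248932 L361862
theorem L361870 : sm gh N29364 = N42793 := rfl
theorem L361872 : sm gb N42793 = N42793 := ded_25_1 (flp_h L361870) L248936 L361870
theorem L361873 : sm gc N42793 = N29439 := ded_32_1 (flp_h L249581) (flp_c L248937) L361870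
theorem L361875 : sm gf N42793 = N29367 := ded_47_1 (flp_h L248961) (flp_f L248941) L361870
theorem L361877 : sm gj N42793 = N42793 := ded_52_1 (flp_h L361870) L248943 L361870
theorem L361878 : sm gd N42793 = N42793 := ded_38_1 (flp_h L361870) L248939 L171480 (flp_d L248939) L361870
theorem L361879 : sm gi N42793 = N42793 := ded_54_2 (flp_h L361870) (flp_i L248934) L171471 L248934 L361870
theorem L361880 : sm gg N29365 = N42794 := rfl
theorem L361882 : sm gb N42794 = N42794 := ded_23_1 (flp_g L361880) L248946 L361880
theorem L361883 : sm gc N42794 = N29440 := ded_30_1 (flp_g L249589) (flp_c L248947) L361880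
theorem L361885 : sm gd N42794 = N42794 := ded_36_1 (flp_g L361880) L248949 L361880
theorem L361886 : sm gh N42794 = N42794 := ded_50_2 (flp_g L361880) L248951 L361880
theorem L361887 : sm gi N29365 = N42795 := rfl
theorem L361889 : sm gb N42795 = N42795 := ded_26_1 (flp_i L361887) L248946 L361887
theorem L361890 : sm gc N42795 = N29441 := ded_33_1 (flp_i L249594) (flp_c L248947) L361887
theorem L361892 : sm gd N42795 = N42795 := ded_39_1 (flp_i L361887) L248949 L361887
theorem L361893 : sm gf N42795 = N29366 := ded_48_1 (flp_i L248952) L248944 L361887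
theorem L361895 : sm gj N42795 = N42795 := ded_53_1 (flp_i L361887) L248950 L361887
theorem L361896 : sm gh N29366 = N42796 := rfl
theorem L361898 : sm gb N42796 = N42796 := ded_25_1 (flp_h L361896) L248954 L361896
theorem L361899 : sm gc N42796 = N29442 := ded_32_1 (flp_h L249601) (flp_c L248955) L361896
theorem L361901 : sm ge N42796 = N29367 := ded_43_1 (flp_h L248961) (flp_e L248958) L361896
theorem L361903 : sm gj N42796 = N42796 := ded_52_1 (flp_h L361896) L248960 L361896
theorem L361904 : sm gi N42796 = N42796 := ded_54_2 (flp_h L361896) (flp_i L248952) L171487 L248952 L361896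
theorem L361914 : sm gh N29368 = N42798 := rfl
theorem L361916 : sm gb N42798 = N29377 := ded_25_1 (flp_h L249050) (flp_b L248971) L361914
theorem L361920 : sm gj N42798 = N29369 := ded_52_1 (flp_h L248978) L248969 L361914
theorem L361922 : sm gd N29369 = N42799 := rfl
theorem L361924 : sm gb N42799 = N29378 := ded_20_1 (flp_d L249058) (flp_b L248980) L361922
theorem L361926 : sm gf N42799 = N29371 := ded_35_2 (flp_d L248994) (flp_f L248982) L361922
theorem L361931 : sm gi N29369 = N42800 := rfl
theorem L361933 : sm gb N42800 = N29379 := ded_26_1 (flp_i L249066) (flp_b L248980) L361931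
theorem L361935 : sm gf N42800 = N29372 := ded_48_1 (flp_i L249004) (flp_f L248982) L361931
theorem L361937 : sm gg N42800 = N42800 := ded_51_1 (flp_i L361931) L248984 L361931
theorem L361938 : sm gh N42800 = N42800 := ded_54_1 (flp_i L361931) (flp_h L248978) L171503 L248978 L361931
theorem L361939 : sm gd N29370 = N42801 := rfl
theorem L361941 : sm gb N42801 = N29380 := ded_20_1 (flp_d L249074) (flp_b L248987) L361939
theorem L361944 : sm gj N42801 = N29371 := ded_37_2 (flp_d L248994) (flp_j L248992) L361939
theorem L361950 : sm gi N29370 = N42802 := rfl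
theorem L361952 : sm gb N42802 = N29381 := ded_26_1 (flp_i L249084) (flp_b L248987) L361950
theorem L361954 : sm ge N42802 = N29375 := ded_44_1 (flp_i L249031) (flp_e L248989) L361950
theorem L361956 : sm gg N42802 = N42802 := ded_51_1 (flp_i L361950) L248991 L361950
theorem L361957 : sm gj N42802 = N29372 := ded_53_1 (flp_i L249004) (flp_j L248992) L361950
theorem L361959 : sm gh N42802 = N42802 := ded_54_1 (flp_i L361950) (flp_h L248985) L171513 L248985 L361950
theorem L361960 : sm gc N29371 = N42803 := rfl
theorem L361962 : sm ge N42803 = N29449 := ded_28_2 (flp_c L249666) (flp_e L249000) L361960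
theorem L361968 : sm gi N29371 = N42804 := rfl
theorem L361970 : sm gb N42804 = N29383 := ded_26_1 (flp_i L249104) (flp_b L248996) L361968
theorem L361972 : sm gd N42804 = N29372 := ded_39_1 (flp_i L249004) L248994 L361968
theorem L361974 : sm ge N42804 = N29450 := ded_44_1 (flp_i L249672) (flp_e L249000) L361968
theorem L361976 : sm gg N42804 = N29374 := ded_51_1 (flp_i L249021) (flp_g L248998) L361968
theorem L361978 : sm gb N29373 = N42805 := rfl
theorem L361980 : sm ge N42805 = N29451 := ded_21_2 (flp_b L249680) (flp_e L249015) L361978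
theorem L361986 : sm gc N42805 = N29384 := ded_19_2 (flp_b L249113) (flp_c L171603) (flp_b L171525) L249013 L361978
theorem L361988 : sm gi N29373 = N42806 := rfl
theorem L361992 : sm ge N42806 = N29452 := ded_44_1 (flp_i L249689) (flp_e L249015) L361988
theorem L361996 : sm gh N29374 = N42807 := rfl
theorem L361998 : sm gb N42807 = N29386 := ded_25_1 (flp_h L249132) (flp_b L249023) L361996
theorem L362005 : sm gi N42807 = N29711 := ded_54_2 (flp_h L251880) (flp_i L173443) (flp_h L171531) L249021 L361996
theorem L362007 : sm gh N29376 = N42808 := rfl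
theorem L362012 : sm gg N42808 = N29377 := ded_50_1 (flp_h L249050) L249041 L362007
theorem L362015 : sm gd N29377 = N42809 := rfl
theorem L362018 : sm gf N42809 = N29380 := ded_35_2 (flp_d L249074) (flp_f L249054) L362015
theorem L362020 : sm gj N42809 = N29378 := ded_37_2 (flp_d L249058) (flp_j L249056) L362015
theorem L362024 : sm gi N29377 = N42810 := rfl
theorem L362026 : sm ga N42810 = N42810 := ded_18_1 (flp_i L362024) L249052 L362024
theorem L362027 : sm gc N42810 = N42810 := ded_33_1 (flp_i L362024) L249053 L362024
theorem L362028 : sm gf N42810 = N29381 := ded_48_1 (flp_i L249084) (flp_f L249054) L362024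
theorem L362030 : sm gj N42810 = N29379 := ded_53_1 (flp_i L249066) (flp_j L249056) L362024
theorem L362032 : sm gh N42810 = N42810 := ded_54_1 (flp_i L362024) (flp_h L249050) L171568 L249050 L362024
theorem L362033 : sm gc N29378 = N42811 := rfl
theorem L362042 : sm ge N29378 = N42812 := rfl
theorem L362044 : sm ga N42812 = N42812 := ded_13_1 (flp_e L362042) L249060 L362042
theorem L362045 : sm gg N42812 = N42812 := ded_41_2 (flp_e L362042) L249063 L362042
theorem L362046 : sm gh N42812 = N29716 := ded_43_2 (flp_e L251919) (flp_h L249064) L362042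
theorem L362048 : sm gf N42812 = N29458 := ded_40_2 (flp_e L249742) L172028 (flp_e L171590) (flp_f L249061) L362042
theorem L362050 : sm gi N29378 = N42813 := rfl
theorem L362052 : sm ga N42813 = N42813 := ded_18_1 (flp_i L362050) L249060 L362050
theorem L362053 : sm gd N42813 = N29379 := ded_39_1 (flp_i L249066) L249058 L362050
theorem L362055 : sm gf N42813 = N29383 := ded_48_1 (flp_i L249104) (flp_f L249061) L362050
theorem L362057 : sm gg N42813 = N42813 := ded_51_1 (flp_i L362050) L249063 L362050
theorem L362058 : sm gc N29380 = N42814 := rfl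
theorem L362061 : sm ge N42814 = N29460 := ded_28_2 (flp_c L249758) (flp_e L249080) L362058
theorem L362069 : sm gi N29380 = N42815 := rfl
theorem L362071 : sm ga N42815 = N42815 := ded_18_1 (flp_i L362069) L249076 L362069
theorem L362072 : sm gd N42815 = N29381 := ded_39_1 (flp_i L249084) L249074 L362069
theorem L362074 : sm ge N42815 = N29461 := ded_44_1 (flp_i L249766) (flp_e L249080) L362069
theorem L362076 : sm gg N42815 = N42815 := ded_51_1 (flp_i L362069) L249077 L362069
theorem L362077 : sm gj N42815 = N29383 := ded_53_1 (flp_i L249104) (flp_j L249078) L362069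
theorem L362079 : sm gb N29382 = N42816 := rfl
theorem L362082 : sm ge N42816 = N29462 := ded_21_2 (flp_b L249774) (flp_e L249097) L362079
theorem L362084 : sm gg N42816 = N29384 := ded_23_2 (flp_b L249113) (flp_g L249099) L362079
theorem L362086 : sm gh N42816 = N29720 := ded_25_2 (flp_b L251952) (flp_h L249101) L362079
theorem L362088 : sm gi N29382 = N42817 := rfl
theorem L362090 : sm ga N42817 = N42817 := ded_18_1 (flp_i L362088) L249096 L362088
theorem L362091 : sm gc N42817 = N29383 := ded_33_1 (flp_i L249104) L249094 L362088
theorem L362093 : sm gd N42817 = N42817 := ded_39_1 (flp_i L362088) L249103 L362088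
theorem L362094 : sm ge N42817 = N29463 := ded_44_1 (flp_i L249780) (flp_e L249097) L362088
theorem L362096 : sm gg N42817 = N29385 := ded_51_1 (flp_i L249122) (flp_g L249099) L362088
theorem L362098 : sm gh N29383 = N42818 := rfl
theorem L362101 : sm ge N42818 = N29464 := ded_43_1 (flp_h L249787) (flp_e L249109) L362098
theorem L362103 : sm gg N42818 = N29386 := ded_50_1 (flp_h L249132) (flp_g L249111) L362098
theorem L362108 : sm ga N29384 = N42819 := rfl
theorem L362111 : sm ge N42819 = N29465 := ded_13_2 (flp_a L249796) (flp_e L249116) L362108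
theorem L362118 : sm gi N29384 = N42820 := rfl
theorem L362120 : sm gb N42820 = N29385 := ded_26_1 (flp_i L249122) L249113 L362118
theorem L362122 : sm gd N42820 = N42820 := ded_39_1 (flp_i L362118) L249115 L362118
theorem L362123 : sm ge N42820 = N29466 := ded_44_1 (flp_i L249804) (flp_e L249116) L362118
theorem L362125 : sm gf N42820 = N42820 := ded_48_1 (flp_i L362118) L249118 L362118
theorem L362126 : sm gj N42820 = N42820 := ded_53_1 (flp_i L362118) L249119 L362118
theorem L362127 : sm gh N29385 = N42821 := rfl
theorem L362130 : sm gc N42821 = N29386 := ded_32_1 (flp_h L249132) (flp_c L249125) L362127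
theorem L362132 : sm ge N42821 = N29467 := ded_43_1 (flp_h L249811) (flp_e L249128) L362127
theorem L362149 : sm gg N29387 = N42823 := rfl
theorem L362153 : sm gd N42823 = N29388 := ded_36_1 (flp_g L249152) L249142 L362149
theorem L362156 : sm gi N42823 = N29469 := ded_51_2 (flp_g L249830) (flp_i L249149) L362149
theorem L362166 : sm gf N29388 = N42825 := rfl
theorem L362168 : sm gb N42825 = N29399 := ded_22_1 (flp_f L249246) (flp_b L249154) L362166
theorem L362170 : sm gc N42825 = N42825 := ded_29_1 (flp_f L362166) L249156 L362166
theorem L362171 : sm gi N42825 = N29471 := ded_48_2 (flp_f L249845) (flp_i L249159) L362166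
theorem L362173 : sm gg N42825 = N31173 := ded_45_2 (flp_f L264296) (flp_g L181838) (flp_f L171640) L249152 L362166
theorem L362175 : sm gj N29388 = N42826 := rfl
theorem L362177 : sm gb N42826 = N29400 := ded_24_1 (flp_j L249256) (flp_b L249154) L362175
theorem L362179 : sm gc N42826 = N42826 := ded_31_1 (flp_j L362175) L249156 L362175
theorem L362180 : sm ge N42826 = N29390 := ded_42_1 (flp_j L249171) (flp_e L249157) L362175
theorem L362182 : sm gi N42826 = N29472 := ded_53_2 (flp_j L249852) (flp_i L249159) L362175
theorem L362184 : sm gg N42826 = N42826 := ded_49_1 (flp_j L362175) (flp_g L249152) L171637 L249152 L362175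
theorem L362185 : sm gh N29388 = N42827 := rfl
theorem L362187 : sm gb N42827 = N29401 := ded_25_1 (flp_h L249267) (flp_b L249154) L362185
theorem L362189 : sm gc N42827 = N42827 := ded_32_1 (flp_h L362185) L249156 L362185
theorem L362190 : sm ge N42827 = N29391 := ded_43_1 (flp_h L249180) (flp_e L249157) L362185
theorem L362192 : sm gg N42827 = N29389 := ded_50_1 (flp_h L249161) L249152 L362185
theorem L362194 : sm gd N29389 = N42828 := rfl
theorem L362196 : sm gb N42828 = N29402 := ded_20_1 (flp_d L249277) (flp_b L249163) L362194
theorem L362198 : sm gf N42828 = N31176 := ded_35_2 (flp_d L264322) (flp_f L249168) L362194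
theorem L362200 : sm gj N42828 = N42828 := ded_37_2 (flp_d L362194) L249170 L362194
theorem L362201 : sm gi N29389 = N42829 := rfl
theorem L362203 : sm gb N42829 = N29403 := ded_26_1 (flp_i L249284) (flp_b L249163) L362201
theorem L362205 : sm gc N42829 = N42829 := ded_33_1 (flp_i L362201) L249165 L362201
theorem L362206 : sm ge N42829 = N29393 := ded_44_1 (flp_i L249195) (flp_e L249166) L362201
theorem L362210 : sm gj N42829 = N42829 := ded_53_1 (flp_i L362201) L249170 L362201
theorem L362211 : sm gh N42829 = N29475 := ded_54_1 (flp_i L249876) (flp_h L172115) (flp_i L171638) L249161 L362201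
theorem L362213 : sm gh N29390 = N42830 := rfl
theorem L362215 : sm gb N42830 = N29404 := ded_25_1 (flp_h L249297) (flp_b L249173) L362213
theorem L362217 : sm gc N42830 = N42830 := ded_32_1 (flp_h L362213) L249175 L362213
theorem L362218 : sm gg N42830 = N42830 := ded_50_1 (flp_h L362213) L249179 L362213
theorem L362219 : sm gj N42830 = N29391 := ded_52_1 (flp_h L249180) L249171 L362213
theorem L362221 : sm gd N29391 = N42831 := rfl
theorem L362223 : sm gb N42831 = N29405 := ded_20_1 (flp_d L249306) (flp_b L249182) L362221
theorem L362228 : sm gi N29391 = N42832 := rfl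
theorem L362230 : sm gb N42832 = N29406 := ded_26_1 (flp_i L249313) (flp_b L249182) L362228
theorem L362232 : sm gc N42832 = N42832 := ded_33_1 (flp_i L362228) L249184 L362228
theorem L362233 : sm gg N42832 = N29393 := ded_51_1 (flp_i L249195) (flp_g L249185) L362228
theorem L362235 : sm gh N42832 = N29478 := ded_54_1 (flp_i L249901) (flp_h L172132) (flp_i L171648) L249180 L362228
theorem L362244 : sm ge N29392 = N42834 := rfl
theorem L362246 : sm gb N42834 = N29407 := ded_21_1 (flp_e L249323) (flp_b L249189) L362244
theorem L362250 : sm gi N29392 = N42835 := rfl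
theorem L362252 : sm gb N42835 = N29408 := ded_26_1 (flp_i L249329) (flp_b L249189) L362250
theorem L362254 : sm gd N42835 = N29393 := ded_39_1 (flp_i L249195) L249187 L362250
theorem L362288 : sm gh N29396 = N42840 := rfl
theorem L362290 : sm gb N42840 = N29411 := ded_25_1 (flp_h L249355) (flp_b L249220) L362288
theorem L362293 : sm gd N42840 = N29486 := ded_38_1 (flp_h L249962) L172173 (flp_h L171672) (flp_d L249222) L362288
theorem L362296 : sm gf N29397 = N42841 := rfl
theorem L362298 : sm ga N42841 = N29420 := ded_14_1 (flp_f L249442) (flp_a L249227) L362296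
theorem L362304 : sm gi N42841 = N29487 := ded_48_2 (flp_f L249968) (flp_i L249234) L362296
theorem L362308 : sm gj N29397 = N42842 := rfl
theorem L362310 : sm ga N42842 = N29421 := ded_16_1 (flp_j L249452) (flp_a L249227) L362308
theorem L362329 : sm gd N29398 = N42844 := rfl
theorem L362331 : sm ga N42844 = N29423 := ded_12_1 (flp_d L249469) (flp_a L249238) L362329
theorem L362333 : sm gf N42844 = N31192 := ded_35_2 (flp_d L264458) (flp_f L249243) L362329
theorem L362336 : sm gh N42844 = N29402 := ded_38_2 (flp_d L249277) (flp_h L171696) L171674 L249236 L362329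
theorem L362338 : sm gi N29398 = N42845 := rfl
theorem L362340 : sm ga N42845 = N29424 := ded_18_1 (flp_i L249476) (flp_a L249238) L362338
theorem L362345 : sm gf N42845 = N31193 := ded_48_1 (flp_i L264465) (flp_f L249243) L362338
theorem L362348 : sm gh N42845 = N29491 := ded_54_1 (flp_i L250006) (flp_h L172185) (flp_i L171681) L249236 L362338
theorem L362350 : sm gj N29399 = N42846 := rfl
theorem L362352 : sm ga N42846 = N29425 := ded_16_1 (flp_j L249486) (flp_a L249248) L362350
theorem L362354 : sm gc N42846 = N29412 := ded_31_1 (flp_j L249363) (flp_c L249250) L362350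
theorem L362356 : sm gf N42846 = N29400 := ded_46_1 (flp_j L249256) L249246 L362350
theorem L362358 : sm gi N42846 = N29492 := ded_53_2 (flp_j L250016) (flp_i L249252) L362350
theorem L362360 : sm gh N29399 = N42847 := rfl
theorem L362362 : sm ga N42847 = N29426 := ded_17_1 (flp_h L249494) (flp_a L249248) L362360
theorem L362364 : sm gc N42847 = N29413 := ded_32_1 (flp_h L249374) (flp_c L249250) L362360
theorem L362366 : sm gf N42847 = N29401 := ded_47_1 (flp_h L249267) L249246 L362360
theorem L362368 : sm gg N42847 = N31195 := ded_50_1 (flp_h L264486) (flp_g L249254) L362360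
theorem L362370 : sm gh N29400 = N42848 := rfl
theorem L362372 : sm ga N42848 = N29427 := ded_17_1 (flp_h L249502) (flp_a L249258) L362370
theorem L362374 : sm gc N42848 = N29414 := ded_32_1 (flp_h L249383) (flp_c L249260) L362370
theorem L362376 : sm ge N42848 = N29404 := ded_43_1 (flp_h L249297) (flp_e L249262) L362370
theorem L362378 : sm gg N42848 = N42848 := ded_50_1 (flp_h L362370) L249266 L362370
theorem L362379 : sm gj N42848 = N29401 := ded_52_1 (flp_h L249267) L249256 L362370
theorem L362381 : sm gd N29401 = N42849 := rfl
theorem L362383 : sm ga N42849 = N29428 := ded_12_1 (flp_d L249511) (flp_a L249269) L362381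
theorem L362385 : sm gg N42849 = N29402 := ded_36_2 (flp_d L249277) (flp_g L249275) L362381
theorem L362387 : sm gi N29401 = N42850 := rfl
theorem L362389 : sm ga N42850 = N29429 := ded_18_1 (flp_i L249515) (flp_a L249269) L362387
theorem L362391 : sm gc N42850 = N29416 := ded_33_1 (flp_i L249402) (flp_c L249271) L362387
theorem L362393 : sm ge N42850 = N29406 := ded_44_1 (flp_i L249313) (flp_e L249273) L362387
theorem L362395 : sm gg N42850 = N29403 := ded_51_1 (flp_i L249284) (flp_g L249275) L362387
theorem L362397 : sm gh N42850 = N29496 := ded_54_1 (flp_i L250051) (flp_h L172212) (flp_i L171694) L249267 L362387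
theorem L362399 : sm gc N29402 = N42851 := rfl
theorem L362401 : sm ga N42851 = N29430 := ded_11_1 (flp_c L249525) (flp_a L249279) L362399
theorem L362408 : sm ge N29402 = N42852 := rfl
theorem L362410 : sm ga N42852 = N29431 := ded_13_1 (flp_e L249532) (flp_a L249279) L362408
theorem L362412 : sm gj N42852 = N42852 := ded_42_2 (flp_e L362408) L249283 L362408
theorem L362413 : sm gd N42852 = N29407 := ded_34_1 (flp_e L249323) (flp_d L171725) (flp_e L171702) L249277 L362408
theorem L362415 : sm gi N29402 = N42853 := rfl
theorem L362417 : sm ga N42853 = N29432 := ded_18_1 (flp_i L249537) (flp_a L249279) L362415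
theorem L362419 : sm gd N42853 = N29403 := ded_39_1 (flp_i L249284) L249277 L362415
theorem L362421 : sm gf N42853 = N31201 := ded_48_1 (flp_i L264537) (flp_f L249281) L362415
theorem L362423 : sm gj N42853 = N42853 := ded_53_1 (flp_i L362415) L249283 L362415
theorem L362424 : sm gd N29404 = N42854 := rfl
theorem L362426 : sm ga N42854 = N29433 := ded_12_1 (flp_d L249544) (flp_a L249299) L362424
theorem L362428 : sm gg N42854 = N42854 := ded_36_2 (flp_d L362424) L249303 L362424
theorem L362429 : sm gj N42854 = N29405 := ded_37_2 (flp_d L249306) (flp_j L249304) L362424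
theorem L362431 : sm gh N42854 = N42854 := ded_38_2 (flp_d L362424) (flp_h L249297) L171713 L249297 L362424
theorem L362432 : sm gi N29404 = N42855 := rfl
theorem L362434 : sm ga N42855 = N29434 := ded_18_1 (flp_i L249550) (flp_a L249299) L362432
theorem L362436 : sm gc N42855 = N29419 := ded_33_1 (flp_i L249432) (flp_c L249301) L362432
theorem L362438 : sm gg N42855 = N42855 := ded_51_1 (flp_i L362432) L249303 L362432
theorem L362439 : sm gj N42855 = N29406 := ded_53_1 (flp_i L249313) (flp_j L249304) L362432
theorem L362441 : sm gh N42855 = N29501 := ded_54_1 (flp_i L250095) (flp_h L172240) (flp_i L171714) L249297 L362432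
theorem L362443 : sm ge N29405 = N42856 := rfl
theorem L362445 : sm ga N42856 = N29435 := ded_13_1 (flp_e L249559) (flp_a L249308) L362443
theorem L362447 : sm gg N42856 = N29407 := ded_41_2 (flp_e L249323) (flp_g L249310) L362443
theorem L362449 : sm gh N42856 = N42856 := ded_43_2 (flp_e L362443) L249312 L362443
theorem L362450 : sm gi N29405 = N42857 := rfl
theorem L362452 : sm ga N42857 = N29436 := ded_18_1 (flp_i L249564) (flp_a L249308) L362450
theorem L362454 : sm gd N42857 = N29406 := ded_39_1 (flp_i L249313) L249306 L362450
theorem L362456 : sm gg N42857 = N29408 := ded_51_1 (flp_i L249329) (flp_g L249310) L362450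
theorem L362458 : sm gf N29407 = N42858 := rfl
theorem L362460 : sm ga N42858 = N29437 := ded_14_1 (flp_f L249570) (flp_a L249325) L362458
theorem L362466 : sm gi N29407 = N42859 := rfl
theorem L362468 : sm ga N42859 = N29438 := ded_18_1 (flp_i L249576) (flp_a L249325) L362466
theorem L362470 : sm ge N42859 = N29408 := ded_44_1 (flp_i L249329) L249323 L362466
theorem L362472 : sm gj N42859 = N42859 := ded_53_1 (flp_i L362466) L249327 L362466
theorem L362473 : sm gh N29408 = N42860 := rfl
theorem L362475 : sm ga N42860 = N29439 := ded_17_1 (flp_h L249581) (flp_a L249331) L362473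
theorem L362477 : sm gf N42860 = N29411 := ded_47_1 (flp_h L249355) (flp_f L249335) L362473
theorem L362479 : sm gj N42860 = N42860 := ded_52_1 (flp_h L362473) L249337 L362473
theorem L362480 : sm gd N42860 = N29506 := ded_38_1 (flp_h L250138) L172277 (flp_h L171742) (flp_d L249333) L362473
theorem L362482 : sm gi N42860 = N42860 := ded_54_2 (flp_h L362473) (flp_i L249329) L171732 L249329 L362473
theorem L362483 : sm gg N29409 = N42861 := rfl
theorem L362485 : sm ga N42861 = N29440 := ded_15_1 (flp_g L249589) (flp_a L249340) L362483
theorem L362487 : sm gd N42861 = N31209 := ded_36_1 (flp_g L264613) (flp_d L249342) L362483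
theorem L362490 : sm gi N29409 = N42862 := rfl
theorem L362492 : sm ga N42862 = N29441 := ded_18_1 (flp_i L249594) (flp_a L249340) L362490
theorem L362494 : sm gd N42862 = N31210 := ded_39_1 (flp_i L264620) (flp_d L249342) L362490
theorem L362499 : sm gh N29410 = N42863 := rfl
theorem L362501 : sm ga N42863 = N29442 := ded_17_1 (flp_h L249601) (flp_a L249348) L362499
theorem L362503 : sm ge N42863 = N29411 := ded_43_1 (flp_h L249355) (flp_e L249352) L362499
theorem L362507 : sm gg N29412 = N42864 := rfl
theorem L362509 : sm ga N42864 = N29443 := ded_15_1 (flp_g L249607) (flp_a L249365) L362507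
theorem L362511 : sm gb N42864 = N42864 := ded_23_1 (flp_g L362507) L249367 L362507
theorem L362512 : sm gd N42864 = N29768 := ded_36_1 (flp_g L252393) (flp_d L249368) L362507
theorem L362514 : sm gi N42864 = N29510 := ded_51_2 (flp_g L250174) (flp_i L249372) L362507
theorem L362516 : sm gf N42864 = N42864 := ded_45_1 (flp_g L362507) L249370 L171781 (flp_f L249370) L362507
theorem L362517 : sm gj N42864 = N31212 := ded_49_2 (flp_g L264638) (flp_j L182050) (flp_g L171768) L249363 L362507
theorem L362519 : sm gh N29412 = N42865 := rfl
theorem L362521 : sm ga N42865 = N29444 := ded_17_1 (flp_h L249618) (flp_a L249365) L362519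
theorem L362523 : sm gb N42865 = N42865 := ded_25_1 (flp_h L362519) L249367 L362519
theorem L362524 : sm gf N42865 = N29414 := ded_47_1 (flp_h L249383) (flp_f L249370) L362519
theorem L362526 : sm gj N42865 = N29413 := ded_52_1 (flp_h L249374) L249363 L362519
theorem L362528 : sm gd N29413 = N42866 := rfl
theorem L362530 : sm ga N42866 = N29445 := ded_12_1 (flp_d L249626) (flp_a L249376) L362528
theorem L362533 : sm gf N42866 = N29415 := ded_35_2 (flp_d L249393) (flp_f L249379) L362528
theorem L362539 : sm gi N29413 = N42867 := rfl
theorem L362541 : sm ga N42867 = N29446 := ded_18_1 (flp_i L249636) (flp_a L249376) L362539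
theorem L362543 : sm gb N42867 = N42867 := ded_26_1 (flp_i L362539) L249378 L362539
theorem L362544 : sm gf N42867 = N29416 := ded_48_1 (flp_i L249402) (flp_f L249379) L362539
theorem L362546 : sm gg N42867 = N31215 := ded_51_1 (flp_i L264666) (flp_g L249381) L362539
theorem L362548 : sm gh N42867 = N29513 := ded_54_1 (flp_i L250204) (flp_h L172317) (flp_i L171766) L249374 L362539
theorem L362550 : sm gd N29414 = N42868 := rfl
theorem L362552 : sm ga N42868 = N29447 := ded_12_1 (flp_d L249646) (flp_a L249385) L362550
theorem L362556 : sm gj N42868 = N29415 := ded_37_2 (flp_d L249393) (flp_j L249391) L362550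
theorem L362560 : sm gi N29414 = N42869 := rfl
theorem L362562 : sm ga N42869 = N29448 := ded_18_1 (flp_i L249655) (flp_a L249385) L362560
theorem L362564 : sm gb N42869 = N42869 := ded_26_1 (flp_i L362560) L249387 L362560
theorem L362565 : sm ge N42869 = N29419 := ded_44_1 (flp_i L249432) (flp_e L249388) L362560
theorem L362567 : sm gg N42869 = N42869 := ded_51_1 (flp_i L362560) L249390 L362560
theorem L362568 : sm gj N42869 = N29416 := ded_53_1 (flp_i L249402) (flp_j L249391) L362560
theorem L362570 : sm gh N42869 = N29515 := ded_54_1 (flp_i L250224) (flp_h L172326) (flp_i L171779) L249383 L362560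
theorem L362572 : sm gc N29415 = N42870 := rfl
theorem L362574 : sm ga N42870 = N29449 := ded_11_1 (flp_c L249666) (flp_a L249395) L362572
theorem L362580 : sm gi N29415 = N42871 := rfl
theorem L362582 : sm ga N42871 = N29450 := ded_18_1 (flp_i L249672) (flp_a L249395) L362580
theorem L362585 : sm gd N42871 = N29416 := ded_39_1 (flp_i L249402) L249393 L362580
theorem L362587 : sm gg N42871 = N29418 := ded_51_1 (flp_i L249422) (flp_g L249398) L362580
theorem L362597 : sm gi N29417 = N42873 := rfl
theorem L362599 : sm ga N42873 = N29452 := ded_18_1 (flp_i L249689) (flp_a L249415) L362597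
theorem L362601 : sm gc N42873 = N29418 := ded_33_1 (flp_i L249422) L249413 L362597
theorem L362606 : sm gh N29418 = N42874 := rfl
theorem L362608 : sm ga N42874 = N29453 := ded_17_1 (flp_h L249696) (flp_a L249424) L362606
theorem L362614 : sm gd N42874 = N29520 := ded_38_1 (flp_h L250272) L172370 (flp_h L171811) (flp_d L249427) L362606
theorem L362616 : sm gi N42874 = N29778 := ded_54_2 (flp_h L252485) (flp_i L173842) (flp_h L171799) L249422 L362606
theorem L362618 : sm ge N29420 = N42875 := rfl
theorem L362620 : sm gc N42875 = N29779 := ded_28_1 (flp_e L252495) (flp_c L249444) L362618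
theorem L362622 : sm gg N42875 = N31223 := ded_41_2 (flp_e L264743) (flp_g L249450) L362618
theorem L362624 : sm gi N42875 = N29521 := ded_44_2 (flp_e L250283) (flp_i L249448) L362618
theorem L362626 : sm gf N42875 = N42875 := ded_40_2 (flp_e L362618) (flp_f L249442) L171836 L249442 L362618
theorem L362627 : sm gj N29420 = N42876 := rfl
theorem L362629 : sm gc N42876 = N29780 := ded_31_1 (flp_j L252504) (flp_c L249444) L362627
theorem L362631 : sm gd N42876 = N29425 := ded_37_1 (flp_j L249486) (flp_d L249446) L362627
theorem L362633 : sm gf N42876 = N29421 := ded_46_1 (flp_j L249452) L249442 L362627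
theorem L362635 : sm gi N42876 = N29522 := ded_53_2 (flp_j L250290) (flp_i L249448) L362627
theorem L362637 : sm gh N29420 = N42877 := rfl
theorem L362639 : sm gc N42877 = N29781 := ded_32_1 (flp_h L252513) (flp_c L249444) L362637
theorem L362641 : sm gf N42877 = N29422 := ded_47_1 (flp_h L249462) L249442 L362637
theorem L362643 : sm gg N42877 = N31225 := ded_50_1 (flp_h L264761) (flp_g L249450) L362637
theorem L362645 : sm gh N29421 = N42878 := rfl
theorem L362647 : sm gc N42878 = N29782 := ded_32_1 (flp_h L252520) (flp_c L249454) L362645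
theorem L362649 : sm ge N42878 = N42878 := ded_43_1 (flp_h L362645) L249458 L362645
theorem L362650 : sm gg N42878 = N42878 := ded_50_1 (flp_h L362645) L249461 L362645
theorem L362651 : sm gj N42878 = N29422 := ded_52_1 (flp_h L249462) L249452 L362645
theorem L362653 : sm gd N29422 = N42879 := rfl
theorem L362655 : sm gg N42879 = N29423 := ded_36_2 (flp_d L249469) (flp_g L249467) L362653
theorem L362657 : sm gh N42879 = N29428 := ded_38_2 (flp_d L249511) (flp_h L171864) (flp_d L171834) L249462 L362653
theorem L362659 : sm gi N29422 = N42880 := rfl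
theorem L362661 : sm gc N42880 = N29784 := ded_33_1 (flp_i L252534) (flp_c L249464) L362659
theorem L362663 : sm ge N42880 = N42880 := ded_44_1 (flp_i L362659) L249466 L362659
theorem L362664 : sm gg N42880 = N29424 := ded_51_1 (flp_i L249476) (flp_g L249467) L362659
theorem L362666 : sm gh N42880 = N29526 := ded_54_1 (flp_i L250320) (flp_h L172401) (flp_i L171837) L249462 L362659
theorem L362668 : sm gc N29423 = N42881 := rfl
theorem L362670 : sm gf N42881 = N31229 := ded_29_2 (flp_c L264792) (flp_f L249471) L362668
theorem L362673 : sm gh N42881 = N29430 := ded_32_2 (flp_c L249525) (flp_h L249474) L362668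
theorem L362677 : sm ge N29423 = N42882 := rfl
theorem L362679 : sm gj N42882 = N42882 := ded_42_2 (flp_e L362677) L249473 L362677
theorem L362680 : sm gh N42882 = N29431 := ded_43_2 (flp_e L249532) (flp_h L249474) L362677
theorem L362682 : sm gd N42882 = N42882 := ded_34_1 (flp_e L362677) (flp_d L249469) L171843 L249469 L362677
theorem L362683 : sm gi N29423 = N42883 := rfl
theorem L362685 : sm gd N42883 = N29424 := ded_39_1 (flp_i L249476) L249469 L362683
theorem L362687 : sm gf N42883 = N31231 := ded_48_1 (flp_i L264806) (flp_f L249471) L362683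
theorem L362689 : sm gj N42883 = N42883 := ded_53_1 (flp_i L362683) L249473 L362683
theorem L362690 : sm gg N29425 = N42884 := rfl
theorem L362692 : sm gc N42884 = N29443 := ded_30_1 (flp_g L249607) (flp_c L249488) L362690
theorem L362694 : sm gi N42884 = N29530 := ded_51_2 (flp_g L250349) (flp_i L249492) L362690
theorem L362696 : sm gf N42884 = N42884 := ded_45_1 (flp_g L362690) L249490 L171863 (flp_f L249490) L362690
theorem L362697 : sm gj N42884 = N31232 := ded_49_2 (flp_g L264811) (flp_j L182168) (flp_g L171853) L249486 L362690
theorem L362699 : sm gh N29425 = N42885 := rfl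
theorem L362701 : sm gc N42885 = N29444 := ded_32_1 (flp_h L249618) (flp_c L249488) L362699
theorem L362703 : sm gf N42885 = N29427 := ded_47_1 (flp_h L249502) (flp_f L249490) L362699
theorem L362705 : sm gj N42885 = N29426 := ded_52_1 (flp_h L249494) L249486 L362699
theorem L362707 : sm gd N29426 = N42886 := rfl
theorem L362709 : sm gf N42886 = N29428 := ded_35_2 (flp_d L249511) (flp_f L249498) L362707
theorem L362711 : sm gg N42886 = N31234 := ded_36_2 (flp_d L264826) (flp_g L249500) L362707
theorem L362713 : sm gi N29426 = N42887 := rfl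
theorem L362715 : sm gc N42887 = N29446 := ded_33_1 (flp_i L249636) (flp_c L249496) L362713
theorem L362717 : sm gf N42887 = N29429 := ded_48_1 (flp_i L249515) (flp_f L249498) L362713
theorem L362719 : sm gg N42887 = N31235 := ded_51_1 (flp_i L264830) (flp_g L249500) L362713
theorem L362721 : sm gh N42887 = N29533 := ded_54_1 (flp_i L250370) (flp_h L172429) (flp_i L171851) L249494 L362713
theorem L362723 : sm gd N29427 = N42888 := rfl
theorem L362725 : sm gg N42888 = N42888 := ded_36_2 (flp_d L362723) L249508 L362723
theorem L362726 : sm gj N42888 = N29428 := ded_37_2 (flp_d L249511) (flp_j L249509) L362723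
theorem L362728 : sm gi N29427 = N42889 := rfl
theorem L362730 : sm gc N42889 = N29448 := ded_33_1 (flp_i L249655) (flp_c L249504) L362728
theorem L362732 : sm ge N42889 = N29434 := ded_44_1 (flp_i L249550) (flp_e L249506) L362728
theorem L362734 : sm gg N42889 = N42889 := ded_51_1 (flp_i L362728) L249508 L362728
theorem L362735 : sm gj N42889 = N29429 := ded_53_1 (flp_i L249515) (flp_j L249509) L362728
theorem L362737 : sm gh N42889 = N29535 := ded_54_1 (flp_i L250383) (flp_h L172437) (flp_i L171861) L249502 L362728
theorem L362739 : sm gc N29428 = N42890 := rfl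
theorem L362741 : sm gg N42890 = N29430 := ded_30_2 (flp_c L249525) (flp_g L249513) L362739
theorem L362743 : sm gd N42890 = N29449 := ded_27_2 (flp_c L249666) (flp_d L171965) (flp_c L171866) L249511 L362739
theorem L362745 : sm ge N29428 = N42891 := rfl
theorem L362747 : sm gg N42891 = N29431 := ded_41_2 (flp_e L249532) (flp_g L249513) L362745
theorem L362749 : sm gd N42891 = N29435 := ded_34_1 (flp_e L249559) (flp_d L171895) (flp_e L171868) L249511 L362745
theorem L362751 : sm gi N29428 = N42892 := rfl
theorem L362753 : sm gd N42892 = N29429 := ded_39_1 (flp_i L249515) L249511 L362751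
theorem L362755 : sm gg N42892 = N29432 := ded_51_1 (flp_i L249537) (flp_g L249513) L362751
theorem L362757 : sm gb N29430 = N42893 := rfl
theorem L362759 : sm gd N42893 = N29451 := ded_20_2 (flp_b L249680) (flp_d L249530) L362757
theorem L362761 : sm gf N42893 = N31241 := ded_22_2 (flp_b L264872) (flp_f L249527) L362757
theorem L362763 : sm gj N42893 = N42893 := ded_24_2 (flp_b L362757) L249529 L362757
theorem L362764 : sm ge N29430 = N42894 := rfl
theorem L362766 : sm gc N42894 = N29431 := ded_28_1 (flp_e L249532) L249525 L362764
theorem L362768 : sm gj N42894 = N42894 := ded_42_2 (flp_e L362764) L249529 L362764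
theorem L362769 : sm gi N29430 = N42895 := rfl
theorem L362771 : sm gc N42895 = N29432 := ded_33_1 (flp_i L249537) L249525 L362769
theorem L362773 : sm gd N42895 = N29452 := ded_39_1 (flp_i L249689) (flp_d L249530) L362769
theorem L362775 : sm gf N42895 = N31243 := ded_48_1 (flp_i L264883) (flp_f L249527) L362769
theorem L362777 : sm gj N42895 = N42895 := ded_53_1 (flp_i L362769) L249529 L362769
theorem L362778 : sm gf N29431 = N42896 := rfl
theorem L362780 : sm gd N42896 = N29437 := ded_35_1 (flp_f L249570) (flp_d L249535) L362778
theorem L362782 : sm gj N42896 = N42896 := ded_46_2 (flp_f L362778) L249534 L362778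
theorem L362785 : sm gi N29431 = N42897 := rfl
theorem L362787 : sm gd N42897 = N29438 := ded_39_1 (flp_i L249576) (flp_d L249535) L362785
theorem L362789 : sm ge N42897 = N29432 := ded_44_1 (flp_i L249537) L249532 L362785
theorem L362791 : sm gj N42897 = N42897 := ded_53_1 (flp_i L362785) L249534 L362785
theorem L362792 : sm gh N29432 = N42898 := rfl
theorem L362794 : sm gf N42898 = N31246 := ded_47_1 (flp_h L264902) (flp_f L249541) L362792
theorem L362796 : sm gj N42898 = N42898 := ded_52_1 (flp_h L362792) L249543 L362792
theorem L362797 : sm gd N42898 = N29544 := ded_38_1 (flp_h L250446) L172472 (flp_h L171886) (flp_d L249539) L362792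
theorem L362799 : sm ge N29433 = N42899 := rfl
theorem L362801 : sm gg N42899 = N42899 := ded_41_2 (flp_e L362799) L249546 L362799
theorem L362802 : sm gj N42899 = N29435 := ded_42_2 (flp_e L249559) (flp_j L249547) L362799
theorem L362804 : sm gh N42899 = N42899 := ded_43_2 (flp_e L362799) L249549 L362799
theorem L362805 : sm gi N29433 = N42900 := rfl
theorem L362807 : sm gd N42900 = N29434 := ded_39_1 (flp_i L249550) L249544 L362805
theorem L362809 : sm gg N42900 = N42900 := ded_51_1 (flp_i L362805) L249546 L362805
theorem L362810 : sm gj N42900 = N29436 := ded_53_1 (flp_i L249564) (flp_j L249547) L362805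
theorem L362812 : sm gf N29435 = N42901 := rfl
theorem L362814 : sm gh N42901 = N42901 := ded_47_2 (flp_f L362812) L249563 L362812
theorem L362815 : sm gi N29435 = N42902 := rfl
theorem L362817 : sm ge N42902 = N29436 := ded_44_1 (flp_i L249564) L249559 L362815
theorem L362819 : sm gg N42902 = N29438 := ded_51_1 (flp_i L249576) (flp_g L249561) L362815
theorem L362821 : sm gh N29436 = N42903 := rfl
theorem L362823 : sm gg N42903 = N29439 := ded_50_1 (flp_h L249581) (flp_g L249568) L362821
theorem L362825 : sm gd N42903 = N29549 := ded_38_1 (flp_h L250477) L172500 (flp_h L171906) (flp_d L249566) L362821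
theorem L362827 : sm gi N42903 = N42903 := ded_54_2 (flp_h L362821) (flp_i L249564) L171899 L249564 L362821
theorem L362828 : sm gg N29437 = N42904 := rfl
theorem L362830 : sm ge N42904 = N29440 := ded_41_1 (flp_g L249589) (flp_e L249574) L362828
theorem L362832 : sm gh N42904 = N42904 := ded_50_2 (flp_g L362828) L249573 L362828
theorem L362833 : sm gi N29437 = N42905 := rfl
theorem L362835 : sm ge N42905 = N29441 := ded_44_1 (flp_i L249594) (flp_e L249574) L362833
theorem L362837 : sm gf N42905 = N29438 := ded_48_1 (flp_i L249576) L249570 L362833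
theorem L362839 : sm gj N42905 = N42905 := ded_53_1 (flp_i L362833) L249572 L362833
theorem L362840 : sm gh N29438 = N42906 := rfl
theorem L362842 : sm ge N42906 = N29439 := ded_43_1 (flp_h L249581) (flp_e L249578) L362840
theorem L362844 : sm gj N42906 = N42906 := ded_52_1 (flp_h L362840) L249580 L362840
theorem L362845 : sm gi N42906 = N42906 := ded_54_2 (flp_h L362840) (flp_i L249576) L171911 L249576 L362840
theorem L362846 : sm gj N29440 = N42907 := rfl
theorem L362848 : sm gd N42907 = N31255 := ded_37_1 (flp_j L264967) (flp_d L249591) L362846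
theorem L362850 : sm gh N42907 = N42907 := ded_52_2 (flp_j L362846) L249593 L362846
theorem L362851 : sm gg N42907 = N42907 := ded_49_1 (flp_j L362846) (flp_g L249589) L171923 L249589 L362846
theorem L362852 : sm gi N29440 = N42908 := rfl
theorem L362854 : sm gd N42908 = N31256 := ded_39_1 (flp_i L264973) (flp_d L249591) L362852
theorem L362856 : sm gg N42908 = N29441 := ded_51_1 (flp_i L249594) L249589 L362852
theorem L362858 : sm gh N29441 = N42909 := rfl
theorem L362860 : sm gf N42909 = N29442 := ded_47_1 (flp_h L249601) (flp_f L249598) L362858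
theorem L362862 : sm gj N42909 = N42909 := ded_52_1 (flp_h L362858) L249600 L362858
theorem L362863 : sm gi N42909 = N42909 := ded_54_2 (flp_h L362858) (flp_i L249594) L171924 L249594 L362858
theorem L362864 : sm gd N29442 = N42910 := rfl
theorem L362868 : sm ge N42910 = N29556 := ded_34_2 (flp_d L250525) L172541 (flp_d L171935) (flp_e L249603) L362864
theorem L362870 : sm gh N42910 = N31258 := ded_38_2 (flp_d L264986) (flp_h L182286) (flp_d L171927) L249601 L362864
theorem L362872 : sm gh N29443 = N42911 := rfl
theorem L362874 : sm gb N42911 = N29454 := ded_25_1 (flp_h L249707) (flp_b L249609) L362872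
theorem L362876 : sm gf N42911 = N42911 := ded_47_1 (flp_h L362872) L249615 L362872
theorem L362877 : sm gg N42911 = N29444 := ded_50_1 (flp_h L249618) L249607 L362872
theorem L362879 : sm gj N42911 = N31259 := ded_52_1 (flp_h L264993) (flp_j L249616) L362872
theorem L362881 : sm gd N29444 = N42912 := rfl
theorem L362883 : sm gb N42912 = N29455 := ded_20_1 (flp_d L249715) (flp_b L249620) L362881
theorem L362885 : sm gf N42912 = N29447 := ded_35_2 (flp_d L249646) (flp_f L249622) L362881
theorem L362887 : sm gj N42912 = N29445 := ded_37_2 (flp_d L249626) (flp_j L249624) L362881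
theorem L362889 : sm gh N42912 = N29815 := ded_38_2 (flp_d L252780) (flp_h L174060) (flp_d L171942) L249618 L362881
theorem L362891 : sm gi N29444 = N42913 := rfl
theorem L362893 : sm gb N42913 = N29456 := ded_26_1 (flp_i L249724) (flp_b L249620) L362891
theorem L362895 : sm gf N42913 = N29448 := ded_48_1 (flp_i L249655) (flp_f L249622) L362891
theorem L362897 : sm gj N42913 = N29446 := ded_53_1 (flp_i L249636) (flp_j L249624) L362891
theorem L362899 : sm gh N42913 = N29559 := ded_54_1 (flp_i L250550) (flp_h L172554) (flp_i L171946) L249618 L362891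
theorem L362901 : sm gc N29445 = N42914 := rfl
theorem L362903 : sm gf N42914 = N29449 := ded_29_2 (flp_c L249666) (flp_f L249630) L362901
theorem L362905 : sm gg N42914 = N31262 := ded_30_2 (flp_c L265020) (flp_g L249632) L362901
theorem L362907 : sm gh N42914 = N29817 := ded_32_2 (flp_c L252799) (flp_h L249634) L362901
theorem L362909 : sm ge N29445 = N42915 := rfl
theorem L362911 : sm gb N42915 = N29458 := ded_21_1 (flp_e L249742) (flp_b L249628) L362909
theorem L362913 : sm gg N42915 = N31263 := ded_41_2 (flp_e L265026) (flp_g L249632) L362909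
theorem L362915 : sm gh N42915 = N29818 := ded_43_2 (flp_e L252805) (flp_h L249634) L362909
theorem L362917 : sm gi N29445 = N42916 := rfl
theorem L362919 : sm gb N42916 = N29459 := ded_26_1 (flp_i L249749) (flp_b L249628) L362917
theorem L362921 : sm gd N42916 = N29446 := ded_39_1 (flp_i L249636) L249626 L362917
theorem L362923 : sm gf N42916 = N29450 := ded_48_1 (flp_i L249672) (flp_f L249630) L362917
theorem L362925 : sm gg N42916 = N31264 := ded_51_1 (flp_i L265033) (flp_g L249632) L362917
theorem L362927 : sm gc N29447 = N42917 := rfl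
theorem L362929 : sm gg N42917 = N42917 := ded_30_2 (flp_c L362927) L249650 L362927
theorem L362930 : sm gj N42917 = N29449 := ded_31_2 (flp_c L249666) (flp_j L249651) L362927
theorem L362932 : sm gh N42917 = N29820 := ded_32_2 (flp_c L252822) (flp_h L249653) L362927
theorem L362934 : sm gi N29447 = N42918 := rfl
theorem L362936 : sm gb N42918 = N29461 := ded_26_1 (flp_i L249766) (flp_b L249648) L362934
theorem L362938 : sm gd N42918 = N29448 := ded_39_1 (flp_i L249655) L249646 L362934
theorem L362940 : sm gg N42918 = N42918 := ded_51_1 (flp_i L362934) L249650 L362934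
theorem L362941 : sm gj N42918 = N29450 := ded_53_1 (flp_i L249672) (flp_j L249651) L362934
theorem L362943 : sm gb N29449 = N42919 := rfl
theorem L362945 : sm gg N42919 = N29451 := ded_23_2 (flp_b L249680) (flp_g L249668) L362943
theorem L362947 : sm gh N42919 = N29822 := ded_25_2 (flp_b L252836) (flp_h L249670) L362943
theorem L362949 : sm gc N42919 = N29462 := ded_19_2 (flp_b L249774) (flp_c L172061) (flp_b L171967) L249666 L362943
theorem L362951 : sm gi N29449 = N42920 := rfl
theorem L362953 : sm gc N42920 = N29450 := ded_33_1 (flp_i L249672) L249666 L362951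
theorem L362955 : sm gg N42920 = N29452 := ded_51_1 (flp_i L249689) (flp_g L249668) L362951
theorem L362957 : sm gh N29450 = N42921 := rfl
theorem L362959 : sm gb N42921 = N29464 := ded_25_1 (flp_h L249787) (flp_b L249674) L362957
theorem L362963 : sm gd N42921 = N29567 := ded_38_1 (flp_h L250619) L172610 (flp_h L171981) (flp_d L249676) L362957
theorem L362967 : sm ga N29451 = N42922 := rfl
theorem L362969 : sm gc N42922 = N29465 := ded_11_2 (flp_a L249796) (flp_c L249687) L362967
theorem L362971 : sm gf N42922 = N31270 := ded_14_2 (flp_a L265086) (flp_f L249682) L362967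
theorem L362976 : sm gi N29451 = N42923 := rfl
theorem L362978 : sm gb N42923 = N29452 := ded_26_1 (flp_i L249689) L249680 L362976
theorem L362980 : sm gc N42923 = N29466 := ded_33_1 (flp_i L249804) (flp_c L249687) L362976
theorem L362982 : sm gf N42923 = N31271 := ded_48_1 (flp_i L265094) (flp_f L249682) L362976
theorem L362984 : sm gj N42923 = N42923 := ded_53_1 (flp_i L362976) L249684 L362976
theorem L362985 : sm gh N29452 = N42924 := rfl
theorem L362992 : sm gi N42924 = N29827 := ded_54_2 (flp_h L252872) (flp_i L174125) (flp_h L171988) L249689 L362985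
theorem L362994 : sm gd N29454 = N42925 := rfl
theorem L362996 : sm ga N42925 = N42925 := ded_12_1 (flp_d L362994) L249709 L362994
theorem L362997 : sm gf N42925 = N42925 := ded_35_2 (flp_d L362994) L249710 L362994
theorem L362998 : sm gg N42925 = N29455 := ded_36_2 (flp_d L249715) (flp_g L249711) L362994
theorem L363000 : sm gj N42925 = N31273 := ded_37_2 (flp_d L265110) (flp_j L249713) L362994
theorem L363002 : sm gh N42925 = N29828 := ded_38_2 (flp_d L252879) (flp_h L174141) (flp_d L172011) L249707 L362994
theorem L363004 : sm gi N29454 = N42926 := rfl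
theorem L363006 : sm ga N42926 = N42926 := ded_18_1 (flp_i L363004) L249709 L363004
theorem L363007 : sm gf N42926 = N42926 := ded_48_1 (flp_i L363004) L249710 L363004
theorem L363008 : sm gg N42926 = N29456 := ded_51_1 (flp_i L249724) (flp_g L249711) L363004
theorem L363010 : sm gj N42926 = N31274 := ded_53_1 (flp_i L265118) (flp_j L249713) L363004
theorem L363012 : sm gh N42926 = N29572 := ded_54_1 (flp_i L250668) (flp_h L172643) (flp_i L172013) L249707 L363004
theorem L363014 : sm gc N29455 = N42927 := rfl
theorem L363016 : sm ga N42927 = N42927 := ded_11_1 (flp_c L363014) L249717 L363014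
theorem L363017 : sm gf N42927 = N29460 := ded_29_2 (flp_c L249758) (flp_f L249718) L363014
theorem L363019 : sm gj N42927 = N29457 := ded_31_2 (flp_c L249733) (flp_j L249720) L363014
theorem L363021 : sm gh N42927 = N29830 := ded_32_2 (flp_c L252899) (flp_h L249722) L363014
theorem L363023 : sm ge N29455 = N42928 := rfl
theorem L363025 : sm ga N42928 = N42928 := ded_13_1 (flp_e L363023) L249717 L363023
theorem L363026 : sm gj N42928 = N29458 := ded_42_2 (flp_e L249742) (flp_j L249720) L363023
theorem L363028 : sm gh N42928 = N29831 := ded_43_2 (flp_e L252907) (flp_h L249722) L363023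
theorem L363030 : sm gi N29455 = N42929 := rfl
theorem L363032 : sm ga N42929 = N42929 := ded_18_1 (flp_i L363030) L249717 L363030
theorem L363033 : sm gd N42929 = N29456 := ded_39_1 (flp_i L249724) L249715 L363030
theorem L363035 : sm gf N42929 = N29461 := ded_48_1 (flp_i L249766) (flp_f L249718) L363030
theorem L363037 : sm gj N42929 = N29459 := ded_53_1 (flp_i L249749) (flp_j L249720) L363030
theorem L363039 : sm gb N29457 = N42930 := rfl
theorem L363041 : sm gf N42930 = N29462 := ded_22_2 (flp_b L249774) (flp_f L249736) L363039
theorem L363043 : sm gg N42930 = N31278 := ded_23_2 (flp_b L265152) (flp_g L249738) L363039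
theorem L363045 : sm gh N42930 = N29833 := ded_25_2 (flp_b L252922) (flp_h L249740) L363039
theorem L363047 : sm ge N29457 = N42931 := rfl
theorem L363049 : sm ga N42931 = N42931 := ded_13_1 (flp_e L363047) L249735 L363047
theorem L363050 : sm gc N42931 = N29458 := ded_28_1 (flp_e L249742) L249733 L363047
theorem L363052 : sm gg N42931 = N31279 := ded_41_2 (flp_e L265158) (flp_g L249738) L363047
theorem L363054 : sm gh N42931 = N29834 := ded_43_2 (flp_e L252929) (flp_h L249740) L363047
theorem L363056 : sm gi N29457 = N42932 := rfl
theorem L363058 : sm ga N42932 = N42932 := ded_18_1 (flp_i L363056) L249735 L363056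
theorem L363059 : sm gc N42932 = N29459 := ded_33_1 (flp_i L249749) L249733 L363056
theorem L363061 : sm gf N42932 = N29463 := ded_48_1 (flp_i L249780) (flp_f L249736) L363056
theorem L363063 : sm gg N42932 = N31280 := ded_51_1 (flp_i L265166) (flp_g L249738) L363056
theorem L363065 : sm gi N29458 = N42933 := rfl
theorem L363067 : sm ga N42933 = N42933 := ded_18_1 (flp_i L363065) L249744 L363065
theorem L363068 : sm ge N42933 = N29459 := ded_44_1 (flp_i L249749) L249742 L363065
theorem L363070 : sm gg N42933 = N31281 := ded_51_1 (flp_i L265173) (flp_g L249745) L363065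
theorem L363072 : sm gh N29459 = N42934 := rfl
theorem L363074 : sm ga N42934 = N42934 := ded_17_1 (flp_h L363072) L249751 L363072
theorem L363075 : sm gf N42934 = N29464 := ded_47_1 (flp_h L249787) (flp_f L249754) L363072
theorem L363077 : sm gg N42934 = N31282 := ded_50_1 (flp_h L265179) (flp_g L249756) L363072
theorem L363079 : sm gd N42934 = N29580 := ded_38_1 (flp_h L250737) L172687 (flp_h L172041) (flp_d L249752) L363072
theorem L363081 : sm gi N42934 = N29837 := ded_54_2 (flp_h L252954) (flp_i L174183) (flp_h L172032) L249749 L363072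
theorem L363083 : sm gb N29460 = N42935 := rfl
theorem L363088 : sm gh N42935 = N29838 := ded_25_2 (flp_b L252963) (flp_h L249764) L363083
theorem L363090 : sm gi N29460 = N42936 := rfl
theorem L363092 : sm ga N42936 = N42936 := ded_18_1 (flp_i L363090) L249760 L363090
theorem L363093 : sm gc N42936 = N29461 := ded_33_1 (flp_i L249766) L249758 L363090
theorem L363095 : sm gg N42936 = N42936 := ded_51_1 (flp_i L363090) L249761 L363090
theorem L363096 : sm gj N42936 = N29463 := ded_53_1 (flp_i L249780) (flp_j L249762) L363090
theorem L363098 : sm gh N29461 = N42937 := rfl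
theorem L363100 : sm ga N42937 = N42937 := ded_17_1 (flp_h L363098) L249768 L363098
theorem L363101 : sm gg N42937 = N42937 := ded_50_1 (flp_h L363098) L249771 L363098
theorem L363102 : sm gj N42937 = N29464 := ded_52_1 (flp_h L249787) (flp_j L249772) L363098
theorem L363104 : sm gd N42937 = N29583 := ded_38_1 (flp_h L250763) L172705 (flp_h L172059) (flp_d L249769) L363098
theorem L363106 : sm gi N42937 = N29840 := ded_54_2 (flp_h L252978) (flp_i L174199) (flp_h L172049) L249766 L363098
theorem L363115 : sm gi N29462 = N42939 := rfl
theorem L363117 : sm gb N42939 = N29463 := ded_26_1 (flp_i L249780) L249774 L363115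
theorem L363119 : sm gg N42939 = N29466 := ded_51_1 (flp_i L249804) (flp_g L249776) L363115
theorem L363121 : sm gh N29463 = N42940 := rfl
theorem L363123 : sm ga N42940 = N42940 := ded_17_1 (flp_h L363121) L249782 L363121
theorem L363124 : sm gc N42940 = N29464 := ded_32_1 (flp_h L249787) (flp_c L249783) L363121
theorem L363126 : sm gg N42940 = N29467 := ded_50_1 (flp_h L249811) (flp_g L249785) L363121
theorem L363128 : sm gi N42940 = N29843 := ded_54_2 (flp_h L252999) (flp_i L174212) (flp_h L172066) L249780 L363121
theorem L363130 : sm gi N29465 = N42941 := rfl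
theorem L363132 : sm ga N42941 = N29466 := ded_18_1 (flp_i L249804) L249796 L363130
theorem L363134 : sm gb N42941 = N42941 := ded_26_1 (flp_i L363130) L249803 L363130
theorem L363135 : sm gf N42941 = N31289 := ded_48_1 (flp_i L265241) (flp_f L249798) L363130
theorem L363137 : sm gj N42941 = N42941 := ded_53_1 (flp_i L363130) L249800 L363130
theorem L363138 : sm gh N29466 = N42942 := rfl
theorem L363140 : sm gb N42942 = N29467 := ded_25_1 (flp_h L249811) (flp_b L249806) L363138
theorem L363142 : sm gf N42942 = N31290 := ded_47_1 (flp_h L265248) (flp_f L249808) L363138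
theorem L363144 : sm gj N42942 = N42942 := ded_52_1 (flp_h L363138) L249810 L363138
theorem L363145 : sm gi N42942 = N29845 := ded_54_2 (flp_h L253015) (flp_i L174234) (flp_h L172080) L249804 L363138
theorem L363147 : sm gd N29467 = N42943 := rfl
theorem L363149 : sm ga N42943 = N42943 := ded_12_1 (flp_d L363147) L249813 L363147
theorem L363150 : sm gf N42943 = N31291 := ded_35_2 (flp_d L265256) (flp_f L249816) L363147
theorem L363152 : sm gj N42943 = N42943 := ded_37_2 (flp_d L363147) L249818 L363147
theorem L363153 : sm gi N42943 = N29846 := ded_39_2 (flp_d L253022) (flp_i L249819) L363147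
theorem L363155 : sm gc N42943 = N29589 := ded_27_1 (flp_d L250816) L172754 (flp_d L172096) (flp_c L249814) L363147
theorem L363165 : sm gh N29468 = N42945 := rfl
theorem L363167 : sm gb N42945 = N29848 := ded_25_1 (flp_h L253038) (flp_b L249827) L363165
theorem L363169 : sm gc N42945 = N29470 := ded_32_1 (flp_h L249837) L249821 L363165
theorem L363175 : sm gf N29469 = N42946 := rfl
theorem L363177 : sm gb N42946 = N29487 := ded_22_1 (flp_f L249968) (flp_b L249832) L363175
theorem L363179 : sm gd N42946 = N29471 := ded_35_1 (flp_f L249845) (flp_d L249834) L363175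
theorem L363181 : sm gg N42946 = N31294 := ded_45_2 (flp_f L265282) (flp_g L182505) (flp_f L172104) L249830 L363175
theorem L363183 : sm gj N29469 = N42947 := rfl
theorem L363185 : sm gb N42947 = N29488 := ded_24_1 (flp_j L249978) (flp_b L249832) L363183
theorem L363187 : sm gd N42947 = N29472 := ded_37_1 (flp_j L249852) (flp_d L249834) L363183
theorem L363189 : sm ge N42947 = N42947 := ded_42_1 (flp_j L363183) L249836 L363183
theorem L363190 : sm gg N42947 = N42947 := ded_49_1 (flp_j L363183) (flp_g L249830) L172106 L249830 L363183
theorem L363191 : sm gh N29469 = N42948 := rfl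
theorem L363193 : sm gb N42948 = N29489 := ded_25_1 (flp_h L249988) (flp_b L249832) L363191
theorem L363195 : sm ge N42948 = N42948 := ded_43_1 (flp_h L363191) L249836 L363191
theorem L363196 : sm gg N42948 = N29470 := ded_50_1 (flp_h L249837) L249830 L363191
theorem L363198 : sm gd N29470 = N42949 := rfl
theorem L363200 : sm gb N42949 = N29490 := ded_20_1 (flp_d L249997) (flp_b L249839) L363198
theorem L363202 : sm gf N42949 = N31297 := ded_35_2 (flp_d L265305) (flp_f L249842) L363198
theorem L363204 : sm gj N42949 = N42949 := ded_37_2 (flp_d L363198) L249844 L363198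
theorem L363205 : sm gh N42949 = N29474 := ded_38_2 (flp_d L249869) (flp_h L172115) L172100 L249837 L363198
theorem L363207 : sm gi N29470 = N42950 := rfl
theorem L363209 : sm gb N42950 = N29491 := ded_26_1 (flp_i L250006) (flp_b L249839) L363207
theorem L363211 : sm ge N42950 = N42950 := ded_44_1 (flp_i L363207) L249841 L363207
theorem L363212 : sm gf N42950 = N31298 := ded_48_1 (flp_i L265312) (flp_f L249842) L363207
theorem L363214 : sm gj N42950 = N42950 := ded_53_1 (flp_i L363207) L249844 L363207
theorem L363215 : sm gj N29471 = N42951 := rfl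
theorem L363217 : sm gb N42951 = N29492 := ded_24_1 (flp_j L250016) (flp_b L249847) L363215
theorem L363219 : sm gc N42951 = N42951 := ded_31_1 (flp_j L363215) L249849 L363215
theorem L363220 : sm gf N42951 = N29472 := ded_46_1 (flp_j L249852) L249845 L363215
theorem L363222 : sm gh N29471 = N42952 := rfl
theorem L363224 : sm gb N42952 = N29493 := ded_25_1 (flp_h L250024) (flp_b L249847) L363222
theorem L363226 : sm gc N42952 = N42952 := ded_32_1 (flp_h L363222) L249849 L363222
theorem L363227 : sm gf N42952 = N29473 := ded_47_1 (flp_h L249860) L249845 L363222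
theorem L363229 : sm gg N42952 = N31300 := ded_50_1 (flp_h L265326) (flp_g L249850) L363222
theorem L363231 : sm gh N29472 = N42953 := rfl
theorem L363233 : sm gb N42953 = N29494 := ded_25_1 (flp_h L250034) (flp_b L249854) L363231
theorem L363235 : sm gc N42953 = N42953 := ded_32_1 (flp_h L363231) L249856 L363231
theorem L363236 : sm ge N42953 = N29476 := ded_43_1 (flp_h L249886) (flp_e L249857) L363231
theorem L363238 : sm gg N42953 = N42953 := ded_50_1 (flp_h L363231) L249859 L363231
theorem L363239 : sm gj N42953 = N29473 := ded_52_1 (flp_h L249860) L249852 L363231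
theorem L363241 : sm gd N29473 = N42954 := rfl
theorem L363243 : sm gb N42954 = N29495 := ded_20_1 (flp_d L250045) (flp_b L249862) L363241
theorem L363245 : sm gg N42954 = N29474 := ded_36_2 (flp_d L249869) (flp_g L249867) L363241
theorem L363247 : sm gi N29473 = N42955 := rfl
theorem L363249 : sm gb N42955 = N29496 := ded_26_1 (flp_i L250051) (flp_b L249862) L363247
theorem L363251 : sm gc N42955 = N42955 := ded_33_1 (flp_i L363247) L249864 L363247
theorem L363252 : sm ge N42955 = N29478 := ded_44_1 (flp_i L249901) (flp_e L249865) L363247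
theorem L363254 : sm gg N42955 = N29475 := ded_51_1 (flp_i L249876) (flp_g L249867) L363247
theorem L363256 : sm gc N29474 = N42956 := rfl
theorem L363258 : sm gf N42956 = N31304 := ded_29_2 (flp_c L265358) (flp_f L249873) L363256
theorem L363260 : sm gj N42956 = N42956 := ded_31_2 (flp_c L363256) L249875 L363256
theorem L363261 : sm gd N42956 = N42956 := ded_27_2 (flp_c L363256) (flp_d L249869) L172119 L249869 L363256
theorem L363262 : sm ge N29474 = N42957 := rfl
theorem L363264 : sm gb N42957 = N29498 := ded_21_1 (flp_e L250070) (flp_b L249871) L363262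
theorem L363267 : sm gd N42957 = N29480 := ded_34_1 (flp_e L249916) (flp_d L172139) (flp_e L172120) L249869 L363262
theorem L363269 : sm gi N29474 = N42958 := rfl
theorem L363271 : sm gb N42958 = N29499 := ded_26_1 (flp_i L250077) (flp_b L249871) L363269
theorem L363273 : sm gd N42958 = N29475 := ded_39_1 (flp_i L249876) L249869 L363269
theorem L363275 : sm gf N42958 = N31306 := ded_48_1 (flp_i L265369) (flp_f L249873) L363269
theorem L363277 : sm gj N42958 = N42958 := ded_53_1 (flp_i L363269) L249875 L363269
theorem L363278 : sm gd N29476 = N42959 := rfl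
theorem L363280 : sm gb N42959 = N29500 := ded_20_1 (flp_d L250086) (flp_b L249888) L363278
theorem L363286 : sm gi N29476 = N42960 := rfl
theorem L363288 : sm gb N42960 = N29501 := ded_26_1 (flp_i L250095) (flp_b L249888) L363286
theorem L363290 : sm gc N42960 = N42960 := ded_33_1 (flp_i L363286) L249890 L363286
theorem L363291 : sm gg N42960 = N42960 := ded_51_1 (flp_i L363286) L249891 L363286
theorem L363292 : sm gj N42960 = N29478 := ded_53_1 (flp_i L249901) (flp_j L249892) L363286
theorem L363301 : sm ge N29477 = N42962 := rfl
theorem L363303 : sm gb N42962 = N29502 := ded_21_1 (flp_e L250104) (flp_b L249896) L363301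
theorem L363308 : sm gi N29477 = N42963 := rfl
theorem L363310 : sm gb N42963 = N29503 := ded_26_1 (flp_i L250112) (flp_b L249896) L363308
theorem L363314 : sm gg N42963 = N29481 := ded_51_1 (flp_i L249922) (flp_g L249898) L363308
theorem L363332 : sm gf N29480 = N42966 := rfl
theorem L363334 : sm gb N42966 = N29504 := ded_22_1 (flp_f L250121) (flp_b L249918) L363332
theorem L363338 : sm ge N42966 = N29484 := ded_40_1 (flp_f L249945) (flp_e L172161) (flp_f L172143) L249916 L363332
theorem L363340 : sm gi N29480 = N42967 := rfl
theorem L363342 : sm gb N42967 = N29505 := ded_26_1 (flp_i L250130) (flp_b L249918) L363340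
theorem L363344 : sm ge N42967 = N29481 := ded_44_1 (flp_i L249922) L249916 L363340
theorem L363347 : sm gh N29481 = N42968 := rfl
theorem L363349 : sm gb N42968 = N29506 := ded_25_1 (flp_h L250138) (flp_b L249924) L363347
theorem L363351 : sm gf N42968 = N29486 := ded_47_1 (flp_h L249962) (flp_f L249928) L363347
theorem L363355 : sm gd N29482 = N42969 := rfl
theorem L363359 : sm gc N42969 = N31317 := ded_27_1 (flp_d L265462) L182608 (flp_d L172167) (flp_c L249934) L363355
theorem L363391 : sm gi N29484 = N42974 := rfl
theorem L363393 : sm gb N42974 = N29508 := ded_26_1 (flp_i L250155) (flp_b L249947) L363391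
theorem L363397 : sm gf N42974 = N29485 := ded_48_1 (flp_i L249953) L249945 L363391
theorem L363408 : sm ge N29487 = N42976 := rfl
theorem L363410 : sm ga N42976 = N29521 := ded_13_1 (flp_e L250283) (flp_a L249970) L363408
theorem L363412 : sm gc N42976 = N29872 := ded_28_1 (flp_e L253260) (flp_c L249972) L363408
theorem L363414 : sm gg N42976 = N31324 := ded_41_2 (flp_e L265517) (flp_g L249976) L363408
theorem L363416 : sm gf N42976 = N42976 := ded_40_2 (flp_e L363408) (flp_f L249968) L172184 L249968 L363408
theorem L363417 : sm gj N29487 = N42977 := rfl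
theorem L363419 : sm ga N42977 = N29522 := ded_16_1 (flp_j L250290) (flp_a L249970) L363417
theorem L363421 : sm gc N42977 = N29873 := ded_31_1 (flp_j L253268) (flp_c L249972) L363417
theorem L363423 : sm gd N42977 = N29492 := ded_37_1 (flp_j L250016) (flp_d L249974) L363417
theorem L363425 : sm gf N42977 = N29488 := ded_46_1 (flp_j L249978) L249968 L363417
theorem L363427 : sm gh N29487 = N42978 := rfl
theorem L363429 : sm ga N42978 = N29523 := ded_17_1 (flp_h L250298) (flp_a L249970) L363427
theorem L363431 : sm gc N42978 = N29874 := ded_32_1 (flp_h L253276) (flp_c L249972) L363427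
theorem L363433 : sm gf N42978 = N29489 := ded_47_1 (flp_h L249988) L249968 L363427
theorem L363435 : sm gg N42978 = N31326 := ded_50_1 (flp_h L265535) (flp_g L249976) L363427
theorem L363437 : sm gh N29488 = N42979 := rfl
theorem L363439 : sm ga N42979 = N29524 := ded_17_1 (flp_h L250306) (flp_a L249980) L363437
theorem L363441 : sm gc N42979 = N29875 := ded_32_1 (flp_h L253284) (flp_c L249982) L363437
theorem L363443 : sm ge N42979 = N42979 := ded_43_1 (flp_h L363437) L249986 L363437
theorem L363444 : sm gg N42979 = N42979 := ded_50_1 (flp_h L363437) L249987 L363437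
theorem L363445 : sm gj N42979 = N29489 := ded_52_1 (flp_h L249988) L249978 L363437
theorem L363447 : sm gd N29489 = N42980 := rfl
theorem L363449 : sm ga N42980 = N29525 := ded_12_1 (flp_d L250314) (flp_a L249990) L363447
theorem L363451 : sm gg N42980 = N29490 := ded_36_2 (flp_d L249997) (flp_g L249995) L363447
theorem L363453 : sm gh N42980 = N29495 := ded_38_2 (flp_d L250045) (flp_h L172212) (flp_d L172182) L249988 L363447
theorem L363455 : sm gi N29489 = N42981 := rfl
theorem L363457 : sm ga N42981 = N29526 := ded_18_1 (flp_i L250320) (flp_a L249990) L363455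
theorem L363459 : sm gc N42981 = N29877 := ded_33_1 (flp_i L253300) (flp_c L249992) L363455
theorem L363461 : sm ge N42981 = N42981 := ded_44_1 (flp_i L363455) L249994 L363455
theorem L363462 : sm gg N42981 = N29491 := ded_51_1 (flp_i L250006) (flp_g L249995) L363455
theorem L363464 : sm gc N29490 = N42982 := rfl
theorem L363466 : sm ga N42982 = N29527 := ded_11_1 (flp_c L250327) (flp_a L249999) L363464
theorem L363473 : sm gd N42982 = N29878 := ded_27_2 (flp_c L253307) (flp_d L174419) (flp_c L172189) L249997 L363464
theorem L363475 : sm ge N29490 = N42983 := rfl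
theorem L363477 : sm ga N42983 = N29528 := ded_13_1 (flp_e L250336) (flp_a L249999) L363475
theorem L363479 : sm gj N42983 = N42983 := ded_42_2 (flp_e L363475) L250003 L363475
theorem L363480 : sm gh N42983 = N29498 := ded_43_2 (flp_e L250070) (flp_h L250004) L363475
theorem L363482 : sm gd N42983 = N42983 := ded_34_1 (flp_e L363475) (flp_d L249997) L172191 L249997 L363475
theorem L363483 : sm gi N29490 = N42984 := rfl
theorem L363485 : sm ga N42984 = N29529 := ded_18_1 (flp_i L250342) (flp_a L249999) L363483
theorem L363487 : sm gd N42984 = N29491 := ded_39_1 (flp_i L250006) L249997 L363483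
theorem L363489 : sm gf N42984 = N31332 := ded_48_1 (flp_i L265590) (flp_f L250001) L363483
theorem L363491 : sm gj N42984 = N42984 := ded_53_1 (flp_i L363483) L250003 L363483
theorem L363492 : sm gg N29492 = N42985 := rfl
theorem L363494 : sm ga N42985 = N29530 := ded_15_1 (flp_g L250349) (flp_a L250018) L363492
theorem L363496 : sm gc N42985 = N29510 := ded_30_1 (flp_g L250174) (flp_c L250020) L363492
theorem L363498 : sm gf N42985 = N42985 := ded_45_1 (flp_g L363492) L250022 L172211 (flp_f L250022) L363492
theorem L363499 : sm gj N42985 = N31333 := ded_49_2 (flp_g L265597) (flp_j L182687) (flp_g L172201) L250016 L363492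
theorem L363501 : sm gh N29492 = N42986 := rfl
theorem L363503 : sm ga N42986 = N29531 := ded_17_1 (flp_h L250356) (flp_a L250018) L363501
theorem L363505 : sm gc N42986 = N29511 := ded_32_1 (flp_h L250184) (flp_c L250020) L363501
theorem L363507 : sm gf N42986 = N29494 := ded_47_1 (flp_h L250034) (flp_f L250022) L363501
theorem L363509 : sm gj N42986 = N29493 := ded_52_1 (flp_h L250024) L250016 L363501
theorem L363511 : sm gd N29493 = N42987 := rfl
theorem L363513 : sm ga N42987 = N29532 := ded_12_1 (flp_d L250364) (flp_a L250026) L363511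
theorem L363515 : sm gf N42987 = N29495 := ded_35_2 (flp_d L250045) (flp_f L250030) L363511
theorem L363517 : sm gg N42987 = N31335 := ded_36_2 (flp_d L265614) (flp_g L250032) L363511
theorem L363519 : sm gi N29493 = N42988 := rfl
theorem L363521 : sm ga N42988 = N29533 := ded_18_1 (flp_i L250370) (flp_a L250026) L363519
theorem L363523 : sm gc N42988 = N29513 := ded_33_1 (flp_i L250204) (flp_c L250028) L363519
theorem L363525 : sm gf N42988 = N29496 := ded_48_1 (flp_i L250051) (flp_f L250030) L363519
theorem L363527 : sm gg N42988 = N31336 := ded_51_1 (flp_i L265620) (flp_g L250032) L363519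
theorem L363529 : sm gd N29494 = N42989 := rfl
theorem L363531 : sm ga N42989 = N29534 := ded_12_1 (flp_d L250378) (flp_a L250036) L363529
theorem L363533 : sm gg N42989 = N42989 := ded_36_2 (flp_d L363529) L250042 L363529
theorem L363534 : sm gj N42989 = N29495 := ded_37_2 (flp_d L250045) (flp_j L250043) L363529
theorem L363536 : sm gi N29494 = N42990 := rfl
theorem L363538 : sm ga N42990 = N29535 := ded_18_1 (flp_i L250383) (flp_a L250036) L363536
theorem L363540 : sm gc N42990 = N29515 := ded_33_1 (flp_i L250224) (flp_c L250038) L363536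
theorem L363542 : sm ge N42990 = N29501 := ded_44_1 (flp_i L250095) (flp_e L250040) L363536
theorem L363544 : sm gg N42990 = N42990 := ded_51_1 (flp_i L363536) L250042 L363536
theorem L363545 : sm gj N42990 = N29496 := ded_53_1 (flp_i L250051) (flp_j L250043) L363536
theorem L363547 : sm gc N29495 = N42991 := rfl
theorem L363549 : sm ga N42991 = N29536 := ded_11_1 (flp_c L250392) (flp_a L250047) L363547
theorem L363551 : sm gg N42991 = N29497 := ded_30_2 (flp_c L250061) (flp_g L250049) L363547
theorem L363553 : sm gd N42991 = N29516 := ded_27_2 (flp_c L250234) (flp_d L172336) (flp_c L172216) L250045 L363547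
theorem L363555 : sm ge N29495 = N42992 := rfl
theorem L363557 : sm ga N42992 = N29537 := ded_13_1 (flp_e L250398) (flp_a L250047) L363555
theorem L363559 : sm gg N42992 = N29498 := ded_41_2 (flp_e L250070) (flp_g L250049) L363555
theorem L363561 : sm gd N42992 = N29502 := ded_34_1 (flp_e L250104) (flp_d L172249) (flp_e L172218) L250045 L363555
theorem L363563 : sm gi N29495 = N42993 := rfl
theorem L363565 : sm ga N42993 = N29538 := ded_18_1 (flp_i L250404) (flp_a L250047) L363563
theorem L363567 : sm gd N42993 = N29496 := ded_39_1 (flp_i L250051) L250045 L363563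
theorem L363569 : sm gg N42993 = N29499 := ded_51_1 (flp_i L250077) (flp_g L250049) L363563
theorem L363571 : sm gb N29497 = N42994 := rfl
theorem L363573 : sm gd N42994 = N29518 := ded_20_2 (flp_b L250253) (flp_d L250068) L363571
theorem L363575 : sm gf N42994 = N31342 := ded_22_2 (flp_b L265670) (flp_f L250065) L363571
theorem L363577 : sm gj N42994 = N42994 := ded_24_2 (flp_b L363571) L250067 L363571
theorem L363578 : sm ge N29497 = N42995 := rfl
theorem L363580 : sm ga N42995 = N29540 := ded_13_1 (flp_e L250417) (flp_a L250063) L363578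
theorem L363582 : sm gc N42995 = N29498 := ded_28_1 (flp_e L250070) L250061 L363578
theorem L363584 : sm gj N42995 = N42995 := ded_42_2 (flp_e L363578) L250067 L363578
theorem L363585 : sm gd N42995 = N42995 := ded_34_1 (flp_e L363578) L250068 L172359 (flp_d L250068) L363578
theorem L363586 : sm gi N29497 = N42996 := rfl
theorem L363588 : sm ga N42996 = N29541 := ded_18_1 (flp_i L250423) (flp_a L250063) L363586
theorem L363590 : sm gc N42996 = N29499 := ded_33_1 (flp_i L250077) L250061 L363586
theorem L363592 : sm gd N42996 = N29519 := ded_39_1 (flp_i L250262) (flp_d L250068) L363586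
theorem L363594 : sm gf N42996 = N31344 := ded_48_1 (flp_i L265684) (flp_f L250065) L363586
theorem L363596 : sm gj N42996 = N42996 := ded_53_1 (flp_i L363586) L250067 L363586
theorem L363597 : sm gf N29498 = N42997 := rfl
theorem L363599 : sm ga N42997 = N29542 := ded_14_1 (flp_f L250432) (flp_a L250072) L363597
theorem L363601 : sm gd N42997 = N29504 := ded_35_1 (flp_f L250121) (flp_d L250075) L363597
theorem L363606 : sm gi N29498 = N42998 := rfl
theorem L363608 : sm ga N42998 = N29543 := ded_18_1 (flp_i L250439) (flp_a L250072) L363606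
theorem L363610 : sm gd N42998 = N29505 := ded_39_1 (flp_i L250130) (flp_d L250075) L363606
theorem L363612 : sm ge N42998 = N29499 := ded_44_1 (flp_i L250077) L250070 L363606
theorem L363614 : sm gj N42998 = N42998 := ded_53_1 (flp_i L363606) L250074 L363606
theorem L363615 : sm gh N29499 = N42999 := rfl
theorem L363617 : sm ga N42999 = N29544 := ded_17_1 (flp_h L250446) (flp_a L250079) L363615
theorem L363619 : sm gf N42999 = N31347 := ded_47_1 (flp_h L265709) (flp_f L250083) L363615
theorem L363621 : sm gj N42999 = N42999 := ded_52_1 (flp_h L363615) L250085 L363615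
theorem L363622 : sm ge N29500 = N43000 := rfl
theorem L363624 : sm ga N43000 = N29545 := ded_13_1 (flp_e L250451) (flp_a L250088) L363622
theorem L363626 : sm gc N43000 = N43000 := ded_28_1 (flp_e L363622) L250093 L363622
theorem L363627 : sm gg N43000 = N43000 := ded_41_2 (flp_e L363622) L250090 L363622
theorem L363628 : sm gj N43000 = N29502 := ded_42_2 (flp_e L250104) (flp_j L250091) L363622
theorem L363630 : sm gh N43000 = N43000 := ded_43_2 (flp_e L363622) L250094 L363622
theorem L363631 : sm gi N29500 = N43001 := rfl
theorem L363633 : sm ga N43001 = N29546 := ded_18_1 (flp_i L250458) (flp_a L250088) L363631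
theorem L363635 : sm gc N43001 = N43001 := ded_33_1 (flp_i L363631) L250093 L363631
theorem L363636 : sm gd N43001 = N29501 := ded_39_1 (flp_i L250095) L250086 L363631
theorem L363638 : sm gg N43001 = N43001 := ded_51_1 (flp_i L363631) L250090 L363631
theorem L363639 : sm gj N43001 = N29503 := ded_53_1 (flp_i L250112) (flp_j L250091) L363631
theorem L363641 : sm gf N29502 = N43002 := rfl
theorem L363643 : sm ga N43002 = N29547 := ded_14_1 (flp_f L250466) (flp_a L250106) L363641
theorem L363645 : sm gc N43002 = N43002 := ded_29_1 (flp_f L363641) L250108 L363641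
theorem L363646 : sm gh N43002 = N43002 := ded_47_2 (flp_f L363641) L250111 L363641
theorem L363647 : sm gi N29502 = N43003 := rfl
theorem L363649 : sm ga N43003 = N29548 := ded_18_1 (flp_i L250470) (flp_a L250106) L363647
theorem L363651 : sm gc N43003 = N43003 := ded_33_1 (flp_i L363647) L250108 L363647
theorem L363652 : sm ge N43003 = N29503 := ded_44_1 (flp_i L250112) L250104 L363647
theorem L363654 : sm gg N43003 = N29505 := ded_51_1 (flp_i L250130) (flp_g L250109) L363647
theorem L363656 : sm gh N29503 = N43004 := rfl
theorem L363658 : sm ga N43004 = N29549 := ded_17_1 (flp_h L250477) (flp_a L250114) L363656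
theorem L363660 : sm gc N43004 = N43004 := ded_32_1 (flp_h L363656) L250116 L363656
theorem L363661 : sm gg N43004 = N29506 := ded_50_1 (flp_h L250138) (flp_g L250119) L363656
theorem L363663 : sm gi N43004 = N43004 := ded_54_2 (flp_h L363656) (flp_i L250112) L172256 L250112 L363656
theorem L363664 : sm gg N29504 = N43005 := rfl
theorem L363666 : sm ga N43005 = N29550 := ded_15_1 (flp_g L250483) (flp_a L250123) L363664
theorem L363672 : sm gi N29504 = N43006 := rfl
theorem L363674 : sm ga N43006 = N29551 := ded_18_1 (flp_i L250489) (flp_a L250123) L363672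
theorem L363677 : sm ge N43006 = N29508 := ded_44_1 (flp_i L250155) (flp_e L250128) L363672
theorem L363679 : sm gf N43006 = N29505 := ded_48_1 (flp_i L250130) L250121 L363672
theorem L363682 : sm gh N29505 = N43007 := rfl
theorem L363684 : sm ga N43007 = N29552 := ded_17_1 (flp_h L250497) (flp_a L250132) L363682
theorem L363686 : sm gc N43007 = N43007 := ded_32_1 (flp_h L363682) L250134 L363682
theorem L363687 : sm ge N43007 = N29506 := ded_43_1 (flp_h L250138) (flp_e L250135) L363682
theorem L363689 : sm gj N43007 = N43007 := ded_52_1 (flp_h L363682) L250137 L363682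
theorem L363690 : sm gi N43007 = N43007 := ded_54_2 (flp_h L363682) (flp_i L250130) L172271 L250130 L363682
theorem L363691 : sm gj N29507 = N43008 := rfl
theorem L363693 : sm ga N43008 = N29553 := ded_16_1 (flp_j L250504) (flp_a L250149) L363691
theorem L363696 : sm gd N43008 = N31356 := ded_37_1 (flp_j L265796) (flp_d L250152) L363691
theorem L363700 : sm gi N29507 = N43009 := rfl
theorem L363702 : sm ga N43009 = N29554 := ded_18_1 (flp_i L250511) (flp_a L250149) L363700
theorem L363705 : sm gd N43009 = N31357 := ded_39_1 (flp_i L265805) (flp_d L250152) L363700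
theorem L363709 : sm gh N29508 = N43010 := rfl
theorem L363711 : sm ga N43010 = N29555 := ded_17_1 (flp_h L250518) (flp_a L250157) L363709
theorem L363714 : sm gf N43010 = N29509 := ded_47_1 (flp_h L250165) (flp_f L250162) L363709
theorem L363726 : sm gh N29510 = N43012 := rfl
theorem L363728 : sm ga N43012 = N29557 := ded_17_1 (flp_h L250531) (flp_a L250176) L363726
theorem L363730 : sm gb N43012 = N43012 := ded_25_1 (flp_h L363726) L250178 L363726
theorem L363731 : sm gf N43012 = N43012 := ded_47_1 (flp_h L363726) L250181 L363726
theorem L363732 : sm gg N43012 = N29511 := ded_50_1 (flp_h L250184) L250174 L363726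
theorem L363734 : sm gj N43012 = N31360 := ded_52_1 (flp_h L265831) (flp_j L250182) L363726
theorem L363736 : sm gd N29511 = N43013 := rfl
theorem L363738 : sm ga N43013 = N29558 := ded_12_1 (flp_d L250540) (flp_a L250186) L363736
theorem L363740 : sm gb N43013 = N43013 := ded_20_1 (flp_d L363736) L250188 L363736
theorem L363741 : sm gf N43013 = N29514 := ded_35_2 (flp_d L250213) (flp_f L250189) L363736
theorem L363743 : sm gj N43013 = N29512 := ded_37_2 (flp_d L250193) (flp_j L250191) L363736
theorem L363745 : sm gh N43013 = N29902 := ded_38_2 (flp_d L253527) (flp_h L174574) (flp_d L172313) L250184 L363736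
theorem L363747 : sm gi N29511 = N43014 := rfl
theorem L363749 : sm ga N43014 = N29559 := ded_18_1 (flp_i L250550) (flp_a L250186) L363747
theorem L363751 : sm gb N43014 = N43014 := ded_26_1 (flp_i L363747) L250188 L363747
theorem L363752 : sm gf N43014 = N29515 := ded_48_1 (flp_i L250224) (flp_f L250189) L363747
theorem L363754 : sm gj N43014 = N29513 := ded_53_1 (flp_i L250204) (flp_j L250191) L363747
theorem L363756 : sm gc N29512 = N43015 := rfl
theorem L363758 : sm ga N43015 = N29560 := ded_11_1 (flp_c L250558) (flp_a L250195) L363756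
theorem L363760 : sm gf N43015 = N29516 := ded_29_2 (flp_c L250234) (flp_f L250198) L363756
theorem L363762 : sm gg N43015 = N31363 := ded_30_2 (flp_c L265859) (flp_g L250200) L363756
theorem L363764 : sm gh N43015 = N29904 := ded_32_2 (flp_c L253546) (flp_h L250202) L363756
theorem L363766 : sm ge N29512 = N43016 := rfl
theorem L363768 : sm ga N43016 = N29561 := ded_13_1 (flp_e L250566) (flp_a L250195) L363766
theorem L363770 : sm gb N43016 = N43016 := ded_21_1 (flp_e L363766) L250197 L363766
theorem L363771 : sm gg N43016 = N31364 := ded_41_2 (flp_e L265867) (flp_g L250200) L363766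
theorem L363773 : sm gh N43016 = N29905 := ded_43_2 (flp_e L253554) (flp_h L250202) L363766
theorem L363775 : sm gf N43016 = N43016 := ded_40_2 (flp_e L363766) L250198 L172343 (flp_f L250198) L363766
theorem L363776 : sm gi N29512 = N43017 := rfl
theorem L363778 : sm ga N43017 = N29562 := ded_18_1 (flp_i L250575) (flp_a L250195) L363776
theorem L363780 : sm gb N43017 = N43017 := ded_26_1 (flp_i L363776) L250197 L363776
theorem L363781 : sm gd N43017 = N29513 := ded_39_1 (flp_i L250204) L250193 L363776
theorem L363783 : sm gf N43017 = N29517 := ded_48_1 (flp_i L250243) (flp_f L250198) L363776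
theorem L363785 : sm gg N43017 = N31365 := ded_51_1 (flp_i L265876) (flp_g L250200) L363776
theorem L363787 : sm gc N29514 = N43018 := rfl
theorem L363789 : sm ga N43018 = N29563 := ded_11_1 (flp_c L250585) (flp_a L250215) L363787
theorem L363791 : sm ge N43018 = N43018 := ded_28_2 (flp_c L363787) L250221 L363787
theorem L363792 : sm gg N43018 = N43018 := ded_30_2 (flp_c L363787) L250218 L363787
theorem L363793 : sm gj N43018 = N29516 := ded_31_2 (flp_c L250234) (flp_j L250219) L363787
theorem L363795 : sm gh N43018 = N29907 := ded_32_2 (flp_c L253574) (flp_h L250222) L363787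
theorem L363797 : sm gi N29514 = N43019 := rfl
theorem L363799 : sm ga N43019 = N29564 := ded_18_1 (flp_i L250593) (flp_a L250215) L363797
theorem L363801 : sm gb N43019 = N43019 := ded_26_1 (flp_i L363797) L250217 L363797
theorem L363802 : sm gd N43019 = N29515 := ded_39_1 (flp_i L250224) L250213 L363797
theorem L363804 : sm ge N43019 = N43019 := ded_44_1 (flp_i L363797) L250221 L363797
theorem L363805 : sm gg N43019 = N43019 := ded_51_1 (flp_i L363797) L250218 L363797
theorem L363806 : sm gj N43019 = N29517 := ded_53_1 (flp_i L250243) (flp_j L250219) L363797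
theorem L363808 : sm gb N29516 = N43020 := rfl
theorem L363810 : sm ge N43020 = N43020 := ded_21_2 (flp_b L363808) L250238 L363808
theorem L363811 : sm gg N43020 = N29518 := ded_23_2 (flp_b L250253) (flp_g L250239) L363808
theorem L363813 : sm gh N43020 = N29909 := ded_25_2 (flp_b L253593) (flp_h L250241) L363808
theorem L363815 : sm gc N43020 = N43020 := ded_19_2 (flp_b L363808) (flp_c L250234) L172340 L250234 L363808
theorem L363816 : sm gi N29516 = N43021 := rfl
theorem L363818 : sm ga N43021 = N29566 := ded_18_1 (flp_i L250612) (flp_a L250236) L363816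
theorem L363820 : sm gc N43021 = N29517 := ded_33_1 (flp_i L250243) L250234 L363816
theorem L363822 : sm ge N43021 = N43021 := ded_44_1 (flp_i L363816) L250238 L363816
theorem L363823 : sm gg N43021 = N29519 := ded_51_1 (flp_i L250262) (flp_g L250239) L363816
theorem L363825 : sm gh N29517 = N43022 := rfl
theorem L363827 : sm ga N43022 = N29567 := ded_17_1 (flp_h L250619) (flp_a L250245) L363825
theorem L363835 : sm ga N29518 = N43023 := rfl
theorem L363837 : sm gc N43023 = N43023 := ded_11_2 (flp_a L363835) L250261 L363835
theorem L363838 : sm ge N43023 = N43023 := ded_13_2 (flp_a L363835) L250255 L363835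
theorem L363839 : sm gf N43023 = N31371 := ded_14_2 (flp_a L265938) (flp_f L250256) L363835
theorem L363841 : sm gj N43023 = N43023 := ded_16_2 (flp_a L363835) L250258 L363835
theorem L363842 : sm gh N43023 = N29912 := ded_17_2 (flp_a L253616) (flp_h L250259) L363835
theorem L363844 : sm gb N43023 = N29568 := ded_10_2 (flp_a L250628) (flp_b L172615) (flp_a L172357) L250253 L363835
theorem L363846 : sm gi N29518 = N43024 := rfl
theorem L363848 : sm gb N43024 = N29519 := ded_26_1 (flp_i L250262) L250253 L363846
theorem L363850 : sm gc N43024 = N43024 := ded_33_1 (flp_i L363846) L250261 L363846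
theorem L363851 : sm ge N43024 = N43024 := ded_44_1 (flp_i L363846) L250255 L363846
theorem L363852 : sm gf N43024 = N31372 := ded_48_1 (flp_i L265948) (flp_f L250256) L363846
theorem L363854 : sm gj N43024 = N43024 := ded_53_1 (flp_i L363846) L250258 L363846
theorem L363855 : sm gh N29519 = N43025 := rfl
theorem L363857 : sm ga N43025 = N29570 := ded_17_1 (flp_h L250648) (flp_a L250264) L363855
theorem L363865 : sm gi N43025 = N29914 := ded_54_2 (flp_h L253634) (flp_i L174646) (flp_h L172363) L250262 L363855
theorem L363867 : sm gj N29521 = N43026 := rfl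
theorem L363869 : sm gc N43026 = N29915 := ded_31_1 (flp_j L253644) (flp_c L250285) L363867
theorem L363871 : sm ge N43026 = N29522 := ded_42_1 (flp_j L250290) L250283 L363867
theorem L363873 : sm gf N43026 = N43026 := ded_46_1 (flp_j L363867) L250289 L363867
theorem L363874 : sm gh N29521 = N43027 := rfl
theorem L363876 : sm gc N43027 = N29916 := ded_32_1 (flp_h L253651) (flp_c L250285) L363874
theorem L363878 : sm ge N43027 = N29523 := ded_43_1 (flp_h L250298) L250283 L363874
theorem L363880 : sm gf N43027 = N43027 := ded_47_1 (flp_h L363874) L250289 L363874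
theorem L363881 : sm gg N43027 = N31375 := ded_50_1 (flp_h L265975) (flp_g L250287) L363874
theorem L363883 : sm gg N29522 = N43028 := rfl
theorem L363885 : sm gc N43028 = N29917 := ded_30_1 (flp_g L253659) (flp_c L250292) L363883
theorem L363887 : sm gd N43028 = N29530 := ded_36_1 (flp_g L250349) (flp_d L250294) L363883
theorem L363889 : sm gf N43028 = N43028 := ded_45_1 (flp_g L363883) L250296 L172400 (flp_f L250296) L363883
theorem L363890 : sm gj N43028 = N31376 := ded_49_2 (flp_g L265983) (flp_j L182959) (flp_g L172391) L250290 L363883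
theorem L363892 : sm gh N29522 = N43029 := rfl
theorem L363894 : sm gc N43029 = N29918 := ded_32_1 (flp_h L253667) (flp_c L250292) L363892
theorem L363896 : sm gf N43029 = N29524 := ded_47_1 (flp_h L250306) (flp_f L250296) L363892
theorem L363898 : sm gj N43029 = N29523 := ded_52_1 (flp_h L250298) L250290 L363892
theorem L363900 : sm gd N29523 = N43030 := rfl
theorem L363902 : sm gf N43030 = N29525 := ded_35_2 (flp_d L250314) (flp_f L250302) L363900
theorem L363904 : sm gg N43030 = N31378 := ded_36_2 (flp_d L265998) (flp_g L250304) L363900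
theorem L363906 : sm gh N43030 = N29532 := ded_38_2 (flp_d L250364) (flp_h L172429) (flp_d L172389) L250298 L363900
theorem L363908 : sm gi N29523 = N43031 := rfl
theorem L363910 : sm gc N43031 = N29920 := ded_33_1 (flp_i L253683) (flp_c L250300) L363908
theorem L363912 : sm gf N43031 = N29526 := ded_48_1 (flp_i L250320) (flp_f L250302) L363908
theorem L363914 : sm gg N43031 = N31379 := ded_51_1 (flp_i L266004) (flp_g L250304) L363908
theorem L363916 : sm gd N29524 = N43032 := rfl
theorem L363918 : sm gg N43032 = N43032 := ded_36_2 (flp_d L363916) L250311 L363916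
theorem L363919 : sm gj N43032 = N29525 := ded_37_2 (flp_d L250314) (flp_j L250312) L363916
theorem L363921 : sm gh N43032 = N29534 := ded_38_2 (flp_d L250378) (flp_h L172437) (flp_d L172397) L250306 L363916
theorem L363923 : sm gi N29524 = N43033 := rfl
theorem L363925 : sm gc N43033 = N29922 := ded_33_1 (flp_i L253698) (flp_c L250308) L363923
theorem L363927 : sm ge N43033 = N43033 := ded_44_1 (flp_i L363923) L250310 L363923
theorem L363928 : sm gg N43033 = N43033 := ded_51_1 (flp_i L363923) L250311 L363923
theorem L363929 : sm gj N43033 = N29526 := ded_53_1 (flp_i L250320) (flp_j L250312) L363923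
theorem L363931 : sm gc N29525 = N43034 := rfl
theorem L363933 : sm gg N43034 = N29527 := ded_30_2 (flp_c L250327) (flp_g L250316) L363931
theorem L363935 : sm gh N43034 = N29536 := ded_32_2 (flp_c L250392) (flp_h L250318) L363931
theorem L363937 : sm gd N43034 = N29923 := ded_27_2 (flp_c L253705) (flp_d L174693) (flp_c L172403) L250314 L363931
theorem L363939 : sm ge N29525 = N43035 := rfl
theorem L363941 : sm gg N43035 = N29528 := ded_41_2 (flp_e L250336) (flp_g L250316) L363939
theorem L363943 : sm gh N43035 = N29537 := ded_43_2 (flp_e L250398) (flp_h L250318) L363939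
theorem L363945 : sm gd N43035 = N43035 := ded_34_1 (flp_e L363939) (flp_d L250314) L172405 L250314 L363939
theorem L363946 : sm gi N29525 = N43036 := rfl
theorem L363948 : sm gd N43036 = N29526 := ded_39_1 (flp_i L250320) L250314 L363946
theorem L363950 : sm gg N43036 = N29529 := ded_51_1 (flp_i L250342) (flp_g L250316) L363946
theorem L363952 : sm gb N29527 = N43037 := rfl
theorem L363954 : sm gd N43037 = N29926 := ded_20_2 (flp_b L253726) (flp_d L250334) L363952
theorem L363956 : sm gf N43037 = N31385 := ded_22_2 (flp_b L266048) (flp_f L250329) L363952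
theorem L363958 : sm gj N43037 = N43037 := ded_24_2 (flp_b L363952) L250331 L363952
theorem L363959 : sm gh N43037 = N29539 := ded_25_2 (flp_b L250410) (flp_h L250332) L363952
theorem L363961 : sm ge N29527 = N43038 := rfl
theorem L363963 : sm gc N43038 = N29528 := ded_28_1 (flp_e L250336) L250327 L363961
theorem L363965 : sm gj N43038 = N43038 := ded_42_2 (flp_e L363961) L250331 L363961
theorem L363966 : sm gh N43038 = N29540 := ded_43_2 (flp_e L250417) (flp_h L250332) L363961
theorem L363968 : sm gi N29527 = N43039 := rfl
theorem L363970 : sm gc N43039 = N29529 := ded_33_1 (flp_i L250342) L250327 L363968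
theorem L363972 : sm gd N43039 = N29928 := ded_39_1 (flp_i L253742) (flp_d L250334) L363968
theorem L363974 : sm gf N43039 = N31387 := ded_48_1 (flp_i L266063) (flp_f L250329) L363968
theorem L363976 : sm gj N43039 = N43039 := ded_53_1 (flp_i L363968) L250331 L363968
theorem L363977 : sm gf N29528 = N43040 := rfl
theorem L363979 : sm gd N43040 = N43040 := ded_35_1 (flp_f L363977) L250341 L363977
theorem L363980 : sm gj N43040 = N43040 := ded_46_2 (flp_f L363977) L250338 L363977
theorem L363981 : sm gh N43040 = N29542 := ded_47_2 (flp_f L250432) (flp_h L250339) L363977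
theorem L363983 : sm ge N43040 = N31388 := ded_40_1 (flp_f L266070) (flp_e L183003) (flp_f L172410) L250336 L363977
theorem L363985 : sm gi N29528 = N43041 := rfl
theorem L363987 : sm gd N43041 = N43041 := ded_39_1 (flp_i L363985) L250341 L363985
theorem L363988 : sm ge N43041 = N29529 := ded_44_1 (flp_i L250342) L250336 L363985
theorem L363990 : sm gj N43041 = N43041 := ded_53_1 (flp_i L363985) L250338 L363985
theorem L363991 : sm gh N29529 = N43042 := rfl
theorem L363993 : sm gf N43042 = N31390 := ded_47_1 (flp_h L266084) (flp_f L250346) L363991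
theorem L363995 : sm gj N43042 = N43042 := ded_52_1 (flp_h L363991) L250348 L363991
theorem L363996 : sm gi N43042 = N29544 := ded_54_2 (flp_h L250446) (flp_i L172470) (flp_h L172413) L250342 L363991
theorem L363998 : sm gh N29530 = N43043 := rfl
theorem L364000 : sm gc N43043 = N29557 := ded_32_1 (flp_h L250531) (flp_c L250351) L363998
theorem L364002 : sm gf N43043 = N43043 := ded_47_1 (flp_h L363998) L250353 L363998
theorem L364003 : sm gg N43043 = N29531 := ded_50_1 (flp_h L250356) L250349 L363998
theorem L364005 : sm gj N43043 = N31391 := ded_52_1 (flp_h L266089) (flp_j L250354) L363998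
theorem L364007 : sm gd N29531 = N43044 := rfl
theorem L364009 : sm gf N43044 = N29534 := ded_35_2 (flp_d L250378) (flp_f L250360) L364007
theorem L364011 : sm gj N43044 = N29532 := ded_37_2 (flp_d L250364) (flp_j L250362) L364007
theorem L364013 : sm gi N29531 = N43045 := rfl
theorem L364015 : sm gc N43045 = N29559 := ded_33_1 (flp_i L250550) (flp_c L250358) L364013
theorem L364017 : sm gf N43045 = N29535 := ded_48_1 (flp_i L250383) (flp_f L250360) L364013
theorem L364019 : sm gj N43045 = N29533 := ded_53_1 (flp_i L250370) (flp_j L250362) L364013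
theorem L364021 : sm gc N29532 = N43046 := rfl
theorem L364023 : sm gf N43046 = N29536 := ded_29_2 (flp_c L250392) (flp_f L250366) L364021
theorem L364025 : sm gg N43046 = N31394 := ded_30_2 (flp_c L266110) (flp_g L250368) L364021
theorem L364027 : sm gd N43046 = N29560 := ded_27_2 (flp_c L250558) (flp_d L172562) (flp_c L172431) L250364 L364021
theorem L364029 : sm ge N29532 = N43047 := rfl
theorem L364031 : sm gg N43047 = N31395 := ded_41_2 (flp_e L266116) (flp_g L250368) L364029
theorem L364033 : sm gi N29532 = N43048 := rfl
theorem L364035 : sm gd N43048 = N29533 := ded_39_1 (flp_i L250370) L250364 L364033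
theorem L364037 : sm gf N43048 = N29538 := ded_48_1 (flp_i L250404) (flp_f L250366) L364033
theorem L364039 : sm gg N43048 = N31396 := ded_51_1 (flp_i L266118) (flp_g L250368) L364033
theorem L364041 : sm gc N29534 = N43049 := rfl
theorem L364043 : sm gg N43049 = N43049 := ded_30_2 (flp_c L364041) L250380 L364041
theorem L364044 : sm gj N43049 = N29536 := ded_31_2 (flp_c L250392) (flp_j L250381) L364041
theorem L364046 : sm gd N43049 = N29563 := ded_27_2 (flp_c L250585) (flp_d L172580) (flp_c L172439) L250378 L364041
theorem L364048 : sm ge N29534 = N43050 := rfl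
theorem L364050 : sm gg N43050 = N43050 := ded_41_2 (flp_e L364048) L250380 L364048
theorem L364051 : sm gj N43050 = N29537 := ded_42_2 (flp_e L250398) (flp_j L250381) L364048
theorem L364053 : sm gd N43050 = N29545 := ded_34_1 (flp_e L250451) (flp_d L172477) (flp_e L172441) L250378 L364048
theorem L364055 : sm gi N29534 = N43051 := rfl
theorem L364057 : sm gd N43051 = N29535 := ded_39_1 (flp_i L250383) L250378 L364055
theorem L364059 : sm gg N43051 = N43051 := ded_51_1 (flp_i L364055) L250380 L364055
theorem L364060 : sm gj N43051 = N29538 := ded_53_1 (flp_i L250404) (flp_j L250381) L364055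
theorem L364062 : sm gb N29536 = N43052 := rfl
theorem L364064 : sm gd N43052 = N29565 := ded_20_2 (flp_b L250603) (flp_d L250396) L364062
theorem L364066 : sm gg N43052 = N29539 := ded_23_2 (flp_b L250410) (flp_g L250394) L364062
theorem L364068 : sm ge N29536 = N43053 := rfl
theorem L364070 : sm gc N43053 = N29537 := ded_28_1 (flp_e L250398) L250392 L364068
theorem L364072 : sm gg N43053 = N29540 := ded_41_2 (flp_e L250417) (flp_g L250394) L364068
theorem L364074 : sm gd N43053 = N43053 := ded_34_1 (flp_e L364068) L250396 L172601 (flp_d L250396) L364068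
theorem L364075 : sm gi N29536 = N43054 := rfl
theorem L364077 : sm gc N43054 = N29538 := ded_33_1 (flp_i L250404) L250392 L364075
theorem L364079 : sm gd N43054 = N29566 := ded_39_1 (flp_i L250612) (flp_d L250396) L364075
theorem L364081 : sm gg N43054 = N29541 := ded_51_1 (flp_i L250423) (flp_g L250394) L364075
theorem L364083 : sm gf N29537 = N43055 := rfl
theorem L364085 : sm gd N43055 = N29547 := ded_35_1 (flp_f L250466) (flp_d L250402) L364083
theorem L364087 : sm gi N29537 = N43056 := rfl
theorem L364089 : sm gd N43056 = N29548 := ded_39_1 (flp_i L250470) (flp_d L250402) L364087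
theorem L364091 : sm ge N43056 = N29538 := ded_44_1 (flp_i L250404) L250398 L364087
theorem L364093 : sm gg N43056 = N29543 := ded_51_1 (flp_i L250439) (flp_g L250400) L364087
theorem L364095 : sm gh N29538 = N43057 := rfl
theorem L364097 : sm gg N43057 = N29544 := ded_50_1 (flp_h L250446) (flp_g L250408) L364095
theorem L364099 : sm ga N29539 = N43058 := rfl
theorem L364101 : sm gd N43058 = N29568 := ded_12_2 (flp_a L250628) (flp_d L250412) L364099
theorem L364103 : sm gf N43058 = N31406 := ded_14_2 (flp_a L266183) (flp_f L250414) L364099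
theorem L364105 : sm gj N43058 = N43058 := ded_16_2 (flp_a L364099) L250416 L364099
theorem L364106 : sm ge N29539 = N43059 := rfl
theorem L364108 : sm gb N43059 = N29540 := ded_21_1 (flp_e L250417) L250410 L364106
theorem L364110 : sm gj N43059 = N43059 := ded_42_2 (flp_e L364106) L250416 L364106
theorem L364111 : sm gd N43059 = N43059 := ded_34_1 (flp_e L364106) L250412 L172617 (flp_d L250412) L364106
theorem L364112 : sm gi N29539 = N43060 := rfl
theorem L364114 : sm gb N43060 = N29541 := ded_26_1 (flp_i L250423) L250410 L364112
theorem L364116 : sm gd N43060 = N29569 := ded_39_1 (flp_i L250638) (flp_d L250412) L364112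
theorem L364118 : sm gf N43060 = N31408 := ded_48_1 (flp_i L266195) (flp_f L250414) L364112
theorem L364120 : sm gj N43060 = N43060 := ded_53_1 (flp_i L364112) L250416 L364112
theorem L364121 : sm gf N29540 = N43061 := rfl
theorem L364123 : sm gc N43061 = N29542 := ded_29_1 (flp_f L250432) (flp_c L250419) L364121
theorem L364125 : sm gd N43061 = N43061 := ded_35_1 (flp_f L364121) L250422 L364121
theorem L364126 : sm gj N43061 = N43061 := ded_46_2 (flp_f L364121) L250421 L364121
theorem L364127 : sm ge N43061 = N31409 := ded_40_1 (flp_f L266202) (flp_e L183075) (flp_f L172460) L250417 L364121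
theorem L364129 : sm gi N29540 = N43062 := rfl
theorem L364131 : sm gc N43062 = N29543 := ded_33_1 (flp_i L250439) (flp_c L250419) L364129
theorem L364133 : sm gd N43062 = N43062 := ded_39_1 (flp_i L364129) L250422 L364129
theorem L364134 : sm ge N43062 = N29541 := ded_44_1 (flp_i L250423) L250417 L364129
theorem L364136 : sm gj N43062 = N43062 := ded_53_1 (flp_i L364129) L250421 L364129
theorem L364137 : sm gh N29541 = N43063 := rfl
theorem L364139 : sm gc N43063 = N29544 := ded_32_1 (flp_h L250446) (flp_c L250425) L364137
theorem L364141 : sm gf N43063 = N31411 := ded_47_1 (flp_h L266218) (flp_f L250429) L364137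
theorem L364143 : sm gj N43063 = N43063 := ded_52_1 (flp_h L364137) L250431 L364137
theorem L364144 : sm gg N29542 = N43064 := rfl
theorem L364146 : sm gd N43064 = N29550 := ded_36_1 (flp_g L250483) (flp_d L250434) L364144
theorem L364148 : sm ge N43064 = N31412 := ded_41_1 (flp_g L266223) (flp_e L250437) L364144
theorem L364150 : sm gi N29542 = N43065 := rfl
theorem L364152 : sm gd N43065 = N29551 := ded_39_1 (flp_i L250489) (flp_d L250434) L364150
theorem L364154 : sm ge N43065 = N31413 := ded_44_1 (flp_i L266227) (flp_e L250437) L364150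
theorem L364156 : sm gf N43065 = N29543 := ded_48_1 (flp_i L250439) L250432 L364150
theorem L364158 : sm gj N43065 = N43065 := ded_53_1 (flp_i L364150) L250436 L364150
theorem L364159 : sm gh N29543 = N43066 := rfl
theorem L364161 : sm ge N43066 = N29544 := ded_43_1 (flp_h L250446) (flp_e L250443) L364159
theorem L364163 : sm gj N43066 = N43066 := ded_52_1 (flp_h L364159) L250445 L364159
theorem L364164 : sm gf N29545 = N43067 := rfl
theorem L364166 : sm gc N43067 = N43067 := ded_29_1 (flp_f L364164) L250453 L364164
theorem L364167 : sm gj N43067 = N29547 := ded_46_2 (flp_f L250466) (flp_j L250455) L364164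
theorem L364169 : sm gh N43067 = N43067 := ded_47_2 (flp_f L364164) L250457 L364164
theorem L364170 : sm gi N29545 = N43068 := rfl
theorem L364172 : sm gc N43068 = N43068 := ded_33_1 (flp_i L364170) L250453 L364170
theorem L364173 : sm ge N43068 = N29546 := ded_44_1 (flp_i L250458) L250451 L364170
theorem L364175 : sm gg N43068 = N43068 := ded_51_1 (flp_i L364170) L250454 L364170
theorem L364176 : sm gj N43068 = N29548 := ded_53_1 (flp_i L250470) (flp_j L250455) L364170
theorem L364178 : sm gh N29546 = N43069 := rfl
theorem L364180 : sm gc N43069 = N43069 := ded_32_1 (flp_h L364178) L250460 L364178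
theorem L364181 : sm gg N43069 = N43069 := ded_50_1 (flp_h L364178) L250463 L364178
theorem L364182 : sm gj N43069 = N29549 := ded_52_1 (flp_h L250477) (flp_j L250464) L364178
theorem L364184 : sm gi N43069 = N43069 := ded_54_2 (flp_h L364178) (flp_i L250458) L172483 L250458 L364178
theorem L364185 : sm gg N29547 = N43070 := rfl
theorem L364187 : sm gc N43070 = N43070 := ded_30_1 (flp_g L364185) L250468 L364185
theorem L364188 : sm gh N43070 = N43070 := ded_50_2 (flp_g L364185) L250469 L364185
theorem L364189 : sm gf N43070 = N29550 := ded_45_1 (flp_g L250483) (flp_f L172504) (flp_g L172494) L250466 L364185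
theorem L364191 : sm gi N29547 = N43071 := rfl
theorem L364193 : sm gc N43071 = N43071 := ded_33_1 (flp_i L364191) L250468 L364191
theorem L364194 : sm gf N43071 = N29548 := ded_48_1 (flp_i L250470) L250466 L364191
theorem L364196 : sm gh N29548 = N43072 := rfl
theorem L364198 : sm gc N43072 = N43072 := ded_32_1 (flp_h L364196) L250472 L364196
theorem L364199 : sm ge N43072 = N29549 := ded_43_1 (flp_h L250477) (flp_e L250473) L364196
theorem L364201 : sm gg N43072 = N29552 := ded_50_1 (flp_h L250497) (flp_g L250475) L364196
theorem L364203 : sm gi N43072 = N43072 := ded_54_2 (flp_h L364196) (flp_i L250470) L172496 L250470 L364196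
theorem L364204 : sm gj N29550 = N43073 := rfl
theorem L364206 : sm gc N43073 = N43073 := ded_31_1 (flp_j L364204) L250485 L364204
theorem L364207 : sm ge N43073 = N29553 := ded_42_1 (flp_j L250504) (flp_e L250486) L364204
theorem L364209 : sm gh N43073 = N43073 := ded_52_2 (flp_j L364204) L250488 L364204
theorem L364210 : sm gg N43073 = N43073 := ded_49_1 (flp_j L364204) (flp_g L250483) L172507 L250483 L364204
theorem L364211 : sm gi N29550 = N43074 := rfl
theorem L364213 : sm gc N43074 = N43074 := ded_33_1 (flp_i L364211) L250485 L364211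
theorem L364214 : sm ge N43074 = N29554 := ded_44_1 (flp_i L250511) (flp_e L250486) L364211
theorem L364216 : sm gg N43074 = N29551 := ded_51_1 (flp_i L250489) L250483 L364211
theorem L364218 : sm gh N29551 = N43075 := rfl
theorem L364220 : sm gc N43075 = N43075 := ded_32_1 (flp_h L364218) L250491 L364218
theorem L364221 : sm ge N43075 = N29555 := ded_43_1 (flp_h L250518) (flp_e L250492) L364218
theorem L364223 : sm gf N43075 = N29552 := ded_47_1 (flp_h L250497) (flp_f L250494) L364218
theorem L364225 : sm gj N43075 = N43075 := ded_52_1 (flp_h L364218) L250496 L364218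
theorem L364226 : sm gi N43075 = N43075 := ded_54_2 (flp_h L364218) (flp_i L250489) L172508 L250489 L364218
theorem L364227 : sm gd N29552 = N43076 := rfl
theorem L364229 : sm gj N43076 = N43076 := ded_37_2 (flp_d L364227) L250502 L364227
theorem L364230 : sm gi N43076 = N43076 := ded_39_2 (flp_d L364227) L250503 L364227
theorem L364231 : sm gi N29553 = N43077 := rfl
theorem L364233 : sm gc N43077 = N43077 := ded_33_1 (flp_i L364231) L250506 L364231
theorem L364234 : sm gd N43077 = N31425 := ded_39_1 (flp_i L266322) (flp_d L250507) L364231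
theorem L364236 : sm gg N43077 = N43077 := ded_51_1 (flp_i L364231) L250510 L364231
theorem L364237 : sm gj N43077 = N29554 := ded_53_1 (flp_i L250511) L250504 L364231
theorem L364239 : sm gh N29554 = N43078 := rfl
theorem L364241 : sm gc N43078 = N43078 := ded_32_1 (flp_h L364239) L250513 L364239
theorem L364242 : sm gg N43078 = N29555 := ded_50_1 (flp_h L250518) (flp_g L250516) L364239
theorem L364244 : sm gi N43078 = N43078 := ded_54_2 (flp_h L364239) (flp_i L250511) L172529 L250511 L364239
theorem L364245 : sm gd N29555 = N43079 := rfl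
theorem L364247 : sm gf N43079 = N29556 := ded_35_2 (flp_d L250525) (flp_f L250521) L364245
theorem L364251 : sm gh N43079 = N31427 := ded_38_2 (flp_d L266337) (flp_h L183183) (flp_d L172533) L250518 L364245
theorem L364260 : sm gd N29557 = N43081 := rfl
theorem L364262 : sm gb N43081 = N29571 := ded_20_1 (flp_d L250658) (flp_b L250533) L364260
theorem L364264 : sm gf N43081 = N43081 := ded_35_2 (flp_d L364260) L250535 L364260
theorem L364265 : sm gg N43081 = N29558 := ded_36_2 (flp_d L250540) (flp_g L250536) L364260
theorem L364267 : sm gj N43081 = N31429 := ded_37_2 (flp_d L266351) (flp_j L250538) L364260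
theorem L364269 : sm gh N43081 = N29958 := ded_38_2 (flp_d L253979) (flp_h L174890) (flp_d L172549) L250531 L364260
theorem L364271 : sm gi N29557 = N43082 := rfl
theorem L364273 : sm gb N43082 = N29572 := ded_26_1 (flp_i L250668) (flp_b L250533) L364271
theorem L364275 : sm gf N43082 = N43082 := ded_48_1 (flp_i L364271) L250535 L364271
theorem L364276 : sm gg N43082 = N29559 := ded_51_1 (flp_i L250550) (flp_g L250536) L364271
theorem L364278 : sm gj N43082 = N31430 := ded_53_1 (flp_i L266360) (flp_j L250538) L364271
theorem L364280 : sm gc N29558 = N43083 := rfl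
theorem L364282 : sm gf N43083 = N29563 := ded_29_2 (flp_c L250585) (flp_f L250544) L364280
theorem L364284 : sm gj N43083 = N29560 := ded_31_2 (flp_c L250558) (flp_j L250546) L364280
theorem L364286 : sm gh N43083 = N29960 := ded_32_2 (flp_c L253998) (flp_h L250548) L364280
theorem L364288 : sm ge N29558 = N43084 := rfl
theorem L364290 : sm gb N43084 = N29574 := ded_21_1 (flp_e L250685) (flp_b L250542) L364288
theorem L364292 : sm gj N43084 = N29561 := ded_42_2 (flp_e L250566) (flp_j L250546) L364288
theorem L364294 : sm gh N43084 = N29961 := ded_43_2 (flp_e L254004) (flp_h L250548) L364288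
theorem L364296 : sm gf N43084 = N43084 := ded_40_2 (flp_e L364288) L250544 L172587 (flp_f L250544) L364288
theorem L364297 : sm gi N29558 = N43085 := rfl
theorem L364299 : sm gb N43085 = N29575 := ded_26_1 (flp_i L250693) (flp_b L250542) L364297
theorem L364301 : sm gd N43085 = N29559 := ded_39_1 (flp_i L250550) L250540 L364297
theorem L364303 : sm gf N43085 = N29564 := ded_48_1 (flp_i L250593) (flp_f L250544) L364297
theorem L364305 : sm gj N43085 = N29562 := ded_53_1 (flp_i L250575) (flp_j L250546) L364297
theorem L364307 : sm gb N29560 = N43086 := rfl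
theorem L364309 : sm gf N43086 = N29565 := ded_22_2 (flp_b L250603) (flp_f L250560) L364307
theorem L364311 : sm gg N43086 = N31434 := ded_23_2 (flp_b L266395) (flp_g L250562) L364307
theorem L364313 : sm gh N43086 = N29963 := ded_25_2 (flp_b L254022) (flp_h L250564) L364307
theorem L364315 : sm gc N43086 = N29576 := ded_19_2 (flp_b L250702) (flp_c L172667) (flp_b L172564) L250558 L364307
theorem L364317 : sm ge N29560 = N43087 := rfl
theorem L364319 : sm gc N43087 = N29561 := ded_28_1 (flp_e L250566) L250558 L364317
theorem L364321 : sm gg N43087 = N31435 := ded_41_2 (flp_e L266403) (flp_g L250562) L364317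
theorem L364323 : sm gh N43087 = N29964 := ded_43_2 (flp_e L254030) (flp_h L250564) L364317
theorem L364325 : sm gf N43087 = N43087 := ded_40_2 (flp_e L364317) L250560 L172601 (flp_f L250560) L364317
theorem L364326 : sm gi N29560 = N43088 := rfl
theorem L364328 : sm gc N43088 = N29562 := ded_33_1 (flp_i L250575) L250558 L364326
theorem L364330 : sm gf N43088 = N29566 := ded_48_1 (flp_i L250612) (flp_f L250560) L364326
theorem L364332 : sm gg N43088 = N31436 := ded_51_1 (flp_i L266411) (flp_g L250562) L364326
theorem L364334 : sm gi N29561 = N43089 := rfl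
theorem L364336 : sm gb N43089 = N29579 := ded_26_1 (flp_i L250729) (flp_b L250568) L364334
theorem L364338 : sm ge N43089 = N29562 := ded_44_1 (flp_i L250575) L250566 L364334
theorem L364340 : sm gf N43089 = N43089 := ded_48_1 (flp_i L364334) L250574 L364334
theorem L364341 : sm gg N43089 = N31437 := ded_51_1 (flp_i L266417) (flp_g L250570) L364334
theorem L364343 : sm gh N29562 = N43090 := rfl
theorem L364345 : sm gb N43090 = N29580 := ded_25_1 (flp_h L250737) (flp_b L250577) L364343
theorem L364347 : sm gf N43090 = N29567 := ded_47_1 (flp_h L250619) (flp_f L250581) L364343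
theorem L364349 : sm gg N43090 = N31438 := ded_50_1 (flp_h L266425) (flp_g L250583) L364343
theorem L364351 : sm gi N43090 = N29967 := ded_54_2 (flp_h L254055) (flp_i L174931) (flp_h L172570) L250575 L364343
theorem L364353 : sm gb N29563 = N43091 := rfl
theorem L364355 : sm ge N43091 = N43091 := ded_21_2 (flp_b L364353) L250587 L364353
theorem L364356 : sm gg N43091 = N43091 := ded_23_2 (flp_b L364353) L250588 L364353
theorem L364357 : sm gj N43091 = N29565 := ded_24_2 (flp_b L250603) (flp_j L250589) L364353
theorem L364359 : sm gh N43091 = N29968 := ded_25_2 (flp_b L254063) (flp_h L250591) L364353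
theorem L364361 : sm gc N43091 = N29581 := ded_19_2 (flp_b L250746) (flp_c L172693) (flp_b L172582) L250585 L364353
theorem L364363 : sm gi N29563 = N43092 := rfl
theorem L364365 : sm gc N43092 = N29564 := ded_33_1 (flp_i L250593) L250585 L364363
theorem L364367 : sm ge N43092 = N43092 := ded_44_1 (flp_i L364363) L250587 L364363
theorem L364368 : sm gg N43092 = N43092 := ded_51_1 (flp_i L364363) L250588 L364363
theorem L364369 : sm gj N43092 = N29566 := ded_53_1 (flp_i L250612) (flp_j L250589) L364363
theorem L364371 : sm gh N29564 = N43093 := rfl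
theorem L364373 : sm gb N43093 = N29583 := ded_25_1 (flp_h L250763) (flp_b L250595) L364371
theorem L364375 : sm ge N43093 = N43093 := ded_43_1 (flp_h L364371) L250599 L364371
theorem L364376 : sm gg N43093 = N43093 := ded_50_1 (flp_h L364371) L250600 L364371
theorem L364377 : sm gj N43093 = N29567 := ded_52_1 (flp_h L250619) (flp_j L250601) L364371
theorem L364379 : sm gi N43093 = N29970 := ded_54_2 (flp_h L254079) (flp_i L174947) (flp_h L172588) L250593 L364371
theorem L364381 : sm ga N29565 = N43094 := rfl
theorem L364383 : sm gc N43094 = N29584 := ded_11_2 (flp_a L250772) (flp_c L250610) L364381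
theorem L364385 : sm ge N43094 = N43094 := ded_13_2 (flp_a L364381) L250605 L364381
theorem L364386 : sm gg N43094 = N29568 := ded_15_2 (flp_a L250628) (flp_g L250606) L364381
theorem L364388 : sm gh N43094 = N29971 := ded_17_2 (flp_a L254087) (flp_h L250608) L364381
theorem L364390 : sm gi N29565 = N43095 := rfl
theorem L364392 : sm gb N43095 = N29566 := ded_26_1 (flp_i L250612) L250603 L364390
theorem L364394 : sm gc N43095 = N29585 := ded_33_1 (flp_i L250780) (flp_c L250610) L364390
theorem L364396 : sm ge N43095 = N43095 := ded_44_1 (flp_i L364390) L250605 L364390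
theorem L364397 : sm gg N43095 = N29569 := ded_51_1 (flp_i L250638) (flp_g L250606) L364390
theorem L364399 : sm gh N29566 = N43096 := rfl
theorem L364401 : sm gc N43096 = N29567 := ded_32_1 (flp_h L250619) (flp_c L250614) L364399
theorem L364403 : sm ge N43096 = N43096 := ded_43_1 (flp_h L364399) L250616 L364399
theorem L364404 : sm gg N43096 = N29570 := ded_50_1 (flp_h L250648) (flp_g L250617) L364399
theorem L364406 : sm gi N43096 = N29973 := ded_54_2 (flp_h L254103) (flp_i L174964) (flp_h L172604) L250612 L364399
theorem L364408 : sm gi N29568 = N43097 := rfl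
theorem L364410 : sm ga N43097 = N29569 := ded_18_1 (flp_i L250638) L250628 L364408
theorem L364412 : sm gc N43097 = N29587 := ded_33_1 (flp_i L250797) (flp_c L250630) L364408
theorem L364414 : sm ge N43097 = N43097 := ded_44_1 (flp_i L364408) L250632 L364408
theorem L364415 : sm gf N43097 = N31445 := ded_48_1 (flp_i L266494) (flp_f L250633) L364408
theorem L364417 : sm gj N43097 = N43097 := ded_53_1 (flp_i L364408) L250635 L364408
theorem L364418 : sm gh N29569 = N43098 := rfl
theorem L364420 : sm gb N43098 = N29570 := ded_25_1 (flp_h L250648) (flp_b L250640) L364418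
theorem L364422 : sm gc N43098 = N29588 := ded_32_1 (flp_h L250806) (flp_c L250642) L364418
theorem L364424 : sm ge N43098 = N43098 := ded_43_1 (flp_h L364418) L250644 L364418
theorem L364425 : sm gf N43098 = N31446 := ded_47_1 (flp_h L266503) (flp_f L250645) L364418
theorem L364427 : sm gj N43098 = N43098 := ded_52_1 (flp_h L364418) L250647 L364418
theorem L364428 : sm gi N43098 = N29975 := ded_54_2 (flp_h L254120) (flp_i L174986) (flp_h L172621) L250638 L364418
theorem L364430 : sm gd N29570 = N43099 := rfl
theorem L364432 : sm gf N43099 = N31447 := ded_35_2 (flp_d L266514) (flp_f L250653) L364430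
theorem L364434 : sm gj N43099 = N43099 := ded_37_2 (flp_d L364430) L250655 L364430
theorem L364435 : sm gi N43099 = N29976 := ded_39_2 (flp_d L254130) (flp_i L250656) L364430
theorem L364437 : sm gc N29571 = N43100 := rfl
theorem L364439 : sm ga N43100 = N43100 := ded_11_1 (flp_c L364437) L250660 L364437
theorem L364440 : sm gf N43100 = N43100 := ded_29_2 (flp_c L364437) L250661 L364437
theorem L364441 : sm gg N43100 = N29573 := ded_30_2 (flp_c L250676) (flp_g L250662) L364437
theorem L364443 : sm gj N43100 = N31448 := ded_31_2 (flp_c L266519) (flp_j L250664) L364437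
theorem L364445 : sm gh N43100 = N29977 := ded_32_2 (flp_c L254135) (flp_h L250666) L364437
theorem L364447 : sm ge N29571 = N43101 := rfl
theorem L364449 : sm ga N43101 = N43101 := ded_13_1 (flp_e L364447) L250660 L364447
theorem L364450 : sm gg N43101 = N29574 := ded_41_2 (flp_e L250685) (flp_g L250662) L364447
theorem L364454 : sm gh N43101 = N29978 := ded_43_2 (flp_e L254144) (flp_h L250666) L364447
theorem L364456 : sm gi N29571 = N43102 := rfl
theorem L364458 : sm ga N43102 = N43102 := ded_18_1 (flp_i L364456) L250660 L364456
theorem L364459 : sm gd N43102 = N29572 := ded_39_1 (flp_i L250668) L250658 L364456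
theorem L364461 : sm gf N43102 = N43102 := ded_48_1 (flp_i L364456) L250661 L364456
theorem L364462 : sm gg N43102 = N29575 := ded_51_1 (flp_i L250693) (flp_g L250662) L364456
theorem L364464 : sm gj N43102 = N31450 := ded_53_1 (flp_i L266534) (flp_j L250664) L364456
theorem L364466 : sm gb N29573 = N43103 := rfl
theorem L364468 : sm gf N43103 = N29581 := ded_22_2 (flp_b L250746) (flp_f L250679) L364466
theorem L364470 : sm gj N43103 = N29576 := ded_24_2 (flp_b L250702) (flp_j L250681) L364466
theorem L364472 : sm gh N43103 = N29980 := ded_25_2 (flp_b L254162) (flp_h L250683) L364466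
theorem L364474 : sm ge N29573 = N43104 := rfl
theorem L364476 : sm ga N43104 = N43104 := ded_13_1 (flp_e L364474) L250678 L364474
theorem L364477 : sm gc N43104 = N29574 := ded_28_1 (flp_e L250685) L250676 L364474
theorem L364479 : sm gj N43104 = N29577 := ded_42_2 (flp_e L250710) (flp_j L250681) L364474
theorem L364481 : sm gh N43104 = N29981 := ded_43_2 (flp_e L254169) (flp_h L250683) L364474
theorem L364483 : sm gf N43104 = N43104 := ded_40_2 (flp_e L364474) L250679 L172696 (flp_f L250679) L364474
theorem L364484 : sm gi N29573 = N43105 := rfl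
theorem L364486 : sm ga N43105 = N43105 := ded_18_1 (flp_i L364484) L250678 L364484
theorem L364487 : sm gc N43105 = N29575 := ded_33_1 (flp_i L250693) L250676 L364484
theorem L364489 : sm gf N43105 = N29582 := ded_48_1 (flp_i L250754) (flp_f L250679) L364484
theorem L364491 : sm gj N43105 = N29578 := ded_53_1 (flp_i L250720) (flp_j L250681) L364484
theorem L364493 : sm gi N29574 = N43106 := rfl
theorem L364495 : sm ga N43106 = N43106 := ded_18_1 (flp_i L364493) L250687 L364493
theorem L364496 : sm ge N43106 = N29575 := ded_44_1 (flp_i L250693) L250685 L364493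
theorem L364498 : sm gf N43106 = N43106 := ded_48_1 (flp_i L364493) L250692 L364493
theorem L364499 : sm gj N43106 = N29579 := ded_53_1 (flp_i L250729) (flp_j L250688) L364493
theorem L364501 : sm gh N29575 = N43107 := rfl
theorem L364503 : sm ga N43107 = N43107 := ded_17_1 (flp_h L364501) L250695 L364501
theorem L364504 : sm gf N43107 = N29583 := ded_47_1 (flp_h L250763) (flp_f L250698) L364501
theorem L364506 : sm gj N43107 = N29580 := ded_52_1 (flp_h L250737) (flp_j L250700) L364501
theorem L364508 : sm gi N43107 = N29984 := ded_54_2 (flp_h L254196) (flp_i L175037) (flp_h L172658) L250693 L364501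
theorem L364510 : sm ga N29576 = N43108 := rfl
theorem L364512 : sm gf N43108 = N29584 := ded_14_2 (flp_a L250772) (flp_f L250704) L364510
theorem L364514 : sm gg N43108 = N31456 := ded_15_2 (flp_a L266588) (flp_g L250706) L364510
theorem L364516 : sm gh N43108 = N29985 := ded_17_2 (flp_a L254203) (flp_h L250708) L364510
theorem L364518 : sm gb N43108 = N43108 := ded_10_2 (flp_a L364510) (flp_b L250702) L172669 L250702 L364510
theorem L364519 : sm ge N29576 = N43109 := rfl
theorem L364521 : sm gb N43109 = N29577 := ded_21_1 (flp_e L250710) L250702 L364519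
theorem L364523 : sm gg N43109 = N31457 := ded_41_2 (flp_e L266595) (flp_g L250706) L364519
theorem L364525 : sm gh N43109 = N29986 := ded_43_2 (flp_e L254211) (flp_h L250708) L364519
theorem L364527 : sm gf N43109 = N43109 := ded_40_2 (flp_e L364519) L250704 L172713 (flp_f L250704) L364519
theorem L364528 : sm gi N29576 = N43110 := rfl
theorem L364530 : sm gb N43110 = N29578 := ded_26_1 (flp_i L250720) L250702 L364528
theorem L364532 : sm gf N43110 = N29585 := ded_48_1 (flp_i L250780) (flp_f L250704) L364528
theorem L364534 : sm gg N43110 = N31458 := ded_51_1 (flp_i L266603) (flp_g L250706) L364528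
theorem L364536 : sm gd N29577 = N43111 := rfl
theorem L364538 : sm ga N43111 = N43111 := ded_12_1 (flp_d L364536) L250712 L364536
theorem L364539 : sm gf N43111 = N43111 := ded_35_2 (flp_d L364536) L250719 L364536
theorem L364540 : sm gg N43111 = N31459 := ded_36_2 (flp_d L266609) (flp_g L250715) L364536
theorem L364542 : sm gi N29577 = N43112 := rfl
theorem L364544 : sm ga N43112 = N43112 := ded_18_1 (flp_i L364542) L250712 L364542
theorem L364545 : sm gc N43112 = N29579 := ded_33_1 (flp_i L250729) (flp_c L250713) L364542
theorem L364547 : sm ge N43112 = N29578 := ded_44_1 (flp_i L250720) L250710 L364542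
theorem L364549 : sm gf N43112 = N43112 := ded_48_1 (flp_i L364542) L250719 L364542
theorem L364550 : sm gg N43112 = N31460 := ded_51_1 (flp_i L266614) (flp_g L250715) L364542
theorem L364552 : sm gh N29578 = N43113 := rfl
theorem L364554 : sm ga N43113 = N43113 := ded_17_1 (flp_h L364552) L250722 L364552
theorem L364555 : sm gc N43113 = N29580 := ded_32_1 (flp_h L250737) (flp_c L250723) L364552
theorem L364557 : sm gf N43113 = N29586 := ded_47_1 (flp_h L250787) (flp_f L250725) L364552
theorem L364559 : sm gg N43113 = N31461 := ded_50_1 (flp_h L266623) (flp_g L250727) L364552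
theorem L364561 : sm gi N43113 = N29990 := ded_54_2 (flp_h L254245) (flp_i L175061) (flp_h L172674) L250720 L364552
theorem L364563 : sm gh N29579 = N43114 := rfl
theorem L364565 : sm ga N43114 = N43114 := ded_17_1 (flp_h L364563) L250731 L364563
theorem L364566 : sm ge N43114 = N29580 := ded_43_1 (flp_h L250737) (flp_e L250732) L364563
theorem L364568 : sm gf N43114 = N43114 := ded_47_1 (flp_h L364563) L250734 L364563
theorem L364569 : sm gg N43114 = N31462 := ded_50_1 (flp_h L266632) (flp_g L250735) L364563
theorem L364571 : sm gi N43114 = N29991 := ded_54_2 (flp_h L254254) (flp_i L175071) (flp_h L172681) L250729 L364563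
theorem L364573 : sm ga N29581 = N43115 := rfl
theorem L364575 : sm ge N43115 = N43115 := ded_13_2 (flp_a L364573) L250748 L364573
theorem L364576 : sm gg N43115 = N43115 := ded_15_2 (flp_a L364573) L250749 L364573
theorem L364577 : sm gj N43115 = N29584 := ded_16_2 (flp_a L250772) (flp_j L250750) L364573
theorem L364579 : sm gh N43115 = N29992 := ded_17_2 (flp_a L254262) (flp_h L250752) L364573
theorem L364581 : sm gb N43115 = N43115 := ded_10_2 (flp_a L364573) (flp_b L250746) L172695 L250746 L364573
theorem L364582 : sm gi N29581 = N43116 := rfl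
theorem L364584 : sm gb N43116 = N29582 := ded_26_1 (flp_i L250754) L250746 L364582
theorem L364586 : sm ge N43116 = N43116 := ded_44_1 (flp_i L364582) L250748 L364582
theorem L364587 : sm gg N43116 = N43116 := ded_51_1 (flp_i L364582) L250749 L364582
theorem L364588 : sm gj N43116 = N29585 := ded_53_1 (flp_i L250780) (flp_j L250750) L364582
theorem L364590 : sm gh N29582 = N43117 := rfl
theorem L364592 : sm ga N43117 = N43117 := ded_17_1 (flp_h L364590) L250756 L364590
theorem L364593 : sm gc N43117 = N29583 := ded_32_1 (flp_h L250763) (flp_c L250757) L364590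
theorem L364595 : sm ge N43117 = N43117 := ded_43_1 (flp_h L364590) L250759 L364590
theorem L364596 : sm gg N43117 = N43117 := ded_50_1 (flp_h L364590) L250760 L364590
theorem L364597 : sm gj N43117 = N29586 := ded_52_1 (flp_h L250787) (flp_j L250761) L364590
theorem L364599 : sm gi N43117 = N29994 := ded_54_2 (flp_h L254279) (flp_i L175094) (flp_h L172700) L250754 L364590
theorem L364601 : sm gi N29584 = N43118 := rfl
theorem L364603 : sm ga N43118 = N29585 := ded_18_1 (flp_i L250780) L250772 L364601
theorem L364605 : sm gb N43118 = N43118 := ded_26_1 (flp_i L364601) L250779 L364601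
theorem L364606 : sm ge N43118 = N43118 := ded_44_1 (flp_i L364601) L250774 L364601
theorem L364607 : sm gg N43118 = N29587 := ded_51_1 (flp_i L250797) (flp_g L250775) L364601
theorem L364609 : sm gh N29585 = N43119 := rfl
theorem L364611 : sm gb N43119 = N29586 := ded_25_1 (flp_h L250787) (flp_b L250782) L364609
theorem L364613 : sm ge N43119 = N43119 := ded_43_1 (flp_h L364609) L250784 L364609
theorem L364614 : sm gg N43119 = N29588 := ded_50_1 (flp_h L250806) (flp_g L250785) L364609
theorem L364616 : sm gi N43119 = N29996 := ded_54_2 (flp_h L254297) (flp_i L175118) (flp_h L172716) L250780 L364609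
theorem L364618 : sm gd N29586 = N43120 := rfl
theorem L364620 : sm ga N43120 = N43120 := ded_12_1 (flp_d L364618) L250789 L364618
theorem L364621 : sm gg N43120 = N29589 := ded_36_2 (flp_d L250816) (flp_g L250793) L364618
theorem L364623 : sm gi N43120 = N29997 := ded_39_2 (flp_d L254304) (flp_i L250795) L364618
theorem L364625 : sm gh N29587 = N43121 := rfl
theorem L364627 : sm ga N43121 = N29588 := ded_17_1 (flp_h L250806) (flp_a L250799) L364625
theorem L364629 : sm gb N43121 = N43121 := ded_25_1 (flp_h L364625) L250801 L364625
theorem L364630 : sm ge N43121 = N43121 := ded_43_1 (flp_h L364625) L250802 L364625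
theorem L364631 : sm gf N43121 = N31469 := ded_47_1 (flp_h L266698) (flp_f L250803) L364625
theorem L364633 : sm gj N43121 = N43121 := ded_52_1 (flp_h L364625) L250805 L364625
theorem L364634 : sm gi N43121 = N29998 := ded_54_2 (flp_h L254310) (flp_i L175134) (flp_h L172740) L250797 L364625
theorem L364636 : sm gd N29588 = N43122 := rfl
theorem L364638 : sm gb N43122 = N29589 := ded_20_1 (flp_d L250816) (flp_b L250808) L364636
theorem L364640 : sm gf N43122 = N31470 := ded_35_2 (flp_d L266708) (flp_f L250811) L364636
theorem L364642 : sm gj N43122 = N43122 := ded_37_2 (flp_d L364636) L250813 L364636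
theorem L364643 : sm gi N43122 = N29999 := ded_39_2 (flp_d L254319) (flp_i L250814) L364636
theorem L364645 : sm ge N29589 = N43123 := rfl
theorem L364647 : sm ga N43123 = N43123 := ded_13_1 (flp_e L364645) L250818 L364645
theorem L364648 : sm gj N43123 = N43123 := ded_42_2 (flp_e L364645) L250821 L364645
theorem L364649 : sm gi N43123 = N30000 := ded_44_2 (flp_e L254327) (flp_i L250822) L364645
theorem L364651 : sm gd N43123 = N43123 := ded_34_1 (flp_e L364645) (flp_d L250816) L172756 L250816 L364645
theorem L364806 : sm gi N29597 = N43140 := rfl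
theorem L364810 : sm gc N43140 = N29608 := ded_33_1 (flp_i L250995) (flp_c L250896) L364806
theorem L364812 : sm ge N43140 = N29601 := ded_44_1 (flp_i L250930) (flp_e L250898) L364806
theorem L364817 : sm gh N29598 = N43141 := rfl
theorem L364819 : sm ga N43141 = N29618 := ded_17_1 (flp_h L251088) (flp_a L250904) L364817
theorem L364821 : sm gc N43141 = N29609 := ded_32_1 (flp_h L251005) (flp_c L250906) L364817
theorem L364909 : sm gh N29605 = N43151 := rfl
theorem L364911 : sm ga N43151 = N29628 := ded_17_1 (flp_h L251178) (flp_a L250969) L364909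
theorem L364956 : sm gi N29609 = N43156 := rfl
theorem L364958 : sm ga N43156 = N29633 := ded_18_1 (flp_i L251219) (flp_a L251007) L364956
theorem L364976 : sm gj N29611 = N43158 := rfl
theorem L364978 : sm gb N43158 = N29679 := ded_24_1 (flp_j L251635) (flp_b L251027) L364976
theorem L364981 : sm gd N43158 = N29614 := ded_37_1 (flp_j L251051) (flp_d L251030) L364976
theorem L365011 : sm gj N29613 = N43162 := rfl
theorem L365018 : sm gf N43162 = N29614 := ded_46_1 (flp_j L251051) L251042 L365011
theorem L365021 : sm gh N29613 = N43163 := rfl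
theorem L365023 : sm gb N43163 = N29684 := ded_25_1 (flp_h L251667) (flp_b L251044) L365021
theorem L365027 : sm ge N43163 = N43163 := ded_43_1 (flp_h L365021) L251049 L365021
theorem L365031 : sm gh N29614 = N43164 := rfl
theorem L365035 : sm gc N43164 = N29628 := ded_32_1 (flp_h L251178) (flp_c L251055) L365031
theorem L365109 : sm gi N29619 = N43173 := rfl
theorem L365117 : sm gg N43173 = N29622 := ded_51_1 (flp_i L251124) (flp_g L251103) L365109
theorem L365136 : sm gh N29622 = N43176 := rfl
theorem L365141 : sm gf N43176 = N29625 := ded_47_1 (flp_h L251152) (flp_f L251131) L365136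
theorem L365154 : sm gi N29623 = N43178 := rfl
theorem L365156 : sm gb N43178 = N29699 := ded_26_1 (flp_i L251779) (flp_b L251136) L365154
theorem L365160 : sm gf N43178 = N29624 := ded_48_1 (flp_i L251142) L251134 L365154
theorem L365191 : sm gd N29627 = N43182 := rfl
theorem L365193 : sm gb N43182 = N29636 := ded_20_1 (flp_d L251249) (flp_b L251172) L365191
theorem L365217 : sm gi N29628 = N43185 := rfl
theorem L365221 : sm ge N43185 = N29633 := ded_44_1 (flp_i L251219) (flp_e L251182) L365217
theorem L365242 : sm gb N29631 = N43188 := rfl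
theorem L365248 : sm gc N43188 = N29642 := ded_19_2 (flp_b L251302) (flp_c L173064) (flp_b L172985) L251204 L365242
theorem L365257 : sm gh N29632 = N43190 := rfl
theorem L365259 : sm gb N43190 = N29644 := ded_25_1 (flp_h L251320) (flp_b L251212) L365257
theorem L365276 : sm gd N29635 = N43192 := rfl
theorem L365281 : sm gj N43192 = N29636 := ded_37_2 (flp_d L251249) (flp_j L251247) L365276
theorem L365284 : sm gi N29635 = N43193 := rfl
theorem L365290 : sm gf N43193 = N29639 := ded_48_1 (flp_i L251274) (flp_f L251245) L365284
theorem L365295 : sm gc N29636 = N43194 := rfl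
theorem L365298 : sm gf N43194 = N29640 := ded_29_2 (flp_c L251285) (flp_f L251252) L365295
theorem L365302 : sm gd N43194 = N29715 := ded_27_2 (flp_c L251913) (flp_d L173479) (flp_c L173031) L251249 L365295
theorem L365311 : sm gi N29636 = N43196 := rfl
theorem L365314 : sm gd N43196 = N29637 := ded_39_1 (flp_i L251256) L251249 L365311
theorem L365319 : sm gc N29638 = N43197 := rfl
theorem L365324 : sm gj N43197 = N29640 := ded_31_2 (flp_c L251285) (flp_j L251270) L365319
theorem L365327 : sm gd N43197 = N29718 := ded_27_2 (flp_c L251934) (flp_d L173493) (flp_c L173040) L251266 L365319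
theorem L365338 : sm gb N29640 = N43199 := rfl
theorem L365346 : sm gi N29640 = N43200 := rfl
theorem L365351 : sm gd N43200 = N29721 := ded_39_1 (flp_i L251958) (flp_d L251292) L365346
theorem L365354 : sm gg N43200 = N29643 := ded_51_1 (flp_i L251310) (flp_g L251289) L365346
theorem L365382 : sm gh N29643 = N43204 := rfl
theorem L365385 : sm gc N43204 = N29644 := ded_32_1 (flp_h L251320) (flp_c L251313) L365382
theorem L365430 : sm gh N29646 = N43210 := rfl
theorem L365434 : sm gc N43210 = N43210 := ded_32_1 (flp_h L365430) L251340 L365430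
theorem L365445 : sm gi N29647 = N43212 := rfl
theorem L365447 : sm gb N43212 = N29661 := ded_26_1 (flp_i L251461) (flp_b L251346) L365445
theorem L365450 : sm ge N43212 = N29651 := ded_44_1 (flp_i L251378) (flp_e L251349) L365445
theorem L365464 : sm gd N29649 = N43214 := rfl
theorem L365466 : sm gb N43214 = N29663 := ded_20_1 (flp_d L251482) (flp_b L251364) L365464
theorem L365514 : sm gi N29652 = N43220 := rfl
theorem L365516 : sm gb N43220 = N29741 := ded_26_1 (flp_i L252144) (flp_b L251392) L365514
theorem L365518 : sm gc N43220 = N29654 := ded_33_1 (flp_i L251403) L251387 L365514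
theorem L365555 : sm gj N29655 = N43225 := rfl
theorem L365559 : sm gd N43225 = N29658 := ded_37_1 (flp_j L251435) (flp_d L251415) L365555
theorem L365607 : sm gh N29658 = N43231 := rfl
theorem L365616 : sm gj N43231 = N29659 := ded_52_1 (flp_h L251445) L251435 L365607
theorem L365624 : sm gi N29659 = N43233 := rfl
theorem L365626 : sm ga N43233 = N29687 := ded_18_1 (flp_i L251688) (flp_a L251447) L365624
theorem L365635 : sm gc N29660 = N43234 := rfl
theorem L365641 : sm gd N43234 = N29675 := ded_27_2 (flp_c L251598) (flp_d L173244) (flp_c L173153) L251455 L365635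
theorem L365689 : sm gi N29663 = N43240 := rfl
theorem L365698 : sm gg N43240 = N29666 := ded_51_1 (flp_i L251510) (flp_g L251487) L365689
theorem L365719 : sm gh N29666 = N43243 := rfl
theorem L365725 : sm gf N43243 = N29669 := ded_47_1 (flp_h L251541) (flp_f L251518) L365719
theorem L365749 : sm gh N29668 = N43246 := rfl
theorem L365755 : sm ge N43246 = N29669 := ded_43_1 (flp_h L251541) (flp_e L251537) L365749
theorem L365760 : sm gg N29670 = N43247 := rfl
theorem L365762 : sm ga N43247 = N29701 := ded_15_1 (flp_g L251796) (flp_a L251553) L365760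
theorem L365844 : sm gi N29675 = N43256 := rfl
theorem L365846 : sm ga N43256 = N29710 := ded_18_1 (flp_i L251872) (flp_a L251600) L365844
theorem L365850 : sm ge N43256 = N29777 := ded_44_1 (flp_i L252476) (flp_e L251602) L365844
theorem L365882 : sm gh N29679 = N43261 := rfl
theorem L365886 : sm gj N43261 = N29680 := ded_52_1 (flp_h L251642) L251635 L365882
theorem L365894 : sm gi N29680 = N43263 := rfl
theorem L365897 : sm gg N43263 = N29682 := ded_51_1 (flp_i L251653) (flp_g L251645) L365894
theorem L365912 : sm gi N29681 = N43266 := rfl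
theorem L365914 : sm gd N43266 = N29682 := ded_39_1 (flp_i L251653) L251647 L365912
theorem L365976 : sm gi N29686 = N43275 := rfl
theorem L365978 : sm gd N43275 = N29687 := ded_39_1 (flp_i L251688) L251684 L365976
theorem L365980 : sm gg N43275 = N29690 := ded_51_1 (flp_i L251708) (flp_g L251686) L365976
theorem L366086 : sm gj N29698 = N43290 := rfl
theorem L366088 : sm gc N43290 = N29811 := ded_31_1 (flp_j L252746) (flp_c L251774) L366086
theorem L366118 : sm gh N29701 = N43294 := rfl
theorem L366120 : sm gb N43294 = N29712 := ded_25_1 (flp_h L251889) (flp_b L251798) L366118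
theorem L366127 : sm gd N29702 = N43295 := rfl
theorem L366129 : sm gb N43295 = N29713 := ded_20_1 (flp_d L251897) (flp_b L251806) L366127
theorem L366135 : sm gi N29702 = N43296 := rfl
theorem L366140 : sm gf N43296 = N29706 := ded_48_1 (flp_i L251838) (flp_f L251809) L366135
theorem L366142 : sm gj N43296 = N29704 := ded_53_1 (flp_i L251820) (flp_j L251811) L366135
theorem L366150 : sm ge N29703 = N43298 := rfl
theorem L366152 : sm gb N43298 = N29716 := ded_21_1 (flp_e L251919) (flp_b L251815) L366150
theorem L366156 : sm gf N43298 = N29818 := ded_40_2 (flp_e L252805) L174073 (flp_e L173426) (flp_f L251817) L366150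
theorem L366167 : sm gc N29705 = N43300 := rfl
theorem L366169 : sm ge N43300 = N29820 := ded_28_2 (flp_c L252822) (flp_e L251836) L366167
theorem L366193 : sm gi N29707 = N43303 := rfl
theorem L366195 : sm gc N43303 = N29708 := ded_33_1 (flp_i L251854) L251848 L366193
theorem L366201 : sm gh N29708 = N43304 := rfl
theorem L366203 : sm gb N43304 = N29722 := ded_25_1 (flp_h L251967) (flp_b L251856) L366201
theorem L366207 : sm gg N43304 = N29711 := ded_50_1 (flp_h L251880) (flp_g L251862) L366201
theorem L366243 : sm gi N29712 = N43309 := rfl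
theorem L366259 : sm ge N29713 = N43311 := rfl
theorem L366262 : sm gj N43311 = N29716 := ded_42_2 (flp_e L251919) (flp_j L251902) L366259
theorem L366265 : sm gf N43311 = N29831 := ded_40_2 (flp_e L252907) L174154 (flp_e L173499) (flp_f L251900) L366259
theorem L366267 : sm gi N29713 = N43312 := rfl
theorem L366274 : sm gj N43312 = N29717 := ded_53_1 (flp_i L251926) (flp_j L251902) L366267
theorem L366281 : sm ge N29715 = N43314 := rfl
theorem L366284 : sm gc N43314 = N29716 := ded_28_1 (flp_e L251919) L251913 L366281
theorem L366297 : sm gi N29716 = N43316 := rfl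
theorem L366301 : sm ge N43316 = N29717 := ded_44_1 (flp_i L251926) L251919 L366297
theorem L366303 : sm gf N43316 = N29836 := ded_48_1 (flp_i L252946) (flp_f L251924) L366297
theorem L366320 : sm gi N29718 = N43319 := rfl
theorem L366323 : sm gc N43319 = N29719 := ded_33_1 (flp_i L251942) L251934 L366320
theorem L366325 : sm ge N43319 = N29839 := ded_44_1 (flp_i L252969) (flp_e L251937) L366320
theorem L366346 : sm gi N29720 = N43322 := rfl
theorem L366350 : sm ge N43322 = N29842 := ded_44_1 (flp_i L252992) (flp_e L251954) L366346
theorem L366352 : sm gg N43322 = N29724 := ded_51_1 (flp_i L251982) (flp_g L251956) L366346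
theorem L366363 : sm gi N29723 = N43324 := rfl
theorem L366365 : sm ga N43324 = N29724 := ded_18_1 (flp_i L251982) L251975 L366363
theorem L366368 : sm ge N43324 = N29844 := ded_44_1 (flp_i L253006) (flp_e L251977) L366363
theorem L366372 : sm gh N29724 = N43325 := rfl
theorem L366374 : sm gb N43325 = N29725 := ded_25_1 (flp_h L251990) (flp_b L251984) L366372
theorem L366376 : sm ge N43325 = N29845 := ded_43_1 (flp_h L253015) (flp_e L251986) L366372
theorem L366380 : sm gd N29725 = N43326 := rfl
theorem L366382 : sm ga N43326 = N43326 := ded_12_1 (flp_d L366380) L251992 L366380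
theorem L366415 : sm gj N29727 = N43330 := rfl
theorem L366418 : sm gb N43330 = N29746 := ded_24_1 (flp_j L252192) (flp_b L252012) L366415
theorem L366455 : sm gj N29729 = N43334 := rfl
theorem L366458 : sm gb N43334 = N29750 := ded_24_1 (flp_j L252228) (flp_b L252031) L366455
theorem L366542 : sm gi N29734 = N43343 := rfl
theorem L366552 : sm gh N43343 = N29863 := ded_54_1 (flp_i L253176) (flp_h L174322) (flp_i L173589) L252081 L366542
theorem L366554 : sm gc N29735 = N43344 := rfl
theorem L366558 : sm gg N43344 = N29737 := ded_30_2 (flp_c L252111) (flp_g L252097) L366554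
theorem L366570 : sm gi N29735 = N43346 := rfl
theorem L366578 : sm gg N43346 = N29739 := ded_51_1 (flp_i L252126) (flp_g L252097) L366570
theorem L366613 : sm gh N29739 = N43351 := rfl
theorem L366618 : sm gf N43351 = N29744 := ded_47_1 (flp_h L252172) (flp_f L252133) L366613
theorem L366621 : sm gd N43351 = N29870 := ded_38_1 (flp_h L253241) L174372 (flp_h L173619) (flp_d L252131) L366613
theorem L366648 : sm gh N29741 = N43355 := rfl
theorem L366651 : sm gc N43355 = N29744 := ded_32_1 (flp_h L252172) (flp_c L252147) L366648
theorem L366686 : sm ge N29745 = N43359 := rfl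
theorem L366688 : sm ga N43359 = N29779 := ded_13_1 (flp_e L252495) (flp_a L252184) L366686
theorem L366692 : sm gi N43359 = N29872 := ded_44_2 (flp_e L253260) (flp_i L252188) L366686
theorem L366696 : sm gj N29745 = N43360 := rfl
theorem L366698 : sm ga N43360 = N29780 := ded_16_1 (flp_j L252504) (flp_a L252184) L366696
theorem L366700 : sm gd N43360 = N29750 := ded_37_1 (flp_j L252228) (flp_d L252186) L366696
theorem L366704 : sm gi N43360 = N29873 := ded_53_2 (flp_j L253268) (flp_i L252188) L366696
theorem L366730 : sm gi N29747 = N43364 := rfl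
theorem L366732 : sm ga N43364 = N29784 := ded_18_1 (flp_i L252534) (flp_a L252204) L366730
theorem L366739 : sm gc N29748 = N43365 := rfl
theorem L366741 : sm ga N43365 = N29785 := ded_11_1 (flp_c L252542) (flp_a L252211) L366739
theorem L366743 : sm gf N43365 = N31507 := ded_29_2 (flp_c L267048) (flp_f L252213) L366739
theorem L366756 : sm gi N29748 = N43367 := rfl
theorem L366760 : sm gd N43367 = N29749 := ded_39_1 (flp_i L252218) L252209 L366756
theorem L366765 : sm gg N29750 = N43368 := rfl
theorem L366767 : sm ga N43368 = N29788 := ded_15_1 (flp_g L252564) (flp_a L252230) L366765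
theorem L366769 : sm gc N43368 = N29768 := ded_30_1 (flp_g L252393) (flp_c L252232) L366765
theorem L366772 : sm gi N43368 = N29881 := ded_51_2 (flp_g L253334) (flp_i L252237) L366765
theorem L366816 : sm gi N29752 = N43373 := rfl
theorem L366827 : sm gh N43373 = N29886 := ded_54_1 (flp_i L253381) (flp_h L174456) (flp_i L173683) L252250 L366816
theorem L366837 : sm ge N29753 = N43375 := rfl
theorem L366843 : sm gd N43375 = N29760 := ded_34_1 (flp_e L252325) (flp_d L173726) (flp_e L173692) L252261 L366837
theorem L366867 : sm gi N29755 = N43379 := rfl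
theorem L366873 : sm gd N43379 = N29777 := ded_39_1 (flp_i L252476) (flp_d L252286) L366867
theorem L366875 : sm gf N43379 = N31521 := ded_48_1 (flp_i L267166) (flp_f L252283) L366867
theorem L366998 : sm gh N29768 = N43394 := rfl
theorem L367000 : sm ga N43394 = N29814 := ded_17_1 (flp_h L252770) (flp_a L252395) L366998
theorem L367009 : sm gd N29769 = N43395 := rfl
theorem L367011 : sm ga N43395 = N29815 := ded_12_1 (flp_d L252780) (flp_a L252406) L367009
theorem L367014 : sm gf N43395 = N29772 := ded_35_2 (flp_d L252435) (flp_f L252410) L367009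
theorem L367038 : sm ge N29770 = N43398 := rfl
theorem L367040 : sm ga N43398 = N29818 := ded_13_1 (flp_e L252805) (flp_a L252416) L367038
theorem L367043 : sm gg N43398 = N31537 := ded_41_2 (flp_e L267312) (flp_g L252421) L367038
theorem L367057 : sm gc N29772 = N43400 := rfl
theorem L367059 : sm ga N43400 = N29820 := ded_11_1 (flp_c L252822) (flp_a L252437) L367057
theorem L367064 : sm gi N29772 = N43401 := rfl
theorem L367066 : sm ga N43401 = N29821 := ded_18_1 (flp_i L252827) (flp_a L252437) L367064
theorem L367121 : sm gj N29779 = N43408 := rfl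
theorem L367123 : sm gb N43408 = N43408 := ded_24_1 (flp_j L367121) L252497 L367121
theorem L367124 : sm gd N43408 = N43408 := ded_37_1 (flp_j L367121) L252502 L367121
theorem L367125 : sm ge N43408 = N29780 := ded_42_1 (flp_j L252504) L252495 L367121
theorem L367127 : sm gf N43408 = N43408 := ded_46_1 (flp_j L367121) L252503 L367121
theorem L367128 : sm gi N43408 = N29915 := ded_53_2 (flp_j L253644) (flp_i L252500) L367121
theorem L367130 : sm gh N29779 = N43409 := rfl
theorem L367132 : sm gb N43409 = N43409 := ded_25_1 (flp_h L367130) L252497 L367130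
theorem L367133 : sm ge N43409 = N29781 := ded_43_1 (flp_h L252513) L252495 L367130
theorem L367135 : sm gf N43409 = N43409 := ded_47_1 (flp_h L367130) L252503 L367130
theorem L367136 : sm gg N43409 = N31548 := ded_50_1 (flp_h L267404) (flp_g L252498) L367130
theorem L367138 : sm gg N29780 = N43410 := rfl
theorem L367140 : sm gb N43410 = N43410 := ded_23_1 (flp_g L367138) L252506 L367138
theorem L367141 : sm gd N43410 = N29788 := ded_36_1 (flp_g L252564) (flp_d L252507) L367138
theorem L367143 : sm gi N43410 = N29917 := ded_51_2 (flp_g L253659) (flp_i L252511) L367138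
theorem L367145 : sm gf N43410 = N43410 := ded_45_1 (flp_g L367138) L252509 L173880 (flp_f L252509) L367138
theorem L367146 : sm gj N43410 = N31549 := ded_49_2 (flp_g L267411) (flp_j L183945) (flp_g L173870) L252504 L367138
theorem L367148 : sm gh N29780 = N43411 := rfl
theorem L367150 : sm gb N43411 = N43411 := ded_25_1 (flp_h L367148) L252506 L367148
theorem L367151 : sm gf N43411 = N29782 := ded_47_1 (flp_h L252520) (flp_f L252509) L367148
theorem L367153 : sm gj N43411 = N29781 := ded_52_1 (flp_h L252513) L252504 L367148
theorem L367155 : sm gd N29781 = N43412 := rfl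
theorem L367160 : sm gg N43412 = N31551 := ded_36_2 (flp_d L267426) (flp_g L252518) L367155
theorem L367162 : sm gh N43412 = N29790 := ded_38_2 (flp_d L252585) (flp_h L173914) (flp_d L173866) L252513 L367155
theorem L367164 : sm gi N29781 = N43413 := rfl
theorem L367166 : sm gb N43413 = N43413 := ded_26_1 (flp_i L367164) L252515 L367164
theorem L367167 : sm gf N43413 = N29784 := ded_48_1 (flp_i L252534) (flp_f L252516) L367164
theorem L367169 : sm gg N43413 = N31552 := ded_51_1 (flp_i L267433) (flp_g L252518) L367164
theorem L367171 : sm gh N43413 = N29920 := ded_54_1 (flp_i L253683) (flp_h L174679) (flp_i L173868) L252513 L367164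
theorem L367181 : sm gi N29782 = N43415 := rfl
theorem L367183 : sm gb N43415 = N43415 := ded_26_1 (flp_i L367181) L252522 L367181
theorem L367184 : sm ge N43415 = N43415 := ded_44_1 (flp_i L367181) L252523 L367181
theorem L367185 : sm gg N43415 = N43415 := ded_51_1 (flp_i L367181) L252524 L367181
theorem L367186 : sm gj N43415 = N29784 := ded_53_1 (flp_i L252534) (flp_j L252525) L367181
theorem L367188 : sm gh N43415 = N29922 := ded_54_1 (flp_i L253698) (flp_h L174686) (flp_i L173878) L252520 L367181
theorem L367204 : sm gi N29783 = N43418 := rfl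
theorem L367207 : sm gd N43418 = N29784 := ded_39_1 (flp_i L252534) L252527 L367204
theorem L367211 : sm gb N29785 = N43419 := rfl
theorem L367213 : sm gf N43419 = N31558 := ded_22_2 (flp_b L267480) (flp_f L252544) L367211
theorem L367226 : sm gi N29785 = N43421 := rfl
theorem L367233 : sm gf N29786 = N43422 := rfl
theorem L367240 : sm ge N43422 = N31561 := ded_40_1 (flp_f L267498) (flp_e L183988) (flp_f L173890) L252549 L367233
theorem L367259 : sm gh N29788 = N43425 := rfl
theorem L367262 : sm gc N43425 = N29814 := ded_32_1 (flp_h L252770) (flp_c L252567) L367259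
theorem L367303 : sm gi N29790 = N43430 := rfl
theorem L367308 : sm gf N43430 = N29796 := ded_48_1 (flp_i L252635) (flp_f L252588) L367303
theorem L367335 : sm gb N29794 = N43434 := rfl
theorem L367337 : sm gd N43434 = N29822 := ded_20_2 (flp_b L252836) (flp_d L252626) L367335
theorem L367348 : sm gi N29794 = N43436 := rfl
theorem L367350 : sm gc N43436 = N29796 := ded_33_1 (flp_i L252635) L252622 L367348
theorem L367370 : sm gh N29796 = N43439 := rfl
theorem L367373 : sm gg N43439 = N29802 := ded_50_1 (flp_h L252680) (flp_g L252640) L367370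
theorem L367375 : sm gd N43439 = N29945 := ded_38_1 (flp_h L253876) L174797 (flp_h L173948) (flp_d L252638) L367370
theorem L367377 : sm ga N29797 = N43440 := rfl
theorem L367380 : sm gd N43440 = N29825 := ded_12_2 (flp_a L252856) (flp_d L252644) L367377
theorem L367429 : sm gi N29800 = N43447 := rfl
theorem L367432 : sm gd N43447 = N29809 := ded_39_1 (flp_i L252731) (flp_d L252667) L367429
theorem L367436 : sm gf N43447 = N29801 := ded_48_1 (flp_i L252672) L252664 L367429
theorem L367452 : sm gi N29803 = N43450 := rfl
theorem L367455 : sm ge N43450 = N29804 := ded_44_1 (flp_i L252695) L252688 L367452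
theorem L367460 : sm gh N29804 = N43451 := rfl
theorem L367465 : sm gj N43451 = N29807 := ded_52_1 (flp_h L252716) (flp_j L252702) L367460
theorem L367470 : sm gg N29805 = N43452 := rfl
theorem L367475 : sm gf N43452 = N29808 := ded_45_1 (flp_g L252725) (flp_f L174004) (flp_g L173993) L252704 L367470
theorem L367521 : sm gi N29811 = N43459 := rfl
theorem L367528 : sm gj N43459 = N29812 := ded_53_1 (flp_i L252754) L252746 L367521
theorem L367530 : sm gh N29812 = N43460 := rfl
theorem L367534 : sm gg N43460 = N29813 := ded_50_1 (flp_h L252762) (flp_g L252760) L367530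
theorem L367538 : sm gd N29814 = N43461 := rfl
theorem L367540 : sm gb N43461 = N29828 := ded_20_1 (flp_d L252879) (flp_b L252772) L367538
theorem L367542 : sm gf N43461 = N43461 := ded_35_2 (flp_d L367538) L252775 L367538
theorem L367543 : sm gg N43461 = N29815 := ded_36_2 (flp_d L252780) (flp_g L252776) L367538
theorem L367545 : sm gj N43461 = N31595 := ded_37_2 (flp_d L267756) (flp_j L252778) L367538
theorem L367547 : sm gi N29814 = N43462 := rfl
theorem L367557 : sm gh N43462 = N29959 := ded_54_1 (flp_i L253988) (flp_h L174890) (flp_i L174055) L252770 L367547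
theorem L367559 : sm gc N29815 = N43463 := rfl
theorem L367561 : sm gf N43463 = N29820 := ded_29_2 (flp_c L252822) (flp_f L252784) L367559
theorem L367563 : sm gj N43463 = N29817 := ded_31_2 (flp_c L252799) (flp_j L252786) L367559
theorem L367565 : sm ge N29815 = N43464 := rfl
theorem L367567 : sm gb N43464 = N29831 := ded_21_1 (flp_e L252907) (flp_b L252782) L367565
theorem L367569 : sm gj N43464 = N29818 := ded_42_2 (flp_e L252805) (flp_j L252786) L367565
theorem L367571 : sm gd N43464 = N43464 := ded_34_1 (flp_e L367565) (flp_d L252780) L174064 L252780 L367565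
theorem L367572 : sm gi N29815 = N43465 := rfl
theorem L367578 : sm gf N43465 = N29821 := ded_48_1 (flp_i L252827) (flp_f L252784) L367572
theorem L367580 : sm gj N43465 = N29819 := ded_53_1 (flp_i L252812) (flp_j L252786) L367572
theorem L367582 : sm gb N29817 = N43466 := rfl
theorem L367584 : sm gf N43466 = N29822 := ded_22_2 (flp_b L252836) (flp_f L252801) L367582
theorem L367586 : sm gg N43466 = N31600 := ded_23_2 (flp_b L267797) (flp_g L252803) L367582
theorem L367588 : sm gc N43466 = N29833 := ded_19_2 (flp_b L252922) (flp_c L174169) (flp_b L174071) L252799 L367582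
theorem L367590 : sm ge N29817 = N43467 := rfl
theorem L367592 : sm gc N43467 = N29818 := ded_28_1 (flp_e L252805) L252799 L367590
theorem L367594 : sm gg N43467 = N31601 := ded_41_2 (flp_e L267803) (flp_g L252803) L367590
theorem L367596 : sm gi N29817 = N43468 := rfl
theorem L367600 : sm gf N43468 = N29823 := ded_48_1 (flp_i L252842) (flp_f L252801) L367596
theorem L367604 : sm gi N29818 = N43469 := rfl
theorem L367606 : sm gb N43469 = N29836 := ded_26_1 (flp_i L252946) (flp_b L252807) L367604
theorem L367611 : sm gg N43469 = N31603 := ded_51_1 (flp_i L267814) (flp_g L252809) L367604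
theorem L367613 : sm gh N29819 = N43470 := rfl
theorem L367615 : sm gb N43470 = N29837 := ded_25_1 (flp_h L252954) (flp_b L252814) L367613
theorem L367623 : sm gb N29820 = N43471 := rfl
theorem L367626 : sm gj N43471 = N29822 := ded_24_2 (flp_b L252836) (flp_j L252825) L367623
theorem L367628 : sm gc N43471 = N29838 := ded_19_2 (flp_b L252963) (flp_c L174192) (flp_b L174090) L252822 L367623
theorem L367630 : sm gi N29820 = N43472 := rfl
theorem L367632 : sm gc N43472 = N29821 := ded_33_1 (flp_i L252827) L252822 L367630
theorem L367637 : sm gh N29821 = N43473 := rfl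
theorem L367639 : sm gb N43473 = N29840 := ded_25_1 (flp_h L252978) (flp_b L252829) L367637
theorem L367644 : sm gd N43473 = N29970 := ded_38_1 (flp_h L254079) L174951 (flp_h L174104) (flp_d L252831) L367637
theorem L367646 : sm ga N29822 = N43474 := rfl
theorem L367648 : sm gc N43474 = N29841 := ded_11_2 (flp_a L252986) (flp_c L252840) L367646
theorem L367660 : sm gh N29823 = N43476 := rfl
theorem L367664 : sm gg N43476 = N29827 := ded_50_1 (flp_h L252872) (flp_g L252846) L367660
theorem L367666 : sm gi N29825 = N43477 := rfl
theorem L367668 : sm ga N43477 = N29826 := ded_18_1 (flp_i L252863) L252856 L367666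
theorem L367670 : sm gc N43477 = N29844 := ded_33_1 (flp_i L253006) (flp_c L252858) L367666
theorem L367675 : sm gh N29826 = N43478 := rfl
theorem L367677 : sm gb N43478 = N29827 := ded_25_1 (flp_h L252872) (flp_b L252865) L367675
theorem L367679 : sm gc N43478 = N29845 := ded_32_1 (flp_h L253015) (flp_c L252867) L367675
theorem L367684 : sm gd N29827 = N43479 := rfl
theorem L367689 : sm gc N43479 = N29976 := ded_27_1 (flp_d L254130) L174998 (flp_d L174139) (flp_c L252874) L367684
theorem L367691 : sm gc N29828 = N43480 := rfl
theorem L367695 : sm gg N43480 = N29830 := ded_30_2 (flp_c L252899) (flp_g L252883) L367691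
theorem L367697 : sm gj N43480 = N31614 := ded_31_2 (flp_c L267900) (flp_j L252885) L367691
theorem L367700 : sm ge N29828 = N43481 := rfl
theorem L367703 : sm gg N43481 = N29831 := ded_41_2 (flp_e L252907) (flp_g L252883) L367700
theorem L367705 : sm gj N43481 = N31615 := ded_42_2 (flp_e L267907) (flp_j L252885) L367700
theorem L367708 : sm gi N29828 = N43482 := rfl
theorem L367711 : sm gd N43482 = N29829 := ded_39_1 (flp_i L252887) L252879 L367708
theorem L367716 : sm gj N43482 = N31616 := ded_53_1 (flp_i L267913) (flp_j L252885) L367708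
theorem L367718 : sm gb N29830 = N43483 := rfl
theorem L367721 : sm gf N43483 = N29838 := ded_22_2 (flp_b L252963) (flp_f L252902) L367718
theorem L367723 : sm gj N43483 = N29833 := ded_24_2 (flp_b L252922) (flp_j L252904) L367718
theorem L367725 : sm ge N29830 = N43484 := rfl
theorem L367728 : sm gc N43484 = N29831 := ded_28_1 (flp_e L252907) L252899 L367725
theorem L367732 : sm gi N29830 = N43485 := rfl
theorem L367735 : sm gc N43485 = N29832 := ded_33_1 (flp_i L252913) L252899 L367732
theorem L367738 : sm gf N43485 = N29839 := ded_48_1 (flp_i L252969) (flp_f L252902) L367732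
theorem L367742 : sm gi N29831 = N43486 := rfl
theorem L367746 : sm ge N43486 = N29832 := ded_44_1 (flp_i L252913) L252907 L367742
theorem L367748 : sm gj N43486 = N29836 := ded_53_1 (flp_i L252946) (flp_j L252910) L367742
theorem L367750 : sm gh N29832 = N43487 := rfl
theorem L367753 : sm gf N43487 = N29840 := ded_47_1 (flp_h L252978) (flp_f L252918) L367750
theorem L367755 : sm gj N43487 = N29837 := ded_52_1 (flp_h L252954) (flp_j L252920) L367750
theorem L367757 : sm gd N43487 = N29984 := ded_38_1 (flp_h L254196) L175040 (flp_h L174167) (flp_d L252916) L367750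
theorem L367759 : sm ga N29833 = N43488 := rfl
theorem L367762 : sm gf N43488 = N29841 := ded_14_2 (flp_a L252986) (flp_f L252925) L367759
theorem L367764 : sm gg N43488 = N31622 := ded_15_2 (flp_a L267964) (flp_g L252927) L367759
theorem L367767 : sm ge N29833 = N43489 := rfl
theorem L367771 : sm gg N43489 = N31623 := ded_41_2 (flp_e L267970) (flp_g L252927) L367767
theorem L367773 : sm gi N29833 = N43490 := rfl
theorem L367775 : sm gb N43490 = N29835 := ded_26_1 (flp_i L252936) L252922 L367773
theorem L367780 : sm gg N43490 = N31624 := ded_51_1 (flp_i L267975) (flp_g L252927) L367773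
theorem L367798 : sm gh N29835 = N43493 := rfl
theorem L367801 : sm gc N43493 = N29837 := ded_32_1 (flp_h L252954) (flp_c L252939) L367798
theorem L367803 : sm gf N43493 = N29843 := ded_47_1 (flp_h L252999) (flp_f L252942) L367798
theorem L367805 : sm gg N43493 = N31627 := ded_50_1 (flp_h L267996) (flp_g L252944) L367798
theorem L367807 : sm gh N29836 = N43494 := rfl
theorem L367810 : sm ge N43494 = N29837 := ded_43_1 (flp_h L252954) (flp_e L252950) L367807
theorem L367812 : sm gg N43494 = N31628 := ded_50_1 (flp_h L268003) (flp_g L252952) L367807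
theorem L367814 : sm ga N29838 = N43495 := rfl
theorem L367818 : sm gj N43495 = N29841 := ded_16_2 (flp_a L252986) (flp_j L252967) L367814
theorem L367821 : sm gi N29838 = N43496 := rfl
theorem L367823 : sm gb N43496 = N29839 := ded_26_1 (flp_i L252969) L252963 L367821
theorem L367829 : sm gh N29839 = N43497 := rfl
theorem L367832 : sm gc N43497 = N29840 := ded_32_1 (flp_h L252978) (flp_c L252972) L367829
theorem L367835 : sm gj N43497 = N29843 := ded_52_1 (flp_h L252999) (flp_j L252976) L367829
theorem L367837 : sm gi N29841 = N43498 := rfl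
theorem L367843 : sm gg N43498 = N29844 := ded_51_1 (flp_i L253006) (flp_g L252989) L367837
theorem L367845 : sm gh N29842 = N43499 := rfl
theorem L367847 : sm gb N43499 = N29843 := ded_25_1 (flp_h L252999) (flp_b L252994) L367845
theorem L367849 : sm gg N43499 = N29845 := ded_50_1 (flp_h L253015) (flp_g L252997) L367845
theorem L367851 : sm gd N29843 = N43500 := rfl
theorem L367853 : sm ga N43500 = N43500 := ded_12_1 (flp_d L367851) L253001 L367851
theorem L367854 : sm gg N43500 = N29846 := ded_36_2 (flp_d L253022) (flp_g L253004) L367851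
theorem L367856 : sm gc N43500 = N29997 := ded_27_1 (flp_d L254304) L175129 (flp_d L174225) (flp_c L253002) L367851
theorem L367858 : sm gh N43500 = N43500 := ded_38_2 (flp_d L367851) (flp_h L252999) L174217 L252999 L367851
theorem L367859 : sm gh N29844 = N43501 := rfl
theorem L367861 : sm ga N43501 = N29845 := ded_17_1 (flp_h L253015) (flp_a L253008) L367859
theorem L367864 : sm gf N43501 = N31635 := ded_47_1 (flp_h L268059) (flp_f L253012) L367859
theorem L367867 : sm gd N29845 = N43502 := rfl
theorem L367869 : sm gb N43502 = N29846 := ded_20_1 (flp_d L253022) (flp_b L253017) L367867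
theorem L367871 : sm gf N43502 = N31636 := ded_35_2 (flp_d L268066) (flp_f L253019) L367867
theorem L367875 : sm ge N29846 = N43503 := rfl
theorem L367878 : sm gc N43503 = N30000 := ded_28_1 (flp_e L254327) (flp_c L253028) L367875
theorem L367898 : sm gh N29847 = N43506 := rfl
theorem L367901 : sm gc N43506 = N29851 := ded_32_1 (flp_h L253065) (flp_c L253034) L367898
theorem L367904 : sm gg N43506 = N29848 := ded_50_1 (flp_h L253038) L253031 L367898
theorem L367922 : sm ge N29849 = N43509 := rfl
theorem L367925 : sm gb N43509 = N29872 := ded_21_1 (flp_e L253260) (flp_b L253050) L367922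
theorem L367949 : sm gh N29850 = N43512 := rfl
theorem L367952 : sm gb N43512 = N29875 := ded_25_1 (flp_h L253284) (flp_b L253059) L367949
theorem L367993 : sm gi N29852 = N43517 := rfl
theorem L367998 : sm gd N43517 = N29853 := ded_39_1 (flp_i L253083) L253073 L367993
theorem L368000 : sm gf N43517 = N31650 := ded_48_1 (flp_i L268177) (flp_f L253078) L367993
theorem L368003 : sm gg N29854 = N43518 := rfl
theorem L368006 : sm gb N43518 = N29881 := ded_23_1 (flp_g L253334) (flp_b L253095) L368003
theorem L368033 : sm gi N29855 = N43521 := rfl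
theorem L368042 : sm gg N43521 = N31654 := ded_51_1 (flp_i L268212) (flp_g L253110) L368033
theorem L368078 : sm gi N29857 = N43526 := rfl
theorem L368081 : sm gb N43526 = N29889 := ded_26_1 (flp_i L253408) (flp_b L253126) L368078
theorem L368085 : sm gg N43526 = N29861 := ded_51_1 (flp_i L253156) (flp_g L253128) L368078
theorem L368149 : sm gi N29862 = N43534 := rfl
theorem L368154 : sm gd N43534 = N29863 := ded_39_1 (flp_i L253176) L253166 L368149
theorem L368250 : sm gj N29872 = N43545 := rfl
theorem L368252 : sm ga N43545 = N29915 := ded_16_1 (flp_j L253644) (flp_a L253262) L368250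
theorem L368254 : sm gd N43545 = N43545 := ded_37_1 (flp_j L368250) L253266 L368250
theorem L368255 : sm ge N43545 = N29873 := ded_42_1 (flp_j L253268) L253260 L368250
theorem L368257 : sm gf N43545 = N43545 := ded_46_1 (flp_j L368250) L253267 L368250
theorem L368258 : sm gh N29872 = N43546 := rfl
theorem L368260 : sm ga N43546 = N29916 := ded_17_1 (flp_h L253651) (flp_a L253262) L368258
theorem L368262 : sm ge N43546 = N29874 := ded_43_1 (flp_h L253276) L253260 L368258
theorem L368264 : sm gf N43546 = N43546 := ded_47_1 (flp_h L368258) L253267 L368258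
theorem L368265 : sm gg N43546 = N31663 := ded_50_1 (flp_h L268289) (flp_g L253264) L368258
theorem L368267 : sm gg N29873 = N43547 := rfl
theorem L368269 : sm ga N43547 = N29917 := ded_15_1 (flp_g L253659) (flp_a L253270) L368267
theorem L368271 : sm gd N43547 = N29881 := ded_36_1 (flp_g L253334) (flp_d L253272) L368267
theorem L368273 : sm gf N43547 = N43547 := ded_45_1 (flp_g L368267) L253274 L174411 (flp_f L253274) L368267
theorem L368276 : sm gh N29873 = N43548 := rfl
theorem L368278 : sm ga N43548 = N29918 := ded_17_1 (flp_h L253667) (flp_a L253270) L368276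
theorem L368280 : sm gf N43548 = N29875 := ded_47_1 (flp_h L253284) (flp_f L253274) L368276
theorem L368282 : sm gj N43548 = N29874 := ded_52_1 (flp_h L253276) L253268 L368276
theorem L368294 : sm gi N29874 = N43550 := rfl
theorem L368296 : sm ga N43550 = N29920 := ded_18_1 (flp_i L253683) (flp_a L253278) L368294
theorem L368298 : sm gf N43550 = N29877 := ded_48_1 (flp_i L253300) (flp_f L253280) L368294
theorem L368300 : sm gg N43550 = N31667 := ded_51_1 (flp_i L268320) (flp_g L253282) L368294
theorem L368302 : sm gd N29875 = N43551 := rfl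
theorem L368311 : sm gi N29875 = N43552 := rfl
theorem L368313 : sm ga N43552 = N29922 := ded_18_1 (flp_i L253698) (flp_a L253286) L368311
theorem L368315 : sm ge N43552 = N43552 := ded_44_1 (flp_i L368311) L253288 L368311
theorem L368316 : sm gg N43552 = N43552 := ded_51_1 (flp_i L368311) L253289 L368311
theorem L368317 : sm gj N43552 = N29877 := ded_53_1 (flp_i L253300) (flp_j L253290) L368311
theorem L368319 : sm gc N29876 = N43553 := rfl
theorem L368321 : sm ga N43553 = N29923 := ded_11_1 (flp_c L253705) (flp_a L253294) L368319
theorem L368323 : sm gg N43553 = N29878 := ded_30_2 (flp_c L253307) (flp_g L253296) L368319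
theorem L368351 : sm ge N29878 = N43557 := rfl
theorem L368355 : sm gc N43557 = N29879 := ded_28_1 (flp_e L253316) L253307 L368351
theorem L368388 : sm gh N29881 = N43561 := rfl
theorem L368390 : sm ga N43561 = N29931 := ded_17_1 (flp_h L253765) (flp_a L253336) L368388
theorem L368392 : sm gc N43561 = N29901 := ded_32_1 (flp_h L253516) (flp_c L253338) L368388
theorem L368396 : sm gg N43561 = N29882 := ded_50_1 (flp_h L253344) L253334 L368388
theorem L368400 : sm gd N29882 = N43562 := rfl
theorem L368402 : sm ga N43562 = N29932 := ded_12_1 (flp_d L253776) (flp_a L253346) L368400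
theorem L368408 : sm gi N29882 = N43563 := rfl
theorem L368415 : sm gf N43563 = N29886 := ded_48_1 (flp_i L253381) (flp_f L253351) L368408
theorem L368446 : sm gc N29885 = N43567 := rfl
theorem L368448 : sm ga N43567 = N29937 := ded_11_1 (flp_c L253816) (flp_a L253376) L368446
theorem L368453 : sm gd N43567 = N29907 := ded_27_2 (flp_c L253574) (flp_d L174603) (flp_c L174460) L253374 L368446
theorem L368505 : sm gi N29888 = N43574 := rfl
theorem L368511 : sm ge N43574 = N29889 := ded_44_1 (flp_i L253408) L253400 L368505
theorem L368521 : sm ga N29890 = N43576 := rfl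
theorem L368523 : sm gd N43576 = N29912 := ded_12_2 (flp_a L253616) (flp_d L253418) L368521
theorem L368528 : sm gb N43576 = N29946 := ded_10_2 (flp_a L253881) (flp_b L174801) (flp_a L174485) L253416 L368521
theorem L368537 : sm gi N29890 = N43578 := rfl
theorem L368543 : sm gf N43578 = N31687 := ded_48_1 (flp_i L268489) (flp_f L253420) L368537
theorem L368629 : sm gd N29901 = N43588 := rfl
theorem L368631 : sm ga N43588 = N29958 := ded_12_1 (flp_d L253979) (flp_a L253518) L368629
theorem L368633 : sm gb N43588 = N43588 := ded_20_1 (flp_d L368629) L253520 L368629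
theorem L368634 : sm gf N43588 = N43588 := ded_35_2 (flp_d L368629) L253522 L368629
theorem L368635 : sm gg N43588 = N29902 := ded_36_2 (flp_d L253527) (flp_g L253523) L368629
theorem L368637 : sm gj N43588 = N31689 := ded_37_2 (flp_d L268505) (flp_j L253525) L368629
theorem L368639 : sm gi N29901 = N43589 := rfl
theorem L368641 : sm ga N43589 = N29959 := ded_18_1 (flp_i L253988) (flp_a L253518) L368639
theorem L368650 : sm gc N29902 = N43590 := rfl
theorem L368652 : sm ga N43590 = N29960 := ded_11_1 (flp_c L253998) (flp_a L253529) L368650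
theorem L368654 : sm gf N43590 = N29907 := ded_29_2 (flp_c L253574) (flp_f L253532) L368650
theorem L368656 : sm gj N43590 = N29904 := ded_31_2 (flp_c L253546) (flp_j L253534) L368650
theorem L368658 : sm ge N29902 = N43591 := rfl
theorem L368660 : sm ga N43591 = N29961 := ded_13_1 (flp_e L254004) (flp_a L253529) L368658
theorem L368662 : sm gb N43591 = N43591 := ded_21_1 (flp_e L368658) L253531 L368658
theorem L368663 : sm gj N43591 = N29905 := ded_42_2 (flp_e L253554) (flp_j L253534) L368658
theorem L368665 : sm gd N43591 = N43591 := ded_34_1 (flp_e L368658) (flp_d L253527) L174579 L253527 L368658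
theorem L368666 : sm gf N43591 = N43591 := ded_40_2 (flp_e L368658) L253532 L174611 (flp_f L253532) L368658
theorem L368667 : sm gi N29902 = N43592 := rfl
theorem L368669 : sm ga N43592 = N29962 := ded_18_1 (flp_i L254012) (flp_a L253529) L368667
theorem L368678 : sm gb N29904 = N43593 := rfl
theorem L368680 : sm gf N43593 = N29909 := ded_22_2 (flp_b L253593) (flp_f L253550) L368678
theorem L368682 : sm gg N43593 = N31694 := ded_23_2 (flp_b L268551) (flp_g L253552) L368678
theorem L368684 : sm gc N43593 = N43593 := ded_19_2 (flp_b L368678) (flp_c L253546) L174588 L253546 L368678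
theorem L368685 : sm ge N29904 = N43594 := rfl
theorem L368687 : sm ga N43594 = N29964 := ded_13_1 (flp_e L254030) (flp_a L253548) L368685
theorem L368689 : sm gc N43594 = N29905 := ded_28_1 (flp_e L253554) L253546 L368685
theorem L368691 : sm gg N43594 = N31695 := ded_41_2 (flp_e L268556) (flp_g L253552) L368685
theorem L368693 : sm gf N43594 = N43594 := ded_40_2 (flp_e L368685) L253550 L174626 (flp_f L253550) L368685
theorem L368694 : sm gi N29904 = N43595 := rfl
theorem L368696 : sm ga N43595 = N29965 := ded_18_1 (flp_i L254037) (flp_a L253548) L368694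
theorem L368700 : sm gf N43595 = N29910 := ded_48_1 (flp_i L253599) (flp_f L253550) L368694
theorem L368704 : sm gi N29905 = N43596 := rfl
theorem L368706 : sm ga N43596 = N29966 := ded_18_1 (flp_i L254045) (flp_a L253556) L368704
theorem L368710 : sm ge N43596 = N29906 := ded_44_1 (flp_i L253563) L253554 L368704
theorem L368724 : sm gb N29907 = N43598 := rfl
theorem L368728 : sm gj N43598 = N29909 := ded_24_2 (flp_b L253593) (flp_j L253580) L368724
theorem L368731 : sm gi N29907 = N43599 := rfl
theorem L368739 : sm gj N43599 = N29910 := ded_53_1 (flp_i L253599) (flp_j L253580) L368731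
theorem L368741 : sm gh N29908 = N43600 := rfl
theorem L368743 : sm ga N43600 = N29970 := ded_17_1 (flp_h L254079) (flp_a L253584) L368741
theorem L368750 : sm ga N29909 = N43601 := rfl
theorem L368752 : sm gc N43601 = N43601 := ded_11_2 (flp_a L368750) L253598 L368750
theorem L368753 : sm ge N43601 = N43601 := ded_13_2 (flp_a L368750) L253595 L368750
theorem L368754 : sm gg N43601 = N29912 := ded_15_2 (flp_a L253616) (flp_g L253596) L368750
theorem L368756 : sm gb N43601 = N29971 := ded_10_2 (flp_a L254087) (flp_b L174957) (flp_a L174624) L253593 L368750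
theorem L368758 : sm gi N29909 = N43602 := rfl
theorem L368760 : sm gb N43602 = N29910 := ded_26_1 (flp_i L253599) L253593 L368758
theorem L368795 : sm gd N29914 = N43606 := rfl
theorem L368797 : sm ga N43606 = N29976 := ded_12_1 (flp_d L254130) (flp_a L253636) L368795
theorem L368802 : sm gg N29915 = N43607 := rfl
theorem L368804 : sm gb N43607 = N43607 := ded_23_1 (flp_g L368802) L253646 L368802
theorem L368805 : sm gd N43607 = N43607 := ded_36_1 (flp_g L368802) L253647 L368802
theorem L368806 : sm ge N43607 = N29917 := ded_41_1 (flp_g L253659) (flp_e L253648) L368802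
theorem L368808 : sm gj N43607 = N31708 := ded_49_2 (flp_g L268669) (flp_j L184841) (flp_g L174668) L253644 L368802
theorem L368810 : sm gh N29915 = N43608 := rfl
theorem L368812 : sm gb N43608 = N43608 := ded_25_1 (flp_h L368810) L253646 L368810
theorem L368813 : sm ge N43608 = N29918 := ded_43_1 (flp_h L253667) (flp_e L253648) L368810
theorem L368815 : sm gf N43608 = N43608 := ded_47_1 (flp_h L368810) L253650 L368810
theorem L368816 : sm gj N43608 = N29916 := ded_52_1 (flp_h L253651) L253644 L368810
theorem L368818 : sm gd N29916 = N43609 := rfl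
theorem L368820 : sm gb N43609 = N43609 := ded_20_1 (flp_d L368818) L253653 L368818
theorem L368821 : sm gf N43609 = N43609 := ded_35_2 (flp_d L368818) L253656 L368818
theorem L368822 : sm gg N43609 = N31710 := ded_36_2 (flp_d L268684) (flp_g L253657) L368818
theorem L368824 : sm gh N43609 = N43609 := ded_38_2 (flp_d L368818) (flp_h L253651) L174670 L253651 L368818
theorem L368825 : sm gi N29916 = N43610 := rfl
theorem L368827 : sm gb N43610 = N43610 := ded_26_1 (flp_i L368825) L253653 L368825
theorem L368828 : sm ge N43610 = N29920 := ded_44_1 (flp_i L253683) (flp_e L253654) L368825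
theorem L368830 : sm gf N43610 = N43610 := ded_48_1 (flp_i L368825) L253656 L368825
theorem L368831 : sm gg N43610 = N31711 := ded_51_1 (flp_i L268690) (flp_g L253657) L368825
theorem L368833 : sm gh N29917 = N43611 := rfl
theorem L368835 : sm gb N43611 = N43611 := ded_25_1 (flp_h L368833) L253661 L368833
theorem L368836 : sm gf N43611 = N43611 := ded_47_1 (flp_h L368833) L253664 L368833
theorem L368837 : sm gg N43611 = N29918 := ded_50_1 (flp_h L253667) L253659 L368833
theorem L368839 : sm gj N43611 = N31712 := ded_52_1 (flp_h L268697) (flp_j L253665) L368833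
theorem L368841 : sm gd N29918 = N43612 := rfl
theorem L368843 : sm gb N43612 = N43612 := ded_20_1 (flp_d L368841) L253669 L368841
theorem L368844 : sm gf N43612 = N29921 := ded_35_2 (flp_d L253690) (flp_f L253670) L368841
theorem L368846 : sm gj N43612 = N29919 := ded_37_2 (flp_d L253674) (flp_j L253672) L368841
theorem L368848 : sm gh N43612 = N29932 := ded_38_2 (flp_d L253776) (flp_h L174738) (flp_d L174675) L253667 L368841
theorem L368850 : sm gi N29918 = N43613 := rfl
theorem L368852 : sm gb N43613 = N43613 := ded_26_1 (flp_i L368850) L253669 L368850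
theorem L368853 : sm gf N43613 = N29922 := ded_48_1 (flp_i L253698) (flp_f L253670) L368850
theorem L368855 : sm gj N43613 = N29920 := ded_53_1 (flp_i L253683) (flp_j L253672) L368850
theorem L368857 : sm gc N29919 = N43614 := rfl
theorem L368859 : sm gf N43614 = N29923 := ded_29_2 (flp_c L253705) (flp_f L253677) L368857
theorem L368861 : sm gg N43614 = N31715 := ded_30_2 (flp_c L268719) (flp_g L253679) L368857
theorem L368863 : sm gh N43614 = N29934 := ded_32_2 (flp_c L253793) (flp_h L253681) L368857
theorem L368865 : sm ge N29919 = N43615 := rfl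
theorem L368867 : sm gb N43615 = N43615 := ded_21_1 (flp_e L368865) L253676 L368865
theorem L368868 : sm gg N43615 = N31716 := ded_41_2 (flp_e L268725) (flp_g L253679) L368865
theorem L368870 : sm gh N43615 = N29935 := ded_43_2 (flp_e L253801) (flp_h L253681) L368865
theorem L368872 : sm gi N29919 = N43616 := rfl
theorem L368874 : sm gb N43616 = N43616 := ded_26_1 (flp_i L368872) L253676 L368872
theorem L368875 : sm gd N43616 = N29920 := ded_39_1 (flp_i L253683) L253674 L368872
theorem L368877 : sm gf N43616 = N29925 := ded_48_1 (flp_i L253719) (flp_f L253677) L368872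
theorem L368879 : sm gg N43616 = N31717 := ded_51_1 (flp_i L268731) (flp_g L253679) L368872
theorem L368881 : sm gc N29921 = N43617 := rfl
theorem L368883 : sm gg N43617 = N43617 := ded_30_2 (flp_c L368881) L253693 L368881
theorem L368884 : sm gj N43617 = N29923 := ded_31_2 (flp_c L253705) (flp_j L253694) L368881
theorem L368886 : sm gh N43617 = N29937 := ded_32_2 (flp_c L253816) (flp_h L253696) L368881
theorem L368888 : sm ge N29921 = N43618 := rfl
theorem L368892 : sm gj N43618 = N29924 := ded_42_2 (flp_e L253711) (flp_j L253694) L368888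
theorem L368894 : sm gh N43618 = N29938 := ded_43_2 (flp_e L253823) (flp_h L253696) L368888
theorem L368897 : sm gi N29921 = N43619 := rfl
theorem L368899 : sm gb N43619 = N43619 := ded_26_1 (flp_i L368897) L253692 L368897
theorem L368900 : sm gd N43619 = N29922 := ded_39_1 (flp_i L253698) L253690 L368897
theorem L368902 : sm gg N43619 = N43619 := ded_51_1 (flp_i L368897) L253693 L368897
theorem L368903 : sm gj N43619 = N29925 := ded_53_1 (flp_i L253719) (flp_j L253694) L368897
theorem L368905 : sm gb N29923 = N43620 := rfl
theorem L368907 : sm gg N43620 = N29926 := ded_23_2 (flp_b L253726) (flp_g L253707) L368905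
theorem L368909 : sm gh N43620 = N29940 := ded_25_2 (flp_b L253839) (flp_h L253709) L368905
theorem L368911 : sm gc N43620 = N43620 := ded_19_2 (flp_b L368905) (flp_c L253705) L174695 L253705 L368905
theorem L368912 : sm ge N29923 = N43621 := rfl
theorem L368914 : sm gc N43621 = N29924 := ded_28_1 (flp_e L253711) L253705 L368912
theorem L368920 : sm gi N29923 = N43622 := rfl
theorem L368922 : sm gc N43622 = N29925 := ded_33_1 (flp_i L253719) L253705 L368920
theorem L368924 : sm gg N43622 = N29928 := ded_51_1 (flp_i L253742) (flp_g L253707) L368920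
theorem L368926 : sm gf N29924 = N43623 := rfl
theorem L368930 : sm gh N43623 = N29943 := ded_47_2 (flp_f L253861) (flp_h L253716) L368926
theorem L368941 : sm gh N29925 = N43625 := rfl
theorem L368944 : sm gg N43625 = N29930 := ded_50_1 (flp_h L253757) (flp_g L253724) L368941
theorem L368946 : sm gi N43625 = N29945 := ded_54_2 (flp_h L253876) (flp_i L174794) (flp_h L174698) L253719 L368941
theorem L368948 : sm ga N29926 = N43626 := rfl
theorem L368950 : sm gc N43626 = N43626 := ded_11_2 (flp_a L368948) L253733 L368948
theorem L368951 : sm gf N43626 = N31723 := ded_14_2 (flp_a L268778) (flp_f L253728) L368948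
theorem L368953 : sm gj N43626 = N43626 := ded_16_2 (flp_a L368948) L253730 L368948
theorem L368954 : sm gh N43626 = N29946 := ded_17_2 (flp_a L253881) (flp_h L253731) L368948
theorem L368956 : sm ge N29926 = N43627 := rfl
theorem L368962 : sm gh N43627 = N29947 := ded_43_2 (flp_e L253889) (flp_h L253731) L368956
theorem L368965 : sm gi N29926 = N43628 := rfl
theorem L368967 : sm gb N43628 = N29928 := ded_26_1 (flp_i L253742) L253726 L368965
theorem L368969 : sm gc N43628 = N43628 := ded_33_1 (flp_i L368965) L253733 L368965
theorem L368970 : sm gf N43628 = N31724 := ded_48_1 (flp_i L268785) (flp_f L253728) L368965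
theorem L368972 : sm gj N43628 = N43628 := ded_53_1 (flp_i L368965) L253730 L368965
theorem L368987 : sm gh N29928 = N43631 := rfl
theorem L368989 : sm gc N43631 = N29930 := ded_32_1 (flp_h L253757) (flp_c L253744) L368987
theorem L369005 : sm gd N29931 = N43633 := rfl
theorem L369007 : sm gb N43633 = N43633 := ded_20_1 (flp_d L369005) L253767 L369005
theorem L369008 : sm gf N43633 = N43633 := ded_35_2 (flp_d L369005) L253771 L369005
theorem L369009 : sm gg N43633 = N29932 := ded_36_2 (flp_d L253776) (flp_g L253772) L369005
theorem L369011 : sm gj N43633 = N31726 := ded_37_2 (flp_d L268800) (flp_j L253774) L369005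
theorem L369013 : sm gi N29931 = N43634 := rfl
theorem L369016 : sm gc N43634 = N29959 := ded_33_1 (flp_i L253988) (flp_c L253768) L369013
theorem L369024 : sm gc N29932 = N43635 := rfl
theorem L369026 : sm gf N43635 = N29937 := ded_29_2 (flp_c L253816) (flp_f L253779) L369024
theorem L369028 : sm gj N43635 = N29934 := ded_31_2 (flp_c L253793) (flp_j L253781) L369024
theorem L369030 : sm gd N43635 = N29960 := ded_27_2 (flp_c L253998) (flp_d L174900) (flp_c L174741) L253776 L369024
theorem L369032 : sm ge N29932 = N43636 := rfl
theorem L369038 : sm gi N29932 = N43637 := rfl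
theorem L369043 : sm gf N43637 = N29939 := ded_48_1 (flp_i L253831) (flp_f L253779) L369038
theorem L369047 : sm gb N29934 = N43638 := rfl
theorem L369049 : sm gd N43638 = N29963 := ded_20_2 (flp_b L254022) (flp_d L253799) L369047
theorem L369051 : sm gf N43638 = N29940 := ded_22_2 (flp_b L253839) (flp_f L253795) L369047
theorem L369053 : sm gg N43638 = N31731 := ded_23_2 (flp_b L268839) (flp_g L253797) L369047
theorem L369055 : sm gc N43638 = N43638 := ded_19_2 (flp_b L369047) (flp_c L253793) L174750 L253793 L369047
theorem L369056 : sm ge N29934 = N43639 := rfl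
theorem L369058 : sm gc N43639 = N29935 := ded_28_1 (flp_e L253801) L253793 L369056
theorem L369060 : sm gg N43639 = N31732 := ded_41_2 (flp_e L268846) (flp_g L253797) L369056
theorem L369062 : sm gi N29934 = N43640 := rfl
theorem L369066 : sm gd N43640 = N29965 := ded_39_1 (flp_i L254037) (flp_d L253799) L369062
theorem L369068 : sm gf N43640 = N29942 := ded_48_1 (flp_i L253853) (flp_f L253795) L369062
theorem L369079 : sm gi N29935 = N43642 := rfl
theorem L369094 : sm gb N29937 = N43644 := rfl
theorem L369096 : sm gd N43644 = N29968 := ded_20_2 (flp_b L254063) (flp_d L253821) L369094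
theorem L369098 : sm gg N43644 = N43644 := ded_23_2 (flp_b L369094) L253818 L369094
theorem L369099 : sm gj N43644 = N29940 := ded_24_2 (flp_b L253839) (flp_j L253819) L369094
theorem L369101 : sm gc N43644 = N43644 := ded_19_2 (flp_b L369094) (flp_c L253816) L174767 L253816 L369094
theorem L369102 : sm ge N29937 = N43645 := rfl
theorem L369104 : sm gc N43645 = N29938 := ded_28_1 (flp_e L253823) L253816 L369102
theorem L369110 : sm gi N29937 = N43646 := rfl
theorem L369112 : sm gc N43646 = N29939 := ded_33_1 (flp_i L253831) L253816 L369110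
theorem L369126 : sm gi N29938 = N43648 := rfl
theorem L369131 : sm ge N43648 = N29939 := ded_44_1 (flp_i L253831) L253823 L369126
theorem L369142 : sm ga N29940 = N43650 := rfl
theorem L369144 : sm gc N43650 = N43650 := ded_11_2 (flp_a L369142) L253845 L369142
theorem L369145 : sm gd N43650 = N29971 := ded_12_2 (flp_a L254087) (flp_d L253841) L369142
theorem L369147 : sm gg N43650 = N29946 := ded_15_2 (flp_a L253881) (flp_g L253843) L369142
theorem L369157 : sm gi N29940 = N43652 := rfl
theorem L369162 : sm gd N43652 = N29972 := ded_39_1 (flp_i L254094) (flp_d L253841) L369157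
theorem L369187 : sm gi N29943 = N43656 := rfl
theorem L369190 : sm gd N43656 = N29955 := ded_39_1 (flp_i L253956) (flp_d L253864) L369187
theorem L369202 : sm ge N29946 = N43658 := rfl
theorem L369204 : sm ga N43658 = N29947 := ded_13_1 (flp_e L253889) L253881 L369202
theorem L369210 : sm gi N29946 = N43659 := rfl
theorem L369212 : sm ga N43659 = N29948 := ded_18_1 (flp_i L253897) L253881 L369210
theorem L369215 : sm gd N43659 = N29974 := ded_39_1 (flp_i L254110) (flp_d L253884) L369210
theorem L369217 : sm gf N43659 = N31742 := ded_48_1 (flp_i L268922) (flp_f L253886) L369210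
theorem L369220 : sm gi N29947 = N43660 := rfl
theorem L369226 : sm ge N43660 = N29948 := ded_44_1 (flp_i L253897) L253889 L369220
theorem L369246 : sm gd N29950 = N43663 := rfl
theorem L369251 : sm gh N43663 = N29976 := ded_38_2 (flp_d L254130) (flp_h L174996) (flp_d L174820) L253916 L369246
theorem L369277 : sm gh N29953 = N43667 := rfl
theorem L369281 : sm ge N43667 = N29954 := ded_43_1 (flp_h L253947) (flp_e L253942) L369277
theorem L369284 : sm gj N43667 = N29956 := ded_52_1 (flp_h L253964) (flp_j L253945) L369277
theorem L369287 : sm gh N29955 = N43668 := rfl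
theorem L369292 : sm gf N43668 = N29956 := ded_47_1 (flp_h L253964) (flp_f L253961) L369287
theorem L369308 : sm gc N29958 = N43671 := rfl
theorem L369310 : sm gf N43671 = N43671 := ded_29_2 (flp_c L369308) L253983 L369308
theorem L369311 : sm gg N43671 = N29960 := ded_30_2 (flp_c L253998) (flp_g L253984) L369308
theorem L369313 : sm gj N43671 = N31745 := ded_31_2 (flp_c L268943) (flp_j L253986) L369308
theorem L369315 : sm ge N29958 = N43672 := rfl
theorem L369317 : sm gb N43672 = N29978 := ded_21_1 (flp_e L254144) (flp_b L253981) L369315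
theorem L369319 : sm gg N43672 = N29961 := ded_41_2 (flp_e L254004) (flp_g L253984) L369315
theorem L369323 : sm gd N43672 = N43672 := ded_34_1 (flp_e L369315) (flp_d L253979) L174894 L253979 L369315
theorem L369324 : sm gi N29958 = N43673 := rfl
theorem L369326 : sm gb N43673 = N29979 := ded_26_1 (flp_i L254152) (flp_b L253981) L369324
theorem L369328 : sm gd N43673 = N29959 := ded_39_1 (flp_i L253988) L253979 L369324
theorem L369330 : sm gf N43673 = N43673 := ded_48_1 (flp_i L369324) L253983 L369324
theorem L369331 : sm gg N43673 = N29962 := ded_51_1 (flp_i L254012) (flp_g L253984) L369324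
theorem L369333 : sm gj N43673 = N31747 := ded_53_1 (flp_i L268955) (flp_j L253986) L369324
theorem L369335 : sm gb N29960 = N43674 := rfl
theorem L369337 : sm gf N43674 = N29968 := ded_22_2 (flp_b L254063) (flp_f L254000) L369335
theorem L369339 : sm gj N43674 = N29963 := ded_24_2 (flp_b L254022) (flp_j L254002) L369335
theorem L369341 : sm gc N43674 = N29980 := ded_19_2 (flp_b L254162) (flp_c L175022) (flp_b L174902) L253998 L369335
theorem L369343 : sm ge N29960 = N43675 := rfl
theorem L369345 : sm gc N43675 = N29961 := ded_28_1 (flp_e L254004) L253998 L369343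
theorem L369347 : sm gj N43675 = N29964 := ded_42_2 (flp_e L254030) (flp_j L254002) L369343
theorem L369349 : sm gf N43675 = N43675 := ded_40_2 (flp_e L369343) L254000 L174943 (flp_f L254000) L369343
theorem L369350 : sm gi N29960 = N43676 := rfl
theorem L369352 : sm gc N43676 = N29962 := ded_33_1 (flp_i L254012) L253998 L369350
theorem L369354 : sm gf N43676 = N29969 := ded_48_1 (flp_i L254071) (flp_f L254000) L369350
theorem L369356 : sm gj N43676 = N29965 := ded_53_1 (flp_i L254037) (flp_j L254002) L369350
theorem L369358 : sm gi N29961 = N43677 := rfl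
theorem L369360 : sm gb N43677 = N29983 := ded_26_1 (flp_i L254187) (flp_b L254006) L369358
theorem L369362 : sm gd N43677 = N43677 := ded_39_1 (flp_i L369358) L254010 L369358
theorem L369363 : sm ge N43677 = N29962 := ded_44_1 (flp_i L254012) L254004 L369358
theorem L369365 : sm gf N43677 = N43677 := ded_48_1 (flp_i L369358) L254011 L369358
theorem L369366 : sm gj N43677 = N29966 := ded_53_1 (flp_i L254045) (flp_j L254008) L369358
theorem L369368 : sm gh N29962 = N43678 := rfl
theorem L369370 : sm gb N43678 = N29984 := ded_25_1 (flp_h L254196) (flp_b L254014) L369368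
theorem L369372 : sm gf N43678 = N29970 := ded_47_1 (flp_h L254079) (flp_f L254018) L369368
theorem L369374 : sm gj N43678 = N29967 := ded_52_1 (flp_h L254055) (flp_j L254020) L369368
theorem L369376 : sm ga N29963 = N43679 := rfl
theorem L369378 : sm gc N43679 = N29985 := ded_11_2 (flp_a L254203) (flp_c L254028) L369376
theorem L369380 : sm gf N43679 = N29971 := ded_14_2 (flp_a L254087) (flp_f L254024) L369376
theorem L369382 : sm gg N43679 = N31753 := ded_15_2 (flp_a L269007) (flp_g L254026) L369376
theorem L369384 : sm ge N29963 = N43680 := rfl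
theorem L369386 : sm gb N43680 = N29964 := ded_21_1 (flp_e L254030) L254022 L369384
theorem L369388 : sm gc N43680 = N29986 := ded_28_1 (flp_e L254211) (flp_c L254028) L369384
theorem L369390 : sm gg N43680 = N31754 := ded_41_2 (flp_e L269013) (flp_g L254026) L369384
theorem L369392 : sm gf N43680 = N43680 := ded_40_2 (flp_e L369384) L254024 L174959 (flp_f L254024) L369384
theorem L369393 : sm gi N29963 = N43681 := rfl
theorem L369395 : sm gb N43681 = N29965 := ded_26_1 (flp_i L254037) L254022 L369393
theorem L369397 : sm gc N43681 = N29987 := ded_33_1 (flp_i L254218) (flp_c L254028) L369393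
theorem L369399 : sm gf N43681 = N29972 := ded_48_1 (flp_i L254094) (flp_f L254024) L369393
theorem L369401 : sm gg N43681 = N31755 := ded_51_1 (flp_i L269021) (flp_g L254026) L369393
theorem L369403 : sm gd N29964 = N43682 := rfl
theorem L369405 : sm gf N43682 = N43682 := ded_35_2 (flp_d L369403) L254036 L369403
theorem L369406 : sm gg N43682 = N31756 := ded_36_2 (flp_d L269029) (flp_g L254034) L369403
theorem L369408 : sm gc N43682 = N43682 := ded_27_1 (flp_d L369403) L254032 L174929 (flp_c L254032) L369403
theorem L369409 : sm gi N29964 = N43683 := rfl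
theorem L369411 : sm gc N43683 = N29966 := ded_33_1 (flp_i L254045) (flp_c L254032) L369409
theorem L369413 : sm ge N43683 = N29965 := ded_44_1 (flp_i L254037) L254030 L369409
theorem L369415 : sm gf N43683 = N43683 := ded_48_1 (flp_i L369409) L254036 L369409
theorem L369416 : sm gg N43683 = N31757 := ded_51_1 (flp_i L269034) (flp_g L254034) L369409
theorem L369418 : sm gh N29965 = N43684 := rfl
theorem L369420 : sm gc N43684 = N29967 := ded_32_1 (flp_h L254055) (flp_c L254039) L369418
theorem L369422 : sm gf N43684 = N29973 := ded_47_1 (flp_h L254103) (flp_f L254041) L369418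
theorem L369424 : sm gg N43684 = N31758 := ded_50_1 (flp_h L269042) (flp_g L254043) L369418
theorem L369426 : sm gh N29966 = N43685 := rfl
theorem L369428 : sm gb N43685 = N29991 := ded_25_1 (flp_h L254254) (flp_b L254047) L369426
theorem L369430 : sm ge N43685 = N29967 := ded_43_1 (flp_h L254055) (flp_e L254050) L369426
theorem L369432 : sm gf N43685 = N43685 := ded_47_1 (flp_h L369426) L254052 L369426
theorem L369433 : sm gg N43685 = N31759 := ded_50_1 (flp_h L269048) (flp_g L254053) L369426
theorem L369435 : sm ga N29968 = N43686 := rfl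
theorem L369437 : sm gc N43686 = N29992 := ded_11_2 (flp_a L254262) (flp_c L254069) L369435
theorem L369439 : sm ge N43686 = N43686 := ded_13_2 (flp_a L369435) L254065 L369435
theorem L369440 : sm gg N43686 = N43686 := ded_15_2 (flp_a L369435) L254066 L369435
theorem L369441 : sm gj N43686 = N29971 := ded_16_2 (flp_a L254087) (flp_j L254067) L369435
theorem L369443 : sm gi N29968 = N43687 := rfl
theorem L369445 : sm gb N43687 = N29969 := ded_26_1 (flp_i L254071) L254063 L369443
theorem L369447 : sm gc N43687 = N29993 := ded_33_1 (flp_i L254270) (flp_c L254069) L369443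
theorem L369449 : sm ge N43687 = N43687 := ded_44_1 (flp_i L369443) L254065 L369443
theorem L369450 : sm gg N43687 = N43687 := ded_51_1 (flp_i L369443) L254066 L369443
theorem L369451 : sm gj N43687 = N29972 := ded_53_1 (flp_i L254094) (flp_j L254067) L369443
theorem L369453 : sm gh N29969 = N43688 := rfl
theorem L369455 : sm gc N43688 = N29970 := ded_32_1 (flp_h L254079) (flp_c L254073) L369453
theorem L369457 : sm ge N43688 = N43688 := ded_43_1 (flp_h L369453) L254075 L369453
theorem L369458 : sm gg N43688 = N43688 := ded_50_1 (flp_h L369453) L254076 L369453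
theorem L369459 : sm gj N43688 = N29973 := ded_52_1 (flp_h L254103) (flp_j L254077) L369453
theorem L369461 : sm gi N29971 = N43689 := rfl
theorem L369463 : sm ga N43689 = N29972 := ded_18_1 (flp_i L254094) L254087 L369461
theorem L369465 : sm gc N43689 = N29995 := ded_33_1 (flp_i L254288) (flp_c L254089) L369461
theorem L369467 : sm ge N43689 = N43689 := ded_44_1 (flp_i L369461) L254091 L369461
theorem L369468 : sm gg N43689 = N29974 := ded_51_1 (flp_i L254110) (flp_g L254092) L369461
theorem L369470 : sm gh N29972 = N43690 := rfl
theorem L369472 : sm gb N43690 = N29973 := ded_25_1 (flp_h L254103) (flp_b L254096) L369470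
theorem L369474 : sm gc N43690 = N29996 := ded_32_1 (flp_h L254297) (flp_c L254098) L369470
theorem L369476 : sm ge N43690 = N43690 := ded_43_1 (flp_h L369470) L254100 L369470
theorem L369477 : sm gg N43690 = N29975 := ded_50_1 (flp_h L254120) (flp_g L254101) L369470
theorem L369479 : sm gd N29973 = N43691 := rfl
theorem L369481 : sm gg N43691 = N29976 := ded_36_2 (flp_d L254130) (flp_g L254108) L369479
theorem L369483 : sm gh N29974 = N43692 := rfl
theorem L369485 : sm ga N43692 = N29975 := ded_17_1 (flp_h L254120) (flp_a L254112) L369483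
theorem L369487 : sm gc N43692 = N29998 := ded_32_1 (flp_h L254310) (flp_c L254114) L369483
theorem L369489 : sm ge N43692 = N43692 := ded_43_1 (flp_h L369483) L254116 L369483
theorem L369490 : sm gf N43692 = N31766 := ded_47_1 (flp_h L269109) (flp_f L254117) L369483
theorem L369492 : sm gj N43692 = N43692 := ded_52_1 (flp_h L369483) L254119 L369483
theorem L369493 : sm gd N29975 = N43693 := rfl
theorem L369495 : sm gb N43693 = N29976 := ded_20_1 (flp_d L254130) (flp_b L254122) L369493
theorem L369497 : sm gf N43693 = N31767 := ded_35_2 (flp_d L269118) (flp_f L254127) L369493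
theorem L369499 : sm gj N43693 = N43693 := ded_37_2 (flp_d L369493) L254129 L369493
theorem L369500 : sm ge N29976 = N43694 := rfl
theorem L369502 : sm gj N43694 = N43694 := ded_42_2 (flp_e L369500) L254134 L369500
theorem L369503 : sm gd N43694 = N43694 := ded_34_1 (flp_e L369500) (flp_d L254130) L175000 L254130 L369500
theorem L369504 : sm gb N29977 = N43695 := rfl
theorem L369508 : sm gg N43695 = N29980 := ded_23_2 (flp_b L254162) (flp_g L254139) L369504
theorem L369510 : sm gj N43695 = N31769 := ded_24_2 (flp_b L269128) (flp_j L254141) L369504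
theorem L369512 : sm ge N29977 = N43696 := rfl
theorem L369515 : sm gc N43696 = N29978 := ded_28_1 (flp_e L254144) L254135 L369512
theorem L369521 : sm gi N29977 = N43697 := rfl
theorem L369524 : sm gc N43697 = N29979 := ded_33_1 (flp_i L254152) L254135 L369521
theorem L369528 : sm gg N43697 = N29982 := ded_51_1 (flp_i L254177) (flp_g L254139) L369521
theorem L369532 : sm gf N29978 = N43698 := rfl
theorem L369536 : sm gj N43698 = N31772 := ded_46_2 (flp_f L269150) (flp_j L254149) L369532
theorem L369540 : sm gi N29978 = N43699 := rfl
theorem L369544 : sm ge N43699 = N29979 := ded_44_1 (flp_i L254152) L254144 L369540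
theorem L369546 : sm gg N43699 = N29983 := ded_51_1 (flp_i L254187) (flp_g L254147) L369540
theorem L369548 : sm gj N43699 = N31773 := ded_53_1 (flp_i L269157) (flp_j L254149) L369540
theorem L369550 : sm gh N29979 = N43700 := rfl
theorem L369554 : sm gg N43700 = N29984 := ded_50_1 (flp_h L254196) (flp_g L254158) L369550
theorem L369556 : sm gj N43700 = N31774 := ded_52_1 (flp_h L269165) (flp_j L254160) L369550
theorem L369558 : sm ga N29980 = N43701 := rfl
theorem L369560 : sm gd N43701 = N43701 := ded_12_2 (flp_a L369558) L254164 L369558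
theorem L369561 : sm gf N43701 = N29992 := ded_14_2 (flp_a L254262) (flp_f L254165) L369558
theorem L369563 : sm gj N43701 = N29985 := ded_16_2 (flp_a L254203) (flp_j L254167) L369558
theorem L369565 : sm gb N43701 = N43701 := ded_10_2 (flp_a L369558) (flp_b L254162) L175024 L254162 L369558
theorem L369566 : sm ge N29980 = N43702 := rfl
theorem L369570 : sm gj N43702 = N29986 := ded_42_2 (flp_e L254211) (flp_j L254167) L369566
theorem L369573 : sm gi N29980 = N43703 := rfl
theorem L369575 : sm gb N43703 = N29982 := ded_26_1 (flp_i L254177) L254162 L369573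
theorem L369578 : sm gf N43703 = N29993 := ded_48_1 (flp_i L254270) (flp_f L254165) L369573
theorem L369580 : sm gj N43703 = N29987 := ded_53_1 (flp_i L254218) (flp_j L254167) L369573
theorem L369600 : sm gh N29982 = N43706 := rfl
theorem L369603 : sm gc N43706 = N29984 := ded_32_1 (flp_h L254196) (flp_c L254180) L369600
theorem L369605 : sm gf N43706 = N29994 := ded_47_1 (flp_h L254279) (flp_f L254183) L369600
theorem L369607 : sm gj N43706 = N29990 := ded_52_1 (flp_h L254245) (flp_j L254185) L369600
theorem L369609 : sm gh N29983 = N43707 := rfl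
theorem L369612 : sm ge N43707 = N29984 := ded_43_1 (flp_h L254196) (flp_e L254191) L369609
theorem L369615 : sm gj N43707 = N29991 := ded_52_1 (flp_h L254254) (flp_j L254194) L369609
theorem L369617 : sm ge N29985 = N43708 := rfl
theorem L369619 : sm ga N43708 = N29986 := ded_13_1 (flp_e L254211) L254203 L369617
theorem L369625 : sm gi N29985 = N43709 := rfl
theorem L369627 : sm ga N43709 = N29987 := ded_18_1 (flp_i L254218) L254203 L369625
theorem L369629 : sm gb N43709 = N43709 := ded_26_1 (flp_i L369625) L254210 L369625
theorem L369630 : sm gd N43709 = N43709 := ded_39_1 (flp_i L369625) L254205 L369625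
theorem L369631 : sm gf N43709 = N29995 := ded_48_1 (flp_i L254288) (flp_f L254206) L369625
theorem L369633 : sm gg N43709 = N31783 := ded_51_1 (flp_i L269241) (flp_g L254208) L369625
theorem L369635 : sm gd N29986 = N43710 := rfl
theorem L369637 : sm gb N43710 = N29988 := ded_20_1 (flp_d L254227) (flp_b L254213) L369635
theorem L369643 : sm gi N29986 = N43711 := rfl
theorem L369645 : sm gb N43711 = N29989 := ded_26_1 (flp_i L254235) (flp_b L254213) L369643
theorem L369647 : sm ge N43711 = N29987 := ded_44_1 (flp_i L254218) L254211 L369643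
theorem L369652 : sm gh N29987 = N43712 := rfl
theorem L369654 : sm gb N43712 = N29990 := ded_25_1 (flp_h L254245) (flp_b L254220) L369652
theorem L369656 : sm gf N43712 = N29996 := ded_47_1 (flp_h L254297) (flp_f L254223) L369652
theorem L369658 : sm gg N43712 = N31786 := ded_50_1 (flp_h L269264) (flp_g L254225) L369652
theorem L369660 : sm gh N29988 = N43713 := rfl
theorem L369666 : sm gg N43713 = N31787 := ded_50_1 (flp_h L269270) (flp_g L254231) L369660
theorem L369668 : sm gi N29988 = N43714 := rfl
theorem L369672 : sm gd N43714 = N29989 := ded_39_1 (flp_i L254235) L254227 L369668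
theorem L369678 : sm gh N29989 = N43715 := rfl
theorem L369681 : sm gc N43715 = N29991 := ded_32_1 (flp_h L254254) (flp_c L254238) L369678
theorem L369688 : sm gd N29990 = N43716 := rfl
theorem L369690 : sm ga N43716 = N43716 := ded_12_1 (flp_d L369688) L254247 L369688
theorem L369691 : sm gf N43716 = N29997 := ded_35_2 (flp_d L254304) (flp_f L254250) L369688
theorem L369693 : sm gg N43716 = N31790 := ded_36_2 (flp_d L269295) (flp_g L254252) L369688
theorem L369695 : sm gh N43716 = N43716 := ded_38_2 (flp_d L369688) (flp_h L254245) L175066 L254245 L369688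
theorem L369696 : sm gd N29991 = N43717 := rfl
theorem L369698 : sm ga N43717 = N43717 := ded_12_1 (flp_d L369696) L254256 L369696
theorem L369699 : sm gf N43717 = N43717 := ded_35_2 (flp_d L369696) L254259 L369696
theorem L369700 : sm gg N43717 = N31791 := ded_36_2 (flp_d L269301) (flp_g L254260) L369696
theorem L369702 : sm gh N43717 = N43717 := ded_38_2 (flp_d L369696) (flp_h L254254) L175074 L254254 L369696
theorem L369703 : sm gi N29992 = N43718 := rfl
theorem L369705 : sm ga N43718 = N29993 := ded_18_1 (flp_i L254270) L254262 L369703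
theorem L369707 : sm gb N43718 = N43718 := ded_26_1 (flp_i L369703) L254269 L369703
theorem L369708 : sm gd N43718 = N43718 := ded_39_1 (flp_i L369703) L254264 L369703
theorem L369709 : sm ge N43718 = N43718 := ded_44_1 (flp_i L369703) L254265 L369703
theorem L369710 : sm gg N43718 = N43718 := ded_51_1 (flp_i L369703) L254266 L369703
theorem L369711 : sm gj N43718 = N29995 := ded_53_1 (flp_i L254288) (flp_j L254267) L369703
theorem L369713 : sm gh N29993 = N43719 := rfl
theorem L369715 : sm gb N43719 = N29994 := ded_25_1 (flp_h L254279) (flp_b L254272) L369713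
theorem L369717 : sm ge N43719 = N43719 := ded_43_1 (flp_h L369713) L254275 L369713
theorem L369718 : sm gg N43719 = N43719 := ded_50_1 (flp_h L369713) L254276 L369713
theorem L369719 : sm gj N43719 = N29996 := ded_52_1 (flp_h L254297) (flp_j L254277) L369713
theorem L369721 : sm gd N29994 = N43720 := rfl
theorem L369723 : sm ga N43720 = N43720 := ded_12_1 (flp_d L369721) L254281 L369721
theorem L369724 : sm gg N43720 = N43720 := ded_36_2 (flp_d L369721) L254285 L369721
theorem L369725 : sm gj N43720 = N29997 := ded_37_2 (flp_d L254304) (flp_j L254286) L369721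
theorem L369727 : sm gh N43720 = N43720 := ded_38_2 (flp_d L369721) (flp_h L254279) L175099 L254279 L369721
theorem L369728 : sm gh N29995 = N43721 := rfl
theorem L369730 : sm ga N43721 = N29996 := ded_17_1 (flp_h L254297) (flp_a L254290) L369728
theorem L369732 : sm gb N43721 = N43721 := ded_25_1 (flp_h L369728) L254292 L369728
theorem L369733 : sm ge N43721 = N43721 := ded_43_1 (flp_h L369728) L254294 L369728
theorem L369734 : sm gg N43721 = N29998 := ded_50_1 (flp_h L254310) (flp_g L254295) L369728
theorem L369736 : sm gd N29996 = N43722 := rfl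
theorem L369738 : sm gb N43722 = N29997 := ded_20_1 (flp_d L254304) (flp_b L254299) L369736
theorem L369740 : sm gg N43722 = N29999 := ded_36_2 (flp_d L254319) (flp_g L254302) L369736
theorem L369742 : sm gh N43722 = N43722 := ded_38_2 (flp_d L369736) (flp_h L254297) L175122 L254297 L369736
theorem L369743 : sm ge N29997 = N43723 := rfl
theorem L369745 : sm ga N43723 = N43723 := ded_13_1 (flp_e L369743) L254306 L369743
theorem L369746 : sm gg N43723 = N30000 := ded_41_2 (flp_e L254327) (flp_g L254307) L369743
theorem L369748 : sm gh N43723 = N43723 := ded_43_2 (flp_e L369743) L254309 L369743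
theorem L369749 : sm gd N43723 = N43723 := ded_34_1 (flp_e L369743) (flp_d L254304) L175131 L254304 L369743
theorem L369750 : sm gd N29998 = N43724 := rfl
theorem L369752 : sm ga N43724 = N29999 := ded_12_1 (flp_d L254319) (flp_a L254312) L369750
theorem L369755 : sm gf N43724 = N31798 := ded_35_2 (flp_d L269358) (flp_f L254316) L369750
theorem L369759 : sm gc N29999 = N43725 := rfl
theorem L369761 : sm gf N43725 = N31799 := ded_29_2 (flp_c L269365) (flp_f L254323) L369759
theorem L369765 : sm ge N29999 = N43726 := rfl
theorem L369767 : sm gb N43726 = N30000 := ded_21_1 (flp_e L254327) (flp_b L254321) L369765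
theorem L369772 : sm gf N30000 = N43727 := rfl
theorem L369778 : sm ge N43727 = N31801 := ded_40_1 (flp_f L269377) (flp_e L185366) (flp_f L175155) L254327 L369772
theorem L369826 : sm gg N30004 = N43733 := rfl
theorem L369829 : sm gc N43733 = N30005 := ded_30_1 (flp_g L254373) (flp_c L254366) L369826
theorem L369858 : sm gf N30006 = N43736 := rfl
theorem L369863 : sm gc N43736 = N32523 := ded_29_1 (flp_f L275522) (flp_c L254389) L369858
theorem L369868 : sm gc N30007 = N43737 := rfl
theorem L369871 : sm gg N43737 = N30067 := ded_30_2 (flp_c L254938) (flp_g L254400) L369868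
theorem L369877 : sm gd N43737 = N32524 := ded_27_2 (flp_c L275531) (flp_d L189651) (flp_c L175205) L254396 L369868
theorem L369954 : sm gc N30013 = N43746 := rfl
theorem L369959 : sm gg N43746 = N30076 := ded_30_2 (flp_c L255022) (flp_g L254459) L369954
theorem L369963 : sm gd N43746 = N32533 := ded_27_2 (flp_c L275614) (flp_d L189707) (flp_c L175246) L254454 L369954
theorem L369985 : sm gg N30014 = N43749 := rfl
theorem L369993 : sm gh N43749 = N30027 := ded_50_2 (flp_g L254589) (flp_h L254472) L369985
theorem L370022 : sm gg N30016 = N43753 := rfl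
theorem L370024 : sm gb N43753 = N30020 := ded_23_1 (flp_g L254522) (flp_b L254487) L370022
theorem L370029 : sm gf N43753 = N30083 := ded_45_1 (flp_g L255090) (flp_f L175650) (flp_g L175258) L254485 L370022
theorem L370040 : sm gi N30017 = N43755 := rfl
theorem L370042 : sm gb N43755 = N30022 := ded_26_1 (flp_i L254538) (flp_b L254495) L370040
theorem L370044 : sm gd N43755 = N30033 := ded_39_1 (flp_i L254644) (flp_d L254501) L370040
theorem L370078 : sm gj N30020 = N43759 := rfl
theorem L370083 : sm gf N43759 = N30089 := ded_46_1 (flp_j L255146) (flp_f L254528) L370078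
theorem L370087 : sm gh N30020 = N43760 := rfl
theorem L370090 : sm gf N43760 = N30090 := ded_47_1 (flp_h L255154) (flp_f L254528) L370087
theorem L370096 : sm gi N30021 = N43761 := rfl
theorem L370099 : sm gd N43761 = N30039 := ded_39_1 (flp_i L254700) (flp_d L254536) L370096
theorem L370101 : sm gf N43761 = N30022 := ded_48_1 (flp_i L254538) (flp_f L254533) L370096
theorem L370116 : sm gf N30024 = N43763 := rfl
theorem L370122 : sm gd N43763 = N32550 := ded_35_1 (flp_f L275770) (flp_d L254569) L370116
theorem L370125 : sm gi N43763 = N30041 := ded_48_2 (flp_f L254718) (flp_i L254567) L370116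
theorem L370127 : sm gh N30024 = N43764 := rfl
theorem L370129 : sm ga N43764 = N30029 := ded_17_1 (flp_h L254611) (flp_a L254562) L370127
theorem L370136 : sm ge N30025 = N43765 := rfl
theorem L370138 : sm ga N43765 = N30030 := ded_13_1 (flp_e L254619) (flp_a L254573) L370136
theorem L370164 : sm gi N30026 = N43768 := rfl
theorem L370166 : sm ga N43768 = N30033 := ded_18_1 (flp_i L254644) (flp_a L254583) L370164
theorem L370172 : sm gh N43768 = N30046 := ded_54_1 (flp_i L254761) (flp_h L175433) (flp_i L175321) L254581 L370164
theorem L370206 : sm gh N30028 = N43772 := rfl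
theorem L370211 : sm gf N43772 = N30029 := ded_47_1 (flp_h L254611) L254601 L370206
theorem L370259 : sm gh N30031 = N43778 := rfl
theorem L370263 : sm gf N43778 = N30108 := ded_47_1 (flp_h L255323) (flp_f L254635) L370259
theorem L370276 : sm gf N30035 = N43780 := rfl
theorem L370281 : sm gi N43780 = N30058 := ded_48_2 (flp_f L254862) (flp_i L254672) L370276
theorem L370283 : sm ge N43780 = N30110 := ded_40_1 (flp_f L255339) L175833 (flp_f L175387) (flp_e L254670) L370276
theorem L370407 : sm gh N30043 = N43795 := rfl
theorem L370409 : sm ga N43795 = N30054 := ded_17_1 (flp_h L254829) (flp_a L254738) L370407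
theorem L370412 : sm ge N43795 = N30045 := ded_43_1 (flp_h L254752) L254736 L370407
theorem L370458 : sm gh N30048 = N43801 := rfl
theorem L370461 : sm gc N43801 = N30054 := ded_32_1 (flp_h L254829) (flp_c L254785) L370458
theorem L370463 : sm ge N43801 = N30050 := ded_43_1 (flp_h L254797) L254782 L370458
theorem L370494 : sm gi N30050 = N43805 := rfl
theorem L370497 : sm gc N43805 = N30057 := ded_33_1 (flp_i L254854) (flp_c L254800) L370494
theorem L370499 : sm gf N43805 = N30052 := ded_48_1 (flp_i L254814) (flp_f L254802) L370494
theorem L370502 : sm ge N30051 = N43806 := rfl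
theorem L370509 : sm gh N43806 = N32593 := ded_43_2 (flp_e L276170) (flp_h L254812) L370502
theorem L370511 : sm gi N30051 = N43807 := rfl
theorem L370517 : sm gg N43807 = N30137 := ded_51_1 (flp_i L255574) (flp_g L254808) L370511
theorem L370520 : sm gf N30053 = N43808 := rfl
theorem L370525 : sm ge N43808 = N30138 := ded_40_1 (flp_f L255582) L175987 (flp_f L175481) (flp_e L254827) L370520
theorem L370567 : sm gi N30056 = N43814 := rfl
theorem L370569 : sm gb N43814 = N30064 := ded_26_1 (flp_i L254908) (flp_b L254847) L370567
theorem L370572 : sm gf N43814 = N30144 := ded_48_1 (flp_i L255632) (flp_f L254849) L370567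
theorem L370574 : sm gg N43814 = N30057 := ded_51_1 (flp_i L254854) (flp_g L254851) L370567
theorem L370593 : sm gh N30059 = N43817 := rfl
theorem L370597 : sm ge N43817 = N30063 := ded_43_1 (flp_h L254898) (flp_e L254874) L370593
theorem L370600 : sm gj N43817 = N30060 := ded_52_1 (flp_h L254877) L254869 L370593
theorem L370631 : sm gi N30063 = N43822 := rfl
theorem L370636 : sm gf N43822 = N30152 := ded_48_1 (flp_i L255696) (flp_f L254902) L370631
theorem L370651 : sm gf N30065 = N43824 := rfl
theorem L370653 : sm ga N43824 = N30068 := ded_14_1 (flp_f L254948) (flp_a L254919) L370651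
theorem L370658 : sm gj N43824 = N30154 := ded_46_2 (flp_f L255714) (flp_j L254922) L370651
theorem L370716 : sm gh N30068 = N43831 := rfl
theorem L370722 : sm gj N43831 = N30161 := ded_52_1 (flp_h L255773) (flp_j L254954) L370716
theorem L370782 : sm gi N30073 = N43838 := rfl
theorem L370788 : sm gf N43838 = N30074 := ded_48_1 (flp_i L255002) (flp_f L254997) L370782
theorem L370790 : sm gj N43838 = N30168 := ded_53_1 (flp_i L255833) (flp_j L254999) L370782
theorem L370793 : sm gb N30076 = N43839 := rfl
theorem L370795 : sm gd N43839 = N32665 := ded_20_2 (flp_b L276849) (flp_d L255030) L370793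
theorem L370900 : sm gd N30081 = N43850 := rfl
theorem L370902 : sm gj N43850 = N30180 := ded_37_2 (flp_d L255937) (flp_j L255078) L370900
theorem L370906 : sm gh N43850 = N32676 := ded_38_2 (flp_d L276949) (flp_h L190589) (flp_d L175648) L255073 L370900
theorem L370934 : sm gj N30083 = N43854 := rfl
theorem L370941 : sm gg N43854 = N30184 := ded_49_1 (flp_j L255967) (flp_g L176231) (flp_j L175656) L255090 L370934
theorem L370943 : sm gh N30083 = N43855 := rfl
theorem L370947 : sm gg N43855 = N30084 := ded_50_1 (flp_h L255097) L255090 L370943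
theorem L370951 : sm gi N30084 = N43856 := rfl
theorem L370957 : sm gf N43856 = N30085 := ded_48_1 (flp_i L255107) (flp_f L255101) L370951
theorem L370996 : sm gi N30088 = N43861 := rfl
theorem L371002 : sm gj N43861 = N30191 := ded_53_1 (flp_i L256024) (flp_j L255144) L370996
theorem L371005 : sm gh N30089 = N43862 := rfl
theorem L371010 : sm gj N43862 = N30090 := ded_52_1 (flp_h L255154) L255146 L371005
theorem L371012 : sm gd N43862 = N30115 := ded_38_1 (flp_h L255384) L175849 (flp_h L175719) (flp_d L255149) L371005
theorem L371034 : sm gh N30092 = N43865 := rfl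
theorem L371040 : sm gj N43865 = N30195 := ded_52_1 (flp_h L256058) (flp_j L255175) L371034
theorem L371042 : sm ge N30093 = N43866 := rfl
theorem L371044 : sm ga N43866 = N30100 := ded_13_1 (flp_e L255252) (flp_a L255183) L371042
theorem L371046 : sm gc N43866 = N30095 := ded_28_1 (flp_e L255201) (flp_c L255185) L371042
theorem L371052 : sm gg N30093 = N43867 := rfl
theorem L371054 : sm ga N43867 = N30101 := ded_15_1 (flp_g L255261) (flp_a L255183) L371052
theorem L371056 : sm gc N43867 = N30096 := ded_30_1 (flp_g L255212) (flp_c L255185) L371052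
theorem L371060 : sm gi N43867 = N30120 := ded_51_2 (flp_g L255426) (flp_i L255191) L371052
theorem L371090 : sm gg N30095 = N43871 := rfl
theorem L371092 : sm ga N43871 = N30105 := ded_15_1 (flp_g L255295) (flp_a L255203) L371090
theorem L371095 : sm gd N43871 = N30317 := ded_36_1 (flp_g L257082) (flp_d L255210) L371090
theorem L371097 : sm ge N43871 = N30096 := ded_41_1 (flp_g L255212) L255201 L371090
theorem L371128 : sm gi N30097 = N43875 := rfl

end Cfsg.Agent.Helper28.FicA
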