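import Cfsg.Agent.Helper28.FicB24

/-! # The Fi₂₃ presentation, cosets of the subgroup generated by a, …, i: the coset enumeration, part 25 (helper28; generated) -/

set_option autoImplicit false

noncomputable section

namespace Cfsg.Agent.Helper28.FicA

open Cfsg.Agent.Helper28.CosetTable

theorem L371130 : sm ga N43875 = N30109 := ded_18_1 (flp_i L255329) (flp_a L255223) L371128
theorem L371133 : sm gf N43875 = N30098 := ded_48_1 (flp_i L255230) (flp_f L255226) L371128
theorem L371137 : sm gh N43875 = N30128 := ded_54_1 (flp_i L255496) (flp_h L175913) (flp_i L175743) L255221 L371128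
theorem L371139 : sm gd N30100 = N43876 := rfl
theorem L371144 : sm gi N43876 = N30129 := ded_39_2 (flp_d L255506) (flp_i L255259) L371139
theorem L371150 : sm gg N30100 = N43877 := rfl
theorem L371153 : sm gc N43877 = N30105 := ded_30_1 (flp_g L255295) (flp_c L255255) L371150
theorem L371159 : sm gh N30100 = N43878 := rfl
theorem L371162 : sm gc N43878 = N30106 := ded_32_1 (flp_h L255305) (flp_c L255255) L371159
theorem L371164 : sm ge N43878 = N30102 := ded_43_1 (flp_h L255270) L255252 L371159
theorem L371166 : sm gj N43878 = N30208 := ded_52_1 (flp_h L256171) (flp_j L255257) L371159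
theorem L371186 : sm gd N30102 = N43881 := rfl
theorem L371189 : sm gf N43881 = N30103 := ded_35_2 (flp_d L255279) (flp_f L255275) L371186
theorem L371191 : sm gj N43881 = N30211 := ded_37_2 (flp_d L256196) (flp_j L255277) L371186
theorem L371193 : sm gh N43881 = N32707 := ded_38_2 (flp_d L277238) (flp_h L190788) (flp_d L175768) L255270 L371186
theorem L371195 : sm gi N30102 = N43882 := rfl
theorem L371198 : sm gc N43882 = N30109 := ded_33_1 (flp_i L255329) (flp_c L255273) L371195
theorem L371202 : sm gj N43882 = N30212 := ded_53_1 (flp_i L256203) (flp_j L255277) L371195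
theorem L371204 : sm gh N43882 = N30135 := ded_54_1 (flp_i L255557) (flp_h L175957) (flp_i L175772) L255270 L371195
theorem L371220 : sm gf N30105 = N43885 := rfl
theorem L371226 : sm gi N43885 = N30138 := ded_48_2 (flp_f L255582) (flp_i L255303) L371220
theorem L371228 : sm gj N30105 = N43886 := rfl
theorem L371232 : sm gd N43886 = N30332 := ded_37_1 (flp_j L257230) (flp_d L255299) L371228
theorem L371236 : sm gi N43886 = N30139 := ded_53_2 (flp_j L255588) (flp_i L255303) L371228
theorem L371256 : sm gi N30106 = N43889 := rfl
theorem L371258 : sm gb N43889 = N30114 := ded_26_1 (flp_i L255374) (flp_b L255307) L371256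
theorem L371262 : sm gj N43889 = N30219 := ded_53_1 (flp_i L256257) (flp_j L255311) L371256
theorem L371264 : sm gh N43889 = N30142 := ded_54_1 (flp_i L255615) (flp_h L175989) (flp_i L175787) L255305 L371256
theorem L371298 : sm gh N30111 = N43894 := rfl
theorem L371306 : sm gj N43894 = N30112 := ded_52_1 (flp_h L255359) L255347 L371298
theorem L371315 : sm gi N30112 = N43896 := rfl
theorem L371321 : sm gg N43896 = N30114 := ded_51_1 (flp_i L255374) (flp_g L255365) L371315
theorem L371323 : sm gh N43896 = N30149 := ded_54_1 (flp_i L255671) (flp_h L176037) (flp_i L175835) L255359 L371315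
theorem L371393 : sm gd N30119 = N43905 := rfl
theorem L371395 : sm ga N43905 = N30129 := ded_12_1 (flp_d L255506) (flp_a L255420) L371393
theorem L371399 : sm gc N43905 = N30351 := ded_27_1 (flp_d L257404) L177208 (flp_d L175904) (flp_c L255422) L371393
theorem L371401 : sm ge N43905 = N32731 := ded_34_2 (flp_d L277458) (flp_e L190947) (flp_d L175885) L255418 L371393
theorem L371431 : sm gh N30120 = N43909 := rfl
theorem L371433 : sm ga N43909 = N30133 := ded_17_1 (flp_h L255540) (flp_a L255428) L371431
theorem L371435 : sm gc N43909 = N30127 := ded_32_1 (flp_h L255488) (flp_c L255430) L371431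
theorem L371437 : sm gg N43909 = N30121 := ded_50_1 (flp_h L255434) L255426 L371431
theorem L371478 : sm gf N30124 = N43914 := rfl
theorem L371480 : sm ga N43914 = N30138 := ded_14_1 (flp_f L255582) (flp_a L255463) L371478
theorem L371483 : sm gd N43914 = N30360 := ded_35_1 (flp_f L257491) (flp_d L255466) L371478
theorem L371496 : sm gh N30124 = N43916 := rfl
theorem L371498 : sm ga N43916 = N30140 := ded_17_1 (flp_h L255598) (flp_a L255463) L371496
theorem L371503 : sm gg N43916 = N30125 := ded_50_1 (flp_h L255470) L255461 L371496
theorem L371505 : sm gd N30125 = N43917 := rfl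
theorem L371507 : sm ga N43917 = N30141 := ded_12_1 (flp_d L255606) (flp_a L255472) L371505
theorem L371510 : sm gj N43917 = N30247 := ded_37_2 (flp_d L256483) (flp_j L255477) L371505
theorem L371513 : sm gh N43917 = N30363 := ded_38_2 (flp_d L257515) (flp_h L177257) (flp_d L175904) L255470 L371505
theorem L371534 : sm gi N30127 = N43920 := rfl
theorem L371540 : sm gg N43920 = N30128 := ded_51_1 (flp_i L255496) (flp_g L255493) L371534
theorem L371542 : sm gg N30129 = N43921 := rfl
theorem L371545 : sm gc N43921 = N30367 := ded_30_1 (flp_g L257552) (flp_c L255511) L371542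
theorem L371547 : sm gd N43921 = N30130 := ded_36_1 (flp_g L255515) L255506 L371542
theorem L371560 : sm gf N30130 = N43923 := rfl
theorem L371563 : sm gc N43923 = N30138 := ded_29_1 (flp_f L255582) (flp_c L255518) L371560
theorem L371574 : sm gh N30130 = N43925 := rfl
theorem L371581 : sm gg N43925 = N30131 := ded_50_1 (flp_h L255522) L255515 L371574
theorem L371614 : sm gi N30133 = N43930 := rfl
theorem L371619 : sm gg N43930 = N30135 := ded_51_1 (flp_i L255557) (flp_g L255545) L371614
theorem L371621 : sm ge N30134 = N43931 := rfl
theorem L371625 : sm gj N43931 = N30261 := ded_42_2 (flp_e L256589) (flp_j L255552) L371621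
theorem L371629 : sm gi N30134 = N43932 := rfl
theorem L371633 : sm gd N43932 = N30135 := ded_39_1 (flp_i L255557) L255547 L371629
theorem L371635 : sm gf N43932 = N30137 := ded_48_1 (flp_i L255574) (flp_f L255550) L371629
theorem L371637 : sm gj N43932 = N30262 := ded_53_1 (flp_i L256595) (flp_j L255552) L371629
theorem L371647 : sm gi N30136 = N43934 := rfl
theorem L371651 : sm ge N43934 = N30137 := ded_44_1 (flp_i L255574) L255566 L371647
theorem L371663 : sm gj N30138 = N43936 := rfl
theorem L371669 : sm gf N43936 = N30139 := ded_46_1 (flp_j L255588) L255582 L371663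
theorem L371671 : sm gh N30138 = N43937 := rfl
theorem L371675 : sm gf N43937 = N30140 := ded_47_1 (flp_h L255598) L255582 L371671
theorem L371677 : sm gh N30139 = N43938 := rfl
theorem L371679 : sm gb N43938 = N30147 := ded_25_1 (flp_h L255653) (flp_b L255590) L371677
theorem L371681 : sm ge N43938 = N30143 := ded_43_1 (flp_h L255623) (flp_e L255594) L371677
theorem L371683 : sm gg N43938 = N30268 := ded_50_1 (flp_h L256639) (flp_g L255596) L371677
theorem L371685 : sm gj N43938 = N30140 := ded_52_1 (flp_h L255598) L255588 L371677
theorem L371687 : sm gd N30140 = N43939 := rfl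
theorem L371691 : sm gg N43939 = N30141 := ded_36_2 (flp_d L255606) (flp_g L255604) L371687
theorem L371694 : sm gh N43939 = N30385 := ded_38_2 (flp_d L257714) (flp_h L177395) (flp_d L175985) L255598 L371687
theorem L371696 : sm gi N30140 = N43940 := rfl
theorem L371700 : sm ge N43940 = N30144 := ded_44_1 (flp_i L255632) (flp_e L255602) L371696
theorem L371702 : sm gg N43940 = N30142 := ded_51_1 (flp_i L255615) (flp_g L255604) L371696
theorem L371704 : sm gc N30141 = N43941 := rfl
theorem L371707 : sm gj N43941 = N30271 := ded_31_2 (flp_c L256664) (flp_j L255610) L371704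
theorem L371709 : sm gh N43941 = N30387 := ded_32_2 (flp_c L257729) (flp_h L255613) L371704
theorem L371711 : sm gi N30141 = N43942 := rfl
theorem L371713 : sm gb N43942 = N30151 := ded_26_1 (flp_i L255688) (flp_b L255608) L371711
theorem L371715 : sm gd N43942 = N30142 := ded_39_1 (flp_i L255615) L255606 L371711
theorem L371720 : sm gi N30143 = N43943 := rfl
theorem L371722 : sm gb N43943 = N30152 := ded_26_1 (flp_i L255696) (flp_b L255625) L371720
theorem L371725 : sm gg N43943 = N30273 := ded_51_1 (flp_i L256676) (flp_g L255627) L371720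
theorem L371758 : sm gd N30147 = N43948 := rfl
theorem L371761 : sm gg N43948 = N30278 := ded_36_2 (flp_d L256714) (flp_g L255659) L371758
theorem L371763 : sm gj N43948 = N30148 := ded_37_2 (flp_d L255663) (flp_j L255661) L371758
theorem L371766 : sm gh N43948 = N30394 := ded_38_2 (flp_d L257784) (flp_h L177452) (flp_d L176031) L255653 L371758
theorem L371795 : sm gb N30150 = N43952 := rfl
theorem L371801 : sm gh N43952 = N30398 := ded_25_2 (flp_b L257819) (flp_h L255685) L371795
theorem L371812 : sm gh N30151 = N43954 := rfl
theorem L371818 : sm gi N43954 = N30400 := ded_54_2 (flp_h L257836) (flp_i L177486) (flp_h L176051) L255688 L371812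
theorem L371892 : sm ge N30157 = N43963 := rfl
theorem L371894 : sm gb N43963 = N30177 := ded_21_1 (flp_e L255917) (flp_b L255743) L371892
theorem L371896 : sm gc N43963 = N30159 := ded_28_1 (flp_e L255758) (flp_c L255745) L371892
theorem L371926 : sm gi N30158 = N43967 := rfl
theorem L371928 : sm gb N43967 = N30181 := ded_26_1 (flp_i L255944) (flp_b L255752) L371926
theorem L371943 : sm gh N30159 = N43969 := rfl
theorem L371947 : sm ge N43969 = N30161 := ded_43_1 (flp_h L255773) L255758 L371943
theorem L371992 : sm gh N30164 = N43975 := rfl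
theorem L371995 : sm gc N43975 = N30189 := ded_32_1 (flp_h L256009) (flp_c L255801) L371992
theorem L371999 : sm gg N43975 = N30165 := ded_50_1 (flp_h L255807) L255798 L371992
theorem L372058 : sm gg N30170 = N43983 := rfl
theorem L372064 : sm gd N43983 = N32868 := ded_36_1 (flp_g L278644) (flp_d L255856) L372058
theorem L372068 : sm gh N30170 = N43984 := rfl
theorem L372074 : sm gf N43984 = N30171 := ded_47_1 (flp_h L255859) L255850 L372068
theorem L372085 : sm gi N30171 = N43986 := rfl
theorem L372087 : sm ga N43986 = N30181 := ded_18_1 (flp_i L255944) (flp_a L255861) L372085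
theorem L372104 : sm gh N30172 = N43988 := rfl
theorem L372106 : sm ga N43988 = N30183 := ded_17_1 (flp_h L255960) (flp_a L255869) L372104
theorem L372109 : sm ge N43988 = N30174 := ded_43_1 (flp_h L255885) L255867 L372104
theorem L372141 : sm gd N30177 = N43992 := rfl
theorem L372145 : sm gc N43992 = N30413 := ded_27_1 (flp_d L257954) L177585 (flp_d L176228) (flp_c L255919) L372141
theorem L372193 : sm ge N30180 = N43999 := rfl
theorem L372195 : sm gc N43999 = N30213 := ded_28_1 (flp_e L256212) (flp_c L255940) L372193
theorem L372234 : sm gd N30183 = N44004 := rfl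
theorem L372236 : sm gb N44004 = N30190 := ded_20_1 (flp_d L256016) (flp_b L255962) L372234
theorem L372243 : sm gi N30183 = N44005 := rfl
theorem L372245 : sm gb N44005 = N30191 := ded_26_1 (flp_i L256024) (flp_b L255962) L372243
theorem L372310 : sm gc N30190 = N44013 := rfl
theorem L372316 : sm gh N44013 = N30434 := ded_32_2 (flp_c L258133) (flp_h L256022) L372310
theorem L372318 : sm gi N30190 = N44014 := rfl
theorem L372321 : sm gd N44014 = N30191 := ded_39_1 (flp_i L256024) L256016 L372318
theorem L372335 : sm ge N30194 = N44016 := rfl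
theorem L372338 : sm gb N44016 = N30196 := ded_21_1 (flp_e L256065) (flp_b L256051) L372335
theorem L372379 : sm gd N30196 = N44021 := rfl
theorem L372383 : sm gi N44021 = N30235 := ded_39_2 (flp_d L256382) (flp_i L256071) L372379
theorem L372389 : sm gg N30196 = N44022 := rfl
theorem L372391 : sm ga N44022 = N30207 := ded_15_1 (flp_g L256162) (flp_a L256067) L372389
theorem L372393 : sm gc N44022 = N30201 := ded_30_1 (flp_g L256108) (flp_c L256069) L372389
theorem L372399 : sm gh N30196 = N44023 := rfl
theorem L372401 : sm ga N44023 = N30208 := ded_17_1 (flp_h L256171) (flp_a L256067) L372399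
theorem L372403 : sm gc N44023 = N30202 := ded_32_1 (flp_h L256119) (flp_c L256069) L372399
theorem L372418 : sm gh N30197 = N44025 := rfl
theorem L372425 : sm gg N44025 = N30198 := ded_50_1 (flp_h L256084) L256073 L372418
theorem L372435 : sm gi N30198 = N44027 := rfl
theorem L372443 : sm gh N44027 = N30241 := ded_54_1 (flp_i L256433) (flp_h L176541) (flp_i L176322) L256084 L372435
theorem L372459 : sm gf N30201 = N44030 := rfl
theorem L372461 : sm ga N44030 = N30215 := ded_14_1 (flp_f L256224) (flp_a L256110) L372459
theorem L372466 : sm gi N44030 = N30244 := ded_48_2 (flp_f L256457) (flp_i L256117) L372459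
theorem L372469 : sm gj N30201 = N44031 := rfl
theorem L372471 : sm ga N44031 = N30216 := ded_16_1 (flp_j L256233) (flp_a L256110) L372469
theorem L372480 : sm gh N30201 = N44032 := rfl
theorem L372482 : sm ga N44032 = N30217 := ded_17_1 (flp_h L256243) (flp_a L256110) L372480
theorem L372485 : sm ge N44032 = N30204 := ded_43_1 (flp_h L256136) (flp_e L256115) L372480
theorem L372487 : sm gg N44032 = N30202 := ded_50_1 (flp_h L256119) L256108 L372480
theorem L372489 : sm gd N30202 = N44033 := rfl
theorem L372491 : sm ga N44033 = N30218 := ded_12_1 (flp_d L256251) (flp_a L256121) L372489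
theorem L372496 : sm gi N30202 = N44034 := rfl
theorem L372498 : sm ga N44034 = N30219 := ded_18_1 (flp_i L256257) (flp_a L256121) L372496
theorem L372501 : sm ge N44034 = N30205 := ded_44_1 (flp_i L256144) (flp_e L256124) L372496
theorem L372503 : sm gh N44034 = N30248 := ded_54_1 (flp_i L256491) (flp_h L176573) (flp_i L176336) L256119 L372496
theorem L372505 : sm gh N30203 = N44035 := rfl
theorem L372507 : sm ga N44035 = N30220 := ded_17_1 (flp_h L256265) (flp_a L256128) L372505
theorem L372513 : sm gi N30204 = N44036 := rfl
theorem L372515 : sm ga N44036 = N30221 := ded_18_1 (flp_i L256272) (flp_a L256138) L372513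
theorem L372521 : sm gh N44036 = N30250 := ded_54_1 (flp_i L256507) (flp_h L176588) (flp_i L176347) L256136 L372513
theorem L372523 : sm gg N30206 = N44037 := rfl
theorem L372526 : sm gc N44037 = N30458 := ded_30_1 (flp_g L258354) (flp_c L256158) L372523
theorem L372528 : sm gd N44037 = N30207 := ded_36_1 (flp_g L256162) L256153 L372523
theorem L372530 : sm ge N44037 = N32922 := ded_41_1 (flp_g L279106) (flp_e L256160) L372523
theorem L372534 : sm gh N30206 = N44038 := rfl
theorem L372536 : sm gb N44038 = N44038 := ded_25_1 (flp_h L372534) L256155 L372534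
theorem L372537 : sm gc N44038 = N30459 := ded_32_1 (flp_h L258364) (flp_c L256158) L372534
theorem L372539 : sm ge N44038 = N32923 := ded_43_1 (flp_h L279115) (flp_e L256160) L372534
theorem L372541 : sm gf N30207 = N44039 := rfl
theorem L372543 : sm gb N44039 = N44039 := ded_22_1 (flp_f L372541) L256164 L372541
theorem L372544 : sm gc N44039 = N30215 := ded_29_1 (flp_f L256224) (flp_c L256165) L372541
theorem L372546 : sm gi N44039 = N30253 := ded_48_2 (flp_f L256532) (flp_i L256169) L372541
theorem L372548 : sm ge N44039 = N44039 := ded_40_1 (flp_f L372541) L256167 L176393 (flp_e L256167) L372541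
theorem L372549 : sm gj N30207 = N44040 := rfl
theorem L372552 : sm gc N44040 = N30216 := ded_31_1 (flp_j L256233) (flp_c L256165) L372549
theorem L372554 : sm ge N44040 = N30209 := ded_42_1 (flp_j L256178) (flp_e L256167) L372549
theorem L372556 : sm gi N44040 = N30254 := ded_53_2 (flp_j L256538) (flp_i L256169) L372549
theorem L372558 : sm gh N30207 = N44041 := rfl
theorem L372563 : sm ge N44041 = N30210 := ded_43_1 (flp_h L256188) (flp_e L256167) L372558
theorem L372565 : sm gg N44041 = N30208 := ded_50_1 (flp_h L256171) L256162 L372558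
theorem L372567 : sm gd N30208 = N44042 := rfl
theorem L372569 : sm gb N44042 = N44042 := ded_20_1 (flp_d L372567) L256173 L372567
theorem L372570 : sm gi N30208 = N44043 := rfl
theorem L372573 : sm gc N44043 = N30219 := ded_33_1 (flp_i L256257) (flp_c L256174) L372570
theorem L372575 : sm ge N44043 = N30212 := ded_44_1 (flp_i L256203) (flp_e L256176) L372570
theorem L372577 : sm gh N44043 = N30257 := ded_54_1 (flp_i L256557) (flp_h L176619) (flp_i L176382) L256171 L372570
theorem L372579 : sm gh N30209 = N44044 := rfl
theorem L372582 : sm gc N44044 = N30220 := ded_32_1 (flp_h L256265) (flp_c L256181) L372579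
theorem L372585 : sm gj N44044 = N30210 := ded_52_1 (flp_h L256188) L256178 L372579
theorem L372595 : sm gi N30210 = N44046 := rfl
theorem L372598 : sm gc N44046 = N30221 := ded_33_1 (flp_i L256272) (flp_c L256191) L372595
theorem L372610 : sm gi N30211 = N44048 := rfl
theorem L372615 : sm gf N44048 = N30214 := ded_48_1 (flp_i L256218) (flp_f L256199) L372610
theorem L372628 : sm gh N30214 = N44051 := rfl
theorem L372634 : sm gi N44051 = N32936 := ded_54_2 (flp_h L279207) (flp_i L192091) (flp_h L176405) L256218 L372628
theorem L372636 : sm gj N30215 = N44052 := rfl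
theorem L372638 : sm gb N44052 = N30222 := ded_24_1 (flp_j L256281) (flp_b L256226) L372636
theorem L372640 : sm gd N44052 = N30473 := ded_37_1 (flp_j L258484) (flp_d L256228) L372636
theorem L372643 : sm gf N44052 = N30216 := ded_46_1 (flp_j L256233) L256224 L372636
theorem L372645 : sm gi N44052 = N30266 := ded_53_2 (flp_j L256623) (flp_i L256230) L372636
theorem L372647 : sm gh N30215 = N44053 := rfl
theorem L372649 : sm gb N44053 = N30223 := ded_25_1 (flp_h L256292) (flp_b L256226) L372647
theorem L372654 : sm gh N30216 = N44054 := rfl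
theorem L372658 : sm ge N44054 = N30220 := ded_43_1 (flp_h L256265) (flp_e L256239) L372654
theorem L372660 : sm gj N44054 = N30217 := ded_52_1 (flp_h L256243) L256233 L372654
theorem L372662 : sm gd N30217 = N44055 := rfl
theorem L372666 : sm gg N44055 = N30218 := ded_36_2 (flp_d L256251) (flp_g L256249) L372662
theorem L372670 : sm gi N30217 = N44056 := rfl
theorem L372672 : sm gb N44056 = N30226 := ded_26_1 (flp_i L256314) (flp_b L256245) L372670
theorem L372676 : sm gg N44056 = N30219 := ded_51_1 (flp_i L256257) (flp_g L256249) L372670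
theorem L372678 : sm gh N44056 = N30270 := ded_54_1 (flp_i L256656) (flp_h L176686) (flp_i L176423) L256243 L372670
theorem L372680 : sm gc N30218 = N44057 := rfl
theorem L372682 : sm gh N44057 = N30478 := ded_32_2 (flp_c L258526) (flp_h L256255) L372680
theorem L372684 : sm gi N30218 = N44058 := rfl
theorem L372688 : sm gd N44058 = N30219 := ded_39_1 (flp_i L256257) L256251 L372684
theorem L372699 : sm gg N30222 = N44060 := rfl
theorem L372703 : sm gd N44060 = N30481 := ded_36_1 (flp_g L258544) (flp_d L256285) L372699
theorem L372706 : sm gi N44060 = N30274 := ded_51_2 (flp_g L256684) (flp_i L256290) L372699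
theorem L372717 : sm gd N30223 = N44062 := rfl
theorem L372722 : sm gh N44062 = N30483 := ded_38_2 (flp_d L258564) (flp_h L177982) (flp_d L176459) L256292 L372717
theorem L372724 : sm gi N30223 = N44063 := rfl
theorem L372729 : sm gf N44063 = N30226 := ded_48_1 (flp_i L256314) (flp_f L256297) L372724
theorem L372731 : sm gh N44063 = N30277 := ded_54_1 (flp_i L256707) (flp_h L176732) (flp_i L176461) L256292 L372724
theorem L372776 : sm gh N30228 = N44070 := rfl
theorem L372779 : sm gd N44070 = N30284 := ded_38_1 (flp_h L256760) L176773 (flp_h L176493) (flp_d L256333) L372776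
theorem L372781 : sm gi N44070 = N30491 := ded_54_2 (flp_h L258621) (flp_i L178021) (flp_h L176485) L256330 L372776
theorem L372824 : sm gd N30232 = N44076 := rfl
theorem L372831 : sm gh N44076 = N32961 := ded_38_2 (flp_d L279422) (flp_h L192247) (flp_d L176517) L256359 L372824
theorem L372883 : sm gf N30236 = N44083 := rfl
theorem L372885 : sm ga N44083 = N30253 := ded_14_1 (flp_f L256532) (flp_a L256392) L372883
theorem L372887 : sm gc N44083 = N30244 := ded_29_1 (flp_f L256457) (flp_c L256394) L372883
theorem L372898 : sm gh N30236 = N44085 := rfl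
theorem L372902 : sm gc N44085 = N30246 := ded_32_1 (flp_h L256474) (flp_c L256394) L372898
theorem L372904 : sm ge N44085 = N30239 := ded_43_1 (flp_h L256415) (flp_e L256396) L372898
theorem L372987 : sm gj N30244 = N44096 := rfl
theorem L372989 : sm ga N44096 = N30266 := ded_16_1 (flp_j L256623) (flp_a L256459) L372987
theorem L372992 : sm gd N44096 = N30517 := ded_37_1 (flp_j L258847) (flp_d L256462) L372987
theorem L372995 : sm gf N44096 = N30245 := ded_46_1 (flp_j L256465) L256457 L372987
theorem L372997 : sm gh N30244 = N44097 := rfl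
theorem L372999 : sm ga N44097 = N30267 := ded_17_1 (flp_h L256632) (flp_a L256459) L372997
theorem L373003 : sm gf N44097 = N30246 := ded_47_1 (flp_h L256474) L256457 L372997
theorem L373005 : sm gh N30245 = N44098 := rfl
theorem L373007 : sm ga N44098 = N30268 := ded_17_1 (flp_h L256639) (flp_a L256467) L373005
theorem L373010 : sm ge N44098 = N30249 := ded_43_1 (flp_h L256498) (flp_e L256472) L373005
theorem L373014 : sm gd N30246 = N44099 := rfl
theorem L373016 : sm ga N44099 = N30269 := ded_12_1 (flp_d L256647) (flp_a L256476) L373014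
theorem L373019 : sm gg N44099 = N30247 := ded_36_2 (flp_d L256483) (flp_g L256481) L373014
theorem L373022 : sm gh N44099 = N30520 := ded_38_2 (flp_d L258874) (flp_h L178174) (flp_d L176569) L256474 L373014
theorem L373024 : sm gi N30246 = N44100 := rfl
theorem L373026 : sm ga N44100 = N30270 := ded_18_1 (flp_i L256656) (flp_a L256476) L373024
theorem L373031 : sm gg N44100 = N30248 := ded_51_1 (flp_i L256491) (flp_g L256481) L373024
theorem L373040 : sm gi N30247 = N44102 := rfl
theorem L373042 : sm ga N44102 = N30272 := ded_18_1 (flp_i L256669) (flp_a L256485) L373040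
theorem L373045 : sm gd N44102 = N30248 := ded_39_1 (flp_i L256491) L256483 L373040
theorem L373048 : sm gi N30249 = N44103 := rfl
theorem L373050 : sm ga N44103 = N30273 := ded_18_1 (flp_i L256676) (flp_a L256500) L373048
theorem L373055 : sm gj N44103 = N30250 := ded_53_1 (flp_i L256507) (flp_j L256504) L373048
theorem L373057 : sm gf N30251 = N44104 := rfl
theorem L373060 : sm gc N44104 = N30525 := ded_29_1 (flp_f L258914) (flp_c L256519) L373057
theorem L373062 : sm gd N44104 = N30253 := ded_35_1 (flp_f L256532) (flp_d L256521) L373057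
theorem L373064 : sm gj N30251 = N44105 := rfl
theorem L373069 : sm gd N44105 = N30254 := ded_37_1 (flp_j L256538) (flp_d L256521) L373064
theorem L373071 : sm ge N44105 = N32990 := ded_42_1 (flp_j L279664) (flp_e L256523) L373064
theorem L373073 : sm gh N30251 = N44106 := rfl
theorem L373076 : sm gc N44106 = N30527 := ded_32_1 (flp_h L258928) (flp_c L256519) L373073
theorem L373087 : sm gi N30252 = N44108 := rfl
theorem L373090 : sm gc N44108 = N30529 := ded_33_1 (flp_i L258942) (flp_c L256528) L373087
theorem L373092 : sm ge N44108 = N32993 := ded_44_1 (flp_i L279684) (flp_e L256530) L373087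
theorem L373094 : sm gj N30253 = N44109 := rfl
theorem L373097 : sm gc N44109 = N30266 := ded_31_1 (flp_j L256623) (flp_c L256535) L373094
theorem L373100 : sm gf N44109 = N30254 := ded_46_1 (flp_j L256538) L256532 L373094
theorem L373102 : sm gh N30253 = N44110 := rfl
theorem L373105 : sm gc N44110 = N30267 := ded_32_1 (flp_h L256632) (flp_c L256535) L373102
theorem L373108 : sm gf N44110 = N30255 := ded_47_1 (flp_h L256545) L256532 L373102
theorem L373110 : sm gh N30254 = N44111 := rfl
theorem L373113 : sm gc N44111 = N30268 := ded_32_1 (flp_h L256639) (flp_c L256541) L373110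
theorem L373117 : sm gj N44111 = N30255 := ded_52_1 (flp_h L256545) L256538 L373110
theorem L373124 : sm gi N30255 = N44113 := rfl
theorem L373127 : sm gc N44113 = N30270 := ded_33_1 (flp_i L256656) (flp_c L256548) L373124
theorem L373131 : sm gg N44113 = N30257 := ded_51_1 (flp_i L256557) (flp_g L256552) L373124
theorem L373172 : sm gi N30259 = N44120 := rfl
theorem L373176 : sm gd N44120 = N30260 := ded_39_1 (flp_i L256581) L256572 L373172
theorem L373179 : sm gg N44120 = N30262 := ded_51_1 (flp_i L256595) (flp_g L256576) L373172
theorem L373189 : sm gi N30261 = N44122 := rfl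
theorem L373193 : sm ge N44122 = N30262 := ded_44_1 (flp_i L256595) L256589 L373189
theorem L373225 : sm gg N30266 = N44127 := rfl
theorem L373227 : sm gb N44127 = N30274 := ded_23_1 (flp_g L256684) (flp_b L256625) L373225
theorem L373229 : sm gd N44127 = N30548 := ded_36_1 (flp_g L259103) (flp_d L256627) L373225
theorem L373231 : sm ge N44127 = N44127 := ded_41_1 (flp_g L373225) L256629 L373225
theorem L373232 : sm gh N30266 = N44128 := rfl
theorem L373234 : sm gb N44128 = N30275 := ded_25_1 (flp_h L256691) (flp_b L256625) L373232
theorem L373236 : sm ge N44128 = N44128 := ded_43_1 (flp_h L373232) L256629 L373232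
theorem L373237 : sm gf N44128 = N30268 := ded_47_1 (flp_h L256639) (flp_f L256630) L373232
theorem L373239 : sm gj N44128 = N30267 := ded_52_1 (flp_h L256632) L256623 L373232
theorem L373241 : sm gd N30267 = N44129 := rfl
theorem L373243 : sm gb N44129 = N30276 := ded_20_1 (flp_d L256700) (flp_b L256634) L373241
theorem L373245 : sm gf N44129 = N30269 := ded_35_2 (flp_d L256647) (flp_f L256637) L373241
theorem L373247 : sm gh N44129 = N30550 := ded_38_2 (flp_d L259119) (flp_h L178348) (flp_d L176675) L256632 L373241
theorem L373249 : sm gi N30267 = N44130 := rfl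
theorem L373251 : sm gb N44130 = N30277 := ded_26_1 (flp_i L256707) (flp_b L256634) L373249
theorem L373254 : sm gf N44130 = N30270 := ded_48_1 (flp_i L256656) (flp_f L256637) L373249
theorem L373256 : sm gd N30268 = N44131 := rfl
theorem L373258 : sm gb N44131 = N30278 := ded_20_1 (flp_d L256714) (flp_b L256641) L373256
theorem L373260 : sm gj N44131 = N30269 := ded_37_2 (flp_d L256647) (flp_j L256645) L373256
theorem L373262 : sm ge N44131 = N44131 := ded_34_2 (flp_d L373256) L256643 L176714 (flp_e L256643) L373256
theorem L373263 : sm gh N44131 = N30552 := ded_38_2 (flp_d L259133) (flp_h L178356) (flp_d L176682) L256639 L373256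
theorem L373265 : sm gi N30268 = N44132 := rfl
theorem L373267 : sm gb N44132 = N30279 := ded_26_1 (flp_i L256722) (flp_b L256641) L373265
theorem L373271 : sm gj N44132 = N30270 := ded_53_1 (flp_i L256656) (flp_j L256645) L373265
theorem L373273 : sm gc N30269 = N44133 := rfl
theorem L373276 : sm gg N44133 = N30271 := ded_30_2 (flp_c L256664) (flp_g L256651) L373273
theorem L373278 : sm gh N44133 = N30554 := ded_32_2 (flp_c L259148) (flp_h L256654) L373273
theorem L373280 : sm gi N30269 = N44134 := rfl
theorem L373282 : sm gb N44134 = N30281 := ded_26_1 (flp_i L256739) (flp_b L256649) L373280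
theorem L373284 : sm gd N44134 = N30270 := ded_39_1 (flp_i L256656) L256647 L373280
theorem L373286 : sm ge N44134 = N44134 := ded_44_1 (flp_i L373280) L256653 L373280
theorem L373287 : sm gg N44134 = N30272 := ded_51_1 (flp_i L256669) (flp_g L256651) L373280
theorem L373289 : sm gb N30271 = N44135 := rfl
theorem L373292 : sm gh N44135 = N30556 := ded_25_2 (flp_b L259162) (flp_h L256667) L373289
theorem L373301 : sm gh N30272 = N44137 := rfl
theorem L373303 : sm gb N44137 = N30284 := ded_25_1 (flp_h L256760) (flp_b L256671) L373301
theorem L373305 : sm ge N44137 = N44137 := ded_43_1 (flp_h L373301) L256675 L373301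
theorem L373306 : sm gi N44137 = N30558 := ded_54_2 (flp_h L259172) (flp_i L178382) (flp_h L176699) L256669 L373301
theorem L373308 : sm gh N30274 = N44138 := rfl
theorem L373313 : sm gg N44138 = N30275 := ded_50_1 (flp_h L256691) L256684 L373308
theorem L373315 : sm gd N30275 = N44139 := rfl
theorem L373318 : sm gf N44139 = N30278 := ded_35_2 (flp_d L256714) (flp_f L256696) L373315
theorem L373320 : sm gj N44139 = N30276 := ded_37_2 (flp_d L256700) (flp_j L256698) L373315
theorem L373322 : sm gh N44139 = N30560 := ded_38_2 (flp_d L259186) (flp_h L178405) (flp_d L176727) L256691 L373315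
theorem L373324 : sm gi N30275 = N44140 := rfl
theorem L373331 : sm gj N44140 = N30277 := ded_53_1 (flp_i L256707) (flp_j L256698) L373324
theorem L373333 : sm gc N30276 = N44141 := rfl
theorem L373338 : sm gh N44141 = N30562 := ded_32_2 (flp_c L259204) (flp_h L256705) L373333
theorem L373341 : sm ge N30276 = N44142 := rfl
theorem L373344 : sm gh N44142 = N30563 := ded_43_2 (flp_e L259211) (flp_h L256705) L373341
theorem L373348 : sm gi N30276 = N44143 := rfl
theorem L373351 : sm gd N44143 = N30277 := ded_39_1 (flp_i L256707) L256700 L373348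
theorem L373353 : sm gf N44143 = N30281 := ded_48_1 (flp_i L256739) (flp_f L256703) L373348
theorem L373355 : sm gc N30278 = N44144 := rfl
theorem L373359 : sm gj N44144 = N30280 := ded_31_2 (flp_c L256730) (flp_j L256717) L373355
theorem L373361 : sm gh N44144 = N30565 := ded_32_2 (flp_c L259224) (flp_h L256720) L373355
theorem L373364 : sm gi N30278 = N44145 := rfl
theorem L373370 : sm gj N44145 = N30281 := ded_53_1 (flp_i L256739) (flp_j L256717) L373364
theorem L373372 : sm gb N30280 = N44146 := rfl
theorem L373374 : sm gd N44146 = N44146 := ded_20_2 (flp_b L373372) L256738 L373372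
theorem L373375 : sm ge N44146 = N44146 := ded_21_2 (flp_b L373372) L256733 L373372
theorem L373376 : sm gg N44146 = N30282 := ded_23_2 (flp_b L256747) (flp_g L256734) L373372
theorem L373378 : sm gh N44146 = N30567 := ded_25_2 (flp_b L259240) (flp_h L256736) L373372
theorem L373380 : sm gi N30280 = N44147 := rfl
theorem L373383 : sm gc N44147 = N30281 := ded_33_1 (flp_i L256739) L256730 L373380
theorem L373387 : sm gg N44147 = N30283 := ded_51_1 (flp_i L256753) (flp_g L256734) L373380
theorem L373389 : sm gh N30281 = N44148 := rfl
theorem L373392 : sm ge N44148 = N44148 := ded_43_1 (flp_h L373389) L256744 L373389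
theorem L373393 : sm gg N44148 = N30284 := ded_50_1 (flp_h L256760) (flp_g L256745) L373389
theorem L373395 : sm gi N44148 = N30569 := ded_54_2 (flp_h L259257) (flp_i L178453) (flp_h L176753) L256739 L373389
theorem L373397 : sm ga N30282 = N44149 := rfl
theorem L373401 : sm gh N44149 = N30570 := ded_17_2 (flp_a L259263) (flp_h L256751) L373397
theorem L373404 : sm gi N30282 = N44150 := rfl
theorem L373406 : sm gb N44150 = N30283 := ded_26_1 (flp_i L256753) L256747 L373404
theorem L373410 : sm gh N30283 = N44151 := rfl
theorem L373413 : sm gc N44151 = N30284 := ded_32_1 (flp_h L256760) (flp_c L256756) L373410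
theorem L373416 : sm gi N44151 = N30572 := ded_54_2 (flp_h L259276) (flp_i L178466) (flp_h L176767) L256753 L373410
theorem L373439 : sm ge N30286 = N44154 := rfl
theorem L373441 : sm ga N44154 = N30293 := ded_13_1 (flp_e L256852) (flp_a L256779) L373439
theorem L373445 : sm gj N44154 = N30403 := ded_42_2 (flp_e L257860) (flp_j L256785) L373439
theorem L373480 : sm gi N30287 = N44158 := rfl
theorem L373488 : sm gj N44158 = N30407 := ded_53_1 (flp_i L257897) (flp_j L256796) L373480
theorem L373542 : sm gd N30293 = N44164 := rfl
theorem L373546 : sm gj N44164 = N30413 := ded_37_2 (flp_d L257954) (flp_j L256857) L373542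
theorem L373549 : sm ge N44164 = N33074 := ded_34_2 (flp_d L280404) (flp_e L192915) (flp_d L176832) L256852 L373542
theorem L373559 : sm gh N30293 = N44166 := rfl
theorem L373567 : sm gj N44166 = N30415 := ded_52_1 (flp_h L257969) (flp_j L256857) L373559
theorem L373569 : sm gj N30294 = N44167 := rfl
theorem L373572 : sm gc N44167 = N30300 := ded_31_1 (flp_j L256915) (flp_c L256864) L373569
theorem L373574 : sm gd N44167 = N33077 := ded_37_1 (flp_j L280427) (flp_d L256866) L373569
theorem L373620 : sm gi N30296 = N44172 := rfl
theorem L373628 : sm gj N44172 = N30421 := ded_53_1 (flp_i L258023) (flp_j L256883) L373620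
theorem L373663 : sm gi N30299 = N44177 := rfl
theorem L373665 : sm gb N44177 = N30307 := ded_26_1 (flp_i L256977) (flp_b L256908) L373663
theorem L373667 : sm ge N44177 = N30302 := ded_44_1 (flp_i L256934) (flp_e L256910) L373663
theorem L373673 : sm gh N30300 = N44178 := rfl
theorem L373680 : sm gj N44178 = N30301 := ded_52_1 (flp_h L256925) L256915 L373673
theorem L373684 : sm gi N30301 = N44179 := rfl
theorem L373686 : sm gb N44179 = N30309 := ded_26_1 (flp_i L256998) (flp_b L256927) L373684
theorem L373688 : sm gd N44179 = N30337 := ded_39_1 (flp_i L257273) (flp_d L256932) L373684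
theorem L373691 : sm gg N44179 = N30302 := ded_51_1 (flp_i L256934) (flp_g L256930) L373684
theorem L373767 : sm ge N30310 = N44188 := rfl
theorem L373771 : sm gb N44188 = N30312 := ded_21_1 (flp_e L257031) (flp_b L257012) L373767
theorem L373776 : sm gi N44188 = N30346 := ded_44_2 (flp_e L257353) (flp_i L257019) L373767
theorem L373812 : sm gi N30311 = N44192 := rfl
theorem L373814 : sm ga N44192 = N30835 := ded_18_1 (flp_i L261512) (flp_a L257023) L373812
theorem L373822 : sm gh N44192 = N30350 := ded_54_1 (flp_i L257394) (flp_h L177194) (flp_i L176948) L257021 L373812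
theorem L373834 : sm gg N30312 = N44194 := rfl
theorem L373836 : sm ga N44194 = N30323 := ded_15_1 (flp_g L257141) (flp_a L257033) L373834
theorem L373867 : sm gh N30313 = N44197 := rfl
theorem L373869 : sm ga N44197 = N30326 := ded_17_1 (flp_h L257174) (flp_a L257043) L373867
theorem L373874 : sm gg N44197 = N30314 := ded_50_1 (flp_h L257052) L257041 L373867
theorem L373886 : sm gi N30314 = N44199 := rfl
theorem L373888 : sm ga N44199 = N30328 := ded_18_1 (flp_i L257193) (flp_a L257054) L373886
theorem L373892 : sm gf N44199 = N30316 := ded_48_1 (flp_i L257071) (flp_f L257058) L373886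
theorem L373896 : sm gh N44199 = N30357 := ded_54_1 (flp_i L257461) (flp_h L177221) (flp_i L176963) L257052 L373886
theorem L373907 : sm gi N30315 = N44201 := rfl
theorem L373914 : sm gj N44201 = N30450 := ded_53_1 (flp_i L258285) (flp_j L257067) L373907
theorem L373916 : sm gf N30317 = N44202 := rfl
theorem L373921 : sm gi N44202 = N30360 := ded_48_2 (flp_f L257491) (flp_i L257089) L373916
theorem L373951 : sm gi N30318 = N44206 := rfl
theorem L373953 : sm ga N44206 = N30335 := ded_18_1 (flp_i L257254) (flp_a L257093) L373951
theorem L373960 : sm gh N44206 = N30364 := ded_54_1 (flp_i L257523) (flp_h L177257) (flp_i L176981) L257091 L373951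
theorem L373962 : sm gh N30319 = N44207 := rfl
theorem L373964 : sm ga N44207 = N30336 := ded_17_1 (flp_h L257264) (flp_a L257102) L373962
theorem L373968 : sm gg N44207 = N30456 := ded_50_1 (flp_h L258334) (flp_g L257110) L373962
theorem L373972 : sm gi N30320 = N44208 := rfl
theorem L373974 : sm ga N44208 = N30337 := ded_18_1 (flp_i L257273) (flp_a L257114) L373972
theorem L373980 : sm gh N44208 = N30366 := ded_54_1 (flp_i L257543) (flp_h L177276) (flp_i L176990) L257112 L373972
theorem L373992 : sm gh N30322 = N44210 := rfl
theorem L373994 : sm gb N44210 = N30853 := ded_25_1 (flp_h L261699) (flp_b L257133) L373992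
theorem L373996 : sm ge N44210 = N33120 := ded_43_1 (flp_h L280850) (flp_e L257139) L373992
theorem L373998 : sm gj N44210 = N30459 := ded_52_1 (flp_h L258364) (flp_j L257135) L373992
theorem L374000 : sm gf N30323 = N44211 := rfl
theorem L374002 : sm gb N44211 = N30854 := ded_22_1 (flp_f L261706) (flp_b L257143) L374000
theorem L374004 : sm gc N44211 = N30331 := ded_29_1 (flp_f L257223) (flp_c L257145) L374000
theorem L374006 : sm gi N44211 = N30369 := ded_48_2 (flp_f L257568) (flp_i L257149) L374000
theorem L374009 : sm gj N30323 = N44212 := rfl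
theorem L374011 : sm gb N44212 = N30855 := ded_24_1 (flp_j L261713) (flp_b L257143) L374009
theorem L374019 : sm gg N44212 = N30461 := ded_49_1 (flp_j L258380) (flp_g L177843) (flp_j L177030) L257141 L374009
theorem L374021 : sm gh N30323 = N44213 := rfl
theorem L374023 : sm gb N44213 = N30856 := ded_25_1 (flp_h L261723) (flp_b L257143) L374021
theorem L374027 : sm ge N44213 = N30326 := ded_43_1 (flp_h L257174) (flp_e L257147) L374021
theorem L374029 : sm gg N44213 = N30324 := ded_50_1 (flp_h L257151) L257141 L374021
theorem L374031 : sm gd N30324 = N44214 := rfl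
theorem L374033 : sm gb N44214 = N30857 := ded_20_1 (flp_d L261731) (flp_b L257153) L374031
theorem L374035 : sm gj N44214 = N30463 := ded_37_2 (flp_d L258400) (flp_j L257159) L374031
theorem L374037 : sm gi N30324 = N44215 := rfl
theorem L374039 : sm gb N44215 = N30858 := ded_26_1 (flp_i L261735) (flp_b L257153) L374037
theorem L374041 : sm gc N44215 = N30335 := ded_33_1 (flp_i L257254) (flp_c L257155) L374037
theorem L374043 : sm ge N44215 = N30328 := ded_44_1 (flp_i L257193) (flp_e L257157) L374037
theorem L374045 : sm gj N44215 = N30464 := ded_53_1 (flp_i L258404) (flp_j L257159) L374037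
theorem L374047 : sm gh N44215 = N30373 := ded_54_1 (flp_i L257601) (flp_h L177311) (flp_i L177032) L257151 L374037
theorem L374049 : sm gh N30325 = N44216 := rfl
theorem L374051 : sm gb N44216 = N30859 := ded_25_1 (flp_h L261745) (flp_b L257163) L374049
theorem L374056 : sm gg N44216 = N30465 := ded_50_1 (flp_h L258414) (flp_g L257172) L374049
theorem L374060 : sm gd N30326 = N44217 := rfl
theorem L374062 : sm gb N44217 = N30860 := ded_20_1 (flp_d L261754) (flp_b L257176) L374060
theorem L374065 : sm gg N44217 = N30327 := ded_36_2 (flp_d L257183) (flp_g L257181) L374060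
theorem L374069 : sm gi N30326 = N44218 := rfl
theorem L374071 : sm gb N44218 = N30861 := ded_26_1 (flp_i L261762) (flp_b L257176) L374069
theorem L374073 : sm gc N44218 = N30337 := ded_33_1 (flp_i L257273) (flp_c L257178) L374069
theorem L374075 : sm gf N44218 = N44218 := ded_48_1 (flp_i L374069) L257180 L374069
theorem L374076 : sm gg N44218 = N30328 := ded_51_1 (flp_i L257193) (flp_g L257181) L374069
theorem L374078 : sm gh N44218 = N30376 := ded_54_1 (flp_i L257632) (flp_h L177332) (flp_i L177042) L257174 L374069
theorem L374135 : sm gh N30331 = N44225 := rfl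
theorem L374140 : sm gf N44225 = N30333 := ded_47_1 (flp_h L257240) L257223 L374135
theorem L374158 : sm gi N30333 = N44228 := rfl
theorem L374162 : sm ge N44228 = N30337 := ded_44_1 (flp_i L257273) (flp_e L257244) L374158
theorem L374164 : sm gg N44228 = N30335 := ded_51_1 (flp_i L257254) (flp_g L257246) L374158
theorem L374166 : sm gh N44228 = N30386 := ded_54_1 (flp_i L257721) (flp_h L177395) (flp_i L177081) L257240 L374158
theorem L374168 : sm gc N30334 = N44229 := rfl
theorem L374170 : sm gj N44229 = N30478 := ded_31_2 (flp_c L258526) (flp_j L257252) L374168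
theorem L374172 : sm gi N30334 = N44230 := rfl
theorem L374174 : sm gb N44230 = N30344 := ded_26_1 (flp_i L257334) (flp_b L257250) L374172
theorem L374176 : sm gd N44230 = N30335 := ded_39_1 (flp_i L257254) L257248 L374172
theorem L374178 : sm gj N44230 = N30479 := ded_53_1 (flp_i L258528) (flp_j L257252) L374172
theorem L374180 : sm gi N30336 = N44231 := rfl
theorem L374182 : sm gb N44231 = N30345 := ded_26_1 (flp_i L257341) (flp_b L257266) L374180
theorem L374185 : sm gg N44231 = N30480 := ded_51_1 (flp_i L258534) (flp_g L257269) L374180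
theorem L374187 : sm gj N44231 = N30337 := ded_53_1 (flp_i L257273) (flp_j L257271) L374180
theorem L374189 : sm gh N44231 = N30389 := ded_54_1 (flp_i L257743) (flp_h L177418) (flp_i L177098) L257264 L374180
theorem L374216 : sm gi N30339 = N44235 := rfl
theorem L374224 : sm gh N44235 = N30393 := ded_54_1 (flp_i L257776) (flp_h L177444) (flp_i L177124) L257292 L374216
theorem L374226 : sm gd N30340 = N44236 := rfl
theorem L374229 : sm gg N44236 = N30485 := ded_36_2 (flp_d L258580) (flp_g L257307) L374226
theorem L374231 : sm gj N44236 = N30341 := ded_37_2 (flp_d L257311) (flp_j L257309) L374226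
theorem L374253 : sm gi N30341 = N44239 := rfl
theorem L374256 : sm gd N44239 = N30342 := ded_39_1 (flp_i L257316) L257311 L374253
theorem L374258 : sm gg N44239 = N30344 := ded_51_1 (flp_i L257334) (flp_g L257314) L374253
theorem L374275 : sm gh N30344 = N44242 := rfl
theorem L374278 : sm gj N44242 = N30491 := ded_52_1 (flp_h L258621) (flp_j L257339) L374275
theorem L374280 : sm gd N44242 = N30400 := ded_38_1 (flp_h L257836) L177489 (flp_h L177161) (flp_d L257337) L374275
theorem L374282 : sm gd N30346 = N44243 := rfl
theorem L374288 : sm gj N44243 = N30492 := ded_37_2 (flp_d L258626) (flp_j L257360) L374282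
theorem L374301 : sm gh N30346 = N44245 := rfl
theorem L374303 : sm ga N44245 = N30888 := ded_17_1 (flp_h L261988) (flp_a L257355) L374301
theorem L374305 : sm gb N44245 = N30353 := ded_25_1 (flp_h L257420) (flp_b L257357) L374301
theorem L374307 : sm gc N44245 = N44245 := ded_32_1 (flp_h L374301) L257359 L374301
theorem L374308 : sm ge N44245 = N30348 := ded_43_1 (flp_h L257372) L257353 L374301
theorem L374310 : sm gj N44245 = N30494 := ded_52_1 (flp_h L258643) (flp_j L257360) L374301
theorem L374324 : sm gh N30347 = N44247 := rfl
theorem L374326 : sm ga N44247 = N30890 := ded_17_1 (flp_h L262007) (flp_a L257364) L374324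
theorem L374328 : sm gb N44247 = N30355 := ded_25_1 (flp_h L257441) (flp_b L257366) L374324
theorem L374332 : sm gg N44247 = N30348 := ded_50_1 (flp_h L257372) L257362 L374324
theorem L374334 : sm gd N30348 = N44248 := rfl
theorem L374336 : sm ga N44248 = N30891 := ded_12_1 (flp_d L262015) (flp_a L257374) L374334
theorem L374344 : sm gh N44248 = N33158 := ded_38_2 (flp_d L281209) (flp_h L193447) (flp_d L177190) L257372 L374334
theorem L374346 : sm gi N30348 = N44249 := rfl
theorem L374348 : sm ga N44249 = N30892 := ded_18_1 (flp_i L262025) (flp_a L257374) L374346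
theorem L374350 : sm gb N44249 = N30357 := ded_26_1 (flp_i L257461) (flp_b L257376) L374346
theorem L374352 : sm gc N44249 = N44249 := ded_33_1 (flp_i L374346) L257378 L374346
theorem L374353 : sm gf N44249 = N30350 := ded_48_1 (flp_i L257394) (flp_f L257379) L374346
theorem L374355 : sm gj N44249 = N30498 := ded_53_1 (flp_i L258684) (flp_j L257381) L374346
theorem L374379 : sm gi N30349 = N44252 := rfl
theorem L374383 : sm gb N44252 = N30359 := ded_26_1 (flp_i L257481) (flp_b L257387) L374379
theorem L374385 : sm gd N44252 = N30350 := ded_39_1 (flp_i L257394) L257383 L374379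
theorem L374398 : sm gh N30351 = N44254 := rfl
theorem L374404 : sm gj N44254 = N30503 := ded_52_1 (flp_h L258731) (flp_j L257408) L374398
theorem L374406 : sm gf N30352 = N44255 := rfl
theorem L374408 : sm ga N44255 = N30369 := ded_14_1 (flp_f L257568) (flp_a L257414) L374406
theorem L374410 : sm gc N44255 = N30360 := ded_29_1 (flp_f L257491) (flp_c L257416) L374406
theorem L374423 : sm gh N30352 = N44257 := rfl
theorem L374425 : sm ga N44257 = N30371 := ded_17_1 (flp_h L257585) (flp_a L257414) L374423
theorem L374427 : sm gc N44257 = N30362 := ded_32_1 (flp_h L257506) (flp_c L257416) L374423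
theorem L374429 : sm ge N44257 = N30355 := ded_43_1 (flp_h L257441) (flp_e L257418) L374423
theorem L374431 : sm gg N44257 = N30353 := ded_50_1 (flp_h L257420) L257412 L374423
theorem L374433 : sm gd N30353 = N44258 := rfl
theorem L374435 : sm ga N44258 = N30372 := ded_12_1 (flp_d L257595) (flp_a L257422) L374433
theorem L374437 : sm gj N44258 = N30507 := ded_37_2 (flp_d L258763) (flp_j L257428) L374433
theorem L374439 : sm gi N30353 = N44259 := rfl
theorem L374441 : sm ga N44259 = N30373 := ded_18_1 (flp_i L257601) (flp_a L257422) L374439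
theorem L374443 : sm gc N44259 = N30364 := ded_33_1 (flp_i L257523) (flp_c L257424) L374439
theorem L374445 : sm ge N44259 = N30357 := ded_44_1 (flp_i L257461) (flp_e L257426) L374439
theorem L374447 : sm gj N44259 = N30508 := ded_53_1 (flp_i L258767) (flp_j L257428) L374439
theorem L374449 : sm gh N30354 = N44260 := rfl
theorem L374451 : sm ga N44260 = N30374 := ded_17_1 (flp_h L257611) (flp_a L257432) L374449
theorem L374453 : sm gc N44260 = N30365 := ded_32_1 (flp_h L257532) (flp_c L257434) L374449
theorem L374458 : sm gj N44260 = N30355 := ded_52_1 (flp_h L257441) L257430 L374449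
theorem L374460 : sm gd N30355 = N44261 := rfl
theorem L374465 : sm gg N44261 = N30356 := ded_36_2 (flp_d L257450) (flp_g L257448) L374460
theorem L374468 : sm gh N44261 = N33171 := ded_38_2 (flp_d L281332) (flp_h L193515) (flp_d L177218) L257441 L374460
theorem L374470 : sm gi N30355 = N44262 := rfl
theorem L374472 : sm ga N44262 = N30376 := ded_18_1 (flp_i L257632) (flp_a L257443) L374470
theorem L374474 : sm gc N44262 = N30366 := ded_33_1 (flp_i L257543) (flp_c L257445) L374470
theorem L374476 : sm gf N44262 = N44262 := ded_48_1 (flp_i L374470) L257447 L374470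
theorem L374477 : sm gg N44262 = N30357 := ded_51_1 (flp_i L257461) (flp_g L257448) L374470
theorem L374479 : sm ge N30356 = N44263 := rfl
theorem L374481 : sm ga N44263 = N30377 := ded_13_1 (flp_e L257641) (flp_a L257452) L374479
theorem L374483 : sm gc N44263 = N44263 := ded_28_1 (flp_e L374479) L257458 L374479
theorem L374484 : sm gj N44263 = N30512 := ded_42_2 (flp_e L258806) (flp_j L257456) L374479
theorem L374488 : sm gi N30356 = N44264 := rfl
theorem L374490 : sm ga N44264 = N30378 := ded_18_1 (flp_i L257650) (flp_a L257452) L374488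
theorem L374492 : sm gc N44264 = N44264 := ded_33_1 (flp_i L374488) L257458 L374488
theorem L374493 : sm gd N44264 = N30357 := ded_39_1 (flp_i L257461) L257450 L374488
theorem L374495 : sm gf N44264 = N30359 := ded_48_1 (flp_i L257481) (flp_f L257454) L374488
theorem L374497 : sm gj N44264 = N30513 := ded_53_1 (flp_i L258813) (flp_j L257456) L374488
theorem L374499 : sm gf N30358 = N44265 := rfl
theorem L374501 : sm ga N44265 = N30379 := ded_14_1 (flp_f L257661) (flp_a L257473) L374499
theorem L374504 : sm gj N44265 = N30514 := ded_46_2 (flp_f L258822) (flp_j L257477) L374499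
theorem L374506 : sm gh N44265 = N33175 := ded_47_2 (flp_f L281367) (flp_h L257479) L374499
theorem L374508 : sm gi N30358 = N44266 := rfl
theorem L374510 : sm ga N44266 = N30380 := ded_18_1 (flp_i L257670) (flp_a L257473) L374508
theorem L374513 : sm ge N44266 = N30359 := ded_44_1 (flp_i L257481) L257471 L374508
theorem L374518 : sm gh N30359 = N44267 := rfl
theorem L374526 : sm gi N44267 = N33177 := ded_54_2 (flp_h L281386) (flp_i L193552) (flp_h L177239) L257481 L374518
theorem L374528 : sm gj N30360 = N44268 := rfl
theorem L374530 : sm ga N44268 = N30382 := ded_16_1 (flp_j L257690) (flp_a L257493) L374528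
theorem L374534 : sm gf N44268 = N30361 := ded_46_1 (flp_j L257497) L257491 L374528
theorem L374536 : sm gh N30360 = N44269 := rfl
theorem L374538 : sm ga N44269 = N30383 := ded_17_1 (flp_h L257697) (flp_a L257493) L374536
theorem L374540 : sm gb N44269 = N44269 := ded_25_1 (flp_h L374536) L257495 L374536
theorem L374541 : sm ge N44269 = N44269 := ded_43_1 (flp_h L374536) L257496 L374536
theorem L374542 : sm gf N44269 = N30362 := ded_47_1 (flp_h L257506) L257491 L374536
theorem L374544 : sm gh N30361 = N44270 := rfl
theorem L374546 : sm ga N44270 = N30384 := ded_17_1 (flp_h L257704) (flp_a L257499) L374544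
theorem L374549 : sm ge N44270 = N30365 := ded_43_1 (flp_h L257532) (flp_e L257502) L374544
theorem L374551 : sm gg N44270 = N30519 := ded_50_1 (flp_h L258865) (flp_g L257504) L374544
theorem L374553 : sm gj N44270 = N30362 := ded_52_1 (flp_h L257506) L257497 L374544
theorem L374555 : sm gd N30362 = N44271 := rfl
theorem L374557 : sm ga N44271 = N30385 := ded_12_1 (flp_d L257714) (flp_a L257508) L374555
theorem L374559 : sm gb N44271 = N44271 := ded_20_1 (flp_d L374555) L257510 L374555
theorem L374560 : sm gg N44271 = N30363 := ded_36_2 (flp_d L257515) (flp_g L257513) L374555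
theorem L374562 : sm ge N44271 = N44271 := ded_34_2 (flp_d L374555) L257511 L177284 (flp_e L257511) L374555
theorem L374563 : sm gi N30362 = N44272 := rfl
theorem L374565 : sm ga N44272 = N30386 := ded_18_1 (flp_i L257721) (flp_a L257508) L374563
theorem L374567 : sm gb N44272 = N44272 := ded_26_1 (flp_i L374563) L257510 L374563
theorem L374568 : sm ge N44272 = N30366 := ded_44_1 (flp_i L257543) (flp_e L257511) L374563
theorem L374570 : sm gg N44272 = N30364 := ded_51_1 (flp_i L257523) (flp_g L257513) L374563
theorem L374572 : sm gc N30363 = N44273 := rfl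
theorem L374574 : sm ga N44273 = N30387 := ded_11_1 (flp_c L257729) (flp_a L257517) L374572
theorem L374577 : sm gj N44273 = N30522 := ded_31_2 (flp_c L258891) (flp_j L257520) L374572
theorem L374579 : sm gi N30363 = N44274 := rfl
theorem L374581 : sm ga N44274 = N30388 := ded_18_1 (flp_i L257734) (flp_a L257517) L374579
theorem L374583 : sm gb N44274 = N44274 := ded_26_1 (flp_i L374579) L257519 L374579
theorem L374584 : sm gd N44274 = N30364 := ded_39_1 (flp_i L257523) L257515 L374579
theorem L374586 : sm ge N44274 = N44274 := ded_44_1 (flp_i L374579) L257522 L374579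
theorem L374587 : sm gj N44274 = N30523 := ded_53_1 (flp_i L258896) (flp_j L257520) L374579
theorem L374589 : sm gi N30365 = N44275 := rfl
theorem L374591 : sm ga N44275 = N30389 := ded_18_1 (flp_i L257743) (flp_a L257534) L374589
theorem L374593 : sm gb N44275 = N44275 := ded_26_1 (flp_i L374589) L257536 L374589
theorem L374594 : sm gd N44275 = N44275 := ded_39_1 (flp_i L374589) L257542 L374589
theorem L374595 : sm gf N44275 = N44275 := ded_48_1 (flp_i L374589) L257537 L374589
theorem L374596 : sm gg N44275 = N30524 := ded_51_1 (flp_i L258904) (flp_g L257538) L374589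
theorem L374598 : sm gj N44275 = N30366 := ded_53_1 (flp_i L257543) (flp_j L257540) L374589
theorem L374600 : sm gf N30367 = N44276 := rfl
theorem L374602 : sm gb N44276 = N30919 := ded_22_1 (flp_f L262287) (flp_b L257554) L374600
theorem L374604 : sm gd N44276 = N30369 := ded_35_1 (flp_f L257568) (flp_d L257556) L374600
theorem L374624 : sm gd N30368 = N44279 := rfl
theorem L374626 : sm gb N44279 = N30922 := ded_20_1 (flp_d L262308) (flp_b L257562) L374624
theorem L374628 : sm gj N44279 = N30528 := ded_37_2 (flp_d L258936) (flp_j L257566) L374624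
theorem L374630 : sm gh N44279 = N30372 := ded_38_2 (flp_d L257595) (flp_h L177311) L177295 L257560 L374624
theorem L374632 : sm gi N30368 = N44280 := rfl
theorem L374634 : sm gb N44280 = N30923 := ded_26_1 (flp_i L262314) (flp_b L257562) L374632
theorem L374636 : sm ge N44280 = N33190 := ded_44_1 (flp_i L281506) (flp_e L257564) L374632
theorem L374638 : sm gj N44280 = N30529 := ded_53_1 (flp_i L258942) (flp_j L257566) L374632
theorem L374640 : sm gj N30369 = N44281 := rfl
theorem L374644 : sm gc N44281 = N30382 := ded_31_1 (flp_j L257690) (flp_c L257572) L374640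
theorem L374649 : sm gh N30369 = N44282 := rfl
theorem L374651 : sm gb N44282 = N30925 := ded_25_1 (flp_h L262328) (flp_b L257570) L374649
theorem L374653 : sm gc N44282 = N30383 := ded_32_1 (flp_h L257697) (flp_c L257572) L374649
theorem L374655 : sm ge N44282 = N44282 := ded_43_1 (flp_h L374649) L257574 L374649
theorem L374656 : sm gf N44282 = N30371 := ded_47_1 (flp_h L257585) L257568 L374649
theorem L374658 : sm gh N30370 = N44283 := rfl
theorem L374660 : sm gb N44283 = N30926 := ded_25_1 (flp_h L262335) (flp_b L257577) L374658
theorem L374662 : sm gc N44283 = N30384 := ded_32_1 (flp_h L257704) (flp_c L257579) L374658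
theorem L374666 : sm gg N44283 = N30532 := ded_50_1 (flp_h L258968) (flp_g L257583) L374658
theorem L374668 : sm gj N44283 = N30371 := ded_52_1 (flp_h L257585) L257575 L374658
theorem L374670 : sm gd N30371 = N44284 := rfl
theorem L374672 : sm gb N44284 = N30927 := ded_20_1 (flp_d L262345) (flp_b L257587) L374670
theorem L374674 : sm gg N44284 = N30372 := ded_36_2 (flp_d L257595) (flp_g L257593) L374670
theorem L374676 : sm gi N30371 = N44285 := rfl
theorem L374678 : sm gb N44285 = N30928 := ded_26_1 (flp_i L262349) (flp_b L257587) L374676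
theorem L374680 : sm gc N44285 = N30386 := ded_33_1 (flp_i L257721) (flp_c L257589) L374676
theorem L374682 : sm ge N44285 = N30376 := ded_44_1 (flp_i L257632) (flp_e L257591) L374676
theorem L374684 : sm gg N44285 = N30373 := ded_51_1 (flp_i L257601) (flp_g L257593) L374676
theorem L374686 : sm gc N30372 = N44286 := rfl
theorem L374688 : sm gj N44286 = N30535 := ded_31_2 (flp_c L258994) (flp_j L257599) L374686
theorem L374690 : sm gd N44286 = N30387 := ded_27_2 (flp_c L257729) (flp_d L177403) (flp_c L177315) L257595 L374686
theorem L374692 : sm ge N30372 = N44287 := rfl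
theorem L374694 : sm gb N44287 = N30930 := ded_21_1 (flp_e L262363) (flp_b L257597) L374692
theorem L374696 : sm gj N44287 = N30536 := ded_42_2 (flp_e L258998) (flp_j L257599) L374692
theorem L374698 : sm gd N44287 = N30377 := ded_34_1 (flp_e L257641) (flp_d L177341) (flp_e L177317) L257595 L374692
theorem L374700 : sm gi N30372 = N44288 := rfl
theorem L374702 : sm gb N44288 = N30931 := ded_26_1 (flp_i L262369) (flp_b L257597) L374700
theorem L374704 : sm gd N44288 = N30373 := ded_39_1 (flp_i L257601) L257595 L374700
theorem L374706 : sm gj N44288 = N30537 := ded_53_1 (flp_i L259004) (flp_j L257599) L374700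
theorem L374720 : sm gi N30374 = N44290 := rfl
theorem L374724 : sm gc N44290 = N30389 := ded_33_1 (flp_i L257743) (flp_c L257615) L374720
theorem L374729 : sm gj N44290 = N30376 := ded_53_1 (flp_i L257632) (flp_j L257620) L374720
theorem L374731 : sm ge N30375 = N44291 := rfl
theorem L374736 : sm gg N44291 = N30377 := ded_41_2 (flp_e L257641) (flp_g L257627) L374731
theorem L374740 : sm gi N30375 = N44292 := rfl
theorem L374742 : sm gb N44292 = N30935 := ded_26_1 (flp_i L262403) (flp_b L257624) L374740
theorem L374745 : sm gd N44292 = N30376 := ded_39_1 (flp_i L257632) L257622 L374740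
theorem L374748 : sm gg N44292 = N30378 := ded_51_1 (flp_i L257650) (flp_g L257627) L374740
theorem L374750 : sm gf N30377 = N44293 := rfl
theorem L374752 : sm gb N44293 = N30936 := ded_22_1 (flp_f L262412) (flp_b L257643) L374750
theorem L374754 : sm gc N44293 = N44293 := ded_29_1 (flp_f L374750) L257645 L374750
theorem L374755 : sm gj N44293 = N30542 := ded_46_2 (flp_f L259051) (flp_j L257646) L374750
theorem L374757 : sm gh N44293 = N33203 := ded_47_2 (flp_f L281622) (flp_h L257648) L374750
theorem L374759 : sm ge N44293 = N30379 := ded_40_1 (flp_f L257661) (flp_e L177362) (flp_f L177345) L257641 L374750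
theorem L374761 : sm gi N30377 = N44294 := rfl
theorem L374763 : sm gb N44294 = N30937 := ded_26_1 (flp_i L262422) (flp_b L257643) L374761
theorem L374765 : sm gc N44294 = N44294 := ded_33_1 (flp_i L374761) L257645 L374761
theorem L374766 : sm ge N44294 = N30378 := ded_44_1 (flp_i L257650) L257641 L374761
theorem L374768 : sm gj N44294 = N30543 := ded_53_1 (flp_i L259060) (flp_j L257646) L374761
theorem L374770 : sm gh N30378 = N44295 := rfl
theorem L374772 : sm gb N44295 = N30938 := ded_25_1 (flp_h L262430) (flp_b L257652) L374770
theorem L374781 : sm gg N30379 = N44296 := rfl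
theorem L374783 : sm gb N44296 = N30939 := ded_23_1 (flp_g L262440) (flp_b L257663) L374781
theorem L374785 : sm gc N44296 = N44296 := ded_30_1 (flp_g L374781) L257665 L374781
theorem L374786 : sm gh N44296 = N33206 := ded_50_2 (flp_g L281649) (flp_h L257668) L374781
theorem L374788 : sm gf N44296 = N44296 := ded_45_1 (flp_g L374781) (flp_f L257661) L177367 L257661 L374781
theorem L374789 : sm gi N30379 = N44297 := rfl
theorem L374791 : sm gb N44297 = N30940 := ded_26_1 (flp_i L262447) (flp_b L257663) L374789
theorem L374793 : sm gc N44297 = N44297 := ded_33_1 (flp_i L374789) L257665 L374789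
theorem L374794 : sm gf N44297 = N30380 := ded_48_1 (flp_i L257670) L257661 L374789
theorem L374796 : sm gj N44297 = N30546 := ded_53_1 (flp_i L259085) (flp_j L257666) L374789
theorem L374798 : sm gh N30380 = N44298 := rfl
theorem L374806 : sm gj N44298 = N30547 := ded_52_1 (flp_h L259092) (flp_j L257678) L374798
theorem L374810 : sm gg N30382 = N44299 := rfl
theorem L374812 : sm gb N44299 = N30390 := ded_23_1 (flp_g L257753) (flp_b L257692) L374810
theorem L374815 : sm gf N44299 = N30548 := ded_45_1 (flp_g L259103) L178346 (flp_g L177393) (flp_f L257695) L374810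
theorem L374817 : sm gh N30382 = N44300 := rfl
theorem L374819 : sm gb N44300 = N30391 := ded_25_1 (flp_h L257761) (flp_b L257692) L374817
theorem L374822 : sm gf N44300 = N30384 := ded_47_1 (flp_h L257704) (flp_f L257695) L374817
theorem L374824 : sm gj N44300 = N30383 := ded_52_1 (flp_h L257697) L257690 L374817
theorem L374826 : sm gd N30383 = N44301 := rfl
theorem L374828 : sm gb N44301 = N30392 := ded_20_1 (flp_d L257771) (flp_b L257699) L374826
theorem L374830 : sm gf N44301 = N30385 := ded_35_2 (flp_d L257714) (flp_f L257702) L374826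
theorem L374832 : sm gi N30383 = N44302 := rfl
theorem L374834 : sm gb N44302 = N30393 := ded_26_1 (flp_i L257776) (flp_b L257699) L374832
theorem L374836 : sm ge N44302 = N44302 := ded_44_1 (flp_i L374832) L257701 L374832
theorem L374837 : sm gf N44302 = N30386 := ded_48_1 (flp_i L257721) (flp_f L257702) L374832
theorem L374839 : sm gd N30384 = N44303 := rfl
theorem L374841 : sm gb N44303 = N30394 := ded_20_1 (flp_d L257784) (flp_b L257706) L374839
theorem L374843 : sm gg N44303 = N30552 := ded_36_2 (flp_d L259133) (flp_g L257710) L374839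
theorem L374845 : sm gj N44303 = N30385 := ded_37_2 (flp_d L257714) (flp_j L257712) L374839
theorem L374847 : sm ge N44303 = N44303 := ded_34_2 (flp_d L374839) L257708 L177427 (flp_e L257708) L374839
theorem L374848 : sm gi N30384 = N44304 := rfl
theorem L374850 : sm gb N44304 = N30395 := ded_26_1 (flp_i L257792) (flp_b L257706) L374848
theorem L374852 : sm ge N44304 = N30389 := ded_44_1 (flp_i L257743) (flp_e L257708) L374848
theorem L374854 : sm gg N44304 = N30553 := ded_51_1 (flp_i L259140) (flp_g L257710) L374848
theorem L374856 : sm gj N44304 = N30386 := ded_53_1 (flp_i L257721) (flp_j L257712) L374848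
theorem L374858 : sm gc N30385 = N44305 := rfl
theorem L374860 : sm ge N44305 = N44305 := ded_28_2 (flp_c L374858) L257720 L374858
theorem L374861 : sm gg N44305 = N30387 := ded_30_2 (flp_c L257729) (flp_g L257718) L374858
theorem L374863 : sm gi N30385 = N44306 := rfl
theorem L374865 : sm gb N44306 = N30397 := ded_26_1 (flp_i L257811) (flp_b L257716) L374863
theorem L374867 : sm gd N44306 = N30386 := ded_39_1 (flp_i L257721) L257714 L374863
theorem L374869 : sm ge N44306 = N44306 := ded_44_1 (flp_i L374863) L257720 L374863
theorem L374870 : sm gg N44306 = N30388 := ded_51_1 (flp_i L257734) (flp_g L257718) L374863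
theorem L374872 : sm gb N30387 = N44307 := rfl
theorem L374874 : sm ge N44307 = N44307 := ded_21_2 (flp_b L374872) L257731 L374872
theorem L374875 : sm gj N44307 = N30556 := ded_24_2 (flp_b L259162) (flp_j L257732) L374872
theorem L374877 : sm gc N44307 = N30398 := ded_19_2 (flp_b L257819) (flp_c L177478) (flp_b L177405) L257729 L374872
theorem L374879 : sm gi N30387 = N44308 := rfl
theorem L374881 : sm gc N44308 = N30388 := ded_33_1 (flp_i L257734) L257729 L374879
theorem L374883 : sm ge N44308 = N44308 := ded_44_1 (flp_i L374879) L257731 L374879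
theorem L374884 : sm gj N44308 = N30557 := ded_53_1 (flp_i L259167) (flp_j L257732) L374879
theorem L374886 : sm gh N30388 = N44309 := rfl
theorem L374888 : sm gb N44309 = N30400 := ded_25_1 (flp_h L257836) (flp_b L257736) L374886
theorem L374891 : sm gj N44309 = N30558 := ded_52_1 (flp_h L259172) (flp_j L257741) L374886
theorem L374893 : sm gh N30390 = N44310 := rfl
theorem L374896 : sm gc N44310 = N30953 := ded_32_1 (flp_h L262561) (flp_c L257756) L374893
theorem L374899 : sm gf N44310 = N30559 := ded_47_1 (flp_h L259177) (flp_f L257759) L374893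
theorem L374903 : sm gd N30391 = N44311 := rfl
theorem L374906 : sm gf N44311 = N30394 := ded_35_2 (flp_d L257784) (flp_f L257767) L374903
theorem L374908 : sm gj N44311 = N30392 := ded_37_2 (flp_d L257771) (flp_j L257769) L374903
theorem L374910 : sm gi N30391 = N44312 := rfl
theorem L374913 : sm gc N44312 = N30955 := ded_33_1 (flp_i L262577) (flp_c L257764) L374910
theorem L374918 : sm gj N44312 = N30393 := ded_53_1 (flp_i L257776) (flp_j L257769) L374910
theorem L374932 : sm gi N30392 = N44315 := rfl
theorem L374935 : sm gd N44315 = N30393 := ded_39_1 (flp_i L257776) L257771 L374932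
theorem L374937 : sm gf N44315 = N30397 := ded_48_1 (flp_i L257811) (flp_f L257774) L374932
theorem L374939 : sm gc N30394 = N44316 := rfl
theorem L374943 : sm gg N44316 = N30565 := ded_30_2 (flp_c L259224) (flp_g L257787) L374939
theorem L374945 : sm gj N44316 = N30396 := ded_31_2 (flp_c L257803) (flp_j L257789) L374939
theorem L374947 : sm gd N44316 = N30959 := ded_27_2 (flp_c L262605) (flp_d L180685) (flp_c L177455) L257784 L374939
theorem L374949 : sm gi N30394 = N44317 := rfl
theorem L374952 : sm gd N44317 = N30395 := ded_39_1 (flp_i L257792) L257784 L374949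
theorem L374955 : sm gg N44317 = N30566 := ded_51_1 (flp_i L259232) (flp_g L257787) L374949
theorem L374957 : sm gj N44317 = N30397 := ded_53_1 (flp_i L257811) (flp_j L257789) L374949
theorem L374959 : sm gb N30396 = N44318 := rfl
theorem L374961 : sm gd N44318 = N30961 := ded_20_2 (flp_b L262626) (flp_d L257809) L374959
theorem L374964 : sm gg N44318 = N30398 := ded_23_2 (flp_b L257819) (flp_g L257807) L374959
theorem L374966 : sm gi N30396 = N44319 := rfl
theorem L374969 : sm gc N44319 = N30397 := ded_33_1 (flp_i L257811) L257803 L374966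
theorem L374971 : sm gd N44319 = N30962 := ded_39_1 (flp_i L262633) (flp_d L257809) L374966
theorem L374976 : sm gh N30397 = N44320 := rfl
theorem L374980 : sm gg N44320 = N30400 := ded_50_1 (flp_h L257836) (flp_g L257817) L374976
theorem L374982 : sm ga N30398 = N44321 := rfl
theorem L374984 : sm gd N44321 = N30964 := ded_12_2 (flp_a L262650) (flp_d L257821) L374982
theorem L374986 : sm ge N44321 = N44321 := ded_13_2 (flp_a L374982) L257823 L374982
theorem L374987 : sm gj N44321 = N30570 := ded_16_2 (flp_a L259263) (flp_j L257824) L374982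
theorem L374989 : sm gb N44321 = N44321 := ded_10_2 (flp_a L374982) (flp_b L257819) L177480 L257819 L374982
theorem L374990 : sm gi N30398 = N44322 := rfl
theorem L374992 : sm gb N44322 = N30399 := ded_26_1 (flp_i L257826) L257819 L374990
theorem L374994 : sm gd N44322 = N30965 := ded_39_1 (flp_i L262658) (flp_d L257821) L374990
theorem L374996 : sm ge N44322 = N44322 := ded_44_1 (flp_i L374990) L257823 L374990
theorem L374997 : sm gj N44322 = N30571 := ded_53_1 (flp_i L259269) (flp_j L257824) L374990
theorem L374999 : sm gh N30399 = N44323 := rfl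
theorem L375005 : sm gj N44323 = N30572 := ded_52_1 (flp_h L259276) (flp_j L257834) L374999
theorem L375079 : sm gj N30404 = N44332 := rfl
theorem L375085 : sm gd N44332 = N33278 := ded_37_1 (flp_j L282289) (flp_d L257874) L375079
theorem L375090 : sm gh N30404 = N44333 := rfl
theorem L375098 : sm gg N44333 = N30405 := ded_50_1 (flp_h L257879) L257868 L375090
theorem L375110 : sm gi N30405 = N44335 := rfl
theorem L375116 : sm gf N44335 = N30407 := ded_48_1 (flp_i L257897) (flp_f L257885) L375110
theorem L375166 : sm gd N30409 = N44341 := rfl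
theorem L375168 : sm ga N44341 = N30425 := ded_12_1 (flp_d L258055) (flp_a L257917) L375166
theorem L375172 : sm ge N44341 = N30454 := ded_34_2 (flp_d L258320) L177804 (flp_d L177557) (flp_e L257920) L375166
theorem L375183 : sm gh N30410 = N44343 := rfl
theorem L375188 : sm gf N44343 = N30592 := ded_47_1 (flp_h L259460) (flp_f L257930) L375183
theorem L375192 : sm gd N44343 = N30456 := ded_38_1 (flp_h L258334) L177811 (flp_h L177579) (flp_d L257928) L375183
theorem L375220 : sm gf N30414 = N44347 := rfl
theorem L375223 : sm gc N44347 = N30422 := ded_29_1 (flp_f L258032) (flp_c L257964) L375220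
theorem L375237 : sm gh N30414 = N44349 := rfl
theorem L375244 : sm gg N44349 = N30415 := ded_50_1 (flp_h L257969) L257961 L375237
theorem L375289 : sm ge N30418 = N44355 := rfl
theorem L375292 : sm gc N44355 = N30468 := ded_28_1 (flp_e L258446) (flp_c L258001) L375289
theorem L375294 : sm gh N44355 = N33301 := ded_43_2 (flp_e L282486) (flp_h L258003) L375289
theorem L375323 : sm gh N30421 = N44359 := rfl
theorem L375326 : sm gc N44359 = N30472 := ded_32_1 (flp_h L258474) (flp_c L258026) L375323
theorem L375328 : sm gg N44359 = N30608 := ded_50_1 (flp_h L259598) (flp_g L258030) L375323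
theorem L375333 : sm gj N30422 = N44360 := rfl
theorem L375335 : sm gb N44360 = N30429 := ded_24_1 (flp_j L258091) (flp_b L258034) L375333
theorem L375342 : sm gh N30422 = N44361 := rfl
theorem L375346 : sm ge N44361 = N30610 := ded_43_1 (flp_h L259615) (flp_e L258037) L375342
theorem L375367 : sm gi N30424 = N44364 := rfl
theorem L375369 : sm gb N44364 = N30433 := ded_26_1 (flp_i L258124) (flp_b L258049) L375367
theorem L375376 : sm gc N30425 = N44365 := rfl
theorem L375378 : sm ge N44365 = N30478 := ded_28_2 (flp_c L258526) (flp_e L258060) L375376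
theorem L375390 : sm gi N30427 = N44367 := rfl
theorem L375392 : sm gb N44367 = N30436 := ded_26_1 (flp_i L258148) (flp_b L258072) L375390
theorem L375474 : sm gi N30434 = N44377 := rfl
theorem L375477 : sm gc N44377 = N30435 := ded_33_1 (flp_i L258140) L258133 L375474
theorem L375480 : sm ge N44377 = N30490 := ded_44_1 (flp_i L258614) (flp_e L258136) L375474
theorem L375483 : sm gh N30435 = N44378 := rfl
theorem L375486 : sm ge N44378 = N30491 := ded_43_1 (flp_h L258621) (flp_e L258145) L375483
theorem L375490 : sm gd N30437 = N44379 := rfl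
theorem L375492 : sm ga N44379 = N30967 := ded_12_1 (flp_d L262676) (flp_a L258161) L375490
theorem L375496 : sm gi N44379 = N30492 := ded_39_2 (flp_d L258626) (flp_i L258166) L375490
theorem L375500 : sm gg N30437 = N44380 := rfl
theorem L375502 : sm ga N44380 = N30968 := ded_15_1 (flp_g L262684) (flp_a L258161) L375500
theorem L375520 : sm gj N30438 = N44382 := rfl
theorem L375531 : sm gi N44382 = N30495 := ded_53_2 (flp_j L258652) (flp_i L258177) L375520
theorem L375544 : sm gd N30439 = N44384 := rfl
theorem L375552 : sm gh N44384 = N33330 := ded_38_2 (flp_d L282736) (flp_h L194492) (flp_d L177731) L258181 L375544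
theorem L375554 : sm gi N30439 = N44385 := rfl
theorem L375556 : sm ga N44385 = N30973 := ded_18_1 (flp_i L262728) (flp_a L258183) L375554
theorem L375563 : sm gh N44385 = N30498 := ded_54_1 (flp_i L258684) (flp_h L178055) (flp_i L177733) L258181 L375554
theorem L375594 : sm gg N30442 = N44389 := rfl
theorem L375596 : sm ga N44389 = N30458 := ded_15_1 (flp_g L258354) (flp_a L258213) L375594
theorem L375604 : sm gh N30442 = N44390 := rfl
theorem L375606 : sm ga N44390 = N30459 := ded_17_1 (flp_h L258364) (flp_a L258213) L375604
theorem L375608 : sm ge N44390 = N33336 := ded_43_1 (flp_h L282791) (flp_e L258217) L375604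
theorem L375610 : sm gf N30443 = N44391 := rfl
theorem L375612 : sm ga N44391 = N30460 := ded_14_1 (flp_f L258370) (flp_a L258221) L375610
theorem L375618 : sm ge N44391 = N30640 := ded_40_1 (flp_f L259892) L178861 (flp_f L177762) (flp_e L258225) L375610
theorem L375620 : sm gj N30443 = N44392 := rfl
theorem L375622 : sm ga N44392 = N30461 := ded_16_1 (flp_j L258380) (flp_a L258221) L375620
theorem L375624 : sm gc N44392 = N30452 := ded_31_1 (flp_j L258302) (flp_c L258223) L375620
theorem L375626 : sm ge N44392 = N30445 := ded_42_1 (flp_j L258237) (flp_e L258225) L375620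
theorem L375628 : sm gi N44392 = N30505 := ded_53_2 (flp_j L258745) (flp_i L258227) L375620
theorem L375640 : sm gd N30444 = N44394 := rfl
theorem L375642 : sm ga N44394 = N30463 := ded_12_1 (flp_d L258400) (flp_a L258231) L375640
theorem L375644 : sm gi N30444 = N44395 := rfl
theorem L375650 : sm ge N44395 = N30448 := ded_44_1 (flp_i L258267) (flp_e L258235) L375644
theorem L375652 : sm gh N44395 = N30508 := ded_54_1 (flp_i L258767) (flp_h L178097) (flp_i L177750) L258229 L375644
theorem L375686 : sm ge N30447 = N44399 := rfl
theorem L375688 : sm ga N44399 = N30468 := ded_13_1 (flp_e L258446) (flp_a L258261) L375686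
theorem L375690 : sm gh N44399 = N33345 := ded_43_2 (flp_e L282873) (flp_h L258265) L375686
theorem L375714 : sm gh N30450 = N44403 := rfl
theorem L375716 : sm ga N44403 = N30472 := ded_17_1 (flp_h L258474) (flp_a L258287) L375714
theorem L375720 : sm gd N44403 = N30516 := ded_38_1 (flp_h L258838) L178156 (flp_h L177788) (flp_d L258289) L375714
theorem L375722 : sm gi N44403 = N33349 := ded_54_2 (flp_h L282899) (flp_i L194592) (flp_h L177778) L258285 L375714
theorem L375724 : sm gj N30451 = N44404 := rfl
theorem L375726 : sm ga N44404 = N30473 := ded_16_1 (flp_j L258484) (flp_a L258295) L375724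
theorem L375729 : sm ge N44404 = N30653 := ded_42_1 (flp_j L260003) (flp_e L258300) L375724
theorem L375733 : sm gi N44404 = N30517 := ded_53_2 (flp_j L258847) (flp_i L258298) L375724
theorem L375771 : sm gc N30454 = N44409 := rfl
theorem L375773 : sm ga N44409 = N30478 := ded_11_1 (flp_c L258526) (flp_a L258322) L375771
theorem L375782 : sm gi N30456 = N44411 := rfl
theorem L375784 : sm ga N44411 = N30480 := ded_18_1 (flp_i L258534) (flp_a L258336) L375782
theorem L375787 : sm gf N44411 = N30660 := ded_48_1 (flp_i L260063) (flp_f L258339) L375782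
theorem L375789 : sm gj N44411 = N30457 := ded_53_1 (flp_i L258343) (flp_j L258341) L375782
theorem L375791 : sm gh N44411 = N30524 := ded_54_1 (flp_i L258904) (flp_h L178196) (flp_i L177815) L258334 L375782
theorem L375793 : sm gf N30458 = N44412 := rfl
theorem L375795 : sm gb N44412 = N31000 := ded_22_1 (flp_f L262975) (flp_b L258356) L375793
theorem L375797 : sm gd N44412 = N30460 := ded_35_1 (flp_f L258370) (flp_d L258358) L375793
theorem L375799 : sm gi N44412 = N30525 := ded_48_2 (flp_f L258914) (flp_i L258362) L375793
theorem L375801 : sm gj N30458 = N44413 := rfl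
theorem L375803 : sm gb N44413 = N31001 := ded_24_1 (flp_j L262982) (flp_b L258356) L375801
theorem L375805 : sm gd N44413 = N30461 := ded_37_1 (flp_j L258380) (flp_d L258358) L375801
theorem L375811 : sm gh N30458 = N44414 := rfl
theorem L375813 : sm gb N44414 = N31002 := ded_25_1 (flp_h L262991) (flp_b L258356) L375811
theorem L375815 : sm ge N44414 = N33360 := ded_43_1 (flp_h L283003) (flp_e L258360) L375811
theorem L375817 : sm gg N44414 = N30459 := ded_50_1 (flp_h L258364) L258354 L375811
theorem L375819 : sm gd N30459 = N44415 := rfl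
theorem L375821 : sm gb N44415 = N31003 := ded_20_1 (flp_d L262998) (flp_b L258366) L375819
theorem L375823 : sm gh N44415 = N30463 := ded_38_2 (flp_d L258400) (flp_h L177853) L177835 L258364 L375819
theorem L375825 : sm gi N30459 = N44416 := rfl
theorem L375827 : sm gb N44416 = N31004 := ded_26_1 (flp_i L263002) (flp_b L258366) L375825
theorem L375829 : sm ge N44416 = N33362 := ded_44_1 (flp_i L283016) (flp_e L258368) L375825
theorem L375831 : sm gh N44416 = N30529 := ded_54_1 (flp_i L258942) (flp_h L178224) (flp_i L177839) L258364 L375825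
theorem L375833 : sm gj N30460 = N44417 := rfl
theorem L375835 : sm gb N44417 = N31005 := ded_24_1 (flp_j L263009) (flp_b L258372) L375833
theorem L375837 : sm gc N44417 = N30473 := ded_31_1 (flp_j L258484) (flp_c L258374) L375833
theorem L375839 : sm ge N44417 = N30666 := ded_42_1 (flp_j L260120) (flp_e L258378) L375833
theorem L375841 : sm gf N44417 = N30461 := ded_46_1 (flp_j L258380) L258370 L375833
theorem L375843 : sm gi N44417 = N30530 := ded_53_2 (flp_j L258948) (flp_i L258376) L375833
theorem L375845 : sm gh N30460 = N44418 := rfl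
theorem L375847 : sm gb N44418 = N31006 := ded_25_1 (flp_h L263019) (flp_b L258372) L375845
theorem L375849 : sm gc N44418 = N30474 := ded_32_1 (flp_h L258494) (flp_c L258374) L375845
theorem L375851 : sm ge N44418 = N30667 := ded_43_1 (flp_h L260130) (flp_e L258378) L375845
theorem L375853 : sm gf N44418 = N30462 := ded_47_1 (flp_h L258390) L258370 L375845
theorem L375855 : sm gh N30461 = N44419 := rfl
theorem L375857 : sm gb N44419 = N31007 := ded_25_1 (flp_h L263027) (flp_b L258382) L375855
theorem L375859 : sm gc N44419 = N30475 := ded_32_1 (flp_h L258502) (flp_c L258384) L375855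
theorem L375861 : sm ge N44419 = N30465 := ded_43_1 (flp_h L258414) (flp_e L258386) L375855
theorem L375863 : sm gj N44419 = N30462 := ded_52_1 (flp_h L258390) L258380 L375855
theorem L375865 : sm gd N30462 = N44420 := rfl
theorem L375867 : sm gb N44420 = N31008 := ded_20_1 (flp_d L263035) (flp_b L258392) L375865
theorem L375869 : sm gg N44420 = N30463 := ded_36_2 (flp_d L258400) (flp_g L258398) L375865
theorem L375871 : sm gi N30462 = N44421 := rfl
theorem L375873 : sm gb N44421 = N31009 := ded_26_1 (flp_i L263039) (flp_b L258392) L375871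
theorem L375875 : sm gc N44421 = N30477 := ded_33_1 (flp_i L258516) (flp_c L258394) L375871
theorem L375877 : sm ge N44421 = N30467 := ded_44_1 (flp_i L258434) (flp_e L258396) L375871
theorem L375879 : sm gg N44421 = N30464 := ded_51_1 (flp_i L258404) (flp_g L258398) L375871
theorem L375881 : sm gh N44421 = N30534 := ded_54_1 (flp_i L258984) (flp_h L178246) (flp_i L177851) L258390 L375871
theorem L375883 : sm gc N30463 = N44422 := rfl
theorem L375885 : sm gd N44422 = N30478 := ded_27_2 (flp_c L258526) (flp_d L177941) (flp_c L177857) L258400 L375883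
theorem L375887 : sm ge N30463 = N44423 := rfl
theorem L375889 : sm gb N44423 = N31011 := ded_21_1 (flp_e L263053) (flp_b L258402) L375887
theorem L375893 : sm gi N30463 = N44424 := rfl
theorem L375895 : sm gb N44424 = N31012 := ded_26_1 (flp_i L263057) (flp_b L258402) L375893
theorem L375897 : sm gd N44424 = N30464 := ded_39_1 (flp_i L258404) L258400 L375893
theorem L375909 : sm gi N30465 = N44426 := rfl
theorem L375911 : sm gb N44426 = N31014 := ded_26_1 (flp_i L263070) (flp_b L258416) L375909
theorem L375913 : sm gc N44426 = N30480 := ded_33_1 (flp_i L258534) (flp_c L258418) L375909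
theorem L375915 : sm gf N44426 = N30675 := ded_48_1 (flp_i L260195) (flp_f L258420) L375909
theorem L375917 : sm gj N44426 = N30467 := ded_53_1 (flp_i L258434) (flp_j L258422) L375909
theorem L375919 : sm gh N44426 = N30539 := ded_54_1 (flp_i L259021) (flp_h L178268) (flp_i L177871) L258414 L375909
theorem L375921 : sm ge N30466 = N44427 := rfl
theorem L375923 : sm gb N44427 = N31015 := ded_21_1 (flp_e L263080) (flp_b L258426) L375921
theorem L375953 : sm gh N30469 = N44431 := rfl
theorem L375955 : sm gb N44431 = N31019 := ded_25_1 (flp_h L263108) (flp_b L258454) L375953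
theorem L375963 : sm gg N30470 = N44432 := rfl
theorem L375969 : sm gf N44432 = N30681 := ded_45_1 (flp_g L260249) (flp_f L179096) (flp_g L177905) L258460 L375963
theorem L375987 : sm gg N30473 = N44435 := rfl
theorem L375989 : sm gb N44435 = N30481 := ded_23_1 (flp_g L258544) (flp_b L258486) L375987
theorem L375991 : sm ge N44435 = N30684 := ded_41_1 (flp_g L260271) (flp_e L258488) L375987
theorem L375993 : sm gi N44435 = N30548 := ded_51_2 (flp_g L259103) (flp_i L258492) L375987
theorem L375995 : sm gh N30473 = N44436 := rfl
theorem L375997 : sm gb N44436 = N30482 := ded_25_1 (flp_h L258553) (flp_b L258486) L375995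
theorem L375999 : sm ge N44436 = N30685 := ded_43_1 (flp_h L260279) (flp_e L258488) L375995
theorem L376003 : sm gj N44436 = N30474 := ded_52_1 (flp_h L258494) L258484 L375995
theorem L376005 : sm gd N30474 = N44437 := rfl
theorem L376007 : sm gb N44437 = N30483 := ded_20_1 (flp_d L258564) (flp_b L258496) L376005
theorem L376011 : sm gi N30474 = N44438 := rfl
theorem L376013 : sm gb N44438 = N30484 := ded_26_1 (flp_i L258569) (flp_b L258496) L376011
theorem L376015 : sm ge N44438 = N30687 := ded_44_1 (flp_i L260294) (flp_e L258498) L376011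
theorem L376017 : sm gf N44438 = N30477 := ded_48_1 (flp_i L258516) (flp_f L258500) L376011
theorem L376019 : sm gh N44438 = N30551 := ded_54_1 (flp_i L259125) (flp_h L178348) (flp_i L177921) L258494 L376011
theorem L376027 : sm gi N30475 = N44440 := rfl
theorem L376031 : sm ge N44440 = N30480 := ded_44_1 (flp_i L258534) (flp_e L258506) L376027
theorem L376033 : sm gj N44440 = N30477 := ded_53_1 (flp_i L258516) (flp_j L258508) L376027
theorem L376035 : sm gh N44440 = N30553 := ded_54_1 (flp_i L259140) (flp_h L178356) (flp_i L177931) L258502 L376027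
theorem L376037 : sm gc N30476 = N44441 := rfl
theorem L376039 : sm gg N44441 = N30478 := ded_30_2 (flp_c L258526) (flp_g L258514) L376037
theorem L376041 : sm gi N30476 = N44442 := rfl
theorem L376043 : sm gb N44442 = N30488 := ded_26_1 (flp_i L258603) (flp_b L258512) L376041
theorem L376045 : sm gd N44442 = N30477 := ded_39_1 (flp_i L258516) L258510 L376041
theorem L376047 : sm gg N44442 = N30479 := ded_51_1 (flp_i L258528) (flp_g L258514) L376041
theorem L376049 : sm gb N30478 = N44443 := rfl
theorem L376051 : sm gc N44443 = N30489 := ded_19_2 (flp_b L258610) (flp_c L178016) (flp_b L177943) L258526 L376049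
theorem L376053 : sm gi N30478 = N44444 := rfl
theorem L376055 : sm gc N44444 = N30479 := ded_33_1 (flp_i L258528) L258526 L376053
theorem L376057 : sm gh N30479 = N44445 := rfl
theorem L376059 : sm gb N44445 = N30491 := ded_25_1 (flp_h L258621) (flp_b L258530) L376057
theorem L376061 : sm gd N44445 = N30558 := ded_38_1 (flp_h L259172) L178386 (flp_h L177951) (flp_d L258532) L376057
theorem L376079 : sm gi N30482 = N44448 := rfl
theorem L376082 : sm gc N44448 = N31036 := ded_33_1 (flp_i L263241) (flp_c L258556) L376079
theorem L376084 : sm ge N44448 = N30697 := ded_44_1 (flp_i L260369) (flp_e L258558) L376079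
theorem L376088 : sm gj N44448 = N30484 := ded_53_1 (flp_i L258569) (flp_j L258562) L376079
theorem L376090 : sm gh N44448 = N30561 := ded_54_1 (flp_i L259193) (flp_h L178405) (flp_i L177980) L258553 L376079
theorem L376104 : sm gi N30483 = N44451 := rfl
theorem L376107 : sm gd N44451 = N30484 := ded_39_1 (flp_i L258569) L258564 L376104
theorem L376109 : sm gf N44451 = N30488 := ded_48_1 (flp_i L258603) (flp_f L258567) L376104
theorem L376118 : sm gi N30485 = N44453 := rfl
theorem L376121 : sm gd N44453 = N30486 := ded_39_1 (flp_i L258585) L258580 L376118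
theorem L376123 : sm gj N44453 = N30488 := ded_53_1 (flp_i L258603) (flp_j L258583) L376118
theorem L376140 : sm gh N30488 = N44456 := rfl
theorem L376143 : sm gg N44456 = N30491 := ded_50_1 (flp_h L258621) (flp_g L258608) L376140
theorem L376145 : sm gd N44456 = N30569 := ded_38_1 (flp_h L259257) L178456 (flp_h L178014) (flp_d L258606) L376140
theorem L376147 : sm ga N30489 = N44457 := rfl
theorem L376149 : sm gd N44457 = N31045 := ded_12_2 (flp_a L263310) (flp_d L258612) L376147
theorem L376152 : sm gi N30489 = N44458 := rfl
theorem L376154 : sm gb N44458 = N30490 := ded_26_1 (flp_i L258614) L258610 L376152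
theorem L376156 : sm gd N44458 = N31046 := ded_39_1 (flp_i L263315) (flp_d L258612) L376152
theorem L376158 : sm gh N30490 = N44459 := rfl
theorem L376161 : sm gc N44459 = N30491 := ded_32_1 (flp_h L258621) (flp_c L258617) L376158
theorem L376163 : sm gc N30492 = N44460 := rfl
theorem L376165 : sm ga N44460 = N31048 := ded_11_1 (flp_c L263327) (flp_a L258628) L376163
theorem L376167 : sm ge N44460 = N33406 := ded_28_2 (flp_c L283371) (flp_e L258632) L376163
theorem L376170 : sm gg N30492 = N44461 := rfl
theorem L376176 : sm gd N44461 = N30493 := ded_36_1 (flp_g L258634) L258626 L376170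
theorem L376180 : sm gh N30492 = N44462 := rfl
theorem L376182 : sm ga N44462 = N31050 := ded_17_1 (flp_h L263341) (flp_a L258628) L376180
theorem L376184 : sm gb N44462 = N30503 := ded_25_1 (flp_h L258731) (flp_b L258630) L376180
theorem L376188 : sm gf N30493 = N44463 := rfl
theorem L376190 : sm ga N44463 = N31051 := ded_14_1 (flp_f L263347) (flp_a L258636) L376188
theorem L376192 : sm gb N44463 = N30504 := ded_22_1 (flp_f L258737) (flp_b L258638) L376188
theorem L376194 : sm gc N44463 = N44463 := ded_29_1 (flp_f L376188) L258640 L376188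
theorem L376195 : sm ge N44463 = N30712 := ded_40_1 (flp_f L260489) L179284 (flp_f L178053) (flp_e L258641) L376188
theorem L376197 : sm gj N30493 = N44464 := rfl
theorem L376204 : sm ge N44464 = N30495 := ded_42_1 (flp_j L258652) (flp_e L258641) L376197
theorem L376206 : sm gh N30493 = N44465 := rfl
theorem L376208 : sm ga N44465 = N31053 := ded_17_1 (flp_h L263361) (flp_a L258636) L376206
theorem L376210 : sm gb N44465 = N30506 := ded_25_1 (flp_h L258753) (flp_b L258638) L376206
theorem L376212 : sm gc N44465 = N44465 := ded_32_1 (flp_h L376206) L258640 L376206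
theorem L376213 : sm ge N44465 = N30496 := ded_43_1 (flp_h L258663) (flp_e L258641) L376206
theorem L376215 : sm gg N44465 = N30494 := ded_50_1 (flp_h L258643) L258634 L376206
theorem L376217 : sm gd N30494 = N44466 := rfl
theorem L376219 : sm ga N44466 = N31054 := ded_12_1 (flp_d L263370) (flp_a L258645) L376217
theorem L376221 : sm gb N44466 = N30507 := ded_20_1 (flp_d L258763) (flp_b L258647) L376217
theorem L376223 : sm gi N30494 = N44467 := rfl
theorem L376225 : sm ga N44467 = N31055 := ded_18_1 (flp_i L263374) (flp_a L258645) L376223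
theorem L376227 : sm gb N44467 = N30508 := ded_26_1 (flp_i L258767) (flp_b L258647) L376223
theorem L376229 : sm gc N44467 = N44467 := ded_33_1 (flp_i L376223) L258649 L376223
theorem L376230 : sm ge N44467 = N30498 := ded_44_1 (flp_i L258684) (flp_e L258650) L376223
theorem L376232 : sm gh N30495 = N44468 := rfl
theorem L376234 : sm ga N44468 = N31056 := ded_17_1 (flp_h L263381) (flp_a L258654) L376232
theorem L376236 : sm gb N44468 = N30509 := ded_25_1 (flp_h L258775) (flp_b L258656) L376232
theorem L376239 : sm gf N44468 = N30717 := ded_47_1 (flp_h L260534) (flp_f L258661) L376232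
theorem L376241 : sm gj N44468 = N30496 := ded_52_1 (flp_h L258663) L258652 L376232
theorem L376243 : sm gd N30496 = N44469 := rfl
theorem L376247 : sm gb N44469 = N30510 := ded_20_1 (flp_d L258785) (flp_b L258667) L376243
theorem L376255 : sm gi N30496 = N44470 := rfl
theorem L376257 : sm ga N44470 = N31058 := ded_18_1 (flp_i L263400) (flp_a L258665) L376255
theorem L376259 : sm gb N44470 = N30511 := ded_26_1 (flp_i L258796) (flp_b L258667) L376255
theorem L376261 : sm gc N44470 = N44470 := ded_33_1 (flp_i L376255) L258669 L376255
theorem L376262 : sm gf N44470 = N30719 := ded_48_1 (flp_i L260554) (flp_f L258670) L376255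
theorem L376264 : sm gg N44470 = N30498 := ded_51_1 (flp_i L258684) (flp_g L258672) L376255
theorem L376266 : sm gc N30497 = N44471 := rfl
theorem L376270 : sm gf N44471 = N30499 := ded_29_2 (flp_c L258693) (flp_f L258680) L376266
theorem L376272 : sm gh N44471 = N33417 := ded_32_2 (flp_c L283478) (flp_h L258682) L376266
theorem L376276 : sm ge N30497 = N44472 := rfl
theorem L376278 : sm ga N44472 = N31060 := ded_13_1 (flp_e L263418) (flp_a L258676) L376276
theorem L376280 : sm gb N44472 = N30512 := ded_21_1 (flp_e L258806) (flp_b L258678) L376276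
theorem L376284 : sm gi N30497 = N44473 := rfl
theorem L376288 : sm gb N44473 = N30513 := ded_26_1 (flp_i L258813) (flp_b L258678) L376284
theorem L376343 : sm gf N30502 = N44479 := rfl
theorem L376345 : sm ga N44479 = N30525 := ded_14_1 (flp_f L258914) (flp_a L258725) L376343
theorem L376347 : sm gd N44479 = N30504 := ded_35_1 (flp_f L258737) (flp_d L258727) L376343
theorem L376357 : sm gh N30502 = N44481 := rfl
theorem L376359 : sm ga N44481 = N30527 := ded_17_1 (flp_h L258928) (flp_a L258725) L376357
theorem L376361 : sm ge N44481 = N33427 := ded_43_1 (flp_h L283562) (flp_e L258729) L376357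
theorem L376363 : sm gg N44481 = N30503 := ded_50_1 (flp_h L258731) L258723 L376357
theorem L376365 : sm gd N30503 = N44482 := rfl
theorem L376367 : sm ga N44482 = N30528 := ded_12_1 (flp_d L258936) (flp_a L258733) L376365
theorem L376369 : sm gh N44482 = N30507 := ded_38_2 (flp_d L258763) (flp_h L178097) L178083 L258731 L376365
theorem L376371 : sm gi N30503 = N44483 := rfl
theorem L376373 : sm ga N44483 = N30529 := ded_18_1 (flp_i L258942) (flp_a L258733) L376371
theorem L376375 : sm ge N44483 = N33429 := ded_44_1 (flp_i L283575) (flp_e L258735) L376371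
theorem L376377 : sm gj N30504 = N44484 := rfl
theorem L376379 : sm ga N44484 = N30530 := ded_16_1 (flp_j L258948) (flp_a L258739) L376377
theorem L376381 : sm gc N44484 = N30517 := ded_31_1 (flp_j L258847) (flp_c L258741) L376377
theorem L376383 : sm ge N44484 = N30733 := ded_42_1 (flp_j L260681) (flp_e L258743) L376377
theorem L376385 : sm gf N44484 = N30505 := ded_46_1 (flp_j L258745) L258737 L376377
theorem L376387 : sm gh N30504 = N44485 := rfl
theorem L376389 : sm ga N44485 = N30531 := ded_17_1 (flp_h L258958) (flp_a L258739) L376387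
theorem L376391 : sm gc N44485 = N30518 := ded_32_1 (flp_h L258856) (flp_c L258741) L376387
theorem L376393 : sm ge N44485 = N30734 := ded_43_1 (flp_h L260689) (flp_e L258743) L376387
theorem L376395 : sm gf N44485 = N30506 := ded_47_1 (flp_h L258753) L258737 L376387
theorem L376397 : sm gh N30505 = N44486 := rfl
theorem L376399 : sm ga N44486 = N30532 := ded_17_1 (flp_h L258968) (flp_a L258747) L376397
theorem L376401 : sm gc N44486 = N30519 := ded_32_1 (flp_h L258865) (flp_c L258749) L376397
theorem L376405 : sm gj N44486 = N30506 := ded_52_1 (flp_h L258753) L258745 L376397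
theorem L376407 : sm gd N30506 = N44487 := rfl
theorem L376409 : sm ga N44487 = N30533 := ded_12_1 (flp_d L258978) (flp_a L258755) L376407
theorem L376411 : sm gg N44487 = N30507 := ded_36_2 (flp_d L258763) (flp_g L258761) L376407
theorem L376413 : sm gi N30506 = N44488 := rfl
theorem L376415 : sm ga N44488 = N30534 := ded_18_1 (flp_i L258984) (flp_a L258755) L376413
theorem L376417 : sm gc N44488 = N30521 := ded_33_1 (flp_i L258882) (flp_c L258757) L376413
theorem L376419 : sm ge N44488 = N30511 := ded_44_1 (flp_i L258796) (flp_e L258759) L376413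
theorem L376421 : sm gg N44488 = N30508 := ded_51_1 (flp_i L258767) (flp_g L258761) L376413
theorem L376423 : sm gc N30507 = N44489 := rfl
theorem L376425 : sm ga N44489 = N30535 := ded_11_1 (flp_c L258994) (flp_a L258765) L376423
theorem L376427 : sm gd N44489 = N30522 := ded_27_2 (flp_c L258891) (flp_d L178183) (flp_c L178101) L258763 L376423
theorem L376429 : sm ge N30507 = N44490 := rfl
theorem L376431 : sm ga N44490 = N30536 := ded_13_1 (flp_e L258998) (flp_a L258765) L376429
theorem L376433 : sm gd N44490 = N30512 := ded_34_1 (flp_e L258806) (flp_d L178125) (flp_e L178103) L258763 L376429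
theorem L376435 : sm gi N30507 = N44491 := rfl
theorem L376437 : sm ga N44491 = N30537 := ded_18_1 (flp_i L259004) (flp_a L258765) L376435
theorem L376439 : sm gd N44491 = N30508 := ded_39_1 (flp_i L258767) L258763 L376435
theorem L376441 : sm gd N30509 = N44492 := rfl
theorem L376447 : sm gj N44492 = N30510 := ded_37_2 (flp_d L258785) (flp_j L258783) L376441
theorem L376452 : sm gi N30509 = N44493 := rfl
theorem L376454 : sm ga N44493 = N30539 := ded_18_1 (flp_i L259021) (flp_a L258777) L376452
theorem L376456 : sm gc N44493 = N30524 := ded_33_1 (flp_i L258904) (flp_c L258779) L376452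
theorem L376458 : sm gf N44493 = N30742 := ded_48_1 (flp_i L260755) (flp_f L258781) L376452
theorem L376460 : sm gj N44493 = N30511 := ded_53_1 (flp_i L258796) (flp_j L258783) L376452
theorem L376462 : sm ge N30510 = N44494 := rfl
theorem L376464 : sm ga N44494 = N30540 := ded_13_1 (flp_e L259031) (flp_a L258787) L376462
theorem L376466 : sm gc N44494 = N44494 := ded_28_1 (flp_e L376462) L258793 L376462
theorem L376467 : sm gg N44494 = N30512 := ded_41_2 (flp_e L258806) (flp_g L258791) L376462
theorem L376469 : sm gh N44494 = N33440 := ded_43_2 (flp_e L283666) (flp_h L258794) L376462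
theorem L376471 : sm gi N30510 = N44495 := rfl
theorem L376473 : sm ga N44495 = N30541 := ded_18_1 (flp_i L259040) (flp_a L258787) L376471
theorem L376475 : sm gc N44495 = N44495 := ded_33_1 (flp_i L376471) L258793 L376471
theorem L376476 : sm gd N44495 = N30511 := ded_39_1 (flp_i L258796) L258785 L376471
theorem L376478 : sm gf N44495 = N30744 := ded_48_1 (flp_i L260773) (flp_f L258789) L376471
theorem L376480 : sm gg N44495 = N30513 := ded_51_1 (flp_i L258813) (flp_g L258791) L376471
theorem L376482 : sm gf N30512 = N44496 := rfl
theorem L376484 : sm ga N44496 = N30542 := ded_14_1 (flp_f L259051) (flp_a L258808) L376482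
theorem L376489 : sm ge N44496 = N30514 := ded_40_1 (flp_f L258822) (flp_e L178142) (flp_f L178129) L258806 L376482
theorem L376491 : sm gi N30512 = N44497 := rfl
theorem L376493 : sm ga N44497 = N30543 := ded_18_1 (flp_i L259060) (flp_a L258808) L376491
theorem L376495 : sm gc N44497 = N44497 := ded_33_1 (flp_i L376491) L258810 L376491
theorem L376496 : sm ge N44497 = N30513 := ded_44_1 (flp_i L258813) L258806 L376491
theorem L376498 : sm gh N30513 = N44498 := rfl
theorem L376500 : sm ga N44498 = N30544 := ded_17_1 (flp_h L259067) (flp_a L258815) L376498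
theorem L376503 : sm gf N44498 = N30516 := ded_47_1 (flp_h L258838) (flp_f L258820) L376498
theorem L376505 : sm gi N44498 = N33444 := ded_54_2 (flp_h L283698) (flp_i L195138) (flp_h L178132) L258813 L376498
theorem L376507 : sm gg N30514 = N44499 := rfl
theorem L376509 : sm ga N44499 = N30545 := ded_15_1 (flp_g L259076) (flp_a L258824) L376507
theorem L376516 : sm gi N30514 = N44500 := rfl
theorem L376518 : sm ga N44500 = N30546 := ded_18_1 (flp_i L259085) (flp_a L258824) L376516
theorem L376521 : sm gf N44500 = N30515 := ded_48_1 (flp_i L258829) L258822 L376516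
theorem L376523 : sm gh N30515 = N44501 := rfl
theorem L376525 : sm ga N44501 = N30547 := ded_17_1 (flp_h L259092) (flp_a L258831) L376523
theorem L376532 : sm gi N44501 = N33447 := ded_54_2 (flp_h L283721) (flp_i L195153) (flp_h L178149) L258829 L376523
theorem L376534 : sm gg N30517 = N44502 := rfl
theorem L376536 : sm ga N44502 = N30548 := ded_15_1 (flp_g L259103) (flp_a L258849) L376534
theorem L376538 : sm gb N44502 = N44502 := ded_23_1 (flp_g L376534) L258851 L376534
theorem L376539 : sm ge N44502 = N30751 := ded_41_1 (flp_g L260835) (flp_e L258852) L376534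
theorem L376541 : sm gh N30517 = N44503 := rfl
theorem L376543 : sm ga N44503 = N30549 := ded_17_1 (flp_h L259109) (flp_a L258849) L376541
theorem L376545 : sm gb N44503 = N44503 := ded_25_1 (flp_h L376541) L258851 L376541
theorem L376546 : sm ge N44503 = N30752 := ded_43_1 (flp_h L260842) (flp_e L258852) L376541
theorem L376548 : sm gf N44503 = N30519 := ded_47_1 (flp_h L258865) (flp_f L258854) L376541
theorem L376550 : sm gj N44503 = N30518 := ded_52_1 (flp_h L258856) L258847 L376541
theorem L376552 : sm gd N30518 = N44504 := rfl
theorem L376554 : sm ga N44504 = N30550 := ded_12_1 (flp_d L259119) (flp_a L258858) L376552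
theorem L376556 : sm gb N44504 = N44504 := ded_20_1 (flp_d L376552) L258860 L376552
theorem L376557 : sm gf N44504 = N30520 := ded_35_2 (flp_d L258874) (flp_f L258863) L376552
theorem L376559 : sm gi N30518 = N44505 := rfl
theorem L376561 : sm ga N44505 = N30551 := ded_18_1 (flp_i L259125) (flp_a L258858) L376559
theorem L376563 : sm gb N44505 = N44505 := ded_26_1 (flp_i L376559) L258860 L376559
theorem L376564 : sm ge N44505 = N30754 := ded_44_1 (flp_i L260859) (flp_e L258861) L376559
theorem L376566 : sm gf N44505 = N30521 := ded_48_1 (flp_i L258882) (flp_f L258863) L376559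
theorem L376568 : sm gd N30519 = N44506 := rfl
theorem L376570 : sm ga N44506 = N30552 := ded_12_1 (flp_d L259133) (flp_a L258867) L376568
theorem L376572 : sm gb N44506 = N44506 := ded_20_1 (flp_d L376568) L258869 L376568
theorem L376573 : sm gj N44506 = N30520 := ded_37_2 (flp_d L258874) (flp_j L258872) L376568
theorem L376575 : sm ge N44506 = N44506 := ded_34_2 (flp_d L376568) L258870 L178205 (flp_e L258870) L376568
theorem L376576 : sm gi N30519 = N44507 := rfl
theorem L376578 : sm ga N44507 = N30553 := ded_18_1 (flp_i L259140) (flp_a L258867) L376576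
theorem L376580 : sm gb N44507 = N44507 := ded_26_1 (flp_i L376576) L258869 L376576
theorem L376581 : sm ge N44507 = N30524 := ded_44_1 (flp_i L258904) (flp_e L258870) L376576
theorem L376583 : sm gj N44507 = N30521 := ded_53_1 (flp_i L258882) (flp_j L258872) L376576
theorem L376585 : sm gc N30520 = N44508 := rfl
theorem L376587 : sm ga N44508 = N30554 := ded_11_1 (flp_c L259148) (flp_a L258876) L376585
theorem L376590 : sm gg N44508 = N30522 := ded_30_2 (flp_c L258891) (flp_g L258879) L376585
theorem L376592 : sm gi N30520 = N44509 := rfl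
theorem L376594 : sm ga N44509 = N30555 := ded_18_1 (flp_i L259153) (flp_a L258876) L376592
theorem L376596 : sm gb N44509 = N44509 := ded_26_1 (flp_i L376592) L258878 L376592
theorem L376597 : sm gd N44509 = N30521 := ded_39_1 (flp_i L258882) L258874 L376592
theorem L376599 : sm ge N44509 = N44509 := ded_44_1 (flp_i L376592) L258881 L376592
theorem L376600 : sm gg N44509 = N30523 := ded_51_1 (flp_i L258896) (flp_g L258879) L376592
theorem L376606 : sm gi N30522 = N44511 := rfl
theorem L376608 : sm ga N44511 = N30557 := ded_18_1 (flp_i L259167) (flp_a L258893) L376606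
theorem L376610 : sm gc N44511 = N30523 := ded_33_1 (flp_i L258896) L258891 L376606
theorem L376613 : sm gh N30523 = N44512 := rfl
theorem L376615 : sm ga N44512 = N30558 := ded_17_1 (flp_h L259172) (flp_a L258898) L376613
theorem L376617 : sm gb N44512 = N44512 := ded_25_1 (flp_h L376613) L258900 L376613
theorem L376618 : sm ge N44512 = N44512 := ded_43_1 (flp_h L376613) L258903 L376613
theorem L376619 : sm ge N30525 = N44513 := rfl
theorem L376621 : sm gb N44513 = N31101 := ded_21_1 (flp_e L263774) (flp_b L258916) L376619
theorem L376623 : sm gd N44513 = N30762 := ded_34_1 (flp_e L260926) L179560 (flp_e L178236) (flp_d L258918) L376619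
theorem L376625 : sm gf N44513 = N33459 := ded_40_2 (flp_e L283830) (flp_f L195247) (flp_e L178222) L258914 L376619
theorem L376627 : sm gj N30525 = N44514 := rfl
theorem L376631 : sm gd N44514 = N30530 := ded_37_1 (flp_j L258948) (flp_d L258918) L376627
theorem L376635 : sm gh N30525 = N44515 := rfl
theorem L376637 : sm gb N44515 = N31103 := ded_25_1 (flp_h L263788) (flp_b L258916) L376635
theorem L376639 : sm gf N44515 = N30527 := ded_47_1 (flp_h L258928) L258914 L376635
theorem L376641 : sm gh N30526 = N44516 := rfl
theorem L376643 : sm gb N44516 = N31104 := ded_25_1 (flp_h L263793) (flp_b L258922) L376641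
theorem L376647 : sm gj N44516 = N30527 := ded_52_1 (flp_h L258928) L258920 L376641
theorem L376649 : sm gd N30527 = N44517 := rfl
theorem L376651 : sm gb N44517 = N31105 := ded_20_1 (flp_d L263800) (flp_b L258930) L376649
theorem L376653 : sm gg N44517 = N30528 := ded_36_2 (flp_d L258936) (flp_g L258934) L376649
theorem L376655 : sm gh N44517 = N30533 := ded_38_2 (flp_d L258978) (flp_h L178246) (flp_d L178220) L258928 L376649
theorem L376657 : sm gi N30527 = N44518 := rfl
theorem L376659 : sm gb N44518 = N31106 := ded_26_1 (flp_i L263806) (flp_b L258930) L376657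
theorem L376661 : sm ge N44518 = N33464 := ded_44_1 (flp_i L283866) (flp_e L258932) L376657
theorem L376663 : sm gg N44518 = N30529 := ded_51_1 (flp_i L258942) (flp_g L258934) L376657
theorem L376665 : sm gc N30528 = N44519 := rfl
theorem L376667 : sm gh N44519 = N30535 := ded_32_2 (flp_c L258994) (flp_h L258940) L376665
theorem L376669 : sm ge N30528 = N44520 := rfl
theorem L376671 : sm gb N44520 = N31108 := ded_21_1 (flp_e L263818) (flp_b L258938) L376669
theorem L376673 : sm gh N44520 = N30536 := ded_43_2 (flp_e L258998) (flp_h L258940) L376669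
theorem L376675 : sm gd N44520 = N33466 := ded_34_1 (flp_e L283877) (flp_d L195266) (flp_e L178228) L258936 L376669
theorem L376677 : sm gi N30528 = N44521 := rfl
theorem L376679 : sm gb N44521 = N31109 := ded_26_1 (flp_i L263824) (flp_b L258938) L376677
theorem L376681 : sm gd N44521 = N30529 := ded_39_1 (flp_i L258942) L258936 L376677
theorem L376683 : sm gg N30530 = N44522 := rfl
theorem L376685 : sm gb N44522 = N31110 := ded_23_1 (flp_g L263828) (flp_b L258950) L376683
theorem L376687 : sm gc N44522 = N30548 := ded_30_1 (flp_g L259103) (flp_c L258952) L376683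
theorem L376689 : sm ge N44522 = N30771 := ded_41_1 (flp_g L260998) (flp_e L258954) L376683
theorem L376691 : sm gh N30530 = N44523 := rfl
theorem L376693 : sm gb N44523 = N31111 := ded_25_1 (flp_h L263834) (flp_b L258950) L376691
theorem L376695 : sm gc N44523 = N30549 := ded_32_1 (flp_h L259109) (flp_c L258952) L376691
theorem L376697 : sm ge N44523 = N30772 := ded_43_1 (flp_h L261005) (flp_e L258954) L376691
theorem L376699 : sm gf N44523 = N30532 := ded_47_1 (flp_h L258968) (flp_f L258956) L376691
theorem L376701 : sm gj N44523 = N30531 := ded_52_1 (flp_h L258958) L258948 L376691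
theorem L376703 : sm gd N30531 = N44524 := rfl
theorem L376705 : sm gb N44524 = N31112 := ded_20_1 (flp_d L263844) (flp_b L258960) L376703
theorem L376707 : sm gf N44524 = N30533 := ded_35_2 (flp_d L258978) (flp_f L258966) L376703
theorem L376709 : sm gi N30531 = N44525 := rfl
theorem L376711 : sm gb N44525 = N31113 := ded_26_1 (flp_i L263848) (flp_b L258960) L376709
theorem L376713 : sm gc N44525 = N30551 := ded_33_1 (flp_i L259125) (flp_c L258962) L376709
theorem L376715 : sm ge N44525 = N30774 := ded_44_1 (flp_i L261021) (flp_e L258964) L376709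
theorem L376717 : sm gf N44525 = N30534 := ded_48_1 (flp_i L258984) (flp_f L258966) L376709
theorem L376719 : sm gd N30532 = N44526 := rfl
theorem L376721 : sm gb N44526 = N31114 := ded_20_1 (flp_d L263856) (flp_b L258970) L376719
theorem L376723 : sm gj N44526 = N30533 := ded_37_2 (flp_d L258978) (flp_j L258976) L376719
theorem L376725 : sm gi N30532 = N44527 := rfl
theorem L376727 : sm gb N44527 = N31115 := ded_26_1 (flp_i L263860) (flp_b L258970) L376725
theorem L376729 : sm gc N44527 = N30553 := ded_33_1 (flp_i L259140) (flp_c L258972) L376725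
theorem L376731 : sm ge N44527 = N30539 := ded_44_1 (flp_i L259021) (flp_e L258974) L376725
theorem L376733 : sm gj N44527 = N30534 := ded_53_1 (flp_i L258984) (flp_j L258976) L376725
theorem L376735 : sm gc N30533 = N44528 := rfl
theorem L376737 : sm gg N44528 = N30535 := ded_30_2 (flp_c L258994) (flp_g L258982) L376735
theorem L376739 : sm gd N44528 = N30554 := ded_27_2 (flp_c L259148) (flp_d L178364) (flp_c L178250) L258978 L376735
theorem L376741 : sm ge N30533 = N44529 := rfl
theorem L376743 : sm gb N44529 = N31117 := ded_21_1 (flp_e L263874) (flp_b L258980) L376741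
theorem L376745 : sm gg N44529 = N30536 := ded_41_2 (flp_e L258998) (flp_g L258982) L376741
theorem L376747 : sm gd N44529 = N30540 := ded_34_1 (flp_e L259031) (flp_d L178278) (flp_e L178252) L258978 L376741
theorem L376749 : sm gi N30533 = N44530 := rfl
theorem L376751 : sm gb N44530 = N31118 := ded_26_1 (flp_i L263880) (flp_b L258980) L376749
theorem L376753 : sm gd N44530 = N30534 := ded_39_1 (flp_i L258984) L258978 L376749
theorem L376755 : sm gg N44530 = N30537 := ded_51_1 (flp_i L259004) (flp_g L258982) L376749
theorem L376757 : sm gb N30535 = N44531 := rfl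
theorem L376759 : sm gd N44531 = N30556 := ded_20_2 (flp_b L259162) (flp_d L258996) L376757
theorem L376761 : sm gc N44531 = N31119 := ded_19_2 (flp_b L263886) (flp_c L181543) (flp_b L178258) L258994 L376757
theorem L376763 : sm ge N30535 = N44532 := rfl
theorem L376765 : sm gc N44532 = N30536 := ded_28_1 (flp_e L258998) L258994 L376763
theorem L376767 : sm gd N44532 = N44532 := ded_34_1 (flp_e L376763) L258996 L178381 (flp_d L258996) L376763
theorem L376768 : sm gi N30535 = N44533 := rfl
theorem L376770 : sm gc N44533 = N30537 := ded_33_1 (flp_i L259004) L258994 L376768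
theorem L376772 : sm gd N44533 = N30557 := ded_39_1 (flp_i L259167) (flp_d L258996) L376768
theorem L376774 : sm gf N30536 = N44534 := rfl
theorem L376776 : sm gb N44534 = N31122 := ded_22_1 (flp_f L263902) (flp_b L259000) L376774
theorem L376778 : sm gd N44534 = N30542 := ded_35_1 (flp_f L259051) (flp_d L259002) L376774
theorem L376780 : sm gi N30536 = N44535 := rfl
theorem L376782 : sm gb N44535 = N31123 := ded_26_1 (flp_i L263906) (flp_b L259000) L376780
theorem L376784 : sm gd N44535 = N30543 := ded_39_1 (flp_i L259060) (flp_d L259002) L376780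
theorem L376786 : sm ge N44535 = N30537 := ded_44_1 (flp_i L259004) L258998 L376780
theorem L376788 : sm gh N30537 = N44536 := rfl
theorem L376790 : sm gb N44536 = N31124 := ded_25_1 (flp_h L263912) (flp_b L259006) L376788
theorem L376792 : sm ge N30538 = N44537 := rfl
theorem L376797 : sm gj N44537 = N30540 := ded_42_2 (flp_e L259031) (flp_j L259016) L376792
theorem L376801 : sm gi N30538 = N44538 := rfl
theorem L376803 : sm gb N44538 = N31126 := ded_26_1 (flp_i L263922) (flp_b L259012) L376801
theorem L376806 : sm gd N44538 = N30539 := ded_39_1 (flp_i L259021) L259010 L376801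
theorem L376808 : sm gf N44538 = N30787 := ded_48_1 (flp_i L261120) (flp_f L259014) L376801
theorem L376810 : sm gj N44538 = N30541 := ded_53_1 (flp_i L259040) (flp_j L259016) L376801
theorem L376812 : sm gf N30540 = N44539 := rfl
theorem L376814 : sm gb N44539 = N31127 := ded_22_1 (flp_f L263932) (flp_b L259033) L376812
theorem L376816 : sm gc N44539 = N44539 := ded_29_1 (flp_f L376812) L259035 L376812
theorem L376817 : sm gh N44539 = N33485 := ded_47_2 (flp_f L284024) (flp_h L259038) L376812
theorem L376819 : sm ge N44539 = N30788 := ded_40_1 (flp_f L261130) (flp_e L179677) (flp_f L178282) L259031 L376812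
theorem L376821 : sm gi N30540 = N44540 := rfl
theorem L376823 : sm gb N44540 = N31128 := ded_26_1 (flp_i L263940) (flp_b L259033) L376821
theorem L376825 : sm gc N44540 = N44540 := ded_33_1 (flp_i L376821) L259035 L376821
theorem L376826 : sm ge N44540 = N30541 := ded_44_1 (flp_i L259040) L259031 L376821
theorem L376828 : sm gg N44540 = N30543 := ded_51_1 (flp_i L259060) (flp_g L259036) L376821
theorem L376830 : sm gh N30541 = N44541 := rfl
theorem L376835 : sm gf N44541 = N30790 := ded_47_1 (flp_h L261146) (flp_f L259047) L376830
theorem L376841 : sm gg N30542 = N44542 := rfl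
theorem L376843 : sm gb N44542 = N31130 := ded_23_1 (flp_g L263958) (flp_b L259053) L376841
theorem L376845 : sm gc N44542 = N44542 := ded_30_1 (flp_g L376841) L259055 L376841
theorem L376846 : sm ge N44542 = N30545 := ded_41_1 (flp_g L259076) (flp_e L259058) L376841
theorem L376848 : sm gh N44542 = N33488 := ded_50_2 (flp_g L284049) (flp_h L259056) L376841
theorem L376850 : sm gi N30542 = N44543 := rfl
theorem L376852 : sm gb N44543 = N31131 := ded_26_1 (flp_i L263966) (flp_b L259053) L376850
theorem L376854 : sm gc N44543 = N44543 := ded_33_1 (flp_i L376850) L259055 L376850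
theorem L376855 : sm ge N44543 = N30546 := ded_44_1 (flp_i L259085) (flp_e L259058) L376850
theorem L376857 : sm gf N44543 = N30543 := ded_48_1 (flp_i L259060) L259051 L376850
theorem L376859 : sm gh N30543 = N44544 := rfl
theorem L376861 : sm gb N44544 = N31132 := ded_25_1 (flp_h L263974) (flp_b L259062) L376859
theorem L376868 : sm gj N30545 = N44545 := rfl
theorem L376870 : sm gb N44545 = N31133 := ded_24_1 (flp_j L263982) (flp_b L259078) L376868
theorem L376872 : sm gc N44545 = N44545 := ded_31_1 (flp_j L376868) L259080 L376868
theorem L376873 : sm gf N44545 = N30794 := ded_46_1 (flp_j L261184) (flp_f L259083) L376868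
theorem L376875 : sm gh N44545 = N33491 := ded_52_2 (flp_j L284072) (flp_h L259081) L376868
theorem L376877 : sm gi N30545 = N44546 := rfl
theorem L376879 : sm gb N44546 = N31134 := ded_26_1 (flp_i L263990) (flp_b L259078) L376877
theorem L376881 : sm gc N44546 = N44546 := ded_33_1 (flp_i L376877) L259080 L376877
theorem L376882 : sm gf N44546 = N30795 := ded_48_1 (flp_i L261192) (flp_f L259083) L376877
theorem L376884 : sm gg N44546 = N30546 := ded_51_1 (flp_i L259085) L259076 L376877
theorem L376886 : sm gh N30546 = N44547 := rfl
theorem L376893 : sm gi N44547 = N33493 := ded_54_2 (flp_h L284090) (flp_i L195409) (flp_h L178320) L259085 L376886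
theorem L376903 : sm gh N30548 = N44549 := rfl
theorem L376905 : sm gb N44549 = N30559 := ded_25_1 (flp_h L259177) (flp_b L259105) L376903
theorem L376907 : sm ge N44549 = N30798 := ded_43_1 (flp_h L261216) (flp_e L259107) L376903
theorem L376909 : sm gg N44549 = N30549 := ded_50_1 (flp_h L259109) L259103 L376903
theorem L376911 : sm gd N30549 = N44550 := rfl
theorem L376913 : sm gb N44550 = N30560 := ded_20_1 (flp_d L259186) (flp_b L259111) L376911
theorem L376915 : sm gf N44550 = N30552 := ded_35_2 (flp_d L259133) (flp_f L259115) L376911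
theorem L376917 : sm gj N44550 = N30550 := ded_37_2 (flp_d L259119) (flp_j L259117) L376911
theorem L376919 : sm gi N30549 = N44551 := rfl
theorem L376921 : sm gb N44551 = N30561 := ded_26_1 (flp_i L259193) (flp_b L259111) L376919
theorem L376923 : sm ge N44551 = N30800 := ded_44_1 (flp_i L261232) (flp_e L259113) L376919
theorem L376925 : sm gf N44551 = N30553 := ded_48_1 (flp_i L259140) (flp_f L259115) L376919
theorem L376927 : sm gj N44551 = N30551 := ded_53_1 (flp_i L259125) (flp_j L259117) L376919
theorem L376929 : sm gc N30550 = N44552 := rfl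
theorem L376931 : sm gf N44552 = N30554 := ded_29_2 (flp_c L259148) (flp_f L259123) L376929
theorem L376933 : sm ge N30550 = N44553 := rfl
theorem L376935 : sm gb N44553 = N30563 := ded_21_1 (flp_e L259211) (flp_b L259121) L376933
theorem L376937 : sm gd N44553 = N30802 := ded_34_1 (flp_e L261245) (flp_d L179762) (flp_e L178352) L259119 L376933
theorem L376939 : sm gf N44553 = N44553 := ded_40_2 (flp_e L376933) L259123 L178370 (flp_f L259123) L376933
theorem L376940 : sm gi N30550 = N44554 := rfl
theorem L376942 : sm gb N44554 = N30564 := ded_26_1 (flp_i L259217) (flp_b L259121) L376940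
theorem L376944 : sm gd N44554 = N30551 := ded_39_1 (flp_i L259125) L259119 L376940
theorem L376946 : sm gf N44554 = N30555 := ded_48_1 (flp_i L259153) (flp_f L259123) L376940
theorem L376948 : sm gc N30552 = N44555 := rfl
theorem L376950 : sm ge N44555 = N44555 := ded_28_2 (flp_c L376948) L259139 L376948
theorem L376951 : sm gj N44555 = N30554 := ded_31_2 (flp_c L259148) (flp_j L259137) L376948
theorem L376953 : sm gi N30552 = N44556 := rfl
theorem L376955 : sm gb N44556 = N30566 := ded_26_1 (flp_i L259232) (flp_b L259135) L376953
theorem L376957 : sm gd N44556 = N30553 := ded_39_1 (flp_i L259140) L259133 L376953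
theorem L376959 : sm ge N44556 = N44556 := ded_44_1 (flp_i L376953) L259139 L376953
theorem L376960 : sm gj N44556 = N30555 := ded_53_1 (flp_i L259153) (flp_j L259137) L376953
theorem L376962 : sm gb N30554 = N44557 := rfl
theorem L376964 : sm ge N44557 = N44557 := ded_21_2 (flp_b L376962) L259150 L376962
theorem L376965 : sm gg N44557 = N30556 := ded_23_2 (flp_b L259162) (flp_g L259151) L376962
theorem L376967 : sm gc N44557 = N30567 := ded_19_2 (flp_b L259240) (flp_c L178445) (flp_b L178366) L259148 L376962
theorem L376969 : sm gi N30554 = N44558 := rfl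
theorem L376971 : sm gc N44558 = N30555 := ded_33_1 (flp_i L259153) L259148 L376969
theorem L376973 : sm ge N44558 = N44558 := ded_44_1 (flp_i L376969) L259150 L376969
theorem L376974 : sm gg N44558 = N30557 := ded_51_1 (flp_i L259167) (flp_g L259151) L376969
theorem L376976 : sm gh N30555 = N44559 := rfl
theorem L376978 : sm gb N44559 = N30569 := ded_25_1 (flp_h L259257) (flp_b L259155) L376976
theorem L376980 : sm ge N44559 = N44559 := ded_43_1 (flp_h L376976) L259159 L376976
theorem L376981 : sm gg N44559 = N30558 := ded_50_1 (flp_h L259172) (flp_g L259160) L376976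
theorem L376983 : sm ga N30556 = N44560 := rfl
theorem L376985 : sm gc N44560 = N30570 := ded_11_2 (flp_a L259263) (flp_c L259165) L376983
theorem L376988 : sm gi N30556 = N44561 := rfl
theorem L376990 : sm gb N44561 = N30557 := ded_26_1 (flp_i L259167) L259162 L376988
theorem L376992 : sm gc N44561 = N30571 := ded_33_1 (flp_i L259269) (flp_c L259165) L376988
theorem L376994 : sm ge N44561 = N44561 := ded_44_1 (flp_i L376988) L259164 L376988
theorem L376995 : sm gh N30557 = N44562 := rfl
theorem L376997 : sm gc N44562 = N30558 := ded_32_1 (flp_h L259172) (flp_c L259169) L376995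
theorem L376999 : sm ge N44562 = N44562 := ded_43_1 (flp_h L376995) L259171 L376995
theorem L377000 : sm gd N30559 = N44563 := rfl
theorem L377003 : sm gg N44563 = N30560 := ded_36_2 (flp_d L259186) (flp_g L259184) L377000
theorem L377005 : sm gi N30559 = N44564 := rfl
theorem L377007 : sm ga N44564 = N44564 := ded_18_1 (flp_i L377005) L259179 L377005
theorem L377008 : sm gc N44564 = N31152 := ded_33_1 (flp_i L264132) (flp_c L259180) L377005
theorem L377010 : sm ge N44564 = N30813 := ded_44_1 (flp_i L261328) (flp_e L259182) L377005
theorem L377012 : sm gg N44564 = N30561 := ded_51_1 (flp_i L259193) (flp_g L259184) L377005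
theorem L377014 : sm gc N30560 = N44565 := rfl
theorem L377017 : sm gf N44565 = N30565 := ded_29_2 (flp_c L259224) (flp_f L259189) L377014
theorem L377019 : sm gj N44565 = N30562 := ded_31_2 (flp_c L259204) (flp_j L259191) L377014
theorem L377021 : sm gd N44565 = N31153 := ded_27_2 (flp_c L264139) (flp_d L181730) (flp_c L178408) L259186 L377014
theorem L377023 : sm ge N30560 = N44566 := rfl
theorem L377026 : sm gj N44566 = N30563 := ded_42_2 (flp_e L259211) (flp_j L259191) L377023
theorem L377028 : sm gd N44566 = N30815 := ded_34_1 (flp_e L261346) (flp_d L179836) (flp_e L178410) L259186 L377023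
theorem L377031 : sm gi N30560 = N44567 := rfl
theorem L377033 : sm ga N44567 = N44567 := ded_18_1 (flp_i L377031) L259188 L377031
theorem L377034 : sm gd N44567 = N30561 := ded_39_1 (flp_i L259193) L259186 L377031
theorem L377036 : sm gf N44567 = N30566 := ded_48_1 (flp_i L259232) (flp_f L259189) L377031
theorem L377038 : sm gj N44567 = N30564 := ded_53_1 (flp_i L259217) (flp_j L259191) L377031
theorem L377040 : sm gb N30562 = N44568 := rfl
theorem L377042 : sm gd N44568 = N31156 := ded_20_2 (flp_b L264166) (flp_d L259209) L377040
theorem L377044 : sm gf N44568 = N30567 := ded_22_2 (flp_b L259240) (flp_f L259207) L377040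
theorem L377046 : sm ge N30562 = N44569 := rfl
theorem L377049 : sm gc N44569 = N30563 := ded_28_1 (flp_e L259211) L259204 L377046
theorem L377052 : sm gi N30562 = N44570 := rfl
theorem L377054 : sm ga N44570 = N44570 := ded_18_1 (flp_i L377052) L259206 L377052
theorem L377055 : sm gc N44570 = N30564 := ded_33_1 (flp_i L259217) L259204 L377052
theorem L377057 : sm gd N44570 = N31158 := ded_39_1 (flp_i L264179) (flp_d L259209) L377052
theorem L377059 : sm gf N44570 = N30568 := ded_48_1 (flp_i L259247) (flp_f L259207) L377052
theorem L377061 : sm gi N30563 = N44571 := rfl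
theorem L377063 : sm ga N44571 = N44571 := ded_18_1 (flp_i L377061) L259213 L377061
theorem L377064 : sm gd N44571 = N30820 := ded_39_1 (flp_i L261385) (flp_d L259214) L377061
theorem L377066 : sm ge N44571 = N30564 := ded_44_1 (flp_i L259217) L259211 L377061
theorem L377068 : sm gf N44571 = N44571 := ded_48_1 (flp_i L377061) L259216 L377061
theorem L377069 : sm gh N30564 = N44572 := rfl
theorem L377072 : sm gf N44572 = N30569 := ded_47_1 (flp_h L259257) (flp_f L259222) L377069
theorem L377074 : sm gb N30565 = N44573 := rfl
theorem L377076 : sm gd N44573 = N31161 := ded_20_2 (flp_b L264201) (flp_d L259230) L377074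
theorem L377078 : sm ge N44573 = N44573 := ded_21_2 (flp_b L377074) L259227 L377074
theorem L377079 : sm gj N44573 = N30567 := ded_24_2 (flp_b L259240) (flp_j L259228) L377074
theorem L377081 : sm gi N30565 = N44574 := rfl
theorem L377083 : sm ga N44574 = N44574 := ded_18_1 (flp_i L377081) L259226 L377081
theorem L377084 : sm gc N44574 = N30566 := ded_33_1 (flp_i L259232) L259224 L377081
theorem L377086 : sm gd N44574 = N31162 := ded_39_1 (flp_i L264208) (flp_d L259230) L377081
theorem L377088 : sm ge N44574 = N44574 := ded_44_1 (flp_i L377081) L259227 L377081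
theorem L377089 : sm gj N44574 = N30568 := ded_53_1 (flp_i L259247) (flp_j L259228) L377081
theorem L377091 : sm gh N30566 = N44575 := rfl
theorem L377095 : sm gj N44575 = N30569 := ded_52_1 (flp_h L259257) (flp_j L259238) L377091
theorem L377097 : sm ga N30567 = N44576 := rfl
theorem L377099 : sm gd N44576 = N31164 := ded_12_2 (flp_a L264225) (flp_d L259242) L377097
theorem L377101 : sm ge N44576 = N44576 := ded_13_2 (flp_a L377097) L259244 L377097
theorem L377102 : sm gg N44576 = N30570 := ded_15_2 (flp_a L259263) (flp_g L259245) L377097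
theorem L377104 : sm gb N44576 = N44576 := ded_10_2 (flp_a L377097) (flp_b L259240) L178447 L259240 L377097
theorem L377105 : sm gi N30567 = N44577 := rfl
theorem L377107 : sm gb N44577 = N30568 := ded_26_1 (flp_i L259247) L259240 L377105
theorem L377109 : sm gd N44577 = N31165 := ded_39_1 (flp_i L264233) (flp_d L259242) L377105
theorem L377111 : sm ge N44577 = N44577 := ded_44_1 (flp_i L377105) L259244 L377105
theorem L377112 : sm gg N44577 = N30571 := ded_51_1 (flp_i L259269) (flp_g L259245) L377105
theorem L377114 : sm gh N30568 = N44578 := rfl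
theorem L377116 : sm ga N44578 = N44578 := ded_17_1 (flp_h L377114) L259249 L377114
theorem L377117 : sm gc N44578 = N30569 := ded_32_1 (flp_h L259257) (flp_c L259250) L377114
theorem L377119 : sm ge N44578 = N44578 := ded_43_1 (flp_h L377114) L259254 L377114
theorem L377120 : sm gg N44578 = N30572 := ded_50_1 (flp_h L259276) (flp_g L259255) L377114
theorem L377122 : sm gi N30570 = N44579 := rfl
theorem L377124 : sm ga N44579 = N30571 := ded_18_1 (flp_i L259269) L259263 L377122
theorem L377126 : sm gb N44579 = N44579 := ded_26_1 (flp_i L377122) L259268 L377122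
theorem L377127 : sm gd N44579 = N31167 := ded_39_1 (flp_i L264251) (flp_d L259265) L377122
theorem L377129 : sm ge N44579 = N44579 := ded_44_1 (flp_i L377122) L259267 L377122
theorem L377130 : sm gh N30571 = N44580 := rfl
theorem L377132 : sm gb N44580 = N30572 := ded_25_1 (flp_h L259276) (flp_b L259271) L377130
theorem L377134 : sm ge N44580 = N44580 := ded_43_1 (flp_h L377130) L259275 L377130
theorem L377135 : sm gd N30572 = N44581 := rfl
theorem L377137 : sm ga N44581 = N44581 := ded_12_1 (flp_d L377135) L259278 L377135
theorem L377138 : sm gh N44581 = N31169 := ded_38_2 (flp_d L264265) (flp_h L181821) (flp_d L178471) L259276 L377135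
theorem L377207 : sm gc N30576 = N44589 := rfl
theorem L377211 : sm gh N44589 = N33590 := ded_32_2 (flp_c L284937) (flp_h L259315) L377207
theorem L377213 : sm gb N44589 = N30635 := ded_19_1 (flp_c L259847) L178830 (flp_c L178528) (flp_b L259312) L377207
theorem L377316 : sm gi N30582 = N44601 := rfl
theorem L377320 : sm gc N44601 = N30593 := ded_33_1 (flp_i L259470) (flp_c L259369) L377316
theorem L377322 : sm gg N44601 = N30584 := ded_51_1 (flp_i L259384) (flp_g L259371) L377316
theorem L377355 : sm gi N30585 = N44605 := rfl
theorem L377359 : sm gc N44605 = N30651 := ded_33_1 (flp_i L259987) (flp_c L259398) L377355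
theorem L377574 : sm ge N30602 = N44630 := rfl
theorem L377579 : sm gg N44630 = N30604 := ded_41_2 (flp_e L259562) (flp_g L259548) L377574
theorem L377581 : sm gh N44630 = N33631 := ded_43_2 (flp_e L285272) (flp_h L259552) L377574
theorem L377583 : sm gi N30602 = N44631 := rfl
theorem L377586 : sm gc N44631 = N30677 := ded_33_1 (flp_i L260214) (flp_c L259550) L377583
theorem L377590 : sm gg N44631 = N30605 := ded_51_1 (flp_i L259570) (flp_g L259548) L377583
theorem L377592 : sm gf N30604 = N44632 := rfl
theorem L377595 : sm gc N44632 = N30678 := ded_29_1 (flp_f L260222) (flp_c L259565) L377592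
theorem L377600 : sm ge N44632 = N30606 := ded_40_1 (flp_f L259580) (flp_e L178649) (flp_f L178633) L259562 L377592
theorem L377656 : sm gh N30609 = N44639 := rfl
theorem L377658 : sm gb N44639 = N30618 := ded_25_1 (flp_h L259684) (flp_b L259609) L377656
theorem L377660 : sm gf N44639 = N30611 := ded_47_1 (flp_h L259622) (flp_f L259612) L377656
theorem L377664 : sm gd N30610 = N44640 := rfl
theorem L377666 : sm gb N44640 = N30619 := ded_20_1 (flp_d L259692) (flp_b L259617) L377664
theorem L377668 : sm gf N44640 = N30612 := ded_35_2 (flp_d L259631) (flp_f L259619) L377664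
theorem L377680 : sm gd N30611 = N44642 := rfl
theorem L377682 : sm gb N44642 = N30621 := ded_20_1 (flp_d L259707) (flp_b L259624) L377680
theorem L377687 : sm ge N44642 = N30688 := ded_34_2 (flp_d L260302) L179138 (flp_d L178715) (flp_e L259626) L377680
theorem L377690 : sm gi N30611 = N44643 := rfl
theorem L377692 : sm gb N44643 = N30622 := ded_26_1 (flp_i L259716) (flp_b L259624) L377690
theorem L377707 : sm gi N30612 = N44645 := rfl
theorem L377713 : sm ge N44645 = N30691 := ded_44_1 (flp_i L260326) (flp_e L259637) L377707
theorem L377715 : sm gg N44645 = N30615 := ded_51_1 (flp_i L259656) (flp_g L259635) L377707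
theorem L377717 : sm gb N30614 = N44646 := rfl
theorem L377724 : sm gc N44646 = N30625 := ded_19_2 (flp_b L259744) (flp_c L178767) (flp_b L178692) L259649 L377717
theorem L377726 : sm gi N30614 = N44647 := rfl
theorem L377728 : sm gc N44647 = N30615 := ded_33_1 (flp_i L259656) L259649 L377726
theorem L377730 : sm ge N44647 = N30693 := ded_44_1 (flp_i L260340) (flp_e L259651) L377726
theorem L377734 : sm gh N30615 = N44648 := rfl
theorem L377736 : sm gb N44648 = N30627 := ded_25_1 (flp_h L259762) (flp_b L259658) L377734
theorem L377738 : sm ge N44648 = N30694 := ded_43_1 (flp_h L260345) (flp_e L259662) L377734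
theorem L377760 : sm gi N30618 = N44651 := rfl
theorem L377766 : sm gj N44651 = N30620 := ded_53_1 (flp_i L259699) (flp_j L259690) L377760
theorem L377769 : sm gc N30619 = N44652 := rfl
theorem L377772 : sm gf N44652 = N30623 := ded_29_2 (flp_c L259726) (flp_f L259695) L377769
theorem L377777 : sm ge N30619 = N44653 := rfl
theorem L377782 : sm gf N44653 = N30699 := ded_40_2 (flp_e L260388) L179201 (flp_e L178755) (flp_f L259695) L377777
theorem L377784 : sm gi N30619 = N44654 := rfl
theorem L377787 : sm gd N44654 = N30620 := ded_39_1 (flp_i L259699) L259692 L377784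
theorem L377789 : sm gf N44654 = N30624 := ded_48_1 (flp_i L259735) (flp_f L259695) L377784
theorem L377792 : sm gc N30621 = N44655 := rfl
theorem L377795 : sm ge N44655 = N30701 := ded_28_2 (flp_c L260399) (flp_e L259713) L377792
theorem L377798 : sm gj N44655 = N30623 := ded_31_2 (flp_c L259726) (flp_j L259711) L377792
theorem L377802 : sm gi N30621 = N44656 := rfl
theorem L377807 : sm ge N44656 = N30702 := ded_44_1 (flp_i L260408) (flp_e L259713) L377802
theorem L377810 : sm gj N44656 = N30624 := ded_53_1 (flp_i L259735) (flp_j L259711) L377802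
theorem L377812 : sm gb N30623 = N44657 := rfl
theorem L377814 : sm gd N44657 = N44657 := ded_20_2 (flp_b L377812) L259734 L377812
theorem L377815 : sm ge N44657 = N30703 := ded_21_2 (flp_b L260416) (flp_e L259729) L377812
theorem L377817 : sm gg N44657 = N30625 := ded_23_2 (flp_b L259744) (flp_g L259731) L377812
theorem L377819 : sm gh N44657 = N44657 := ded_25_2 (flp_b L377812) L259733 L377812
theorem L377820 : sm gi N30623 = N44658 := rfl
theorem L377822 : sm ga N44658 = N44658 := ded_18_1 (flp_i L377820) L259728 L377820
theorem L377823 : sm gc N44658 = N30624 := ded_33_1 (flp_i L259735) L259726 L377820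
theorem L377825 : sm gd N44658 = N44658 := ded_39_1 (flp_i L377820) L259734 L377820
theorem L377826 : sm ge N44658 = N30704 := ded_44_1 (flp_i L260423) (flp_e L259729) L377820
theorem L377828 : sm gg N44658 = N30626 := ded_51_1 (flp_i L259752) (flp_g L259731) L377820
theorem L377830 : sm gh N30624 = N44659 := rfl
theorem L377832 : sm ga N44659 = N44659 := ded_17_1 (flp_h L377830) L259737 L377830
theorem L377833 : sm ge N44659 = N30705 := ded_43_1 (flp_h L260432) (flp_e L259740) L377830
theorem L377835 : sm gg N44659 = N30627 := ded_50_1 (flp_h L259762) (flp_g L259742) L377830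
theorem L377837 : sm gd N44659 = N44659 := ded_38_1 (flp_h L377830) L259738 L178766 (flp_d L259738) L377830
theorem L377838 : sm gi N44659 = N44659 := ded_54_2 (flp_h L377830) (flp_i L259735) L178757 L259735 L377830
theorem L377839 : sm ga N30625 = N44660 := rfl
theorem L377841 : sm gd N44660 = N44660 := ded_12_2 (flp_a L377839) L259746 L377839
theorem L377842 : sm ge N44660 = N30706 := ded_13_2 (flp_a L260440) (flp_e L259747) L377839
theorem L377844 : sm gf N44660 = N44660 := ded_14_2 (flp_a L377839) L259749 L377839
theorem L377845 : sm gj N44660 = N44660 := ded_16_2 (flp_a L377839) L259750 L377839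
theorem L377846 : sm gh N44660 = N44660 := ded_17_2 (flp_a L377839) L259751 L377839
theorem L377847 : sm gb N44660 = N44660 := ded_10_2 (flp_a L377839) (flp_b L259744) L178769 L259744 L377839
theorem L377848 : sm gi N30625 = N44661 := rfl
theorem L377850 : sm gb N44661 = N30626 := ded_26_1 (flp_i L259752) L259744 L377848
theorem L377852 : sm gd N44661 = N44661 := ded_39_1 (flp_i L377848) L259746 L377848
theorem L377853 : sm ge N44661 = N30707 := ded_44_1 (flp_i L260447) (flp_e L259747) L377848
theorem L377855 : sm gf N44661 = N44661 := ded_48_1 (flp_i L377848) L259749 L377848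
theorem L377856 : sm gj N44661 = N44661 := ded_53_1 (flp_i L377848) L259750 L377848
theorem L377857 : sm gh N30626 = N44662 := rfl
theorem L377859 : sm ga N44662 = N44662 := ded_17_1 (flp_h L377857) L259754 L377857
theorem L377860 : sm gc N44662 = N30627 := ded_32_1 (flp_h L259762) (flp_c L259755) L377857
theorem L377862 : sm ge N44662 = N30708 := ded_43_1 (flp_h L260454) (flp_e L259758) L377857
theorem L377864 : sm gf N44662 = N44662 := ded_47_1 (flp_h L377857) L259760 L377857
theorem L377865 : sm gj N44662 = N44662 := ded_52_1 (flp_h L377857) L259761 L377857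
theorem L377866 : sm gi N44662 = N44662 := ded_54_2 (flp_h L377857) (flp_i L259752) L178774 L259752 L377857
theorem L377867 : sm gc N30628 = N44663 := rfl
theorem L377874 : sm gi N44663 = N30709 := ded_33_2 (flp_c L260461) (flp_i L259778) L377867
theorem L377878 : sm gg N30628 = N44664 := rfl
theorem L377888 : sm gi N44664 = N30710 := ded_51_2 (flp_g L260470) (flp_i L259778) L377878
theorem L377890 : sm gh N30628 = N44665 := rfl
theorem L377892 : sm ga N44665 = N31172 := ded_17_1 (flp_h L264289) (flp_a L259773) L377890
theorem L377899 : sm gf N30629 = N44666 := rfl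
theorem L377901 : sm ga N44666 = N31173 := ded_14_1 (flp_f L264296) (flp_a L259784) L377899
theorem L377903 : sm gb N44666 = N30640 := ded_22_1 (flp_f L259892) (flp_b L259786) L377899
theorem L377908 : sm gj N30629 = N44667 := rfl
theorem L377910 : sm ga N44667 = N31174 := ded_16_1 (flp_j L264303) (flp_a L259784) L377908
theorem L377917 : sm gi N44667 = N30713 := ded_53_2 (flp_j L260496) (flp_i L259791) L377908
theorem L377960 : sm gd N30632 = N44672 := rfl
theorem L377962 : sm ga N44672 = N31179 := ded_12_1 (flp_d L264345) (flp_a L259817) L377960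
theorem L377970 : sm gi N30632 = N44673 := rfl
theorem L377979 : sm gh N44673 = N30719 := ded_54_1 (flp_i L260554) (flp_h L179306) (flp_i L178814) L259815 L377970
theorem L378020 : sm gi N30635 = N44678 := rfl
theorem L378024 : sm gc N44678 = N30637 := ded_33_1 (flp_i L259864) L259847 L378020
theorem L378046 : sm gh N30637 = N44681 := rfl
theorem L378053 : sm gd N44681 = N30727 := ded_38_1 (flp_h L260631) L179360 (flp_h L178843) (flp_d L259870) L378046
theorem L378057 : sm gf N30638 = N44682 := rfl
theorem L378059 : sm ga N44682 = N30661 := ded_14_1 (flp_f L260073) (flp_a L259875) L378057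
theorem L378062 : sm gd N44682 = N30640 := ded_35_1 (flp_f L259892) (flp_d L259878) L378057
theorem L378066 : sm gj N30638 = N44683 := rfl
theorem L378068 : sm ga N44683 = N30662 := ded_16_1 (flp_j L260082) (flp_a L259875) L378066
theorem L378075 : sm gi N44683 = N30729 := ded_53_2 (flp_j L260647) (flp_i L259882) L378066
theorem L378078 : sm gh N30638 = N44684 := rfl
theorem L378080 : sm ga N44684 = N30663 := ded_17_1 (flp_h L260094) (flp_a L259875) L378078
theorem L378094 : sm gi N30639 = N44686 := rfl
theorem L378096 : sm ga N44686 = N30665 := ded_18_1 (flp_i L260110) (flp_a L259886) L378094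
theorem L378099 : sm ge N44686 = N33687 := ded_44_1 (flp_i L285775) (flp_e L259889) L378094
theorem L378102 : sm gh N44686 = N30732 := ded_54_1 (flp_i L260673) (flp_h L179372) (flp_i L178850) L259884 L378094
theorem L378104 : sm gj N30640 = N44687 := rfl
theorem L378108 : sm gc N44687 = N30653 := ded_31_1 (flp_j L260003) (flp_c L259896) L378104
theorem L378122 : sm gh N30641 = N44689 := rfl
theorem L378124 : sm ga N44689 = N30668 := ded_17_1 (flp_h L260138) (flp_a L259902) L378122
theorem L378133 : sm gd N30642 = N44690 := rfl
theorem L378135 : sm ga N44690 = N30669 := ded_12_1 (flp_d L260149) (flp_a L259913) L378133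
theorem L378139 : sm gi N30642 = N44691 := rfl
theorem L378141 : sm ga N44691 = N30670 := ded_18_1 (flp_i L260155) (flp_a L259913) L378139
theorem L378149 : sm gh N44691 = N30737 := ded_54_1 (flp_i L260714) (flp_h L179395) (flp_i L178863) L259911 L378139
theorem L378165 : sm gi N30643 = N44694 := rfl
theorem L378167 : sm ga N44694 = N30673 := ded_18_1 (flp_i L260179) (flp_a L259923) L378165
theorem L378181 : sm gi N30645 = N44696 := rfl
theorem L378190 : sm gh N44696 = N30742 := ded_54_1 (flp_i L260755) (flp_h L179419) (flp_i L178882) L259937 L378181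
theorem L378224 : sm gh N30649 = N44701 := rfl
theorem L378226 : sm ga N44701 = N30680 := ded_17_1 (flp_h L260238) (flp_a L259973) L378224
theorem L378231 : sm gd N44701 = N30747 := ded_38_1 (flp_h L260800) L179458 (flp_h L178911) (flp_d L259975) L378224
theorem L378233 : sm gi N44701 = N33702 := ded_54_2 (flp_h L285901) (flp_i L196613) (flp_h L178900) L259971 L378224
theorem L378241 : sm gi N30650 = N44703 := rfl
theorem L378245 : sm gf N44703 = N30651 := ded_48_1 (flp_i L259987) L259980 L378241
theorem L378248 : sm gh N30651 = N44704 := rfl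
theorem L378255 : sm gi N44704 = N33705 := ded_54_2 (flp_h L285923) (flp_i L196628) (flp_h L178918) L259987 L378248
theorem L378257 : sm gg N30653 = N44705 := rfl
theorem L378259 : sm ga N44705 = N30684 := ded_15_1 (flp_g L260271) (flp_a L260005) L378257
theorem L378263 : sm gi N44705 = N30751 := ded_51_2 (flp_g L260835) (flp_i L260011) L378257
theorem L378275 : sm gd N30654 = N44707 := rfl
theorem L378277 : sm ga N44707 = N30686 := ded_12_1 (flp_d L260287) (flp_a L260015) L378275
theorem L378283 : sm gi N30654 = N44708 := rfl
theorem L378285 : sm ga N44708 = N30687 := ded_18_1 (flp_i L260294) (flp_a L260015) L378283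
theorem L378288 : sm gf N44708 = N30657 := ded_48_1 (flp_i L260038) (flp_f L260018) L378283
theorem L378292 : sm gd N30655 = N44709 := rfl
theorem L378294 : sm ga N44709 = N30688 := ded_12_1 (flp_d L260302) (flp_a L260022) L378292
theorem L378313 : sm gc N30656 = N44711 := rfl
theorem L378315 : sm ga N44711 = N30690 := ded_11_1 (flp_c L260321) (flp_a L260032) L378313
theorem L378320 : sm gi N30656 = N44712 := rfl
theorem L378322 : sm ga N44712 = N30691 := ded_18_1 (flp_i L260326) (flp_a L260032) L378320
theorem L378325 : sm gd N44712 = N30657 := ded_39_1 (flp_i L260038) L260030 L378320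
theorem L378334 : sm gi N30658 = N44714 := rfl
theorem L378336 : sm ga N44714 = N30693 := ded_18_1 (flp_i L260340) (flp_a L260051) L378334
theorem L378338 : sm gc N44714 = N30659 := ded_33_1 (flp_i L260055) L260049 L378334
theorem L378341 : sm gh N30659 = N44715 := rfl
theorem L378343 : sm ga N44715 = N30694 := ded_17_1 (flp_h L260345) (flp_a L260057) L378341
theorem L378347 : sm gd N44715 = N30761 := ded_38_1 (flp_h L260918) L179542 (flp_h L178970) (flp_d L260060) L378341
theorem L378350 : sm ge N30661 = N44716 := rfl
theorem L378352 : sm gb N44716 = N31223 := ded_21_1 (flp_e L264743) (flp_b L260075) L378350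
theorem L378354 : sm gc N44716 = N44716 := ded_28_1 (flp_e L378350) L260077 L378350
theorem L378355 : sm gi N44716 = N30762 := ded_44_2 (flp_e L260926) (flp_i L260080) L378350
theorem L378357 : sm gf N44716 = N33717 := ded_40_2 (flp_e L286038) (flp_f L196723) (flp_e L178996) L260073 L378350
theorem L378359 : sm gj N30661 = N44717 := rfl
theorem L378361 : sm gb N44717 = N31224 := ded_24_1 (flp_j L264751) (flp_b L260075) L378359
theorem L378363 : sm gc N44717 = N44717 := ded_31_1 (flp_j L378359) L260077 L378359
theorem L378364 : sm gd N44717 = N30666 := ded_37_1 (flp_j L260120) (flp_d L260078) L378359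
theorem L378366 : sm gf N44717 = N30662 := ded_46_1 (flp_j L260082) L260073 L378359
theorem L378368 : sm gi N44717 = N30763 := ded_53_2 (flp_j L260933) (flp_i L260080) L378359
theorem L378370 : sm gh N30661 = N44718 := rfl
theorem L378372 : sm gb N44718 = N31225 := ded_25_1 (flp_h L264761) (flp_b L260075) L378370
theorem L378374 : sm gc N44718 = N44718 := ded_32_1 (flp_h L378370) L260077 L378370
theorem L378375 : sm gf N44718 = N30663 := ded_47_1 (flp_h L260094) L260073 L378370
theorem L378377 : sm gh N30662 = N44719 := rfl
theorem L378379 : sm gb N44719 = N31226 := ded_25_1 (flp_h L264767) (flp_b L260084) L378377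
theorem L378381 : sm gc N44719 = N44719 := ded_32_1 (flp_h L378377) L260086 L378377
theorem L378382 : sm ge N44719 = N33720 := ded_43_1 (flp_h L286065) (flp_e L260089) L378377
theorem L378384 : sm gg N44719 = N44719 := ded_50_1 (flp_h L378377) L260093 L378377
theorem L378385 : sm gj N44719 = N30663 := ded_52_1 (flp_h L260094) L260082 L378377
theorem L378387 : sm gd N30663 = N44720 := rfl
theorem L378389 : sm gb N44720 = N31227 := ded_20_1 (flp_d L264776) (flp_b L260096) L378387
theorem L378391 : sm gg N44720 = N30664 := ded_36_2 (flp_d L260103) (flp_g L260101) L378387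
theorem L378393 : sm gh N44720 = N30669 := ded_38_2 (flp_d L260149) (flp_h L179027) (flp_d L178994) L260094 L378387
theorem L378395 : sm gi N30663 = N44721 := rfl
theorem L378397 : sm gb N44721 = N31228 := ded_26_1 (flp_i L264782) (flp_b L260096) L378395
theorem L378399 : sm gc N44721 = N44721 := ded_33_1 (flp_i L378395) L260098 L378395
theorem L378400 : sm ge N44721 = N33722 := ded_44_1 (flp_i L286081) (flp_e L260099) L378395
theorem L378402 : sm gg N44721 = N30665 := ded_51_1 (flp_i L260110) (flp_g L260101) L378395
theorem L378404 : sm gh N44721 = N30767 := ded_54_1 (flp_i L260967) (flp_h L179572) (flp_i L178998) L260094 L378395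
theorem L378406 : sm gc N30664 = N44722 := rfl
theorem L378409 : sm gh N44722 = N30671 := ded_32_2 (flp_c L260167) (flp_h L260108) L378406
theorem L378412 : sm ge N30664 = N44723 := rfl
theorem L378414 : sm gb N44723 = N31230 := ded_21_1 (flp_e L264799) (flp_b L260105) L378412
theorem L378419 : sm gd N44723 = N33724 := ded_34_1 (flp_e L286097) (flp_d L196750) (flp_e L179005) L260103 L378412
theorem L378421 : sm gi N30664 = N44724 := rfl
theorem L378423 : sm gb N44724 = N31231 := ded_26_1 (flp_i L264806) (flp_b L260105) L378421
theorem L378425 : sm gd N44724 = N30665 := ded_39_1 (flp_i L260110) L260103 L378421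
theorem L378427 : sm gj N44724 = N44724 := ded_53_1 (flp_i L378421) L260107 L378421
theorem L378428 : sm gg N30666 = N44725 := rfl
theorem L378430 : sm gb N44725 = N31232 := ded_23_1 (flp_g L264811) (flp_b L260122) L378428
theorem L378432 : sm gc N44725 = N30684 := ded_30_1 (flp_g L260271) (flp_c L260124) L378428
theorem L378434 : sm gi N44725 = N30771 := ded_51_2 (flp_g L260998) (flp_i L260128) L378428
theorem L378436 : sm gf N44725 = N44725 := ded_45_1 (flp_g L378428) L260126 L179026 (flp_f L260126) L378428
theorem L378437 : sm gh N30666 = N44726 := rfl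
theorem L378439 : sm gb N44726 = N31233 := ded_25_1 (flp_h L264818) (flp_b L260122) L378437
theorem L378441 : sm gc N44726 = N30685 := ded_32_1 (flp_h L260279) (flp_c L260124) L378437
theorem L378443 : sm gf N44726 = N30668 := ded_47_1 (flp_h L260138) (flp_f L260126) L378437
theorem L378445 : sm gj N44726 = N30667 := ded_52_1 (flp_h L260130) L260120 L378437
theorem L378447 : sm gd N30667 = N44727 := rfl
theorem L378449 : sm gb N44727 = N31234 := ded_20_1 (flp_d L264826) (flp_b L260132) L378447
theorem L378451 : sm gf N44727 = N30669 := ded_35_2 (flp_d L260149) (flp_f L260136) L378447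
theorem L378453 : sm gi N30667 = N44728 := rfl
theorem L378455 : sm gb N44728 = N31235 := ded_26_1 (flp_i L264830) (flp_b L260132) L378453
theorem L378457 : sm gc N44728 = N30687 := ded_33_1 (flp_i L260294) (flp_c L260134) L378453
theorem L378459 : sm gf N44728 = N30670 := ded_48_1 (flp_i L260155) (flp_f L260136) L378453
theorem L378461 : sm gh N44728 = N30774 := ded_54_1 (flp_i L261021) (flp_h L179604) (flp_i L179014) L260130 L378453
theorem L378463 : sm gd N30668 = N44729 := rfl
theorem L378465 : sm gb N44729 = N31236 := ded_20_1 (flp_d L264838) (flp_b L260140) L378463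
theorem L378467 : sm gg N44729 = N44729 := ded_36_2 (flp_d L378463) L260146 L378463
theorem L378468 : sm gj N44729 = N30669 := ded_37_2 (flp_d L260149) (flp_j L260147) L378463
theorem L378470 : sm gi N30668 = N44730 := rfl
theorem L378472 : sm gb N44730 = N31237 := ded_26_1 (flp_i L264843) (flp_b L260140) L378470
theorem L378474 : sm gc N44730 = N30689 := ded_33_1 (flp_i L260310) (flp_c L260142) L378470
theorem L378476 : sm ge N44730 = N30675 := ded_44_1 (flp_i L260195) (flp_e L260144) L378470
theorem L378478 : sm gg N44730 = N44730 := ded_51_1 (flp_i L378470) L260146 L378470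
theorem L378479 : sm gj N44730 = N30670 := ded_53_1 (flp_i L260155) (flp_j L260147) L378470
theorem L378481 : sm gh N44730 = N30776 := ded_54_1 (flp_i L261036) (flp_h L179612) (flp_i L179024) L260138 L378470
theorem L378483 : sm gc N30669 = N44731 := rfl
theorem L378485 : sm gg N44731 = N30671 := ded_30_2 (flp_c L260167) (flp_g L260153) L378483
theorem L378487 : sm gd N44731 = N30690 := ded_27_2 (flp_c L260321) (flp_d L179143) (flp_c L179031) L260149 L378483
theorem L378489 : sm ge N30669 = N44732 := rfl
theorem L378491 : sm gb N44732 = N31239 := ded_21_1 (flp_e L264860) (flp_b L260151) L378489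
theorem L378497 : sm gi N30669 = N44733 := rfl
theorem L378499 : sm gb N44733 = N31240 := ded_26_1 (flp_i L264866) (flp_b L260151) L378497
theorem L378501 : sm gd N44733 = N30670 := ded_39_1 (flp_i L260155) L260149 L378497
theorem L378503 : sm gg N44733 = N30673 := ded_51_1 (flp_i L260179) (flp_g L260153) L378497
theorem L378505 : sm gb N30671 = N44734 := rfl
theorem L378507 : sm gd N44734 = N30692 := ded_20_2 (flp_b L260334) (flp_d L260170) L378505
theorem L378509 : sm gj N44734 = N44734 := ded_24_2 (flp_b L378505) L260169 L378505
theorem L378510 : sm gc N44734 = N31241 := ded_19_2 (flp_b L264872) (flp_c L182205) (flp_b L179039) L260167 L378505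
theorem L378512 : sm ge N30671 = N44735 := rfl
theorem L378517 : sm gi N30671 = N44736 := rfl
theorem L378519 : sm gc N44736 = N30673 := ded_33_1 (flp_i L260179) L260167 L378517
theorem L378521 : sm gd N44736 = N30693 := ded_39_1 (flp_i L260340) (flp_d L260170) L378517
theorem L378523 : sm gj N44736 = N44736 := ded_53_1 (flp_i L378517) L260169 L378517
theorem L378531 : sm gi N30672 = N44738 := rfl
theorem L378533 : sm gb N44738 = N31245 := ded_26_1 (flp_i L264895) (flp_b L260174) L378531
theorem L378535 : sm gd N44738 = N30679 := ded_39_1 (flp_i L260231) (flp_d L260177) L378531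
theorem L378537 : sm ge N44738 = N30673 := ded_44_1 (flp_i L260179) L260172 L378531
theorem L378540 : sm gh N30673 = N44739 := rfl
theorem L378542 : sm gb N44739 = N31246 := ded_25_1 (flp_h L264902) (flp_b L260181) L378540
theorem L378544 : sm gj N44739 = N44739 := ded_52_1 (flp_h L378540) L260185 L378540
theorem L378545 : sm gd N44739 = N30785 := ded_38_1 (flp_h L261105) L179655 (flp_h L179051) (flp_d L260183) L378540
theorem L378556 : sm gi N30674 = N44741 := rfl
theorem L378558 : sm gb N44741 = N31248 := ded_26_1 (flp_i L264915) (flp_b L260188) L378556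
theorem L378565 : sm gf N30676 = N44742 := rfl
theorem L378567 : sm gb N44742 = N31249 := ded_22_1 (flp_f L264923) (flp_b L260208) L378565
theorem L378571 : sm gi N30676 = N44743 := rfl
theorem L378573 : sm gb N44743 = N31250 := ded_26_1 (flp_i L264928) (flp_b L260208) L378571
theorem L378577 : sm gg N44743 = N30679 := ded_51_1 (flp_i L260231) (flp_g L260210) L378571
theorem L378579 : sm gh N30677 = N44744 := rfl
theorem L378583 : sm gg N44744 = N30680 := ded_50_1 (flp_h L260238) (flp_g L260220) L378579
theorem L378585 : sm gd N44744 = N30790 := ded_38_1 (flp_h L261146) L179691 (flp_h L179078) (flp_d L260218) L378579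
theorem L378606 : sm gh N30679 = N44747 := rfl
theorem L378610 : sm ge N44747 = N30680 := ded_43_1 (flp_h L260238) (flp_e L260235) L378606
theorem L378613 : sm gi N44747 = N33748 := ded_54_2 (flp_h L286289) (flp_i L196875) (flp_h L179085) L260231 L378606
theorem L378622 : sm gi N30681 = N44749 := rfl
theorem L378624 : sm gb N44749 = N31256 := ded_26_1 (flp_i L264973) (flp_b L260251) L378622
theorem L378626 : sm gg N44749 = N30682 := ded_51_1 (flp_i L260255) L260249 L378622
theorem L378628 : sm gh N30682 = N44750 := rfl
theorem L378635 : sm gi N44750 = N33751 := ded_54_2 (flp_h L286309) (flp_i L196896) (flp_h L179101) L260255 L378628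
theorem L378646 : sm gh N30684 = N44752 := rfl
theorem L378648 : sm gb N44752 = N30695 := ded_25_1 (flp_h L260353) (flp_b L260273) L378646
theorem L378651 : sm gg N44752 = N30685 := ded_50_1 (flp_h L260279) L260271 L378646
theorem L378653 : sm gd N30685 = N44753 := rfl
theorem L378655 : sm gb N44753 = N30696 := ded_20_1 (flp_d L260361) (flp_b L260281) L378653
theorem L378657 : sm gf N44753 = N30688 := ded_35_2 (flp_d L260302) (flp_f L260283) L378653
theorem L378659 : sm gj N44753 = N30686 := ded_37_2 (flp_d L260287) (flp_j L260285) L378653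
theorem L378662 : sm gi N30685 = N44754 := rfl
theorem L378664 : sm gb N44754 = N30697 := ded_26_1 (flp_i L260369) (flp_b L260281) L378662
theorem L378666 : sm gf N44754 = N30689 := ded_48_1 (flp_i L260310) (flp_f L260283) L378662
theorem L378668 : sm gj N44754 = N30687 := ded_53_1 (flp_i L260294) (flp_j L260285) L378662
theorem L378670 : sm gh N44754 = N30800 := ded_54_1 (flp_i L261232) (flp_h L179754) (flp_i L179126) L260279 L378662
theorem L378672 : sm gc N30686 = N44755 := rfl
theorem L378674 : sm gf N44755 = N30690 := ded_29_2 (flp_c L260321) (flp_f L260291) L378672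
theorem L378676 : sm gh N44755 = N44755 := ded_32_2 (flp_c L378672) L260293 L378672
theorem L378677 : sm ge N30686 = N44756 := rfl
theorem L378679 : sm gb N44756 = N30699 := ded_21_1 (flp_e L260388) (flp_b L260289) L378677
theorem L378682 : sm gi N30686 = N44757 := rfl
theorem L378684 : sm gb N44757 = N30700 := ded_26_1 (flp_i L260392) (flp_b L260289) L378682
theorem L378686 : sm gd N44757 = N30687 := ded_39_1 (flp_i L260294) L260287 L378682
theorem L378688 : sm gf N44757 = N30691 := ded_48_1 (flp_i L260326) (flp_f L260291) L378682
theorem L378690 : sm gc N30688 = N44758 := rfl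
theorem L378692 : sm gg N44758 = N44758 := ded_30_2 (flp_c L378690) L260306 L378690
theorem L378693 : sm gj N44758 = N30690 := ded_31_2 (flp_c L260321) (flp_j L260307) L378690
theorem L378695 : sm gh N44758 = N44758 := ded_32_2 (flp_c L378690) L260309 L378690
theorem L378696 : sm gi N30688 = N44759 := rfl
theorem L378698 : sm gb N44759 = N30702 := ded_26_1 (flp_i L260408) (flp_b L260304) L378696
theorem L378700 : sm gd N44759 = N30689 := ded_39_1 (flp_i L260310) L260302 L378696
theorem L378702 : sm gg N44759 = N44759 := ded_51_1 (flp_i L378696) L260306 L378696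
theorem L378703 : sm gj N44759 = N30691 := ded_53_1 (flp_i L260326) (flp_j L260307) L378696
theorem L378705 : sm gb N30690 = N44760 := rfl
theorem L378707 : sm gg N44760 = N30692 := ded_23_2 (flp_b L260334) (flp_g L260323) L378705
theorem L378709 : sm gh N44760 = N44760 := ded_25_2 (flp_b L378705) L260325 L378705
theorem L378710 : sm gc N44760 = N30703 := ded_19_2 (flp_b L260416) (flp_c L179232) (flp_b L179145) L260321 L378705
theorem L378712 : sm gi N30690 = N44761 := rfl
theorem L378714 : sm gc N44761 = N30691 := ded_33_1 (flp_i L260326) L260321 L378712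
theorem L378716 : sm gg N44761 = N30693 := ded_51_1 (flp_i L260340) (flp_g L260323) L378712
theorem L378718 : sm gh N30691 = N44762 := rfl
theorem L378720 : sm gb N44762 = N30705 := ded_25_1 (flp_h L260432) (flp_b L260328) L378718
theorem L378722 : sm gg N44762 = N30694 := ded_50_1 (flp_h L260345) (flp_g L260332) L378718
theorem L378724 : sm gd N44762 = N30808 := ded_38_1 (flp_h L261291) L179803 (flp_h L179158) (flp_d L260330) L378718
theorem L378726 : sm gi N44762 = N44762 := ded_54_2 (flp_h L378718) (flp_i L260326) L179149 L260326 L378718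
theorem L378727 : sm ga N30692 = N44763 := rfl
theorem L378729 : sm gc N44763 = N30706 := ded_11_2 (flp_a L260440) (flp_c L260338) L378727
theorem L378731 : sm gj N44763 = N44763 := ded_16_2 (flp_a L378727) L260336 L378727
theorem L378732 : sm gh N44763 = N44763 := ded_17_2 (flp_a L378727) L260337 L378727
theorem L378733 : sm gi N30692 = N44764 := rfl
theorem L378735 : sm gb N44764 = N30693 := ded_26_1 (flp_i L260340) L260334 L378733
theorem L378737 : sm gc N44764 = N30707 := ded_33_1 (flp_i L260447) (flp_c L260338) L378733
theorem L378739 : sm gj N44764 = N44764 := ded_53_1 (flp_i L378733) L260336 L378733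
theorem L378740 : sm gh N30693 = N44765 := rfl
theorem L378742 : sm gc N44765 = N30694 := ded_32_1 (flp_h L260345) (flp_c L260342) L378740
theorem L378744 : sm gj N44765 = N44765 := ded_52_1 (flp_h L378740) L260344 L378740
theorem L378745 : sm gi N44765 = N44765 := ded_54_2 (flp_h L378740) (flp_i L260340) L179163 L260340 L378740
theorem L378753 : sm gi N30695 = N44767 := rfl
theorem L378756 : sm gc N44767 = N31274 := ded_33_1 (flp_i L265118) (flp_c L260356) L378753
theorem L378759 : sm gg N44767 = N30697 := ded_51_1 (flp_i L260369) (flp_g L260359) L378753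
theorem L378761 : sm gh N44767 = N30813 := ded_54_1 (flp_i L261328) (flp_h L179828) (flp_i L179186) L260353 L378753
theorem L378763 : sm gc N30696 = N44768 := rfl
theorem L378766 : sm gf N44768 = N30701 := ded_29_2 (flp_c L260399) (flp_f L260364) L378763
theorem L378768 : sm gj N44768 = N30698 := ded_31_2 (flp_c L260380) (flp_j L260366) L378763
theorem L378771 : sm gd N44768 = N31275 := ded_27_2 (flp_c L265126) (flp_d L182394) (flp_c L179192) L260361 L378763
theorem L378779 : sm gi N30696 = N44770 := rfl
theorem L378782 : sm gd N44770 = N30697 := ded_39_1 (flp_i L260369) L260361 L378779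
theorem L378784 : sm gf N44770 = N30702 := ded_48_1 (flp_i L260408) (flp_f L260364) L378779
theorem L378786 : sm gj N44770 = N30700 := ded_53_1 (flp_i L260392) (flp_j L260366) L378779
theorem L378788 : sm gb N30698 = N44771 := rfl
theorem L378790 : sm gd N44771 = N31278 := ded_20_2 (flp_b L265152) (flp_d L260386) L378788
theorem L378792 : sm gf N44771 = N30703 := ded_22_2 (flp_b L260416) (flp_f L260383) L378788
theorem L378794 : sm gh N44771 = N44771 := ded_25_2 (flp_b L378788) L260385 L378788
theorem L378795 : sm ge N30698 = N44772 := rfl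
theorem L378798 : sm gc N44772 = N30699 := ded_28_1 (flp_e L260388) L260380 L378795
theorem L378801 : sm gi N30698 = N44773 := rfl
theorem L378803 : sm ga N44773 = N44773 := ded_18_1 (flp_i L378801) L260382 L378801
theorem L378804 : sm gc N44773 = N30700 := ded_33_1 (flp_i L260392) L260380 L378801
theorem L378806 : sm gd N44773 = N31280 := ded_39_1 (flp_i L265166) (flp_d L260386) L378801
theorem L378808 : sm gf N44773 = N30704 := ded_48_1 (flp_i L260423) (flp_f L260383) L378801
theorem L378810 : sm gi N30699 = N44774 := rfl
theorem L378813 : sm ge N44774 = N30700 := ded_44_1 (flp_i L260392) L260388 L378810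
theorem L378815 : sm gh N30700 = N44775 := rfl
theorem L378817 : sm ga N44775 = N44775 := ded_17_1 (flp_h L378815) L260394 L378815
theorem L378818 : sm gf N44775 = N30705 := ded_47_1 (flp_h L260432) (flp_f L260397) L378815
theorem L378820 : sm gd N44775 = N30821 := ded_38_1 (flp_h L261391) L179869 (flp_h L179211) (flp_d L260395) L378815
theorem L378822 : sm gi N44775 = N44775 := ded_54_2 (flp_h L378815) (flp_i L260392) L179203 L260392 L378815
theorem L378823 : sm gb N30701 = N44776 := rfl
theorem L378825 : sm gd N44776 = N31283 := ded_20_2 (flp_b L265188) (flp_d L260406) L378823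
theorem L378827 : sm gg N44776 = N44776 := ded_23_2 (flp_b L378823) L260402 L378823
theorem L378828 : sm gj N44776 = N30703 := ded_24_2 (flp_b L260416) (flp_j L260403) L378823
theorem L378830 : sm gh N44776 = N44776 := ded_25_2 (flp_b L378823) L260405 L378823
theorem L378831 : sm gi N30701 = N44777 := rfl
theorem L378833 : sm ga N44777 = N44777 := ded_18_1 (flp_i L378831) L260401 L378831
theorem L378834 : sm gc N44777 = N30702 := ded_33_1 (flp_i L260408) L260399 L378831
theorem L378836 : sm gd N44777 = N31284 := ded_39_1 (flp_i L265196) (flp_d L260406) L378831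
theorem L378838 : sm gg N44777 = N44777 := ded_51_1 (flp_i L378831) L260402 L378831
theorem L378839 : sm gj N44777 = N30704 := ded_53_1 (flp_i L260423) (flp_j L260403) L378831
theorem L378841 : sm gh N30702 = N44778 := rfl
theorem L378843 : sm ga N44778 = N44778 := ded_17_1 (flp_h L378841) L260410 L378841
theorem L378844 : sm gg N44778 = N44778 := ded_50_1 (flp_h L378841) L260413 L378841
theorem L378845 : sm gj N44778 = N30705 := ded_52_1 (flp_h L260432) (flp_j L260414) L378841
theorem L378847 : sm gd N44778 = N30824 := ded_38_1 (flp_h L261417) L179886 (flp_h L179230) (flp_d L260411) L378841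
theorem L378849 : sm gi N44778 = N44778 := ded_54_2 (flp_h L378841) (flp_i L260408) L179219 L260408 L378841
theorem L378850 : sm ga N30703 = N44779 := rfl
theorem L378852 : sm gd N44779 = N31286 := ded_12_2 (flp_a L265216) (flp_d L260418) L378850
theorem L378854 : sm gg N44779 = N30706 := ded_15_2 (flp_a L260440) (flp_g L260420) L378850
theorem L378856 : sm gh N44779 = N44779 := ded_17_2 (flp_a L378850) L260422 L378850
theorem L378857 : sm gb N44779 = N44779 := ded_10_2 (flp_a L378850) (flp_b L260416) L179234 L260416 L378850
theorem L378858 : sm gi N30703 = N44780 := rfl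
theorem L378860 : sm gb N44780 = N30704 := ded_26_1 (flp_i L260423) L260416 L378858
theorem L378862 : sm gd N44780 = N31287 := ded_39_1 (flp_i L265224) (flp_d L260418) L378858
theorem L378864 : sm gg N44780 = N30707 := ded_51_1 (flp_i L260447) (flp_g L260420) L378858
theorem L378866 : sm gh N30704 = N44781 := rfl
theorem L378868 : sm ga N44781 = N44781 := ded_17_1 (flp_h L378866) L260425 L378866
theorem L378869 : sm gc N44781 = N30705 := ded_32_1 (flp_h L260432) (flp_c L260426) L378866
theorem L378871 : sm gg N44781 = N30708 := ded_50_1 (flp_h L260454) (flp_g L260430) L378866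
theorem L378873 : sm gi N44781 = N44781 := ded_54_2 (flp_h L378866) (flp_i L260423) L179237 L260423 L378866
theorem L378874 : sm gi N30706 = N44782 := rfl
theorem L378876 : sm ga N44782 = N30707 := ded_18_1 (flp_i L260447) L260440 L378874
theorem L378878 : sm gb N44782 = N44782 := ded_26_1 (flp_i L378874) L260446 L378874
theorem L378879 : sm gd N44782 = N31289 := ded_39_1 (flp_i L265241) (flp_d L260442) L378874
theorem L378881 : sm gj N44782 = N44782 := ded_53_1 (flp_i L378874) L260444 L378874
theorem L378882 : sm gh N30707 = N44783 := rfl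
theorem L378884 : sm gb N44783 = N30708 := ded_25_1 (flp_h L260454) (flp_b L260449) L378882
theorem L378886 : sm gj N44783 = N44783 := ded_52_1 (flp_h L378882) L260453 L378882
theorem L378887 : sm gi N44783 = N44783 := ded_54_2 (flp_h L378882) (flp_i L260447) L179252 L260447 L378882
theorem L378888 : sm gd N30708 = N44784 := rfl
theorem L378890 : sm ga N44784 = N44784 := ded_12_1 (flp_d L378888) L260456 L378888
theorem L378891 : sm gj N44784 = N44784 := ded_37_2 (flp_d L378888) L260459 L378888
theorem L378892 : sm gi N44784 = N44784 := ded_39_2 (flp_d L378888) L260460 L378888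
theorem L378893 : sm gc N44784 = N30830 := ded_27_1 (flp_d L261468) L179936 (flp_d L179265) (flp_c L260457) L378888
theorem L378895 : sm gh N44784 = N31291 := ded_38_2 (flp_d L265256) (flp_h L182488) (flp_d L179258) L260454 L378888
theorem L378897 : sm gg N30709 = N44785 := rfl
theorem L378902 : sm gc N44785 = N30710 := ded_30_1 (flp_g L260470) L260461 L378897
theorem L378907 : sm gh N30709 = N44786 := rfl
theorem L378909 : sm ga N44786 = N31293 := ded_17_1 (flp_h L265273) (flp_a L260463) L378907
theorem L378912 : sm gc N44786 = N30711 := ded_32_1 (flp_h L260480) L260461 L378907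
theorem L378914 : sm ge N44786 = N33786 := ded_43_1 (flp_h L286607) (flp_e L260465) L378907
theorem L378917 : sm gf N30710 = N44787 := rfl
theorem L378919 : sm ga N44787 = N31294 := ded_14_1 (flp_f L265282) (flp_a L260472) L378917
theorem L378921 : sm gb N44787 = N30728 := ded_22_1 (flp_f L260640) (flp_b L260474) L378917
theorem L378923 : sm gd N44787 = N30712 := ded_35_1 (flp_f L260489) (flp_d L260476) L378917
theorem L378925 : sm gj N30710 = N44788 := rfl
theorem L378927 : sm ga N44788 = N31295 := ded_16_1 (flp_j L265288) (flp_a L260472) L378925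
theorem L378929 : sm gb N44788 = N30729 := ded_24_1 (flp_j L260647) (flp_b L260474) L378925
theorem L378931 : sm gd N44788 = N30713 := ded_37_1 (flp_j L260496) (flp_d L260476) L378925
theorem L378936 : sm gh N30710 = N44789 := rfl
theorem L378938 : sm ga N44789 = N31296 := ded_17_1 (flp_h L265297) (flp_a L260472) L378936
theorem L378940 : sm gb N44789 = N30730 := ded_25_1 (flp_h L260657) (flp_b L260474) L378936
theorem L378942 : sm ge N44789 = N33789 := ded_43_1 (flp_h L286634) (flp_e L260478) L378936
theorem L378944 : sm gg N44789 = N30711 := ded_50_1 (flp_h L260480) L260470 L378936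
theorem L378946 : sm gd N30711 = N44790 := rfl
theorem L378948 : sm ga N44790 = N31297 := ded_12_1 (flp_d L265305) (flp_a L260482) L378946
theorem L378950 : sm gb N44790 = N30731 := ded_20_1 (flp_d L260666) (flp_b L260484) L378946
theorem L378953 : sm gh N44790 = N30715 := ded_38_2 (flp_d L260517) (flp_h L179286) L179268 L260480 L378946
theorem L378955 : sm gi N30711 = N44791 := rfl
theorem L378957 : sm ga N44791 = N31298 := ded_18_1 (flp_i L265312) (flp_a L260482) L378955
theorem L378959 : sm gb N44791 = N30732 := ded_26_1 (flp_i L260673) (flp_b L260484) L378955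
theorem L378961 : sm ge N44791 = N33791 := ded_44_1 (flp_i L286652) (flp_e L260486) L378955
theorem L378963 : sm gj N44791 = N44791 := ded_53_1 (flp_i L378955) L260488 L378955
theorem L378964 : sm gj N30712 = N44792 := rfl
theorem L378966 : sm ga N44792 = N31299 := ded_16_1 (flp_j L265319) (flp_a L260491) L378964
theorem L378968 : sm gb N44792 = N30733 := ded_24_1 (flp_j L260681) (flp_b L260493) L378964
theorem L378970 : sm gc N44792 = N44792 := ded_31_1 (flp_j L378964) L260495 L378964
theorem L378971 : sm gf N44792 = N30713 := ded_46_1 (flp_j L260496) L260489 L378964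
theorem L378973 : sm gh N30712 = N44793 := rfl
theorem L378975 : sm ga N44793 = N31300 := ded_17_1 (flp_h L265326) (flp_a L260491) L378973
theorem L378977 : sm gb N44793 = N30734 := ded_25_1 (flp_h L260689) (flp_b L260493) L378973
theorem L378979 : sm gc N44793 = N44793 := ded_32_1 (flp_h L378973) L260495 L378973
theorem L378980 : sm gf N44793 = N30714 := ded_47_1 (flp_h L260506) L260489 L378973
theorem L378982 : sm gh N30713 = N44794 := rfl
theorem L378984 : sm ga N44794 = N31301 := ded_17_1 (flp_h L265333) (flp_a L260498) L378982
theorem L378986 : sm gb N44794 = N30735 := ded_25_1 (flp_h L260697) (flp_b L260500) L378982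
theorem L378988 : sm gc N44794 = N44794 := ded_32_1 (flp_h L378982) L260502 L378982
theorem L378989 : sm ge N44794 = N30717 := ded_43_1 (flp_h L260534) (flp_e L260503) L378982
theorem L378991 : sm gg N44794 = N44794 := ded_50_1 (flp_h L378982) L260505 L378982
theorem L378992 : sm gj N44794 = N30714 := ded_52_1 (flp_h L260506) L260496 L378982
theorem L378994 : sm gd N30714 = N44795 := rfl
theorem L378996 : sm ga N44795 = N31302 := ded_12_1 (flp_d L265343) (flp_a L260508) L378994
theorem L378998 : sm gb N44795 = N30736 := ded_20_1 (flp_d L260708) (flp_b L260510) L378994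
theorem L379000 : sm gg N44795 = N30715 := ded_36_2 (flp_d L260517) (flp_g L260515) L378994
theorem L379002 : sm gi N30714 = N44796 := rfl
theorem L379004 : sm ga N44796 = N31303 := ded_18_1 (flp_i L265349) (flp_a L260508) L379002
theorem L379006 : sm gb N44796 = N30737 := ded_26_1 (flp_i L260714) (flp_b L260510) L379002
theorem L379008 : sm gc N44796 = N44796 := ded_33_1 (flp_i L379002) L260512 L379002
theorem L379009 : sm ge N44796 = N30719 := ded_44_1 (flp_i L260554) (flp_e L260513) L379002
theorem L379011 : sm gg N44796 = N30716 := ded_51_1 (flp_i L260524) (flp_g L260515) L379002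
theorem L379013 : sm gc N30715 = N44797 := rfl
theorem L379015 : sm ga N44797 = N31304 := ded_11_1 (flp_c L265358) (flp_a L260519) L379013
theorem L379019 : sm ge N30715 = N44798 := rfl
theorem L379021 : sm ga N44798 = N31305 := ded_13_1 (flp_e L265362) (flp_a L260519) L379019
theorem L379028 : sm gi N30715 = N44799 := rfl
theorem L379030 : sm ga N44799 = N31306 := ded_18_1 (flp_i L265369) (flp_a L260519) L379028
theorem L379032 : sm gb N44799 = N30740 := ded_26_1 (flp_i L260738) (flp_b L260521) L379028
theorem L379034 : sm gd N44799 = N30716 := ded_39_1 (flp_i L260524) L260517 L379028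
theorem L379036 : sm gj N44799 = N44799 := ded_53_1 (flp_i L379028) L260523 L379028
theorem L379048 : sm gi N30717 = N44801 := rfl
theorem L379050 : sm ga N44801 = N31308 := ded_18_1 (flp_i L265385) (flp_a L260536) L379048
theorem L379052 : sm gb N44801 = N30742 := ded_26_1 (flp_i L260755) (flp_b L260538) L379048
theorem L379054 : sm gc N44801 = N44801 := ded_33_1 (flp_i L379048) L260540 L379048
theorem L379055 : sm gg N44801 = N44801 := ded_51_1 (flp_i L379048) L260541 L379048
theorem L379056 : sm gj N44801 = N30719 := ded_53_1 (flp_i L260554) (flp_j L260542) L379048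
theorem L379068 : sm ge N30718 = N44803 := rfl
theorem L379072 : sm gb N44803 = N30743 := ded_21_1 (flp_e L260764) (flp_b L260548) L379068
theorem L379078 : sm gi N30718 = N44804 := rfl
theorem L379084 : sm gd N44804 = N30719 := ded_39_1 (flp_i L260554) L260544 L379078
theorem L379120 : sm gi N30721 = N44808 := rfl
theorem L379124 : sm gb N44808 = N30746 := ded_26_1 (flp_i L260792) (flp_b L260578) L379120
theorem L379205 : sm ge N30728 = N44817 := rfl
theorem L379207 : sm ga N44817 = N30762 := ded_13_1 (flp_e L260926) (flp_a L260642) L379205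
theorem L379210 : sm gf N44817 = N33817 := ded_40_2 (flp_e L286896) (flp_f L197304) (flp_e L179370) L260640 L379205
theorem L379212 : sm gj N30728 = N44818 := rfl
theorem L379214 : sm ga N44818 = N30763 := ded_16_1 (flp_j L260933) (flp_a L260642) L379212
theorem L379217 : sm gd N44818 = N30733 := ded_37_1 (flp_j L260681) (flp_d L260645) L379212
theorem L379219 : sm gf N44818 = N30729 := ded_46_1 (flp_j L260647) L260640 L379212
theorem L379221 : sm gh N30728 = N44819 := rfl
theorem L379223 : sm ga N44819 = N30764 := ded_17_1 (flp_h L260942) (flp_a L260642) L379221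
theorem L379225 : sm gc N44819 = N44819 := ded_32_1 (flp_h L379221) L260644 L379221
theorem L379226 : sm gf N44819 = N30730 := ded_47_1 (flp_h L260657) L260640 L379221
theorem L379228 : sm gh N30729 = N44820 := rfl
theorem L379230 : sm ga N44820 = N30765 := ded_17_1 (flp_h L260949) (flp_a L260649) L379228
theorem L379232 : sm gc N44820 = N44820 := ded_32_1 (flp_h L379228) L260651 L379228
theorem L379233 : sm ge N44820 = N33820 := ded_43_1 (flp_h L286919) (flp_e L260654) L379228
theorem L379235 : sm gg N44820 = N44820 := ded_50_1 (flp_h L379228) L260656 L379228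
theorem L379236 : sm gj N44820 = N30730 := ded_52_1 (flp_h L260657) L260647 L379228
theorem L379238 : sm gd N30730 = N44821 := rfl
theorem L379240 : sm ga N44821 = N30766 := ded_12_1 (flp_d L260959) (flp_a L260659) L379238
theorem L379242 : sm gg N44821 = N30731 := ded_36_2 (flp_d L260666) (flp_g L260664) L379238
theorem L379244 : sm gh N44821 = N30736 := ded_38_2 (flp_d L260708) (flp_h L179395) (flp_d L179368) L260657 L379238
theorem L379246 : sm gi N30730 = N44822 := rfl
theorem L379248 : sm ga N44822 = N30767 := ded_18_1 (flp_i L260967) (flp_a L260659) L379246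
theorem L379250 : sm gc N44822 = N44822 := ded_33_1 (flp_i L379246) L260661 L379246
theorem L379251 : sm ge N44822 = N33822 := ded_44_1 (flp_i L286935) (flp_e L260662) L379246
theorem L379253 : sm gg N44822 = N30732 := ded_51_1 (flp_i L260673) (flp_g L260664) L379246
theorem L379255 : sm gc N30731 = N44823 := rfl
theorem L379257 : sm ga N44823 = N30768 := ded_11_1 (flp_c L260976) (flp_a L260668) L379255
theorem L379259 : sm gj N44823 = N44823 := ded_31_2 (flp_c L379255) L260670 L379255
theorem L379260 : sm gh N44823 = N30738 := ded_32_2 (flp_c L260724) (flp_h L260671) L379255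
theorem L379262 : sm gd N44823 = N44823 := ded_27_2 (flp_c L379255) (flp_d L260666) L179376 L260666 L379255
theorem L379263 : sm ge N30731 = N44824 := rfl
theorem L379265 : sm ga N44824 = N30769 := ded_13_1 (flp_e L260982) (flp_a L260668) L379263
theorem L379268 : sm gh N44824 = N30739 := ded_43_2 (flp_e L260731) (flp_h L260671) L379263
theorem L379272 : sm gi N30731 = N44825 := rfl
theorem L379274 : sm ga N44825 = N30770 := ded_18_1 (flp_i L260991) (flp_a L260668) L379272
theorem L379276 : sm gd N44825 = N30732 := ded_39_1 (flp_i L260673) L260666 L379272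
theorem L379278 : sm gj N44825 = N44825 := ded_53_1 (flp_i L379272) L260670 L379272
theorem L379279 : sm gg N30733 = N44826 := rfl
theorem L379281 : sm ga N44826 = N30771 := ded_15_1 (flp_g L260998) (flp_a L260683) L379279
theorem L379283 : sm gc N44826 = N30751 := ded_30_1 (flp_g L260835) (flp_c L260685) L379279
theorem L379285 : sm gf N44826 = N44826 := ded_45_1 (flp_g L379279) L260687 L179394 (flp_f L260687) L379279
theorem L379286 : sm gh N30733 = N44827 := rfl
theorem L379288 : sm ga N44827 = N30772 := ded_17_1 (flp_h L261005) (flp_a L260683) L379286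
theorem L379290 : sm gc N44827 = N30752 := ded_32_1 (flp_h L260842) (flp_c L260685) L379286
theorem L379292 : sm gf N44827 = N30735 := ded_47_1 (flp_h L260697) (flp_f L260687) L379286
theorem L379294 : sm gj N44827 = N30734 := ded_52_1 (flp_h L260689) L260681 L379286
theorem L379296 : sm gd N30734 = N44828 := rfl
theorem L379298 : sm ga N44828 = N30773 := ded_12_1 (flp_d L261015) (flp_a L260691) L379296
theorem L379300 : sm gf N44828 = N30736 := ded_35_2 (flp_d L260708) (flp_f L260695) L379296
theorem L379302 : sm gi N30734 = N44829 := rfl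
theorem L379304 : sm ga N44829 = N30774 := ded_18_1 (flp_i L261021) (flp_a L260691) L379302
theorem L379306 : sm gc N44829 = N30754 := ded_33_1 (flp_i L260859) (flp_c L260693) L379302
theorem L379308 : sm gf N44829 = N30737 := ded_48_1 (flp_i L260714) (flp_f L260695) L379302
theorem L379310 : sm gd N30735 = N44830 := rfl
theorem L379312 : sm ga N44830 = N30775 := ded_12_1 (flp_d L261029) (flp_a L260699) L379310
theorem L379314 : sm gg N44830 = N44830 := ded_36_2 (flp_d L379310) L260705 L379310
theorem L379315 : sm gj N44830 = N30736 := ded_37_2 (flp_d L260708) (flp_j L260706) L379310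
theorem L379317 : sm gi N30735 = N44831 := rfl
theorem L379319 : sm ga N44831 = N30776 := ded_18_1 (flp_i L261036) (flp_a L260699) L379317
theorem L379321 : sm gc N44831 = N30756 := ded_33_1 (flp_i L260876) (flp_c L260701) L379317
theorem L379323 : sm ge N44831 = N30742 := ded_44_1 (flp_i L260755) (flp_e L260703) L379317
theorem L379325 : sm gg N44831 = N44831 := ded_51_1 (flp_i L379317) L260705 L379317
theorem L379326 : sm gj N44831 = N30737 := ded_53_1 (flp_i L260714) (flp_j L260706) L379317
theorem L379328 : sm gc N30736 = N44832 := rfl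
theorem L379330 : sm ga N44832 = N30777 := ded_11_1 (flp_c L261047) (flp_a L260710) L379328
theorem L379332 : sm gg N44832 = N30738 := ded_30_2 (flp_c L260724) (flp_g L260712) L379328
theorem L379334 : sm gd N44832 = N30757 := ded_27_2 (flp_c L260886) (flp_d L179512) (flp_c L179399) L260708 L379328
theorem L379336 : sm ge N30736 = N44833 := rfl
theorem L379338 : sm ga N44833 = N30778 := ded_13_1 (flp_e L261053) (flp_a L260710) L379336
theorem L379340 : sm gg N44833 = N30739 := ded_41_2 (flp_e L260731) (flp_g L260712) L379336
theorem L379342 : sm gd N44833 = N30743 := ded_34_1 (flp_e L260764) (flp_d L179428) (flp_e L179401) L260708 L379336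
theorem L379344 : sm gi N30736 = N44834 := rfl
theorem L379346 : sm ga N44834 = N30779 := ded_18_1 (flp_i L261061) (flp_a L260710) L379344
theorem L379348 : sm gd N44834 = N30737 := ded_39_1 (flp_i L260714) L260708 L379344
theorem L379350 : sm gg N44834 = N30740 := ded_51_1 (flp_i L260738) (flp_g L260712) L379344
theorem L379352 : sm gb N30738 = N44835 := rfl
theorem L379354 : sm gd N44835 = N30759 := ded_20_2 (flp_b L260904) (flp_d L260729) L379352
theorem L379356 : sm gj N44835 = N44835 := ded_24_2 (flp_b L379352) L260728 L379352
theorem L379357 : sm ge N30738 = N44836 := rfl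
theorem L379359 : sm ga N44836 = N30781 := ded_13_1 (flp_e L261076) (flp_a L260726) L379357
theorem L379361 : sm gc N44836 = N30739 := ded_28_1 (flp_e L260731) L260724 L379357
theorem L379363 : sm gj N44836 = N44836 := ded_42_2 (flp_e L379357) L260728 L379357
theorem L379364 : sm gd N44836 = N44836 := ded_34_1 (flp_e L379357) L260729 L179534 (flp_d L260729) L379357
theorem L379365 : sm gi N30738 = N44837 := rfl
theorem L379367 : sm ga N44837 = N30782 := ded_18_1 (flp_i L261082) (flp_a L260726) L379365
theorem L379369 : sm gc N44837 = N30740 := ded_33_1 (flp_i L260738) L260724 L379365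
theorem L379371 : sm gd N44837 = N30760 := ded_39_1 (flp_i L260910) (flp_d L260729) L379365
theorem L379373 : sm gj N44837 = N44837 := ded_53_1 (flp_i L379365) L260728 L379365
theorem L379374 : sm gf N30739 = N44838 := rfl
theorem L379376 : sm ga N44838 = N30783 := ded_14_1 (flp_f L261089) (flp_a L260733) L379374
theorem L379381 : sm gi N30739 = N44839 := rfl
theorem L379383 : sm ga N44839 = N30784 := ded_18_1 (flp_i L261096) (flp_a L260733) L379381
theorem L379385 : sm gd N44839 = N30746 := ded_39_1 (flp_i L260792) (flp_d L260736) L379381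
theorem L379387 : sm ge N44839 = N30740 := ded_44_1 (flp_i L260738) L260731 L379381
theorem L379389 : sm gj N44839 = N44839 := ded_53_1 (flp_i L379381) L260735 L379381
theorem L379390 : sm gh N30740 = N44840 := rfl
theorem L379392 : sm ga N44840 = N30785 := ded_17_1 (flp_h L261105) (flp_a L260740) L379390
theorem L379394 : sm gj N44840 = N44840 := ded_52_1 (flp_h L379390) L260744 L379390
theorem L379395 : sm ge N30741 = N44841 := rfl
theorem L379397 : sm ga N44841 = N30786 := ded_13_1 (flp_e L261110) (flp_a L260747) L379395
theorem L379399 : sm gc N44841 = N44841 := ded_28_1 (flp_e L379395) L260752 L379395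
theorem L379400 : sm gg N44841 = N44841 := ded_41_2 (flp_e L379395) L260749 L379395
theorem L379401 : sm gj N44841 = N30743 := ded_42_2 (flp_e L260764) (flp_j L260750) L379395
theorem L379405 : sm gi N30741 = N44842 := rfl
theorem L379407 : sm ga N44842 = N30787 := ded_18_1 (flp_i L261120) (flp_a L260747) L379405
theorem L379409 : sm gc N44842 = N44842 := ded_33_1 (flp_i L379405) L260752 L379405
theorem L379410 : sm gd N44842 = N30742 := ded_39_1 (flp_i L260755) L260745 L379405
theorem L379412 : sm gg N44842 = N44842 := ded_51_1 (flp_i L379405) L260749 L379405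
theorem L379413 : sm gj N44842 = N30744 := ded_53_1 (flp_i L260773) (flp_j L260750) L379405
theorem L379415 : sm gf N30743 = N44843 := rfl
theorem L379417 : sm ga N44843 = N30788 := ded_14_1 (flp_f L261130) (flp_a L260766) L379415
theorem L379419 : sm gc N44843 = N44843 := ded_29_1 (flp_f L379415) L260768 L379415
theorem L379422 : sm gi N30743 = N44844 := rfl
theorem L379424 : sm ga N44844 = N30789 := ded_18_1 (flp_i L261137) (flp_a L260766) L379422
theorem L379426 : sm gc N44844 = N44844 := ded_33_1 (flp_i L379422) L260768 L379422
theorem L379427 : sm ge N44844 = N30744 := ded_44_1 (flp_i L260773) L260764 L379422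
theorem L379429 : sm gg N44844 = N30746 := ded_51_1 (flp_i L260792) (flp_g L260769) L379422
theorem L379440 : sm gg N30745 = N44846 := rfl
theorem L379442 : sm ga N44846 = N30791 := ded_15_1 (flp_g L261155) (flp_a L260784) L379440
theorem L379447 : sm gh N44846 = N33846 := ded_50_2 (flp_g L287129) (flp_h L260788) L379440
theorem L379449 : sm gi N30745 = N44847 := rfl
theorem L379451 : sm ga N44847 = N30792 := ded_18_1 (flp_i L261164) (flp_a L260784) L379449
theorem L379454 : sm ge N44847 = N30749 := ded_44_1 (flp_i L260817) (flp_e L260790) L379449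
theorem L379456 : sm gf N44847 = N30746 := ded_48_1 (flp_i L260792) L260782 L379449
theorem L379459 : sm gh N30746 = N44848 := rfl
theorem L379461 : sm ga N44848 = N30793 := ded_17_1 (flp_h L261174) (flp_a L260794) L379459
theorem L379467 : sm gi N44848 = N33848 := ded_54_2 (flp_h L287146) (flp_i L197450) (flp_h L179451) L260792 L379459
theorem L379469 : sm gj N30748 = N44849 := rfl
theorem L379471 : sm ga N44849 = N30794 := ded_16_1 (flp_j L261184) (flp_a L260812) L379469
theorem L379474 : sm gh N44849 = N33849 := ded_52_2 (flp_j L287154) (flp_h L260815) L379469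
theorem L379477 : sm gi N30748 = N44850 := rfl
theorem L379479 : sm ga N44850 = N30795 := ded_18_1 (flp_i L261192) (flp_a L260812) L379477
theorem L379482 : sm gg N44850 = N30749 := ded_51_1 (flp_i L260817) L260810 L379477
theorem L379484 : sm gh N30749 = N44851 := rfl
theorem L379492 : sm gi N44851 = N33851 := ded_54_2 (flp_h L287169) (flp_i L197472) (flp_h L179469) L260817 L379484
theorem L379501 : sm gh N30751 = N44853 := rfl
theorem L379503 : sm ga N44853 = N30798 := ded_17_1 (flp_h L261216) (flp_a L260837) L379501
theorem L379505 : sm gb N44853 = N44853 := ded_25_1 (flp_h L379501) L260839 L379501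
theorem L379506 : sm gf N44853 = N44853 := ded_47_1 (flp_h L379501) L260841 L379501
theorem L379507 : sm gg N44853 = N30752 := ded_50_1 (flp_h L260842) L260835 L379501
theorem L379509 : sm gd N30752 = N44854 := rfl
theorem L379511 : sm ga N44854 = N30799 := ded_12_1 (flp_d L261223) (flp_a L260844) L379509
theorem L379513 : sm gb N44854 = N44854 := ded_20_1 (flp_d L379509) L260846 L379509
theorem L379514 : sm gf N44854 = N30755 := ded_35_2 (flp_d L260866) (flp_f L260847) L379509
theorem L379516 : sm gj N44854 = N30753 := ded_37_2 (flp_d L260851) (flp_j L260849) L379509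
theorem L379518 : sm gh N44854 = N44854 := ded_38_2 (flp_d L379509) (flp_h L260842) L179492 L260842 L379509
theorem L379519 : sm gi N30752 = N44855 := rfl
theorem L379521 : sm ga N44855 = N30800 := ded_18_1 (flp_i L261232) (flp_a L260844) L379519
theorem L379523 : sm gb N44855 = N44855 := ded_26_1 (flp_i L379519) L260846 L379519
theorem L379524 : sm gf N44855 = N30756 := ded_48_1 (flp_i L260876) (flp_f L260847) L379519
theorem L379526 : sm gj N44855 = N30754 := ded_53_1 (flp_i L260859) (flp_j L260849) L379519
theorem L379528 : sm gc N30753 = N44856 := rfl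
theorem L379530 : sm ga N44856 = N30801 := ded_11_1 (flp_c L261240) (flp_a L260853) L379528
theorem L379532 : sm gf N44856 = N30757 := ded_29_2 (flp_c L260886) (flp_f L260856) L379528
theorem L379534 : sm gh N44856 = N44856 := ded_32_2 (flp_c L379528) L260858 L379528
theorem L379535 : sm ge N30753 = N44857 := rfl
theorem L379537 : sm ga N44857 = N30802 := ded_13_1 (flp_e L261245) (flp_a L260853) L379535
theorem L379539 : sm gb N44857 = N44857 := ded_21_1 (flp_e L379535) L260855 L379535
theorem L379540 : sm gh N44857 = N44857 := ded_43_2 (flp_e L379535) L260858 L379535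
theorem L379541 : sm gf N44857 = N44857 := ded_40_2 (flp_e L379535) L260856 L179519 (flp_f L260856) L379535
theorem L379542 : sm gi N30753 = N44858 := rfl
theorem L379544 : sm ga N44858 = N30803 := ded_18_1 (flp_i L261251) (flp_a L260853) L379542
theorem L379546 : sm gb N44858 = N44858 := ded_26_1 (flp_i L379542) L260855 L379542
theorem L379547 : sm gd N44858 = N30754 := ded_39_1 (flp_i L260859) L260851 L379542
theorem L379549 : sm gf N44858 = N30758 := ded_48_1 (flp_i L260894) (flp_f L260856) L379542
theorem L379551 : sm gc N30755 = N44859 := rfl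
theorem L379553 : sm ga N44859 = N30804 := ded_11_1 (flp_c L261259) (flp_a L260868) L379551
theorem L379555 : sm ge N44859 = N44859 := ded_28_2 (flp_c L379551) L260874 L379551
theorem L379556 : sm gg N44859 = N44859 := ded_30_2 (flp_c L379551) L260871 L379551
theorem L379557 : sm gj N44859 = N30757 := ded_31_2 (flp_c L260886) (flp_j L260872) L379551
theorem L379559 : sm gh N44859 = N44859 := ded_32_2 (flp_c L379551) L260875 L379551
theorem L379560 : sm gi N30755 = N44860 := rfl
theorem L379562 : sm ga N44860 = N30805 := ded_18_1 (flp_i L261266) (flp_a L260868) L379560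
theorem L379564 : sm gb N44860 = N44860 := ded_26_1 (flp_i L379560) L260870 L379560
theorem L379565 : sm gd N44860 = N30756 := ded_39_1 (flp_i L260876) L260866 L379560
theorem L379567 : sm ge N44860 = N44860 := ded_44_1 (flp_i L379560) L260874 L379560
theorem L379568 : sm gg N44860 = N44860 := ded_51_1 (flp_i L379560) L260871 L379560
theorem L379569 : sm gj N44860 = N30758 := ded_53_1 (flp_i L260894) (flp_j L260872) L379560
theorem L379571 : sm gb N30757 = N44861 := rfl
theorem L379573 : sm ge N44861 = N44861 := ded_21_2 (flp_b L379571) L260890 L379571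
theorem L379574 : sm gg N44861 = N30759 := ded_23_2 (flp_b L260904) (flp_g L260891) L379571
theorem L379576 : sm gh N44861 = N44861 := ded_25_2 (flp_b L379571) L260893 L379571
theorem L379577 : sm gc N44861 = N44861 := ded_19_2 (flp_b L379571) (flp_c L260886) L179516 L260886 L379571
theorem L379578 : sm gi N30757 = N44862 := rfl
theorem L379580 : sm ga N44862 = N30807 := ded_18_1 (flp_i L261284) (flp_a L260888) L379578
theorem L379582 : sm gc N44862 = N30758 := ded_33_1 (flp_i L260894) L260886 L379578
theorem L379584 : sm ge N44862 = N44862 := ded_44_1 (flp_i L379578) L260890 L379578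
theorem L379585 : sm gg N44862 = N30760 := ded_51_1 (flp_i L260910) (flp_g L260891) L379578
theorem L379587 : sm gh N30758 = N44863 := rfl
theorem L379589 : sm ga N44863 = N30808 := ded_17_1 (flp_h L261291) (flp_a L260896) L379587
theorem L379591 : sm gb N44863 = N44863 := ded_25_1 (flp_h L379587) L260898 L379587
theorem L379592 : sm ge N44863 = N44863 := ded_43_1 (flp_h L379587) L260901 L379587
theorem L379593 : sm gg N44863 = N30761 := ded_50_1 (flp_h L260918) (flp_g L260902) L379587
theorem L379595 : sm gi N44863 = N44863 := ded_54_2 (flp_h L379587) (flp_i L260894) L179520 L260894 L379587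
theorem L379596 : sm ga N30759 = N44864 := rfl
theorem L379598 : sm gc N44864 = N44864 := ded_11_2 (flp_a L379596) L260909 L379596
theorem L379599 : sm ge N44864 = N44864 := ded_13_2 (flp_a L379596) L260906 L379596
theorem L379600 : sm gj N44864 = N44864 := ded_16_2 (flp_a L379596) L260907 L379596
theorem L379601 : sm gh N44864 = N44864 := ded_17_2 (flp_a L379596) L260908 L379596
theorem L379602 : sm gb N44864 = N30809 := ded_10_2 (flp_a L261299) (flp_b L179808) (flp_a L179532) L260904 L379596
theorem L379604 : sm gi N30759 = N44865 := rfl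
theorem L379606 : sm gb N44865 = N30760 := ded_26_1 (flp_i L260910) L260904 L379604
theorem L379608 : sm gc N44865 = N44865 := ded_33_1 (flp_i L379604) L260909 L379604
theorem L379609 : sm ge N44865 = N44865 := ded_44_1 (flp_i L379604) L260906 L379604
theorem L379610 : sm gj N44865 = N44865 := ded_53_1 (flp_i L379604) L260907 L379604
theorem L379611 : sm gh N30760 = N44866 := rfl
theorem L379613 : sm ga N44866 = N30811 := ded_17_1 (flp_h L261314) (flp_a L260912) L379611
theorem L379615 : sm gc N44866 = N30761 := ded_32_1 (flp_h L260918) (flp_c L260914) L379611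
theorem L379617 : sm ge N44866 = N44866 := ded_43_1 (flp_h L379611) L260916 L379611
theorem L379618 : sm gj N44866 = N44866 := ded_52_1 (flp_h L379611) L260917 L379611
theorem L379619 : sm gi N44866 = N44866 := ded_54_2 (flp_h L379611) (flp_i L260910) L179536 L260910 L379611
theorem L379620 : sm gj N30762 = N44867 := rfl
theorem L379622 : sm gb N44867 = N31374 := ded_24_1 (flp_j L265967) (flp_b L260928) L379620
theorem L379625 : sm ge N44867 = N30763 := ded_42_1 (flp_j L260933) L260926 L379620
theorem L379629 : sm gh N30762 = N44868 := rfl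
theorem L379631 : sm gb N44868 = N31375 := ded_25_1 (flp_h L265975) (flp_b L260928) L379629
theorem L379633 : sm gc N44868 = N44868 := ded_32_1 (flp_h L379629) L260930 L379629
theorem L379634 : sm ge N44868 = N30764 := ded_43_1 (flp_h L260942) L260926 L379629
theorem L379636 : sm gf N44868 = N33867 := ded_47_1 (flp_h L287318) (flp_f L260931) L379629
theorem L379638 : sm gg N30763 = N44869 := rfl
theorem L379640 : sm gb N44869 = N31376 := ded_23_1 (flp_g L265983) (flp_b L260935) L379638
theorem L379642 : sm gc N44869 = N44869 := ded_30_1 (flp_g L379638) L260937 L379638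
theorem L379643 : sm gd N44869 = N30771 := ded_36_1 (flp_g L260998) (flp_d L260938) L379638
theorem L379645 : sm gf N44869 = N44869 := ded_45_1 (flp_g L379638) L260940 L179571 (flp_f L260940) L379638
theorem L379646 : sm gh N30763 = N44870 := rfl
theorem L379648 : sm gb N44870 = N31377 := ded_25_1 (flp_h L265990) (flp_b L260935) L379646
theorem L379650 : sm gc N44870 = N44870 := ded_32_1 (flp_h L379646) L260937 L379646
theorem L379651 : sm gf N44870 = N30765 := ded_47_1 (flp_h L260949) (flp_f L260940) L379646
theorem L379653 : sm gj N44870 = N30764 := ded_52_1 (flp_h L260942) L260933 L379646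
theorem L379655 : sm gd N30764 = N44871 := rfl
theorem L379657 : sm gb N44871 = N31378 := ded_20_1 (flp_d L265998) (flp_b L260944) L379655
theorem L379659 : sm gf N44871 = N30766 := ded_35_2 (flp_d L260959) (flp_f L260947) L379655
theorem L379661 : sm gh N44871 = N30773 := ded_38_2 (flp_d L261015) (flp_h L179604) (flp_d L179560) L260942 L379655
theorem L379663 : sm gi N30764 = N44872 := rfl
theorem L379665 : sm gb N44872 = N31379 := ded_26_1 (flp_i L266004) (flp_b L260944) L379663
theorem L379667 : sm gc N44872 = N44872 := ded_33_1 (flp_i L379663) L260946 L379663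
theorem L379668 : sm gf N44872 = N30767 := ded_48_1 (flp_i L260967) (flp_f L260947) L379663
theorem L379670 : sm gd N30765 = N44873 := rfl
theorem L379672 : sm gb N44873 = N31380 := ded_20_1 (flp_d L266010) (flp_b L260951) L379670
theorem L379674 : sm gg N44873 = N44873 := ded_36_2 (flp_d L379670) L260956 L379670
theorem L379675 : sm gj N44873 = N30766 := ded_37_2 (flp_d L260959) (flp_j L260957) L379670
theorem L379677 : sm gh N44873 = N30775 := ded_38_2 (flp_d L261029) (flp_h L179612) (flp_d L179567) L260949 L379670
theorem L379679 : sm gi N30765 = N44874 := rfl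
theorem L379681 : sm gb N44874 = N31381 := ded_26_1 (flp_i L266017) (flp_b L260951) L379679
theorem L379683 : sm gc N44874 = N44874 := ded_33_1 (flp_i L379679) L260953 L379679
theorem L379684 : sm ge N44874 = N33873 := ded_44_1 (flp_i L287370) (flp_e L260954) L379679
theorem L379686 : sm gg N44874 = N44874 := ded_51_1 (flp_i L379679) L260956 L379679
theorem L379687 : sm gj N44874 = N30767 := ded_53_1 (flp_i L260967) (flp_j L260957) L379679
theorem L379689 : sm gc N30766 = N44875 := rfl
theorem L379691 : sm gg N44875 = N30768 := ded_30_2 (flp_c L260976) (flp_g L260963) L379689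
theorem L379693 : sm gh N44875 = N30777 := ded_32_2 (flp_c L261047) (flp_h L260965) L379689
theorem L379695 : sm gd N44875 = N44875 := ded_27_2 (flp_c L379689) (flp_d L260959) L179576 L260959 L379689
theorem L379696 : sm ge N30766 = N44876 := rfl
theorem L379698 : sm gb N44876 = N31383 := ded_21_1 (flp_e L266034) (flp_b L260961) L379696
theorem L379700 : sm gg N44876 = N30769 := ded_41_2 (flp_e L260982) (flp_g L260963) L379696
theorem L379702 : sm gh N44876 = N30778 := ded_43_2 (flp_e L261053) (flp_h L260965) L379696
theorem L379704 : sm gd N44876 = N33875 := ded_34_1 (flp_e L287386) (flp_d L197627) (flp_e L179577) L260959 L379696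
theorem L379706 : sm gi N30766 = N44877 := rfl
theorem L379708 : sm gb N44877 = N31384 := ded_26_1 (flp_i L266042) (flp_b L260961) L379706
theorem L379710 : sm gd N44877 = N30767 := ded_39_1 (flp_i L260967) L260959 L379706
theorem L379712 : sm gg N44877 = N30770 := ded_51_1 (flp_i L260991) (flp_g L260963) L379706
theorem L379714 : sm gb N30768 = N44878 := rfl
theorem L379716 : sm gd N44878 = N44878 := ded_20_2 (flp_b L379714) L260981 L379714
theorem L379717 : sm gj N44878 = N44878 := ded_24_2 (flp_b L379714) L260978 L379714
theorem L379718 : sm gh N44878 = N30780 := ded_25_2 (flp_b L261069) (flp_h L260979) L379714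
theorem L379720 : sm gc N44878 = N31385 := ded_19_2 (flp_b L266048) (flp_c L182996) (flp_b L179583) L260976 L379714
theorem L379722 : sm ge N30768 = N44879 := rfl
theorem L379724 : sm gc N44879 = N30769 := ded_28_1 (flp_e L260982) L260976 L379722
theorem L379726 : sm gj N44879 = N44879 := ded_42_2 (flp_e L379722) L260978 L379722
theorem L379727 : sm gh N44879 = N30781 := ded_43_2 (flp_e L261076) (flp_h L260979) L379722
theorem L379729 : sm gi N30768 = N44880 := rfl
theorem L379731 : sm gc N44880 = N30770 := ded_33_1 (flp_i L260991) L260976 L379729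
theorem L379733 : sm gd N44880 = N44880 := ded_39_1 (flp_i L379729) L260981 L379729
theorem L379734 : sm gj N44880 = N44880 := ded_53_1 (flp_i L379729) L260978 L379729
theorem L379735 : sm gf N30769 = N44881 := rfl
theorem L379737 : sm gb N44881 = N31388 := ded_22_1 (flp_f L266070) (flp_b L260984) L379735
theorem L379739 : sm gd N44881 = N33879 := ded_35_1 (flp_f L287418) (flp_d L260989) L379735
theorem L379741 : sm gj N44881 = N44881 := ded_46_2 (flp_f L379735) L260986 L379735
theorem L379742 : sm gh N44881 = N30783 := ded_47_2 (flp_f L261089) (flp_h L260987) L379735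
theorem L379744 : sm gi N30769 = N44882 := rfl
theorem L379746 : sm gb N44882 = N31389 := ded_26_1 (flp_i L266077) (flp_b L260984) L379744
theorem L379748 : sm gd N44882 = N33880 := ded_39_1 (flp_i L287426) (flp_d L260989) L379744
theorem L379750 : sm ge N44882 = N30770 := ded_44_1 (flp_i L260991) L260982 L379744
theorem L379752 : sm gj N44882 = N44882 := ded_53_1 (flp_i L379744) L260986 L379744
theorem L379753 : sm gh N30770 = N44883 := rfl
theorem L379755 : sm gb N44883 = N31390 := ded_25_1 (flp_h L266084) (flp_b L260993) L379753
theorem L379757 : sm gj N44883 = N44883 := ded_52_1 (flp_h L379753) L260997 L379753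
theorem L379758 : sm gi N44883 = N30785 := ded_54_2 (flp_h L261105) (flp_i L179651) (flp_h L179586) L260991 L379753
theorem L379760 : sm gh N30771 = N44884 := rfl
theorem L379762 : sm gb N44884 = N31391 := ded_25_1 (flp_h L266089) (flp_b L261000) L379760
theorem L379764 : sm gc N44884 = N30798 := ded_32_1 (flp_h L261216) (flp_c L261002) L379760
theorem L379766 : sm gf N44884 = N44884 := ded_47_1 (flp_h L379760) L261004 L379760
theorem L379767 : sm gg N44884 = N30772 := ded_50_1 (flp_h L261005) L260998 L379760
theorem L379769 : sm gd N30772 = N44885 := rfl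
theorem L379771 : sm gb N44885 = N31392 := ded_20_1 (flp_d L266096) (flp_b L261007) L379769
theorem L379773 : sm gf N44885 = N30775 := ded_35_2 (flp_d L261029) (flp_f L261011) L379769
theorem L379775 : sm gj N44885 = N30773 := ded_37_2 (flp_d L261015) (flp_j L261013) L379769
theorem L379777 : sm gi N30772 = N44886 := rfl
theorem L379779 : sm gb N44886 = N31393 := ded_26_1 (flp_i L266102) (flp_b L261007) L379777
theorem L379781 : sm gc N44886 = N30800 := ded_33_1 (flp_i L261232) (flp_c L261009) L379777
theorem L379783 : sm gf N44886 = N30776 := ded_48_1 (flp_i L261036) (flp_f L261011) L379777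
theorem L379785 : sm gj N44886 = N30774 := ded_53_1 (flp_i L261021) (flp_j L261013) L379777
theorem L379787 : sm gc N30773 = N44887 := rfl
theorem L379789 : sm gf N44887 = N30777 := ded_29_2 (flp_c L261047) (flp_f L261019) L379787
theorem L379791 : sm gd N44887 = N30801 := ded_27_2 (flp_c L261240) (flp_d L179762) (flp_c L179608) L261015 L379787
theorem L379793 : sm ge N30773 = N44888 := rfl
theorem L379795 : sm gb N44888 = N31395 := ded_21_1 (flp_e L266116) (flp_b L261017) L379793
theorem L379797 : sm gi N30773 = N44889 := rfl
theorem L379799 : sm gb N44889 = N31396 := ded_26_1 (flp_i L266118) (flp_b L261017) L379797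
theorem L379801 : sm gd N44889 = N30774 := ded_39_1 (flp_i L261021) L261015 L379797
theorem L379803 : sm gf N44889 = N30779 := ded_48_1 (flp_i L261061) (flp_f L261019) L379797
theorem L379805 : sm gc N30775 = N44890 := rfl
theorem L379807 : sm gg N44890 = N44890 := ded_30_2 (flp_c L379805) L261033 L379805
theorem L379808 : sm gj N44890 = N30777 := ded_31_2 (flp_c L261047) (flp_j L261034) L379805
theorem L379810 : sm gd N44890 = N30804 := ded_27_2 (flp_c L261259) (flp_d L179775) (flp_c L179616) L261029 L379805
theorem L379812 : sm ge N30775 = N44891 := rfl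
theorem L379814 : sm gb N44891 = N31398 := ded_21_1 (flp_e L266131) (flp_b L261031) L379812
theorem L379816 : sm gg N44891 = N44891 := ded_41_2 (flp_e L379812) L261033 L379812
theorem L379817 : sm gj N44891 = N30778 := ded_42_2 (flp_e L261053) (flp_j L261034) L379812
theorem L379819 : sm gd N44891 = N30786 := ded_34_1 (flp_e L261110) (flp_d L179658) (flp_e L179618) L261029 L379812
theorem L379821 : sm gi N30775 = N44892 := rfl
theorem L379823 : sm gb N44892 = N31399 := ded_26_1 (flp_i L266138) (flp_b L261031) L379821
theorem L379825 : sm gd N44892 = N30776 := ded_39_1 (flp_i L261036) L261029 L379821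
theorem L379827 : sm gg N44892 = N44892 := ded_51_1 (flp_i L379821) L261033 L379821
theorem L379828 : sm gj N44892 = N30779 := ded_53_1 (flp_i L261061) (flp_j L261034) L379821
theorem L379830 : sm gb N30777 = N44893 := rfl
theorem L379832 : sm gd N44893 = N30806 := ded_20_2 (flp_b L261276) (flp_d L261051) L379830
theorem L379834 : sm gg N44893 = N30780 := ded_23_2 (flp_b L261069) (flp_g L261049) L379830
theorem L379836 : sm gc N44893 = N31400 := ded_19_2 (flp_b L266145) (flp_c L183052) (flp_b L179625) L261047 L379830
theorem L379838 : sm ge N30777 = N44894 := rfl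
theorem L379840 : sm gc N44894 = N30778 := ded_28_1 (flp_e L261053) L261047 L379838
theorem L379842 : sm gg N44894 = N30781 := ded_41_2 (flp_e L261076) (flp_g L261049) L379838
theorem L379844 : sm gd N44894 = N44894 := ded_34_1 (flp_e L379838) L261051 L179795 (flp_d L261051) L379838
theorem L379845 : sm gi N30777 = N44895 := rfl
theorem L379847 : sm gc N44895 = N30779 := ded_33_1 (flp_i L261061) L261047 L379845
theorem L379849 : sm gd N44895 = N30807 := ded_39_1 (flp_i L261284) (flp_d L261051) L379845
theorem L379851 : sm gg N44895 = N30782 := ded_51_1 (flp_i L261082) (flp_g L261049) L379845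
theorem L379853 : sm gf N30778 = N44896 := rfl
theorem L379855 : sm gb N44896 = N31403 := ded_22_1 (flp_f L266167) (flp_b L261055) L379853
theorem L379857 : sm gd N44896 = N30788 := ded_35_1 (flp_f L261130) (flp_d L261059) L379853
theorem L379859 : sm gi N30778 = N44897 := rfl
theorem L379861 : sm gb N44897 = N31404 := ded_26_1 (flp_i L266171) (flp_b L261055) L379859
theorem L379863 : sm gd N44897 = N30789 := ded_39_1 (flp_i L261137) (flp_d L261059) L379859
theorem L379865 : sm ge N44897 = N30779 := ded_44_1 (flp_i L261061) L261053 L379859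
theorem L379867 : sm gg N44897 = N30784 := ded_51_1 (flp_i L261096) (flp_g L261057) L379859
theorem L379869 : sm gh N30779 = N44898 := rfl
theorem L379871 : sm gb N44898 = N31405 := ded_25_1 (flp_h L266179) (flp_b L261063) L379869
theorem L379873 : sm gg N44898 = N30785 := ded_50_1 (flp_h L261105) (flp_g L261067) L379869
theorem L379875 : sm ga N30780 = N44899 := rfl
theorem L379877 : sm gc N44899 = N31406 := ded_11_2 (flp_a L266183) (flp_c L261074) L379875
theorem L379879 : sm gd N44899 = N30809 := ded_12_2 (flp_a L261299) (flp_d L261071) L379875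
theorem L379881 : sm gj N44899 = N44899 := ded_16_2 (flp_a L379875) L261073 L379875
theorem L379882 : sm ge N30780 = N44900 := rfl
theorem L379884 : sm gb N44900 = N30781 := ded_21_1 (flp_e L261076) L261069 L379882
theorem L379886 : sm gc N44900 = N31407 := ded_28_1 (flp_e L266188) (flp_c L261074) L379882
theorem L379888 : sm gj N44900 = N44900 := ded_42_2 (flp_e L379882) L261073 L379882
theorem L379889 : sm gd N44900 = N44900 := ded_34_1 (flp_e L379882) L261071 L179810 (flp_d L261071) L379882
theorem L379890 : sm gi N30780 = N44901 := rfl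
theorem L379892 : sm gb N44901 = N30782 := ded_26_1 (flp_i L261082) L261069 L379890
theorem L379894 : sm gc N44901 = N31408 := ded_33_1 (flp_i L266195) (flp_c L261074) L379890
theorem L379896 : sm gd N44901 = N30810 := ded_39_1 (flp_i L261306) (flp_d L261071) L379890
theorem L379898 : sm gj N44901 = N44901 := ded_53_1 (flp_i L379890) L261073 L379890
theorem L379899 : sm gf N30781 = N44902 := rfl
theorem L379901 : sm gc N44902 = N30783 := ded_29_1 (flp_f L261089) (flp_c L261078) L379899
theorem L379903 : sm gd N44902 = N44902 := ded_35_1 (flp_f L379899) L261081 L379899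
theorem L379904 : sm gj N44902 = N44902 := ded_46_2 (flp_f L379899) L261080 L379899
theorem L379905 : sm gi N30781 = N44903 := rfl
theorem L379907 : sm gc N44903 = N30784 := ded_33_1 (flp_i L261096) (flp_c L261078) L379905
theorem L379909 : sm gd N44903 = N44903 := ded_39_1 (flp_i L379905) L261081 L379905
theorem L379910 : sm ge N44903 = N30782 := ded_44_1 (flp_i L261082) L261076 L379905
theorem L379912 : sm gj N44903 = N44903 := ded_53_1 (flp_i L379905) L261080 L379905
theorem L379913 : sm gh N30782 = N44904 := rfl
theorem L379915 : sm gc N44904 = N30785 := ded_32_1 (flp_h L261105) (flp_c L261084) L379913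
theorem L379917 : sm gj N44904 = N44904 := ded_52_1 (flp_h L379913) L261088 L379913
theorem L379918 : sm gg N30783 = N44905 := rfl
theorem L379920 : sm gb N44905 = N31412 := ded_23_1 (flp_g L266223) (flp_b L261091) L379918
theorem L379922 : sm gd N44905 = N30791 := ded_36_1 (flp_g L261155) (flp_d L261093) L379918
theorem L379924 : sm gi N30783 = N44906 := rfl
theorem L379926 : sm gb N44906 = N31413 := ded_26_1 (flp_i L266227) (flp_b L261091) L379924
theorem L379928 : sm gd N44906 = N30792 := ded_39_1 (flp_i L261164) (flp_d L261093) L379924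
theorem L379930 : sm gf N44906 = N30784 := ded_48_1 (flp_i L261096) L261089 L379924
theorem L379932 : sm gj N44906 = N44906 := ded_53_1 (flp_i L379924) L261095 L379924
theorem L379933 : sm gh N30784 = N44907 := rfl
theorem L379935 : sm gb N44907 = N31414 := ded_25_1 (flp_h L266234) (flp_b L261098) L379933
theorem L379937 : sm ge N44907 = N30785 := ded_43_1 (flp_h L261105) (flp_e L261102) L379933
theorem L379939 : sm gj N44907 = N44907 := ded_52_1 (flp_h L379933) L261104 L379933
theorem L379940 : sm gf N30786 = N44908 := rfl
theorem L379942 : sm gb N44908 = N31415 := ded_22_1 (flp_f L266239) (flp_b L261112) L379940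
theorem L379944 : sm gc N44908 = N44908 := ded_29_1 (flp_f L379940) L261114 L379940
theorem L379945 : sm gj N44908 = N30788 := ded_46_2 (flp_f L261130) (flp_j L261116) L379940
theorem L379947 : sm gh N44908 = N33902 := ded_47_2 (flp_f L287604) (flp_h L261118) L379940
theorem L379949 : sm gi N30786 = N44909 := rfl
theorem L379951 : sm gb N44909 = N31416 := ded_26_1 (flp_i L266247) (flp_b L261112) L379949
theorem L379953 : sm gc N44909 = N44909 := ded_33_1 (flp_i L379949) L261114 L379949
theorem L379954 : sm ge N44909 = N30787 := ded_44_1 (flp_i L261120) L261110 L379949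
theorem L379956 : sm gg N44909 = N44909 := ded_51_1 (flp_i L379949) L261115 L379949
theorem L379957 : sm gj N44909 = N30789 := ded_53_1 (flp_i L261137) (flp_j L261116) L379949
theorem L379959 : sm gh N30787 = N44910 := rfl
theorem L379961 : sm gb N44910 = N31417 := ded_25_1 (flp_h L266256) (flp_b L261122) L379959
theorem L379969 : sm gg N30788 = N44911 := rfl
theorem L379971 : sm gb N44911 = N31418 := ded_23_1 (flp_g L266265) (flp_b L261132) L379969
theorem L379973 : sm gc N44911 = N44911 := ded_30_1 (flp_g L379969) L261134 L379969
theorem L379974 : sm gh N44911 = N33905 := ded_50_2 (flp_g L287629) (flp_h L261135) L379969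
theorem L379976 : sm gf N44911 = N30791 := ded_45_1 (flp_g L261155) (flp_f L179695) (flp_g L179682) L261130 L379969
theorem L379978 : sm gi N30788 = N44912 := rfl
theorem L379980 : sm gb N44912 = N31419 := ded_26_1 (flp_i L266273) (flp_b L261132) L379978
theorem L379982 : sm gc N44912 = N44912 := ded_33_1 (flp_i L379978) L261134 L379978
theorem L379983 : sm gf N44912 = N30789 := ded_48_1 (flp_i L261137) L261130 L379978
theorem L379985 : sm gh N30789 = N44913 := rfl
theorem L379990 : sm ge N44913 = N30790 := ded_43_1 (flp_h L261146) (flp_e L261142) L379985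
theorem L379994 : sm gi N44913 = N33907 := ded_54_2 (flp_h L287643) (flp_i L197802) (flp_h L179684) L261137 L379985
theorem L379996 : sm gj N30791 = N44914 := rfl
theorem L379998 : sm gb N44914 = N31421 := ded_24_1 (flp_j L266289) (flp_b L261157) L379996
theorem L380000 : sm gc N44914 = N44914 := ded_31_1 (flp_j L379996) L261159 L379996
theorem L380001 : sm ge N44914 = N30794 := ded_42_1 (flp_j L261184) (flp_e L261160) L379996
theorem L380003 : sm gh N44914 = N33908 := ded_52_2 (flp_j L287652) (flp_h L261162) L379996
theorem L380005 : sm gg N44914 = N44914 := ded_49_1 (flp_j L379996) (flp_g L261155) L179700 L261155 L379996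
theorem L380006 : sm gi N30791 = N44915 := rfl
theorem L380008 : sm gb N44915 = N31422 := ded_26_1 (flp_i L266298) (flp_b L261157) L380006
theorem L380010 : sm gc N44915 = N44915 := ded_33_1 (flp_i L380006) L261159 L380006
theorem L380011 : sm ge N44915 = N30795 := ded_44_1 (flp_i L261192) (flp_e L261160) L380006
theorem L380013 : sm gg N44915 = N30792 := ded_51_1 (flp_i L261164) L261155 L380006
theorem L380015 : sm gh N30792 = N44916 := rfl
theorem L380017 : sm gb N44916 = N31423 := ded_25_1 (flp_h L266306) (flp_b L261166) L380015
theorem L380034 : sm gi N30794 = N44918 := rfl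
theorem L380036 : sm gb N44918 = N31425 := ded_26_1 (flp_i L266322) (flp_b L261186) L380034
theorem L380038 : sm gc N44918 = N44918 := ded_33_1 (flp_i L380034) L261188 L380034
theorem L380039 : sm gg N44918 = N44918 := ded_51_1 (flp_i L380034) L261191 L380034
theorem L380040 : sm gj N44918 = N30795 := ded_53_1 (flp_i L261192) L261184 L380034
theorem L380042 : sm gh N30795 = N44919 := rfl
theorem L380044 : sm gb N44919 = N31426 := ded_25_1 (flp_h L266329) (flp_b L261194) L380042
theorem L380066 : sm gd N30798 = N44922 := rfl
theorem L380068 : sm gb N44922 = N30812 := ded_20_1 (flp_d L261321) (flp_b L261218) L380066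
theorem L380070 : sm gf N44922 = N44922 := ded_35_2 (flp_d L380066) L261220 L380066
theorem L380071 : sm gg N44922 = N30799 := ded_36_2 (flp_d L261223) (flp_g L261221) L380066
theorem L380073 : sm gh N44922 = N44922 := ded_38_2 (flp_d L380066) (flp_h L261216) L179752 L261216 L380066
theorem L380074 : sm gi N30798 = N44923 := rfl
theorem L380076 : sm gb N44923 = N30813 := ded_26_1 (flp_i L261328) (flp_b L261218) L380074
theorem L380078 : sm gf N44923 = N44923 := ded_48_1 (flp_i L380074) L261220 L380074
theorem L380079 : sm gg N44923 = N30800 := ded_51_1 (flp_i L261232) (flp_g L261221) L380074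
theorem L380081 : sm gc N30799 = N44924 := rfl
theorem L380083 : sm gf N44924 = N30804 := ded_29_2 (flp_c L261259) (flp_f L261227) L380081
theorem L380085 : sm gj N44924 = N30801 := ded_31_2 (flp_c L261240) (flp_j L261229) L380081
theorem L380087 : sm gh N44924 = N44924 := ded_32_2 (flp_c L380081) L261231 L380081
theorem L380088 : sm ge N30799 = N44925 := rfl
theorem L380090 : sm gb N44925 = N30815 := ded_21_1 (flp_e L261346) (flp_b L261225) L380088
theorem L380092 : sm gj N44925 = N30802 := ded_42_2 (flp_e L261245) (flp_j L261229) L380088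
theorem L380094 : sm gh N44925 = N44925 := ded_43_2 (flp_e L380088) L261231 L380088
theorem L380095 : sm gf N44925 = N44925 := ded_40_2 (flp_e L380088) L261227 L179782 (flp_f L261227) L380088
theorem L380096 : sm gi N30799 = N44926 := rfl
theorem L380098 : sm gb N44926 = N30816 := ded_26_1 (flp_i L261353) (flp_b L261225) L380096
theorem L380100 : sm gd N44926 = N30800 := ded_39_1 (flp_i L261232) L261223 L380096
theorem L380102 : sm gf N44926 = N30805 := ded_48_1 (flp_i L261266) (flp_f L261227) L380096
theorem L380104 : sm gj N44926 = N30803 := ded_53_1 (flp_i L261251) (flp_j L261229) L380096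
theorem L380106 : sm gb N30801 = N44927 := rfl
theorem L380108 : sm gf N44927 = N30806 := ded_22_2 (flp_b L261276) (flp_f L261242) L380106
theorem L380110 : sm gh N44927 = N44927 := ded_25_2 (flp_b L380106) L261244 L380106
theorem L380111 : sm gc N44927 = N30817 := ded_19_2 (flp_b L261362) (flp_c L179853) (flp_b L179764) L261240 L380106
theorem L380113 : sm ge N30801 = N44928 := rfl
theorem L380115 : sm gc N44928 = N30802 := ded_28_1 (flp_e L261245) L261240 L380113
theorem L380117 : sm gh N44928 = N44928 := ded_43_2 (flp_e L380113) L261244 L380113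
theorem L380118 : sm gf N44928 = N44928 := ded_40_2 (flp_e L380113) L261242 L179795 (flp_f L261242) L380113
theorem L380119 : sm gi N30801 = N44929 := rfl
theorem L380121 : sm gc N44929 = N30803 := ded_33_1 (flp_i L261251) L261240 L380119
theorem L380123 : sm gf N44929 = N30807 := ded_48_1 (flp_i L261284) (flp_f L261242) L380119
theorem L380125 : sm gi N30802 = N44930 := rfl
theorem L380127 : sm gb N44930 = N30820 := ded_26_1 (flp_i L261385) (flp_b L261247) L380125
theorem L380129 : sm ge N44930 = N30803 := ded_44_1 (flp_i L261251) L261245 L380125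
theorem L380131 : sm gf N44930 = N44930 := ded_48_1 (flp_i L380125) L261250 L380125
theorem L380132 : sm gh N30803 = N44931 := rfl
theorem L380134 : sm gb N44931 = N30821 := ded_25_1 (flp_h L261391) (flp_b L261253) L380132
theorem L380136 : sm gf N44931 = N30808 := ded_47_1 (flp_h L261291) (flp_f L261257) L380132
theorem L380138 : sm gi N44931 = N44931 := ded_54_2 (flp_h L380132) (flp_i L261251) L179768 L261251 L380132
theorem L380139 : sm gb N30804 = N44932 := rfl
theorem L380141 : sm ge N44932 = N44932 := ded_21_2 (flp_b L380139) L261261 L380139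
theorem L380142 : sm gg N44932 = N44932 := ded_23_2 (flp_b L380139) L261262 L380139
theorem L380143 : sm gj N44932 = N30806 := ded_24_2 (flp_b L261276) (flp_j L261263) L380139
theorem L380145 : sm gh N44932 = N44932 := ded_25_2 (flp_b L380139) L261265 L380139
theorem L380146 : sm gc N44932 = N30822 := ded_19_2 (flp_b L261397) (flp_c L179873) (flp_b L179777) L261259 L380139
theorem L380148 : sm gi N30804 = N44933 := rfl
theorem L380150 : sm gc N44933 = N30805 := ded_33_1 (flp_i L261266) L261259 L380148
theorem L380152 : sm ge N44933 = N44933 := ded_44_1 (flp_i L380148) L261261 L380148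
theorem L380153 : sm gg N44933 = N44933 := ded_51_1 (flp_i L380148) L261262 L380148
theorem L380154 : sm gj N44933 = N30807 := ded_53_1 (flp_i L261284) (flp_j L261263) L380148
theorem L380156 : sm gh N30805 = N44934 := rfl
theorem L380158 : sm gb N44934 = N30824 := ded_25_1 (flp_h L261417) (flp_b L261268) L380156
theorem L380160 : sm ge N44934 = N44934 := ded_43_1 (flp_h L380156) L261272 L380156
theorem L380161 : sm gg N44934 = N44934 := ded_50_1 (flp_h L380156) L261273 L380156
theorem L380162 : sm gj N44934 = N30808 := ded_52_1 (flp_h L261291) (flp_j L261274) L380156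
theorem L380164 : sm gi N44934 = N44934 := ded_54_2 (flp_h L380156) (flp_i L261266) L179783 L261266 L380156
theorem L380165 : sm ga N30806 = N44935 := rfl
theorem L380167 : sm gc N44935 = N30825 := ded_11_2 (flp_a L261425) (flp_c L261282) L380165
theorem L380169 : sm ge N44935 = N44935 := ded_13_2 (flp_a L380165) L261278 L380165
theorem L380170 : sm gg N44935 = N30809 := ded_15_2 (flp_a L261299) (flp_g L261279) L380165
theorem L380172 : sm gh N44935 = N44935 := ded_17_2 (flp_a L380165) L261281 L380165
theorem L380173 : sm gi N30806 = N44936 := rfl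
theorem L380175 : sm gb N44936 = N30807 := ded_26_1 (flp_i L261284) L261276 L380173
theorem L380177 : sm gc N44936 = N30826 := ded_33_1 (flp_i L261434) (flp_c L261282) L380173
theorem L380179 : sm ge N44936 = N44936 := ded_44_1 (flp_i L380173) L261278 L380173
theorem L380180 : sm gg N44936 = N30810 := ded_51_1 (flp_i L261306) (flp_g L261279) L380173
theorem L380182 : sm gh N30807 = N44937 := rfl
theorem L380184 : sm gc N44937 = N30808 := ded_32_1 (flp_h L261291) (flp_c L261286) L380182
theorem L380186 : sm ge N44937 = N44937 := ded_43_1 (flp_h L380182) L261288 L380182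
theorem L380187 : sm gg N44937 = N30811 := ded_50_1 (flp_h L261314) (flp_g L261289) L380182
theorem L380189 : sm gi N44937 = N44937 := ded_54_2 (flp_h L380182) (flp_i L261284) L179798 L261284 L380182
theorem L380190 : sm gi N30809 = N44938 := rfl
theorem L380192 : sm ga N44938 = N30810 := ded_18_1 (flp_i L261306) L261299 L380190
theorem L380194 : sm gc N44938 = N30828 := ded_33_1 (flp_i L261452) (flp_c L261301) L380190
theorem L380196 : sm ge N44938 = N44938 := ded_44_1 (flp_i L380190) L261303 L380190
theorem L380197 : sm gj N44938 = N44938 := ded_53_1 (flp_i L380190) L261304 L380190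
theorem L380198 : sm gh N30810 = N44939 := rfl
theorem L380200 : sm gb N44939 = N30811 := ded_25_1 (flp_h L261314) (flp_b L261308) L380198
theorem L380202 : sm gc N44939 = N30829 := ded_32_1 (flp_h L261461) (flp_c L261310) L380198
theorem L380204 : sm ge N44939 = N44939 := ded_43_1 (flp_h L380198) L261312 L380198
theorem L380205 : sm gj N44939 = N44939 := ded_52_1 (flp_h L380198) L261313 L380198
theorem L380206 : sm gi N44939 = N44939 := ded_54_2 (flp_h L380198) (flp_i L261306) L179812 L261306 L380198
theorem L380207 : sm gd N30811 = N44940 := rfl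
theorem L380209 : sm gj N44940 = N44940 := ded_37_2 (flp_d L380207) L261319 L380207
theorem L380210 : sm gi N44940 = N44940 := ded_39_2 (flp_d L380207) L261320 L380207
theorem L380211 : sm gc N30812 = N44941 := rfl
theorem L380218 : sm gd N44941 = N31448 := ded_27_2 (flp_c L266519) (flp_d L183319) (flp_c L179831) L261321 L380211
theorem L380220 : sm ge N30812 = N44942 := rfl
theorem L380223 : sm gg N44942 = N30815 := ded_41_2 (flp_e L261346) (flp_g L261325) L380220
theorem L380226 : sm gi N30812 = N44943 := rfl
theorem L380228 : sm ga N44943 = N44943 := ded_18_1 (flp_i L380226) L261323 L380226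
theorem L380229 : sm gd N44943 = N30813 := ded_39_1 (flp_i L261328) L261321 L380226
theorem L380231 : sm gf N44943 = N44943 := ded_48_1 (flp_i L380226) L261324 L380226
theorem L380232 : sm gg N44943 = N30816 := ded_51_1 (flp_i L261353) (flp_g L261325) L380226
theorem L380234 : sm gb N30814 = N44944 := rfl
theorem L380236 : sm gd N44944 = N31451 := ded_20_2 (flp_b L266542) (flp_d L261344) L380234
theorem L380238 : sm gf N44944 = N30822 := ded_22_2 (flp_b L261397) (flp_f L261339) L380234
theorem L380240 : sm gj N44944 = N30817 := ded_24_2 (flp_b L261362) (flp_j L261341) L380234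
theorem L380242 : sm gh N44944 = N44944 := ded_25_2 (flp_b L380234) L261343 L380234
theorem L380243 : sm ge N30814 = N44945 := rfl
theorem L380245 : sm ga N44945 = N44945 := ded_13_1 (flp_e L380243) L261338 L380243
theorem L380246 : sm gc N44945 = N30815 := ded_28_1 (flp_e L261346) L261336 L380243
theorem L380248 : sm gj N44945 = N30818 := ded_42_2 (flp_e L261369) (flp_j L261341) L380243
theorem L380250 : sm gh N44945 = N44945 := ded_43_2 (flp_e L380243) L261343 L380243
theorem L380251 : sm gf N44945 = N44945 := ded_40_2 (flp_e L380243) L261339 L179876 (flp_f L261339) L380243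
theorem L380252 : sm gi N30814 = N44946 := rfl
theorem L380254 : sm ga N44946 = N44946 := ded_18_1 (flp_i L380252) L261338 L380252
theorem L380255 : sm gc N44946 = N30816 := ded_33_1 (flp_i L261353) L261336 L380252
theorem L380257 : sm gd N44946 = N31453 := ded_39_1 (flp_i L266561) (flp_d L261344) L380252
theorem L380259 : sm gf N44946 = N30823 := ded_48_1 (flp_i L261406) (flp_f L261339) L380252
theorem L380261 : sm gj N44946 = N30819 := ded_53_1 (flp_i L261376) (flp_j L261341) L380252
theorem L380263 : sm gi N30815 = N44947 := rfl
theorem L380265 : sm ga N44947 = N44947 := ded_18_1 (flp_i L380263) L261348 L380263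
theorem L380266 : sm ge N44947 = N30816 := ded_44_1 (flp_i L261353) L261346 L380263
theorem L380268 : sm gf N44947 = N44947 := ded_48_1 (flp_i L380263) L261352 L380263
theorem L380269 : sm gj N44947 = N30820 := ded_53_1 (flp_i L261385) (flp_j L261349) L380263
theorem L380271 : sm gh N30816 = N44948 := rfl
theorem L380273 : sm ga N44948 = N44948 := ded_17_1 (flp_h L380271) L261355 L380271
theorem L380274 : sm gf N44948 = N30824 := ded_47_1 (flp_h L261417) (flp_f L261358) L380271
theorem L380276 : sm gj N44948 = N30821 := ded_52_1 (flp_h L261391) (flp_j L261360) L380271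
theorem L380278 : sm gi N44948 = N44948 := ded_54_2 (flp_h L380271) (flp_i L261353) L179843 L261353 L380271
theorem L380279 : sm ga N30817 = N44949 := rfl
theorem L380281 : sm gd N44949 = N31456 := ded_12_2 (flp_a L266588) (flp_d L261364) L380279
theorem L380283 : sm gf N44949 = N30825 := ded_14_2 (flp_a L261425) (flp_f L261366) L380279
theorem L380285 : sm gh N44949 = N44949 := ded_17_2 (flp_a L380279) L261368 L380279
theorem L380286 : sm gb N44949 = N44949 := ded_10_2 (flp_a L380279) (flp_b L261362) L179855 L261362 L380279
theorem L380287 : sm ge N30817 = N44950 := rfl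
theorem L380289 : sm gb N44950 = N30818 := ded_21_1 (flp_e L261369) L261362 L380287
theorem L380291 : sm gh N44950 = N44950 := ded_43_2 (flp_e L380287) L261368 L380287
theorem L380292 : sm gf N44950 = N44950 := ded_40_2 (flp_e L380287) L261366 L179896 (flp_f L261366) L380287
theorem L380293 : sm gi N30817 = N44951 := rfl
theorem L380295 : sm gb N44951 = N30819 := ded_26_1 (flp_i L261376) L261362 L380293
theorem L380297 : sm gd N44951 = N31458 := ded_39_1 (flp_i L266603) (flp_d L261364) L380293
theorem L380299 : sm gf N44951 = N30826 := ded_48_1 (flp_i L261434) (flp_f L261366) L380293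
theorem L380301 : sm gd N30818 = N44952 := rfl
theorem L380303 : sm ga N44952 = N44952 := ded_12_1 (flp_d L380301) L261371 L380301
theorem L380304 : sm gf N44952 = N44952 := ded_35_2 (flp_d L380301) L261375 L380301
theorem L380305 : sm ge N44952 = N31459 := ded_34_2 (flp_d L266609) (flp_e L183366) (flp_d L179859) L261369 L380301
theorem L380307 : sm gi N30818 = N44953 := rfl
theorem L380309 : sm ga N44953 = N44953 := ded_18_1 (flp_i L380307) L261371 L380307
theorem L380310 : sm gc N44953 = N30820 := ded_33_1 (flp_i L261385) (flp_c L261372) L380307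
theorem L380312 : sm ge N44953 = N30819 := ded_44_1 (flp_i L261376) L261369 L380307
theorem L380314 : sm gf N44953 = N44953 := ded_48_1 (flp_i L380307) L261375 L380307
theorem L380315 : sm gh N30819 = N44954 := rfl
theorem L380317 : sm ga N44954 = N44954 := ded_17_1 (flp_h L380315) L261378 L380315
theorem L380318 : sm gc N44954 = N30821 := ded_32_1 (flp_h L261391) (flp_c L261379) L380315
theorem L380320 : sm gf N44954 = N30827 := ded_47_1 (flp_h L261443) (flp_f L261383) L380315
theorem L380322 : sm gi N44954 = N44954 := ded_54_2 (flp_h L380315) (flp_i L261376) L179858 L261376 L380315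
theorem L380323 : sm gh N30820 = N44955 := rfl
theorem L380325 : sm ga N44955 = N44955 := ded_17_1 (flp_h L380323) L261387 L380323
theorem L380326 : sm ge N44955 = N30821 := ded_43_1 (flp_h L261391) (flp_e L261388) L380323
theorem L380328 : sm gf N44955 = N44955 := ded_47_1 (flp_h L380323) L261390 L380323
theorem L380329 : sm gi N44955 = N44955 := ded_54_2 (flp_h L380323) (flp_i L261385) L179864 L261385 L380323
theorem L380330 : sm ga N30822 = N44956 := rfl
theorem L380332 : sm gd N44956 = N31463 := ded_12_2 (flp_a L266641) (flp_d L261399) L380330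
theorem L380334 : sm ge N44956 = N44956 := ded_13_2 (flp_a L380330) L261401 L380330
theorem L380335 : sm gg N44956 = N44956 := ded_15_2 (flp_a L380330) L261402 L380330
theorem L380336 : sm gj N44956 = N30825 := ded_16_2 (flp_a L261425) (flp_j L261403) L380330
theorem L380338 : sm gh N44956 = N44956 := ded_17_2 (flp_a L380330) L261405 L380330
theorem L380339 : sm gb N44956 = N44956 := ded_10_2 (flp_a L380330) (flp_b L261397) L179875 L261397 L380330
theorem L380340 : sm gi N30822 = N44957 := rfl
theorem L380342 : sm gb N44957 = N30823 := ded_26_1 (flp_i L261406) L261397 L380340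
theorem L380344 : sm gd N44957 = N31464 := ded_39_1 (flp_i L266651) (flp_d L261399) L380340
theorem L380346 : sm ge N44957 = N44957 := ded_44_1 (flp_i L380340) L261401 L380340
theorem L380347 : sm gg N44957 = N44957 := ded_51_1 (flp_i L380340) L261402 L380340
theorem L380348 : sm gj N44957 = N30826 := ded_53_1 (flp_i L261434) (flp_j L261403) L380340
theorem L380350 : sm gh N30823 = N44958 := rfl
theorem L380352 : sm ga N44958 = N44958 := ded_17_1 (flp_h L380350) L261408 L380350
theorem L380353 : sm gc N44958 = N30824 := ded_32_1 (flp_h L261417) (flp_c L261409) L380350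
theorem L380355 : sm ge N44958 = N44958 := ded_43_1 (flp_h L380350) L261413 L380350
theorem L380356 : sm gg N44958 = N44958 := ded_50_1 (flp_h L380350) L261414 L380350
theorem L380357 : sm gj N44958 = N30827 := ded_52_1 (flp_h L261443) (flp_j L261415) L380350
theorem L380359 : sm gi N44958 = N44958 := ded_54_2 (flp_h L380350) (flp_i L261406) L179880 L261406 L380350
theorem L380360 : sm gi N30825 = N44959 := rfl
theorem L380362 : sm ga N44959 = N30826 := ded_18_1 (flp_i L261434) L261425 L380360
theorem L380364 : sm gb N44959 = N44959 := ded_26_1 (flp_i L380360) L261433 L380360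
theorem L380365 : sm gd N44959 = N31466 := ded_39_1 (flp_i L266672) (flp_d L261427) L380360
theorem L380367 : sm ge N44959 = N44959 := ded_44_1 (flp_i L380360) L261429 L380360
theorem L380368 : sm gg N44959 = N30828 := ded_51_1 (flp_i L261452) (flp_g L261430) L380360
theorem L380370 : sm gh N30826 = N44960 := rfl
theorem L380372 : sm gb N44960 = N30827 := ded_25_1 (flp_h L261443) (flp_b L261436) L380370
theorem L380374 : sm ge N44960 = N44960 := ded_43_1 (flp_h L380370) L261440 L380370
theorem L380375 : sm gg N44960 = N30829 := ded_50_1 (flp_h L261461) (flp_g L261441) L380370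
theorem L380377 : sm gi N44960 = N44960 := ded_54_2 (flp_h L380370) (flp_i L261434) L179899 L261434 L380370
theorem L380378 : sm gd N30827 = N44961 := rfl
theorem L380380 : sm ga N44961 = N44961 := ded_12_1 (flp_d L380378) L261445 L380378
theorem L380381 : sm gg N44961 = N30830 := ded_36_2 (flp_d L261468) (flp_g L261449) L380378
theorem L380383 : sm gi N44961 = N44961 := ded_39_2 (flp_d L380378) L261451 L380378
theorem L380384 : sm gh N44961 = N31468 := ded_38_2 (flp_d L266691) (flp_h L183442) (flp_d L179905) L261443 L380378
theorem L380386 : sm gh N30828 = N44962 := rfl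
theorem L380388 : sm ga N44962 = N30829 := ded_17_1 (flp_h L261461) (flp_a L261454) L380386
theorem L380390 : sm gb N44962 = N44962 := ded_25_1 (flp_h L380386) L261456 L380386
theorem L380391 : sm ge N44962 = N44962 := ded_43_1 (flp_h L380386) L261459 L380386
theorem L380392 : sm gj N44962 = N44962 := ded_52_1 (flp_h L380386) L261460 L380386
theorem L380393 : sm gi N44962 = N44962 := ded_54_2 (flp_h L380386) (flp_i L261452) L179923 L261452 L380386
theorem L380394 : sm gd N30829 = N44963 := rfl
theorem L380396 : sm gb N44963 = N30830 := ded_20_1 (flp_d L261468) (flp_b L261463) L380394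
theorem L380398 : sm gj N44963 = N44963 := ded_37_2 (flp_d L380394) L261466 L380394
theorem L380399 : sm gi N44963 = N44963 := ded_39_2 (flp_d L380394) L261467 L380394
theorem L380400 : sm gh N44963 = N31470 := ded_38_2 (flp_d L266708) (flp_h L183461) (flp_d L179929) L261461 L380394
theorem L380402 : sm ge N30830 = N44964 := rfl
theorem L380404 : sm ga N44964 = N44964 := ded_13_1 (flp_e L380402) L261470 L380402
theorem L380405 : sm gj N44964 = N44964 := ded_42_2 (flp_e L380402) L261471 L380402
theorem L380406 : sm gh N44964 = N31471 := ded_43_2 (flp_e L266715) (flp_h L261473) L380402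
theorem L380408 : sm gi N44964 = N44964 := ded_44_2 (flp_e L380402) L261472 L380402
theorem L380409 : sm gd N44964 = N44964 := ded_34_1 (flp_e L380402) (flp_d L261468) L179938 L261468 L380402
theorem L380410 : sm gd N30831 = N44965 := rfl
theorem L380412 : sm gb N44965 = N30836 := ded_20_1 (flp_d L261522) (flp_b L261477) L380410
theorem L380420 : sm gg N30831 = N44966 := rfl
theorem L380422 : sm gb N44966 = N30837 := ded_23_1 (flp_g L261533) (flp_b L261477) L380420
theorem L380425 : sm ge N44966 = N30832 := ded_41_1 (flp_g L261484) L261475 L380420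
theorem L380429 : sm gh N30831 = N44967 := rfl
theorem L380431 : sm gb N44967 = N30838 := ded_25_1 (flp_h L261543) (flp_b L261477) L380429
theorem L380436 : sm gj N44967 = N30969 := ded_52_1 (flp_h L262693) (flp_j L261480) L380429
theorem L380438 : sm gj N30832 = N44968 := rfl
theorem L380446 : sm gi N44968 = N30889 := ded_53_2 (flp_j L261997) (flp_i L261491) L380438
theorem L380450 : sm gh N30832 = N44969 := rfl
theorem L380452 : sm gb N44969 = N30840 := ded_25_1 (flp_h L261566) (flp_b L261486) L380450
theorem L380468 : sm gi N30833 = N44971 := rfl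
theorem L380470 : sm gb N44971 = N30842 := ded_26_1 (flp_i L261586) (flp_b L261496) L380468
theorem L380475 : sm gj N44971 = N30973 := ded_53_1 (flp_i L262728) (flp_j L261501) L380468
theorem L380506 : sm gg N30836 = N44975 := rfl
theorem L380508 : sm ga N44975 = N30852 := ded_15_1 (flp_g L261690) (flp_a L261524) L380506
theorem L380511 : sm gd N44975 = N30837 := ded_36_1 (flp_g L261533) L261522 L380506
theorem L380513 : sm ge N44975 = N33944 := ded_41_1 (flp_g L287966) (flp_e L261531) L380506
theorem L380517 : sm gh N30836 = N44976 := rfl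
theorem L380519 : sm ga N44976 = N30853 := ded_17_1 (flp_h L261699) (flp_a L261524) L380517
theorem L380521 : sm gc N44976 = N44976 := ded_32_1 (flp_h L380517) L261530 L380517
theorem L380522 : sm ge N44976 = N33945 := ded_43_1 (flp_h L287975) (flp_e L261531) L380517
theorem L380524 : sm gj N44976 = N30978 := ded_52_1 (flp_h L262772) (flp_j L261526) L380517
theorem L380526 : sm gf N30837 = N44977 := rfl
theorem L380528 : sm ga N44977 = N30854 := ded_14_1 (flp_f L261706) (flp_a L261535) L380526
theorem L380530 : sm gc N44977 = N30845 := ded_29_1 (flp_f L261618) (flp_c L261537) L380526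
theorem L380532 : sm gi N44977 = N30898 := ded_48_2 (flp_f L262080) (flp_i L261541) L380526
theorem L380535 : sm gj N30837 = N44978 := rfl
theorem L380537 : sm ga N44978 = N30855 := ded_16_1 (flp_j L261713) (flp_a L261535) L380535
theorem L380543 : sm gi N44978 = N30899 := ded_53_2 (flp_j L262087) (flp_i L261541) L380535
theorem L380545 : sm gg N44978 = N30980 := ded_49_1 (flp_j L262789) (flp_g L180796) (flp_j L179966) L261533 L380535
theorem L380547 : sm gh N30837 = N44979 := rfl
theorem L380549 : sm ga N44979 = N30856 := ded_17_1 (flp_h L261723) (flp_a L261535) L380547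
theorem L380551 : sm gc N44979 = N30847 := ded_32_1 (flp_h L261639) (flp_c L261537) L380547
theorem L380553 : sm ge N44979 = N30840 := ded_43_1 (flp_h L261566) (flp_e L261539) L380547
theorem L380555 : sm gg N44979 = N30838 := ded_50_1 (flp_h L261543) L261533 L380547
theorem L380557 : sm gd N30838 = N44980 := rfl
theorem L380559 : sm ga N44980 = N30857 := ded_12_1 (flp_d L261731) (flp_a L261545) L380557
theorem L380561 : sm gj N44980 = N30982 := ded_37_2 (flp_d L262809) (flp_j L261551) L380557
theorem L380563 : sm gi N30838 = N44981 := rfl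
theorem L380565 : sm ga N44981 = N30858 := ded_18_1 (flp_i L261735) (flp_a L261545) L380563
theorem L380567 : sm gc N44981 = N30849 := ded_33_1 (flp_i L261657) (flp_c L261547) L380563
theorem L380569 : sm ge N44981 = N30842 := ded_44_1 (flp_i L261586) (flp_e L261549) L380563
theorem L380571 : sm gj N44981 = N30983 := ded_53_1 (flp_i L262813) (flp_j L261551) L380563
theorem L380573 : sm gh N44981 = N30902 := ded_54_1 (flp_i L262113) (flp_h L180331) (flp_i L179968) L261543 L380563
theorem L380575 : sm gh N30839 = N44982 := rfl
theorem L380577 : sm ga N44982 = N30859 := ded_17_1 (flp_h L261745) (flp_a L261555) L380575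
theorem L380579 : sm gc N44982 = N30850 := ded_32_1 (flp_h L261668) (flp_c L261557) L380575
theorem L380584 : sm gj N44982 = N30840 := ded_52_1 (flp_h L261566) L261553 L380575
theorem L380586 : sm gd N30840 = N44983 := rfl
theorem L380588 : sm ga N44983 = N30860 := ded_12_1 (flp_d L261754) (flp_a L261568) L380586
theorem L380596 : sm gi N30840 = N44984 := rfl
theorem L380598 : sm ga N44984 = N30861 := ded_18_1 (flp_i L261762) (flp_a L261568) L380596
theorem L380600 : sm gc N44984 = N30851 := ded_33_1 (flp_i L261679) (flp_c L261570) L380596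
theorem L380602 : sm gf N44984 = N44984 := ded_48_1 (flp_i L380596) L261572 L380596
theorem L380603 : sm gg N44984 = N30842 := ded_51_1 (flp_i L261586) (flp_g L261573) L380596
theorem L380605 : sm gh N44984 = N30905 := ded_54_1 (flp_i L262145) (flp_h L180352) (flp_i L179978) L261566 L380596
theorem L380616 : sm gi N30841 = N44986 := rfl
theorem L380621 : sm gd N44986 = N30842 := ded_39_1 (flp_i L261586) L261575 L380616
theorem L380623 : sm gf N44986 = N30844 := ded_48_1 (flp_i L261608) (flp_f L261579) L380616
theorem L380646 : sm gh N30844 = N44989 := rfl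
theorem L380656 : sm gi N44989 = N33958 := ded_54_2 (flp_h L288102) (flp_i L198161) (flp_h L179999) L261608 L380646
theorem L380658 : sm gj N30845 = N44990 := rfl
theorem L380660 : sm ga N44990 = N30867 := ded_16_1 (flp_j L261812) (flp_a L261620) L380658
theorem L380665 : sm gf N44990 = N30846 := ded_46_1 (flp_j L261627) L261618 L380658
theorem L380667 : sm gi N44990 = N30911 := ded_53_2 (flp_j L262208) (flp_i L261624) L380658
theorem L380669 : sm gh N30845 = N44991 := rfl
theorem L380671 : sm ga N44991 = N30868 := ded_17_1 (flp_h L261822) (flp_a L261620) L380669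
theorem L380675 : sm gf N44991 = N30847 := ded_47_1 (flp_h L261639) L261618 L380669
theorem L380677 : sm gh N30846 = N44992 := rfl
theorem L380679 : sm ga N44992 = N30869 := ded_17_1 (flp_h L261829) (flp_a L261629) L380677
theorem L380682 : sm ge N44992 = N30850 := ded_43_1 (flp_h L261668) (flp_e L261633) L380677
theorem L380684 : sm gg N44992 = N30994 := ded_50_1 (flp_h L262920) (flp_g L261637) L380677
theorem L380686 : sm gj N44992 = N30847 := ded_52_1 (flp_h L261639) L261627 L380677
theorem L380688 : sm gd N30847 = N44993 := rfl
theorem L380690 : sm ga N44993 = N30870 := ded_12_1 (flp_d L261839) (flp_a L261641) L380688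
theorem L380693 : sm gg N44993 = N30848 := ded_36_2 (flp_d L261648) (flp_g L261646) L380688
theorem L380697 : sm gi N30847 = N44994 := rfl
theorem L380699 : sm ga N44994 = N30871 := ded_18_1 (flp_i L261847) (flp_a L261641) L380697
theorem L380701 : sm gb N44994 = N44994 := ded_26_1 (flp_i L380697) L261643 L380697
theorem L380702 : sm ge N44994 = N30851 := ded_44_1 (flp_i L261679) (flp_e L261644) L380697
theorem L380704 : sm gg N44994 = N30849 := ded_51_1 (flp_i L261657) (flp_g L261646) L380697
theorem L380706 : sm gh N44994 = N30915 := ded_54_1 (flp_i L262246) (flp_h L180422) (flp_i L180020) L261639 L380697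
theorem L380708 : sm gc N30848 = N44995 := rfl
theorem L380710 : sm ga N44995 = N30872 := ded_11_1 (flp_c L261857) (flp_a L261650) L380708
theorem L380712 : sm ge N44995 = N44995 := ded_28_2 (flp_c L380708) L261655 L380708
theorem L380713 : sm gj N44995 = N30997 := ded_31_2 (flp_c L262949) (flp_j L261653) L380708
theorem L380715 : sm gh N44995 = N44995 := ded_32_2 (flp_c L380708) L261656 L380708
theorem L380716 : sm gi N30848 = N44996 := rfl
theorem L380718 : sm ga N44996 = N30873 := ded_18_1 (flp_i L261863) (flp_a L261650) L380716
theorem L380720 : sm gb N44996 = N44996 := ded_26_1 (flp_i L380716) L261652 L380716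
theorem L380721 : sm gd N44996 = N30849 := ded_39_1 (flp_i L261657) L261648 L380716
theorem L380723 : sm ge N44996 = N44996 := ded_44_1 (flp_i L380716) L261655 L380716
theorem L380724 : sm gj N44996 = N30998 := ded_53_1 (flp_i L262955) (flp_j L261653) L380716
theorem L380726 : sm gi N30850 = N44997 := rfl
theorem L380728 : sm ga N44997 = N30874 := ded_18_1 (flp_i L261872) (flp_a L261670) L380726
theorem L380730 : sm gb N44997 = N44997 := ded_26_1 (flp_i L380726) L261672 L380726
theorem L380731 : sm gd N44997 = N44997 := ded_39_1 (flp_i L380726) L261678 L380726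
theorem L380732 : sm gf N44997 = N44997 := ded_48_1 (flp_i L380726) L261673 L380726
theorem L380733 : sm gg N44997 = N30999 := ded_51_1 (flp_i L262963) (flp_g L261674) L380726
theorem L380735 : sm gj N44997 = N30851 := ded_53_1 (flp_i L261679) (flp_j L261676) L380726
theorem L380737 : sm gh N44997 = N30918 := ded_54_1 (flp_i L262275) (flp_h L180450) (flp_i L180039) L261668 L380726
theorem L380739 : sm gf N30852 = N44998 := rfl
theorem L380742 : sm gd N44998 = N30854 := ded_35_1 (flp_f L261706) (flp_d L261693) L380739
theorem L380744 : sm gi N44998 = N30919 := ded_48_2 (flp_f L262287) (flp_i L261697) L380739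
theorem L380757 : sm gh N30852 = N45000 := rfl
theorem L380762 : sm gg N45000 = N30853 := ded_50_1 (flp_h L261699) L261690 L380757
theorem L380764 : sm gd N30853 = N45001 := rfl
theorem L380766 : sm gj N45001 = N31003 := ded_37_2 (flp_d L262998) (flp_j L261704) L380764
theorem L380768 : sm gh N45001 = N30857 := ded_38_2 (flp_d L261731) (flp_h L180081) L180064 L261699 L380764
theorem L380770 : sm gi N30853 = N45002 := rfl
theorem L380772 : sm gc N45002 = N45002 := ded_33_1 (flp_i L380770) L261701 L380770
theorem L380773 : sm ge N45002 = N33971 := ded_44_1 (flp_i L288232) (flp_e L261702) L380770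
theorem L380775 : sm gj N45002 = N31004 := ded_53_1 (flp_i L263002) (flp_j L261704) L380770
theorem L380777 : sm gh N45002 = N30923 := ded_54_1 (flp_i L262314) (flp_h L180479) (flp_i L180068) L261699 L380770
theorem L380779 : sm gj N30854 = N45003 := rfl
theorem L380781 : sm gc N45003 = N30867 := ded_31_1 (flp_j L261812) (flp_c L261708) L380779
theorem L380784 : sm gf N45003 = N30855 := ded_46_1 (flp_j L261713) L261706 L380779
theorem L380786 : sm gi N45003 = N30924 := ded_53_2 (flp_j L262321) (flp_i L261710) L380779
theorem L380788 : sm gh N30854 = N45004 := rfl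
theorem L380790 : sm gc N45004 = N30868 := ded_32_1 (flp_h L261822) (flp_c L261708) L380788
theorem L380793 : sm gf N45004 = N30856 := ded_47_1 (flp_h L261723) L261706 L380788
theorem L380795 : sm gh N30855 = N45005 := rfl
theorem L380799 : sm ge N45005 = N30859 := ded_43_1 (flp_h L261745) (flp_e L261717) L380795
theorem L380801 : sm gg N45005 = N31007 := ded_50_1 (flp_h L263027) (flp_g L261721) L380795
theorem L380803 : sm gj N45005 = N30856 := ded_52_1 (flp_h L261723) L261713 L380795
theorem L380805 : sm gd N30856 = N45006 := rfl
theorem L380807 : sm gg N45006 = N30857 := ded_36_2 (flp_d L261731) (flp_g L261729) L380805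
theorem L380809 : sm gi N30856 = N45007 := rfl
theorem L380811 : sm gc N45007 = N30871 := ded_33_1 (flp_i L261847) (flp_c L261725) L380809
theorem L380813 : sm ge N45007 = N30861 := ded_44_1 (flp_i L261762) (flp_e L261727) L380809
theorem L380815 : sm gg N45007 = N30858 := ded_51_1 (flp_i L261735) (flp_g L261729) L380809
theorem L380817 : sm gh N45007 = N30928 := ded_54_1 (flp_i L262349) (flp_h L180499) (flp_i L180079) L261723 L380809
theorem L380819 : sm gc N30857 = N45008 := rfl
theorem L380821 : sm gj N45008 = N31010 := ded_31_2 (flp_c L263049) (flp_j L261733) L380819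
theorem L380823 : sm gd N45008 = N30872 := ded_27_2 (flp_c L261857) (flp_d L180169) (flp_c L180083) L261731 L380819
theorem L380825 : sm ge N30857 = N45009 := rfl
theorem L380827 : sm gj N45009 = N31011 := ded_42_2 (flp_e L263053) (flp_j L261733) L380825
theorem L380829 : sm gd N45009 = N30862 := ded_34_1 (flp_e L261771) (flp_d L180107) (flp_e L180085) L261731 L380825
theorem L380831 : sm gi N30857 = N45010 := rfl
theorem L380833 : sm gd N45010 = N30858 := ded_39_1 (flp_i L261735) L261731 L380831
theorem L380835 : sm gj N45010 = N31012 := ded_53_1 (flp_i L263057) (flp_j L261733) L380831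
theorem L380837 : sm gd N30859 = N45011 := rfl
theorem L380842 : sm gj N45011 = N30860 := ded_37_2 (flp_d L261754) (flp_j L261752) L380837
theorem L380847 : sm gi N30859 = N45012 := rfl
theorem L380849 : sm gc N45012 = N30874 := ded_33_1 (flp_i L261872) (flp_c L261747) L380847
theorem L380851 : sm gf N45012 = N45012 := ded_48_1 (flp_i L380847) L261749 L380847
theorem L380852 : sm gg N45012 = N31014 := ded_51_1 (flp_i L263070) (flp_g L261750) L380847
theorem L380854 : sm gj N45012 = N30861 := ded_53_1 (flp_i L261762) (flp_j L261752) L380847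
theorem L380856 : sm gh N45012 = N30933 := ded_54_1 (flp_i L262386) (flp_h L180519) (flp_i L180096) L261745 L380847
theorem L380858 : sm ge N30860 = N45013 := rfl
theorem L380861 : sm gg N45013 = N30862 := ded_41_2 (flp_e L261771) (flp_g L261757) L380858
theorem L380865 : sm gi N30860 = N45014 := rfl
theorem L380867 : sm gc N45014 = N45014 := ded_33_1 (flp_i L380865) L261759 L380865
theorem L380868 : sm gd N45014 = N30861 := ded_39_1 (flp_i L261762) L261754 L380865
theorem L380870 : sm gf N45014 = N45014 := ded_48_1 (flp_i L380865) L261756 L380865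
theorem L380871 : sm gg N45014 = N30863 := ded_51_1 (flp_i L261778) (flp_g L261757) L380865
theorem L380873 : sm gf N30862 = N45015 := rfl
theorem L380876 : sm gj N45015 = N31017 := ded_46_2 (flp_f L263096) (flp_j L261774) L380873
theorem L380880 : sm ge N45015 = N30864 := ded_40_1 (flp_f L261787) (flp_e L180126) (flp_f L180109) L261771 L380873
theorem L380882 : sm gi N30862 = N45016 := rfl
theorem L380884 : sm gc N45016 = N45016 := ded_33_1 (flp_i L380882) L261773 L380882
theorem L380885 : sm ge N45016 = N30863 := ded_44_1 (flp_i L261778) L261771 L380882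
theorem L380887 : sm gj N45016 = N31018 := ded_53_1 (flp_i L263103) (flp_j L261774) L380882
theorem L380889 : sm gh N30863 = N45017 := rfl
theorem L380896 : sm gd N45017 = N30938 := ded_38_1 (flp_h L262430) L180556 (flp_h L180124) (flp_d L261781) L380889
theorem L380913 : sm gh N30865 = N45020 := rfl
theorem L380921 : sm gi N45020 = N33989 := ded_54_2 (flp_h L288369) (flp_i L198352) (flp_h L180132) L261794 L380913
theorem L380923 : sm gg N30867 = N45021 := rfl
theorem L380925 : sm gb N45021 = N30875 := ded_23_1 (flp_g L261884) (flp_b L261814) L380923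
theorem L380929 : sm gi N45021 = N30942 := ded_51_2 (flp_g L262466) (flp_i L261820) L380923
theorem L380931 : sm gf N45021 = N31023 := ded_45_1 (flp_g L263138) L181055 (flp_g L180159) (flp_f L261818) L380923
theorem L380942 : sm gd N30868 = N45023 := rfl
theorem L380944 : sm gb N45023 = N30877 := ded_20_1 (flp_d L261901) (flp_b L261824) L380942
theorem L380946 : sm gf N45023 = N30870 := ded_35_2 (flp_d L261839) (flp_f L261827) L380942
theorem L380949 : sm gi N30868 = N45024 := rfl
theorem L380954 : sm gf N45024 = N30871 := ded_48_1 (flp_i L261847) (flp_f L261827) L380949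
theorem L380956 : sm gh N45024 = N30945 := ded_54_1 (flp_i L262490) (flp_h L180596) (flp_i L180147) L261822 L380949
theorem L380958 : sm gd N30869 = N45025 := rfl
theorem L380960 : sm gb N45025 = N30879 := ded_20_1 (flp_d L261915) (flp_b L261831) L380958
theorem L380962 : sm gg N45025 = N31027 := ded_36_2 (flp_d L263174) (flp_g L261835) L380958
theorem L380964 : sm gj N45025 = N30870 := ded_37_2 (flp_d L261839) (flp_j L261837) L380958
theorem L380968 : sm gi N30869 = N45026 := rfl
theorem L380970 : sm gb N45026 = N30880 := ded_26_1 (flp_i L261924) (flp_b L261831) L380968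
theorem L380972 : sm ge N45026 = N30874 := ded_44_1 (flp_i L261872) (flp_e L261833) L380968
theorem L380974 : sm gg N45026 = N31028 := ded_51_1 (flp_i L263182) (flp_g L261835) L380968
theorem L380976 : sm gj N45026 = N30871 := ded_53_1 (flp_i L261847) (flp_j L261837) L380968
theorem L380978 : sm gh N45026 = N30947 := ded_54_1 (flp_i L262508) (flp_h L180603) (flp_i L180157) L261829 L380968
theorem L380980 : sm gc N30870 = N45027 := rfl
theorem L380983 : sm gg N45027 = N30872 := ded_30_2 (flp_c L261857) (flp_g L261843) L380980
theorem L380986 : sm gi N30870 = N45028 := rfl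
theorem L380990 : sm gd N45028 = N30871 := ded_39_1 (flp_i L261847) L261839 L380986
theorem L380993 : sm gg N45028 = N30873 := ded_51_1 (flp_i L261863) (flp_g L261843) L380986
theorem L380995 : sm gb N30872 = N45029 := rfl
theorem L380998 : sm gj N45029 = N31031 := ded_24_2 (flp_b L263207) (flp_j L261860) L380995
theorem L381001 : sm gc N45029 = N30883 := ded_19_2 (flp_b L261950) (flp_c L180247) (flp_b L180171) L261857 L380995
theorem L381003 : sm gi N30872 = N45030 := rfl
theorem L381005 : sm gc N45030 = N30873 := ded_33_1 (flp_i L261863) L261857 L381003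
theorem L381007 : sm ge N45030 = N45030 := ded_44_1 (flp_i L381003) L261859 L381003
theorem L381008 : sm gj N45030 = N31032 := ded_53_1 (flp_i L263213) (flp_j L261860) L381003
theorem L381010 : sm gh N30873 = N45031 := rfl
theorem L381012 : sm gb N45031 = N30885 := ded_25_1 (flp_h L261964) (flp_b L261865) L381010
theorem L381014 : sm ge N45031 = N45031 := ded_43_1 (flp_h L381010) L261869 L381010
theorem L381015 : sm gj N45031 = N31033 := ded_52_1 (flp_h L263218) (flp_j L261870) L381010
theorem L381017 : sm gd N45031 = N30952 := ded_38_1 (flp_h L262552) L180641 (flp_h L180185) (flp_d L261867) L381010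
theorem L381019 : sm gi N45031 = N45031 := ded_54_2 (flp_h L381010) (flp_i L261863) L180176 L261863 L381010
theorem L381020 : sm gh N30875 = N45032 := rfl
theorem L381024 : sm gf N45032 = N31034 := ded_47_1 (flp_h L263226) (flp_f L261891) L381020
theorem L381026 : sm gg N45032 = N30876 := ded_50_1 (flp_h L261893) L261884 L381020
theorem L381065 : sm gc N30879 = N45038 := rfl
theorem L381071 : sm gj N45038 = N30881 := ded_31_2 (flp_c L261935) (flp_j L261920) L381065
theorem L381090 : sm gi N30881 = N45041 := rfl
theorem L381096 : sm gg N45041 = N30884 := ded_51_1 (flp_i L261956) (flp_g L261939) L381090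
theorem L381098 : sm gh N30882 = N45042 := rfl
theorem L381102 : sm gg N45042 = N30885 := ded_50_1 (flp_h L261964) (flp_g L261948) L381098
theorem L381104 : sm gd N45042 = N30963 := ded_38_1 (flp_h L262642) L180715 (flp_h L180245) (flp_d L261945) L381098
theorem L381107 : sm ga N30883 = N45043 := rfl
theorem L381110 : sm gj N45043 = N31045 := ded_16_2 (flp_a L263310) (flp_j L261953) L381107
theorem L381114 : sm gi N30883 = N45044 := rfl
theorem L381116 : sm gb N45044 = N30884 := ded_26_1 (flp_i L261956) L261950 L381114
theorem L381119 : sm gj N45044 = N31046 := ded_53_1 (flp_i L263315) (flp_j L261953) L381114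
theorem L381121 : sm gh N30884 = N45045 := rfl
theorem L381124 : sm gc N45045 = N30885 := ded_32_1 (flp_h L261964) (flp_c L261959) L381121
theorem L381127 : sm gj N45045 = N31047 := ded_52_1 (flp_h L263320) (flp_j L261962) L381121
theorem L381146 : sm gh N30886 = N45048 := rfl
theorem L381148 : sm gb N45048 = N30897 := ded_25_1 (flp_h L262071) (flp_b L261975) L381146
theorem L381152 : sm gj N45048 = N31050 := ded_52_1 (flp_h L263341) (flp_j L261977) L381146
theorem L381154 : sm gf N30887 = N45049 := rfl
theorem L381156 : sm gb N45049 = N30898 := ded_22_1 (flp_f L262080) (flp_b L261983) L381154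
theorem L381160 : sm gj N30887 = N45050 := rfl
theorem L381165 : sm ge N45050 = N30889 := ded_42_1 (flp_j L261997) (flp_e L261986) L381160
theorem L381167 : sm gg N45050 = N31052 := ded_49_1 (flp_j L263354) (flp_g L181201) (flp_j L180278) L261981 L381160
theorem L381169 : sm gh N30887 = N45051 := rfl
theorem L381171 : sm gb N45051 = N30900 := ded_25_1 (flp_h L262097) (flp_b L261983) L381169
theorem L381174 : sm ge N45051 = N30890 := ded_43_1 (flp_h L262007) (flp_e L261986) L381169
theorem L381178 : sm gd N30888 = N45052 := rfl
theorem L381180 : sm gb N45052 = N30901 := ded_20_1 (flp_d L262107) (flp_b L261990) L381178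
theorem L381182 : sm gj N45052 = N31054 := ded_37_2 (flp_d L263370) (flp_j L261995) L381178
theorem L381184 : sm gi N30888 = N45053 := rfl
theorem L381186 : sm gb N45053 = N30902 := ded_26_1 (flp_i L262113) (flp_b L261990) L381184
theorem L381193 : sm gh N30889 = N45054 := rfl
theorem L381201 : sm gj N45054 = N30890 := ded_52_1 (flp_h L262007) L261997 L381193
theorem L381212 : sm gi N30890 = N45056 := rfl
theorem L381214 : sm gb N45056 = N30905 := ded_26_1 (flp_i L262145) (flp_b L262009) L381212
theorem L381239 : sm gi N30891 = N45059 := rfl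
theorem L381245 : sm gf N45059 = N30895 := ded_48_1 (flp_i L262053) (flp_f L262019) L381239
theorem L381287 : sm gh N30895 = N45064 := rfl
theorem L381292 : sm gj N45064 = N31066 := ded_52_1 (flp_h L263465) (flp_j L262060) L381287
theorem L381296 : sm gf N30896 = N45065 := rfl
theorem L381298 : sm ga N45065 = N30919 := ded_14_1 (flp_f L262287) (flp_a L262064) L381296
theorem L381301 : sm gd N45065 = N30898 := ded_35_1 (flp_f L262080) (flp_d L262067) L381296
theorem L381314 : sm gh N30896 = N45067 := rfl
theorem L381316 : sm ga N45067 = N30921 := ded_17_1 (flp_h L262301) (flp_a L262064) L381314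
theorem L381321 : sm gg N45067 = N30897 := ded_50_1 (flp_h L262071) L262062 L381314
theorem L381323 : sm gd N30897 = N45068 := rfl
theorem L381325 : sm ga N45068 = N30922 := ded_12_1 (flp_d L262308) (flp_a L262073) L381323
theorem L381327 : sm gj N45068 = N31070 := ded_37_2 (flp_d L263498) (flp_j L262078) L381323
theorem L381329 : sm gh N45068 = N30901 := ded_38_2 (flp_d L262107) (flp_h L180331) L180314 L262071 L381323
theorem L381331 : sm gi N30897 = N45069 := rfl
theorem L381333 : sm ga N45069 = N30923 := ded_18_1 (flp_i L262314) (flp_a L262073) L381331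
theorem L381335 : sm gc N45069 = N45069 := ded_33_1 (flp_i L381331) L262075 L381331
theorem L381336 : sm ge N45069 = N34038 := ded_44_1 (flp_i L288806) (flp_e L262076) L381331
theorem L381338 : sm gj N45069 = N31071 := ded_53_1 (flp_i L263504) (flp_j L262078) L381331
theorem L381340 : sm gj N30898 = N45070 := rfl
theorem L381342 : sm ga N45070 = N30924 := ded_16_1 (flp_j L262321) (flp_a L262082) L381340
theorem L381344 : sm gc N45070 = N30911 := ded_31_1 (flp_j L262208) (flp_c L262084) L381340
theorem L381347 : sm gf N45070 = N30899 := ded_46_1 (flp_j L262087) L262080 L381340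
theorem L381349 : sm gh N30898 = N45071 := rfl
theorem L381351 : sm ga N45071 = N30925 := ded_17_1 (flp_h L262328) (flp_a L262082) L381349
theorem L381353 : sm gc N45071 = N30912 := ded_32_1 (flp_h L262217) (flp_c L262084) L381349
theorem L381355 : sm ge N45071 = N45071 := ded_43_1 (flp_h L381349) L262086 L381349
theorem L381356 : sm gf N45071 = N30900 := ded_47_1 (flp_h L262097) L262080 L381349
theorem L381358 : sm gh N30899 = N45072 := rfl
theorem L381360 : sm ga N45072 = N30926 := ded_17_1 (flp_h L262335) (flp_a L262089) L381358
theorem L381362 : sm gc N45072 = N30913 := ded_32_1 (flp_h L262225) (flp_c L262091) L381358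
theorem L381364 : sm ge N45072 = N30903 := ded_43_1 (flp_h L262123) (flp_e L262093) L381358
theorem L381366 : sm gg N45072 = N31074 := ded_50_1 (flp_h L263531) (flp_g L262095) L381358
theorem L381368 : sm gj N45072 = N30900 := ded_52_1 (flp_h L262097) L262087 L381358
theorem L381370 : sm gd N30900 = N45073 := rfl
theorem L381372 : sm ga N45073 = N30927 := ded_12_1 (flp_d L262345) (flp_a L262099) L381370
theorem L381374 : sm gg N45073 = N30901 := ded_36_2 (flp_d L262107) (flp_g L262105) L381370
theorem L381376 : sm gi N30900 = N45074 := rfl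
theorem L381378 : sm ga N45074 = N30928 := ded_18_1 (flp_i L262349) (flp_a L262099) L381376
theorem L381380 : sm gc N45074 = N30915 := ded_33_1 (flp_i L262246) (flp_c L262101) L381376
theorem L381382 : sm ge N45074 = N30905 := ded_44_1 (flp_i L262145) (flp_e L262103) L381376
theorem L381384 : sm gg N45074 = N30902 := ded_51_1 (flp_i L262113) (flp_g L262105) L381376
theorem L381386 : sm gc N30901 = N45075 := rfl
theorem L381388 : sm ga N45075 = N30929 := ded_11_1 (flp_c L262357) (flp_a L262109) L381386
theorem L381390 : sm gj N45075 = N31077 := ded_31_2 (flp_c L263557) (flp_j L262111) L381386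
theorem L381392 : sm gd N45075 = N30916 := ded_27_2 (flp_c L262255) (flp_d L180431) (flp_c L180335) L262107 L381386
theorem L381394 : sm ge N30901 = N45076 := rfl
theorem L381396 : sm ga N45076 = N30930 := ded_13_1 (flp_e L262363) (flp_a L262109) L381394
theorem L381398 : sm gj N45076 = N31078 := ded_42_2 (flp_e L263563) (flp_j L262111) L381394
theorem L381402 : sm gi N30901 = N45077 := rfl
theorem L381404 : sm ga N45077 = N30931 := ded_18_1 (flp_i L262369) (flp_a L262109) L381402
theorem L381406 : sm gd N45077 = N30902 := ded_39_1 (flp_i L262113) L262107 L381402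
theorem L381408 : sm gj N45077 = N31079 := ded_53_1 (flp_i L263569) (flp_j L262111) L381402
theorem L381423 : sm gi N30903 = N45079 := rfl
theorem L381425 : sm ga N45079 = N30933 := ded_18_1 (flp_i L262386) (flp_a L262125) L381423
theorem L381427 : sm gc N45079 = N30918 := ded_33_1 (flp_i L262275) (flp_c L262127) L381423
theorem L381429 : sm gf N45079 = N45079 := ded_48_1 (flp_i L381423) L262129 L381423
theorem L381430 : sm gg N45079 = N31081 := ded_51_1 (flp_i L263587) (flp_g L262130) L381423
theorem L381432 : sm gj N45079 = N30905 := ded_53_1 (flp_i L262145) (flp_j L262132) L381423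
theorem L381434 : sm ge N30904 = N45080 := rfl
theorem L381436 : sm ga N45080 = N30934 := ded_13_1 (flp_e L262395) (flp_a L262136) L381434
theorem L381442 : sm gh N45080 = N34049 := ded_43_2 (flp_e L288909) (flp_h L262143) L381434
theorem L381444 : sm gi N30904 = N45081 := rfl
theorem L381446 : sm ga N45081 = N30935 := ded_18_1 (flp_i L262403) (flp_a L262136) L381444
theorem L381448 : sm gc N45081 = N31837 := ded_33_1 (flp_i L269733) (flp_c L262141) L381444
theorem L381450 : sm gd N45081 = N30905 := ded_39_1 (flp_i L262145) L262134 L381444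
theorem L381455 : sm gf N30906 = N45082 := rfl
theorem L381457 : sm ga N45082 = N30936 := ded_14_1 (flp_f L262412) (flp_a L262156) L381455
theorem L381461 : sm gj N45082 = N31084 := ded_46_2 (flp_f L263619) (flp_j L262160) L381455
theorem L381467 : sm gi N30906 = N45083 := rfl
theorem L381469 : sm ga N45083 = N30937 := ded_18_1 (flp_i L262422) (flp_a L262156) L381467
theorem L381471 : sm gc N45083 = N31839 := ded_33_1 (flp_i L269752) (flp_c L262158) L381467
theorem L381489 : sm gg N30908 = N45085 := rfl
theorem L381491 : sm ga N45085 = N30939 := ded_15_1 (flp_g L262440) (flp_a L262178) L381489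
theorem L381493 : sm gc N45085 = N31841 := ded_30_1 (flp_g L269771) (flp_c L262180) L381489
theorem L381498 : sm gi N30908 = N45086 := rfl
theorem L381500 : sm ga N45086 = N30940 := ded_18_1 (flp_i L262447) (flp_a L262178) L381498
theorem L381504 : sm gf N45086 = N30909 := ded_48_1 (flp_i L262186) L262176 L381498
theorem L381508 : sm gh N30909 = N45087 := rfl
theorem L381510 : sm ga N45087 = N30941 := ded_17_1 (flp_h L262455) (flp_a L262188) L381508
theorem L381519 : sm gi N45087 = N34056 := ded_54_2 (flp_h L288977) (flp_i L198756) (flp_h L180392) L262186 L381508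
theorem L381521 : sm gg N30911 = N45088 := rfl
theorem L381523 : sm ga N45088 = N30942 := ded_15_1 (flp_g L262466) (flp_a L262210) L381521
theorem L381525 : sm gb N45088 = N45088 := ded_23_1 (flp_g L381521) L262212 L381521
theorem L381526 : sm gd N45088 = N45088 := ded_36_1 (flp_g L381521) L262213 L381521
theorem L381527 : sm ge N45088 = N45088 := ded_41_1 (flp_g L381521) L262214 L381521
theorem L381528 : sm gf N45088 = N31090 := ded_45_1 (flp_g L263677) L181413 (flp_g L180420) (flp_f L262215) L381521
theorem L381530 : sm gh N30911 = N45089 := rfl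
theorem L381532 : sm ga N45089 = N30943 := ded_17_1 (flp_h L262474) (flp_a L262210) L381530
theorem L381534 : sm gb N45089 = N45089 := ded_25_1 (flp_h L381530) L262212 L381530
theorem L381535 : sm ge N45089 = N45089 := ded_43_1 (flp_h L381530) L262214 L381530
theorem L381536 : sm gf N45089 = N30913 := ded_47_1 (flp_h L262225) (flp_f L262215) L381530
theorem L381538 : sm gj N45089 = N30912 := ded_52_1 (flp_h L262217) L262208 L381530
theorem L381540 : sm gd N30912 = N45090 := rfl
theorem L381542 : sm ga N45090 = N30944 := ded_12_1 (flp_d L262483) (flp_a L262219) L381540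
theorem L381544 : sm gb N45090 = N45090 := ded_20_1 (flp_d L381540) L262221 L381540
theorem L381545 : sm gf N45090 = N30914 := ded_35_2 (flp_d L262236) (flp_f L262223) L381540
theorem L381547 : sm gh N45090 = N45090 := ded_38_2 (flp_d L381540) (flp_h L262217) L180410 L262217 L381540
theorem L381548 : sm gi N30912 = N45091 := rfl
theorem L381550 : sm ga N45091 = N30945 := ded_18_1 (flp_i L262490) (flp_a L262219) L381548
theorem L381552 : sm gb N45091 = N45091 := ded_26_1 (flp_i L381548) L262221 L381548
theorem L381553 : sm ge N45091 = N45091 := ded_44_1 (flp_i L381548) L262222 L381548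
theorem L381554 : sm gf N45091 = N30915 := ded_48_1 (flp_i L262246) (flp_f L262223) L381548
theorem L381556 : sm gd N30913 = N45092 := rfl
theorem L381558 : sm ga N45092 = N30946 := ded_12_1 (flp_d L262497) (flp_a L262227) L381556
theorem L381561 : sm gg N45092 = N31094 := ded_36_2 (flp_d L263713) (flp_g L262232) L381556
theorem L381563 : sm gj N45092 = N30914 := ded_37_2 (flp_d L262236) (flp_j L262234) L381556
theorem L381565 : sm ge N45092 = N31848 := ded_34_2 (flp_d L269839) L185647 (flp_d L180460) (flp_e L262230) L381556
theorem L381568 : sm gi N30913 = N45093 := rfl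
theorem L381570 : sm ga N45093 = N30947 := ded_18_1 (flp_i L262508) (flp_a L262227) L381568
theorem L381572 : sm gb N45093 = N45093 := ded_26_1 (flp_i L381568) L262229 L381568
theorem L381573 : sm ge N45093 = N30918 := ded_44_1 (flp_i L262275) (flp_e L262230) L381568
theorem L381575 : sm gg N45093 = N31095 := ded_51_1 (flp_i L263723) (flp_g L262232) L381568
theorem L381577 : sm gj N45093 = N30915 := ded_53_1 (flp_i L262246) (flp_j L262234) L381568
theorem L381579 : sm gc N30914 = N45094 := rfl
theorem L381581 : sm ga N45094 = N30948 := ded_11_1 (flp_c L262518) (flp_a L262238) L381579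
theorem L381583 : sm ge N45094 = N31850 := ded_28_2 (flp_c L269861) (flp_e L262243) L381579
theorem L381585 : sm gg N45094 = N30916 := ded_30_2 (flp_c L262255) (flp_g L262241) L381579
theorem L381588 : sm gi N30914 = N45095 := rfl
theorem L381590 : sm ga N45095 = N30949 := ded_18_1 (flp_i L262525) (flp_a L262238) L381588
theorem L381592 : sm gb N45095 = N45095 := ded_26_1 (flp_i L381588) L262240 L381588
theorem L381593 : sm gd N45095 = N30915 := ded_39_1 (flp_i L262246) L262236 L381588
theorem L381595 : sm ge N45095 = N31851 := ded_44_1 (flp_i L269868) (flp_e L262243) L381588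
theorem L381597 : sm gg N45095 = N30917 := ded_51_1 (flp_i L262264) (flp_g L262241) L381588
theorem L381599 : sm gb N30916 = N45096 := rfl
theorem L381601 : sm ge N45096 = N31852 := ded_21_2 (flp_b L269877) (flp_e L262259) L381599
theorem L381603 : sm gj N45096 = N31098 := ded_24_2 (flp_b L263752) (flp_j L262261) L381599
theorem L381607 : sm gi N30916 = N45097 := rfl
theorem L381609 : sm ga N45097 = N30951 := ded_18_1 (flp_i L262544) (flp_a L262257) L381607
theorem L381611 : sm gc N45097 = N30917 := ded_33_1 (flp_i L262264) L262255 L381607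
theorem L381613 : sm ge N45097 = N31853 := ded_44_1 (flp_i L269884) (flp_e L262259) L381607
theorem L381615 : sm gj N45097 = N31099 := ded_53_1 (flp_i L263758) (flp_j L262261) L381607
theorem L381617 : sm gh N30917 = N45098 := rfl
theorem L381619 : sm ga N45098 = N30952 := ded_17_1 (flp_h L262552) (flp_a L262266) L381617
theorem L381621 : sm gb N45098 = N45098 := ded_25_1 (flp_h L381617) L262268 L381617
theorem L381622 : sm ge N45098 = N31854 := ded_43_1 (flp_h L269893) (flp_e L262271) L381617
theorem L381624 : sm gj N45098 = N31100 := ded_52_1 (flp_h L263766) (flp_j L262273) L381617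
theorem L381626 : sm gi N45098 = N45098 := ded_54_2 (flp_h L381617) (flp_i L262264) L180440 L262264 L381617
theorem L381633 : sm gj N30919 = N45100 := rfl
theorem L381654 : sm gd N30921 = N45103 := rfl
theorem L381656 : sm gg N45103 = N30922 := ded_36_2 (flp_d L262308) (flp_g L262306) L381654
theorem L381658 : sm gh N45103 = N30927 := ded_38_2 (flp_d L262345) (flp_h L180499) (flp_d L180475) L262301 L381654
theorem L381660 : sm gi N30921 = N45104 := rfl
theorem L381665 : sm gg N45104 = N30923 := ded_51_1 (flp_i L262314) (flp_g L262306) L381660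
theorem L381667 : sm gc N30922 = N45105 := rfl
theorem L381669 : sm gj N45105 = N31107 := ded_31_2 (flp_c L263813) (flp_j L262310) L381667
theorem L381671 : sm gh N45105 = N30929 := ded_32_2 (flp_c L262357) (flp_h L262312) L381667
theorem L381673 : sm gd N45105 = N45105 := ded_27_2 (flp_c L381667) (flp_d L262308) L180481 L262308 L381667
theorem L381674 : sm ge N30922 = N45106 := rfl
theorem L381676 : sm gj N45106 = N31108 := ded_42_2 (flp_e L263818) (flp_j L262310) L381674
theorem L381678 : sm gh N45106 = N30930 := ded_43_2 (flp_e L262363) (flp_h L262312) L381674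
theorem L381680 : sm gd N45106 = N34075 := ded_34_1 (flp_e L289153) (flp_d L198884) (flp_e L180482) L262308 L381674
theorem L381682 : sm gi N30922 = N45107 := rfl
theorem L381684 : sm gd N45107 = N30923 := ded_39_1 (flp_i L262314) L262308 L381682
theorem L381686 : sm gj N45107 = N31109 := ded_53_1 (flp_i L263824) (flp_j L262310) L381682
theorem L381688 : sm gg N30924 = N45108 := rfl
theorem L381690 : sm gc N45108 = N30942 := ded_30_1 (flp_g L262466) (flp_c L262323) L381688
theorem L381692 : sm ge N45108 = N45108 := ded_41_1 (flp_g L381688) L262325 L381688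
theorem L381693 : sm gf N45108 = N31110 := ded_45_1 (flp_g L263828) L181513 (flp_g L180497) (flp_f L262326) L381688
theorem L381695 : sm gh N30924 = N45109 := rfl
theorem L381697 : sm gc N45109 = N30943 := ded_32_1 (flp_h L262474) (flp_c L262323) L381695
theorem L381699 : sm ge N45109 = N45109 := ded_43_1 (flp_h L381695) L262325 L381695
theorem L381700 : sm gf N45109 = N30926 := ded_47_1 (flp_h L262335) (flp_f L262326) L381695
theorem L381702 : sm gj N45109 = N30925 := ded_52_1 (flp_h L262328) L262321 L381695
theorem L381704 : sm gd N30925 = N45110 := rfl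
theorem L381706 : sm gf N45110 = N30927 := ded_35_2 (flp_d L262345) (flp_f L262333) L381704
theorem L381708 : sm gi N30925 = N45111 := rfl
theorem L381710 : sm gc N45111 = N30945 := ded_33_1 (flp_i L262490) (flp_c L262330) L381708
theorem L381712 : sm ge N45111 = N45111 := ded_44_1 (flp_i L381708) L262332 L381708
theorem L381713 : sm gf N45111 = N30928 := ded_48_1 (flp_i L262349) (flp_f L262333) L381708
theorem L381715 : sm gd N30926 = N45112 := rfl
theorem L381717 : sm gg N45112 = N31114 := ded_36_2 (flp_d L263856) (flp_g L262341) L381715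
theorem L381719 : sm gj N45112 = N30927 := ded_37_2 (flp_d L262345) (flp_j L262343) L381715
theorem L381721 : sm gi N30926 = N45113 := rfl
theorem L381723 : sm gc N45113 = N30947 := ded_33_1 (flp_i L262508) (flp_c L262337) L381721
theorem L381725 : sm ge N45113 = N30933 := ded_44_1 (flp_i L262386) (flp_e L262339) L381721
theorem L381727 : sm gg N45113 = N31115 := ded_51_1 (flp_i L263860) (flp_g L262341) L381721
theorem L381729 : sm gj N45113 = N30928 := ded_53_1 (flp_i L262349) (flp_j L262343) L381721
theorem L381731 : sm gc N30927 = N45114 := rfl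
theorem L381733 : sm gg N45114 = N30929 := ded_30_2 (flp_c L262357) (flp_g L262347) L381731
theorem L381735 : sm gd N45114 = N30948 := ded_27_2 (flp_c L262518) (flp_d L180613) (flp_c L180501) L262345 L381731
theorem L381737 : sm ge N30927 = N45115 := rfl
theorem L381739 : sm gg N45115 = N30930 := ded_41_2 (flp_e L262363) (flp_g L262347) L381737
theorem L381741 : sm gd N45115 = N30934 := ded_34_1 (flp_e L262395) (flp_d L180528) (flp_e L180503) L262345 L381737
theorem L381743 : sm gi N30927 = N45116 := rfl
theorem L381745 : sm gd N45116 = N30928 := ded_39_1 (flp_i L262349) L262345 L381743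
theorem L381747 : sm gg N45116 = N30931 := ded_51_1 (flp_i L262369) (flp_g L262347) L381743
theorem L381749 : sm gb N30929 = N45117 := rfl
theorem L381751 : sm gd N45117 = N30950 := ded_20_2 (flp_b L262535) (flp_d L262361) L381749
theorem L381753 : sm gj N45117 = N31119 := ded_24_2 (flp_b L263886) (flp_j L262359) L381749
theorem L381755 : sm ge N30929 = N45118 := rfl
theorem L381757 : sm gc N45118 = N30930 := ded_28_1 (flp_e L262363) L262357 L381755
theorem L381759 : sm gj N45118 = N31120 := ded_42_2 (flp_e L263890) (flp_j L262359) L381755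
theorem L381761 : sm gd N45118 = N31874 := ded_34_1 (flp_e L270062) L185794 (flp_e L180632) (flp_d L262361) L381755
theorem L381763 : sm gi N30929 = N45119 := rfl
theorem L381765 : sm gc N45119 = N30931 := ded_33_1 (flp_i L262369) L262357 L381763
theorem L381767 : sm gd N45119 = N30951 := ded_39_1 (flp_i L262544) (flp_d L262361) L381763
theorem L381769 : sm gj N45119 = N31121 := ded_53_1 (flp_i L263896) (flp_j L262359) L381763
theorem L381771 : sm gf N30930 = N45120 := rfl
theorem L381773 : sm gd N45120 = N30936 := ded_35_1 (flp_f L262412) (flp_d L262367) L381771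
theorem L381775 : sm gj N45120 = N31122 := ded_46_2 (flp_f L263902) (flp_j L262365) L381771
theorem L381777 : sm gi N30930 = N45121 := rfl
theorem L381779 : sm gd N45121 = N30937 := ded_39_1 (flp_i L262422) (flp_d L262367) L381777
theorem L381781 : sm ge N45121 = N30931 := ded_44_1 (flp_i L262369) L262363 L381777
theorem L381783 : sm gj N45121 = N31123 := ded_53_1 (flp_i L263906) (flp_j L262365) L381777
theorem L381785 : sm gh N30931 = N45122 := rfl
theorem L381787 : sm gj N45122 = N31124 := ded_52_1 (flp_h L263912) (flp_j L262373) L381785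
theorem L381789 : sm ge N30932 = N45123 := rfl
theorem L381793 : sm gg N45123 = N31125 := ded_41_2 (flp_e L263914) (flp_g L262378) L381789
theorem L381797 : sm gh N45123 = N34092 := ded_43_2 (flp_e L289274) (flp_h L262384) L381789
theorem L381799 : sm gi N30932 = N45124 := rfl
theorem L381801 : sm gc N45124 = N31880 := ded_33_1 (flp_i L270110) (flp_c L262382) L381799
theorem L381803 : sm gd N45124 = N30933 := ded_39_1 (flp_i L262386) L262375 L381799
theorem L381808 : sm gj N45124 = N30935 := ded_53_1 (flp_i L262403) (flp_j L262380) L381799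
theorem L381810 : sm gf N30934 = N45125 := rfl
theorem L381812 : sm gc N45125 = N31881 := ded_29_1 (flp_f L270120) (flp_c L262397) L381810
theorem L381814 : sm gh N45125 = N34094 := ded_47_2 (flp_f L289293) (flp_h L262401) L381810
theorem L381817 : sm gi N30934 = N45126 := rfl
theorem L381819 : sm gc N45126 = N31882 := ded_33_1 (flp_i L270126) (flp_c L262397) L381817
theorem L381821 : sm ge N45126 = N30935 := ded_44_1 (flp_i L262403) L262395 L381817
theorem L381823 : sm gg N45126 = N30937 := ded_51_1 (flp_i L262422) (flp_g L262399) L381817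
theorem L381825 : sm gh N30935 = N45127 := rfl
theorem L381830 : sm gg N45127 = N30938 := ded_50_1 (flp_h L262430) (flp_g L262410) L381825
theorem L381834 : sm gg N30936 = N45128 := rfl
theorem L381836 : sm gc N45128 = N31884 := ded_30_1 (flp_g L270142) (flp_c L262414) L381834
theorem L381838 : sm ge N45128 = N30939 := ded_41_1 (flp_g L262440) (flp_e L262420) L381834
theorem L381840 : sm gh N45128 = N34097 := ded_50_2 (flp_g L289313) (flp_h L262418) L381834
theorem L381842 : sm gi N30936 = N45129 := rfl
theorem L381844 : sm gc N45129 = N31885 := ded_33_1 (flp_i L270149) (flp_c L262414) L381842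
theorem L381846 : sm ge N45129 = N30940 := ded_44_1 (flp_i L262447) (flp_e L262420) L381842
theorem L381848 : sm gf N45129 = N30937 := ded_48_1 (flp_i L262422) L262412 L381842
theorem L381850 : sm gj N45129 = N31131 := ded_53_1 (flp_i L263966) (flp_j L262416) L381842
theorem L381852 : sm gh N30937 = N45130 := rfl
theorem L381858 : sm gj N45130 = N31132 := ded_52_1 (flp_h L263974) (flp_j L262428) L381852
theorem L381862 : sm gj N30939 = N45131 := rfl
theorem L381864 : sm gc N45131 = N31887 := ded_31_1 (flp_j L270167) (flp_c L262442) L381862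
theorem L381866 : sm gf N45131 = N45131 := ded_46_1 (flp_j L381862) L262446 L381862
theorem L381867 : sm gh N45131 = N34100 := ded_52_2 (flp_j L289337) (flp_h L262444) L381862
theorem L381869 : sm gg N45131 = N31133 := ded_49_1 (flp_j L263982) (flp_g L181613) (flp_j L180566) L262440 L381862
theorem L381871 : sm gi N30939 = N45132 := rfl
theorem L381873 : sm gc N45132 = N31888 := ded_33_1 (flp_i L270176) (flp_c L262442) L381871
theorem L381875 : sm gf N45132 = N45132 := ded_48_1 (flp_i L381871) L262446 L381871
theorem L381876 : sm gg N45132 = N30940 := ded_51_1 (flp_i L262447) L262440 L381871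
theorem L381878 : sm gh N30940 = N45133 := rfl
theorem L381886 : sm gi N45133 = N34102 := ded_54_2 (flp_h L289353) (flp_i L199017) (flp_h L180568) L262447 L381878
theorem L381895 : sm gh N30942 = N45135 := rfl
theorem L381897 : sm gb N45135 = N30953 := ded_25_1 (flp_h L262561) (flp_b L262468) L381895
theorem L381899 : sm ge N45135 = N45135 := ded_43_1 (flp_h L381895) L262471 L381895
theorem L381900 : sm gf N45135 = N31137 := ded_47_1 (flp_h L264012) (flp_f L262472) L381895
theorem L381902 : sm gg N45135 = N30943 := ded_50_1 (flp_h L262474) L262466 L381895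
theorem L381904 : sm gd N30943 = N45136 := rfl
theorem L381906 : sm gb N45136 = N30954 := ded_20_1 (flp_d L262569) (flp_b L262476) L381904
theorem L381908 : sm gf N45136 = N30946 := ded_35_2 (flp_d L262497) (flp_f L262479) L381904
theorem L381910 : sm gj N45136 = N30944 := ded_37_2 (flp_d L262483) (flp_j L262481) L381904
theorem L381912 : sm gh N45136 = N45136 := ded_38_2 (flp_d L381904) (flp_h L262474) L180592 L262474 L381904
theorem L381913 : sm gi N30943 = N45137 := rfl
theorem L381915 : sm gb N45137 = N30955 := ded_26_1 (flp_i L262577) (flp_b L262476) L381913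
theorem L381918 : sm gf N45137 = N30947 := ded_48_1 (flp_i L262508) (flp_f L262479) L381913
theorem L381920 : sm gj N45137 = N30945 := ded_53_1 (flp_i L262490) (flp_j L262481) L381913
theorem L381922 : sm gc N30944 = N45138 := rfl
theorem L381924 : sm gf N45138 = N30948 := ded_29_2 (flp_c L262518) (flp_f L262487) L381922
theorem L381926 : sm gh N45138 = N45138 := ded_32_2 (flp_c L381922) L262489 L381922
theorem L381927 : sm ge N30944 = N45139 := rfl
theorem L381929 : sm gb N45139 = N30957 := ded_21_1 (flp_e L262591) (flp_b L262485) L381927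
theorem L381931 : sm gh N45139 = N45139 := ded_43_2 (flp_e L381927) L262489 L381927
theorem L381932 : sm gd N45139 = N45139 := ded_34_1 (flp_e L381927) (flp_d L262483) L180600 L262483 L381927
theorem L381933 : sm gf N45139 = N31895 := ded_40_2 (flp_e L270237) L185921 (flp_e L180619) (flp_f L262487) L381927
theorem L381935 : sm gi N30944 = N45140 := rfl
theorem L381937 : sm gb N45140 = N30958 := ded_26_1 (flp_i L262598) (flp_b L262485) L381935
theorem L381939 : sm gd N45140 = N30945 := ded_39_1 (flp_i L262490) L262483 L381935
theorem L381941 : sm gf N45140 = N30949 := ded_48_1 (flp_i L262525) (flp_f L262487) L381935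
theorem L381943 : sm gc N30946 = N45141 := rfl
theorem L381945 : sm ge N45141 = N31897 := ded_28_2 (flp_c L270253) (flp_e L262505) L381943
theorem L381947 : sm gg N45141 = N31143 := ded_30_2 (flp_c L264061) (flp_g L262501) L381943
theorem L381949 : sm gj N45141 = N30948 := ded_31_2 (flp_c L262518) (flp_j L262503) L381943
theorem L381952 : sm gi N30946 = N45142 := rfl
theorem L381954 : sm gb N45142 = N30960 := ded_26_1 (flp_i L262615) (flp_b L262499) L381952
theorem L381956 : sm gd N45142 = N30947 := ded_39_1 (flp_i L262508) L262497 L381952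
theorem L381958 : sm ge N45142 = N31898 := ded_44_1 (flp_i L270260) (flp_e L262505) L381952
theorem L381960 : sm gg N45142 = N31144 := ded_51_1 (flp_i L264068) (flp_g L262501) L381952
theorem L381962 : sm gj N45142 = N30949 := ded_53_1 (flp_i L262525) (flp_j L262503) L381952
theorem L381964 : sm gb N30948 = N45143 := rfl
theorem L381966 : sm ge N45143 = N31899 := ded_21_2 (flp_b L270270) (flp_e L262520) L381964
theorem L381968 : sm gg N45143 = N30950 := ded_23_2 (flp_b L262535) (flp_g L262522) L381964
theorem L381970 : sm gh N45143 = N45143 := ded_25_2 (flp_b L381964) L262524 L381964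
theorem L381971 : sm gc N45143 = N30961 := ded_19_2 (flp_b L262626) (flp_c L180704) (flp_b L180615) L262518 L381964
theorem L381973 : sm gi N30948 = N45144 := rfl
theorem L381975 : sm gc N45144 = N30949 := ded_33_1 (flp_i L262525) L262518 L381973
theorem L381977 : sm ge N45144 = N31900 := ded_44_1 (flp_i L270277) (flp_e L262520) L381973
theorem L381979 : sm gg N45144 = N30951 := ded_51_1 (flp_i L262544) (flp_g L262522) L381973
theorem L381981 : sm gh N30949 = N45145 := rfl
theorem L381983 : sm gb N45145 = N30963 := ded_25_1 (flp_h L262642) (flp_b L262527) L381981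
theorem L381985 : sm ge N45145 = N31901 := ded_43_1 (flp_h L270283) (flp_e L262531) L381981
theorem L381987 : sm gg N45145 = N30952 := ded_50_1 (flp_h L262552) (flp_g L262533) L381981
theorem L381989 : sm gi N45145 = N45145 := ded_54_2 (flp_h L381981) (flp_i L262525) L180621 L262525 L381981
theorem L381990 : sm ga N30950 = N45146 := rfl
theorem L381992 : sm gc N45146 = N30964 := ded_11_2 (flp_a L262650) (flp_c L262542) L381990
theorem L381994 : sm ge N45146 = N31902 := ded_13_2 (flp_a L270291) (flp_e L262537) L381990
theorem L381996 : sm gj N45146 = N31148 := ded_16_2 (flp_a L264104) (flp_j L262539) L381990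
theorem L381998 : sm gh N45146 = N45146 := ded_17_2 (flp_a L381990) L262541 L381990
theorem L381999 : sm gi N30950 = N45147 := rfl
theorem L382001 : sm gb N45147 = N30951 := ded_26_1 (flp_i L262544) L262535 L381999
theorem L382003 : sm gc N45147 = N30965 := ded_33_1 (flp_i L262658) (flp_c L262542) L381999
theorem L382005 : sm ge N45147 = N31903 := ded_44_1 (flp_i L270299) (flp_e L262537) L381999
theorem L382007 : sm gj N45147 = N31149 := ded_53_1 (flp_i L264111) (flp_j L262539) L381999
theorem L382009 : sm gh N30951 = N45148 := rfl
theorem L382011 : sm gc N45148 = N30952 := ded_32_1 (flp_h L262552) (flp_c L262546) L382009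
theorem L382013 : sm ge N45148 = N31904 := ded_43_1 (flp_h L270308) (flp_e L262548) L382009
theorem L382015 : sm gj N45148 = N31150 := ded_52_1 (flp_h L264119) (flp_j L262550) L382009
theorem L382017 : sm gi N45148 = N45148 := ded_54_2 (flp_h L382009) (flp_i L262544) L180636 L262544 L382009
theorem L382018 : sm gd N30953 = N45149 := rfl
theorem L382021 : sm gf N45149 = N31151 := ded_35_2 (flp_d L264126) (flp_f L262565) L382018
theorem L382023 : sm gg N45149 = N30954 := ded_36_2 (flp_d L262569) (flp_g L262567) L382018
theorem L382026 : sm gi N30953 = N45150 := rfl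
theorem L382030 : sm gf N45150 = N31152 := ded_48_1 (flp_i L264132) (flp_f L262565) L382026
theorem L382032 : sm gg N45150 = N30955 := ded_51_1 (flp_i L262577) (flp_g L262567) L382026
theorem L382034 : sm gc N30954 = N45151 := rfl
theorem L382037 : sm gf N45151 = N30959 := ded_29_2 (flp_c L262605) (flp_f L262572) L382034
theorem L382039 : sm gj N45151 = N30956 := ded_31_2 (flp_c L262585) (flp_j L262574) L382034
theorem L382042 : sm ge N30954 = N45152 := rfl
theorem L382044 : sm ga N45152 = N45152 := ded_13_1 (flp_e L382042) L262571 L382042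
theorem L382045 : sm gj N45152 = N30957 := ded_42_2 (flp_e L262591) (flp_j L262574) L382042
theorem L382047 : sm gh N45152 = N45152 := ded_43_2 (flp_e L382042) L262576 L382042
theorem L382048 : sm gd N45152 = N45152 := ded_34_1 (flp_e L382042) (flp_d L262569) L180668 L262569 L382042
theorem L382049 : sm gf N45152 = N31908 := ded_40_2 (flp_e L270345) L186004 (flp_e L180692) (flp_f L262572) L382042
theorem L382051 : sm gi N30954 = N45153 := rfl
theorem L382054 : sm gd N45153 = N30955 := ded_39_1 (flp_i L262577) L262569 L382051
theorem L382056 : sm gf N45153 = N30960 := ded_48_1 (flp_i L262615) (flp_f L262572) L382051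
theorem L382058 : sm gj N45153 = N30958 := ded_53_1 (flp_i L262598) (flp_j L262574) L382051
theorem L382060 : sm gb N30956 = N45154 := rfl
theorem L382062 : sm gf N45154 = N30961 := ded_22_2 (flp_b L262626) (flp_f L262588) L382060
theorem L382065 : sm ge N30956 = N45155 := rfl
theorem L382068 : sm gc N45155 = N30957 := ded_28_1 (flp_e L262591) L262585 L382065
theorem L382071 : sm gf N45155 = N31911 := ded_40_2 (flp_e L270368) L186022 (flp_e L180707) (flp_f L262588) L382065
theorem L382073 : sm gi N30956 = N45156 := rfl
theorem L382076 : sm gc N45156 = N30958 := ded_33_1 (flp_i L262598) L262585 L382073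
theorem L382078 : sm gf N45156 = N30962 := ded_48_1 (flp_i L262633) (flp_f L262588) L382073
theorem L382080 : sm gi N30957 = N45157 := rfl
theorem L382082 : sm ga N45157 = N45157 := ded_18_1 (flp_i L382080) L262593 L382080
theorem L382083 : sm gd N45157 = N45157 := ded_39_1 (flp_i L382080) L262595 L382080
theorem L382084 : sm ge N45157 = N30958 := ded_44_1 (flp_i L262598) L262591 L382080
theorem L382086 : sm gf N45157 = N31913 := ded_48_1 (flp_i L270384) (flp_f L262596) L382080
theorem L382088 : sm gh N30958 = N45158 := rfl
theorem L382090 : sm ga N45158 = N45158 := ded_17_1 (flp_h L382088) L262600 L382088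
theorem L382091 : sm gf N45158 = N30963 := ded_47_1 (flp_h L262642) (flp_f L262603) L382088
theorem L382093 : sm gi N45158 = N45158 := ded_54_2 (flp_h L382088) (flp_i L262598) L180678 L262598 L382088
theorem L382094 : sm gb N30959 = N45159 := rfl
theorem L382096 : sm ge N45159 = N31915 := ded_21_2 (flp_b L270399) (flp_e L262608) L382094
theorem L382098 : sm gg N45159 = N31161 := ded_23_2 (flp_b L264201) (flp_g L262610) L382094
theorem L382100 : sm gj N45159 = N30961 := ded_24_2 (flp_b L262626) (flp_j L262612) L382094
theorem L382102 : sm gh N45159 = N45159 := ded_25_2 (flp_b L382094) L262614 L382094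
theorem L382103 : sm gi N30959 = N45160 := rfl
theorem L382105 : sm ga N45160 = N45160 := ded_18_1 (flp_i L382103) L262607 L382103
theorem L382106 : sm gc N45160 = N30960 := ded_33_1 (flp_i L262615) L262605 L382103
theorem L382108 : sm ge N45160 = N31916 := ded_44_1 (flp_i L270407) (flp_e L262608) L382103
theorem L382110 : sm gg N45160 = N31162 := ded_51_1 (flp_i L264208) (flp_g L262610) L382103
theorem L382112 : sm gj N45160 = N30962 := ded_53_1 (flp_i L262633) (flp_j L262612) L382103
theorem L382114 : sm gh N30960 = N45161 := rfl
theorem L382117 : sm ge N45161 = N31917 := ded_43_1 (flp_h L270417) (flp_e L262620) L382114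
theorem L382119 : sm gg N45161 = N31163 := ded_50_1 (flp_h L264217) (flp_g L262622) L382114
theorem L382121 : sm gj N45161 = N30963 := ded_52_1 (flp_h L262642) (flp_j L262624) L382114
theorem L382124 : sm ga N30961 = N45162 := rfl
theorem L382126 : sm ge N45162 = N31918 := ded_13_2 (flp_a L270426) (flp_e L262628) L382124
theorem L382128 : sm gg N45162 = N30964 := ded_15_2 (flp_a L262650) (flp_g L262630) L382124
theorem L382130 : sm gh N45162 = N45162 := ded_17_2 (flp_a L382124) L262632 L382124
theorem L382131 : sm gb N45162 = N45162 := ded_10_2 (flp_a L382124) (flp_b L262626) L180706 L262626 L382124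
theorem L382132 : sm gi N30961 = N45163 := rfl
theorem L382134 : sm gb N45163 = N30962 := ded_26_1 (flp_i L262633) L262626 L382132
theorem L382136 : sm ge N45163 = N31919 := ded_44_1 (flp_i L270433) (flp_e L262628) L382132
theorem L382138 : sm gg N45163 = N30965 := ded_51_1 (flp_i L262658) (flp_g L262630) L382132
theorem L382140 : sm gh N30962 = N45164 := rfl
theorem L382142 : sm ga N45164 = N45164 := ded_17_1 (flp_h L382140) L262635 L382140
theorem L382143 : sm gc N45164 = N30963 := ded_32_1 (flp_h L262642) (flp_c L262636) L382140
theorem L382145 : sm ge N45164 = N31920 := ded_43_1 (flp_h L270440) (flp_e L262638) L382140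
theorem L382147 : sm gg N45164 = N30966 := ded_50_1 (flp_h L262666) (flp_g L262640) L382140
theorem L382149 : sm gi N45164 = N45164 := ded_54_2 (flp_h L382140) (flp_i L262633) L180711 L262633 L382140
theorem L382150 : sm gi N30964 = N45165 := rfl
theorem L382152 : sm ga N45165 = N30965 := ded_18_1 (flp_i L262658) L262650 L382150
theorem L382154 : sm gb N45165 = N45165 := ded_26_1 (flp_i L382150) L262657 L382150
theorem L382155 : sm ge N45165 = N31921 := ded_44_1 (flp_i L270448) (flp_e L262652) L382150
theorem L382157 : sm gj N45165 = N31167 := ded_53_1 (flp_i L264251) (flp_j L262654) L382150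
theorem L382159 : sm gh N30965 = N45166 := rfl
theorem L382161 : sm gb N45166 = N30966 := ded_25_1 (flp_h L262666) (flp_b L262660) L382159
theorem L382163 : sm ge N45166 = N31922 := ded_43_1 (flp_h L270457) (flp_e L262662) L382159
theorem L382165 : sm gj N45166 = N31168 := ded_52_1 (flp_h L264258) (flp_j L262664) L382159
theorem L382167 : sm gi N45166 = N45166 := ded_54_2 (flp_h L382159) (flp_i L262658) L180727 L262658 L382159
theorem L382168 : sm gd N30966 = N45167 := rfl
theorem L382171 : sm gj N45167 = N31169 := ded_37_2 (flp_d L264265) (flp_j L262673) L382168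
theorem L382182 : sm gg N30967 = N45169 := rfl
theorem L382184 : sm gb N45169 = N30977 := ded_23_1 (flp_g L262761) (flp_b L262678) L382182
theorem L382192 : sm gh N30967 = N45170 := rfl
theorem L382194 : sm gb N45170 = N30978 := ded_25_1 (flp_h L262772) (flp_b L262678) L382192
theorem L382196 : sm ge N45170 = N34139 := ded_43_1 (flp_h L289694) (flp_e L262682) L382192
theorem L382198 : sm gf N30968 = N45171 := rfl
theorem L382200 : sm gb N45171 = N30979 := ded_22_1 (flp_f L262779) (flp_b L262686) L382198
theorem L382202 : sm gc N45171 = N45171 := ded_29_1 (flp_f L382198) L262688 L382198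
theorem L382203 : sm gi N45171 = N31051 := ded_48_2 (flp_f L263347) (flp_i L262691) L382198
theorem L382205 : sm ge N45171 = N31173 := ded_40_1 (flp_f L264296) L181843 (flp_f L180761) (flp_e L262689) L382198
theorem L382207 : sm gj N30968 = N45172 := rfl
theorem L382209 : sm gb N45172 = N30980 := ded_24_1 (flp_j L262789) (flp_b L262686) L382207
theorem L382214 : sm gi N45172 = N31052 := ded_53_2 (flp_j L263354) (flp_i L262691) L382207
theorem L382216 : sm gh N30968 = N45173 := rfl
theorem L382218 : sm gb N45173 = N30981 := ded_25_1 (flp_h L262799) (flp_b L262686) L382216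
theorem L382221 : sm ge N45173 = N30971 := ded_43_1 (flp_h L262711) (flp_e L262689) L382216
theorem L382225 : sm gd N30969 = N45174 := rfl
theorem L382227 : sm gb N45174 = N30982 := ded_20_1 (flp_d L262809) (flp_b L262695) L382225
theorem L382229 : sm gi N30969 = N45175 := rfl
theorem L382231 : sm gb N45175 = N30983 := ded_26_1 (flp_i L262813) (flp_b L262695) L382229
theorem L382234 : sm ge N45175 = N30973 := ded_44_1 (flp_i L262728) (flp_e L262698) L382229
theorem L382257 : sm gi N30971 = N45178 := rfl
theorem L382259 : sm gb N45178 = N30986 := ded_26_1 (flp_i L262844) (flp_b L262713) L382257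
theorem L382262 : sm gf N45178 = N31180 := ded_48_1 (flp_i L264353) (flp_f L262716) L382257
theorem L382264 : sm gg N45178 = N30973 := ded_51_1 (flp_i L262728) (flp_g L262718) L382257
theorem L382331 : sm gf N30977 = N45187 := rfl
theorem L382333 : sm ga N45187 = N31000 := ded_14_1 (flp_f L262975) (flp_a L262763) L382331
theorem L382335 : sm gc N45187 = N45187 := ded_29_1 (flp_f L382331) L262765 L382331
theorem L382336 : sm gd N45187 = N30979 := ded_35_1 (flp_f L262779) (flp_d L262766) L382331
theorem L382338 : sm gi N45187 = N31067 := ded_48_2 (flp_f L263473) (flp_i L262770) L382331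
theorem L382340 : sm gj N30977 = N45188 := rfl
theorem L382342 : sm ga N45188 = N31001 := ded_16_1 (flp_j L262982) (flp_a L262763) L382340
theorem L382345 : sm gd N45188 = N30980 := ded_37_1 (flp_j L262789) (flp_d L262766) L382340
theorem L382351 : sm gh N30977 = N45189 := rfl
theorem L382353 : sm ga N45189 = N31002 := ded_17_1 (flp_h L262991) (flp_a L262763) L382351
theorem L382355 : sm gc N45189 = N45189 := ded_32_1 (flp_h L382351) L262765 L382351
theorem L382356 : sm ge N45189 = N34158 := ded_43_1 (flp_h L289852) (flp_e L262768) L382351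
theorem L382358 : sm gg N45189 = N30978 := ded_50_1 (flp_h L262772) L262761 L382351
theorem L382360 : sm gd N30978 = N45190 := rfl
theorem L382362 : sm ga N45190 = N31003 := ded_12_1 (flp_d L262998) (flp_a L262774) L382360
theorem L382364 : sm gh N45190 = N30982 := ded_38_2 (flp_d L262809) (flp_h L180806) L180787 L262772 L382360
theorem L382366 : sm gi N30978 = N45191 := rfl
theorem L382368 : sm ga N45191 = N31004 := ded_18_1 (flp_i L263002) (flp_a L262774) L382366
theorem L382370 : sm gc N45191 = N45191 := ded_33_1 (flp_i L382366) L262776 L382366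
theorem L382371 : sm ge N45191 = N34160 := ded_44_1 (flp_i L289866) (flp_e L262777) L382366
theorem L382373 : sm gh N45191 = N31071 := ded_54_1 (flp_i L263504) (flp_h L181282) (flp_i L180791) L262772 L382366
theorem L382375 : sm gj N30979 = N45192 := rfl
theorem L382377 : sm ga N45192 = N31005 := ded_16_1 (flp_j L263009) (flp_a L262781) L382375
theorem L382379 : sm gc N45192 = N30992 := ded_31_1 (flp_j L262899) (flp_c L262783) L382375
theorem L382381 : sm ge N45192 = N31194 := ded_42_1 (flp_j L264476) (flp_e L262787) L382375
theorem L382383 : sm gf N45192 = N30980 := ded_46_1 (flp_j L262789) L262779 L382375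
theorem L382385 : sm gi N45192 = N31072 := ded_53_2 (flp_j L263511) (flp_i L262785) L382375
theorem L382387 : sm gh N30979 = N45193 := rfl
theorem L382389 : sm ga N45193 = N31006 := ded_17_1 (flp_h L263019) (flp_a L262781) L382387
theorem L382391 : sm gc N45193 = N30993 := ded_32_1 (flp_h L262911) (flp_c L262783) L382387
theorem L382393 : sm ge N45193 = N31195 := ded_43_1 (flp_h L264486) (flp_e L262787) L382387
theorem L382395 : sm gf N45193 = N30981 := ded_47_1 (flp_h L262799) L262779 L382387
theorem L382397 : sm gh N30980 = N45194 := rfl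
theorem L382399 : sm ga N45194 = N31007 := ded_17_1 (flp_h L263027) (flp_a L262791) L382397
theorem L382401 : sm gc N45194 = N30994 := ded_32_1 (flp_h L262920) (flp_c L262793) L382397
theorem L382403 : sm ge N45194 = N30984 := ded_43_1 (flp_h L262823) (flp_e L262795) L382397
theorem L382405 : sm gj N45194 = N30981 := ded_52_1 (flp_h L262799) L262789 L382397
theorem L382407 : sm gd N30981 = N45195 := rfl
theorem L382409 : sm ga N45195 = N31008 := ded_12_1 (flp_d L263035) (flp_a L262801) L382407
theorem L382411 : sm gg N45195 = N30982 := ded_36_2 (flp_d L262809) (flp_g L262807) L382407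
theorem L382413 : sm gi N30981 = N45196 := rfl
theorem L382415 : sm ga N45196 = N31009 := ded_18_1 (flp_i L263039) (flp_a L262801) L382413
theorem L382417 : sm gc N45196 = N30996 := ded_33_1 (flp_i L262938) (flp_c L262803) L382413
theorem L382419 : sm ge N45196 = N30986 := ded_44_1 (flp_i L262844) (flp_e L262805) L382413
theorem L382421 : sm gg N45196 = N30983 := ded_51_1 (flp_i L262813) (flp_g L262807) L382413
theorem L382423 : sm gh N45196 = N31076 := ded_54_1 (flp_i L263547) (flp_h L181305) (flp_i L180804) L262799 L382413
theorem L382425 : sm gc N30982 = N45197 := rfl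
theorem L382427 : sm ga N45197 = N31010 := ded_11_1 (flp_c L263049) (flp_a L262811) L382425
theorem L382429 : sm gd N45197 = N30997 := ded_27_2 (flp_c L262949) (flp_d L180902) (flp_c L180810) L262809 L382425
theorem L382431 : sm ge N30982 = N45198 := rfl
theorem L382433 : sm ga N45198 = N31011 := ded_13_1 (flp_e L263053) (flp_a L262811) L382431
theorem L382437 : sm gi N30982 = N45199 := rfl
theorem L382439 : sm ga N45199 = N31012 := ded_18_1 (flp_i L263057) (flp_a L262811) L382437
theorem L382441 : sm gd N45199 = N30983 := ded_39_1 (flp_i L262813) L262809 L382437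
theorem L382443 : sm gd N30984 = N45200 := rfl
theorem L382449 : sm gj N45200 = N30985 := ded_37_2 (flp_d L262833) (flp_j L262831) L382443
theorem L382454 : sm gi N30984 = N45201 := rfl
theorem L382456 : sm ga N45201 = N31014 := ded_18_1 (flp_i L263070) (flp_a L262825) L382454
theorem L382458 : sm gc N45201 = N30999 := ded_33_1 (flp_i L262963) (flp_c L262827) L382454
theorem L382460 : sm gf N45201 = N31203 := ded_48_1 (flp_i L264554) (flp_f L262829) L382454
theorem L382462 : sm gj N45201 = N30986 := ded_53_1 (flp_i L262844) (flp_j L262831) L382454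
theorem L382464 : sm gh N45201 = N31081 := ded_54_1 (flp_i L263587) (flp_h L181327) (flp_i L180824) L262823 L382454
theorem L382466 : sm ge N30985 = N45202 := rfl
theorem L382468 : sm ga N45202 = N31015 := ded_13_1 (flp_e L263080) (flp_a L262835) L382466
theorem L382475 : sm gi N30985 = N45203 := rfl
theorem L382480 : sm gd N45203 = N30986 := ded_39_1 (flp_i L262844) L262833 L382475
theorem L382540 : sm gg N30992 = N45210 := rfl
theorem L382542 : sm ga N45210 = N31023 := ded_15_1 (flp_g L263138) (flp_a L262901) L382540
theorem L382544 : sm gb N45210 = N45210 := ded_23_1 (flp_g L382540) L262903 L382540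
theorem L382545 : sm gd N45210 = N45210 := ded_36_1 (flp_g L382540) L262904 L382540
theorem L382546 : sm ge N45210 = N31212 := ded_41_1 (flp_g L264638) (flp_e L262905) L382540
theorem L382548 : sm gi N45210 = N31090 := ded_51_2 (flp_g L263677) (flp_i L262909) L382540
theorem L382550 : sm gh N30992 = N45211 := rfl
theorem L382552 : sm ga N45211 = N31024 := ded_17_1 (flp_h L263147) (flp_a L262901) L382550
theorem L382554 : sm gb N45211 = N45211 := ded_25_1 (flp_h L382550) L262903 L382550
theorem L382555 : sm ge N45211 = N31213 := ded_43_1 (flp_h L264648) (flp_e L262905) L382550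
theorem L382557 : sm gf N45211 = N30994 := ded_47_1 (flp_h L262920) (flp_f L262907) L382550
theorem L382559 : sm gj N45211 = N30993 := ded_52_1 (flp_h L262911) L262899 L382550
theorem L382561 : sm gd N30993 = N45212 := rfl
theorem L382563 : sm ga N45212 = N31025 := ded_12_1 (flp_d L263157) (flp_a L262913) L382561
theorem L382565 : sm gb N45212 = N45212 := ded_20_1 (flp_d L382561) L262915 L382561
theorem L382566 : sm gf N45212 = N30995 := ded_35_2 (flp_d L262929) (flp_f L262918) L382561
theorem L382568 : sm gh N45212 = N45212 := ded_38_2 (flp_d L382561) (flp_h L262911) L180878 L262911 L382561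
theorem L382569 : sm gi N30993 = N45213 := rfl
theorem L382571 : sm ga N45213 = N31026 := ded_18_1 (flp_i L263164) (flp_a L262913) L382569
theorem L382573 : sm gb N45213 = N45213 := ded_26_1 (flp_i L382569) L262915 L382569
theorem L382574 : sm ge N45213 = N31215 := ded_44_1 (flp_i L264666) (flp_e L262916) L382569
theorem L382576 : sm gf N45213 = N30996 := ded_48_1 (flp_i L262938) (flp_f L262918) L382569
theorem L382578 : sm gh N45213 = N31093 := ded_54_1 (flp_i L263704) (flp_h L181415) (flp_i L180879) L262911 L382569
theorem L382580 : sm gd N30994 = N45214 := rfl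
theorem L382582 : sm ga N45214 = N31027 := ded_12_1 (flp_d L263174) (flp_a L262922) L382580
theorem L382585 : sm gj N45214 = N30995 := ded_37_2 (flp_d L262929) (flp_j L262927) L382580
theorem L382589 : sm gi N30994 = N45215 := rfl
theorem L382591 : sm ga N45215 = N31028 := ded_18_1 (flp_i L263182) (flp_a L262922) L382589
theorem L382593 : sm gb N45215 = N45215 := ded_26_1 (flp_i L382589) L262924 L382589
theorem L382594 : sm ge N45215 = N30999 := ded_44_1 (flp_i L262963) (flp_e L262925) L382589
theorem L382596 : sm gj N45215 = N30996 := ded_53_1 (flp_i L262938) (flp_j L262927) L382589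
theorem L382598 : sm gh N45215 = N31095 := ded_54_1 (flp_i L263723) (flp_h L181424) (flp_i L180891) L262920 L382589
theorem L382600 : sm gc N30995 = N45216 := rfl
theorem L382602 : sm ga N45216 = N31029 := ded_11_1 (flp_c L263192) (flp_a L262931) L382600
theorem L382604 : sm ge N45216 = N45216 := ded_28_2 (flp_c L382600) L262936 L382600
theorem L382605 : sm gg N45216 = N30997 := ded_30_2 (flp_c L262949) (flp_g L262934) L382600
theorem L382607 : sm gh N45216 = N45216 := ded_32_2 (flp_c L382600) L262937 L382600
theorem L382608 : sm gi N30995 = N45217 := rfl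
theorem L382610 : sm ga N45217 = N31030 := ded_18_1 (flp_i L263198) (flp_a L262931) L382608
theorem L382612 : sm gb N45217 = N45217 := ded_26_1 (flp_i L382608) L262933 L382608
theorem L382613 : sm gd N45217 = N30996 := ded_39_1 (flp_i L262938) L262929 L382608
theorem L382615 : sm ge N45217 = N45217 := ded_44_1 (flp_i L382608) L262936 L382608
theorem L382616 : sm gg N45217 = N30998 := ded_51_1 (flp_i L262955) (flp_g L262934) L382608
theorem L382618 : sm gb N30997 = N45218 := rfl
theorem L382620 : sm ge N45218 = N45218 := ded_21_2 (flp_b L382618) L262953 L382618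
theorem L382621 : sm gh N45218 = N45218 := ded_25_2 (flp_b L382618) L262954 L382618
theorem L382622 : sm gc N45218 = N45218 := ded_19_2 (flp_b L382618) (flp_c L262949) L180906 L262949 L382618
theorem L382623 : sm gi N30997 = N45219 := rfl
theorem L382625 : sm ga N45219 = N31032 := ded_18_1 (flp_i L263213) (flp_a L262951) L382623
theorem L382627 : sm gc N45219 = N30998 := ded_33_1 (flp_i L262955) L262949 L382623
theorem L382629 : sm ge N45219 = N45219 := ded_44_1 (flp_i L382623) L262953 L382623
theorem L382630 : sm gh N30998 = N45220 := rfl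
theorem L382632 : sm ga N45220 = N31033 := ded_17_1 (flp_h L263218) (flp_a L262957) L382630
theorem L382634 : sm gb N45220 = N45220 := ded_25_1 (flp_h L382630) L262959 L382630
theorem L382635 : sm ge N45220 = N45220 := ded_43_1 (flp_h L382630) L262962 L382630
theorem L382636 : sm gd N45220 = N31100 := ded_38_1 (flp_h L263766) L181464 (flp_h L180916) (flp_d L262960) L382630
theorem L382638 : sm gi N45220 = N45220 := ded_54_2 (flp_h L382630) (flp_i L262955) L180908 L262955 L382630
theorem L382639 : sm ge N31000 = N45221 := rfl
theorem L382642 : sm gi N45221 = N31101 := ded_44_2 (flp_e L263774) (flp_i L262980) L382639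
theorem L382644 : sm gd N45221 = N31223 := ded_34_1 (flp_e L264743) L182131 (flp_e L180960) (flp_d L262978) L382639
theorem L382646 : sm gf N45221 = N34190 := ded_40_2 (flp_e L290146) (flp_f L199572) (flp_e L180945) L262975 L382639
theorem L382648 : sm gj N31000 = N45222 := rfl
theorem L382651 : sm gd N45222 = N31005 := ded_37_1 (flp_j L263009) (flp_d L262978) L382648
theorem L382653 : sm gf N45222 = N31001 := ded_46_1 (flp_j L262982) L262975 L382648
theorem L382655 : sm gi N45222 = N31102 := ded_53_2 (flp_j L263781) (flp_i L262980) L382648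
theorem L382657 : sm gh N31000 = N45223 := rfl
theorem L382659 : sm gc N45223 = N45223 := ded_32_1 (flp_h L382657) L262977 L382657
theorem L382660 : sm gf N45223 = N31002 := ded_47_1 (flp_h L262991) L262975 L382657
theorem L382662 : sm gh N31001 = N45224 := rfl
theorem L382665 : sm ge N45224 = N34193 := ded_43_1 (flp_h L290169) (flp_e L262987) L382662
theorem L382667 : sm gj N45224 = N31002 := ded_52_1 (flp_h L262991) L262982 L382662
theorem L382669 : sm gd N31002 = N45225 := rfl
theorem L382671 : sm gg N45225 = N31003 := ded_36_2 (flp_d L262998) (flp_g L262996) L382669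
theorem L382673 : sm gh N45225 = N31008 := ded_38_2 (flp_d L263035) (flp_h L180970) (flp_d L180943) L262991 L382669
theorem L382675 : sm gi N31002 = N45226 := rfl
theorem L382677 : sm gc N45226 = N45226 := ded_33_1 (flp_i L382675) L262993 L382675
theorem L382678 : sm ge N45226 = N34195 := ded_44_1 (flp_i L290180) (flp_e L262994) L382675
theorem L382680 : sm gg N45226 = N31004 := ded_51_1 (flp_i L263002) (flp_g L262996) L382675
theorem L382682 : sm gh N45226 = N31106 := ded_54_1 (flp_i L263806) (flp_h L181491) (flp_i L180947) L262991 L382675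
theorem L382684 : sm gc N31003 = N45227 := rfl
theorem L382686 : sm gh N45227 = N31010 := ded_32_2 (flp_c L263049) (flp_h L263000) L382684
theorem L382688 : sm gd N45227 = N45227 := ded_27_2 (flp_c L382684) (flp_d L262998) L180951 L262998 L382684
theorem L382689 : sm ge N31003 = N45228 := rfl
theorem L382691 : sm gh N45228 = N31011 := ded_43_2 (flp_e L263053) (flp_h L263000) L382689
theorem L382693 : sm gd N45228 = N34197 := ded_34_1 (flp_e L290193) (flp_d L199592) (flp_e L180952) L262998 L382689
theorem L382695 : sm gi N31003 = N45229 := rfl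
theorem L382697 : sm gd N45229 = N31004 := ded_39_1 (flp_i L263002) L262998 L382695
theorem L382699 : sm gg N31005 = N45230 := rfl
theorem L382701 : sm gc N45230 = N31023 := ded_30_1 (flp_g L263138) (flp_c L263011) L382699
theorem L382703 : sm ge N45230 = N31232 := ded_41_1 (flp_g L264811) (flp_e L263013) L382699
theorem L382705 : sm gi N45230 = N31110 := ded_51_2 (flp_g L263828) (flp_i L263017) L382699
theorem L382707 : sm gh N31005 = N45231 := rfl
theorem L382709 : sm gc N45231 = N31024 := ded_32_1 (flp_h L263147) (flp_c L263011) L382707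
theorem L382711 : sm ge N45231 = N31233 := ded_43_1 (flp_h L264818) (flp_e L263013) L382707
theorem L382713 : sm gf N45231 = N31007 := ded_47_1 (flp_h L263027) (flp_f L263015) L382707
theorem L382715 : sm gj N45231 = N31006 := ded_52_1 (flp_h L263019) L263009 L382707
theorem L382717 : sm gd N31006 = N45232 := rfl
theorem L382719 : sm gf N45232 = N31008 := ded_35_2 (flp_d L263035) (flp_f L263025) L382717
theorem L382721 : sm gi N31006 = N45233 := rfl
theorem L382723 : sm gc N45233 = N31026 := ded_33_1 (flp_i L263164) (flp_c L263021) L382721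
theorem L382725 : sm ge N45233 = N31235 := ded_44_1 (flp_i L264830) (flp_e L263023) L382721
theorem L382727 : sm gf N45233 = N31009 := ded_48_1 (flp_i L263039) (flp_f L263025) L382721
theorem L382729 : sm gh N45233 = N31113 := ded_54_1 (flp_i L263848) (flp_h L181515) (flp_i L180958) L263019 L382721
theorem L382731 : sm gd N31007 = N45234 := rfl
theorem L382733 : sm gj N45234 = N31008 := ded_37_2 (flp_d L263035) (flp_j L263033) L382731
theorem L382735 : sm gi N31007 = N45235 := rfl
theorem L382737 : sm gc N45235 = N31028 := ded_33_1 (flp_i L263182) (flp_c L263029) L382735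
theorem L382739 : sm ge N45235 = N31014 := ded_44_1 (flp_i L263070) (flp_e L263031) L382735
theorem L382741 : sm gj N45235 = N31009 := ded_53_1 (flp_i L263039) (flp_j L263033) L382735
theorem L382743 : sm gh N45235 = N31115 := ded_54_1 (flp_i L263860) (flp_h L181523) (flp_i L180968) L263027 L382735
theorem L382745 : sm gc N31008 = N45236 := rfl
theorem L382747 : sm gg N45236 = N31010 := ded_30_2 (flp_c L263049) (flp_g L263037) L382745
theorem L382749 : sm gd N45236 = N31029 := ded_27_2 (flp_c L263192) (flp_d L181075) (flp_c L180972) L263035 L382745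
theorem L382751 : sm ge N31008 = N45237 := rfl
theorem L382753 : sm gg N45237 = N31011 := ded_41_2 (flp_e L263053) (flp_g L263037) L382751
theorem L382755 : sm gd N45237 = N31015 := ded_34_1 (flp_e L263080) (flp_d L180996) (flp_e L180974) L263035 L382751
theorem L382757 : sm gi N31008 = N45238 := rfl
theorem L382759 : sm gd N45238 = N31009 := ded_39_1 (flp_i L263039) L263035 L382757
theorem L382761 : sm gg N45238 = N31012 := ded_51_1 (flp_i L263057) (flp_g L263037) L382757
theorem L382763 : sm gb N31010 = N45239 := rfl
theorem L382765 : sm gd N45239 = N31031 := ded_20_2 (flp_b L263207) (flp_d L263051) L382763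
theorem L382767 : sm ge N31010 = N45240 := rfl
theorem L382769 : sm gc N45240 = N31011 := ded_28_1 (flp_e L263053) L263049 L382767
theorem L382771 : sm gd N45240 = N45240 := ded_34_1 (flp_e L382767) L263051 L181095 (flp_d L263051) L382767
theorem L382772 : sm gi N31010 = N45241 := rfl
theorem L382774 : sm gc N45241 = N31012 := ded_33_1 (flp_i L263057) L263049 L382772
theorem L382776 : sm gd N45241 = N31032 := ded_39_1 (flp_i L263213) (flp_d L263051) L382772
theorem L382778 : sm gf N31011 = N45242 := rfl
theorem L382780 : sm gd N45242 = N31017 := ded_35_1 (flp_f L263096) (flp_d L263055) L382778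
theorem L382782 : sm gi N31011 = N45243 := rfl
theorem L382784 : sm gd N45243 = N31018 := ded_39_1 (flp_i L263103) (flp_d L263055) L382782
theorem L382786 : sm ge N45243 = N31012 := ded_44_1 (flp_i L263057) L263053 L382782
theorem L382788 : sm gh N31012 = N45244 := rfl
theorem L382790 : sm gd N45244 = N31124 := ded_38_1 (flp_h L263912) L181553 (flp_h L180986) (flp_d L263059) L382788
theorem L382792 : sm ge N31013 = N45245 := rfl
theorem L382795 : sm gj N45245 = N31015 := ded_42_2 (flp_e L263080) (flp_j L263065) L382792
theorem L382799 : sm gi N31013 = N45246 := rfl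
theorem L382801 : sm gc N45246 = N45246 := ded_33_1 (flp_i L382799) L263067 L382799
theorem L382802 : sm gd N45246 = N31014 := ded_39_1 (flp_i L263070) L263061 L382799
theorem L382804 : sm gf N45246 = N31248 := ded_48_1 (flp_i L264915) (flp_f L263063) L382799
theorem L382806 : sm gj N45246 = N31016 := ded_53_1 (flp_i L263087) (flp_j L263065) L382799
theorem L382808 : sm gf N31015 = N45247 := rfl
theorem L382810 : sm gc N45247 = N45247 := ded_29_1 (flp_f L382808) L263082 L382808
theorem L382813 : sm ge N45247 = N31249 := ded_40_1 (flp_f L264923) (flp_e L182237) (flp_f L180998) L263080 L382808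
theorem L382815 : sm gi N31015 = N45248 := rfl
theorem L382817 : sm gc N45248 = N45248 := ded_33_1 (flp_i L382815) L263082 L382815
theorem L382818 : sm ge N45248 = N31016 := ded_44_1 (flp_i L263087) L263080 L382815
theorem L382820 : sm gg N45248 = N31018 := ded_51_1 (flp_i L263103) (flp_g L263083) L382815
theorem L382822 : sm gh N31016 = N45249 := rfl
theorem L382827 : sm gg N45249 = N31019 := ded_50_1 (flp_h L263108) (flp_g L263094) L382822
theorem L382847 : sm gh N31018 = N45252 := rfl
theorem L382850 : sm ge N45252 = N31019 := ded_43_1 (flp_h L263108) (flp_e L263106) L382847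
theorem L382883 : sm gh N31023 = N45257 := rfl
theorem L382885 : sm gb N45257 = N31034 := ded_25_1 (flp_h L263226) (flp_b L263140) L382883
theorem L382887 : sm ge N45257 = N31259 := ded_43_1 (flp_h L264993) (flp_e L263143) L382883
theorem L382889 : sm gg N45257 = N31024 := ded_50_1 (flp_h L263147) L263138 L382883
theorem L382891 : sm gd N31024 = N45258 := rfl
theorem L382893 : sm gb N45258 = N31035 := ded_20_1 (flp_d L263233) (flp_b L263149) L382891
theorem L382897 : sm gj N45258 = N31025 := ded_37_2 (flp_d L263157) (flp_j L263155) L382891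
theorem L382900 : sm gi N31024 = N45259 := rfl
theorem L382902 : sm gb N45259 = N31036 := ded_26_1 (flp_i L263241) (flp_b L263149) L382900
theorem L382904 : sm ge N45259 = N31261 := ded_44_1 (flp_i L265010) (flp_e L263151) L382900
theorem L382906 : sm gf N45259 = N31028 := ded_48_1 (flp_i L263182) (flp_f L263153) L382900
theorem L382908 : sm gj N45259 = N31026 := ded_53_1 (flp_i L263164) (flp_j L263155) L382900
theorem L382910 : sm gh N45259 = N31139 := ded_54_1 (flp_i L264029) (flp_h L181644) (flp_i L181057) L263147 L382900
theorem L382912 : sm gc N31025 = N45260 := rfl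
theorem L382914 : sm gf N45260 = N31029 := ded_29_2 (flp_c L263192) (flp_f L263161) L382912
theorem L382916 : sm gh N45260 = N45260 := ded_32_2 (flp_c L382912) L263163 L382912
theorem L382917 : sm ge N31025 = N45261 := rfl
theorem L382919 : sm gb N45261 = N31038 := ded_21_1 (flp_e L263258) (flp_b L263159) L382917
theorem L382921 : sm gh N45261 = N45261 := ded_43_2 (flp_e L382917) L263163 L382917
theorem L382922 : sm gd N45261 = N31263 := ded_34_1 (flp_e L265026) (flp_d L182311) (flp_e L181063) L263157 L382917
theorem L382924 : sm gf N45261 = N45261 := ded_40_2 (flp_e L382917) L263161 L181081 (flp_f L263161) L382917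
theorem L382925 : sm gi N31025 = N45262 := rfl
theorem L382927 : sm gb N45262 = N31039 := ded_26_1 (flp_i L263265) (flp_b L263159) L382925
theorem L382929 : sm gd N45262 = N31026 := ded_39_1 (flp_i L263164) L263157 L382925
theorem L382931 : sm gf N45262 = N31030 := ded_48_1 (flp_i L263198) (flp_f L263161) L382925
theorem L382933 : sm gc N31027 = N45263 := rfl
theorem L382936 : sm gj N45263 = N31029 := ded_31_2 (flp_c L263192) (flp_j L263178) L382933
theorem L382939 : sm gi N31027 = N45264 := rfl
theorem L382941 : sm gb N45264 = N31041 := ded_26_1 (flp_i L263279) (flp_b L263176) L382939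
theorem L382943 : sm gd N45264 = N31028 := ded_39_1 (flp_i L263182) L263174 L382939
theorem L382946 : sm gj N45264 = N31030 := ded_53_1 (flp_i L263198) (flp_j L263178) L382939
theorem L382948 : sm gb N31029 = N45265 := rfl
theorem L382951 : sm gg N45265 = N31031 := ded_23_2 (flp_b L263207) (flp_g L263195) L382948
theorem L382954 : sm gc N45265 = N31042 := ded_19_2 (flp_b L263287) (flp_c L181163) (flp_b L181077) L263192 L382948
theorem L382956 : sm gi N31029 = N45266 := rfl
theorem L382958 : sm gc N45266 = N31030 := ded_33_1 (flp_i L263198) L263192 L382956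
theorem L382960 : sm ge N45266 = N45266 := ded_44_1 (flp_i L382956) L263194 L382956
theorem L382961 : sm gg N45266 = N31032 := ded_51_1 (flp_i L263213) (flp_g L263195) L382956
theorem L382963 : sm gh N31030 = N45267 := rfl
theorem L382965 : sm gb N45267 = N31044 := ded_25_1 (flp_h L263301) (flp_b L263200) L382963
theorem L382967 : sm ge N45267 = N45267 := ded_43_1 (flp_h L382963) L263204 L382963
theorem L382968 : sm gg N45267 = N31033 := ded_50_1 (flp_h L263218) (flp_g L263205) L382963
theorem L382970 : sm gd N45267 = N31147 := ded_38_1 (flp_h L264095) L181697 (flp_h L181091) (flp_d L263202) L382963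
theorem L382972 : sm gi N45267 = N45267 := ded_54_2 (flp_h L382963) (flp_i L263198) L181082 L263198 L382963
theorem L382973 : sm ga N31031 = N45268 := rfl
theorem L382975 : sm gc N45268 = N31045 := ded_11_2 (flp_a L263310) (flp_c L263211) L382973
theorem L382977 : sm ge N45268 = N45268 := ded_13_2 (flp_a L382973) L263209 L382973
theorem L382978 : sm gh N45268 = N45268 := ded_17_2 (flp_a L382973) L263210 L382973
theorem L382979 : sm gi N31031 = N45269 := rfl
theorem L382981 : sm gb N45269 = N31032 := ded_26_1 (flp_i L263213) L263207 L382979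
theorem L382983 : sm gc N45269 = N31046 := ded_33_1 (flp_i L263315) (flp_c L263211) L382979
theorem L382985 : sm ge N45269 = N45269 := ded_44_1 (flp_i L382979) L263209 L382979
theorem L382986 : sm gh N31032 = N45270 := rfl
theorem L382988 : sm gc N45270 = N31033 := ded_32_1 (flp_h L263218) (flp_c L263215) L382986
theorem L382990 : sm ge N45270 = N45270 := ded_43_1 (flp_h L382986) L263217 L382986
theorem L382991 : sm gi N45270 = N45270 := ded_54_2 (flp_h L382986) (flp_i L263213) L181096 L263213 L382986
theorem L382998 : sm gi N31034 = N45272 := rfl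
theorem L383001 : sm ge N45272 = N31274 := ded_44_1 (flp_i L265118) (flp_e L263229) L382998
theorem L383003 : sm gg N45272 = N31036 := ded_51_1 (flp_i L263241) (flp_g L263231) L382998
theorem L383005 : sm gh N45272 = N31152 := ded_54_1 (flp_i L264132) (flp_h L181723) (flp_i L181121) L263226 L382998
theorem L383007 : sm gc N31035 = N45273 := rfl
theorem L383012 : sm gj N45273 = N31037 := ded_31_2 (flp_c L263252) (flp_j L263238) L383007
theorem L383015 : sm ge N31035 = N45274 := rfl
theorem L383018 : sm gj N45274 = N31038 := ded_42_2 (flp_e L263258) (flp_j L263238) L383015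
theorem L383021 : sm gd N45274 = N31276 := ded_34_1 (flp_e L265135) (flp_d L182394) (flp_e L181126) L263233 L383015
theorem L383024 : sm gi N31035 = N45275 := rfl
theorem L383027 : sm gd N45275 = N31036 := ded_39_1 (flp_i L263241) L263233 L383024
theorem L383029 : sm gf N45275 = N31041 := ded_48_1 (flp_i L263279) (flp_f L263236) L383024
theorem L383031 : sm gj N45275 = N31039 := ded_53_1 (flp_i L263265) (flp_j L263238) L383024
theorem L383033 : sm gb N31037 = N45276 := rfl
theorem L383035 : sm gf N45276 = N31042 := ded_22_2 (flp_b L263287) (flp_f L263255) L383033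
theorem L383038 : sm ge N31037 = N45277 := rfl
theorem L383041 : sm gc N45277 = N31038 := ded_28_1 (flp_e L263258) L263252 L383038
theorem L383045 : sm gi N31037 = N45278 := rfl
theorem L383048 : sm gc N45278 = N31039 := ded_33_1 (flp_i L263265) L263252 L383045
theorem L383052 : sm gi N31038 = N45279 := rfl
theorem L383054 : sm ga N45279 = N45279 := ded_18_1 (flp_i L383052) L263260 L383052
theorem L383055 : sm gd N45279 = N31281 := ded_39_1 (flp_i L265173) (flp_d L263262) L383052
theorem L383057 : sm ge N45279 = N31039 := ded_44_1 (flp_i L263265) L263258 L383052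
theorem L383059 : sm gf N45279 = N45279 := ded_48_1 (flp_i L383052) L263264 L383052
theorem L383060 : sm gh N31039 = N45280 := rfl
theorem L383062 : sm ga N45280 = N45280 := ded_17_1 (flp_h L383060) L263267 L383060
theorem L383063 : sm gf N45280 = N31044 := ded_47_1 (flp_h L263301) (flp_f L263270) L383060
theorem L383065 : sm gd N45280 = N31160 := ded_38_1 (flp_h L264195) L181764 (flp_h L181145) (flp_d L263268) L383060
theorem L383067 : sm gi N45280 = N45280 := ded_54_2 (flp_h L383060) (flp_i L263265) L181137 L263265 L383060
theorem L383082 : sm gh N31041 = N45283 := rfl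
theorem L383086 : sm gj N45283 = N31044 := ded_52_1 (flp_h L263301) (flp_j L263285) L383082
theorem L383088 : sm gd N45283 = N31163 := ded_38_1 (flp_h L264217) L181779 (flp_h L181161) (flp_d L263282) L383082
theorem L383091 : sm ga N31042 = N45284 := rfl
theorem L383094 : sm gg N45284 = N31045 := ded_15_2 (flp_a L263310) (flp_g L263290) L383091
theorem L383098 : sm gi N31042 = N45285 := rfl
theorem L383103 : sm gg N45285 = N31046 := ded_51_1 (flp_i L263315) (flp_g L263290) L383098
theorem L383105 : sm gh N31043 = N45286 := rfl
theorem L383108 : sm gc N45286 = N31044 := ded_32_1 (flp_h L263301) (flp_c L263296) L383105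
theorem L383111 : sm gg N45286 = N31047 := ded_50_1 (flp_h L263320) (flp_g L263299) L383105
theorem L383114 : sm gi N31045 = N45287 := rfl
theorem L383116 : sm ga N45287 = N31046 := ded_18_1 (flp_i L263315) L263310 L383114
theorem L383118 : sm gb N45287 = N45287 := ded_26_1 (flp_i L383114) L263314 L383114
theorem L383119 : sm ge N45287 = N45287 := ded_44_1 (flp_i L383114) L263312 L383114
theorem L383120 : sm gh N31046 = N45288 := rfl
theorem L383122 : sm gb N45288 = N31047 := ded_25_1 (flp_h L263320) (flp_b L263317) L383120
theorem L383124 : sm ge N45288 = N45288 := ded_43_1 (flp_h L383120) L263319 L383120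
theorem L383125 : sm gi N45288 = N45288 := ded_54_2 (flp_h L383120) (flp_i L263315) L181181 L263315 L383120
theorem L383126 : sm gd N31047 = N45289 := rfl
theorem L383128 : sm ga N45289 = N45289 := ded_12_1 (flp_d L383126) L263322 L383126
theorem L383129 : sm gi N45289 = N45289 := ded_39_2 (flp_d L383126) L263326 L383126
theorem L383130 : sm gc N45289 = N31169 := ded_27_1 (flp_d L264265) L181824 (flp_d L181192) (flp_c L263323) L383126
theorem L383132 : sm gg N31048 = N45290 := rfl
theorem L383135 : sm gc N45290 = N31049 := ded_30_1 (flp_g L263333) L263327 L383132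
theorem L383138 : sm ge N45290 = N34259 := ded_41_1 (flp_g L290661) (flp_e L263329) L383132
theorem L383140 : sm gh N31048 = N45291 := rfl
theorem L383143 : sm gc N45291 = N31050 := ded_32_1 (flp_h L263341) L263327 L383140
theorem L383145 : sm ge N45291 = N34260 := ded_43_1 (flp_h L290668) (flp_e L263329) L383140
theorem L383147 : sm gf N31049 = N45292 := rfl
theorem L383149 : sm gb N45292 = N31067 := ded_22_1 (flp_f L263473) (flp_b L263335) L383147
theorem L383151 : sm gd N45292 = N31051 := ded_35_1 (flp_f L263347) (flp_d L263337) L383147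
theorem L383161 : sm gh N31049 = N45294 := rfl
theorem L383163 : sm gb N45294 = N31069 := ded_25_1 (flp_h L263489) (flp_b L263335) L383161
theorem L383167 : sm gg N45294 = N31050 := ded_50_1 (flp_h L263341) L263333 L383161
theorem L383169 : sm gd N31050 = N45295 := rfl
theorem L383171 : sm gb N45295 = N31070 := ded_20_1 (flp_d L263498) (flp_b L263343) L383169
theorem L383173 : sm gh N45295 = N31054 := ded_38_2 (flp_d L263370) (flp_h L181208) L181195 L263341 L383169
theorem L383175 : sm gi N31050 = N45296 := rfl
theorem L383177 : sm gb N45296 = N31071 := ded_26_1 (flp_i L263504) (flp_b L263343) L383175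
theorem L383179 : sm ge N45296 = N34265 := ded_44_1 (flp_i L290700) (flp_e L263345) L383175
theorem L383181 : sm gj N31051 = N45297 := rfl
theorem L383183 : sm gb N45297 = N31072 := ded_24_1 (flp_j L263511) (flp_b L263349) L383181
theorem L383186 : sm ge N45297 = N31299 := ded_42_1 (flp_j L265319) (flp_e L263352) L383181
theorem L383188 : sm gf N45297 = N31052 := ded_46_1 (flp_j L263354) L263347 L383181
theorem L383190 : sm gh N31051 = N45298 := rfl
theorem L383192 : sm gb N45298 = N31073 := ded_25_1 (flp_h L263521) (flp_b L263349) L383190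
theorem L383197 : sm gf N45298 = N31053 := ded_47_1 (flp_h L263361) L263347 L383190
theorem L383199 : sm gh N31052 = N45299 := rfl
theorem L383201 : sm gb N45299 = N31074 := ded_25_1 (flp_h L263531) (flp_b L263356) L383199
theorem L383206 : sm gj N45299 = N31053 := ded_52_1 (flp_h L263361) L263354 L383199
theorem L383208 : sm gd N31053 = N45300 := rfl
theorem L383210 : sm gb N45300 = N31075 := ded_20_1 (flp_d L263541) (flp_b L263363) L383208
theorem L383212 : sm gg N45300 = N31054 := ded_36_2 (flp_d L263370) (flp_g L263368) L383208
theorem L383214 : sm gi N31053 = N45301 := rfl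
theorem L383216 : sm gb N45301 = N31076 := ded_26_1 (flp_i L263547) (flp_b L263363) L383214
theorem L383232 : sm gi N31054 = N45304 := rfl
theorem L383234 : sm gb N45304 = N31079 := ded_26_1 (flp_i L263569) (flp_b L263372) L383232
theorem L383248 : sm gi N31056 = N45306 := rfl
theorem L383250 : sm gb N45306 = N31081 := ded_26_1 (flp_i L263587) (flp_b L263383) L383248
theorem L383253 : sm gf N45306 = N31308 := ded_48_1 (flp_i L265385) (flp_f L263386) L383248
theorem L383257 : sm gc N31057 = N45307 := rfl
theorem L383259 : sm gf N45307 = N31309 := ded_29_2 (flp_c L265393) (flp_f L263394) L383257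
theorem L383263 : sm gh N45307 = N34276 := ded_32_2 (flp_c L290788) (flp_h L263398) L383257
theorem L383303 : sm gf N31060 = N45312 := rfl
theorem L383309 : sm ge N45312 = N31064 := ded_40_1 (flp_f L263451) (flp_e L181257) (flp_f L181237) L263418 L383303
theorem L383332 : sm gf N31062 = N45316 := rfl
theorem L383336 : sm gc N45316 = N31064 := ded_29_1 (flp_f L263451) (flp_c L263436) L383332
theorem L383384 : sm ge N31067 = N45322 := rfl
theorem L383386 : sm ga N45322 = N31101 := ded_13_1 (flp_e L263774) (flp_a L263475) L383384
theorem L383388 : sm gc N45322 = N45322 := ded_28_1 (flp_e L383384) L263477 L383384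
theorem L383389 : sm gd N45322 = N31324 := ded_34_1 (flp_e L265517) L182648 (flp_e L181295) (flp_d L263478) L383384
theorem L383391 : sm gf N45322 = N34291 := ded_40_2 (flp_e L290903) (flp_f L200083) (flp_e L181280) L263473 L383384
theorem L383393 : sm gj N31067 = N45323 := rfl
theorem L383395 : sm ga N45323 = N31102 := ded_16_1 (flp_j L263781) (flp_a L263475) L383393
theorem L383398 : sm gd N45323 = N31072 := ded_37_1 (flp_j L263511) (flp_d L263478) L383393
theorem L383400 : sm gf N45323 = N31068 := ded_46_1 (flp_j L263480) L263473 L383393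
theorem L383402 : sm gh N31067 = N45324 := rfl
theorem L383404 : sm ga N45324 = N31103 := ded_17_1 (flp_h L263788) (flp_a L263475) L383402
theorem L383406 : sm gc N45324 = N45324 := ded_32_1 (flp_h L383402) L263477 L383402
theorem L383407 : sm gf N45324 = N31069 := ded_47_1 (flp_h L263489) L263473 L383402
theorem L383409 : sm gh N31068 = N45325 := rfl
theorem L383411 : sm ga N45325 = N31104 := ded_17_1 (flp_h L263793) (flp_a L263482) L383409
theorem L383416 : sm gj N45325 = N31069 := ded_52_1 (flp_h L263489) L263480 L383409
theorem L383418 : sm gd N31069 = N45326 := rfl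
theorem L383420 : sm ga N45326 = N31105 := ded_12_1 (flp_d L263800) (flp_a L263491) L383418
theorem L383422 : sm gg N45326 = N31070 := ded_36_2 (flp_d L263498) (flp_g L263496) L383418
theorem L383424 : sm gh N45326 = N31075 := ded_38_2 (flp_d L263541) (flp_h L181305) (flp_d L181278) L263489 L383418
theorem L383426 : sm gi N31069 = N45327 := rfl
theorem L383428 : sm ga N45327 = N31106 := ded_18_1 (flp_i L263806) (flp_a L263491) L383426
theorem L383430 : sm gc N45327 = N45327 := ded_33_1 (flp_i L383426) L263493 L383426
theorem L383431 : sm ge N45327 = N34296 := ded_44_1 (flp_i L290943) (flp_e L263494) L383426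
theorem L383433 : sm gg N45327 = N31071 := ded_51_1 (flp_i L263504) (flp_g L263496) L383426
theorem L383435 : sm gc N31070 = N45328 := rfl
theorem L383437 : sm ga N45328 = N31107 := ded_11_1 (flp_c L263813) (flp_a L263500) L383435
theorem L383439 : sm gh N45328 = N31077 := ded_32_2 (flp_c L263557) (flp_h L263502) L383435
theorem L383441 : sm gd N45328 = N45328 := ded_27_2 (flp_c L383435) (flp_d L263498) L181286 L263498 L383435
theorem L383442 : sm ge N31070 = N45329 := rfl
theorem L383444 : sm ga N45329 = N31108 := ded_13_1 (flp_e L263818) (flp_a L263500) L383442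
theorem L383448 : sm gd N45329 = N34298 := ded_34_1 (flp_e L290958) (flp_d L200105) (flp_e L181287) L263498 L383442
theorem L383450 : sm gi N31070 = N45330 := rfl
theorem L383452 : sm ga N45330 = N31109 := ded_18_1 (flp_i L263824) (flp_a L263500) L383450
theorem L383454 : sm gd N45330 = N31071 := ded_39_1 (flp_i L263504) L263498 L383450
theorem L383456 : sm gg N31072 = N45331 := rfl
theorem L383458 : sm ga N45331 = N31110 := ded_15_1 (flp_g L263828) (flp_a L263513) L383456
theorem L383460 : sm gc N45331 = N31090 := ded_30_1 (flp_g L263677) (flp_c L263515) L383456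
theorem L383462 : sm ge N45331 = N31333 := ded_41_1 (flp_g L265597) (flp_e L263517) L383456
theorem L383464 : sm gh N31072 = N45332 := rfl
theorem L383466 : sm ga N45332 = N31111 := ded_17_1 (flp_h L263834) (flp_a L263513) L383464
theorem L383468 : sm gc N45332 = N31091 := ded_32_1 (flp_h L263685) (flp_c L263515) L383464
theorem L383470 : sm ge N45332 = N31334 := ded_43_1 (flp_h L265604) (flp_e L263517) L383464
theorem L383472 : sm gf N45332 = N31074 := ded_47_1 (flp_h L263531) (flp_f L263519) L383464
theorem L383474 : sm gj N45332 = N31073 := ded_52_1 (flp_h L263521) L263511 L383464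
theorem L383476 : sm gd N31073 = N45333 := rfl
theorem L383478 : sm ga N45333 = N31112 := ded_12_1 (flp_d L263844) (flp_a L263523) L383476
theorem L383480 : sm gf N45333 = N31075 := ded_35_2 (flp_d L263541) (flp_f L263529) L383476
theorem L383482 : sm gi N31073 = N45334 := rfl
theorem L383484 : sm ga N45334 = N31113 := ded_18_1 (flp_i L263848) (flp_a L263523) L383482
theorem L383486 : sm gc N45334 = N31093 := ded_33_1 (flp_i L263704) (flp_c L263525) L383482
theorem L383488 : sm ge N45334 = N31336 := ded_44_1 (flp_i L265620) (flp_e L263527) L383482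
theorem L383490 : sm gf N45334 = N31076 := ded_48_1 (flp_i L263547) (flp_f L263529) L383482
theorem L383492 : sm gd N31074 = N45335 := rfl
theorem L383494 : sm ga N45335 = N31114 := ded_12_1 (flp_d L263856) (flp_a L263533) L383492
theorem L383496 : sm gj N45335 = N31075 := ded_37_2 (flp_d L263541) (flp_j L263539) L383492
theorem L383498 : sm gi N31074 = N45336 := rfl
theorem L383500 : sm ga N45336 = N31115 := ded_18_1 (flp_i L263860) (flp_a L263533) L383498
theorem L383502 : sm gc N45336 = N31095 := ded_33_1 (flp_i L263723) (flp_c L263535) L383498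
theorem L383504 : sm ge N45336 = N31081 := ded_44_1 (flp_i L263587) (flp_e L263537) L383498
theorem L383506 : sm gj N45336 = N31076 := ded_53_1 (flp_i L263547) (flp_j L263539) L383498
theorem L383508 : sm gc N31075 = N45337 := rfl
theorem L383510 : sm ga N45337 = N31116 := ded_11_1 (flp_c L263868) (flp_a L263543) L383508
theorem L383512 : sm gg N45337 = N31077 := ded_30_2 (flp_c L263557) (flp_g L263545) L383508
theorem L383514 : sm gd N45337 = N31096 := ded_27_2 (flp_c L263732) (flp_d L181433) (flp_c L181309) L263541 L383508
theorem L383516 : sm ge N31075 = N45338 := rfl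
theorem L383518 : sm ga N45338 = N31117 := ded_13_1 (flp_e L263874) (flp_a L263543) L383516
theorem L383520 : sm gg N45338 = N31078 := ded_41_2 (flp_e L263563) (flp_g L263545) L383516
theorem L383524 : sm gi N31075 = N45339 := rfl
theorem L383526 : sm ga N45339 = N31118 := ded_18_1 (flp_i L263880) (flp_a L263543) L383524
theorem L383528 : sm gd N45339 = N31076 := ded_39_1 (flp_i L263547) L263541 L383524
theorem L383530 : sm gg N45339 = N31079 := ded_51_1 (flp_i L263569) (flp_g L263545) L383524
theorem L383532 : sm gb N31077 = N45340 := rfl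
theorem L383534 : sm gd N45340 = N31098 := ded_20_2 (flp_b L263752) (flp_d L263561) L383532
theorem L383536 : sm ge N31077 = N45341 := rfl
theorem L383538 : sm ga N45341 = N31120 := ded_13_1 (flp_e L263890) (flp_a L263559) L383536
theorem L383540 : sm gc N45341 = N31078 := ded_28_1 (flp_e L263563) L263557 L383536
theorem L383542 : sm gd N45341 = N31974 := ded_34_1 (flp_e L270920) L186377 (flp_e L181456) (flp_d L263561) L383536
theorem L383544 : sm gi N31077 = N45342 := rfl
theorem L383546 : sm ga N45342 = N31121 := ded_18_1 (flp_i L263896) (flp_a L263559) L383544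
theorem L383548 : sm gc N45342 = N31079 := ded_33_1 (flp_i L263569) L263557 L383544
theorem L383550 : sm gd N45342 = N31099 := ded_39_1 (flp_i L263758) (flp_d L263561) L383544
theorem L383552 : sm gf N31078 = N45343 := rfl
theorem L383554 : sm ga N45343 = N31122 := ded_14_1 (flp_f L263902) (flp_a L263565) L383552
theorem L383558 : sm gi N31078 = N45344 := rfl
theorem L383560 : sm ga N45344 = N31123 := ded_18_1 (flp_i L263906) (flp_a L263565) L383558
theorem L383564 : sm ge N45344 = N31079 := ded_44_1 (flp_i L263569) L263563 L383558
theorem L383566 : sm gh N31079 = N45345 := rfl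
theorem L383568 : sm ga N45345 = N31124 := ded_17_1 (flp_h L263912) (flp_a L263571) L383566
theorem L383570 : sm ge N31080 = N45346 := rfl
theorem L383572 : sm ga N45346 = N31125 := ded_13_1 (flp_e L263914) (flp_a L263577) L383570
theorem L383574 : sm gc N45346 = N31979 := ded_28_1 (flp_e L270956) (flp_c L263583) L383570
theorem L383578 : sm gh N45346 = N34315 := ded_43_2 (flp_e L291092) (flp_h L263585) L383570
theorem L383580 : sm gi N31080 = N45347 := rfl
theorem L383582 : sm ga N45347 = N31126 := ded_18_1 (flp_i L263922) (flp_a L263577) L383580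
theorem L383584 : sm gc N45347 = N31980 := ded_33_1 (flp_i L270964) (flp_c L263583) L383580
theorem L383586 : sm gd N45347 = N31081 := ded_39_1 (flp_i L263587) L263575 L383580
theorem L383592 : sm gf N31082 = N45348 := rfl
theorem L383594 : sm ga N45348 = N31127 := ded_14_1 (flp_f L263932) (flp_a L263599) L383592
theorem L383598 : sm gh N45348 = N34317 := ded_47_2 (flp_f L291112) (flp_h L263605) L383592
theorem L383602 : sm gi N31082 = N45349 := rfl
theorem L383604 : sm ga N45349 = N31128 := ded_18_1 (flp_i L263940) (flp_a L263599) L383602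
theorem L383608 : sm ge N45349 = N31083 := ded_44_1 (flp_i L263607) L263597 L383602
theorem L383612 : sm gh N31083 = N45350 := rfl
theorem L383620 : sm gg N45350 = N31086 := ded_50_1 (flp_h L263637) (flp_g L263617) L383612
theorem L383622 : sm gi N45350 = N34319 := ded_54_2 (flp_h L291130) (flp_i L200213) (flp_h L181347) L263607 L383612
theorem L383624 : sm gg N31084 = N45351 := rfl
theorem L383626 : sm ga N45351 = N31130 := ded_15_1 (flp_g L263958) (flp_a L263621) L383624
theorem L383628 : sm gc N45351 = N31984 := ded_30_1 (flp_g L271001) (flp_c L263623) L383624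
theorem L383632 : sm gh N45351 = N34320 := ded_50_2 (flp_g L291140) (flp_h L263625) L383624
theorem L383634 : sm gi N31084 = N45352 := rfl
theorem L383636 : sm ga N45352 = N31131 := ded_18_1 (flp_i L263966) (flp_a L263621) L383634
theorem L383654 : sm gj N31087 = N45354 := rfl
theorem L383656 : sm ga N45354 = N31133 := ded_16_1 (flp_j L263982) (flp_a L263649) L383654
theorem L383662 : sm gh N45354 = N34323 := ded_52_2 (flp_j L291166) (flp_h L263653) L383654
theorem L383664 : sm gi N31087 = N45355 := rfl
theorem L383666 : sm ga N45355 = N31134 := ded_18_1 (flp_i L263990) (flp_a L263649) L383664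
theorem L383670 : sm gf N45355 = N31357 := ded_48_1 (flp_i L265805) (flp_f L263655) L383664
theorem L383692 : sm gh N31090 = N45358 := rfl
theorem L383694 : sm ga N45358 = N31137 := ded_17_1 (flp_h L264012) (flp_a L263679) L383692
theorem L383696 : sm gb N45358 = N45358 := ded_25_1 (flp_h L383692) L263681 L383692
theorem L383697 : sm ge N45358 = N31360 := ded_43_1 (flp_h L265831) (flp_e L263683) L383692
theorem L383699 : sm gg N45358 = N31091 := ded_50_1 (flp_h L263685) L263677 L383692
theorem L383701 : sm gd N31091 = N45359 := rfl
theorem L383703 : sm ga N45359 = N31138 := ded_12_1 (flp_d L264020) (flp_a L263687) L383701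
theorem L383705 : sm gb N45359 = N45359 := ded_20_1 (flp_d L383701) L263689 L383701
theorem L383706 : sm gf N45359 = N31094 := ded_35_2 (flp_d L263713) (flp_f L263692) L383701
theorem L383708 : sm gj N45359 = N31092 := ded_37_2 (flp_d L263696) (flp_j L263694) L383701
theorem L383710 : sm gh N45359 = N45359 := ded_38_2 (flp_d L383701) (flp_h L263685) L181410 L263685 L383701
theorem L383711 : sm gi N31091 = N45360 := rfl
theorem L383713 : sm ga N45360 = N31139 := ded_18_1 (flp_i L264029) (flp_a L263687) L383711
theorem L383715 : sm gb N45360 = N45360 := ded_26_1 (flp_i L383711) L263689 L383711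
theorem L383716 : sm ge N45360 = N31362 := ded_44_1 (flp_i L265850) (flp_e L263690) L383711
theorem L383718 : sm gf N45360 = N31095 := ded_48_1 (flp_i L263723) (flp_f L263692) L383711
theorem L383720 : sm gj N45360 = N31093 := ded_53_1 (flp_i L263704) (flp_j L263694) L383711
theorem L383722 : sm gc N31092 = N45361 := rfl
theorem L383724 : sm ga N45361 = N31140 := ded_11_1 (flp_c L264039) (flp_a L263698) L383722
theorem L383726 : sm gf N45361 = N31096 := ded_29_2 (flp_c L263732) (flp_f L263701) L383722
theorem L383728 : sm gh N45361 = N45361 := ded_32_2 (flp_c L383722) L263703 L383722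
theorem L383729 : sm ge N31092 = N45362 := rfl
theorem L383731 : sm ga N45362 = N31141 := ded_13_1 (flp_e L264044) (flp_a L263698) L383729
theorem L383733 : sm gb N45362 = N45362 := ded_21_1 (flp_e L383729) L263700 L383729
theorem L383734 : sm gh N45362 = N45362 := ded_43_2 (flp_e L383729) L263703 L383729
theorem L383735 : sm gd N45362 = N31364 := ded_34_1 (flp_e L265867) (flp_d L182867) (flp_e L181420) L263696 L383729
theorem L383737 : sm gf N45362 = N31995 := ded_40_2 (flp_e L271101) L186506 (flp_e L181440) (flp_f L263701) L383729
theorem L383739 : sm gi N31092 = N45363 := rfl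
theorem L383741 : sm ga N45363 = N31142 := ded_18_1 (flp_i L264053) (flp_a L263698) L383739
theorem L383743 : sm gb N45363 = N45363 := ded_26_1 (flp_i L383739) L263700 L383739
theorem L383744 : sm gd N45363 = N31093 := ded_39_1 (flp_i L263704) L263696 L383739
theorem L383746 : sm gf N45363 = N31097 := ded_48_1 (flp_i L263741) (flp_f L263701) L383739
theorem L383748 : sm gc N31094 = N45364 := rfl
theorem L383750 : sm ga N45364 = N31143 := ded_11_1 (flp_c L264061) (flp_a L263715) L383748
theorem L383752 : sm ge N45364 = N31997 := ded_28_2 (flp_c L271120) (flp_e L263720) L383748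
theorem L383754 : sm gj N45364 = N31096 := ded_31_2 (flp_c L263732) (flp_j L263718) L383748
theorem L383757 : sm gi N31094 = N45365 := rfl
theorem L383759 : sm ga N45365 = N31144 := ded_18_1 (flp_i L264068) (flp_a L263715) L383757
theorem L383761 : sm gb N45365 = N45365 := ded_26_1 (flp_i L383757) L263717 L383757
theorem L383762 : sm gd N45365 = N31095 := ded_39_1 (flp_i L263723) L263713 L383757
theorem L383764 : sm ge N45365 = N31998 := ded_44_1 (flp_i L271127) (flp_e L263720) L383757
theorem L383766 : sm gj N45365 = N31097 := ded_53_1 (flp_i L263741) (flp_j L263718) L383757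
theorem L383768 : sm gb N31096 = N45366 := rfl
theorem L383770 : sm ge N45366 = N31999 := ded_21_2 (flp_b L271136) (flp_e L263736) L383768
theorem L383772 : sm gg N45366 = N31098 := ded_23_2 (flp_b L263752) (flp_g L263738) L383768
theorem L383776 : sm gi N31096 = N45367 := rfl
theorem L383778 : sm ga N45367 = N31146 := ded_18_1 (flp_i L264087) (flp_a L263734) L383776
theorem L383780 : sm gc N45367 = N31097 := ded_33_1 (flp_i L263741) L263732 L383776
theorem L383782 : sm ge N45367 = N32000 := ded_44_1 (flp_i L271142) (flp_e L263736) L383776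
theorem L383784 : sm gg N45367 = N31099 := ded_51_1 (flp_i L263758) (flp_g L263738) L383776
theorem L383786 : sm gh N31097 = N45368 := rfl
theorem L383788 : sm ga N45368 = N31147 := ded_17_1 (flp_h L264095) (flp_a L263743) L383786
theorem L383790 : sm gb N45368 = N45368 := ded_25_1 (flp_h L383786) L263745 L383786
theorem L383791 : sm ge N45368 = N32001 := ded_43_1 (flp_h L271150) (flp_e L263748) L383786
theorem L383793 : sm gg N45368 = N31100 := ded_50_1 (flp_h L263766) (flp_g L263750) L383786
theorem L383795 : sm gi N45368 = N45368 := ded_54_2 (flp_h L383786) (flp_i L263741) L181442 L263741 L383786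
theorem L383796 : sm ga N31098 = N45369 := rfl
theorem L383798 : sm gc N45369 = N45369 := ded_11_2 (flp_a L383796) L263757 L383796
theorem L383799 : sm ge N45369 = N32002 := ded_13_2 (flp_a L271159) (flp_e L263754) L383796
theorem L383801 : sm gh N45369 = N45369 := ded_17_2 (flp_a L383796) L263756 L383796
theorem L383802 : sm gb N45369 = N31148 := ded_10_2 (flp_a L264104) (flp_b L181703) (flp_a L181454) L263752 L383796
theorem L383804 : sm gi N31098 = N45370 := rfl
theorem L383806 : sm gb N45370 = N31099 := ded_26_1 (flp_i L263758) L263752 L383804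
theorem L383808 : sm gc N45370 = N45370 := ded_33_1 (flp_i L383804) L263757 L383804
theorem L383809 : sm ge N45370 = N32003 := ded_44_1 (flp_i L271166) (flp_e L263754) L383804
theorem L383811 : sm gh N31099 = N45371 := rfl
theorem L383813 : sm ga N45371 = N31150 := ded_17_1 (flp_h L264119) (flp_a L263760) L383811
theorem L383815 : sm gc N45371 = N31100 := ded_32_1 (flp_h L263766) (flp_c L263762) L383811
theorem L383817 : sm ge N45371 = N32004 := ded_43_1 (flp_h L271172) (flp_e L263764) L383811
theorem L383819 : sm gi N45371 = N45371 := ded_54_2 (flp_h L383811) (flp_i L263758) L181458 L263758 L383811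
theorem L383820 : sm gj N31101 = N45372 := rfl
theorem L383823 : sm gd N45372 = N31374 := ded_37_1 (flp_j L265967) (flp_d L263777) L383820
theorem L383829 : sm gh N31101 = N45373 := rfl
theorem L383832 : sm ge N45373 = N31103 := ded_43_1 (flp_h L263788) L263774 L383829
theorem L383836 : sm gg N31102 = N45374 := rfl
theorem L383838 : sm gc N45374 = N45374 := ded_30_1 (flp_g L383836) L263783 L383836
theorem L383839 : sm gd N45374 = N31110 := ded_36_1 (flp_g L263828) (flp_d L263784) L383836
theorem L383841 : sm gh N31102 = N45375 := rfl
theorem L383844 : sm gf N45375 = N31104 := ded_47_1 (flp_h L263793) (flp_f L263786) L383841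
theorem L383846 : sm gj N45375 = N31103 := ded_52_1 (flp_h L263788) L263781 L383841
theorem L383848 : sm gd N31103 = N45376 := rfl
theorem L383850 : sm gf N45376 = N31105 := ded_35_2 (flp_d L263800) (flp_f L263791) L383848
theorem L383852 : sm gh N45376 = N31112 := ded_38_2 (flp_d L263844) (flp_h L181515) (flp_d L181482) L263788 L383848
theorem L383854 : sm gi N31103 = N45377 := rfl
theorem L383856 : sm gc N45377 = N45377 := ded_33_1 (flp_i L383854) L263790 L383854
theorem L383857 : sm gf N45377 = N31106 := ded_48_1 (flp_i L263806) (flp_f L263791) L383854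
theorem L383859 : sm gd N31104 = N45378 := rfl
theorem L383861 : sm gj N45378 = N31105 := ded_37_2 (flp_d L263800) (flp_j L263798) L383859
theorem L383863 : sm gh N45378 = N31114 := ded_38_2 (flp_d L263856) (flp_h L181523) (flp_d L181487) L263793 L383859
theorem L383865 : sm gi N31104 = N45379 := rfl
theorem L383868 : sm ge N45379 = N34347 := ded_44_1 (flp_i L291382) (flp_e L263796) L383865
theorem L383870 : sm gj N45379 = N31106 := ded_53_1 (flp_i L263806) (flp_j L263798) L383865
theorem L383872 : sm gc N31105 = N45380 := rfl
theorem L383874 : sm gg N45380 = N31107 := ded_30_2 (flp_c L263813) (flp_g L263802) L383872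
theorem L383876 : sm gh N45380 = N31116 := ded_32_2 (flp_c L263868) (flp_h L263804) L383872
theorem L383878 : sm gd N45380 = N45380 := ded_27_2 (flp_c L383872) (flp_d L263800) L181493 L263800 L383872
theorem L383879 : sm ge N31105 = N45381 := rfl
theorem L383881 : sm gg N45381 = N31108 := ded_41_2 (flp_e L263818) (flp_g L263802) L383879
theorem L383883 : sm gh N45381 = N31117 := ded_43_2 (flp_e L263874) (flp_h L263804) L383879
theorem L383885 : sm gd N45381 = N34349 := ded_34_1 (flp_e L291394) (flp_d L200414) (flp_e L181494) L263800 L383879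
theorem L383887 : sm gi N31105 = N45382 := rfl
theorem L383889 : sm gd N45382 = N31106 := ded_39_1 (flp_i L263806) L263800 L383887
theorem L383891 : sm gg N45382 = N31109 := ded_51_1 (flp_i L263824) (flp_g L263802) L383887
theorem L383893 : sm gb N31107 = N45383 := rfl
theorem L383895 : sm gd N45383 = N45383 := ded_20_2 (flp_b L383893) L263817 L383893
theorem L383896 : sm gh N45383 = N31119 := ded_25_2 (flp_b L263886) (flp_h L263815) L383893
theorem L383898 : sm ge N31107 = N45384 := rfl
theorem L383900 : sm gc N45384 = N31108 := ded_28_1 (flp_e L263818) L263813 L383898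
theorem L383902 : sm gh N45384 = N31120 := ded_43_2 (flp_e L263890) (flp_h L263815) L383898
theorem L383904 : sm gi N31107 = N45385 := rfl
theorem L383906 : sm gc N45385 = N31109 := ded_33_1 (flp_i L263824) L263813 L383904
theorem L383908 : sm gd N45385 = N45385 := ded_39_1 (flp_i L383904) L263817 L383904
theorem L383909 : sm gf N31108 = N45386 := rfl
theorem L383911 : sm gd N45386 = N34354 := ded_35_1 (flp_f L291424) (flp_d L263822) L383909
theorem L383913 : sm gh N45386 = N31122 := ded_47_2 (flp_f L263902) (flp_h L263820) L383909
theorem L383915 : sm gi N31108 = N45387 := rfl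
theorem L383917 : sm gd N45387 = N34355 := ded_39_1 (flp_i L291429) (flp_d L263822) L383915
theorem L383919 : sm ge N45387 = N31109 := ded_44_1 (flp_i L263824) L263818 L383915
theorem L383921 : sm gh N31109 = N45388 := rfl
theorem L383923 : sm gi N45388 = N31124 := ded_54_2 (flp_h L263912) (flp_i L181551) (flp_h L181500) L263824 L383921
theorem L383925 : sm gh N31110 = N45389 := rfl
theorem L383927 : sm gc N45389 = N31137 := ded_32_1 (flp_h L264012) (flp_c L263830) L383925
theorem L383929 : sm ge N45389 = N31391 := ded_43_1 (flp_h L266089) (flp_e L263832) L383925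
theorem L383931 : sm gg N45389 = N31111 := ded_50_1 (flp_h L263834) L263828 L383925
theorem L383933 : sm gd N31111 = N45390 := rfl
theorem L383935 : sm gf N45390 = N31114 := ded_35_2 (flp_d L263856) (flp_f L263840) L383933
theorem L383937 : sm gj N45390 = N31112 := ded_37_2 (flp_d L263844) (flp_j L263842) L383933
theorem L383939 : sm gi N31111 = N45391 := rfl
theorem L383941 : sm gc N45391 = N31139 := ded_33_1 (flp_i L264029) (flp_c L263836) L383939
theorem L383943 : sm ge N45391 = N31393 := ded_44_1 (flp_i L266102) (flp_e L263838) L383939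
theorem L383945 : sm gf N45391 = N31115 := ded_48_1 (flp_i L263860) (flp_f L263840) L383939
theorem L383947 : sm gj N45391 = N31113 := ded_53_1 (flp_i L263848) (flp_j L263842) L383939
theorem L383949 : sm gc N31112 = N45392 := rfl
theorem L383951 : sm gf N45392 = N31116 := ded_29_2 (flp_c L263868) (flp_f L263846) L383949
theorem L383953 : sm gd N45392 = N31140 := ded_27_2 (flp_c L264039) (flp_d L181654) (flp_c L181517) L263844 L383949
theorem L383955 : sm ge N31112 = N45393 := rfl
theorem L383957 : sm gd N45393 = N31395 := ded_34_1 (flp_e L266116) (flp_d L183028) (flp_e L181519) L263844 L383955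
theorem L383959 : sm gi N31112 = N45394 := rfl
theorem L383961 : sm gd N45394 = N31113 := ded_39_1 (flp_i L263848) L263844 L383959
theorem L383963 : sm gf N45394 = N31118 := ded_48_1 (flp_i L263880) (flp_f L263846) L383959
theorem L383965 : sm gc N31114 = N45395 := rfl
theorem L383967 : sm gj N45395 = N31116 := ded_31_2 (flp_c L263868) (flp_j L263858) L383965
theorem L383969 : sm gd N45395 = N31143 := ded_27_2 (flp_c L264061) (flp_d L181669) (flp_c L181525) L263856 L383965
theorem L383971 : sm ge N31114 = N45396 := rfl
theorem L383973 : sm gj N45396 = N31117 := ded_42_2 (flp_e L263874) (flp_j L263858) L383971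
theorem L383975 : sm gd N45396 = N31125 := ded_34_1 (flp_e L263914) (flp_d L181555) (flp_e L181527) L263856 L383971
theorem L383977 : sm gi N31114 = N45397 := rfl
theorem L383979 : sm gd N45397 = N31115 := ded_39_1 (flp_i L263860) L263856 L383977
theorem L383981 : sm gj N45397 = N31118 := ded_53_1 (flp_i L263880) (flp_j L263858) L383977
theorem L383983 : sm gb N31116 = N45398 := rfl
theorem L383985 : sm gd N45398 = N31145 := ded_20_2 (flp_b L264078) (flp_d L263872) L383983
theorem L383987 : sm gg N45398 = N31119 := ded_23_2 (flp_b L263886) (flp_g L263870) L383983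
theorem L383989 : sm ge N31116 = N45399 := rfl
theorem L383991 : sm gc N45399 = N31117 := ded_28_1 (flp_e L263874) L263868 L383989
theorem L383993 : sm gg N45399 = N31120 := ded_41_2 (flp_e L263890) (flp_g L263870) L383989
theorem L383995 : sm gd N45399 = N32030 := ded_34_1 (flp_e L271372) L186692 (flp_e L181688) (flp_d L263872) L383989
theorem L383997 : sm gi N31116 = N45400 := rfl
theorem L383999 : sm gc N45400 = N31118 := ded_33_1 (flp_i L263880) L263868 L383997
theorem L384001 : sm gd N45400 = N31146 := ded_39_1 (flp_i L264087) (flp_d L263872) L383997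
theorem L384003 : sm gg N45400 = N31121 := ded_51_1 (flp_i L263896) (flp_g L263870) L383997
theorem L384005 : sm gf N31117 = N45401 := rfl
theorem L384007 : sm gd N45401 = N31127 := ded_35_1 (flp_f L263932) (flp_d L263878) L384005
theorem L384009 : sm gi N31117 = N45402 := rfl
theorem L384011 : sm gd N45402 = N31128 := ded_39_1 (flp_i L263940) (flp_d L263878) L384009
theorem L384013 : sm ge N45402 = N31118 := ded_44_1 (flp_i L263880) L263874 L384009
theorem L384015 : sm gg N45402 = N31123 := ded_51_1 (flp_i L263906) (flp_g L263876) L384009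
theorem L384017 : sm gh N31118 = N45403 := rfl
theorem L384019 : sm gg N45403 = N31124 := ded_50_1 (flp_h L263912) (flp_g L263884) L384017
theorem L384021 : sm ga N31119 = N45404 := rfl
theorem L384023 : sm gd N45404 = N31148 := ded_12_2 (flp_a L264104) (flp_d L263888) L384021
theorem L384025 : sm ge N31119 = N45405 := rfl
theorem L384027 : sm gb N45405 = N31120 := ded_21_1 (flp_e L263890) L263886 L384025
theorem L384029 : sm gd N45405 = N32036 := ded_34_1 (flp_e L271412) L186710 (flp_e L181705) (flp_d L263888) L384025
theorem L384031 : sm gi N31119 = N45406 := rfl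
theorem L384033 : sm gb N45406 = N31121 := ded_26_1 (flp_i L263896) L263886 L384031
theorem L384035 : sm gd N45406 = N31149 := ded_39_1 (flp_i L264111) (flp_d L263888) L384031
theorem L384037 : sm gf N31120 = N45407 := rfl
theorem L384039 : sm gc N45407 = N31122 := ded_29_1 (flp_f L263902) (flp_c L263892) L384037
theorem L384041 : sm gd N45407 = N32038 := ded_35_1 (flp_f L271425) (flp_d L263894) L384037
theorem L384043 : sm gi N31120 = N45408 := rfl
theorem L384045 : sm gc N45408 = N31123 := ded_33_1 (flp_i L263906) (flp_c L263892) L384043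
theorem L384047 : sm gd N45408 = N32039 := ded_39_1 (flp_i L271430) (flp_d L263894) L384043
theorem L384049 : sm ge N45408 = N31121 := ded_44_1 (flp_i L263896) L263890 L384043
theorem L384051 : sm gh N31121 = N45409 := rfl
theorem L384053 : sm gc N45409 = N31124 := ded_32_1 (flp_h L263912) (flp_c L263898) L384051
theorem L384055 : sm gg N31122 = N45410 := rfl
theorem L384057 : sm gd N45410 = N31130 := ded_36_1 (flp_g L263958) (flp_d L263904) L384055
theorem L384059 : sm gi N31122 = N45411 := rfl
theorem L384061 : sm gd N45411 = N31131 := ded_39_1 (flp_i L263966) (flp_d L263904) L384059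
theorem L384063 : sm gf N45411 = N31123 := ded_48_1 (flp_i L263906) L263902 L384059
theorem L384065 : sm gh N31123 = N45412 := rfl
theorem L384067 : sm ge N45412 = N31124 := ded_43_1 (flp_h L263912) (flp_e L263910) L384065
theorem L384069 : sm gf N31125 = N45413 := rfl
theorem L384071 : sm gc N45413 = N32044 := ded_29_1 (flp_f L271460) (flp_c L263916) L384069
theorem L384073 : sm gj N45413 = N31127 := ded_46_2 (flp_f L263932) (flp_j L263918) L384069
theorem L384075 : sm gh N45413 = N34381 := ded_47_2 (flp_f L291592) (flp_h L263920) L384069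
theorem L384077 : sm ge N45413 = N31415 := ded_40_1 (flp_f L266239) (flp_e L183104) (flp_f L181557) L263914 L384069
theorem L384079 : sm gi N31125 = N45414 := rfl
theorem L384081 : sm gc N45414 = N32045 := ded_33_1 (flp_i L271469) (flp_c L263916) L384079
theorem L384085 : sm gj N45414 = N31128 := ded_53_1 (flp_i L263940) (flp_j L263918) L384079
theorem L384087 : sm gh N31126 = N45415 := rfl
theorem L384089 : sm gc N45415 = N32046 := ded_32_1 (flp_h L271476) (flp_c L263924) L384087
theorem L384097 : sm gg N31127 = N45416 := rfl
theorem L384099 : sm gc N45416 = N32047 := ded_30_1 (flp_g L271486) (flp_c L263934) L384097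
theorem L384101 : sm ge N45416 = N31418 := ded_41_1 (flp_g L266265) (flp_e L263938) L384097
theorem L384103 : sm gh N45416 = N34384 := ded_50_2 (flp_g L291616) (flp_h L263936) L384097
theorem L384105 : sm gf N45416 = N31130 := ded_45_1 (flp_g L263958) (flp_f L181591) (flp_g L181577) L263932 L384097
theorem L384107 : sm gi N31127 = N45417 := rfl
theorem L384109 : sm gc N45417 = N32048 := ded_33_1 (flp_i L271495) (flp_c L263934) L384107
theorem L384111 : sm ge N45417 = N31419 := ded_44_1 (flp_i L266273) (flp_e L263938) L384107
theorem L384113 : sm gf N45417 = N31128 := ded_48_1 (flp_i L263940) L263932 L384107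
theorem L384115 : sm gh N31128 = N45418 := rfl
theorem L384117 : sm gc N45418 = N32049 := ded_32_1 (flp_h L271502) (flp_c L263942) L384115
theorem L384119 : sm ge N45418 = N31129 := ded_43_1 (flp_h L263948) (flp_e L263944) L384115
theorem L384121 : sm gg N45418 = N31132 := ded_50_1 (flp_h L263974) (flp_g L263946) L384115
theorem L384123 : sm gi N45418 = N34386 := ded_54_2 (flp_h L291632) (flp_i L200555) (flp_h L181579) L263940 L384115
theorem L384125 : sm gj N31130 = N45419 := rfl
theorem L384127 : sm gc N45419 = N32050 := ded_31_1 (flp_j L271511) (flp_c L263960) L384125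
theorem L384129 : sm ge N45419 = N31133 := ded_42_1 (flp_j L263982) (flp_e L263962) L384125
theorem L384131 : sm gh N45419 = N34387 := ded_52_2 (flp_j L291640) (flp_h L263964) L384125
theorem L384133 : sm gi N31130 = N45420 := rfl
theorem L384135 : sm gc N45420 = N32051 := ded_33_1 (flp_i L271518) (flp_c L263960) L384133
theorem L384137 : sm ge N45420 = N31134 := ded_44_1 (flp_i L263990) (flp_e L263962) L384133
theorem L384139 : sm gg N45420 = N31131 := ded_51_1 (flp_i L263966) L263958 L384133
theorem L384141 : sm gh N31131 = N45421 := rfl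
theorem L384147 : sm gf N45421 = N31132 := ded_47_1 (flp_h L263974) (flp_f L263972) L384141
theorem L384155 : sm gi N31133 = N45423 := rfl
theorem L384157 : sm gc N45423 = N32054 := ded_33_1 (flp_i L271540) (flp_c L263984) L384155
theorem L384159 : sm gf N45423 = N31425 := ded_48_1 (flp_i L266322) (flp_f L263986) L384155
theorem L384161 : sm gj N45423 = N31134 := ded_53_1 (flp_i L263990) L263982 L384155
theorem L384163 : sm gh N31134 = N45424 := rfl
theorem L384165 : sm gc N45424 = N32055 := ded_32_1 (flp_h L271548) (flp_c L263992) L384163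
theorem L384167 : sm gf N45424 = N31426 := ded_47_1 (flp_h L266329) (flp_f L263994) L384163
theorem L384169 : sm gg N45424 = N31135 := ded_50_1 (flp_h L263998) (flp_g L263996) L384163
theorem L384171 : sm gi N45424 = N34392 := ded_54_2 (flp_h L291673) (flp_i L200598) (flp_h L181617) L263990 L384163
theorem L384187 : sm gd N31137 = N45427 := rfl
theorem L384189 : sm gb N45427 = N31151 := ded_20_1 (flp_d L264126) (flp_b L264014) L384187
theorem L384191 : sm gg N45427 = N31138 := ded_36_2 (flp_d L264020) (flp_g L264018) L384187
theorem L384193 : sm gh N45427 = N45427 := ded_38_2 (flp_d L384187) (flp_h L264012) L181641 L264012 L384187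
theorem L384194 : sm gi N31137 = N45428 := rfl
theorem L384196 : sm gb N45428 = N31152 := ded_26_1 (flp_i L264132) (flp_b L264014) L384194
theorem L384198 : sm ge N45428 = N31430 := ded_44_1 (flp_i L266360) (flp_e L264016) L384194
theorem L384200 : sm gg N45428 = N31139 := ded_51_1 (flp_i L264029) (flp_g L264018) L384194
theorem L384202 : sm gc N31138 = N45429 := rfl
theorem L384204 : sm gf N45429 = N31143 := ded_29_2 (flp_c L264061) (flp_f L264024) L384202
theorem L384206 : sm gj N45429 = N31140 := ded_31_2 (flp_c L264039) (flp_j L264026) L384202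
theorem L384208 : sm gh N45429 = N45429 := ded_32_2 (flp_c L384202) L264028 L384202
theorem L384209 : sm ge N31138 = N45430 := rfl
theorem L384211 : sm gb N45430 = N31154 := ded_21_1 (flp_e L264147) (flp_b L264022) L384209
theorem L384213 : sm gj N45430 = N31141 := ded_42_2 (flp_e L264044) (flp_j L264026) L384209
theorem L384215 : sm gh N45430 = N45430 := ded_43_2 (flp_e L384209) L264028 L384209
theorem L384216 : sm gd N45430 = N31432 := ded_34_1 (flp_e L266375) (flp_d L183204) (flp_e L181648) L264020 L384209
theorem L384218 : sm gf N45430 = N32061 := ded_40_2 (flp_e L271598) L186849 (flp_e L181675) (flp_f L264024) L384209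
theorem L384220 : sm gi N31138 = N45431 := rfl
theorem L384222 : sm gb N45431 = N31155 := ded_26_1 (flp_i L264157) (flp_b L264022) L384220
theorem L384224 : sm gd N45431 = N31139 := ded_39_1 (flp_i L264029) L264020 L384220
theorem L384226 : sm gf N45431 = N31144 := ded_48_1 (flp_i L264068) (flp_f L264024) L384220
theorem L384228 : sm gj N45431 = N31142 := ded_53_1 (flp_i L264053) (flp_j L264026) L384220
theorem L384230 : sm gb N31140 = N45432 := rfl
theorem L384232 : sm gf N45432 = N31145 := ded_22_2 (flp_b L264078) (flp_f L264041) L384230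
theorem L384234 : sm gh N45432 = N45432 := ded_25_2 (flp_b L384230) L264043 L384230
theorem L384235 : sm gc N45432 = N31156 := ded_19_2 (flp_b L264166) (flp_c L181747) (flp_b L181656) L264039 L384230
theorem L384237 : sm ge N31140 = N45433 := rfl
theorem L384239 : sm gc N45433 = N31141 := ded_28_1 (flp_e L264044) L264039 L384237
theorem L384241 : sm gh N45433 = N45433 := ded_43_2 (flp_e L384237) L264043 L384237
theorem L384242 : sm gf N45433 = N32064 := ded_40_2 (flp_e L271625) L186867 (flp_e L181688) (flp_f L264041) L384237
theorem L384244 : sm gi N31140 = N45434 := rfl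
theorem L384246 : sm gc N45434 = N31142 := ded_33_1 (flp_i L264053) L264039 L384244
theorem L384248 : sm gf N45434 = N31146 := ded_48_1 (flp_i L264087) (flp_f L264041) L384244
theorem L384250 : sm gi N31141 = N45435 := rfl
theorem L384252 : sm gb N45435 = N31159 := ded_26_1 (flp_i L264186) (flp_b L264046) L384250
theorem L384254 : sm gd N45435 = N31437 := ded_39_1 (flp_i L266417) (flp_d L264049) L384250
theorem L384256 : sm ge N45435 = N31142 := ded_44_1 (flp_i L264053) L264044 L384250
theorem L384258 : sm gf N45435 = N32066 := ded_48_1 (flp_i L271638) (flp_f L264051) L384250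
theorem L384260 : sm gh N31142 = N45436 := rfl
theorem L384262 : sm gb N45436 = N31160 := ded_25_1 (flp_h L264195) (flp_b L264055) L384260
theorem L384264 : sm gf N45436 = N31147 := ded_47_1 (flp_h L264095) (flp_f L264059) L384260
theorem L384266 : sm gi N45436 = N45436 := ded_54_2 (flp_h L384260) (flp_i L264053) L181660 L264053 L384260
theorem L384267 : sm gb N31143 = N45437 := rfl
theorem L384269 : sm ge N45437 = N32068 := ded_21_2 (flp_b L271656) (flp_e L264063) L384267
theorem L384271 : sm gj N45437 = N31145 := ded_24_2 (flp_b L264078) (flp_j L264065) L384267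
theorem L384273 : sm gh N45437 = N45437 := ded_25_2 (flp_b L384267) L264067 L384267
theorem L384274 : sm gc N45437 = N31161 := ded_19_2 (flp_b L264201) (flp_c L181768) (flp_b L181671) L264061 L384267
theorem L384276 : sm gi N31143 = N45438 := rfl
theorem L384278 : sm gc N45438 = N31144 := ded_33_1 (flp_i L264068) L264061 L384276
theorem L384280 : sm ge N45438 = N32069 := ded_44_1 (flp_i L271663) (flp_e L264063) L384276
theorem L384282 : sm gj N45438 = N31146 := ded_53_1 (flp_i L264087) (flp_j L264065) L384276
theorem L384284 : sm gh N31144 = N45439 := rfl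
theorem L384286 : sm gb N45439 = N31163 := ded_25_1 (flp_h L264217) (flp_b L264070) L384284
theorem L384288 : sm ge N45439 = N32070 := ded_43_1 (flp_h L271669) (flp_e L264074) L384284
theorem L384290 : sm gj N45439 = N31147 := ded_52_1 (flp_h L264095) (flp_j L264076) L384284
theorem L384292 : sm gi N45439 = N45439 := ded_54_2 (flp_h L384284) (flp_i L264068) L181677 L264068 L384284
theorem L384293 : sm ga N31145 = N45440 := rfl
theorem L384295 : sm gc N45440 = N31164 := ded_11_2 (flp_a L264225) (flp_c L264085) L384293
theorem L384297 : sm ge N45440 = N32071 := ded_13_2 (flp_a L271677) (flp_e L264080) L384293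
theorem L384299 : sm gg N45440 = N31148 := ded_15_2 (flp_a L264104) (flp_g L264082) L384293
theorem L384301 : sm gh N45440 = N45440 := ded_17_2 (flp_a L384293) L264084 L384293
theorem L384302 : sm gi N31145 = N45441 := rfl
theorem L384304 : sm gb N45441 = N31146 := ded_26_1 (flp_i L264087) L264078 L384302
theorem L384306 : sm gc N45441 = N31165 := ded_33_1 (flp_i L264233) (flp_c L264085) L384302
theorem L384308 : sm ge N45441 = N32072 := ded_44_1 (flp_i L271684) (flp_e L264080) L384302
theorem L384310 : sm gg N45441 = N31149 := ded_51_1 (flp_i L264111) (flp_g L264082) L384302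
theorem L384312 : sm gh N31146 = N45442 := rfl
theorem L384314 : sm gc N45442 = N31147 := ded_32_1 (flp_h L264095) (flp_c L264089) L384312
theorem L384316 : sm ge N45442 = N32073 := ded_43_1 (flp_h L271692) (flp_e L264091) L384312
theorem L384318 : sm gg N45442 = N31150 := ded_50_1 (flp_h L264119) (flp_g L264093) L384312
theorem L384320 : sm gi N45442 = N45442 := ded_54_2 (flp_h L384312) (flp_i L264087) L181692 L264087 L384312
theorem L384321 : sm gi N31148 = N45443 := rfl
theorem L384323 : sm ga N45443 = N31149 := ded_18_1 (flp_i L264111) L264104 L384321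
theorem L384325 : sm gc N45443 = N31167 := ded_33_1 (flp_i L264251) (flp_c L264106) L384321
theorem L384327 : sm ge N45443 = N32074 := ded_44_1 (flp_i L271699) (flp_e L264108) L384321
theorem L384329 : sm gh N31149 = N45444 := rfl
theorem L384331 : sm gb N45444 = N31150 := ded_25_1 (flp_h L264119) (flp_b L264113) L384329
theorem L384333 : sm gc N45444 = N31168 := ded_32_1 (flp_h L264258) (flp_c L264115) L384329
theorem L384335 : sm ge N45444 = N32075 := ded_43_1 (flp_h L271706) (flp_e L264117) L384329
theorem L384337 : sm gi N45444 = N45444 := ded_54_2 (flp_h L384329) (flp_i L264111) L181707 L264111 L384329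
theorem L384338 : sm gd N31150 = N45445 := rfl
theorem L384340 : sm gi N45445 = N45445 := ded_39_2 (flp_d L384338) L264125 L384338
theorem L384341 : sm gc N31151 = N45446 := rfl
theorem L384344 : sm gg N45446 = N31153 := ded_30_2 (flp_c L264139) (flp_g L264129) L384341
theorem L384347 : sm ge N31151 = N45447 := rfl
theorem L384353 : sm gd N45447 = N31449 := ded_34_1 (flp_e L266527) (flp_d L183319) (flp_e L181726) L264126 L384347
theorem L384355 : sm gi N31151 = N45448 := rfl
theorem L384357 : sm ga N45448 = N45448 := ded_18_1 (flp_i L384355) L264128 L384355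
theorem L384358 : sm gd N45448 = N31152 := ded_39_1 (flp_i L264132) L264126 L384355
theorem L384360 : sm gg N45448 = N31155 := ded_51_1 (flp_i L264157) (flp_g L264129) L384355
theorem L384362 : sm gb N31153 = N45449 := rfl
theorem L384364 : sm gf N45449 = N31161 := ded_22_2 (flp_b L264201) (flp_f L264142) L384362
theorem L384366 : sm gj N45449 = N31156 := ded_24_2 (flp_b L264166) (flp_j L264144) L384362
theorem L384368 : sm gh N45449 = N45449 := ded_25_2 (flp_b L384362) L264146 L384362
theorem L384369 : sm ge N31153 = N45450 := rfl
theorem L384371 : sm ga N45450 = N45450 := ded_13_1 (flp_e L384369) L264141 L384369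
theorem L384372 : sm gc N45450 = N31154 := ded_28_1 (flp_e L264147) L264139 L384369
theorem L384374 : sm gj N45450 = N31157 := ded_42_2 (flp_e L264171) (flp_j L264144) L384369
theorem L384376 : sm gh N45450 = N45450 := ded_43_2 (flp_e L384369) L264146 L384369
theorem L384377 : sm gf N45450 = N32081 := ded_40_2 (flp_e L271752) L186961 (flp_e L181771) (flp_f L264142) L384369
theorem L384379 : sm gi N31153 = N45451 := rfl
theorem L384381 : sm ga N45451 = N45451 := ded_18_1 (flp_i L384379) L264141 L384379
theorem L384382 : sm gc N45451 = N31155 := ded_33_1 (flp_i L264157) L264139 L384379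
theorem L384384 : sm gf N45451 = N31162 := ded_48_1 (flp_i L264208) (flp_f L264142) L384379
theorem L384386 : sm gj N45451 = N31158 := ded_53_1 (flp_i L264179) (flp_j L264144) L384379
theorem L384388 : sm gi N31154 = N45452 := rfl
theorem L384390 : sm ga N45452 = N45452 := ded_18_1 (flp_i L384388) L264149 L384388
theorem L384391 : sm gd N45452 = N31454 := ded_39_1 (flp_i L266570) (flp_d L264153) L384388
theorem L384393 : sm ge N45452 = N31155 := ded_44_1 (flp_i L264157) L264147 L384388
theorem L384397 : sm gj N45452 = N31159 := ded_53_1 (flp_i L264186) (flp_j L264150) L384388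
theorem L384399 : sm gh N31155 = N45453 := rfl
theorem L384401 : sm ga N45453 = N45453 := ded_17_1 (flp_h L384399) L264159 L384399
theorem L384402 : sm gf N45453 = N31163 := ded_47_1 (flp_h L264217) (flp_f L264162) L384399
theorem L384404 : sm gj N45453 = N31160 := ded_52_1 (flp_h L264195) (flp_j L264164) L384399
theorem L384406 : sm gi N45453 = N45453 := ded_54_2 (flp_h L384399) (flp_i L264157) L181737 L264157 L384399
theorem L384407 : sm ga N31156 = N45454 := rfl
theorem L384409 : sm gf N45454 = N31164 := ded_14_2 (flp_a L264225) (flp_f L264168) L384407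
theorem L384411 : sm gh N45454 = N45454 := ded_17_2 (flp_a L384407) L264170 L384407
theorem L384412 : sm gb N45454 = N45454 := ded_10_2 (flp_a L384407) (flp_b L264166) L181749 L264166 L384407
theorem L384413 : sm ge N31156 = N45455 := rfl
theorem L384415 : sm gb N45455 = N31157 := ded_21_1 (flp_e L264171) L264166 L384413
theorem L384417 : sm gh N45455 = N45455 := ded_43_2 (flp_e L384413) L264170 L384413
theorem L384418 : sm gf N45455 = N32086 := ded_40_2 (flp_e L271796) L186987 (flp_e L181787) (flp_f L264168) L384413
theorem L384420 : sm gi N31156 = N45456 := rfl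
theorem L384422 : sm gb N45456 = N31158 := ded_26_1 (flp_i L264179) L264166 L384420
theorem L384424 : sm gf N45456 = N31165 := ded_48_1 (flp_i L264233) (flp_f L264168) L384420
theorem L384426 : sm gd N31157 = N45457 := rfl
theorem L384428 : sm ga N45457 = N45457 := ded_12_1 (flp_d L384426) L264173 L384426
theorem L384429 : sm gf N45457 = N32088 := ded_35_2 (flp_d L271810) (flp_f L264177) L384426
theorem L384431 : sm gc N45457 = N31459 := ded_27_1 (flp_d L266609) L183369 (flp_d L181757) (flp_c L264174) L384426
theorem L384433 : sm gi N31157 = N45458 := rfl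
theorem L384435 : sm ga N45458 = N45458 := ded_18_1 (flp_i L384433) L264173 L384433
theorem L384436 : sm gc N45458 = N31159 := ded_33_1 (flp_i L264186) (flp_c L264174) L384433
theorem L384438 : sm ge N45458 = N31158 := ded_44_1 (flp_i L264179) L264171 L384433
theorem L384440 : sm gf N45458 = N32089 := ded_48_1 (flp_i L271817) (flp_f L264177) L384433
theorem L384442 : sm gh N31158 = N45459 := rfl
theorem L384444 : sm ga N45459 = N45459 := ded_17_1 (flp_h L384442) L264181 L384442
theorem L384445 : sm gc N45459 = N31160 := ded_32_1 (flp_h L264195) (flp_c L264182) L384442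
theorem L384447 : sm gf N45459 = N31166 := ded_47_1 (flp_h L264241) (flp_f L264184) L384442
theorem L384449 : sm gi N45459 = N45459 := ded_54_2 (flp_h L384442) (flp_i L264179) L181752 L264179 L384442
theorem L384450 : sm gh N31159 = N45460 := rfl
theorem L384452 : sm ga N45460 = N45460 := ded_17_1 (flp_h L384450) L264188 L384450
theorem L384453 : sm ge N45460 = N31160 := ded_43_1 (flp_h L264195) (flp_e L264191) L384450
theorem L384455 : sm gf N45460 = N32091 := ded_47_1 (flp_h L271834) (flp_f L264193) L384450
theorem L384457 : sm gi N45460 = N45460 := ded_54_2 (flp_h L384450) (flp_i L264186) L181756 L264186 L384450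
theorem L384458 : sm ga N31161 = N45461 := rfl
theorem L384460 : sm ge N45461 = N32092 := ded_13_2 (flp_a L271841) (flp_e L264203) L384458
theorem L384462 : sm gj N45461 = N31164 := ded_16_2 (flp_a L264225) (flp_j L264205) L384458
theorem L384464 : sm gh N45461 = N45461 := ded_17_2 (flp_a L384458) L264207 L384458
theorem L384465 : sm gb N45461 = N45461 := ded_10_2 (flp_a L384458) (flp_b L264201) L181770 L264201 L384458
theorem L384466 : sm gi N31161 = N45462 := rfl
theorem L384468 : sm gb N45462 = N31162 := ded_26_1 (flp_i L264208) L264201 L384466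
theorem L384470 : sm ge N45462 = N32093 := ded_44_1 (flp_i L271848) (flp_e L264203) L384466
theorem L384472 : sm gj N45462 = N31165 := ded_53_1 (flp_i L264233) (flp_j L264205) L384466
theorem L384474 : sm gh N31162 = N45463 := rfl
theorem L384476 : sm ga N45463 = N45463 := ded_17_1 (flp_h L384474) L264210 L384474
theorem L384477 : sm gc N45463 = N31163 := ded_32_1 (flp_h L264217) (flp_c L264211) L384474
theorem L384479 : sm ge N45463 = N32094 := ded_43_1 (flp_h L271855) (flp_e L264213) L384474
theorem L384481 : sm gj N45463 = N31166 := ded_52_1 (flp_h L264241) (flp_j L264215) L384474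
theorem L384483 : sm gi N45463 = N45463 := ded_54_2 (flp_h L384474) (flp_i L264208) L181775 L264208 L384474
theorem L384484 : sm gi N31164 = N45464 := rfl
theorem L384486 : sm ga N45464 = N31165 := ded_18_1 (flp_i L264233) L264225 L384484
theorem L384488 : sm gb N45464 = N45464 := ded_26_1 (flp_i L384484) L264232 L384484
theorem L384489 : sm ge N45464 = N32095 := ded_44_1 (flp_i L271863) (flp_e L264227) L384484
theorem L384491 : sm gg N45464 = N31167 := ded_51_1 (flp_i L264251) (flp_g L264229) L384484
theorem L384493 : sm gh N31165 = N45465 := rfl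
theorem L384495 : sm gb N45465 = N31166 := ded_25_1 (flp_h L264241) (flp_b L264235) L384493
theorem L384497 : sm ge N45465 = N32096 := ded_43_1 (flp_h L271871) (flp_e L264237) L384493
theorem L384499 : sm gg N45465 = N31168 := ded_50_1 (flp_h L264258) (flp_g L264239) L384493
theorem L384501 : sm gi N45465 = N45465 := ded_54_2 (flp_h L384493) (flp_i L264233) L181791 L264233 L384493
theorem L384502 : sm gd N31166 = N45466 := rfl
theorem L384504 : sm ga N45466 = N45466 := ded_12_1 (flp_d L384502) L264243 L384502
theorem L384505 : sm gg N45466 = N31169 := ded_36_2 (flp_d L264265) (flp_g L264248) L384502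
theorem L384507 : sm gi N45466 = N45466 := ded_39_2 (flp_d L384502) L264250 L384502
theorem L384508 : sm gh N31167 = N45467 := rfl
theorem L384510 : sm ga N45467 = N31168 := ded_17_1 (flp_h L264258) (flp_a L264253) L384508
theorem L384512 : sm gb N45467 = N45467 := ded_25_1 (flp_h L384508) L264255 L384508
theorem L384513 : sm ge N45467 = N32098 := ded_43_1 (flp_h L271886) (flp_e L264256) L384508
theorem L384515 : sm gi N45467 = N45467 := ded_54_2 (flp_h L384508) (flp_i L264251) L181813 L264251 L384508
theorem L384516 : sm gd N31168 = N45468 := rfl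
theorem L384518 : sm gb N45468 = N31169 := ded_20_1 (flp_d L264265) (flp_b L264260) L384516
theorem L384520 : sm gi N45468 = N45468 := ded_39_2 (flp_d L384516) L264264 L384516
theorem L384521 : sm ge N31169 = N45469 := rfl
theorem L384523 : sm ga N45469 = N45469 := ded_13_1 (flp_e L384521) L264267 L384521
theorem L384524 : sm gi N45469 = N45469 := ded_44_2 (flp_e L384521) L264268 L384521
theorem L384525 : sm gd N45469 = N32100 := ded_34_1 (flp_e L271900) (flp_d L187079) (flp_e L181826) L264265 L384521
theorem L384547 : sm gf N31171 = N45472 := rfl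
theorem L384549 : sm gb N45472 = N31189 := ded_22_1 (flp_f L264425) (flp_b L264281) L384547
theorem L384551 : sm gd N45472 = N31173 := ded_35_1 (flp_f L264296) (flp_d L264283) L384547
theorem L384553 : sm gi N45472 = N31294 := ded_48_2 (flp_f L265282) (flp_i L264287) L384547
theorem L384555 : sm gj N31171 = N45473 := rfl
theorem L384557 : sm gb N45473 = N31190 := ded_24_1 (flp_j L264435) (flp_b L264281) L384555
theorem L384559 : sm gd N45473 = N31174 := ded_37_1 (flp_j L264303) (flp_d L264283) L384555
theorem L384563 : sm gi N45473 = N31295 := ded_53_2 (flp_j L265288) (flp_i L264287) L384555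
theorem L384566 : sm gh N31171 = N45474 := rfl
theorem L384570 : sm ge N45474 = N34432 := ded_43_1 (flp_h L292022) (flp_e L264285) L384566
theorem L384572 : sm gg N45474 = N31172 := ded_50_1 (flp_h L264289) L264279 L384566
theorem L384574 : sm gd N31172 = N45475 := rfl
theorem L384579 : sm gh N45475 = N31176 := ded_38_2 (flp_d L264322) (flp_h L181847) L181829 L264289 L384574
theorem L384581 : sm gi N31172 = N45476 := rfl
theorem L384583 : sm gb N45476 = N31193 := ded_26_1 (flp_i L264465) (flp_b L264291) L384581
theorem L384585 : sm ge N45476 = N34434 := ded_44_1 (flp_i L292036) (flp_e L264293) L384581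
theorem L384588 : sm gh N45476 = N31298 := ded_54_1 (flp_i L265312) (flp_h L182513) (flp_i L181834) L264289 L384581
theorem L384590 : sm gj N31173 = N45477 := rfl
theorem L384592 : sm gb N45477 = N31194 := ded_24_1 (flp_j L264476) (flp_b L264298) L384590
theorem L384595 : sm gf N45477 = N31174 := ded_46_1 (flp_j L264303) L264296 L384590
theorem L384597 : sm gi N45477 = N31299 := ded_53_2 (flp_j L265319) (flp_i L264301) L384590
theorem L384599 : sm gh N31173 = N45478 := rfl
theorem L384601 : sm gb N45478 = N31195 := ded_25_1 (flp_h L264486) (flp_b L264298) L384599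
theorem L384604 : sm gf N45478 = N31175 := ded_47_1 (flp_h L264313) L264296 L384599
theorem L384606 : sm gh N31174 = N45479 := rfl
theorem L384608 : sm gb N45479 = N31196 := ded_25_1 (flp_h L264494) (flp_b L264305) L384606
theorem L384614 : sm gj N45479 = N31175 := ded_52_1 (flp_h L264313) L264303 L384606
theorem L384616 : sm gd N31175 = N45480 := rfl
theorem L384618 : sm gb N45480 = N31197 := ded_20_1 (flp_d L264505) (flp_b L264315) L384616
theorem L384622 : sm gi N31175 = N45481 := rfl
theorem L384624 : sm gb N45481 = N31198 := ded_26_1 (flp_i L264511) (flp_b L264315) L384622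
theorem L384629 : sm gg N45481 = N31177 := ded_51_1 (flp_i L264327) (flp_g L264320) L384622
theorem L384644 : sm gi N31176 = N45484 := rfl
theorem L384646 : sm gb N45484 = N31201 := ded_26_1 (flp_i L264537) (flp_b L264324) L384644
theorem L384648 : sm gd N45484 = N31177 := ded_39_1 (flp_i L264327) L264322 L384644
theorem L384660 : sm gi N31178 = N45486 := rfl
theorem L384662 : sm gb N45486 = N31203 := ded_26_1 (flp_i L264554) (flp_b L264339) L384660
theorem L384666 : sm gj N45486 = N31180 := ded_53_1 (flp_i L264353) (flp_j L264343) L384660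
theorem L384668 : sm gh N45486 = N31308 := ded_54_1 (flp_i L265385) (flp_h L182555) (flp_i L181862) L264337 L384660
theorem L384686 : sm gi N31179 = N45489 := rfl
theorem L384692 : sm gg N45489 = N31183 := ded_51_1 (flp_i L264378) (flp_g L264349) L384686
theorem L384720 : sm gi N31182 = N45493 := rfl
theorem L384724 : sm ge N45493 = N31183 := ded_44_1 (flp_i L264378) L264371 L384720
theorem L384780 : sm gh N31187 = N45501 := rfl
theorem L384787 : sm gi N45501 = N34459 := ded_54_2 (flp_h L292231) (flp_i L201013) (flp_h L181903) L264409 L384780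
theorem L384789 : sm ge N31189 = N45502 := rfl
theorem L384791 : sm ga N45502 = N31223 := ded_13_1 (flp_e L264743) (flp_a L264427) L384789
theorem L384793 : sm gc N45502 = N31501 := ded_28_1 (flp_e L266996) (flp_c L264429) L384789
theorem L384795 : sm gi N45502 = N31324 := ded_44_2 (flp_e L265517) (flp_i L264433) L384789
theorem L384797 : sm gf N45502 = N34460 := ded_40_2 (flp_e L292238) (flp_f L201028) (flp_e L181920) L264425 L384789
theorem L384799 : sm gj N31189 = N45503 := rfl
theorem L384801 : sm ga N45503 = N31224 := ded_16_1 (flp_j L264751) (flp_a L264427) L384799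
theorem L384803 : sm gc N45503 = N31502 := ded_31_1 (flp_j L267005) (flp_c L264429) L384799
theorem L384805 : sm gd N45503 = N31194 := ded_37_1 (flp_j L264476) (flp_d L264431) L384799
theorem L384809 : sm gi N45503 = N31325 := ded_53_2 (flp_j L265525) (flp_i L264433) L384799
theorem L384811 : sm gh N31189 = N45504 := rfl
theorem L384813 : sm ga N45504 = N31225 := ded_17_1 (flp_h L264761) (flp_a L264427) L384811
theorem L384815 : sm gc N45504 = N31503 := ded_32_1 (flp_h L267015) (flp_c L264429) L384811
theorem L384819 : sm gh N31190 = N45505 := rfl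
theorem L384821 : sm ga N45505 = N31226 := ded_17_1 (flp_h L264767) (flp_a L264437) L384819
theorem L384825 : sm ge N45505 = N34463 := ded_43_1 (flp_h L292268) (flp_e L264443) L384819
theorem L384828 : sm gj N45505 = N31191 := ded_52_1 (flp_h L264448) L264435 L384819
theorem L384830 : sm gd N31191 = N45506 := rfl
theorem L384832 : sm ga N45506 = N31227 := ded_12_1 (flp_d L264776) (flp_a L264450) L384830
theorem L384834 : sm gg N45506 = N31192 := ded_36_2 (flp_d L264458) (flp_g L264456) L384830
theorem L384836 : sm gh N45506 = N31197 := ded_38_2 (flp_d L264505) (flp_h L181952) (flp_d L181918) L264448 L384830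
theorem L384838 : sm gi N31191 = N45507 := rfl
theorem L384840 : sm ga N45507 = N31228 := ded_18_1 (flp_i L264782) (flp_a L264450) L384838
theorem L384842 : sm gc N45507 = N31506 := ded_33_1 (flp_i L267038) (flp_c L264452) L384838
theorem L384844 : sm ge N45507 = N34465 := ded_44_1 (flp_i L292285) (flp_e L264454) L384838
theorem L384848 : sm gh N45507 = N31329 := ded_54_1 (flp_i L265562) (flp_h L182661) (flp_i L181922) L264448 L384838
theorem L384859 : sm ge N31192 = N45509 := rfl
theorem L384861 : sm ga N45509 = N31230 := ded_13_1 (flp_e L264799) (flp_a L264460) L384859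
theorem L384868 : sm gi N31192 = N45510 := rfl
theorem L384870 : sm ga N45510 = N31231 := ded_18_1 (flp_i L264806) (flp_a L264460) L384868
theorem L384872 : sm gd N45510 = N31193 := ded_39_1 (flp_i L264465) L264458 L384868
theorem L384875 : sm gg N31194 = N45511 := rfl
theorem L384877 : sm ga N45511 = N31232 := ded_15_1 (flp_g L264811) (flp_a L264478) L384875
theorem L384879 : sm gc N45511 = N31212 := ded_30_1 (flp_g L264638) (flp_c L264480) L384875
theorem L384881 : sm gi N45511 = N31333 := ded_51_2 (flp_g L265597) (flp_i L264484) L384875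
theorem L384883 : sm gf N45511 = N45511 := ded_45_1 (flp_g L384875) L264482 L181951 (flp_f L264482) L384875
theorem L384884 : sm gh N31194 = N45512 := rfl
theorem L384886 : sm ga N45512 = N31233 := ded_17_1 (flp_h L264818) (flp_a L264478) L384884
theorem L384888 : sm gc N45512 = N31213 := ded_32_1 (flp_h L264648) (flp_c L264480) L384884
theorem L384890 : sm gf N45512 = N31196 := ded_47_1 (flp_h L264494) (flp_f L264482) L384884
theorem L384892 : sm gj N45512 = N31195 := ded_52_1 (flp_h L264486) L264476 L384884
theorem L384894 : sm gd N31195 = N45513 := rfl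
theorem L384896 : sm ga N45513 = N31234 := ded_12_1 (flp_d L264826) (flp_a L264488) L384894
theorem L384898 : sm gf N45513 = N31197 := ded_35_2 (flp_d L264505) (flp_f L264492) L384894
theorem L384900 : sm gi N31195 = N45514 := rfl
theorem L384902 : sm ga N45514 = N31235 := ded_18_1 (flp_i L264830) (flp_a L264488) L384900
theorem L384904 : sm gc N45514 = N31215 := ded_33_1 (flp_i L264666) (flp_c L264490) L384900
theorem L384906 : sm gf N45514 = N31198 := ded_48_1 (flp_i L264511) (flp_f L264492) L384900
theorem L384908 : sm gh N45514 = N31336 := ded_54_1 (flp_i L265620) (flp_h L182695) (flp_i L181939) L264486 L384900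
theorem L384910 : sm gd N31196 = N45515 := rfl
theorem L384912 : sm ga N45515 = N31236 := ded_12_1 (flp_d L264838) (flp_a L264496) L384910
theorem L384914 : sm gg N45515 = N45515 := ded_36_2 (flp_d L384910) L264502 L384910
theorem L384915 : sm gj N45515 = N31197 := ded_37_2 (flp_d L264505) (flp_j L264503) L384910
theorem L384917 : sm gi N31196 = N45516 := rfl
theorem L384919 : sm ga N45516 = N31237 := ded_18_1 (flp_i L264843) (flp_a L264496) L384917
theorem L384921 : sm gc N45516 = N31217 := ded_33_1 (flp_i L264686) (flp_c L264498) L384917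
theorem L384923 : sm ge N45516 = N31203 := ded_44_1 (flp_i L264554) (flp_e L264500) L384917
theorem L384925 : sm gg N45516 = N45516 := ded_51_1 (flp_i L384917) L264502 L384917
theorem L384926 : sm gj N45516 = N31198 := ded_53_1 (flp_i L264511) (flp_j L264503) L384917
theorem L384928 : sm gh N45516 = N31338 := ded_54_1 (flp_i L265635) (flp_h L182703) (flp_i L181949) L264494 L384917
theorem L384930 : sm gc N31197 = N45517 := rfl
theorem L384932 : sm ga N45517 = N31238 := ded_11_1 (flp_c L264854) (flp_a L264507) L384930
theorem L384934 : sm gg N45517 = N31199 := ded_30_2 (flp_c L264523) (flp_g L264509) L384930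
theorem L384938 : sm ge N31197 = N45518 := rfl
theorem L384940 : sm ga N45518 = N31239 := ded_13_1 (flp_e L264860) (flp_a L264507) L384938
theorem L384946 : sm gi N31197 = N45519 := rfl
theorem L384948 : sm ga N45519 = N31240 := ded_18_1 (flp_i L264866) (flp_a L264507) L384946
theorem L384950 : sm gd N45519 = N31198 := ded_39_1 (flp_i L264511) L264505 L384946
theorem L384952 : sm gg N45519 = N31201 := ded_51_1 (flp_i L264537) (flp_g L264509) L384946
theorem L384959 : sm ge N31199 = N45521 := rfl
theorem L384961 : sm ga N45521 = N31242 := ded_13_1 (flp_e L264877) (flp_a L264525) L384959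
theorem L384967 : sm gi N31199 = N45522 := rfl
theorem L384969 : sm ga N45522 = N31243 := ded_18_1 (flp_i L264883) (flp_a L264525) L384967
theorem L384971 : sm gc N45522 = N31201 := ded_33_1 (flp_i L264537) L264523 L384967
theorem L384973 : sm gd N45522 = N31221 := ded_39_1 (flp_i L264724) (flp_d L264528) L384967
theorem L384976 : sm gf N31200 = N45523 := rfl
theorem L384978 : sm ga N45523 = N31244 := ded_14_1 (flp_f L264890) (flp_a L264532) L384976
theorem L384983 : sm gi N31200 = N45524 := rfl
theorem L384989 : sm ge N45524 = N31201 := ded_44_1 (flp_i L264537) L264530 L384983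
theorem L384992 : sm gh N31201 = N45525 := rfl
theorem L384994 : sm ga N45525 = N31246 := ded_17_1 (flp_h L264902) (flp_a L264539) L384992
theorem L384996 : sm gj N45525 = N45525 := ded_52_1 (flp_h L384992) L264543 L384992
theorem L384997 : sm gd N45525 = N31347 := ded_38_1 (flp_h L265709) L182748 (flp_h L181976) (flp_d L264541) L384992
theorem L385009 : sm gi N31202 = N45527 := rfl
theorem L385011 : sm ga N45527 = N31248 := ded_18_1 (flp_i L264915) (flp_a L264546) L385009
theorem L385014 : sm gd N45527 = N31203 := ded_39_1 (flp_i L264554) L264544 L385009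
theorem L385026 : sm gi N31204 = N45529 := rfl
theorem L385028 : sm ga N45529 = N31250 := ded_18_1 (flp_i L264928) (flp_a L264567) L385026
theorem L385083 : sm gi N31209 = N45535 := rfl
theorem L385088 : sm gg N45535 = N31210 := ded_51_1 (flp_i L264620) L264613 L385083
theorem L385090 : sm gh N31210 = N45536 := rfl
theorem L385095 : sm gf N45536 = N31211 := ded_47_1 (flp_h L264628) (flp_f L264625) L385090
theorem L385098 : sm gi N45536 = N34494 := ded_54_2 (flp_h L292532) (flp_i L201214) (flp_h L182030) L264620 L385090
theorem L385109 : sm gh N31212 = N45538 := rfl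
theorem L385111 : sm ga N45538 = N31259 := ded_17_1 (flp_h L264993) (flp_a L264640) L385109
theorem L385113 : sm gb N45538 = N45538 := ded_25_1 (flp_h L385109) L264642 L385109
theorem L385114 : sm gf N45538 = N45538 := ded_47_1 (flp_h L385109) L264647 L385109
theorem L385115 : sm gg N45538 = N31213 := ded_50_1 (flp_h L264648) L264638 L385109
theorem L385117 : sm gd N31213 = N45539 := rfl
theorem L385119 : sm ga N45539 = N31260 := ded_12_1 (flp_d L265000) (flp_a L264650) L385117
theorem L385126 : sm gh N45539 = N31534 := ded_38_2 (flp_d L267285) (flp_h L183850) (flp_d L182055) L264648 L385117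
theorem L385128 : sm gi N31213 = N45540 := rfl
theorem L385130 : sm ga N45540 = N31261 := ded_18_1 (flp_i L265010) (flp_a L264650) L385128
theorem L385132 : sm gb N45540 = N45540 := ded_26_1 (flp_i L385128) L264652 L385128
theorem L385133 : sm gf N45540 = N31217 := ded_48_1 (flp_i L264686) (flp_f L264653) L385128
theorem L385135 : sm gj N45540 = N31215 := ded_53_1 (flp_i L264666) (flp_j L264655) L385128
theorem L385137 : sm gh N45540 = N31362 := ded_54_1 (flp_i L265850) (flp_h L182858) (flp_i L182059) L264648 L385128
theorem L385139 : sm gc N31214 = N45541 := rfl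
theorem L385141 : sm ga N45541 = N31262 := ded_11_1 (flp_c L265020) (flp_a L264659) L385139
theorem L385145 : sm gh N45541 = N31536 := ded_32_2 (flp_c L267306) (flp_h L264664) L385139
theorem L385147 : sm ge N31214 = N45542 := rfl
theorem L385149 : sm ga N45542 = N31263 := ded_13_1 (flp_e L265026) (flp_a L264659) L385147
theorem L385152 : sm gh N45542 = N31537 := ded_43_2 (flp_e L267312) (flp_h L264664) L385147
theorem L385155 : sm gi N31214 = N45543 := rfl
theorem L385157 : sm ga N45543 = N31264 := ded_18_1 (flp_i L265033) (flp_a L264659) L385155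
theorem L385160 : sm gd N45543 = N31215 := ded_39_1 (flp_i L264666) L264657 L385155
theorem L385162 : sm gf N45543 = N31219 := ded_48_1 (flp_i L264707) (flp_f L264662) L385155
theorem L385164 : sm gc N31216 = N45544 := rfl
theorem L385166 : sm ga N45544 = N31265 := ded_11_1 (flp_c L265041) (flp_a L264677) L385164
theorem L385172 : sm gh N45544 = N31539 := ded_32_2 (flp_c L267328) (flp_h L264684) L385164
theorem L385174 : sm gi N31216 = N45545 := rfl
theorem L385176 : sm ga N45545 = N31266 := ded_18_1 (flp_i L265049) (flp_a L264677) L385174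
theorem L385179 : sm gd N45545 = N31217 := ded_39_1 (flp_i L264686) L264675 L385174
theorem L385183 : sm gj N45545 = N31219 := ded_53_1 (flp_i L264707) (flp_j L264681) L385174
theorem L385193 : sm gi N31218 = N45547 := rfl
theorem L385195 : sm ga N45547 = N31268 := ded_18_1 (flp_i L265068) (flp_a L264700) L385193
theorem L385197 : sm gc N45547 = N31219 := ded_33_1 (flp_i L264707) L264698 L385193
theorem L385202 : sm gh N31219 = N45548 := rfl
theorem L385204 : sm ga N45548 = N31269 := ded_17_1 (flp_h L265075) (flp_a L264709) L385202
theorem L385210 : sm gd N45548 = N31370 := ded_38_1 (flp_h L265927) L182920 (flp_h L182097) (flp_d L264712) L385202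
theorem L385212 : sm gi N45548 = N31543 := ded_54_2 (flp_h L267362) (flp_i L183905) (flp_h L182086) L264707 L385202
theorem L385214 : sm ga N31220 = N45549 := rfl
theorem L385221 : sm gb N45549 = N31270 := ded_10_2 (flp_a L265086) (flp_b L182364) (flp_a L182101) L264717 L385214
theorem L385230 : sm gh N31221 = N45551 := rfl
theorem L385238 : sm gi N45551 = N31546 := ded_54_2 (flp_h L267386) (flp_i L183920) (flp_h L182105) L264724 L385230
theorem L385240 : sm gj N31223 = N45552 := rfl
theorem L385242 : sm gc N45552 = N31547 := ded_31_1 (flp_j L267394) (flp_c L264745) L385240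
theorem L385244 : sm ge N45552 = N31224 := ded_42_1 (flp_j L264751) L264743 L385240
theorem L385246 : sm gf N45552 = N34508 := ded_46_1 (flp_j L292676) (flp_f L264749) L385240
theorem L385248 : sm gi N45552 = N31374 := ded_53_2 (flp_j L265967) (flp_i L264747) L385240
theorem L385250 : sm gh N31223 = N45553 := rfl
theorem L385252 : sm gc N45553 = N31548 := ded_32_1 (flp_h L267404) (flp_c L264745) L385250
theorem L385254 : sm ge N45553 = N31225 := ded_43_1 (flp_h L264761) L264743 L385250
theorem L385256 : sm gf N45553 = N34509 := ded_47_1 (flp_h L292684) (flp_f L264749) L385250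
theorem L385258 : sm gg N31224 = N45554 := rfl
theorem L385260 : sm gc N45554 = N31549 := ded_30_1 (flp_g L267411) (flp_c L264753) L385258
theorem L385262 : sm gd N45554 = N31232 := ded_36_1 (flp_g L264811) (flp_d L264755) L385258
theorem L385264 : sm gi N45554 = N31376 := ded_51_2 (flp_g L265983) (flp_i L264759) L385258
theorem L385266 : sm gf N45554 = N45554 := ded_45_1 (flp_g L385258) L264757 L182145 (flp_f L264757) L385258
theorem L385267 : sm gh N31224 = N45555 := rfl
theorem L385269 : sm gc N45555 = N31550 := ded_32_1 (flp_h L267419) (flp_c L264753) L385267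
theorem L385271 : sm gf N45555 = N31226 := ded_47_1 (flp_h L264767) (flp_f L264757) L385267
theorem L385273 : sm gj N45555 = N31225 := ded_52_1 (flp_h L264761) L264751 L385267
theorem L385275 : sm gd N31225 = N45556 := rfl
theorem L385277 : sm gf N45556 = N31227 := ded_35_2 (flp_d L264776) (flp_f L264765) L385275
theorem L385279 : sm gh N45556 = N31234 := ded_38_2 (flp_d L264826) (flp_h L182176) (flp_d L182131) L264761 L385275
theorem L385281 : sm gi N31225 = N45557 := rfl
theorem L385283 : sm gc N45557 = N31552 := ded_33_1 (flp_i L267433) (flp_c L264763) L385281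
theorem L385285 : sm gf N45557 = N31228 := ded_48_1 (flp_i L264782) (flp_f L264765) L385281
theorem L385287 : sm gh N45557 = N31379 := ded_54_1 (flp_i L266004) (flp_h L182967) (flp_i L182133) L264761 L385281
theorem L385289 : sm gd N31226 = N45558 := rfl
theorem L385291 : sm gg N45558 = N45558 := ded_36_2 (flp_d L385289) L264773 L385289
theorem L385292 : sm gj N45558 = N31227 := ded_37_2 (flp_d L264776) (flp_j L264774) L385289
theorem L385294 : sm gh N45558 = N31236 := ded_38_2 (flp_d L264838) (flp_h L182182) (flp_d L182139) L264767 L385289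
theorem L385296 : sm gi N31226 = N45559 := rfl
theorem L385298 : sm gc N45559 = N31554 := ded_33_1 (flp_i L267448) (flp_c L264769) L385296
theorem L385300 : sm ge N45559 = N34515 := ded_44_1 (flp_i L292732) (flp_e L264771) L385296
theorem L385302 : sm gg N45559 = N45559 := ded_51_1 (flp_i L385296) L264773 L385296
theorem L385303 : sm gj N45559 = N31228 := ded_53_1 (flp_i L264782) (flp_j L264774) L385296
theorem L385305 : sm gh N45559 = N31381 := ded_54_1 (flp_i L266017) (flp_h L182973) (flp_i L182143) L264767 L385296
theorem L385307 : sm gc N31227 = N45560 := rfl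
theorem L385309 : sm gg N45560 = N31229 := ded_30_2 (flp_c L264792) (flp_g L264778) L385307
theorem L385311 : sm gh N45560 = N31238 := ded_32_2 (flp_c L264854) (flp_h L264780) L385307
theorem L385313 : sm gd N45560 = N31555 := ded_27_2 (flp_c L267458) (flp_d L183967) (flp_c L182148) L264776 L385307
theorem L385315 : sm ge N31227 = N45561 := rfl
theorem L385317 : sm gg N45561 = N31230 := ded_41_2 (flp_e L264799) (flp_g L264778) L385315
theorem L385319 : sm gh N45561 = N31239 := ded_43_2 (flp_e L264860) (flp_h L264780) L385315
theorem L385323 : sm gi N31227 = N45562 := rfl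
theorem L385325 : sm gd N45562 = N31228 := ded_39_1 (flp_i L264782) L264776 L385323
theorem L385327 : sm gg N45562 = N31231 := ded_51_1 (flp_i L264806) (flp_g L264778) L385323
theorem L385329 : sm gb N31229 = N45563 := rfl
theorem L385331 : sm gd N45563 = N31558 := ded_20_2 (flp_b L267480) (flp_d L264797) L385329
theorem L385334 : sm gh N45563 = N31241 := ded_25_2 (flp_b L264872) (flp_h L264795) L385329
theorem L385336 : sm ge N31229 = N45564 := rfl
theorem L385338 : sm gc N45564 = N31230 := ded_28_1 (flp_e L264799) L264792 L385336
theorem L385341 : sm gh N45564 = N31242 := ded_43_2 (flp_e L264877) (flp_h L264795) L385336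
theorem L385343 : sm gi N31229 = N45565 := rfl
theorem L385345 : sm gc N45565 = N31231 := ded_33_1 (flp_i L264806) L264792 L385343
theorem L385350 : sm gf N31230 = N45566 := rfl
theorem L385357 : sm gi N31230 = N45567 := rfl
theorem L385359 : sm gd N45567 = N34523 := ded_39_1 (flp_i L292790) (flp_d L264804) L385357
theorem L385361 : sm ge N45567 = N31231 := ded_44_1 (flp_i L264806) L264799 L385357
theorem L385363 : sm gj N45567 = N45567 := ded_53_1 (flp_i L385357) L264801 L385357
theorem L385364 : sm gh N31231 = N45568 := rfl
theorem L385366 : sm gj N45568 = N45568 := ded_52_1 (flp_h L385364) L264810 L385364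
theorem L385367 : sm gd N45568 = N31390 := ded_38_1 (flp_h L266084) L183012 (flp_h L182166) (flp_d L264808) L385364
theorem L385369 : sm gi N45568 = N31246 := ded_54_2 (flp_h L264902) (flp_i L182215) (flp_h L182157) L264806 L385364
theorem L385371 : sm gh N31232 = N45569 := rfl
theorem L385373 : sm gc N45569 = N31259 := ded_32_1 (flp_h L264993) (flp_c L264813) L385371
theorem L385375 : sm gf N45569 = N45569 := ded_47_1 (flp_h L385371) L264817 L385371
theorem L385376 : sm gg N45569 = N31233 := ded_50_1 (flp_h L264818) L264811 L385371
theorem L385378 : sm gd N31233 = N45570 := rfl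
theorem L385380 : sm gf N45570 = N31236 := ded_35_2 (flp_d L264838) (flp_f L264822) L385378
theorem L385382 : sm gj N45570 = N31234 := ded_37_2 (flp_d L264826) (flp_j L264824) L385378
theorem L385384 : sm gi N31233 = N45571 := rfl
theorem L385386 : sm gc N45571 = N31261 := ded_33_1 (flp_i L265010) (flp_c L264820) L385384
theorem L385388 : sm gf N45571 = N31237 := ded_48_1 (flp_i L264843) (flp_f L264822) L385384
theorem L385390 : sm gj N45571 = N31235 := ded_53_1 (flp_i L264830) (flp_j L264824) L385384
theorem L385392 : sm gh N45571 = N31393 := ded_54_1 (flp_i L266102) (flp_h L183020) (flp_i L182174) L264818 L385384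
theorem L385394 : sm gc N31234 = N45572 := rfl
theorem L385396 : sm gf N45572 = N31238 := ded_29_2 (flp_c L264854) (flp_f L264828) L385394
theorem L385398 : sm gd N45572 = N31262 := ded_27_2 (flp_c L265020) (flp_d L182311) (flp_c L182178) L264826 L385394
theorem L385400 : sm ge N31234 = N45573 := rfl
theorem L385402 : sm gi N31234 = N45574 := rfl
theorem L385404 : sm gd N45574 = N31235 := ded_39_1 (flp_i L264830) L264826 L385402
theorem L385406 : sm gf N45574 = N31240 := ded_48_1 (flp_i L264866) (flp_f L264828) L385402
theorem L385408 : sm gc N31236 = N45575 := rfl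
theorem L385410 : sm gg N45575 = N45575 := ded_30_2 (flp_c L385408) L264840 L385408
theorem L385411 : sm gj N45575 = N31238 := ded_31_2 (flp_c L264854) (flp_j L264841) L385408
theorem L385413 : sm gd N45575 = N31265 := ded_27_2 (flp_c L265041) (flp_d L182327) (flp_c L182184) L264838 L385408
theorem L385415 : sm ge N31236 = N45576 := rfl
theorem L385417 : sm gg N45576 = N45576 := ded_41_2 (flp_e L385415) L264840 L385415
theorem L385418 : sm gj N45576 = N31239 := ded_42_2 (flp_e L264860) (flp_j L264841) L385415
theorem L385420 : sm gd N45576 = N31247 := ded_34_1 (flp_e L264907) (flp_d L182220) (flp_e L182186) L264838 L385415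
theorem L385422 : sm gi N31236 = N45577 := rfl
theorem L385424 : sm gd N45577 = N31237 := ded_39_1 (flp_i L264843) L264838 L385422
theorem L385426 : sm gg N45577 = N45577 := ded_51_1 (flp_i L385422) L264840 L385422
theorem L385427 : sm gj N45577 = N31240 := ded_53_1 (flp_i L264866) (flp_j L264841) L385422
theorem L385429 : sm gb N31238 = N45578 := rfl
theorem L385431 : sm gd N45578 = N31267 := ded_20_2 (flp_b L265059) (flp_d L264858) L385429
theorem L385433 : sm gg N45578 = N31241 := ded_23_2 (flp_b L264872) (flp_g L264856) L385429
theorem L385435 : sm ge N31238 = N45579 := rfl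
theorem L385437 : sm gc N45579 = N31239 := ded_28_1 (flp_e L264860) L264854 L385435
theorem L385439 : sm gg N45579 = N31242 := ded_41_2 (flp_e L264877) (flp_g L264856) L385435
theorem L385441 : sm gd N45579 = N45579 := ded_34_1 (flp_e L385435) L264858 L182350 (flp_d L264858) L385435
theorem L385442 : sm gi N31238 = N45580 := rfl
theorem L385444 : sm gc N45580 = N31240 := ded_33_1 (flp_i L264866) L264854 L385442
theorem L385446 : sm gd N45580 = N31268 := ded_39_1 (flp_i L265068) (flp_d L264858) L385442
theorem L385448 : sm gg N45580 = N31243 := ded_51_1 (flp_i L264883) (flp_g L264856) L385442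
theorem L385450 : sm gf N31239 = N45581 := rfl
theorem L385452 : sm gd N45581 = N31249 := ded_35_1 (flp_f L264923) (flp_d L264864) L385450
theorem L385454 : sm gi N31239 = N45582 := rfl
theorem L385456 : sm gd N45582 = N31250 := ded_39_1 (flp_i L264928) (flp_d L264864) L385454
theorem L385458 : sm ge N45582 = N31240 := ded_44_1 (flp_i L264866) L264860 L385454
theorem L385460 : sm gg N45582 = N31245 := ded_51_1 (flp_i L264895) (flp_g L264862) L385454
theorem L385462 : sm gh N31240 = N45583 := rfl
theorem L385464 : sm gg N45583 = N31246 := ded_50_1 (flp_h L264902) (flp_g L264870) L385462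
theorem L385466 : sm gd N45583 = N31405 := ded_38_1 (flp_h L266179) L183066 (flp_h L182203) (flp_d L264868) L385462
theorem L385468 : sm ga N31241 = N45584 := rfl
theorem L385470 : sm gd N45584 = N31270 := ded_12_2 (flp_a L265086) (flp_d L264874) L385468
theorem L385473 : sm ge N31241 = N45585 := rfl
theorem L385475 : sm gb N45585 = N31242 := ded_21_1 (flp_e L264877) L264872 L385473
theorem L385477 : sm gj N45585 = N45585 := ded_42_2 (flp_e L385473) L264876 L385473
theorem L385478 : sm gd N45585 = N45585 := ded_34_1 (flp_e L385473) L264874 L182366 (flp_d L264874) L385473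
theorem L385479 : sm gi N31241 = N45586 := rfl
theorem L385481 : sm gb N45586 = N31243 := ded_26_1 (flp_i L264883) L264872 L385479
theorem L385483 : sm gd N45586 = N31271 := ded_39_1 (flp_i L265094) (flp_d L264874) L385479
theorem L385485 : sm gj N45586 = N45586 := ded_53_1 (flp_i L385479) L264876 L385479
theorem L385486 : sm gf N31242 = N45587 := rfl
theorem L385488 : sm gc N45587 = N31244 := ded_29_1 (flp_f L264890) (flp_c L264879) L385486
theorem L385492 : sm gi N31242 = N45588 := rfl
theorem L385494 : sm gc N45588 = N31245 := ded_33_1 (flp_i L264895) (flp_c L264879) L385492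
theorem L385496 : sm gd N45588 = N45588 := ded_39_1 (flp_i L385492) L264882 L385492
theorem L385497 : sm ge N45588 = N31243 := ded_44_1 (flp_i L264883) L264877 L385492
theorem L385499 : sm gj N45588 = N45588 := ded_53_1 (flp_i L385492) L264881 L385492
theorem L385500 : sm gh N31243 = N45589 := rfl
theorem L385502 : sm gc N45589 = N31246 := ded_32_1 (flp_h L264902) (flp_c L264885) L385500
theorem L385504 : sm gj N45589 = N45589 := ded_52_1 (flp_h L385500) L264889 L385500
theorem L385516 : sm gh N31245 = N45592 := rfl
theorem L385518 : sm ge N45592 = N31246 := ded_43_1 (flp_h L264902) (flp_e L264899) L385516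
theorem L385520 : sm gj N45592 = N45592 := ded_52_1 (flp_h L385516) L264901 L385516
theorem L385521 : sm gf N31247 = N45593 := rfl
theorem L385523 : sm gc N45593 = N45593 := ded_29_1 (flp_f L385521) L264909 L385521
theorem L385524 : sm gj N45593 = N31249 := ded_46_2 (flp_f L264923) (flp_j L264911) L385521
theorem L385526 : sm gh N45593 = N34549 := ded_47_2 (flp_f L292964) (flp_h L264913) L385521
theorem L385528 : sm gi N31247 = N45594 := rfl
theorem L385530 : sm gc N45594 = N45594 := ded_33_1 (flp_i L385528) L264909 L385528
theorem L385531 : sm ge N45594 = N31248 := ded_44_1 (flp_i L264915) L264907 L385528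
theorem L385533 : sm gg N45594 = N45594 := ded_51_1 (flp_i L385528) L264910 L385528
theorem L385534 : sm gj N45594 = N31250 := ded_53_1 (flp_i L264928) (flp_j L264911) L385528
theorem L385536 : sm gh N31248 = N45595 := rfl
theorem L385540 : sm gj N45595 = N31251 := ded_52_1 (flp_h L264935) (flp_j L264921) L385536
theorem L385542 : sm gd N45595 = N31417 := ded_38_1 (flp_h L266256) L183117 (flp_h L182235) (flp_d L264918) L385536
theorem L385544 : sm gi N45595 = N34551 := ded_54_2 (flp_h L292977) (flp_i L201513) (flp_h L182226) L264915 L385536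
theorem L385553 : sm gi N31249 = N45597 := rfl
theorem L385555 : sm gc N45597 = N45597 := ded_33_1 (flp_i L385553) L264925 L385553
theorem L385556 : sm gf N45597 = N31250 := ded_48_1 (flp_i L264928) L264923 L385553
theorem L385558 : sm gh N31250 = N45598 := rfl
theorem L385563 : sm gg N45598 = N31254 := ded_50_1 (flp_h L264959) (flp_g L264933) L385558
theorem L385565 : sm gi N45598 = N34554 := ded_54_2 (flp_h L292995) (flp_i L201524) (flp_h L182242) L264928 L385558
theorem L385567 : sm gj N31252 = N45599 := rfl
theorem L385570 : sm ge N45599 = N31255 := ded_42_1 (flp_j L264967) (flp_e L264947) L385567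
theorem L385582 : sm gh N31253 = N45601 := rfl
theorem L385587 : sm gf N45601 = N31254 := ded_47_1 (flp_h L264959) (flp_f L264956) L385582
theorem L385590 : sm gi N45601 = N34557 := ded_54_2 (flp_h L293015) (flp_i L201543) (flp_h L182255) L264951 L385582
theorem L385612 : sm gd N31257 = N45605 := rfl
theorem L385614 : sm gf N45605 = N31258 := ded_35_2 (flp_d L264986) (flp_f L264981) L385612
theorem L385617 : sm gi N45605 = N34561 := ded_39_2 (flp_d L293040) (flp_i L264984) L385612
theorem L385619 : sm gc N31258 = N45606 := rfl
theorem L385624 : sm gi N45606 = N34562 := ded_33_2 (flp_c L293046) (flp_i L264989) L385619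
theorem L385627 : sm gd N31259 = N45607 := rfl
theorem L385629 : sm gb N45607 = N31273 := ded_20_1 (flp_d L265110) (flp_b L264995) L385627
theorem L385631 : sm gf N45607 = N45607 := ded_35_2 (flp_d L385627) L264997 L385627
theorem L385632 : sm gg N45607 = N31260 := ded_36_2 (flp_d L265000) (flp_g L264998) L385627
theorem L385634 : sm gh N45607 = N31595 := ded_38_2 (flp_d L267756) (flp_h L184183) (flp_d L182298) L264993 L385627
theorem L385636 : sm gi N31259 = N45608 := rfl
theorem L385638 : sm gb N45608 = N31274 := ded_26_1 (flp_i L265118) (flp_b L264995) L385636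
theorem L385640 : sm gf N45608 = N45608 := ded_48_1 (flp_i L385636) L264997 L385636
theorem L385641 : sm gg N45608 = N31261 := ded_51_1 (flp_i L265010) (flp_g L264998) L385636
theorem L385643 : sm gh N45608 = N31430 := ded_54_1 (flp_i L266360) (flp_h L183197) (flp_i L182300) L264993 L385636
theorem L385645 : sm gc N31260 = N45609 := rfl
theorem L385647 : sm gf N45609 = N31265 := ded_29_2 (flp_c L265041) (flp_f L265004) L385645
theorem L385649 : sm gj N45609 = N31262 := ded_31_2 (flp_c L265020) (flp_j L265006) L385645
theorem L385651 : sm gh N45609 = N31597 := ded_32_2 (flp_c L267773) (flp_h L265008) L385645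
theorem L385653 : sm ge N31260 = N45610 := rfl
theorem L385655 : sm gb N45610 = N31276 := ded_21_1 (flp_e L265135) (flp_b L265002) L385653
theorem L385657 : sm gj N45610 = N31263 := ded_42_2 (flp_e L265026) (flp_j L265006) L385653
theorem L385659 : sm gh N45610 = N31598 := ded_43_2 (flp_e L267779) (flp_h L265008) L385653
theorem L385661 : sm gf N45610 = N45610 := ded_40_2 (flp_e L385653) L265004 L182334 (flp_f L265004) L385653
theorem L385662 : sm gi N31260 = N45611 := rfl
theorem L385664 : sm gb N45611 = N31277 := ded_26_1 (flp_i L265143) (flp_b L265002) L385662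
theorem L385666 : sm gd N45611 = N31261 := ded_39_1 (flp_i L265010) L265000 L385662
theorem L385668 : sm gf N45611 = N31266 := ded_48_1 (flp_i L265049) (flp_f L265004) L385662
theorem L385670 : sm gj N45611 = N31264 := ded_53_1 (flp_i L265033) (flp_j L265006) L385662
theorem L385672 : sm gb N31262 = N45612 := rfl
theorem L385674 : sm gf N45612 = N31267 := ded_22_2 (flp_b L265059) (flp_f L265022) L385672
theorem L385676 : sm gh N45612 = N31600 := ded_25_2 (flp_b L267797) (flp_h L265024) L385672
theorem L385678 : sm gc N45612 = N31278 := ded_19_2 (flp_b L265152) (flp_c L182412) (flp_b L182313) L265020 L385672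
theorem L385680 : sm ge N31262 = N45613 := rfl
theorem L385682 : sm gc N45613 = N31263 := ded_28_1 (flp_e L265026) L265020 L385680
theorem L385684 : sm gh N45613 = N31601 := ded_43_2 (flp_e L267803) (flp_h L265024) L385680
theorem L385686 : sm gf N45613 = N45613 := ded_40_2 (flp_e L385680) L265022 L182350 (flp_f L265022) L385680
theorem L385687 : sm gi N31262 = N45614 := rfl
theorem L385689 : sm gc N45614 = N31264 := ded_33_1 (flp_i L265033) L265020 L385687
theorem L385691 : sm gf N45614 = N31268 := ded_48_1 (flp_i L265068) (flp_f L265022) L385687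
theorem L385693 : sm gi N31263 = N45615 := rfl
theorem L385695 : sm gb N45615 = N31281 := ded_26_1 (flp_i L265173) (flp_b L265028) L385693
theorem L385697 : sm ge N45615 = N31264 := ded_44_1 (flp_i L265033) L265026 L385693
theorem L385699 : sm gf N45615 = N45615 := ded_48_1 (flp_i L385693) L265032 L385693
theorem L385700 : sm gh N31264 = N45616 := rfl
theorem L385702 : sm gb N45616 = N31282 := ded_25_1 (flp_h L265179) (flp_b L265035) L385700
theorem L385704 : sm gf N45616 = N31269 := ded_47_1 (flp_h L265075) (flp_f L265039) L385700
theorem L385706 : sm gd N45616 = N31438 := ded_38_1 (flp_h L266425) L183240 (flp_h L182325) (flp_d L265037) L385700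
theorem L385710 : sm gb N31265 = N45617 := rfl
theorem L385712 : sm ge N45617 = N45617 := ded_21_2 (flp_b L385710) L265043 L385710
theorem L385713 : sm gg N45617 = N45617 := ded_23_2 (flp_b L385710) L265044 L385710
theorem L385714 : sm gj N45617 = N31267 := ded_24_2 (flp_b L265059) (flp_j L265045) L385710
theorem L385716 : sm gh N45617 = N31605 := ded_25_2 (flp_b L267830) (flp_h L265047) L385710
theorem L385718 : sm gc N45617 = N31283 := ded_19_2 (flp_b L265188) (flp_c L182432) (flp_b L182329) L265041 L385710
theorem L385720 : sm gi N31265 = N45618 := rfl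
theorem L385722 : sm gc N45618 = N31266 := ded_33_1 (flp_i L265049) L265041 L385720
theorem L385724 : sm ge N45618 = N45618 := ded_44_1 (flp_i L385720) L265043 L385720
theorem L385725 : sm gg N45618 = N45618 := ded_51_1 (flp_i L385720) L265044 L385720
theorem L385726 : sm gj N45618 = N31268 := ded_53_1 (flp_i L265068) (flp_j L265045) L385720
theorem L385728 : sm gh N31266 = N45619 := rfl
theorem L385730 : sm gb N45619 = N31285 := ded_25_1 (flp_h L265205) (flp_b L265051) L385728
theorem L385736 : sm gd N45619 = N31441 := ded_38_1 (flp_h L266453) L183257 (flp_h L182346) (flp_d L265053) L385728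
theorem L385738 : sm gi N45619 = N31607 := ded_54_2 (flp_h L267846) (flp_i L184234) (flp_h L182335) L265049 L385728
theorem L385740 : sm ga N31267 = N45620 := rfl
theorem L385742 : sm gc N45620 = N31286 := ded_11_2 (flp_a L265216) (flp_c L265066) L385740
theorem L385744 : sm ge N45620 = N45620 := ded_13_2 (flp_a L385740) L265061 L385740
theorem L385745 : sm gg N45620 = N31270 := ded_15_2 (flp_a L265086) (flp_g L265062) L385740
theorem L385747 : sm gh N45620 = N31608 := ded_17_2 (flp_a L267856) (flp_h L265064) L385740
theorem L385749 : sm gi N31267 = N45621 := rfl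
theorem L385751 : sm gb N45621 = N31268 := ded_26_1 (flp_i L265068) L265059 L385749
theorem L385753 : sm gc N45621 = N31287 := ded_33_1 (flp_i L265224) (flp_c L265066) L385749
theorem L385755 : sm ge N45621 = N45621 := ded_44_1 (flp_i L385749) L265061 L385749
theorem L385756 : sm gg N45621 = N31271 := ded_51_1 (flp_i L265094) (flp_g L265062) L385749
theorem L385758 : sm gh N31268 = N45622 := rfl
theorem L385765 : sm gi N45622 = N31610 := ded_54_2 (flp_h L267872) (flp_i L184251) (flp_h L182353) L265068 L385758
theorem L385767 : sm gi N31270 = N45623 := rfl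
theorem L385769 : sm ga N45623 = N31271 := ded_18_1 (flp_i L265094) L265086 L385767
theorem L385771 : sm gc N45623 = N31289 := ded_33_1 (flp_i L265241) (flp_c L265088) L385767
theorem L385773 : sm ge N45623 = N45623 := ded_44_1 (flp_i L385767) L265090 L385767
theorem L385774 : sm gj N45623 = N45623 := ded_53_1 (flp_i L385767) L265091 L385767
theorem L385775 : sm gh N31271 = N45624 := rfl
theorem L385779 : sm gc N45624 = N31290 := ded_32_1 (flp_h L265248) (flp_c L265098) L385775
theorem L385783 : sm gi N45624 = N31612 := ded_54_2 (flp_h L267887) (flp_i L184273) (flp_h L182368) L265094 L385775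
theorem L385785 : sm gd N31272 = N45625 := rfl
theorem L385788 : sm gi N45625 = N31613 := ded_39_2 (flp_d L267895) (flp_i L265108) L385785
theorem L385790 : sm gc N45625 = N31447 := ded_27_1 (flp_d L266514) L183312 (flp_d L182384) (flp_c L265104) L385785
theorem L385792 : sm gc N31273 = N45626 := rfl
theorem L385796 : sm gg N45626 = N31275 := ded_30_2 (flp_c L265126) (flp_g L265114) L385792
theorem L385798 : sm gh N45626 = N31614 := ded_32_2 (flp_c L267900) (flp_h L265116) L385792
theorem L385800 : sm ge N31273 = N45627 := rfl
theorem L385803 : sm gg N45627 = N31276 := ded_41_2 (flp_e L265135) (flp_g L265114) L385800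
theorem L385805 : sm gh N45627 = N31615 := ded_43_2 (flp_e L267907) (flp_h L265116) L385800
theorem L385807 : sm gi N31273 = N45628 := rfl
theorem L385809 : sm ga N45628 = N45628 := ded_18_1 (flp_i L385807) L265112 L385807
theorem L385810 : sm gd N45628 = N31274 := ded_39_1 (flp_i L265118) L265110 L385807
theorem L385812 : sm gf N45628 = N45628 := ded_48_1 (flp_i L385807) L265113 L385807
theorem L385813 : sm gg N45628 = N31277 := ded_51_1 (flp_i L265143) (flp_g L265114) L385807
theorem L385815 : sm gb N31275 = N45629 := rfl
theorem L385817 : sm gf N45629 = N31283 := ded_22_2 (flp_b L265188) (flp_f L265129) L385815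
theorem L385819 : sm gj N45629 = N31278 := ded_24_2 (flp_b L265152) (flp_j L265131) L385815
theorem L385821 : sm gh N45629 = N31617 := ded_25_2 (flp_b L267921) (flp_h L265133) L385815
theorem L385823 : sm ge N31275 = N45630 := rfl
theorem L385826 : sm gc N45630 = N31276 := ded_28_1 (flp_e L265135) L265126 L385823
theorem L385828 : sm gj N45630 = N31279 := ded_42_2 (flp_e L265158) (flp_j L265131) L385823
theorem L385830 : sm gh N45630 = N31618 := ded_43_2 (flp_e L267928) (flp_h L265133) L385823
theorem L385833 : sm gi N31275 = N45631 := rfl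
theorem L385835 : sm ga N45631 = N45631 := ded_18_1 (flp_i L385833) L265128 L385833
theorem L385836 : sm gc N45631 = N31277 := ded_33_1 (flp_i L265143) L265126 L385833
theorem L385838 : sm gf N45631 = N31284 := ded_48_1 (flp_i L265196) (flp_f L265129) L385833
theorem L385840 : sm gj N45631 = N31280 := ded_53_1 (flp_i L265166) (flp_j L265131) L385833
theorem L385842 : sm gi N31276 = N45632 := rfl
theorem L385844 : sm ga N45632 = N45632 := ded_18_1 (flp_i L385842) L265137 L385842
theorem L385845 : sm ge N45632 = N31277 := ded_44_1 (flp_i L265143) L265135 L385842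
theorem L385847 : sm gf N45632 = N45632 := ded_48_1 (flp_i L385842) L265142 L385842
theorem L385848 : sm gj N45632 = N31281 := ded_53_1 (flp_i L265173) (flp_j L265138) L385842
theorem L385850 : sm gh N31277 = N45633 := rfl
theorem L385852 : sm ga N45633 = N45633 := ded_17_1 (flp_h L385850) L265145 L385850
theorem L385853 : sm gf N45633 = N31285 := ded_47_1 (flp_h L265205) (flp_f L265148) L385850
theorem L385855 : sm gj N45633 = N31282 := ded_52_1 (flp_h L265179) (flp_j L265150) L385850
theorem L385857 : sm gd N45633 = N31455 := ded_38_1 (flp_h L266579) L183354 (flp_h L182410) (flp_d L265146) L385850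
theorem L385859 : sm gi N45633 = N31621 := ded_54_2 (flp_h L267955) (flp_i L184318) (flp_h L182401) L265143 L385850
theorem L385861 : sm ga N31278 = N45634 := rfl
theorem L385863 : sm gf N45634 = N31286 := ded_14_2 (flp_a L265216) (flp_f L265154) L385861
theorem L385865 : sm gh N45634 = N31622 := ded_17_2 (flp_a L267964) (flp_h L265156) L385861
theorem L385867 : sm gb N45634 = N45634 := ded_10_2 (flp_a L385861) (flp_b L265152) L182414 L265152 L385861
theorem L385868 : sm ge N31278 = N45635 := rfl
theorem L385870 : sm gb N45635 = N31279 := ded_21_1 (flp_e L265158) L265152 L385868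
theorem L385872 : sm gh N45635 = N31623 := ded_43_2 (flp_e L267970) (flp_h L265156) L385868
theorem L385874 : sm gf N45635 = N45635 := ded_40_2 (flp_e L385868) L265154 L182452 (flp_f L265154) L385868
theorem L385875 : sm gi N31278 = N45636 := rfl
theorem L385877 : sm gb N45636 = N31280 := ded_26_1 (flp_i L265166) L265152 L385875
theorem L385879 : sm gf N45636 = N31287 := ded_48_1 (flp_i L265224) (flp_f L265154) L385875
theorem L385881 : sm gd N31279 = N45637 := rfl
theorem L385885 : sm gi N31279 = N45638 := rfl
theorem L385887 : sm ga N45638 = N45638 := ded_18_1 (flp_i L385885) L265160 L385885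
theorem L385888 : sm gc N45638 = N31281 := ded_33_1 (flp_i L265173) (flp_c L265161) L385885
theorem L385890 : sm ge N45638 = N31280 := ded_44_1 (flp_i L265166) L265158 L385885
theorem L385892 : sm gf N45638 = N45638 := ded_48_1 (flp_i L385885) L265165 L385885
theorem L385893 : sm gh N31280 = N45639 := rfl
theorem L385895 : sm ga N45639 = N45639 := ded_17_1 (flp_h L385893) L265168 L385893
theorem L385896 : sm gc N45639 = N31282 := ded_32_1 (flp_h L265179) (flp_c L265169) L385893
theorem L385898 : sm gf N45639 = N31288 := ded_47_1 (flp_h L265231) (flp_f L265171) L385893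
theorem L385900 : sm gi N45639 = N31627 := ded_54_2 (flp_h L267996) (flp_i L184338) (flp_h L182417) L265166 L385893
theorem L385902 : sm gh N31281 = N45640 := rfl
theorem L385904 : sm ga N45640 = N45640 := ded_17_1 (flp_h L385902) L265175 L385902
theorem L385905 : sm ge N45640 = N31282 := ded_43_1 (flp_h L265179) (flp_e L265176) L385902
theorem L385907 : sm gf N45640 = N45640 := ded_47_1 (flp_h L385902) L265178 L385902
theorem L385908 : sm gi N45640 = N31628 := ded_54_2 (flp_h L268003) (flp_i L184346) (flp_h L182422) L265173 L385902
theorem L385910 : sm ga N31283 = N45641 := rfl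
theorem L385912 : sm ge N45641 = N45641 := ded_13_2 (flp_a L385910) L265190 L385910
theorem L385913 : sm gg N45641 = N45641 := ded_15_2 (flp_a L385910) L265191 L385910
theorem L385914 : sm gj N45641 = N31286 := ded_16_2 (flp_a L265216) (flp_j L265192) L385910
theorem L385916 : sm gh N45641 = N31629 := ded_17_2 (flp_a L268009) (flp_h L265194) L385910
theorem L385918 : sm gb N45641 = N45641 := ded_10_2 (flp_a L385910) (flp_b L265188) L182434 L265188 L385910
theorem L385919 : sm gi N31283 = N45642 := rfl
theorem L385921 : sm gb N45642 = N31284 := ded_26_1 (flp_i L265196) L265188 L385919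
theorem L385923 : sm ge N45642 = N45642 := ded_44_1 (flp_i L385919) L265190 L385919
theorem L385924 : sm gg N45642 = N45642 := ded_51_1 (flp_i L385919) L265191 L385919
theorem L385925 : sm gj N45642 = N31287 := ded_53_1 (flp_i L265224) (flp_j L265192) L385919
theorem L385927 : sm gh N31284 = N45643 := rfl
theorem L385929 : sm ga N45643 = N45643 := ded_17_1 (flp_h L385927) L265198 L385927
theorem L385930 : sm gc N45643 = N31285 := ded_32_1 (flp_h L265205) (flp_c L265199) L385927
theorem L385932 : sm ge N45643 = N45643 := ded_43_1 (flp_h L385927) L265201 L385927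
theorem L385933 : sm gg N45643 = N45643 := ded_50_1 (flp_h L385927) L265202 L385927
theorem L385934 : sm gj N45643 = N31288 := ded_52_1 (flp_h L265231) (flp_j L265203) L385927
theorem L385936 : sm gi N45643 = N31631 := ded_54_2 (flp_h L268026) (flp_i L184367) (flp_h L182439) L265196 L385927
theorem L385938 : sm gi N31286 = N45644 := rfl
theorem L385940 : sm ga N45644 = N31287 := ded_18_1 (flp_i L265224) L265216 L385938
theorem L385942 : sm gb N45644 = N45644 := ded_26_1 (flp_i L385938) L265223 L385938
theorem L385943 : sm ge N45644 = N45644 := ded_44_1 (flp_i L385938) L265218 L385938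
theorem L385944 : sm gg N45644 = N31289 := ded_51_1 (flp_i L265241) (flp_g L265219) L385938
theorem L385946 : sm gh N31287 = N45645 := rfl
theorem L385948 : sm gb N45645 = N31288 := ded_25_1 (flp_h L265231) (flp_b L265226) L385946
theorem L385950 : sm ge N45645 = N45645 := ded_43_1 (flp_h L385946) L265228 L385946
theorem L385951 : sm gg N45645 = N31290 := ded_50_1 (flp_h L265248) (flp_g L265229) L385946
theorem L385953 : sm gi N45645 = N31633 := ded_54_2 (flp_h L268044) (flp_i L184393) (flp_h L182455) L265224 L385946
theorem L385955 : sm gd N31288 = N45646 := rfl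
theorem L385957 : sm ga N45646 = N45646 := ded_12_1 (flp_d L385955) L265233 L385955
theorem L385958 : sm gg N45646 = N31291 := ded_36_2 (flp_d L265256) (flp_g L265237) L385955
theorem L385960 : sm gi N45646 = N31634 := ded_39_2 (flp_d L268051) (flp_i L265239) L385955
theorem L385962 : sm gc N45646 = N31468 := ded_27_1 (flp_d L266691) L183445 (flp_d L182471) (flp_c L265234) L385955
theorem L385964 : sm gh N31289 = N45647 := rfl
theorem L385966 : sm ga N45647 = N31290 := ded_17_1 (flp_h L265248) (flp_a L265243) L385964
theorem L385968 : sm gb N45647 = N45647 := ded_25_1 (flp_h L385964) L265245 L385964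
theorem L385969 : sm ge N45647 = N45647 := ded_43_1 (flp_h L385964) L265246 L385964
theorem L385970 : sm gj N45647 = N45647 := ded_52_1 (flp_h L385964) L265247 L385964
theorem L385971 : sm gi N45647 = N31635 := ded_54_2 (flp_h L268059) (flp_i L184409) (flp_h L182479) L265241 L385964
theorem L385973 : sm gd N31290 = N45648 := rfl
theorem L385975 : sm gb N45648 = N31291 := ded_20_1 (flp_d L265256) (flp_b L265250) L385973
theorem L385977 : sm gj N45648 = N45648 := ded_37_2 (flp_d L385973) L265253 L385973
theorem L385978 : sm gi N45648 = N31636 := ded_39_2 (flp_d L268066) (flp_i L265254) L385973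
theorem L385980 : sm ge N31291 = N45649 := rfl
theorem L385982 : sm ga N45649 = N45649 := ded_13_1 (flp_e L385980) L265258 L385980
theorem L385983 : sm gc N45649 = N31471 := ded_28_1 (flp_e L266715) (flp_c L265262) L385980
theorem L385985 : sm gj N45649 = N45649 := ded_42_2 (flp_e L385980) L265259 L385980
theorem L385986 : sm gi N45649 = N31637 := ded_44_2 (flp_e L268072) (flp_i L265260) L385980
theorem L385988 : sm gd N45649 = N45649 := ded_34_1 (flp_e L385980) (flp_d L265256) L182493 L265256 L385980
theorem L385989 : sm gf N31292 = N45650 := rfl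
theorem L385991 : sm gb N45650 = N31638 := ded_22_1 (flp_f L268080) (flp_b L265266) L385989
theorem L385993 : sm gc N45650 = N31294 := ded_29_1 (flp_f L265282) (flp_c L265268) L385989
theorem L385996 : sm gj N31292 = N45651 := rfl
theorem L385998 : sm gb N45651 = N31639 := ded_24_1 (flp_j L268086) (flp_b L265266) L385996
theorem L386000 : sm gc N45651 = N31295 := ded_31_1 (flp_j L265288) (flp_c L265268) L385996
theorem L386006 : sm gh N31292 = N45652 := rfl
theorem L386010 : sm gc N45652 = N31296 := ded_32_1 (flp_h L265297) (flp_c L265268) L386006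
theorem L386012 : sm ge N45652 = N34594 := ded_43_1 (flp_h L293342) (flp_e L265271) L386006
theorem L386014 : sm gg N45652 = N31293 := ded_50_1 (flp_h L265273) L265264 L386006
theorem L386016 : sm gd N31293 = N45653 := rfl
theorem L386018 : sm gb N45653 = N31641 := ded_20_1 (flp_d L268104) (flp_b L265275) L386016
theorem L386022 : sm gi N31293 = N45654 := rfl
theorem L386024 : sm gb N45654 = N31642 := ded_26_1 (flp_i L268109) (flp_b L265275) L386022
theorem L386026 : sm gc N45654 = N31298 := ded_33_1 (flp_i L265312) (flp_c L265277) L386022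
theorem L386028 : sm ge N45654 = N34596 := ded_44_1 (flp_i L293358) (flp_e L265279) L386022
theorem L386031 : sm ge N31294 = N45655 := rfl
theorem L386033 : sm gb N45655 = N31324 := ded_21_1 (flp_e L265517) (flp_b L265284) L386031
theorem L386035 : sm gf N45655 = N34597 := ded_40_2 (flp_e L293366) (flp_f L201836) (flp_e L182511) L265282 L386031
theorem L386037 : sm gj N31294 = N45656 := rfl
theorem L386039 : sm gb N45656 = N31325 := ded_24_1 (flp_j L265525) (flp_b L265284) L386037
theorem L386041 : sm gd N45656 = N31299 := ded_37_1 (flp_j L265319) (flp_d L265286) L386037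
theorem L386043 : sm gf N45656 = N31295 := ded_46_1 (flp_j L265288) L265282 L386037
theorem L386045 : sm gh N31294 = N45657 := rfl
theorem L386047 : sm gb N45657 = N31326 := ded_25_1 (flp_h L265535) (flp_b L265284) L386045
theorem L386049 : sm gf N45657 = N31296 := ded_47_1 (flp_h L265297) L265282 L386045
theorem L386051 : sm gh N31295 = N45658 := rfl
theorem L386053 : sm gb N45658 = N31327 := ded_25_1 (flp_h L265543) (flp_b L265290) L386051
theorem L386055 : sm ge N45658 = N34600 := ded_43_1 (flp_h L293386) (flp_e L265294) L386051
theorem L386057 : sm gg N45658 = N45658 := ded_50_1 (flp_h L386051) L265296 L386051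
theorem L386058 : sm gj N45658 = N31296 := ded_52_1 (flp_h L265297) L265288 L386051
theorem L386060 : sm gd N31296 = N45659 := rfl
theorem L386062 : sm gb N45659 = N31328 := ded_20_1 (flp_d L265554) (flp_b L265299) L386060
theorem L386064 : sm gg N45659 = N31297 := ded_36_2 (flp_d L265305) (flp_g L265303) L386060
theorem L386068 : sm gi N31296 = N45660 := rfl
theorem L386070 : sm gb N45660 = N31329 := ded_26_1 (flp_i L265562) (flp_b L265299) L386068
theorem L386072 : sm ge N45660 = N34602 := ded_44_1 (flp_i L293401) (flp_e L265301) L386068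
theorem L386074 : sm gg N45660 = N31298 := ded_51_1 (flp_i L265312) (flp_g L265303) L386068
theorem L386081 : sm ge N31297 = N45662 := rfl
theorem L386083 : sm gb N45662 = N31331 := ded_21_1 (flp_e L265581) (flp_b L265307) L386081
theorem L386086 : sm gh N45662 = N31305 := ded_43_2 (flp_e L265362) (flp_h L265310) L386081
theorem L386090 : sm gi N31297 = N45663 := rfl
theorem L386092 : sm gb N45663 = N31332 := ded_26_1 (flp_i L265590) (flp_b L265307) L386090
theorem L386094 : sm gd N45663 = N31298 := ded_39_1 (flp_i L265312) L265305 L386090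
theorem L386097 : sm gg N31299 = N45664 := rfl
theorem L386099 : sm gb N45664 = N31333 := ded_23_1 (flp_g L265597) (flp_b L265321) L386097
theorem L386101 : sm gc N45664 = N45664 := ded_30_1 (flp_g L386097) L265323 L386097
theorem L386102 : sm gf N45664 = N45664 := ded_45_1 (flp_g L386097) L265324 L182532 (flp_f L265324) L386097
theorem L386103 : sm gh N31299 = N45665 := rfl
theorem L386105 : sm gb N45665 = N31334 := ded_25_1 (flp_h L265604) (flp_b L265321) L386103
theorem L386110 : sm gj N45665 = N31300 := ded_52_1 (flp_h L265326) L265319 L386103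
theorem L386112 : sm gd N31300 = N45666 := rfl
theorem L386114 : sm gb N45666 = N31335 := ded_20_1 (flp_d L265614) (flp_b L265328) L386112
theorem L386116 : sm gf N45666 = N31302 := ded_35_2 (flp_d L265343) (flp_f L265331) L386112
theorem L386118 : sm gi N31300 = N45667 := rfl
theorem L386120 : sm gb N45667 = N31336 := ded_26_1 (flp_i L265620) (flp_b L265328) L386118
theorem L386123 : sm gf N45667 = N31303 := ded_48_1 (flp_i L265349) (flp_f L265331) L386118
theorem L386125 : sm gd N31301 = N45668 := rfl
theorem L386127 : sm gb N45668 = N31337 := ded_20_1 (flp_d L265628) (flp_b L265335) L386125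
theorem L386130 : sm gj N45668 = N31302 := ded_37_2 (flp_d L265343) (flp_j L265341) L386125
theorem L386132 : sm gi N31301 = N45669 := rfl
theorem L386134 : sm gb N45669 = N31338 := ded_26_1 (flp_i L265635) (flp_b L265335) L386132
theorem L386137 : sm ge N45669 = N31308 := ded_44_1 (flp_i L265385) (flp_e L265338) L386132
theorem L386142 : sm gc N31302 = N45670 := rfl
theorem L386144 : sm gg N45670 = N31304 := ded_30_2 (flp_c L265358) (flp_g L265347) L386142
theorem L386155 : sm gi N31302 = N45672 := rfl
theorem L386157 : sm gb N45672 = N31341 := ded_26_1 (flp_i L265662) (flp_b L265345) L386155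
theorem L386159 : sm gd N45672 = N31303 := ded_39_1 (flp_i L265349) L265343 L386155
theorem L386163 : sm gb N31304 = N45673 := rfl
theorem L386167 : sm gc N45673 = N31342 := ded_19_2 (flp_b L265670) (flp_c L182730) (flp_b L182544) L265358 L386163
theorem L386187 : sm gi N31305 = N45677 := rfl
theorem L386189 : sm gb N45677 = N31346 := ded_26_1 (flp_i L265700) (flp_b L265364) L386187
theorem L386193 : sm ge N45677 = N31306 := ded_44_1 (flp_i L265369) L265362 L386187
theorem L386196 : sm gh N31306 = N45678 := rfl
theorem L386198 : sm gb N45678 = N31347 := ded_25_1 (flp_h L265709) (flp_b L265371) L386196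
theorem L386201 : sm gc N31307 = N45679 := rfl
theorem L386204 : sm gj N45679 = N31309 := ded_31_2 (flp_c L265393) (flp_j L265381) L386201
theorem L386206 : sm gh N45679 = N34620 := ded_32_2 (flp_c L293542) (flp_h L265383) L386201
theorem L386239 : sm gi N31309 = N45683 := rfl
theorem L386243 : sm gc N45683 = N31311 := ded_33_1 (flp_i L265410) L265393 L386239
theorem L386348 : sm gi N31317 = N45696 := rfl
theorem L386352 : sm gd N45696 = N31319 := ded_39_1 (flp_i L265477) L265462 L386348
theorem L386373 : sm gh N31319 = N45699 := rfl
theorem L386377 : sm gc N45699 = N31323 := ded_32_1 (flp_h L265508) (flp_c L265481) L386373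
theorem L386405 : sm gh N31322 = N45703 := rfl
theorem L386409 : sm gf N45703 = N31323 := ded_47_1 (flp_h L265508) (flp_f L265505) L386405
theorem L386412 : sm gi N45703 = N34644 := ded_54_2 (flp_h L293729) (flp_i L202049) (flp_h L182626) L265501 L386405
theorem L386421 : sm gj N31324 = N45705 := rfl
theorem L386423 : sm ga N45705 = N31374 := ded_16_1 (flp_j L265967) (flp_a L265519) L386421
theorem L386425 : sm gc N45705 = N31662 := ded_31_1 (flp_j L268280) (flp_c L265521) L386421
theorem L386427 : sm ge N45705 = N31325 := ded_42_1 (flp_j L265525) L265517 L386421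
theorem L386431 : sm gh N31324 = N45706 := rfl
theorem L386433 : sm ga N45706 = N31375 := ded_17_1 (flp_h L265975) (flp_a L265519) L386431
theorem L386435 : sm gc N45706 = N31663 := ded_32_1 (flp_h L268289) (flp_c L265521) L386431
theorem L386437 : sm ge N45706 = N31326 := ded_43_1 (flp_h L265535) L265517 L386431
theorem L386439 : sm gf N45706 = N34647 := ded_47_1 (flp_h L293750) (flp_f L265523) L386431
theorem L386441 : sm gg N31325 = N45707 := rfl
theorem L386443 : sm ga N45707 = N31376 := ded_15_1 (flp_g L265983) (flp_a L265527) L386441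
theorem L386445 : sm gc N45707 = N31664 := ded_30_1 (flp_g L268297) (flp_c L265529) L386441
theorem L386447 : sm gd N45707 = N31333 := ded_36_1 (flp_g L265597) (flp_d L265531) L386441
theorem L386449 : sm gf N45707 = N45707 := ded_45_1 (flp_g L386441) L265533 L182660 (flp_f L265533) L386441
theorem L386450 : sm gh N31325 = N45708 := rfl
theorem L386452 : sm ga N45708 = N31377 := ded_17_1 (flp_h L265990) (flp_a L265527) L386450
theorem L386454 : sm gc N45708 = N31665 := ded_32_1 (flp_h L268304) (flp_c L265529) L386450
theorem L386456 : sm gf N45708 = N31327 := ded_47_1 (flp_h L265543) (flp_f L265533) L386450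
theorem L386458 : sm gj N45708 = N31326 := ded_52_1 (flp_h L265535) L265525 L386450
theorem L386460 : sm gd N31326 = N45709 := rfl
theorem L386462 : sm ga N45709 = N31378 := ded_12_1 (flp_d L265998) (flp_a L265537) L386460
theorem L386464 : sm gf N45709 = N31328 := ded_35_2 (flp_d L265554) (flp_f L265541) L386460
theorem L386466 : sm gh N45709 = N31335 := ded_38_2 (flp_d L265614) (flp_h L182695) (flp_d L182648) L265535 L386460
theorem L386468 : sm gi N31326 = N45710 := rfl
theorem L386470 : sm ga N45710 = N31379 := ded_18_1 (flp_i L266004) (flp_a L265537) L386468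
theorem L386472 : sm gc N45710 = N31667 := ded_33_1 (flp_i L268320) (flp_c L265539) L386468
theorem L386474 : sm gf N45710 = N31329 := ded_48_1 (flp_i L265562) (flp_f L265541) L386468
theorem L386476 : sm gd N31327 = N45711 := rfl
theorem L386478 : sm ga N45711 = N31380 := ded_12_1 (flp_d L266010) (flp_a L265545) L386476
theorem L386480 : sm gg N45711 = N45711 := ded_36_2 (flp_d L386476) L265551 L386476
theorem L386481 : sm gj N45711 = N31328 := ded_37_2 (flp_d L265554) (flp_j L265552) L386476
theorem L386483 : sm gh N45711 = N31337 := ded_38_2 (flp_d L265628) (flp_h L182703) (flp_d L182656) L265543 L386476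
theorem L386485 : sm gi N31327 = N45712 := rfl
theorem L386487 : sm ga N45712 = N31381 := ded_18_1 (flp_i L266017) (flp_a L265545) L386485
theorem L386489 : sm gc N45712 = N31669 := ded_33_1 (flp_i L268336) (flp_c L265547) L386485
theorem L386491 : sm ge N45712 = N34653 := ded_44_1 (flp_i L293808) (flp_e L265549) L386485
theorem L386493 : sm gg N45712 = N45712 := ded_51_1 (flp_i L386485) L265551 L386485
theorem L386494 : sm gj N45712 = N31329 := ded_53_1 (flp_i L265562) (flp_j L265552) L386485
theorem L386496 : sm gc N31328 = N45713 := rfl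
theorem L386498 : sm ga N45713 = N31382 := ded_11_1 (flp_c L266026) (flp_a L265556) L386496
theorem L386500 : sm gg N45713 = N31330 := ded_30_2 (flp_c L265572) (flp_g L265558) L386496
theorem L386502 : sm gh N45713 = N31339 := ded_32_2 (flp_c L265646) (flp_h L265560) L386496
theorem L386506 : sm ge N31328 = N45714 := rfl
theorem L386508 : sm ga N45714 = N31383 := ded_13_1 (flp_e L266034) (flp_a L265556) L386506
theorem L386512 : sm gh N45714 = N31340 := ded_43_2 (flp_e L265654) (flp_h L265560) L386506
theorem L386514 : sm gd N45714 = N34654 := ded_34_1 (flp_e L293817) (flp_d L202099) (flp_e L182667) L265554 L386506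
theorem L386516 : sm gi N31328 = N45715 := rfl
theorem L386518 : sm ga N45715 = N31384 := ded_18_1 (flp_i L266042) (flp_a L265556) L386516
theorem L386520 : sm gd N45715 = N31329 := ded_39_1 (flp_i L265562) L265554 L386516
theorem L386522 : sm gg N45715 = N31332 := ded_51_1 (flp_i L265590) (flp_g L265558) L386516
theorem L386524 : sm gb N31330 = N45716 := rfl
theorem L386526 : sm gd N45716 = N31672 := ded_20_2 (flp_b L268363) (flp_d L265579) L386524
theorem L386529 : sm gh N45716 = N31342 := ded_25_2 (flp_b L265670) (flp_h L265577) L386524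
theorem L386531 : sm ge N31330 = N45717 := rfl
theorem L386533 : sm ga N45717 = N31386 := ded_13_1 (flp_e L266055) (flp_a L265574) L386531
theorem L386535 : sm gc N45717 = N31331 := ded_28_1 (flp_e L265581) L265572 L386531
theorem L386541 : sm gi N31330 = N45718 := rfl
theorem L386543 : sm ga N45718 = N31387 := ded_18_1 (flp_i L266063) (flp_a L265574) L386541
theorem L386545 : sm gc N45718 = N31332 := ded_33_1 (flp_i L265590) L265572 L386541
theorem L386550 : sm gf N31331 = N45719 := rfl
theorem L386552 : sm ga N45719 = N31388 := ded_14_1 (flp_f L266070) (flp_a L265583) L386550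
theorem L386554 : sm gd N45719 = N34656 := ded_35_1 (flp_f L293835) (flp_d L265588) L386550
theorem L386559 : sm gi N31331 = N45720 := rfl
theorem L386561 : sm ga N45720 = N31389 := ded_18_1 (flp_i L266077) (flp_a L265583) L386559
theorem L386563 : sm gd N45720 = N34657 := ded_39_1 (flp_i L293844) (flp_d L265588) L386559
theorem L386565 : sm ge N45720 = N31332 := ded_44_1 (flp_i L265590) L265581 L386559
theorem L386568 : sm gh N31332 = N45721 := rfl
theorem L386570 : sm ga N45721 = N31390 := ded_17_1 (flp_h L266084) (flp_a L265592) L386568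
theorem L386572 : sm gj N45721 = N45721 := ded_52_1 (flp_h L386568) L265596 L386568
theorem L386573 : sm gi N45721 = N31347 := ded_54_2 (flp_h L265709) (flp_i L182744) (flp_h L182676) L265590 L386568
theorem L386575 : sm gh N31333 = N45722 := rfl
theorem L386577 : sm ga N45722 = N31391 := ded_17_1 (flp_h L266089) (flp_a L265599) L386575
theorem L386579 : sm gc N45722 = N31360 := ded_32_1 (flp_h L265831) (flp_c L265601) L386575
theorem L386581 : sm gf N45722 = N45722 := ded_47_1 (flp_h L386575) L265603 L386575
theorem L386582 : sm gg N45722 = N31334 := ded_50_1 (flp_h L265604) L265597 L386575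
theorem L386584 : sm gd N31334 = N45723 := rfl
theorem L386586 : sm ga N45723 = N31392 := ded_12_1 (flp_d L266096) (flp_a L265606) L386584
theorem L386588 : sm gf N45723 = N31337 := ded_35_2 (flp_d L265628) (flp_f L265610) L386584
theorem L386590 : sm gj N45723 = N31335 := ded_37_2 (flp_d L265614) (flp_j L265612) L386584
theorem L386592 : sm gi N31334 = N45724 := rfl
theorem L386594 : sm ga N45724 = N31393 := ded_18_1 (flp_i L266102) (flp_a L265606) L386592
theorem L386596 : sm gc N45724 = N31362 := ded_33_1 (flp_i L265850) (flp_c L265608) L386592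
theorem L386598 : sm gf N45724 = N31338 := ded_48_1 (flp_i L265635) (flp_f L265610) L386592
theorem L386600 : sm gj N45724 = N31336 := ded_53_1 (flp_i L265620) (flp_j L265612) L386592
theorem L386602 : sm gc N31335 = N45725 := rfl
theorem L386604 : sm ga N45725 = N31394 := ded_11_1 (flp_c L266110) (flp_a L265616) L386602
theorem L386606 : sm gf N45725 = N31339 := ded_29_2 (flp_c L265646) (flp_f L265618) L386602
theorem L386608 : sm gd N45725 = N31363 := ded_27_2 (flp_c L265859) (flp_d L182867) (flp_c L182699) L265614 L386602
theorem L386610 : sm ge N31335 = N45726 := rfl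
theorem L386612 : sm ga N45726 = N31395 := ded_13_1 (flp_e L266116) (flp_a L265616) L386610
theorem L386614 : sm gi N31335 = N45727 := rfl
theorem L386616 : sm ga N45727 = N31396 := ded_18_1 (flp_i L266118) (flp_a L265616) L386614
theorem L386618 : sm gd N45727 = N31336 := ded_39_1 (flp_i L265620) L265614 L386614
theorem L386620 : sm gf N45727 = N31341 := ded_48_1 (flp_i L265662) (flp_f L265618) L386614
theorem L386622 : sm gc N31337 = N45728 := rfl
theorem L386624 : sm ga N45728 = N31397 := ded_11_1 (flp_c L266124) (flp_a L265630) L386622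
theorem L386626 : sm gg N45728 = N45728 := ded_30_2 (flp_c L386622) L265632 L386622
theorem L386627 : sm gj N45728 = N31339 := ded_31_2 (flp_c L265646) (flp_j L265633) L386622
theorem L386629 : sm gd N45728 = N31366 := ded_27_2 (flp_c L265885) (flp_d L182883) (flp_c L182707) L265628 L386622
theorem L386631 : sm ge N31337 = N45729 := rfl
theorem L386633 : sm ga N45729 = N31398 := ded_13_1 (flp_e L266131) (flp_a L265630) L386631
theorem L386638 : sm gd N45729 = N31348 := ded_34_1 (flp_e L265714) (flp_d L182751) (flp_e L182709) L265628 L386631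
theorem L386640 : sm gi N31337 = N45730 := rfl
theorem L386642 : sm ga N45730 = N31399 := ded_18_1 (flp_i L266138) (flp_a L265630) L386640
theorem L386644 : sm gd N45730 = N31338 := ded_39_1 (flp_i L265635) L265628 L386640
theorem L386646 : sm gg N45730 = N45730 := ded_51_1 (flp_i L386640) L265632 L386640
theorem L386647 : sm gj N45730 = N31341 := ded_53_1 (flp_i L265662) (flp_j L265633) L386640
theorem L386649 : sm gb N31339 = N45731 := rfl
theorem L386651 : sm gd N45731 = N31368 := ded_20_2 (flp_b L265908) (flp_d L265652) L386649
theorem L386653 : sm gg N45731 = N31342 := ded_23_2 (flp_b L265670) (flp_g L265650) L386649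
theorem L386655 : sm ge N31339 = N45732 := rfl
theorem L386657 : sm ga N45732 = N31401 := ded_13_1 (flp_e L266151) (flp_a L265648) L386655
theorem L386659 : sm gc N45732 = N31340 := ded_28_1 (flp_e L265654) L265646 L386655
theorem L386665 : sm gi N31339 = N45733 := rfl
theorem L386667 : sm ga N45733 = N31402 := ded_18_1 (flp_i L266159) (flp_a L265648) L386665
theorem L386669 : sm gc N45733 = N31341 := ded_33_1 (flp_i L265662) L265646 L386665
theorem L386671 : sm gd N45733 = N31369 := ded_39_1 (flp_i L265917) (flp_d L265652) L386665
theorem L386673 : sm gg N45733 = N31344 := ded_51_1 (flp_i L265684) (flp_g L265650) L386665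
theorem L386675 : sm gf N31340 = N45734 := rfl
theorem L386677 : sm ga N45734 = N31403 := ded_14_1 (flp_f L266167) (flp_a L265656) L386675
theorem L386681 : sm gi N31340 = N45735 := rfl
theorem L386683 : sm ga N45735 = N31404 := ded_18_1 (flp_i L266171) (flp_a L265656) L386681
theorem L386685 : sm gd N45735 = N31351 := ded_39_1 (flp_i L265744) (flp_d L265660) L386681
theorem L386687 : sm ge N45735 = N31341 := ded_44_1 (flp_i L265662) L265654 L386681
theorem L386691 : sm gh N31341 = N45736 := rfl
theorem L386693 : sm ga N45736 = N31405 := ded_17_1 (flp_h L266179) (flp_a L265664) L386691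
theorem L386695 : sm gg N45736 = N31347 := ded_50_1 (flp_h L265709) (flp_g L265668) L386691
theorem L386697 : sm ga N31342 = N45737 := rfl
theorem L386699 : sm gd N45737 = N31371 := ded_12_2 (flp_a L265938) (flp_d L265672) L386697
theorem L386701 : sm gj N45737 = N45737 := ded_16_2 (flp_a L386697) L265674 L386697
theorem L386702 : sm gb N45737 = N31406 := ded_10_2 (flp_a L266183) (flp_b L183070) (flp_a L182732) L265670 L386697
theorem L386704 : sm ge N31342 = N45738 := rfl
theorem L386706 : sm gb N45738 = N31343 := ded_21_1 (flp_e L265675) L265670 L386704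
theorem L386711 : sm gi N31342 = N45739 := rfl
theorem L386713 : sm gb N45739 = N31344 := ded_26_1 (flp_i L265684) L265670 L386711
theorem L386715 : sm gd N45739 = N31372 := ded_39_1 (flp_i L265948) (flp_d L265672) L386711
theorem L386717 : sm gj N45739 = N45739 := ded_53_1 (flp_i L386711) L265674 L386711
theorem L386718 : sm gf N31343 = N45740 := rfl
theorem L386720 : sm ga N45740 = N31409 := ded_14_1 (flp_f L266202) (flp_a L265677) L386718
theorem L386724 : sm gd N45740 = N32160 := ded_35_1 (flp_f L272429) (flp_d L265682) L386718
theorem L386727 : sm gi N31343 = N45741 := rfl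
theorem L386729 : sm ga N45741 = N31410 := ded_18_1 (flp_i L266209) (flp_a L265677) L386727
theorem L386731 : sm gc N45741 = N31346 := ded_33_1 (flp_i L265700) (flp_c L265679) L386727
theorem L386733 : sm gd N45741 = N32161 := ded_39_1 (flp_i L272438) (flp_d L265682) L386727
theorem L386735 : sm ge N45741 = N31344 := ded_44_1 (flp_i L265684) L265675 L386727
theorem L386738 : sm gh N31344 = N45742 := rfl
theorem L386740 : sm ga N45742 = N31411 := ded_17_1 (flp_h L266218) (flp_a L265686) L386738
theorem L386742 : sm gc N45742 = N31347 := ded_32_1 (flp_h L265709) (flp_c L265688) L386738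
theorem L386744 : sm gj N45742 = N45742 := ded_52_1 (flp_h L386738) L265692 L386738
theorem L386745 : sm gg N31345 = N45743 := rfl
theorem L386747 : sm ga N45743 = N31412 := ded_15_1 (flp_g L266223) (flp_a L265695) L386745
theorem L386749 : sm gd N45743 = N31353 := ded_36_1 (flp_g L265764) (flp_d L265697) L386745
theorem L386751 : sm gi N31345 = N45744 := rfl
theorem L386753 : sm ga N45744 = N31413 := ded_18_1 (flp_i L266227) (flp_a L265695) L386751
theorem L386755 : sm gd N45744 = N31354 := ded_39_1 (flp_i L265774) (flp_d L265697) L386751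
theorem L386760 : sm gh N31346 = N45745 := rfl
theorem L386762 : sm ga N45745 = N31414 := ded_17_1 (flp_h L266234) (flp_a L265702) L386760
theorem L386764 : sm ge N45745 = N31347 := ded_43_1 (flp_h L265709) (flp_e L265706) L386760
theorem L386767 : sm gf N31348 = N45746 := rfl
theorem L386769 : sm ga N45746 = N31415 := ded_14_1 (flp_f L266239) (flp_a L265716) L386767
theorem L386777 : sm gi N31348 = N45747 := rfl
theorem L386779 : sm ga N45747 = N31416 := ded_18_1 (flp_i L266247) (flp_a L265716) L386777
theorem L386781 : sm gc N45747 = N32167 := ded_33_1 (flp_i L272490) (flp_c L265718) L386777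
theorem L386783 : sm ge N45747 = N31349 := ded_44_1 (flp_i L265725) L265714 L386777
theorem L386786 : sm gj N45747 = N31351 := ded_53_1 (flp_i L265744) (flp_j L265721) L386777
theorem L386799 : sm gg N31350 = N45749 := rfl
theorem L386801 : sm ga N45749 = N31418 := ded_15_1 (flp_g L266265) (flp_a L265738) L386799
theorem L386803 : sm gc N45749 = N32169 := ded_30_1 (flp_g L272509) (flp_c L265740) L386799
theorem L386809 : sm gi N31350 = N45750 := rfl
theorem L386811 : sm ga N45750 = N31419 := ded_18_1 (flp_i L266273) (flp_a L265738) L386809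
theorem L386815 : sm gf N45750 = N31351 := ded_48_1 (flp_i L265744) L265736 L386809
theorem L386817 : sm gh N31351 = N45751 := rfl
theorem L386825 : sm gg N45751 = N31355 := ded_50_1 (flp_h L265785) (flp_g L265752) L386817
theorem L386829 : sm gj N31353 = N45752 := rfl
theorem L386831 : sm ga N45752 = N31421 := ded_16_1 (flp_j L266289) (flp_a L265766) L386829
theorem L386837 : sm gh N45752 = N34678 := ded_52_2 (flp_j L294032) (flp_h L265772) L386829
theorem L386840 : sm gi N31353 = N45753 := rfl
theorem L386842 : sm ga N45753 = N31422 := ded_18_1 (flp_i L266298) (flp_a L265766) L386840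
theorem L386844 : sm gc N45753 = N32173 := ded_33_1 (flp_i L272542) (flp_c L265768) L386840
theorem L386846 : sm ge N45753 = N31357 := ded_44_1 (flp_i L265805) (flp_e L265770) L386840
theorem L386848 : sm gg N45753 = N31354 := ded_51_1 (flp_i L265774) L265764 L386840
theorem L386870 : sm gi N31356 = N45756 := rfl
theorem L386872 : sm ga N45756 = N31425 := ded_18_1 (flp_i L266322) (flp_a L265798) L386870
theorem L386877 : sm gj N45756 = N31357 := ded_53_1 (flp_i L265805) L265796 L386870
theorem L386907 : sm gd N31360 = N45760 := rfl
theorem L386909 : sm ga N45760 = N31429 := ded_12_1 (flp_d L266351) (flp_a L265833) L386907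
theorem L386911 : sm gb N45760 = N45760 := ded_20_1 (flp_d L386907) L265835 L386907
theorem L386912 : sm gf N45760 = N45760 := ded_35_2 (flp_d L386907) L265836 L386907
theorem L386913 : sm gg N45760 = N31361 := ded_36_2 (flp_d L265839) (flp_g L265837) L386907
theorem L386915 : sm gh N45760 = N31689 := ded_38_2 (flp_d L268505) (flp_h L184718) (flp_d L182855) L265831 L386907
theorem L386917 : sm gi N31360 = N45761 := rfl
theorem L386919 : sm ga N45761 = N31430 := ded_18_1 (flp_i L266360) (flp_a L265833) L386917
theorem L386921 : sm gb N45761 = N45761 := ded_26_1 (flp_i L386917) L265835 L386917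
theorem L386922 : sm gf N45761 = N45761 := ded_48_1 (flp_i L386917) L265836 L386917
theorem L386923 : sm gg N45761 = N31362 := ded_51_1 (flp_i L265850) (flp_g L265837) L386917
theorem L386925 : sm gc N31361 = N45762 := rfl
theorem L386927 : sm ga N45762 = N31431 := ded_11_1 (flp_c L266367) (flp_a L265841) L386925
theorem L386929 : sm gf N45762 = N31366 := ded_29_2 (flp_c L265885) (flp_f L265844) L386925
theorem L386931 : sm gj N45762 = N31363 := ded_31_2 (flp_c L265859) (flp_j L265846) L386925
theorem L386933 : sm gh N45762 = N31691 := ded_32_2 (flp_c L268522) (flp_h L265848) L386925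
theorem L386935 : sm ge N31361 = N45763 := rfl
theorem L386937 : sm ga N45763 = N31432 := ded_13_1 (flp_e L266375) (flp_a L265841) L386935
theorem L386939 : sm gb N45763 = N45763 := ded_21_1 (flp_e L386935) L265843 L386935
theorem L386940 : sm gj N45763 = N31364 := ded_42_2 (flp_e L265867) (flp_j L265846) L386935
theorem L386942 : sm gh N45763 = N31692 := ded_43_2 (flp_e L268530) (flp_h L265848) L386935
theorem L386944 : sm gf N45763 = N32183 := ded_40_2 (flp_e L272635) L187558 (flp_e L182891) (flp_f L265844) L386935
theorem L386946 : sm gi N31361 = N45764 := rfl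
theorem L386948 : sm ga N45764 = N31433 := ded_18_1 (flp_i L266385) (flp_a L265841) L386946
theorem L386950 : sm gb N45764 = N45764 := ded_26_1 (flp_i L386946) L265843 L386946
theorem L386951 : sm gd N45764 = N31362 := ded_39_1 (flp_i L265850) L265839 L386946
theorem L386953 : sm gf N45764 = N31367 := ded_48_1 (flp_i L265896) (flp_f L265844) L386946
theorem L386955 : sm gj N45764 = N31365 := ded_53_1 (flp_i L265876) (flp_j L265846) L386946
theorem L386957 : sm gb N31363 = N45765 := rfl
theorem L386959 : sm gf N45765 = N31368 := ded_22_2 (flp_b L265908) (flp_f L265863) L386957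
theorem L386961 : sm gh N45765 = N31694 := ded_25_2 (flp_b L268551) (flp_h L265865) L386957
theorem L386963 : sm gc N45765 = N45765 := ded_19_2 (flp_b L386957) (flp_c L265859) L182871 L265859 L386957
theorem L386964 : sm ge N31363 = N45766 := rfl
theorem L386966 : sm ga N45766 = N31435 := ded_13_1 (flp_e L266403) (flp_a L265861) L386964
theorem L386968 : sm gc N45766 = N31364 := ded_28_1 (flp_e L265867) L265859 L386964
theorem L386970 : sm gh N45766 = N31695 := ded_43_2 (flp_e L268556) (flp_h L265865) L386964
theorem L386972 : sm gf N45766 = N32186 := ded_40_2 (flp_e L272663) L187578 (flp_e L182909) (flp_f L265863) L386964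
theorem L386974 : sm gi N31363 = N45767 := rfl
theorem L386976 : sm ga N45767 = N31436 := ded_18_1 (flp_i L266411) (flp_a L265861) L386974
theorem L386978 : sm gc N45767 = N31365 := ded_33_1 (flp_i L265876) L265859 L386974
theorem L386980 : sm gf N45767 = N31369 := ded_48_1 (flp_i L265917) (flp_f L265863) L386974
theorem L386982 : sm gi N31364 = N45768 := rfl
theorem L386984 : sm ga N45768 = N31437 := ded_18_1 (flp_i L266417) (flp_a L265869) L386982
theorem L386986 : sm gb N45768 = N45768 := ded_26_1 (flp_i L386982) L265871 L386982
theorem L386987 : sm ge N45768 = N31365 := ded_44_1 (flp_i L265876) L265867 L386982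
theorem L386989 : sm gf N45768 = N32188 := ded_48_1 (flp_i L272681) (flp_f L265874) L386982
theorem L386991 : sm gh N31365 = N45769 := rfl
theorem L386993 : sm ga N45769 = N31438 := ded_17_1 (flp_h L266425) (flp_a L265878) L386991
theorem L386996 : sm gf N45769 = N31370 := ded_47_1 (flp_h L265927) (flp_f L265883) L386991
theorem L387000 : sm gb N31366 = N45770 := rfl
theorem L387002 : sm ge N45770 = N32190 := ded_21_2 (flp_b L272700) (flp_e L265889) L387000
theorem L387004 : sm gg N45770 = N45770 := ded_23_2 (flp_b L387000) L265891 L387000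
theorem L387005 : sm gj N45770 = N31368 := ded_24_2 (flp_b L265908) (flp_j L265892) L387000
theorem L387007 : sm gh N45770 = N31699 := ded_25_2 (flp_b L268589) (flp_h L265894) L387000
theorem L387009 : sm gc N45770 = N45770 := ded_19_2 (flp_b L387000) (flp_c L265885) L182887 L265885 L387000
theorem L387010 : sm gi N31366 = N45771 := rfl
theorem L387012 : sm ga N45771 = N31440 := ded_18_1 (flp_i L266444) (flp_a L265887) L387010
theorem L387014 : sm gc N45771 = N31367 := ded_33_1 (flp_i L265896) L265885 L387010
theorem L387016 : sm ge N45771 = N32191 := ded_44_1 (flp_i L272708) (flp_e L265889) L387010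
theorem L387018 : sm gg N45771 = N45771 := ded_51_1 (flp_i L387010) L265891 L387010
theorem L387019 : sm gj N45771 = N31369 := ded_53_1 (flp_i L265917) (flp_j L265892) L387010
theorem L387021 : sm gh N31367 = N45772 := rfl
theorem L387023 : sm ga N45772 = N31441 := ded_17_1 (flp_h L266453) (flp_a L265898) L387021
theorem L387026 : sm ge N45772 = N32192 := ded_43_1 (flp_h L272717) (flp_e L265903) L387021
theorem L387031 : sm gi N45772 = N31701 := ded_54_2 (flp_h L268608) (flp_i L184778) (flp_h L182893) L265896 L387021
theorem L387033 : sm ga N31368 = N45773 := rfl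
theorem L387035 : sm gc N45773 = N45773 := ded_11_2 (flp_a L387033) L265916 L387033
theorem L387036 : sm ge N45773 = N32193 := ded_13_2 (flp_a L272728) (flp_e L265910) L387033
theorem L387038 : sm gg N45773 = N31371 := ded_15_2 (flp_a L265938) (flp_g L265912) L387033
theorem L387040 : sm gh N45773 = N31702 := ded_17_2 (flp_a L268618) (flp_h L265914) L387033
theorem L387042 : sm gb N45773 = N31442 := ded_10_2 (flp_a L266464) (flp_b L183264) (flp_a L182907) L265908 L387033
theorem L387044 : sm gi N31368 = N45774 := rfl
theorem L387046 : sm gb N45774 = N31369 := ded_26_1 (flp_i L265917) L265908 L387044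
theorem L387048 : sm gc N45774 = N45774 := ded_33_1 (flp_i L387044) L265916 L387044
theorem L387049 : sm ge N45774 = N32194 := ded_44_1 (flp_i L272737) (flp_e L265910) L387044
theorem L387051 : sm gg N45774 = N31372 := ded_51_1 (flp_i L265948) (flp_g L265912) L387044
theorem L387053 : sm gh N31369 = N45775 := rfl
theorem L387055 : sm ga N45775 = N31444 := ded_17_1 (flp_h L266484) (flp_a L265919) L387053
theorem L387059 : sm ge N45775 = N32195 := ded_43_1 (flp_h L272744) (flp_e L265923) L387053
theorem L387063 : sm gi N45775 = N31704 := ded_54_2 (flp_h L268636) (flp_i L184797) (flp_h L182913) L265917 L387053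
theorem L387065 : sm gi N31371 = N45776 := rfl
theorem L387067 : sm ga N45776 = N31372 := ded_18_1 (flp_i L265948) L265938 L387065
theorem L387069 : sm gb N45776 = N31445 := ded_26_1 (flp_i L266494) (flp_b L265946) L387065
theorem L387071 : sm gc N45776 = N45776 := ded_33_1 (flp_i L387065) L265940 L387065
theorem L387072 : sm ge N45776 = N32196 := ded_44_1 (flp_i L272754) (flp_e L265941) L387065
theorem L387074 : sm gj N45776 = N45776 := ded_53_1 (flp_i L387065) L265943 L387065
theorem L387075 : sm gh N31372 = N45777 := rfl
theorem L387080 : sm ge N45777 = N32197 := ded_43_1 (flp_h L272763) (flp_e L265953) L387075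
theorem L387083 : sm gi N45777 = N31706 := ded_54_2 (flp_h L268656) (flp_i L184824) (flp_h L182931) L265948 L387075
theorem L387085 : sm gd N31373 = N45778 := rfl
theorem L387087 : sm ga N45778 = N31447 := ded_12_1 (flp_d L266514) (flp_a L265958) L387085
theorem L387090 : sm gi N45778 = N31707 := ded_39_2 (flp_d L268664) (flp_i L265965) L387085
theorem L387092 : sm gg N31374 = N45779 := rfl
theorem L387094 : sm gc N45779 = N31708 := ded_30_1 (flp_g L268669) (flp_c L265969) L387092
theorem L387096 : sm ge N45779 = N31376 := ded_41_1 (flp_g L265983) (flp_e L265971) L387092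
theorem L387098 : sm gh N31374 = N45780 := rfl
theorem L387100 : sm gc N45780 = N31709 := ded_32_1 (flp_h L268675) (flp_c L265969) L387098
theorem L387102 : sm ge N45780 = N31377 := ded_43_1 (flp_h L265990) (flp_e L265971) L387098
theorem L387104 : sm gf N45780 = N34688 := ded_47_1 (flp_h L294119) (flp_f L265973) L387098
theorem L387106 : sm gj N45780 = N31375 := ded_52_1 (flp_h L265975) L265967 L387098
theorem L387108 : sm gd N31375 = N45781 := rfl
theorem L387110 : sm gf N45781 = N34689 := ded_35_2 (flp_d L294127) (flp_f L265981) L387108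
theorem L387112 : sm gi N31375 = N45782 := rfl
theorem L387114 : sm gc N45782 = N31711 := ded_33_1 (flp_i L268690) (flp_c L265977) L387112
theorem L387116 : sm ge N45782 = N31379 := ded_44_1 (flp_i L266004) (flp_e L265979) L387112
theorem L387118 : sm gf N45782 = N34690 := ded_48_1 (flp_i L294130) (flp_f L265981) L387112
theorem L387120 : sm gh N31376 = N45783 := rfl
theorem L387122 : sm gc N45783 = N31712 := ded_32_1 (flp_h L268697) (flp_c L265985) L387120
theorem L387124 : sm gf N45783 = N45783 := ded_47_1 (flp_h L387120) L265989 L387120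
theorem L387125 : sm gg N45783 = N31377 := ded_50_1 (flp_h L265990) L265983 L387120
theorem L387127 : sm gd N31377 = N45784 := rfl
theorem L387129 : sm gf N45784 = N31380 := ded_35_2 (flp_d L266010) (flp_f L265994) L387127
theorem L387131 : sm gj N45784 = N31378 := ded_37_2 (flp_d L265998) (flp_j L265996) L387127
theorem L387133 : sm gh N45784 = N31392 := ded_38_2 (flp_d L266096) (flp_h L183020) (flp_d L182963) L265990 L387127
theorem L387135 : sm gi N31377 = N45785 := rfl
theorem L387137 : sm gc N45785 = N31714 := ded_33_1 (flp_i L268712) (flp_c L265992) L387135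
theorem L387139 : sm gf N45785 = N31381 := ded_48_1 (flp_i L266017) (flp_f L265994) L387135
theorem L387141 : sm gj N45785 = N31379 := ded_53_1 (flp_i L266004) (flp_j L265996) L387135
theorem L387143 : sm gc N31378 = N45786 := rfl
theorem L387145 : sm gf N45786 = N31382 := ded_29_2 (flp_c L266026) (flp_f L266000) L387143
theorem L387147 : sm gh N45786 = N31394 := ded_32_2 (flp_c L266110) (flp_h L266002) L387143
theorem L387149 : sm gd N45786 = N31715 := ded_27_2 (flp_c L268719) (flp_d L184869) (flp_c L182969) L265998 L387143
theorem L387151 : sm ge N31378 = N45787 := rfl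
theorem L387153 : sm gh N45787 = N31395 := ded_43_2 (flp_e L266116) (flp_h L266002) L387151
theorem L387155 : sm gi N31378 = N45788 := rfl
theorem L387157 : sm gd N45788 = N31379 := ded_39_1 (flp_i L266004) L265998 L387155
theorem L387159 : sm gf N45788 = N31384 := ded_48_1 (flp_i L266042) (flp_f L266000) L387155
theorem L387161 : sm gc N31380 = N45789 := rfl
theorem L387163 : sm gg N45789 = N45789 := ded_30_2 (flp_c L387161) L266012 L387161
theorem L387164 : sm gj N45789 = N31382 := ded_31_2 (flp_c L266026) (flp_j L266013) L387161
theorem L387166 : sm gh N45789 = N31397 := ded_32_2 (flp_c L266124) (flp_h L266015) L387161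
theorem L387168 : sm gd N45789 = N31718 := ded_27_2 (flp_c L268738) (flp_d L184881) (flp_c L182975) L266010 L387161
theorem L387170 : sm ge N31380 = N45790 := rfl
theorem L387172 : sm gg N45790 = N45790 := ded_41_2 (flp_e L387170) L266012 L387170
theorem L387173 : sm gj N45790 = N31383 := ded_42_2 (flp_e L266034) (flp_j L266013) L387170
theorem L387175 : sm gh N45790 = N31398 := ded_43_2 (flp_e L266131) (flp_h L266015) L387170
theorem L387177 : sm gd N45790 = N34696 := ded_34_1 (flp_e L294176) (flp_d L202401) (flp_e L182977) L266010 L387170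
theorem L387179 : sm gi N31380 = N45791 := rfl
theorem L387181 : sm gd N45791 = N31381 := ded_39_1 (flp_i L266017) L266010 L387179
theorem L387183 : sm gg N45791 = N45791 := ded_51_1 (flp_i L387179) L266012 L387179
theorem L387184 : sm gj N45791 = N31384 := ded_53_1 (flp_i L266042) (flp_j L266013) L387179
theorem L387186 : sm gb N31382 = N45792 := rfl
theorem L387188 : sm gd N45792 = N31720 := ded_20_2 (flp_b L268755) (flp_d L266032) L387186
theorem L387190 : sm gg N45792 = N31385 := ded_23_2 (flp_b L266048) (flp_g L266028) L387186
theorem L387192 : sm gh N45792 = N31400 := ded_25_2 (flp_b L266145) (flp_h L266030) L387186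
theorem L387194 : sm ge N31382 = N45793 := rfl
theorem L387196 : sm gc N45793 = N31383 := ded_28_1 (flp_e L266034) L266026 L387194
theorem L387198 : sm gg N45793 = N31386 := ded_41_2 (flp_e L266055) (flp_g L266028) L387194
theorem L387200 : sm gh N45793 = N31401 := ded_43_2 (flp_e L266151) (flp_h L266030) L387194
theorem L387202 : sm gd N45793 = N45793 := ded_34_1 (flp_e L387194) L266032 L184900 (flp_d L266032) L387194
theorem L387203 : sm gi N31382 = N45794 := rfl
theorem L387205 : sm gc N45794 = N31384 := ded_33_1 (flp_i L266042) L266026 L387203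
theorem L387207 : sm gd N45794 = N31721 := ded_39_1 (flp_i L268763) (flp_d L266032) L387203
theorem L387209 : sm gg N45794 = N31387 := ded_51_1 (flp_i L266063) (flp_g L266028) L387203
theorem L387211 : sm gf N31383 = N45795 := rfl
theorem L387213 : sm gd N45795 = N34698 := ded_35_1 (flp_f L294192) (flp_d L266040) L387211
theorem L387215 : sm gh N45795 = N31403 := ded_47_2 (flp_f L266167) (flp_h L266038) L387211
theorem L387217 : sm gi N31383 = N45796 := rfl
theorem L387219 : sm gd N45796 = N34699 := ded_39_1 (flp_i L294197) (flp_d L266040) L387217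
theorem L387221 : sm ge N45796 = N31384 := ded_44_1 (flp_i L266042) L266034 L387217
theorem L387223 : sm gg N45796 = N31389 := ded_51_1 (flp_i L266077) (flp_g L266036) L387217
theorem L387225 : sm gh N31384 = N45797 := rfl
theorem L387227 : sm gg N45797 = N31390 := ded_50_1 (flp_h L266084) (flp_g L266046) L387225
theorem L387229 : sm gi N45797 = N31405 := ded_54_2 (flp_h L266179) (flp_i L183064) (flp_h L182986) L266042 L387225
theorem L387231 : sm ga N31385 = N45798 := rfl
theorem L387233 : sm gd N45798 = N31723 := ded_12_2 (flp_a L268778) (flp_d L266050) L387231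
theorem L387235 : sm gj N45798 = N45798 := ded_16_2 (flp_a L387231) L266052 L387231
theorem L387236 : sm gh N45798 = N31406 := ded_17_2 (flp_a L266183) (flp_h L266053) L387231
theorem L387238 : sm ge N31385 = N45799 := rfl
theorem L387240 : sm gb N45799 = N31386 := ded_21_1 (flp_e L266055) L266048 L387238
theorem L387242 : sm gj N45799 = N45799 := ded_42_2 (flp_e L387238) L266052 L387238
theorem L387243 : sm gh N45799 = N31407 := ded_43_2 (flp_e L266188) (flp_h L266053) L387238
theorem L387245 : sm gd N45799 = N45799 := ded_34_1 (flp_e L387238) L266050 L184915 (flp_d L266050) L387238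
theorem L387246 : sm gi N31385 = N45800 := rfl
theorem L387248 : sm gb N45800 = N31387 := ded_26_1 (flp_i L266063) L266048 L387246
theorem L387250 : sm gd N45800 = N31724 := ded_39_1 (flp_i L268785) (flp_d L266050) L387246
theorem L387252 : sm gj N45800 = N45800 := ded_53_1 (flp_i L387246) L266052 L387246
theorem L387253 : sm gf N31386 = N45801 := rfl
theorem L387255 : sm gc N45801 = N31388 := ded_29_1 (flp_f L266070) (flp_c L266057) L387253
theorem L387257 : sm gd N45801 = N45801 := ded_35_1 (flp_f L387253) L266062 L387253
theorem L387258 : sm gj N45801 = N45801 := ded_46_2 (flp_f L387253) L266059 L387253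
theorem L387259 : sm gh N45801 = N31409 := ded_47_2 (flp_f L266202) (flp_h L266060) L387253
theorem L387261 : sm gi N31386 = N45802 := rfl
theorem L387263 : sm gc N45802 = N31389 := ded_33_1 (flp_i L266077) (flp_c L266057) L387261
theorem L387265 : sm gd N45802 = N45802 := ded_39_1 (flp_i L387261) L266062 L387261
theorem L387266 : sm ge N45802 = N31387 := ded_44_1 (flp_i L266063) L266055 L387261
theorem L387268 : sm gj N45802 = N45802 := ded_53_1 (flp_i L387261) L266059 L387261
theorem L387269 : sm gh N31387 = N45803 := rfl
theorem L387271 : sm gc N45803 = N31390 := ded_32_1 (flp_h L266084) (flp_c L266065) L387269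
theorem L387273 : sm gj N45803 = N45803 := ded_52_1 (flp_h L387269) L266069 L387269
theorem L387274 : sm gi N45803 = N31411 := ded_54_2 (flp_h L266218) (flp_i L183082) (flp_h L182999) L266063 L387269
theorem L387276 : sm gg N31388 = N45804 := rfl
theorem L387278 : sm gd N45804 = N34701 := ded_36_1 (flp_g L294211) (flp_d L266072) L387276
theorem L387280 : sm gh N45804 = N31412 := ded_50_2 (flp_g L266223) (flp_h L266075) L387276
theorem L387282 : sm gi N31388 = N45805 := rfl
theorem L387284 : sm gd N45805 = N34702 := ded_39_1 (flp_i L294217) (flp_d L266072) L387282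
theorem L387286 : sm gf N45805 = N31389 := ded_48_1 (flp_i L266077) L266070 L387282
theorem L387288 : sm gj N45805 = N45805 := ded_53_1 (flp_i L387282) L266074 L387282
theorem L387289 : sm gh N31389 = N45806 := rfl
theorem L387291 : sm ge N45806 = N31390 := ded_43_1 (flp_h L266084) (flp_e L266081) L387289
theorem L387293 : sm gj N45806 = N45806 := ded_52_1 (flp_h L387289) L266083 L387289
theorem L387294 : sm gi N45806 = N31414 := ded_54_2 (flp_h L266234) (flp_i L183094) (flp_h L183006) L266077 L387289
theorem L387296 : sm gd N31391 = N45807 := rfl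
theorem L387298 : sm gf N45807 = N45807 := ded_35_2 (flp_d L387296) L266093 L387296
theorem L387299 : sm gg N45807 = N31392 := ded_36_2 (flp_d L266096) (flp_g L266094) L387296
theorem L387301 : sm gi N31391 = N45808 := rfl
theorem L387303 : sm gc N45808 = N31430 := ded_33_1 (flp_i L266360) (flp_c L266091) L387301
theorem L387305 : sm gf N45808 = N45808 := ded_48_1 (flp_i L387301) L266093 L387301
theorem L387306 : sm gg N45808 = N31393 := ded_51_1 (flp_i L266102) (flp_g L266094) L387301
theorem L387308 : sm gc N31392 = N45809 := rfl
theorem L387310 : sm gf N45809 = N31397 := ded_29_2 (flp_c L266124) (flp_f L266098) L387308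
theorem L387312 : sm gj N45809 = N31394 := ded_31_2 (flp_c L266110) (flp_j L266100) L387308
theorem L387314 : sm gd N45809 = N31431 := ded_27_2 (flp_c L266367) (flp_d L183204) (flp_c L183022) L266096 L387308
theorem L387316 : sm ge N31392 = N45810 := rfl
theorem L387318 : sm gj N45810 = N31395 := ded_42_2 (flp_e L266116) (flp_j L266100) L387316
theorem L387320 : sm gi N31392 = N45811 := rfl
theorem L387322 : sm gd N45811 = N31393 := ded_39_1 (flp_i L266102) L266096 L387320
theorem L387324 : sm gf N45811 = N31399 := ded_48_1 (flp_i L266138) (flp_f L266098) L387320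
theorem L387326 : sm gj N45811 = N31396 := ded_53_1 (flp_i L266118) (flp_j L266100) L387320
theorem L387328 : sm gb N31394 = N45812 := rfl
theorem L387330 : sm gd N45812 = N31434 := ded_20_2 (flp_b L266395) (flp_d L266114) L387328
theorem L387332 : sm gf N45812 = N31400 := ded_22_2 (flp_b L266145) (flp_f L266112) L387328
theorem L387334 : sm ge N31394 = N45813 := rfl
theorem L387336 : sm gc N45813 = N31395 := ded_28_1 (flp_e L266116) L266110 L387334
theorem L387338 : sm gi N31394 = N45814 := rfl
theorem L387340 : sm gc N45814 = N31396 := ded_33_1 (flp_i L266118) L266110 L387338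
theorem L387342 : sm gd N45814 = N31436 := ded_39_1 (flp_i L266411) (flp_d L266114) L387338
theorem L387344 : sm gf N45814 = N31402 := ded_48_1 (flp_i L266159) (flp_f L266112) L387338
theorem L387346 : sm gf N31395 = N45815 := rfl
theorem L387348 : sm ge N45815 = N31403 := ded_40_1 (flp_f L266167) (flp_e L183058) (flp_f L183030) L266116 L387346
theorem L387350 : sm gi N31395 = N45816 := rfl
theorem L387352 : sm ge N45816 = N31396 := ded_44_1 (flp_i L266118) L266116 L387350
theorem L387354 : sm gh N31396 = N45817 := rfl
theorem L387356 : sm gf N45817 = N31405 := ded_47_1 (flp_h L266179) (flp_f L266122) L387354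
theorem L387358 : sm gb N31397 = N45818 := rfl
theorem L387360 : sm gd N45818 = N31439 := ded_20_2 (flp_b L266433) (flp_d L266129) L387358
theorem L387362 : sm gg N45818 = N45818 := ded_23_2 (flp_b L387358) L266126 L387358
theorem L387363 : sm gj N45818 = N31400 := ded_24_2 (flp_b L266145) (flp_j L266127) L387358
theorem L387365 : sm ge N31397 = N45819 := rfl
theorem L387367 : sm gc N45819 = N31398 := ded_28_1 (flp_e L266131) L266124 L387365
theorem L387369 : sm gg N45819 = N45819 := ded_41_2 (flp_e L387365) L266126 L387365
theorem L387370 : sm gj N45819 = N31401 := ded_42_2 (flp_e L266151) (flp_j L266127) L387365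
theorem L387372 : sm gd N45819 = N32211 := ded_34_1 (flp_e L272876) L187725 (flp_e L183246) (flp_d L266129) L387365
theorem L387374 : sm gi N31397 = N45820 := rfl
theorem L387376 : sm gc N45820 = N31399 := ded_33_1 (flp_i L266138) L266124 L387374
theorem L387378 : sm gd N45820 = N31440 := ded_39_1 (flp_i L266444) (flp_d L266129) L387374
theorem L387380 : sm gg N45820 = N45820 := ded_51_1 (flp_i L387374) L266126 L387374
theorem L387381 : sm gj N45820 = N31402 := ded_53_1 (flp_i L266159) (flp_j L266127) L387374
theorem L387383 : sm gf N31398 = N45821 := rfl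
theorem L387385 : sm gd N45821 = N31415 := ded_35_1 (flp_f L266239) (flp_d L266136) L387383
theorem L387387 : sm gj N45821 = N31403 := ded_46_2 (flp_f L266167) (flp_j L266134) L387383
theorem L387389 : sm gi N31398 = N45822 := rfl
theorem L387391 : sm gd N45822 = N31416 := ded_39_1 (flp_i L266247) (flp_d L266136) L387389
theorem L387393 : sm ge N45822 = N31399 := ded_44_1 (flp_i L266138) L266131 L387389
theorem L387395 : sm gg N45822 = N45822 := ded_51_1 (flp_i L387389) L266133 L387389
theorem L387396 : sm gj N45822 = N31404 := ded_53_1 (flp_i L266171) (flp_j L266134) L387389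
theorem L387398 : sm gh N31399 = N45823 := rfl
theorem L387400 : sm gg N45823 = N45823 := ded_50_1 (flp_h L387398) L266142 L387398
theorem L387401 : sm gj N45823 = N31405 := ded_52_1 (flp_h L266179) (flp_j L266143) L387398
theorem L387403 : sm ga N31400 = N45824 := rfl
theorem L387405 : sm gd N45824 = N31442 := ded_12_2 (flp_a L266464) (flp_d L266147) L387403
theorem L387407 : sm gg N45824 = N31406 := ded_15_2 (flp_a L266183) (flp_g L266149) L387403
theorem L387409 : sm ge N31400 = N45825 := rfl
theorem L387411 : sm gb N45825 = N31401 := ded_21_1 (flp_e L266151) L266145 L387409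
theorem L387413 : sm gg N45825 = N31407 := ded_41_2 (flp_e L266188) (flp_g L266149) L387409
theorem L387415 : sm gd N45825 = N32217 := ded_34_1 (flp_e L272927) L187746 (flp_e L183266) (flp_d L266147) L387409
theorem L387417 : sm gi N31400 = N45826 := rfl
theorem L387419 : sm gb N45826 = N31402 := ded_26_1 (flp_i L266159) L266145 L387417
theorem L387421 : sm gd N45826 = N31443 := ded_39_1 (flp_i L266474) (flp_d L266147) L387417
theorem L387423 : sm gg N45826 = N31408 := ded_51_1 (flp_i L266195) (flp_g L266149) L387417
theorem L387425 : sm gf N31401 = N45827 := rfl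
theorem L387427 : sm gc N45827 = N31403 := ded_29_1 (flp_f L266167) (flp_c L266153) L387425
theorem L387429 : sm gd N45827 = N32219 := ded_35_1 (flp_f L272944) (flp_d L266157) L387425
theorem L387431 : sm gi N31401 = N45828 := rfl
theorem L387433 : sm gc N45828 = N31404 := ded_33_1 (flp_i L266171) (flp_c L266153) L387431
theorem L387435 : sm gd N45828 = N32220 := ded_39_1 (flp_i L272949) (flp_d L266157) L387431
theorem L387437 : sm ge N45828 = N31402 := ded_44_1 (flp_i L266159) L266151 L387431
theorem L387439 : sm gg N45828 = N31410 := ded_51_1 (flp_i L266209) (flp_g L266155) L387431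
theorem L387441 : sm gh N31402 = N45829 := rfl
theorem L387443 : sm gc N45829 = N31405 := ded_32_1 (flp_h L266179) (flp_c L266161) L387441
theorem L387445 : sm gg N45829 = N31411 := ded_50_1 (flp_h L266218) (flp_g L266165) L387441
theorem L387447 : sm gg N31403 = N45830 := rfl
theorem L387449 : sm gd N45830 = N31418 := ded_36_1 (flp_g L266265) (flp_d L266169) L387447
theorem L387451 : sm gf N45830 = N31412 := ded_45_1 (flp_g L266223) (flp_f L183089) (flp_g L183060) L266167 L387447
theorem L387453 : sm gi N31403 = N45831 := rfl
theorem L387455 : sm gd N45831 = N31419 := ded_39_1 (flp_i L266273) (flp_d L266169) L387453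
theorem L387457 : sm gf N45831 = N31404 := ded_48_1 (flp_i L266171) L266167 L387453
theorem L387459 : sm gh N31404 = N45832 := rfl
theorem L387461 : sm ge N45832 = N31405 := ded_43_1 (flp_h L266179) (flp_e L266175) L387459
theorem L387463 : sm gg N45832 = N31414 := ded_50_1 (flp_h L266234) (flp_g L266177) L387459
theorem L387465 : sm ge N31406 = N45833 := rfl
theorem L387467 : sm ga N45833 = N31407 := ded_13_1 (flp_e L266188) L266183 L387465
theorem L387469 : sm gj N45833 = N45833 := ded_42_2 (flp_e L387465) L266187 L387465
theorem L387470 : sm gd N45833 = N32225 := ded_34_1 (flp_e L272987) L187792 (flp_e L183296) (flp_d L266185) L387465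
theorem L387472 : sm gi N31406 = N45834 := rfl
theorem L387474 : sm ga N45834 = N31408 := ded_18_1 (flp_i L266195) L266183 L387472
theorem L387476 : sm gd N45834 = N31445 := ded_39_1 (flp_i L266494) (flp_d L266185) L387472
theorem L387478 : sm gj N45834 = N45834 := ded_53_1 (flp_i L387472) L266187 L387472
theorem L387479 : sm gf N31407 = N45835 := rfl
theorem L387481 : sm gb N45835 = N31409 := ded_22_1 (flp_f L266202) (flp_b L266190) L387479
theorem L387483 : sm gd N45835 = N32227 := ded_35_1 (flp_f L273003) (flp_d L266193) L387479
theorem L387485 : sm gj N45835 = N45835 := ded_46_2 (flp_f L387479) L266192 L387479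
theorem L387486 : sm gi N31407 = N45836 := rfl
theorem L387488 : sm gb N45836 = N31410 := ded_26_1 (flp_i L266209) (flp_b L266190) L387486
theorem L387490 : sm gd N45836 = N32228 := ded_39_1 (flp_i L273011) (flp_d L266193) L387486
theorem L387492 : sm ge N45836 = N31408 := ded_44_1 (flp_i L266195) L266188 L387486
theorem L387494 : sm gj N45836 = N45836 := ded_53_1 (flp_i L387486) L266192 L387486
theorem L387495 : sm gh N31408 = N45837 := rfl
theorem L387497 : sm gb N45837 = N31411 := ded_25_1 (flp_h L266218) (flp_b L266197) L387495
theorem L387499 : sm gj N45837 = N45837 := ded_52_1 (flp_h L387495) L266201 L387495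
theorem L387500 : sm gg N31409 = N45838 := rfl
theorem L387502 : sm gc N45838 = N31412 := ded_30_1 (flp_g L266223) (flp_c L266204) L387500
theorem L387504 : sm gd N45838 = N32230 := ded_36_1 (flp_g L273027) (flp_d L266206) L387500
theorem L387506 : sm gi N31409 = N45839 := rfl
theorem L387508 : sm gc N45839 = N31413 := ded_33_1 (flp_i L266227) (flp_c L266204) L387506
theorem L387510 : sm gd N45839 = N32231 := ded_39_1 (flp_i L273033) (flp_d L266206) L387506
theorem L387512 : sm gf N45839 = N31410 := ded_48_1 (flp_i L266209) L266202 L387506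
theorem L387514 : sm gj N45839 = N45839 := ded_53_1 (flp_i L387506) L266208 L387506
theorem L387515 : sm gh N31410 = N45840 := rfl
theorem L387517 : sm gc N45840 = N31414 := ded_32_1 (flp_h L266234) (flp_c L266211) L387515
theorem L387519 : sm ge N45840 = N31411 := ded_43_1 (flp_h L266218) (flp_e L266215) L387515
theorem L387521 : sm gj N45840 = N45840 := ded_52_1 (flp_h L387515) L266217 L387515
theorem L387522 : sm gd N31411 = N45841 := rfl
theorem L387524 : sm gj N45841 = N45841 := ded_37_2 (flp_d L387522) L266222 L387522
theorem L387525 : sm gh N45841 = N31447 := ded_38_2 (flp_d L266514) (flp_h L183310) (flp_d L183086) L266218 L387522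
theorem L387527 : sm gj N31412 = N45842 := rfl
theorem L387529 : sm gd N45842 = N31421 := ded_37_1 (flp_j L266289) (flp_d L266225) L387527
theorem L387531 : sm gg N45842 = N45842 := ded_49_1 (flp_j L387527) (flp_g L266223) L183093 L266223 L387527
theorem L387532 : sm gi N31412 = N45843 := rfl
theorem L387534 : sm gd N45843 = N31422 := ded_39_1 (flp_i L266298) (flp_d L266225) L387532
theorem L387536 : sm gg N45843 = N31413 := ded_51_1 (flp_i L266227) L266223 L387532
theorem L387538 : sm gh N31413 = N45844 := rfl
theorem L387540 : sm gf N45844 = N31414 := ded_47_1 (flp_h L266234) (flp_f L266231) L387538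
theorem L387542 : sm gj N45844 = N45844 := ded_52_1 (flp_h L387538) L266233 L387538
theorem L387543 : sm gd N31414 = N45845 := rfl
theorem L387546 : sm gh N45845 = N31424 := ded_38_2 (flp_d L266317) (flp_h L183161) (flp_d L183096) L266234 L387543
theorem L387548 : sm gg N31415 = N45846 := rfl
theorem L387550 : sm gc N45846 = N32238 := ded_30_1 (flp_g L273089) (flp_c L266241) L387548
theorem L387552 : sm gh N45846 = N34721 := ded_50_2 (flp_g L294349) (flp_h L266245) L387548
theorem L387554 : sm gf N45846 = N45846 := ded_45_1 (flp_g L387548) (flp_f L266239) L183108 L266239 L387548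
theorem L387555 : sm gi N31415 = N45847 := rfl
theorem L387557 : sm gc N45847 = N32239 := ded_33_1 (flp_i L273095) (flp_c L266241) L387555
theorem L387559 : sm gf N45847 = N31416 := ded_48_1 (flp_i L266247) L266239 L387555
theorem L387561 : sm gj N45847 = N31419 := ded_53_1 (flp_i L266273) (flp_j L266243) L387555
theorem L387563 : sm gh N31416 = N45848 := rfl
theorem L387567 : sm ge N45848 = N31417 := ded_43_1 (flp_h L266256) (flp_e L266251) L387563
theorem L387574 : sm gj N31418 = N45849 := rfl
theorem L387576 : sm gc N45849 = N32241 := ded_31_1 (flp_j L273112) (flp_c L266267) L387574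
theorem L387578 : sm gf N45849 = N31421 := ded_46_1 (flp_j L266289) (flp_f L266271) L387574
theorem L387580 : sm gh N45849 = N34724 := ded_52_2 (flp_j L294371) (flp_h L266269) L387574
theorem L387582 : sm gi N31418 = N45850 := rfl
theorem L387584 : sm gc N45850 = N32242 := ded_33_1 (flp_i L273119) (flp_c L266267) L387582
theorem L387586 : sm gf N45850 = N31422 := ded_48_1 (flp_i L266298) (flp_f L266271) L387582
theorem L387588 : sm gg N45850 = N31419 := ded_51_1 (flp_i L266273) L266265 L387582
theorem L387590 : sm gh N31419 = N45851 := rfl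
theorem L387596 : sm gi N45851 = N34726 := ded_54_2 (flp_h L294385) (flp_i L202569) (flp_h L183126) L266273 L387590
theorem L387604 : sm gi N31421 = N45853 := rfl
theorem L387606 : sm gc N45853 = N32245 := ded_33_1 (flp_i L273141) (flp_c L266291) L387604
theorem L387608 : sm ge N45853 = N31425 := ded_44_1 (flp_i L266322) (flp_e L266293) L387604
theorem L387610 : sm gg N45853 = N45853 := ded_51_1 (flp_i L387604) L266297 L387604
theorem L387611 : sm gj N45853 = N31422 := ded_53_1 (flp_i L266298) L266289 L387604
theorem L387613 : sm gh N31422 = N45854 := rfl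
theorem L387615 : sm gc N45854 = N32246 := ded_32_1 (flp_h L273149) (flp_c L266300) L387613
theorem L387617 : sm ge N45854 = N31426 := ded_43_1 (flp_h L266329) (flp_e L266302) L387613
theorem L387619 : sm gg N45854 = N31423 := ded_50_1 (flp_h L266306) (flp_g L266304) L387613
theorem L387630 : sm gc N31424 = N45856 := rfl
theorem L387633 : sm gi N45856 = N34731 := ded_33_2 (flp_c L294417) (flp_i L266320) L387630
theorem L387637 : sm gh N31425 = N45857 := rfl
theorem L387639 : sm gc N45857 = N32249 := ded_32_1 (flp_h L273172) (flp_c L266324) L387637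
theorem L387652 : sm gc N31427 = N45859 := rfl
theorem L387657 : sm gi N45859 = N34734 := ded_33_2 (flp_c L294434) (flp_i L266342) L387652
theorem L387659 : sm gd N45859 = N32251 := ded_27_2 (flp_c L273188) (flp_d L187948) (flp_c L183185) L266337 L387652
theorem L387661 : sm ge N31427 = N45860 := rfl
theorem L387664 : sm gi N45860 = N34735 := ded_44_2 (flp_e L294442) (flp_i L266342) L387661
theorem L387666 : sm gb N31428 = N45861 := rfl
theorem L387668 : sm gd N45861 = N32253 := ded_20_2 (flp_b L273204) (flp_d L266349) L387666
theorem L387673 : sm gc N31429 = N45862 := rfl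
theorem L387675 : sm gf N45862 = N45862 := ded_29_2 (flp_c L387673) L266355 L387673
theorem L387676 : sm gg N45862 = N31431 := ded_30_2 (flp_c L266367) (flp_g L266356) L387673
theorem L387678 : sm gh N45862 = N31745 := ded_32_2 (flp_c L268943) (flp_h L266358) L387673
theorem L387680 : sm ge N31429 = N45863 := rfl
theorem L387686 : sm gh N45863 = N31746 := ded_43_2 (flp_e L268948) (flp_h L266358) L387680
theorem L387688 : sm gi N31429 = N45864 := rfl
theorem L387690 : sm gb N45864 = N31450 := ded_26_1 (flp_i L266534) (flp_b L266353) L387688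
theorem L387692 : sm gd N45864 = N31430 := ded_39_1 (flp_i L266360) L266351 L387688
theorem L387694 : sm gf N45864 = N45864 := ded_48_1 (flp_i L387688) L266355 L387688
theorem L387695 : sm gg N45864 = N31433 := ded_51_1 (flp_i L266385) (flp_g L266356) L387688
theorem L387697 : sm gb N31431 = N45865 := rfl
theorem L387699 : sm gf N45865 = N31439 := ded_22_2 (flp_b L266433) (flp_f L266369) L387697
theorem L387701 : sm gj N45865 = N31434 := ded_24_2 (flp_b L266395) (flp_j L266371) L387697
theorem L387703 : sm gh N45865 = N31748 := ded_25_2 (flp_b L268964) (flp_h L266373) L387697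
theorem L387705 : sm gc N45865 = N31451 := ded_19_2 (flp_b L266542) (flp_c L183333) (flp_b L183206) L266367 L387697
theorem L387707 : sm ge N31431 = N45866 := rfl
theorem L387709 : sm gc N45866 = N31432 := ded_28_1 (flp_e L266375) L266367 L387707
theorem L387711 : sm gj N45866 = N31435 := ded_42_2 (flp_e L266403) (flp_j L266371) L387707
theorem L387713 : sm gh N45866 = N31749 := ded_43_2 (flp_e L268972) (flp_h L266373) L387707
theorem L387715 : sm gf N45866 = N32258 := ded_40_2 (flp_e L273249) L187985 (flp_e L183246) (flp_f L266369) L387707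
theorem L387717 : sm gi N31431 = N45867 := rfl
theorem L387719 : sm gc N45867 = N31433 := ded_33_1 (flp_i L266385) L266367 L387717
theorem L387721 : sm gf N45867 = N31440 := ded_48_1 (flp_i L266444) (flp_f L266369) L387717
theorem L387723 : sm gj N45867 = N31436 := ded_53_1 (flp_i L266411) (flp_j L266371) L387717
theorem L387725 : sm gi N31432 = N45868 := rfl
theorem L387727 : sm gb N45868 = N31454 := ded_26_1 (flp_i L266570) (flp_b L266377) L387725
theorem L387729 : sm ge N45868 = N31433 := ded_44_1 (flp_i L266385) L266375 L387725
theorem L387733 : sm gj N45868 = N31437 := ded_53_1 (flp_i L266417) (flp_j L266379) L387725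
theorem L387735 : sm gh N31433 = N45869 := rfl
theorem L387737 : sm gb N45869 = N31455 := ded_25_1 (flp_h L266579) (flp_b L266387) L387735
theorem L387739 : sm gf N45869 = N31441 := ded_47_1 (flp_h L266453) (flp_f L266391) L387735
theorem L387741 : sm gj N45869 = N31438 := ded_52_1 (flp_h L266425) (flp_j L266393) L387735
theorem L387743 : sm gi N45869 = N31752 := ded_54_2 (flp_h L268999) (flp_i L185069) (flp_h L183212) L266385 L387735
theorem L387745 : sm ga N31434 = N45870 := rfl
theorem L387747 : sm gc N45870 = N31456 := ded_11_2 (flp_a L266588) (flp_c L266401) L387745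
theorem L387749 : sm gf N45870 = N31442 := ded_14_2 (flp_a L266464) (flp_f L266397) L387745
theorem L387751 : sm gh N45870 = N31753 := ded_17_2 (flp_a L269007) (flp_h L266399) L387745
theorem L387753 : sm ge N31434 = N45871 := rfl
theorem L387755 : sm gb N45871 = N31435 := ded_21_1 (flp_e L266403) L266395 L387753
theorem L387757 : sm gc N45871 = N31457 := ded_28_1 (flp_e L266595) (flp_c L266401) L387753
theorem L387763 : sm gi N31434 = N45872 := rfl
theorem L387765 : sm gb N45872 = N31436 := ded_26_1 (flp_i L266411) L266395 L387763
theorem L387767 : sm gc N45872 = N31458 := ded_33_1 (flp_i L266603) (flp_c L266401) L387763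
theorem L387769 : sm gf N45872 = N31443 := ded_48_1 (flp_i L266474) (flp_f L266397) L387763
theorem L387771 : sm gd N31435 = N45873 := rfl
theorem L387773 : sm gf N45873 = N32265 := ded_35_2 (flp_d L273311) (flp_f L266409) L387771
theorem L387775 : sm gi N31435 = N45874 := rfl
theorem L387777 : sm gc N45874 = N31437 := ded_33_1 (flp_i L266417) (flp_c L266405) L387775
theorem L387779 : sm ge N45874 = N31436 := ded_44_1 (flp_i L266411) L266403 L387775
theorem L387781 : sm gf N45874 = N32266 := ded_48_1 (flp_i L273314) (flp_f L266409) L387775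
theorem L387783 : sm gh N31436 = N45875 := rfl
theorem L387785 : sm gc N45875 = N31438 := ded_32_1 (flp_h L266425) (flp_c L266413) L387783
theorem L387787 : sm gf N45875 = N31444 := ded_47_1 (flp_h L266484) (flp_f L266415) L387783
theorem L387789 : sm gi N45875 = N31758 := ded_54_2 (flp_h L269042) (flp_i L185091) (flp_h L183226) L266411 L387783
theorem L387791 : sm gh N31437 = N45876 := rfl
theorem L387793 : sm gb N45876 = N31462 := ded_25_1 (flp_h L266632) (flp_b L266419) L387791
theorem L387795 : sm ge N45876 = N31438 := ded_43_1 (flp_h L266425) (flp_e L266421) L387791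
theorem L387801 : sm ga N31439 = N45877 := rfl
theorem L387803 : sm gc N45877 = N31463 := ded_11_2 (flp_a L266641) (flp_c L266442) L387801
theorem L387805 : sm ge N45877 = N32269 := ded_13_2 (flp_a L273339) (flp_e L266435) L387801
theorem L387807 : sm gg N45877 = N45877 := ded_15_2 (flp_a L387801) L266437 L387801
theorem L387808 : sm gj N45877 = N31442 := ded_16_2 (flp_a L266464) (flp_j L266438) L387801
theorem L387810 : sm gh N45877 = N31760 := ded_17_2 (flp_a L269056) (flp_h L266440) L387801
theorem L387812 : sm gi N31439 = N45878 := rfl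
theorem L387814 : sm gb N45878 = N31440 := ded_26_1 (flp_i L266444) L266433 L387812
theorem L387816 : sm gc N45878 = N31464 := ded_33_1 (flp_i L266651) (flp_c L266442) L387812
theorem L387818 : sm ge N45878 = N32270 := ded_44_1 (flp_i L273348) (flp_e L266435) L387812
theorem L387820 : sm gg N45878 = N45878 := ded_51_1 (flp_i L387812) L266437 L387812
theorem L387821 : sm gj N45878 = N31443 := ded_53_1 (flp_i L266474) (flp_j L266438) L387812
theorem L387823 : sm gh N31440 = N45879 := rfl
theorem L387825 : sm gc N45879 = N31441 := ded_32_1 (flp_h L266453) (flp_c L266446) L387823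
theorem L387827 : sm ge N45879 = N32271 := ded_43_1 (flp_h L273357) (flp_e L266448) L387823
theorem L387829 : sm gg N45879 = N45879 := ded_50_1 (flp_h L387823) L266450 L387823
theorem L387830 : sm gj N45879 = N31444 := ded_52_1 (flp_h L266484) (flp_j L266451) L387823
theorem L387832 : sm gi N45879 = N31762 := ded_54_2 (flp_h L269076) (flp_i L185121) (flp_h L183251) L266444 L387823
theorem L387834 : sm gi N31442 = N45880 := rfl
theorem L387836 : sm ga N45880 = N31443 := ded_18_1 (flp_i L266474) L266464 L387834
theorem L387838 : sm gc N45880 = N31466 := ded_33_1 (flp_i L266672) (flp_c L266466) L387834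
theorem L387840 : sm ge N45880 = N32272 := ded_44_1 (flp_i L273366) (flp_e L266468) L387834
theorem L387842 : sm gg N45880 = N31445 := ded_51_1 (flp_i L266494) (flp_g L266470) L387834
theorem L387844 : sm gh N31443 = N45881 := rfl
theorem L387846 : sm gb N45881 = N31444 := ded_25_1 (flp_h L266484) (flp_b L266476) L387844
theorem L387848 : sm gc N45881 = N31467 := ded_32_1 (flp_h L266681) (flp_c L266478) L387844
theorem L387850 : sm ge N45881 = N32273 := ded_43_1 (flp_h L273374) (flp_e L266480) L387844
theorem L387852 : sm gg N45881 = N31446 := ded_50_1 (flp_h L266503) (flp_g L266482) L387844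
theorem L387854 : sm gi N45881 = N31764 := ded_54_2 (flp_h L269095) (flp_i L185147) (flp_h L183270) L266474 L387844
theorem L387856 : sm gd N31444 = N45882 := rfl
theorem L387858 : sm gg N45882 = N31447 := ded_36_2 (flp_d L266514) (flp_g L266490) L387856
theorem L387860 : sm gi N45882 = N31765 := ded_39_2 (flp_d L269105) (flp_i L266492) L387856
theorem L387862 : sm gh N31445 = N45883 := rfl
theorem L387864 : sm ga N45883 = N31446 := ded_17_1 (flp_h L266503) (flp_a L266496) L387862
theorem L387866 : sm gc N45883 = N31469 := ded_32_1 (flp_h L266698) (flp_c L266498) L387862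
theorem L387868 : sm ge N45883 = N32275 := ded_43_1 (flp_h L273391) (flp_e L266500) L387862
theorem L387870 : sm gj N45883 = N45883 := ded_52_1 (flp_h L387862) L266502 L387862
theorem L387871 : sm gi N45883 = N31766 := ded_54_2 (flp_h L269109) (flp_i L185165) (flp_h L183299) L266494 L387862
theorem L387873 : sm gd N31446 = N45884 := rfl
theorem L387875 : sm gb N45884 = N31447 := ded_20_1 (flp_d L266514) (flp_b L266505) L387873
theorem L387877 : sm gj N45884 = N45884 := ded_37_2 (flp_d L387873) L266511 L387873
theorem L387878 : sm gi N45884 = N31767 := ded_39_2 (flp_d L269118) (flp_i L266512) L387873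
theorem L387880 : sm ge N31447 = N45885 := rfl
theorem L387882 : sm gj N45885 = N45885 := ded_42_2 (flp_e L387880) L266516 L387880
theorem L387883 : sm gi N45885 = N31768 := ded_44_2 (flp_e L269123) (flp_i L266517) L387880
theorem L387885 : sm gd N45885 = N32277 := ded_34_1 (flp_e L273409) (flp_d L188117) (flp_e L183314) L266514 L387880
theorem L387903 : sm gi N31448 = N45888 := rfl
theorem L387906 : sm gc N45888 = N31450 := ded_33_1 (flp_i L266534) L266519 L387903
theorem L387909 : sm gg N45888 = N31453 := ded_51_1 (flp_i L266561) (flp_g L266523) L387903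
theorem L387919 : sm gi N31449 = N45890 := rfl
theorem L387922 : sm ge N45890 = N31450 := ded_44_1 (flp_i L266534) L266527 L387919
theorem L387924 : sm gg N45890 = N31454 := ded_51_1 (flp_i L266570) (flp_g L266530) L387919
theorem L387926 : sm gh N31450 = N45891 := rfl
theorem L387932 : sm gi N45891 = N31774 := ded_54_2 (flp_h L269165) (flp_i L185199) (flp_h L183325) L266534 L387926
theorem L387934 : sm ga N31451 = N45892 := rfl
theorem L387936 : sm gf N45892 = N31463 := ded_14_2 (flp_a L266641) (flp_f L266544) L387934
theorem L387938 : sm gj N45892 = N31456 := ded_16_2 (flp_a L266588) (flp_j L266546) L387934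
theorem L387943 : sm ge N31451 = N45893 := rfl
theorem L387947 : sm gj N45893 = N31457 := ded_42_2 (flp_e L266595) (flp_j L266546) L387943
theorem L387949 : sm gh N45893 = N31776 := ded_43_2 (flp_e L269179) (flp_h L266548) L387943
theorem L387953 : sm gi N31451 = N45894 := rfl
theorem L387955 : sm gb N45894 = N31453 := ded_26_1 (flp_i L266561) L266542 L387953
theorem L387957 : sm gf N45894 = N31464 := ded_48_1 (flp_i L266651) (flp_f L266544) L387953
theorem L387959 : sm gj N45894 = N31458 := ded_53_1 (flp_i L266603) (flp_j L266546) L387953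
theorem L387961 : sm gd N31452 = N45895 := rfl
theorem L387966 : sm gj N45895 = N31459 := ded_37_2 (flp_d L266609) (flp_j L266555) L387961
theorem L387968 : sm gi N31452 = N45896 := rfl
theorem L387971 : sm gc N45896 = N31454 := ded_33_1 (flp_i L266570) (flp_c L266553) L387968
theorem L387973 : sm ge N45896 = N31453 := ded_44_1 (flp_i L266561) L266550 L387968
theorem L387979 : sm gh N31453 = N45897 := rfl
theorem L387982 : sm gc N45897 = N31455 := ded_32_1 (flp_h L266579) (flp_c L266564) L387979
theorem L387986 : sm gj N45897 = N31461 := ded_52_1 (flp_h L266623) (flp_j L266568) L387979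
theorem L387990 : sm gh N31454 = N45898 := rfl
theorem L387993 : sm ge N45898 = N31455 := ded_43_1 (flp_h L266579) (flp_e L266573) L387990
theorem L387997 : sm gj N45898 = N31462 := ded_52_1 (flp_h L266632) (flp_j L266577) L387990
theorem L388001 : sm ge N31456 = N45899 := rfl
theorem L388003 : sm ga N45899 = N31457 := ded_13_1 (flp_e L266595) L266588 L388001
theorem L388010 : sm gi N31456 = N45900 := rfl
theorem L388012 : sm ga N45900 = N31458 := ded_18_1 (flp_i L266603) L266588 L388010
theorem L388014 : sm gb N45900 = N45900 := ded_26_1 (flp_i L388010) L266594 L388010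
theorem L388015 : sm gf N45900 = N31466 := ded_48_1 (flp_i L266672) (flp_f L266590) L388010
theorem L388017 : sm gd N31457 = N45901 := rfl
theorem L388019 : sm gb N45901 = N31459 := ded_20_1 (flp_d L266609) (flp_b L266597) L388017
theorem L388023 : sm gi N31457 = N45902 := rfl
theorem L388027 : sm ge N45902 = N31458 := ded_44_1 (flp_i L266603) L266595 L388023
theorem L388031 : sm gh N31458 = N45903 := rfl
theorem L388033 : sm gb N45903 = N31461 := ded_25_1 (flp_h L266623) (flp_b L266605) L388031
theorem L388035 : sm gf N45903 = N31467 := ded_47_1 (flp_h L266681) (flp_f L266607) L388031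
theorem L388039 : sm gh N31459 = N45904 := rfl
theorem L388044 : sm gd N45904 = N31787 := ded_38_1 (flp_h L269270) (flp_d L185269) (flp_h L183371) L266609 L388039
theorem L388046 : sm gi N31459 = N45905 := rfl
theorem L388051 : sm gf N45905 = N32297 := ded_48_1 (flp_i L273577) (flp_f L266612) L388046
theorem L388064 : sm gd N31461 = N45907 := rfl
theorem L388067 : sm gf N45907 = N31468 := ded_35_2 (flp_d L266691) (flp_f L266628) L388064
theorem L388078 : sm gi N31463 = N45909 := rfl
theorem L388080 : sm ga N45909 = N31464 := ded_18_1 (flp_i L266651) L266641 L388078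
theorem L388082 : sm gb N45909 = N45909 := ded_26_1 (flp_i L388078) L266650 L388078
theorem L388083 : sm ge N45909 = N32301 := ded_44_1 (flp_i L273611) (flp_e L266643) L388078
theorem L388085 : sm gg N45909 = N45909 := ded_51_1 (flp_i L388078) L266645 L388078
theorem L388086 : sm gj N45909 = N31466 := ded_53_1 (flp_i L266672) (flp_j L266646) L388078
theorem L388088 : sm gh N31464 = N45910 := rfl
theorem L388095 : sm gj N45910 = N31467 := ded_52_1 (flp_h L266681) (flp_j L266658) L388088
theorem L388107 : sm gh N31466 = N45912 := rfl
theorem L388109 : sm ga N45912 = N31467 := ded_17_1 (flp_h L266681) (flp_a L266674) L388107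
theorem L388111 : sm gb N45912 = N45912 := ded_25_1 (flp_h L388107) L266676 L388107
theorem L388112 : sm ge N45912 = N32304 := ded_43_1 (flp_h L273639) (flp_e L266677) L388107
theorem L388114 : sm gg N45912 = N31469 := ded_50_1 (flp_h L266698) (flp_g L266679) L388107
theorem L388116 : sm gi N45912 = N31795 := ded_54_2 (flp_h L269334) (flp_i L185328) (flp_h L183431) L266672 L388107
theorem L388118 : sm gd N31467 = N45913 := rfl
theorem L388120 : sm gb N45913 = N31468 := ded_20_1 (flp_d L266691) (flp_b L266683) L388118
theorem L388122 : sm gg N45913 = N31470 := ded_36_2 (flp_d L266708) (flp_g L266687) L388118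
theorem L388124 : sm gi N45913 = N31796 := ded_39_2 (flp_d L269343) (flp_i L266689) L388118
theorem L388126 : sm ge N31468 = N45914 := rfl
theorem L388129 : sm gg N45914 = N31471 := ded_41_2 (flp_e L266715) (flp_g L266694) L388126
theorem L388133 : sm gd N45914 = N32306 := ded_34_1 (flp_e L273657) (flp_d L188294) (flp_e L183447) L266691 L388126
theorem L388135 : sm gd N31469 = N45915 := rfl
theorem L388137 : sm ga N45915 = N31470 := ded_12_1 (flp_d L266708) (flp_a L266700) L388135
theorem L388141 : sm gi N45915 = N31798 := ded_39_2 (flp_d L269358) (flp_i L266706) L388135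
theorem L388143 : sm gc N31470 = N45916 := rfl
theorem L388146 : sm gi N45916 = N31799 := ded_33_2 (flp_c L269365) (flp_i L266713) L388143
theorem L388148 : sm ge N31470 = N45917 := rfl
theorem L388150 : sm gb N45917 = N31471 := ded_21_1 (flp_e L266715) (flp_b L266710) L388148
theorem L388153 : sm gi N45917 = N31800 := ded_44_2 (flp_e L269369) (flp_i L266713) L388148
theorem L388155 : sm gd N45917 = N32309 := ded_34_1 (flp_e L273684) (flp_d L188312) (flp_e L183465) L266708 L388148
theorem L388157 : sm gf N31471 = N45918 := rfl
theorem L388160 : sm gd N45918 = N32310 := ded_35_1 (flp_f L273692) (flp_d L266721) L388157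
theorem L388198 : sm gi N31473 = N45923 := rfl
theorem L388206 : sm gh N45923 = N31642 := ded_54_1 (flp_i L268109) (flp_h L184438) (flp_i L183482) L266733 L388198
theorem L388272 : sm ge N31477 = N45931 := rfl
theorem L388278 : sm gh N45931 = N31485 := ded_43_2 (flp_e L266844) (flp_h L266777) L388272
theorem L388280 : sm gd N45931 = N34749 := ded_34_1 (flp_e L294556) (flp_d L202688) (flp_e L183501) L266771 L388272
theorem L388300 : sm gh N31479 = N45934 := rfl
theorem L388309 : sm gj N45934 = N31480 := ded_52_1 (flp_h L266800) L266789 L388300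
theorem L388318 : sm gi N31480 = N45936 := rfl
theorem L388327 : sm gh N45936 = N31654 := ded_54_1 (flp_i L268212) (flp_h L184498) (flp_i L183510) L266800 L388318
theorem L388337 : sm gi N31481 = N45938 := rfl
theorem L388343 : sm ge N45938 = N31488 := ded_44_1 (flp_i L266871) (flp_e L266815) L388337
theorem L388348 : sm gh N45938 = N31656 := ded_54_1 (flp_i L268230) (flp_h L184507) (flp_i L183521) L266809 L388337
theorem L388401 : sm gi N31485 = N45946 := rfl
theorem L388408 : sm ge N45946 = N31486 := ded_44_1 (flp_i L266852) L266844 L388401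
theorem L388411 : sm gh N31486 = N45947 := rfl
theorem L388417 : sm gd N45947 = N31661 := ded_38_1 (flp_h L268273) L184547 (flp_h L183549) (flp_d L266857) L388411
theorem L388462 : sm gi N31489 = N45952 := rfl
theorem L388466 : sm gc N45952 = N31491 := ded_33_1 (flp_i L266902) L266883 L388462
theorem L388473 : sm gf N31490 = N45953 := rfl
theorem L388478 : sm gh N45953 = N34763 := ded_47_2 (flp_f L294690) (flp_h L266900) L388473
theorem L388481 : sm gi N31490 = N45954 := rfl
theorem L388486 : sm ge N45954 = N31491 := ded_44_1 (flp_i L266902) L266893 L388481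
theorem L388600 : sm gj N31501 = N45967 := rfl
theorem L388602 : sm ga N45967 = N31547 := ded_16_1 (flp_j L267394) (flp_a L266998) L388600
theorem L388605 : sm ge N45967 = N31502 := ded_42_1 (flp_j L267005) L266996 L388600
theorem L388607 : sm gf N45967 = N34771 := ded_46_1 (flp_j L294758) (flp_f L267003) L388600
theorem L388609 : sm gi N45967 = N31662 := ded_53_2 (flp_j L268280) (flp_i L267000) L388600
theorem L388611 : sm gh N31501 = N45968 := rfl
theorem L388613 : sm ga N45968 = N31548 := ded_17_1 (flp_h L267404) (flp_a L266998) L388611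
theorem L388615 : sm ge N45968 = N31503 := ded_43_1 (flp_h L267015) L266996 L388611
theorem L388617 : sm gf N45968 = N34772 := ded_47_1 (flp_h L294767) (flp_f L267003) L388611
theorem L388619 : sm gg N31502 = N45969 := rfl
theorem L388621 : sm ga N45969 = N31549 := ded_15_1 (flp_g L267411) (flp_a L267007) L388619
theorem L388623 : sm gd N45969 = N31510 := ded_36_1 (flp_g L267071) (flp_d L267009) L388619
theorem L388625 : sm gi N45969 = N31664 := ded_51_2 (flp_g L268297) (flp_i L267013) L388619
theorem L388628 : sm gh N31502 = N45970 := rfl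
theorem L388630 : sm ga N45970 = N31550 := ded_17_1 (flp_h L267419) (flp_a L267007) L388628
theorem L388632 : sm gf N45970 = N31504 := ded_47_1 (flp_h L267021) (flp_f L267011) L388628
theorem L388634 : sm gj N45970 = N31503 := ded_52_1 (flp_h L267015) L267005 L388628
theorem L388644 : sm gi N31503 = N45972 := rfl
theorem L388646 : sm ga N45972 = N31552 := ded_18_1 (flp_i L267433) (flp_a L267017) L388644
theorem L388648 : sm gf N45972 = N31506 := ded_48_1 (flp_i L267038) (flp_f L267019) L388644
theorem L388650 : sm gh N45972 = N31667 := ded_54_1 (flp_i L268320) (flp_h L184577) (flp_i L183655) L267015 L388644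
theorem L388661 : sm gi N31504 = N45974 := rfl
theorem L388663 : sm ga N45974 = N31554 := ded_18_1 (flp_i L267448) (flp_a L267023) L388661
theorem L388665 : sm ge N45974 = N34778 := ded_44_1 (flp_i L294819) (flp_e L267025) L388661
theorem L388668 : sm gj N45974 = N31506 := ded_53_1 (flp_i L267038) (flp_j L267028) L388661
theorem L388670 : sm gh N45974 = N31669 := ded_54_1 (flp_i L268336) (flp_h L184583) (flp_i L183665) L267021 L388661
theorem L388746 : sm gh N31510 = N45984 := rfl
theorem L388750 : sm gc N45984 = N31533 := ded_32_1 (flp_h L267276) (flp_c L267075) L388746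
theorem L388777 : sm gc N31512 = N45987 := rfl
theorem L388779 : sm ga N45987 = N31567 := ded_11_1 (flp_c L267550) (flp_a L267094) L388777
theorem L388781 : sm gf N45987 = N31516 := ded_29_2 (flp_c L267129) (flp_f L267096) L388777
theorem L388783 : sm gd N45987 = N31536 := ded_27_2 (flp_c L267306) (flp_d L183860) (flp_c L183707) L267092 L388777
theorem L388798 : sm gc N31514 = N45990 := rfl
theorem L388803 : sm gj N45990 = N31516 := ded_31_2 (flp_c L267129) (flp_j L267114) L388798
theorem L388805 : sm gd N45990 = N31539 := ded_27_2 (flp_c L267328) (flp_d L183877) (flp_c L183716) L267109 L388798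
theorem L388902 : sm gi N31520 = N46003 := rfl
theorem L388909 : sm ge N46003 = N31521 := ded_44_1 (flp_i L267166) L267158 L388902
theorem L389002 : sm gi N31531 = N46014 := rfl
theorem L389004 : sm ga N46014 = N31594 := ded_18_1 (flp_i L267747) (flp_a L267260) L389002
theorem L389009 : sm gj N46014 = N31532 := ded_53_1 (flp_i L267267) L267258 L389002
theorem L389012 : sm gd N31533 = N46015 := rfl
theorem L389014 : sm ga N46015 = N31595 := ded_12_1 (flp_d L267756) (flp_a L267278) L389012
theorem L389018 : sm gg N46015 = N31534 := ded_36_2 (flp_d L267285) (flp_g L267283) L389012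
theorem L389031 : sm gc N31534 = N46017 := rfl
theorem L389033 : sm ga N46017 = N31597 := ded_11_1 (flp_c L267773) (flp_a L267287) L389031
theorem L389039 : sm ge N31534 = N46018 := rfl
theorem L389041 : sm ga N46018 = N31598 := ded_13_1 (flp_e L267779) (flp_a L267287) L389039
theorem L389048 : sm gi N31534 = N46019 := rfl
theorem L389057 : sm gj N46019 = N31538 := ded_53_1 (flp_i L267319) (flp_j L267292) L389048
theorem L389064 : sm ge N31536 = N46021 := rfl
theorem L389066 : sm ga N46021 = N31601 := ded_13_1 (flp_e L267803) (flp_a L267308) L389064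
theorem L389068 : sm gc N46021 = N31537 := ded_28_1 (flp_e L267312) L267306 L389064
theorem L389088 : sm gh N31538 = N46024 := rfl
theorem L389090 : sm ga N46024 = N31604 := ded_17_1 (flp_h L267822) (flp_a L267321) L389088
theorem L389093 : sm gf N46024 = N31543 := ded_47_1 (flp_h L267362) (flp_f L267326) L389088
theorem L389095 : sm gd N46024 = N31698 := ded_38_1 (flp_h L268582) L184765 (flp_h L183875) (flp_d L267324) L389088
theorem L389104 : sm gi N31539 = N46026 := rfl
theorem L389106 : sm ga N46026 = N31606 := ded_18_1 (flp_i L267838) (flp_a L267330) L389104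
theorem L389112 : sm gj N46026 = N31542 := ded_53_1 (flp_i L267353) (flp_j L267334) L389104
theorem L389125 : sm ga N31541 = N46028 := rfl
theorem L389131 : sm gb N46028 = N31608 := ded_10_2 (flp_a L267856) (flp_b L184244) (flp_a L183900) L267347 L389125
theorem L389133 : sm gi N31541 = N46029 := rfl
theorem L389135 : sm gb N46029 = N31542 := ded_26_1 (flp_i L267353) L267347 L389133
theorem L389139 : sm gg N46029 = N31545 := ded_51_1 (flp_i L267379) (flp_g L267350) L389133
theorem L389166 : sm gd N31546 = N46033 := rfl
theorem L389168 : sm ga N46033 = N31613 := ded_12_1 (flp_d L267895) (flp_a L267388) L389166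
theorem L389171 : sm gc N46033 = N31707 := ded_27_1 (flp_d L268664) L184836 (flp_d L183935) (flp_c L267390) L389166
theorem L389173 : sm gg N31547 = N46034 := rfl
theorem L389175 : sm gb N46034 = N46034 := ded_23_1 (flp_g L389173) L267396 L389173
theorem L389176 : sm gd N46034 = N46034 := ded_36_1 (flp_g L389173) L267397 L389173
theorem L389177 : sm ge N46034 = N31549 := ded_41_1 (flp_g L267411) (flp_e L267398) L389173
theorem L389179 : sm gi N46034 = N31708 := ded_51_2 (flp_g L268669) (flp_i L267402) L389173
theorem L389181 : sm gh N31547 = N46035 := rfl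
theorem L389183 : sm gb N46035 = N46035 := ded_25_1 (flp_h L389181) L267396 L389181
theorem L389184 : sm ge N46035 = N31550 := ded_43_1 (flp_h L267419) (flp_e L267398) L389181
theorem L389186 : sm gf N46035 = N34811 := ded_47_1 (flp_h L295112) (flp_f L267400) L389181
theorem L389188 : sm gj N46035 = N31548 := ded_52_1 (flp_h L267404) L267394 L389181
theorem L389190 : sm gd N31548 = N46036 := rfl
theorem L389192 : sm gb N46036 = N46036 := ded_20_1 (flp_d L389190) L267406 L389190
theorem L389193 : sm gf N46036 = N34812 := ded_35_2 (flp_d L295119) (flp_f L267409) L389190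
theorem L389195 : sm gh N46036 = N46036 := ded_38_2 (flp_d L389190) (flp_h L267404) L183942 L267404 L389190
theorem L389196 : sm gi N31548 = N46037 := rfl
theorem L389198 : sm gb N46037 = N46037 := ded_26_1 (flp_i L389196) L267406 L389196
theorem L389199 : sm ge N46037 = N31552 := ded_44_1 (flp_i L267433) (flp_e L267407) L389196
theorem L389201 : sm gf N46037 = N34813 := ded_48_1 (flp_i L295124) (flp_f L267409) L389196
theorem L389203 : sm gh N46037 = N31711 := ded_54_1 (flp_i L268690) (flp_h L184849) (flp_i L183940) L267404 L389196
theorem L389205 : sm gh N31549 = N46038 := rfl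
theorem L389207 : sm gb N46038 = N46038 := ded_25_1 (flp_h L389205) L267413 L389205
theorem L389208 : sm gf N46038 = N46038 := ded_47_1 (flp_h L389205) L267418 L389205
theorem L389209 : sm gg N46038 = N31550 := ded_50_1 (flp_h L267419) L267411 L389205
theorem L389211 : sm gd N31550 = N46039 := rfl
theorem L389214 : sm gf N46039 = N31553 := ded_35_2 (flp_d L267440) (flp_f L267422) L389211
theorem L389216 : sm gj N46039 = N31551 := ded_37_2 (flp_d L267426) (flp_j L267424) L389211
theorem L389220 : sm gi N31550 = N46040 := rfl
theorem L389222 : sm gb N46040 = N46040 := ded_26_1 (flp_i L389220) L267421 L389220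
theorem L389223 : sm gf N46040 = N31554 := ded_48_1 (flp_i L267448) (flp_f L267422) L389220
theorem L389225 : sm gj N46040 = N31552 := ded_53_1 (flp_i L267433) (flp_j L267424) L389220
theorem L389227 : sm gh N46040 = N31714 := ded_54_1 (flp_i L268712) (flp_h L184862) (flp_i L183952) L267419 L389220
theorem L389240 : sm gi N31551 = N46043 := rfl
theorem L389243 : sm gd N46043 = N31552 := ded_39_1 (flp_i L267433) L267426 L389240
theorem L389245 : sm gf N46043 = N31557 := ded_48_1 (flp_i L267473) (flp_f L267429) L389240
theorem L389264 : sm gi N31553 = N46046 := rfl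
theorem L389267 : sm gd N46046 = N31554 := ded_39_1 (flp_i L267448) L267440 L389264
theorem L389270 : sm gj N46046 = N31557 := ded_53_1 (flp_i L267473) (flp_j L267444) L389264
theorem L389287 : sm gi N31555 = N46049 := rfl
theorem L389289 : sm gc N46049 = N31557 := ded_33_1 (flp_i L267473) L267458 L389287
theorem L389293 : sm gf N31556 = N46050 := rfl
theorem L389298 : sm gh N46050 = N31576 := ded_47_2 (flp_f L267612) (flp_h L267469) L389293
theorem L389309 : sm gh N31557 = N46052 := rfl
theorem L389316 : sm gi N46052 = N31578 := ded_54_2 (flp_h L267626) (flp_i L184067) (flp_h L183972) L267473 L389309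
theorem L389332 : sm gi N31558 = N46055 := rfl
theorem L389351 : sm gi N31559 = N46058 := rfl
theorem L389406 : sm gc N31565 = N46065 := rfl
theorem L389410 : sm gj N46065 = N31567 := ded_31_2 (flp_c L267550) (flp_j L267536) L389406
theorem L389412 : sm gd N46065 = N31597 := ded_27_2 (flp_c L267773) (flp_d L184191) (flp_c L184014) L267531 L389406
theorem L389429 : sm gb N31567 = N46068 := rfl
theorem L389431 : sm gd N46068 = N31600 := ded_20_2 (flp_b L267797) (flp_d L267554) L389429
theorem L389433 : sm gf N46068 = N31573 := ded_22_2 (flp_b L267590) (flp_f L267552) L389429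
theorem L389467 : sm gb N31570 = N46074 := rfl
theorem L389469 : sm gd N46074 = N31605 := ded_20_2 (flp_b L267830) (flp_d L267572) L389467
theorem L389472 : sm gj N46074 = N31573 := ded_24_2 (flp_b L267590) (flp_j L267570) L389467
theorem L389517 : sm ga N31573 = N46080 := rfl
theorem L389520 : sm gd N46080 = N31608 := ded_12_2 (flp_a L267856) (flp_d L267592) L389517
theorem L389532 : sm gi N31573 = N46082 := rfl
theorem L389534 : sm gb N46082 = N31575 := ded_26_1 (flp_i L267604) L267590 L389532
theorem L389537 : sm gd N46082 = N31609 := ded_39_1 (flp_i L267863) (flp_d L267592) L389532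
theorem L389539 : sm gg N46082 = N31581 := ded_51_1 (flp_i L267646) (flp_g L267594) L389532
theorem L389546 : sm gi N31574 = N46084 := rfl
theorem L389551 : sm ge N46084 = N31575 := ded_44_1 (flp_i L267604) L267597 L389546
theorem L389653 : sm gi N31585 = N46099 := rfl
theorem L389656 : sm gd N46099 = N31593 := ded_39_1 (flp_i L267738) (flp_d L267676) L389653
theorem L389675 : sm gi N31588 = N46102 := rfl
theorem L389680 : sm gf N46102 = N31589 := ded_48_1 (flp_i L267702) L267693 L389675
theorem L389682 : sm gj N46102 = N31591 := ded_53_1 (flp_i L267721) (flp_j L267697) L389675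
theorem L389714 : sm gc N31595 = N46106 := rfl
theorem L389716 : sm gf N46106 = N46106 := ded_29_2 (flp_c L389714) L267760 L389714
theorem L389717 : sm gg N46106 = N31597 := ded_30_2 (flp_c L267773) (flp_g L267761) L389714
theorem L389719 : sm ge N31595 = N46107 := rfl
theorem L389721 : sm gb N46107 = N31615 := ded_21_1 (flp_e L267907) (flp_b L267758) L389719
theorem L389723 : sm gg N46107 = N31598 := ded_41_2 (flp_e L267779) (flp_g L267761) L389719
theorem L389725 : sm gd N46107 = N46107 := ded_34_1 (flp_e L389719) (flp_d L267756) L184187 L267756 L389719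
theorem L389726 : sm gi N31595 = N46108 := rfl
theorem L389728 : sm gb N46108 = N31616 := ded_26_1 (flp_i L267913) (flp_b L267758) L389726
theorem L389730 : sm gd N46108 = N31596 := ded_39_1 (flp_i L267763) L267756 L389726
theorem L389735 : sm gb N31597 = N46109 := rfl
theorem L389737 : sm gf N46109 = N31605 := ded_22_2 (flp_b L267830) (flp_f L267775) L389735
theorem L389739 : sm gj N46109 = N31600 := ded_24_2 (flp_b L267797) (flp_j L267777) L389735
theorem L389741 : sm gc N46109 = N31617 := ded_19_2 (flp_b L267921) (flp_c L184303) (flp_b L184193) L267773 L389735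
theorem L389743 : sm ge N31597 = N46110 := rfl
theorem L389745 : sm gc N46110 = N31598 := ded_28_1 (flp_e L267779) L267773 L389743
theorem L389747 : sm gj N46110 = N31601 := ded_42_2 (flp_e L267803) (flp_j L267777) L389743
theorem L389749 : sm gf N46110 = N46110 := ded_40_2 (flp_e L389743) L267775 L184230 (flp_f L267775) L389743
theorem L389750 : sm gi N31597 = N46111 := rfl
theorem L389756 : sm gj N46111 = N31602 := ded_53_1 (flp_i L267808) (flp_j L267777) L389750
theorem L389758 : sm gi N31598 = N46112 := rfl
theorem L389760 : sm gb N46112 = N31620 := ded_26_1 (flp_i L267946) (flp_b L267781) L389758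
theorem L389766 : sm gj N46112 = N31603 := ded_53_1 (flp_i L267814) (flp_j L267783) L389758
theorem L389768 : sm gh N31599 = N46113 := rfl
theorem L389772 : sm gf N46113 = N31607 := ded_47_1 (flp_h L267846) (flp_f L267793) L389768
theorem L389776 : sm gd N46113 = N31752 := ded_38_1 (flp_h L268999) L185073 (flp_h L184208) (flp_d L267791) L389768
theorem L389778 : sm ga N31600 = N46114 := rfl
theorem L389780 : sm gc N46114 = N31622 := ded_11_2 (flp_a L267964) (flp_c L267801) L389778
theorem L389782 : sm gf N46114 = N31608 := ded_14_2 (flp_a L267856) (flp_f L267799) L389778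
theorem L389784 : sm ge N31600 = N46115 := rfl
theorem L389786 : sm gb N46115 = N31601 := ded_21_1 (flp_e L267803) L267797 L389784
theorem L389788 : sm gc N46115 = N31623 := ded_28_1 (flp_e L267970) (flp_c L267801) L389784
theorem L389791 : sm gi N31600 = N46116 := rfl
theorem L389793 : sm gb N46116 = N31602 := ded_26_1 (flp_i L267808) L267797 L389791
theorem L389795 : sm gc N46116 = N31624 := ded_33_1 (flp_i L267975) (flp_c L267801) L389791
theorem L389799 : sm gd N31601 = N46117 := rfl
theorem L389803 : sm gi N31601 = N46118 := rfl
theorem L389805 : sm gc N46118 = N31603 := ded_33_1 (flp_i L267814) (flp_c L267805) L389803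
theorem L389807 : sm ge N46118 = N31602 := ded_44_1 (flp_i L267808) L267803 L389803
theorem L389810 : sm gh N31602 = N46119 := rfl
theorem L389814 : sm gf N46119 = N31610 := ded_47_1 (flp_h L267872) (flp_f L267812) L389810
theorem L389816 : sm gh N31603 = N46120 := rfl
theorem L389818 : sm gb N46120 = N31628 := ded_25_1 (flp_h L268003) (flp_b L267816) L389816
theorem L389823 : sm ga N31605 = N46121 := rfl
theorem L389825 : sm gc N46121 = N31629 := ded_11_2 (flp_a L268009) (flp_c L267836) L389823
theorem L389827 : sm ge N46121 = N46121 := ded_13_2 (flp_a L389823) L267832 L389823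
theorem L389828 : sm gg N46121 = N46121 := ded_15_2 (flp_a L389823) L267833 L389823
theorem L389829 : sm gj N46121 = N31608 := ded_16_2 (flp_a L267856) (flp_j L267834) L389823
theorem L389831 : sm gi N31605 = N46122 := rfl
theorem L389833 : sm gb N46122 = N31606 := ded_26_1 (flp_i L267838) L267830 L389831
theorem L389835 : sm gc N46122 = N31630 := ded_33_1 (flp_i L268017) (flp_c L267836) L389831
theorem L389841 : sm gh N31606 = N46123 := rfl
theorem L389843 : sm gc N46123 = N31607 := ded_32_1 (flp_h L267846) (flp_c L267840) L389841
theorem L389847 : sm gj N46123 = N31610 := ded_52_1 (flp_h L267872) (flp_j L267844) L389841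
theorem L389849 : sm gi N31608 = N46124 := rfl
theorem L389853 : sm gc N46124 = N31632 := ded_33_1 (flp_i L268035) (flp_c L267858) L389849
theorem L389856 : sm gg N46124 = N31611 := ded_51_1 (flp_i L267879) (flp_g L267861) L389849
theorem L389858 : sm gh N31609 = N46125 := rfl
theorem L389860 : sm gb N46125 = N31610 := ded_25_1 (flp_h L267872) (flp_b L267865) L389858
theorem L389862 : sm gc N46125 = N31633 := ded_32_1 (flp_h L268044) (flp_c L267867) L389858
theorem L389867 : sm gd N31610 = N46126 := rfl
theorem L389871 : sm gc N46126 = N31765 := ded_27_1 (flp_d L269105) L185159 (flp_d L184265) (flp_c L267874) L389867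
theorem L389873 : sm gh N31611 = N46127 := rfl
theorem L389875 : sm ga N46127 = N31612 := ded_17_1 (flp_h L267887) (flp_a L267881) L389873
theorem L389877 : sm gc N46127 = N31635 := ded_32_1 (flp_h L268059) (flp_c L267883) L389873
theorem L389886 : sm ge N31613 = N46129 := rfl
theorem L389888 : sm gc N46129 = N31768 := ded_28_1 (flp_e L269123) (flp_c L267898) L389886
theorem L389892 : sm gb N31614 = N46130 := rfl
theorem L389896 : sm gg N46130 = N31617 := ded_23_2 (flp_b L267921) (flp_g L267904) L389892
theorem L389898 : sm ge N31614 = N46131 := rfl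
theorem L389901 : sm gc N46131 = N31615 := ded_28_1 (flp_e L267907) L267900 L389898
theorem L389905 : sm gi N31614 = N46132 := rfl
theorem L389908 : sm gc N46132 = N31616 := ded_33_1 (flp_i L267913) L267900 L389905
theorem L389912 : sm gg N46132 = N31619 := ded_51_1 (flp_i L267936) (flp_g L267904) L389905
theorem L389914 : sm gf N31615 = N46133 := rfl
theorem L389920 : sm gi N31615 = N46134 := rfl
theorem L389924 : sm ge N46134 = N31616 := ded_44_1 (flp_i L267913) L267907 L389920
theorem L389926 : sm gg N46134 = N31620 := ded_51_1 (flp_i L267946) (flp_g L267910) L389920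
theorem L389928 : sm gh N31616 = N46135 := rfl
theorem L389932 : sm gg N46135 = N31621 := ded_50_1 (flp_h L267955) (flp_g L267919) L389928
theorem L389936 : sm ga N31617 = N46136 := rfl
theorem L389939 : sm gf N46136 = N31629 := ded_14_2 (flp_a L268009) (flp_f L267924) L389936
theorem L389941 : sm gj N46136 = N31622 := ded_16_2 (flp_a L267964) (flp_j L267926) L389936
theorem L389944 : sm ge N31617 = N46137 := rfl
theorem L389946 : sm gb N46137 = N31618 := ded_21_1 (flp_e L267928) L267921 L389944
theorem L389948 : sm gj N46137 = N31623 := ded_42_2 (flp_e L267970) (flp_j L267926) L389944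
theorem L389951 : sm gi N31617 = N46138 := rfl
theorem L389953 : sm gb N46138 = N31619 := ded_26_1 (flp_i L267936) L267921 L389951
theorem L389956 : sm gf N46138 = N31630 := ded_48_1 (flp_i L268017) (flp_f L267924) L389951
theorem L389958 : sm gj N46138 = N31624 := ded_53_1 (flp_i L267975) (flp_j L267926) L389951
theorem L389978 : sm gh N31619 = N46141 := rfl
theorem L389981 : sm gc N46141 = N31621 := ded_32_1 (flp_h L267955) (flp_c L267939) L389978
theorem L389983 : sm gf N46141 = N31631 := ded_47_1 (flp_h L268026) (flp_f L267942) L389978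
theorem L389985 : sm gj N46141 = N31627 := ded_52_1 (flp_h L267996) (flp_j L267944) L389978
theorem L389987 : sm gh N31620 = N46142 := rfl
theorem L389990 : sm ge N46142 = N31621 := ded_43_1 (flp_h L267955) (flp_e L267950) L389987
theorem L389993 : sm gj N46142 = N31628 := ded_52_1 (flp_h L268003) (flp_j L267953) L389987
theorem L389995 : sm ge N31622 = N46143 := rfl
theorem L389997 : sm ga N46143 = N31623 := ded_13_1 (flp_e L267970) L267964 L389995
theorem L390001 : sm gi N31622 = N46144 := rfl
theorem L390003 : sm ga N46144 = N31624 := ded_18_1 (flp_i L267975) L267964 L390001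
theorem L390007 : sm gf N46144 = N31632 := ded_48_1 (flp_i L268035) (flp_f L267967) L390001
theorem L390015 : sm gi N31623 = N46146 := rfl
theorem L390019 : sm ge N46146 = N31624 := ded_44_1 (flp_i L267975) L267970 L390015
theorem L390022 : sm gh N31624 = N46147 := rfl
theorem L390024 : sm gb N46147 = N31627 := ded_25_1 (flp_h L267996) (flp_b L267977) L390022
theorem L390026 : sm gf N46147 = N31633 := ded_47_1 (flp_h L268044) (flp_f L267980) L390022
theorem L390042 : sm gh N31626 = N46150 := rfl
theorem L390045 : sm gc N46150 = N31628 := ded_32_1 (flp_h L268003) (flp_c L267991) L390042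
theorem L390047 : sm ge N46150 = N31627 := ded_43_1 (flp_h L267996) (flp_e L267993) L390042
theorem L390050 : sm gd N31627 = N46151 := rfl
theorem L390053 : sm gf N46151 = N31634 := ded_35_2 (flp_d L268051) (flp_f L268001) L390050
theorem L390058 : sm gd N31628 = N46152 := rfl
theorem L390062 : sm ge N46152 = N31791 := ded_34_2 (flp_d L269301) L185295 (flp_d L184358) (flp_e L268006) L390058
theorem L390065 : sm gi N31629 = N46153 := rfl
theorem L390067 : sm ga N46153 = N31630 := ded_18_1 (flp_i L268017) L268009 L390065
theorem L390069 : sm gb N46153 = N46153 := ded_26_1 (flp_i L390065) L268016 L390065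
theorem L390070 : sm gd N46153 = N46153 := ded_39_1 (flp_i L390065) L268011 L390065
theorem L390071 : sm ge N46153 = N46153 := ded_44_1 (flp_i L390065) L268012 L390065
theorem L390072 : sm gg N46153 = N46153 := ded_51_1 (flp_i L390065) L268013 L390065
theorem L390073 : sm gj N46153 = N31632 := ded_53_1 (flp_i L268035) (flp_j L268014) L390065
theorem L390075 : sm gh N31630 = N46154 := rfl
theorem L390077 : sm gb N46154 = N31631 := ded_25_1 (flp_h L268026) (flp_b L268019) L390075
theorem L390079 : sm ge N46154 = N46154 := ded_43_1 (flp_h L390075) L268022 L390075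
theorem L390080 : sm gg N46154 = N46154 := ded_50_1 (flp_h L390075) L268023 L390075
theorem L390081 : sm gj N46154 = N31633 := ded_52_1 (flp_h L268044) (flp_j L268024) L390075
theorem L390083 : sm gd N31631 = N46155 := rfl
theorem L390087 : sm gj N46155 = N31634 := ded_37_2 (flp_d L268051) (flp_j L268033) L390083
theorem L390092 : sm gh N31632 = N46156 := rfl
theorem L390094 : sm ga N46156 = N31633 := ded_17_1 (flp_h L268044) (flp_a L268037) L390092
theorem L390096 : sm gb N46156 = N46156 := ded_25_1 (flp_h L390092) L268039 L390092
theorem L390097 : sm ge N46156 = N46156 := ded_43_1 (flp_h L390092) L268041 L390092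
theorem L390098 : sm gg N46156 = N31635 := ded_50_1 (flp_h L268059) (flp_g L268042) L390092
theorem L390100 : sm gd N31633 = N46157 := rfl
theorem L390102 : sm gb N46157 = N31634 := ded_20_1 (flp_d L268051) (flp_b L268046) L390100
theorem L390104 : sm gg N46157 = N31636 := ded_36_2 (flp_d L268066) (flp_g L268049) L390100
theorem L390106 : sm gh N46157 = N46157 := ded_38_2 (flp_d L390100) (flp_h L268044) L184397 L268044 L390100
theorem L390107 : sm ge N31634 = N46158 := rfl
theorem L390112 : sm gg N46158 = N31637 := ded_41_2 (flp_e L268072) (flp_g L268054) L390107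
theorem L390116 : sm gd N31635 = N46159 := rfl
theorem L390118 : sm ga N46159 = N31636 := ded_12_1 (flp_d L268066) (flp_a L268061) L390116
theorem L390123 : sm gc N31636 = N46160 := rfl
theorem L390127 : sm gb N46160 = N31799 := ded_19_1 (flp_c L269365) L185362 (flp_c L184427) (flp_b L268068) L390123
theorem L390129 : sm ge N31636 = N46161 := rfl
theorem L390131 : sm gb N46161 = N31637 := ded_21_1 (flp_e L268072) (flp_b L268068) L390129
theorem L390136 : sm gf N31637 = N46162 := rfl
theorem L390139 : sm gc N46162 = N31801 := ded_29_1 (flp_f L269377) (flp_c L268075) L390136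
theorem L390166 : sm gh N31639 = N46166 := rfl
theorem L390171 : sm ge N46166 = N34875 := ded_43_1 (flp_h L295613) (flp_e L268092) L390166
theorem L390182 : sm gi N31640 = N46168 := rfl
theorem L390185 : sm gc N46168 = N31648 := ded_33_1 (flp_i L268161) (flp_c L268098) L390182
theorem L390187 : sm ge N46168 = N34877 := ded_44_1 (flp_i L295629) (flp_e L268100) L390182
theorem L390189 : sm gg N46168 = N31642 := ded_51_1 (flp_i L268109) (flp_g L268102) L390182
theorem L390198 : sm ge N31641 = N46170 := rfl
theorem L390203 : sm gd N46170 = N34878 := ded_34_1 (flp_e L295636) (flp_d L203491) (flp_e L184443) L268104 L390198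
theorem L390211 : sm gj N31643 = N46172 := rfl
theorem L390214 : sm gb N46172 = N31662 := ded_24_1 (flp_j L268280) (flp_b L268120) L390211
theorem L390221 : sm gh N31643 = N46173 := rfl
theorem L390224 : sm gb N46173 = N31663 := ded_25_1 (flp_h L268289) (flp_b L268120) L390221
theorem L390228 : sm gf N46173 = N34881 := ded_47_1 (flp_h L295659) (flp_f L268123) L390221
theorem L390230 : sm gg N31644 = N46174 := rfl
theorem L390233 : sm gb N46174 = N31664 := ded_23_1 (flp_g L268297) (flp_b L268128) L390230
theorem L390235 : sm gd N46174 = N31651 := ded_36_1 (flp_g L268186) (flp_d L268130) L390230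
theorem L390238 : sm gh N31644 = N46175 := rfl
theorem L390241 : sm gb N46175 = N31665 := ded_25_1 (flp_h L268304) (flp_b L268128) L390238
theorem L390243 : sm gf N46175 = N31646 := ded_47_1 (flp_h L268141) (flp_f L268132) L390238
theorem L390256 : sm gi N31645 = N46177 := rfl
theorem L390259 : sm gb N46177 = N31667 := ded_26_1 (flp_i L268320) (flp_b L268137) L390256
theorem L390261 : sm gf N46177 = N31648 := ded_48_1 (flp_i L268161) (flp_f L268139) L390256
theorem L390274 : sm gi N31646 = N46179 := rfl
theorem L390277 : sm gb N46179 = N31669 := ded_26_1 (flp_i L268336) (flp_b L268144) L390274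
theorem L390279 : sm ge N46179 = N34885 := ded_44_1 (flp_i L295695) (flp_e L268146) L390274
theorem L390282 : sm gj N46179 = N31648 := ded_53_1 (flp_i L268161) (flp_j L268149) L390274
theorem L390302 : sm gb N31649 = N46182 := rfl
theorem L390306 : sm gh N46182 = N31659 := ded_25_2 (flp_b L268258) (flp_h L268175) L390302
theorem L390308 : sm gc N46182 = N31672 := ded_19_2 (flp_b L268363) (flp_c L184609) (flp_b L184475) L268170 L390302
theorem L390317 : sm gh N31650 = N46184 := rfl
theorem L390324 : sm gi N46184 = N31661 := ded_54_2 (flp_h L268273) (flp_i L184542) (flp_h L184479) L268177 L390317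
theorem L390356 : sm gc N31653 = N46188 := rfl
theorem L390359 : sm gf N46188 = N31657 := ded_29_2 (flp_c L268241) (flp_f L268210) L390356
theorem L390362 : sm ge N31653 = N46189 := rfl
theorem L390365 : sm gb N46189 = N31679 := ded_21_1 (flp_e L268422) (flp_b L268208) L390362
theorem L390446 : sm gg N31662 = N46199 := rfl
theorem L390448 : sm ga N46199 = N31708 := ded_15_1 (flp_g L268669) (flp_a L268282) L390446
theorem L390451 : sm ge N46199 = N31664 := ded_41_1 (flp_g L268297) (flp_e L268285) L390446
theorem L390453 : sm gh N31662 = N46200 := rfl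
theorem L390455 : sm ga N46200 = N31709 := ded_17_1 (flp_h L268675) (flp_a L268282) L390453
theorem L390457 : sm ge N46200 = N31665 := ded_43_1 (flp_h L268304) (flp_e L268285) L390453
theorem L390461 : sm gj N46200 = N31663 := ded_52_1 (flp_h L268289) L268280 L390453
theorem L390463 : sm gd N31663 = N46201 := rfl
theorem L390465 : sm ga N46201 = N31710 := ded_12_1 (flp_d L268684) (flp_a L268291) L390463
theorem L390467 : sm gf N46201 = N34888 := ded_35_2 (flp_d L295720) (flp_f L268295) L390463
theorem L390469 : sm gh N46201 = N46201 := ded_38_2 (flp_d L390463) (flp_h L268289) L184566 L268289 L390463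
theorem L390470 : sm gi N31663 = N46202 := rfl
theorem L390472 : sm ga N46202 = N31711 := ded_18_1 (flp_i L268690) (flp_a L268291) L390470
theorem L390474 : sm ge N46202 = N31667 := ded_44_1 (flp_i L268320) (flp_e L268293) L390470
theorem L390476 : sm gf N46202 = N34889 := ded_48_1 (flp_i L295727) (flp_f L268295) L390470
theorem L390478 : sm gh N31664 = N46203 := rfl
theorem L390480 : sm ga N46203 = N31712 := ded_17_1 (flp_h L268697) (flp_a L268299) L390478
theorem L390483 : sm gg N46203 = N31665 := ded_50_1 (flp_h L268304) L268297 L390478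
theorem L390485 : sm gd N31665 = N46204 := rfl
theorem L390487 : sm ga N46204 = N31713 := ded_12_1 (flp_d L268703) (flp_a L268306) L390485
theorem L390489 : sm gf N46204 = N31668 := ded_35_2 (flp_d L268326) (flp_f L268308) L390485
theorem L390495 : sm gi N31665 = N46205 := rfl
theorem L390497 : sm ga N46205 = N31714 := ded_18_1 (flp_i L268712) (flp_a L268306) L390495
theorem L390499 : sm gf N46205 = N31669 := ded_48_1 (flp_i L268336) (flp_f L268308) L390495
theorem L390501 : sm gj N46205 = N31667 := ded_53_1 (flp_i L268320) (flp_j L268310) L390495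
theorem L390503 : sm gc N31666 = N46206 := rfl
theorem L390505 : sm ga N46206 = N31715 := ded_11_1 (flp_c L268719) (flp_a L268314) L390503
theorem L390509 : sm gh N46206 = N31678 := ded_32_2 (flp_c L268414) (flp_h L268318) L390503
theorem L390511 : sm ge N31666 = N46207 := rfl
theorem L390513 : sm ga N46207 = N31716 := ded_13_1 (flp_e L268725) (flp_a L268314) L390511
theorem L390515 : sm gh N46207 = N31679 := ded_43_2 (flp_e L268422) (flp_h L268318) L390511
theorem L390518 : sm gi N31666 = N46208 := rfl
theorem L390520 : sm ga N46208 = N31717 := ded_18_1 (flp_i L268731) (flp_a L268314) L390518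
theorem L390522 : sm gd N46208 = N31667 := ded_39_1 (flp_i L268320) L268312 L390518
theorem L390524 : sm gf N46208 = N31671 := ded_48_1 (flp_i L268354) (flp_f L268316) L390518
theorem L390526 : sm gc N31668 = N46209 := rfl
theorem L390528 : sm ga N46209 = N31718 := ded_11_1 (flp_c L268738) (flp_a L268328) L390526
theorem L390536 : sm gi N31668 = N46210 := rfl
theorem L390538 : sm ga N46210 = N31719 := ded_18_1 (flp_i L268746) (flp_a L268328) L390536
theorem L390540 : sm gd N46210 = N31669 := ded_39_1 (flp_i L268336) L268326 L390536
theorem L390544 : sm gj N46210 = N31671 := ded_53_1 (flp_i L268354) (flp_j L268331) L390536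
theorem L390546 : sm gb N31670 = N46211 := rfl
theorem L390549 : sm gg N46211 = N31672 := ded_23_2 (flp_b L268363) (flp_g L268350) L390546
theorem L390551 : sm gh N46211 = N31683 := ded_25_2 (flp_b L268456) (flp_h L268352) L390546
theorem L390553 : sm gi N31670 = N46212 := rfl
theorem L390555 : sm ga N46212 = N31721 := ded_18_1 (flp_i L268763) (flp_a L268347) L390553
theorem L390557 : sm gc N46212 = N31671 := ded_33_1 (flp_i L268354) L268345 L390553
theorem L390562 : sm gh N31671 = N46213 := rfl
theorem L390564 : sm ga N46213 = N31722 := ded_17_1 (flp_h L268770) (flp_a L268356) L390562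
theorem L390569 : sm gi N46213 = N31685 := ded_54_2 (flp_h L268474) (flp_i L184687) (flp_h L184599) L268354 L390562
theorem L390571 : sm ga N31672 = N46214 := rfl
theorem L390577 : sm gb N46214 = N31723 := ded_10_2 (flp_a L268778) (flp_b L184913) (flp_a L184611) L268363 L390571
theorem L390595 : sm gd N31675 = N46217 := rfl
theorem L390597 : sm ga N46217 = N31726 := ded_12_1 (flp_d L268800) (flp_a L268387) L390595
theorem L390600 : sm gg N46217 = N31676 := ded_36_2 (flp_d L268395) (flp_g L268393) L390595
theorem L390602 : sm gi N31675 = N46218 := rfl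
theorem L390604 : sm ga N46218 = N31727 := ded_18_1 (flp_i L268806) (flp_a L268387) L390602
theorem L390606 : sm gc N46218 = N31690 := ded_33_1 (flp_i L268513) (flp_c L268389) L390602
theorem L390610 : sm gg N46218 = N31677 := ded_51_1 (flp_i L268403) (flp_g L268393) L390602
theorem L390612 : sm gc N31676 = N46219 := rfl
theorem L390614 : sm ga N46219 = N31728 := ded_11_1 (flp_c L268815) (flp_a L268397) L390612
theorem L390620 : sm gd N46219 = N31691 := ded_27_2 (flp_c L268522) (flp_d L184727) (flp_c L184637) L268395 L390612
theorem L390622 : sm ge N31676 = N46220 := rfl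
theorem L390624 : sm ga N46220 = N31729 := ded_13_1 (flp_e L268823) (flp_a L268397) L390622
theorem L390630 : sm gi N31676 = N46221 := rfl
theorem L390634 : sm gd N46221 = N31677 := ded_39_1 (flp_i L268403) L268395 L390630
theorem L390640 : sm gb N31678 = N46222 := rfl
theorem L390642 : sm gd N46222 = N31694 := ded_20_2 (flp_b L268551) (flp_d L268420) L390640
theorem L390644 : sm gf N46222 = N31683 := ded_22_2 (flp_b L268456) (flp_f L268418) L390640
theorem L390646 : sm ge N31678 = N46223 := rfl
theorem L390648 : sm ga N46223 = N31732 := ded_13_1 (flp_e L268846) (flp_a L268416) L390646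
theorem L390650 : sm gc N46223 = N31679 := ded_28_1 (flp_e L268422) L268414 L390646
theorem L390677 : sm gb N31681 = N46227 := rfl
theorem L390679 : sm gd N46227 = N31699 := ded_20_2 (flp_b L268589) (flp_d L268444) L390677
theorem L390683 : sm gj N46227 = N31683 := ded_24_2 (flp_b L268456) (flp_j L268442) L390677
theorem L390705 : sm ga N31683 = N46230 := rfl
theorem L390707 : sm gd N46230 = N31702 := ded_12_2 (flp_a L268618) (flp_d L268458) L390705
theorem L390712 : sm gb N46230 = N31739 := ded_10_2 (flp_a L268897) (flp_b L184994) (flp_a L184680) L268456 L390705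
theorem L390714 : sm gi N31683 = N46231 := rfl
theorem L390718 : sm gd N46231 = N31703 := ded_39_1 (flp_i L268627) (flp_d L268458) L390714
theorem L390721 : sm gg N46231 = N31687 := ded_51_1 (flp_i L268489) (flp_g L268461) L390714
theorem L390755 : sm gc N31689 = N46236 := rfl
theorem L390757 : sm ga N46236 = N31745 := ded_11_1 (flp_c L268943) (flp_a L268507) L390755
theorem L390759 : sm gf N46236 = N46236 := ded_29_2 (flp_c L390755) L268510 L390755
theorem L390760 : sm gg N46236 = N31691 := ded_30_2 (flp_c L268522) (flp_g L268511) L390755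
theorem L390762 : sm ge N31689 = N46237 := rfl
theorem L390764 : sm ga N46237 = N31746 := ded_13_1 (flp_e L268948) (flp_a L268507) L390762
theorem L390767 : sm gg N46237 = N31692 := ded_41_2 (flp_e L268530) (flp_g L268511) L390762
theorem L390770 : sm gi N31689 = N46238 := rfl
theorem L390772 : sm ga N46238 = N31747 := ded_18_1 (flp_i L268955) (flp_a L268507) L390770
theorem L390778 : sm gg N46238 = N31693 := ded_51_1 (flp_i L268540) (flp_g L268511) L390770
theorem L390780 : sm gb N31691 = N46239 := rfl
theorem L390782 : sm gf N46239 = N31699 := ded_22_2 (flp_b L268589) (flp_f L268526) L390780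
theorem L390784 : sm gj N46239 = N31694 := ded_24_2 (flp_b L268551) (flp_j L268528) L390780
theorem L390786 : sm gc N46239 = N46239 := ded_19_2 (flp_b L390780) (flp_c L268522) L184731 L268522 L390780
theorem L390787 : sm ge N31691 = N46240 := rfl
theorem L390789 : sm ga N46240 = N31749 := ded_13_1 (flp_e L268972) (flp_a L268524) L390787
theorem L390791 : sm gc N46240 = N31692 := ded_28_1 (flp_e L268530) L268522 L390787
theorem L390793 : sm gj N46240 = N31695 := ded_42_2 (flp_e L268556) (flp_j L268528) L390787
theorem L390797 : sm gi N31691 = N46241 := rfl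
theorem L390799 : sm ga N46241 = N31750 := ded_18_1 (flp_i L268980) (flp_a L268524) L390797
theorem L390801 : sm gc N46241 = N31693 := ded_33_1 (flp_i L268540) L268522 L390797
theorem L390807 : sm gi N31692 = N46242 := rfl
theorem L390813 : sm ge N46242 = N31693 := ded_44_1 (flp_i L268540) L268530 L390807
theorem L390819 : sm gh N31693 = N46243 := rfl
theorem L390821 : sm ga N46243 = N31752 := ded_17_1 (flp_h L268999) (flp_a L268542) L390819
theorem L390828 : sm ga N31694 = N46244 := rfl
theorem L390830 : sm gc N46244 = N46244 := ded_11_2 (flp_a L390828) L268555 L390828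
theorem L390831 : sm gf N46244 = N31702 := ded_14_2 (flp_a L268618) (flp_f L268553) L390828
theorem L390833 : sm gb N46244 = N31753 := ded_10_2 (flp_a L269007) (flp_b L185079) (flp_a L184748) L268551 L390828
theorem L390835 : sm ge N31694 = N46245 := rfl
theorem L390837 : sm gb N46245 = N31695 := ded_21_1 (flp_e L268556) L268551 L390835
theorem L390839 : sm gc N46245 = N46245 := ded_28_1 (flp_e L390835) L268555 L390835
theorem L390840 : sm gf N46245 = N32320 := ded_40_2 (flp_e L273786) L188381 (flp_e L184792) (flp_f L268553) L390835
theorem L390842 : sm gi N31694 = N46246 := rfl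
theorem L390847 : sm gf N46246 = N31703 := ded_48_1 (flp_i L268627) (flp_f L268553) L390842
theorem L390849 : sm gd N31695 = N46247 := rfl
theorem L390851 : sm ga N46247 = N31756 := ded_12_1 (flp_d L269029) (flp_a L268558) L390849
theorem L390853 : sm gf N46247 = N32322 := ded_35_2 (flp_d L273801) (flp_f L268562) L390849
theorem L390855 : sm gc N46247 = N46247 := ded_27_1 (flp_d L390849) L268560 L184757 (flp_c L268560) L390849
theorem L390856 : sm gi N31695 = N46248 := rfl
theorem L390858 : sm ga N46248 = N31757 := ded_18_1 (flp_i L269034) (flp_a L268558) L390856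
theorem L390860 : sm gc N46248 = N31697 := ded_33_1 (flp_i L268572) (flp_c L268560) L390856
theorem L390864 : sm gf N46248 = N32323 := ded_48_1 (flp_i L273808) (flp_f L268562) L390856
theorem L390866 : sm gh N31696 = N46249 := rfl
theorem L390868 : sm ga N46249 = N31758 := ded_17_1 (flp_h L269042) (flp_a L268566) L390866
theorem L390872 : sm gf N46249 = N31704 := ded_47_1 (flp_h L268636) (flp_f L268570) L390866
theorem L390874 : sm gh N31697 = N46250 := rfl
theorem L390876 : sm ga N46250 = N31759 := ded_17_1 (flp_h L269048) (flp_a L268574) L390874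
theorem L390881 : sm gf N46250 = N32325 := ded_47_1 (flp_h L273826) (flp_f L268580) L390874
theorem L390883 : sm ga N31699 = N46251 := rfl
theorem L390885 : sm gc N46251 = N46251 := ded_11_2 (flp_a L390883) L268596 L390883
theorem L390886 : sm ge N46251 = N32326 := ded_13_2 (flp_a L273834) (flp_e L268591) L390883
theorem L390888 : sm gg N46251 = N46251 := ded_15_2 (flp_a L390883) L268593 L390883
theorem L390889 : sm gj N46251 = N31702 := ded_16_2 (flp_a L268618) (flp_j L268594) L390883
theorem L390891 : sm gb N46251 = N31760 := ded_10_2 (flp_a L269056) (flp_b L185112) (flp_a L184771) L268589 L390883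
theorem L390893 : sm gi N31699 = N46252 := rfl
theorem L390895 : sm gb N46252 = N31700 := ded_26_1 (flp_i L268597) L268589 L390893
theorem L390898 : sm ge N46252 = N32327 := ded_44_1 (flp_i L273843) (flp_e L268591) L390893
theorem L390903 : sm gh N31700 = N46253 := rfl
theorem L390905 : sm ga N46253 = N31762 := ded_17_1 (flp_h L269076) (flp_a L268599) L390903
theorem L390909 : sm ge N46253 = N32328 := ded_43_1 (flp_h L273852) (flp_e L268603) L390903
theorem L390912 : sm gj N46253 = N31704 := ded_52_1 (flp_h L268636) (flp_j L268606) L390903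
theorem L390914 : sm gi N31702 = N46254 := rfl
theorem L390918 : sm gb N46254 = N31763 := ded_26_1 (flp_i L269085) (flp_b L268625) L390914
theorem L390921 : sm ge N46254 = N32329 := ded_44_1 (flp_i L273861) (flp_e L268621) L390914
theorem L390923 : sm gg N46254 = N31705 := ded_51_1 (flp_i L268646) (flp_g L268623) L390914
theorem L390925 : sm gh N31703 = N46255 := rfl
theorem L390927 : sm gb N46255 = N31704 := ded_25_1 (flp_h L268636) (flp_b L268629) L390925
theorem L390930 : sm ge N46255 = N32330 := ded_43_1 (flp_h L273871) (flp_e L268632) L390925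
theorem L390934 : sm gd N31704 = N46256 := rfl
theorem L390936 : sm ga N46256 = N31765 := ded_12_1 (flp_d L269105) (flp_a L268638) L390934
theorem L390938 : sm gg N46256 = N31707 := ded_36_2 (flp_d L268664) (flp_g L268644) L390934
theorem L390940 : sm gh N31705 = N46257 := rfl
theorem L390942 : sm ga N46257 = N31706 := ded_17_1 (flp_h L268656) (flp_a L268648) L390940
theorem L390944 : sm gb N46257 = N31766 := ded_25_1 (flp_h L269109) (flp_b L268650) L390940
theorem L390947 : sm ge N46257 = N32332 := ded_43_1 (flp_h L273886) (flp_e L268653) L390940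
theorem L390950 : sm gd N31706 = N46258 := rfl
theorem L390952 : sm gb N46258 = N31707 := ded_20_1 (flp_d L268664) (flp_b L268658) L390950
theorem L390955 : sm ge N31707 = N46259 := rfl
theorem L390957 : sm ga N46259 = N31768 := ded_13_1 (flp_e L269123) (flp_a L268666) L390955
theorem L390960 : sm gd N46259 = N32334 := ded_34_1 (flp_e L273902) (flp_d L188487) (flp_e L184838) L268664 L390955
theorem L390969 : sm gh N31708 = N46261 := rfl
theorem L390972 : sm ge N46261 = N31712 := ded_43_1 (flp_h L268697) (flp_e L268673) L390969
theorem L390974 : sm gg N46261 = N31709 := ded_50_1 (flp_h L268675) L268669 L390969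
theorem L390976 : sm gd N31709 = N46262 := rfl
theorem L390978 : sm gb N46262 = N46262 := ded_20_1 (flp_d L390976) L268677 L390976
theorem L390979 : sm gf N46262 = N34894 := ded_35_2 (flp_d L295766) (flp_f L268680) L390976
theorem L390981 : sm gj N46262 = N31710 := ded_37_2 (flp_d L268684) (flp_j L268682) L390976
theorem L390983 : sm gh N46262 = N46262 := ded_38_2 (flp_d L390976) (flp_h L268675) L184844 L268675 L390976
theorem L390984 : sm gi N31709 = N46263 := rfl
theorem L390986 : sm gb N46263 = N46263 := ded_26_1 (flp_i L390984) L268677 L390984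
theorem L390987 : sm ge N46263 = N31714 := ded_44_1 (flp_i L268712) (flp_e L268678) L390984
theorem L390989 : sm gf N46263 = N34895 := ded_48_1 (flp_i L295773) (flp_f L268680) L390984
theorem L390991 : sm gj N46263 = N31711 := ded_53_1 (flp_i L268690) (flp_j L268682) L390984
theorem L390993 : sm gc N31710 = N46264 := rfl
theorem L390995 : sm gf N46264 = N34896 := ded_29_2 (flp_c L295780) (flp_f L268687) L390993
theorem L390997 : sm gh N46264 = N46264 := ded_32_2 (flp_c L390993) L268689 L390993
theorem L390998 : sm ge N31710 = N46265 := rfl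
theorem L391000 : sm gb N46265 = N46265 := ded_21_1 (flp_e L390998) L268686 L390998
theorem L391001 : sm gh N46265 = N46265 := ded_43_2 (flp_e L390998) L268689 L390998
theorem L391002 : sm gd N46265 = N31716 := ded_34_1 (flp_e L268725) (flp_d L184869) (flp_e L184852) L268684 L390998
theorem L391004 : sm gf N46265 = N46265 := ded_40_2 (flp_e L390998) L268687 L203624 (flp_f L268687) L390998
theorem L391005 : sm gi N31710 = N46266 := rfl
theorem L391007 : sm gb N46266 = N46266 := ded_26_1 (flp_i L391005) L268686 L391005
theorem L391008 : sm gd N46266 = N31711 := ded_39_1 (flp_i L268690) L268684 L391005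
theorem L391010 : sm gf N46266 = N34897 := ded_48_1 (flp_i L295785) (flp_f L268687) L391005
theorem L391012 : sm gd N31712 = N46267 := rfl
theorem L391014 : sm gb N46267 = N46267 := ded_20_1 (flp_d L391012) L268699 L391012
theorem L391015 : sm gf N46267 = N46267 := ded_35_2 (flp_d L391012) L268700 L391012
theorem L391016 : sm gg N46267 = N31713 := ded_36_2 (flp_d L268703) (flp_g L268701) L391012
theorem L391018 : sm gh N46267 = N31726 := ded_38_2 (flp_d L268800) (flp_h L184933) (flp_d L184859) L268697 L391012
theorem L391020 : sm gi N31712 = N46268 := rfl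
theorem L391022 : sm gb N46268 = N46268 := ded_26_1 (flp_i L391020) L268699 L391020
theorem L391023 : sm gf N46268 = N46268 := ded_48_1 (flp_i L391020) L268700 L391020
theorem L391024 : sm gg N46268 = N31714 := ded_51_1 (flp_i L268712) (flp_g L268701) L391020
theorem L391026 : sm gc N31713 = N46269 := rfl
theorem L391028 : sm gf N46269 = N31718 := ded_29_2 (flp_c L268738) (flp_f L268706) L391026
theorem L391030 : sm gj N46269 = N31715 := ded_31_2 (flp_c L268719) (flp_j L268708) L391026
theorem L391032 : sm gh N46269 = N31728 := ded_32_2 (flp_c L268815) (flp_h L268710) L391026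
theorem L391034 : sm ge N31713 = N46270 := rfl
theorem L391036 : sm gb N46270 = N46270 := ded_21_1 (flp_e L391034) L268705 L391034
theorem L391037 : sm gj N46270 = N31716 := ded_42_2 (flp_e L268725) (flp_j L268708) L391034
theorem L391039 : sm gh N46270 = N31729 := ded_43_2 (flp_e L268823) (flp_h L268710) L391034
theorem L391041 : sm gf N46270 = N46270 := ded_40_2 (flp_e L391034) L268706 L184887 (flp_f L268706) L391034
theorem L391042 : sm gi N31713 = N46271 := rfl
theorem L391044 : sm gb N46271 = N46271 := ded_26_1 (flp_i L391042) L268705 L391042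
theorem L391045 : sm gd N46271 = N31714 := ded_39_1 (flp_i L268712) L268703 L391042
theorem L391047 : sm gf N46271 = N31719 := ded_48_1 (flp_i L268746) (flp_f L268706) L391042
theorem L391049 : sm gj N46271 = N31717 := ded_53_1 (flp_i L268731) (flp_j L268708) L391042
theorem L391051 : sm gb N31715 = N46272 := rfl
theorem L391053 : sm gf N46272 = N31720 := ded_22_2 (flp_b L268755) (flp_f L268721) L391051
theorem L391055 : sm gh N46272 = N31731 := ded_25_2 (flp_b L268839) (flp_h L268723) L391051
theorem L391057 : sm gc N46272 = N46272 := ded_19_2 (flp_b L391051) (flp_c L268719) L184871 L268719 L391051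
theorem L391058 : sm ge N31715 = N46273 := rfl
theorem L391060 : sm gc N46273 = N31716 := ded_28_1 (flp_e L268725) L268719 L391058

end Cfsg.Agent.Helper28.FicA
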