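import Cfsg.Agent.Helper28.FicB25

/-! # The Fi₂₃ presentation, cosets of the subgroup generated by a, …, i: the coset enumeration, part 26 (helper28; generated) -/

set_option autoImplicit false

noncomputable section

namespace Cfsg.Agent.Helper28.FicA

open Cfsg.Agent.Helper28.CosetTable

theorem L391062 : sm gh N46273 = N31732 := ded_43_2 (flp_e L268846) (flp_h L268723) L391058
theorem L391064 : sm gf N46273 = N46273 := ded_40_2 (flp_e L391058) L268721 L184900 (flp_f L268721) L391058
theorem L391065 : sm gi N31715 = N46274 := rfl
theorem L391067 : sm gc N46274 = N31717 := ded_33_1 (flp_i L268731) L268719 L391065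
theorem L391069 : sm gf N46274 = N31721 := ded_48_1 (flp_i L268763) (flp_f L268721) L391065
theorem L391071 : sm gi N31716 = N46275 := rfl
theorem L391073 : sm gb N46275 = N46275 := ded_26_1 (flp_i L391071) L268727 L391071
theorem L391074 : sm ge N46275 = N31717 := ded_44_1 (flp_i L268731) L268725 L391071
theorem L391076 : sm gf N46275 = N46275 := ded_48_1 (flp_i L391071) L268730 L391071
theorem L391077 : sm gh N31717 = N46276 := rfl
theorem L391082 : sm gi N46276 = N31735 := ded_54_2 (flp_h L268866) (flp_i L184970) (flp_h L184874) L268731 L391077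
theorem L391084 : sm gb N31718 = N46277 := rfl
theorem L391086 : sm ge N46277 = N46277 := ded_21_2 (flp_b L391084) L268740 L391084
theorem L391087 : sm gg N46277 = N46277 := ded_23_2 (flp_b L391084) L268741 L391084
theorem L391088 : sm gj N46277 = N31720 := ded_24_2 (flp_b L268755) (flp_j L268742) L391084
theorem L391090 : sm gh N46277 = N31736 := ded_25_2 (flp_b L268871) (flp_h L268744) L391084
theorem L391092 : sm gc N46277 = N46277 := ded_19_2 (flp_b L391084) (flp_c L268738) L184883 L268738 L391084
theorem L391093 : sm gi N31718 = N46278 := rfl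
theorem L391095 : sm gc N46278 = N31719 := ded_33_1 (flp_i L268746) L268738 L391093
theorem L391097 : sm ge N46278 = N46278 := ded_44_1 (flp_i L391093) L268740 L391093
theorem L391098 : sm gg N46278 = N46278 := ded_51_1 (flp_i L391093) L268741 L391093
theorem L391099 : sm gj N46278 = N31721 := ded_53_1 (flp_i L268763) (flp_j L268742) L391093
theorem L391101 : sm gh N31719 = N46279 := rfl
theorem L391108 : sm gi N46279 = N31738 := ded_54_2 (flp_h L268890) (flp_i L184985) (flp_h L184888) L268746 L391101
theorem L391110 : sm ga N31720 = N46280 := rfl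
theorem L391112 : sm gc N46280 = N46280 := ded_11_2 (flp_a L391110) L268762 L391110
theorem L391113 : sm ge N46280 = N46280 := ded_13_2 (flp_a L391110) L268757 L391110
theorem L391114 : sm gg N46280 = N31723 := ded_15_2 (flp_a L268778) (flp_g L268758) L391110
theorem L391116 : sm gh N46280 = N31739 := ded_17_2 (flp_a L268897) (flp_h L268760) L391110
theorem L391118 : sm gi N31720 = N46281 := rfl
theorem L391120 : sm gb N46281 = N31721 := ded_26_1 (flp_i L268763) L268755 L391118
theorem L391122 : sm gc N46281 = N46281 := ded_33_1 (flp_i L391118) L268762 L391118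
theorem L391123 : sm ge N46281 = N46281 := ded_44_1 (flp_i L391118) L268757 L391118
theorem L391124 : sm gg N46281 = N31724 := ded_51_1 (flp_i L268785) (flp_g L268758) L391118
theorem L391126 : sm gh N31721 = N46282 := rfl
theorem L391131 : sm gg N46282 = N31725 := ded_50_1 (flp_h L268792) (flp_g L268768) L391126
theorem L391135 : sm gi N31723 = N46283 := rfl
theorem L391137 : sm ga N46283 = N31724 := ded_18_1 (flp_i L268785) L268778 L391135
theorem L391139 : sm gc N46283 = N46283 := ded_33_1 (flp_i L391135) L268780 L391135
theorem L391140 : sm ge N46283 = N46283 := ded_44_1 (flp_i L391135) L268781 L391135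
theorem L391141 : sm gj N46283 = N46283 := ded_53_1 (flp_i L391135) L268782 L391135
theorem L391142 : sm gh N31724 = N46284 := rfl
theorem L391144 : sm gb N46284 = N31725 := ded_25_1 (flp_h L268792) (flp_b L268787) L391142
theorem L391156 : sm gc N31726 = N46286 := rfl
theorem L391158 : sm gf N46286 = N46286 := ded_29_2 (flp_c L391156) L268803 L391156
theorem L391159 : sm gg N46286 = N31728 := ded_30_2 (flp_c L268815) (flp_g L268804) L391156
theorem L391161 : sm gd N46286 = N31745 := ded_27_2 (flp_c L268943) (flp_d L185039) (flp_c L184936) L268800 L391156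
theorem L391163 : sm ge N31726 = N46287 := rfl
theorem L391166 : sm gg N46287 = N31729 := ded_41_2 (flp_e L268823) (flp_g L268804) L391163
theorem L391169 : sm gi N31726 = N46288 := rfl
theorem L391172 : sm gd N46288 = N31727 := ded_39_1 (flp_i L268806) L268800 L391169
theorem L391177 : sm gb N31728 = N46289 := rfl
theorem L391179 : sm gd N46289 = N31748 := ded_20_2 (flp_b L268964) (flp_d L268821) L391177
theorem L391181 : sm gf N46289 = N31736 := ded_22_2 (flp_b L268871) (flp_f L268817) L391177
theorem L391183 : sm gj N46289 = N31731 := ded_24_2 (flp_b L268839) (flp_j L268819) L391177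
theorem L391185 : sm gc N46289 = N46289 := ded_19_2 (flp_b L391177) (flp_c L268815) L184944 L268815 L391177
theorem L391186 : sm ge N31728 = N46290 := rfl
theorem L391188 : sm gc N46290 = N31729 := ded_28_1 (flp_e L268823) L268815 L391186
theorem L391190 : sm gj N46290 = N31732 := ded_42_2 (flp_e L268846) (flp_j L268819) L391186
theorem L391192 : sm gf N46290 = N46290 := ded_40_2 (flp_e L391186) L268817 L184979 (flp_f L268817) L391186
theorem L391193 : sm gi N31728 = N46291 := rfl
theorem L391197 : sm gd N46291 = N31750 := ded_39_1 (flp_i L268980) (flp_d L268821) L391193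
theorem L391199 : sm gf N46291 = N31737 := ded_48_1 (flp_i L268880) (flp_f L268817) L391193
theorem L391203 : sm gi N31729 = N46292 := rfl
theorem L391210 : sm gj N46292 = N31734 := ded_53_1 (flp_i L268859) (flp_j L268826) L391203
theorem L391212 : sm gh N31730 = N46293 := rfl
theorem L391215 : sm gf N46293 = N31738 := ded_47_1 (flp_h L268890) (flp_f L268835) L391212
theorem L391217 : sm gj N46293 = N31735 := ded_52_1 (flp_h L268866) (flp_j L268837) L391212
theorem L391219 : sm ga N31731 = N46294 := rfl
theorem L391221 : sm gc N46294 = N46294 := ded_11_2 (flp_a L391219) L268845 L391219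
theorem L391222 : sm gd N46294 = N31753 := ded_12_2 (flp_a L269007) (flp_d L268841) L391219
theorem L391224 : sm gf N46294 = N31739 := ded_14_2 (flp_a L268897) (flp_f L268843) L391219
theorem L391226 : sm ge N31731 = N46295 := rfl
theorem L391228 : sm gb N46295 = N31732 := ded_21_1 (flp_e L268846) L268839 L391226
theorem L391230 : sm gc N46295 = N46295 := ded_28_1 (flp_e L391226) L268845 L391226
theorem L391231 : sm gf N46295 = N46295 := ded_40_2 (flp_e L391226) L268843 L184998 (flp_f L268843) L391226
theorem L391232 : sm gi N31731 = N46296 := rfl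
theorem L391234 : sm gb N46296 = N31733 := ded_26_1 (flp_i L268851) L268839 L391232
theorem L391237 : sm gd N46296 = N31755 := ded_39_1 (flp_i L269021) (flp_d L268841) L391232
theorem L391241 : sm gd N31732 = N46297 := rfl
theorem L391243 : sm gf N46297 = N46297 := ded_35_2 (flp_d L391241) L268850 L391241
theorem L391244 : sm gc N46297 = N46297 := ded_27_1 (flp_d L391241) L268848 L184968 (flp_c L268848) L391241
theorem L391245 : sm ge N46297 = N31756 := ded_34_2 (flp_d L269029) (flp_e L185085) (flp_d L184963) L268846 L391241
theorem L391247 : sm gi N31732 = N46298 := rfl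
theorem L391249 : sm gc N46298 = N31734 := ded_33_1 (flp_i L268859) (flp_c L268848) L391247
theorem L391266 : sm ga N31736 = N46301 := rfl
theorem L391268 : sm gc N46301 = N46301 := ded_11_2 (flp_a L391266) L268879 L391266
theorem L391269 : sm gd N46301 = N31760 := ded_12_2 (flp_a L269056) (flp_d L268873) L391266
theorem L391271 : sm ge N46301 = N46301 := ded_13_2 (flp_a L391266) L268875 L391266
theorem L391272 : sm gg N46301 = N46301 := ded_15_2 (flp_a L391266) L268876 L391266
theorem L391273 : sm gj N46301 = N31739 := ded_16_2 (flp_a L268897) (flp_j L268877) L391266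
theorem L391275 : sm gi N31736 = N46302 := rfl
theorem L391277 : sm gb N46302 = N31737 := ded_26_1 (flp_i L268880) L268871 L391275
theorem L391280 : sm gd N46302 = N31761 := ded_39_1 (flp_i L269065) (flp_d L268873) L391275
theorem L391286 : sm gh N31737 = N46303 := rfl
theorem L391288 : sm gc N46303 = N31738 := ded_32_1 (flp_h L268890) (flp_c L268882) L391286
theorem L391294 : sm gi N31739 = N46304 := rfl
theorem L391299 : sm gd N46304 = N31763 := ded_39_1 (flp_i L269085) (flp_d L268900) L391294
theorem L391302 : sm gg N46304 = N31742 := ded_51_1 (flp_i L268922) (flp_g L268903) L391294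
theorem L391312 : sm gd N31741 = N46306 := rfl
theorem L391316 : sm gh N46306 = N31765 := ded_38_2 (flp_d L269105) (flp_h L185157) (flp_d L185006) L268915 L391312
theorem L391325 : sm gd N31743 = N46308 := rfl
theorem L391327 : sm gb N46308 = N31744 := ded_20_1 (flp_d L268938) (flp_b L268933) L391325
theorem L391330 : sm gh N46308 = N31767 := ded_38_2 (flp_d L269118) (flp_h L185174) (flp_d L185029) L268931 L391325
theorem L391332 : sm ge N31744 = N46309 := rfl
theorem L391335 : sm gh N46309 = N31768 := ded_43_2 (flp_e L269123) (flp_h L268941) L391332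
theorem L391338 : sm gb N31745 = N46310 := rfl
theorem L391341 : sm gg N46310 = N31748 := ded_23_2 (flp_b L268964) (flp_g L268946) L391338
theorem L391345 : sm ge N31745 = N46311 := rfl
theorem L391349 : sm gg N46311 = N31749 := ded_41_2 (flp_e L268972) (flp_g L268946) L391345
theorem L391351 : sm gi N31745 = N46312 := rfl
theorem L391353 : sm gc N46312 = N31747 := ded_33_1 (flp_i L268955) L268943 L391351
theorem L391356 : sm gg N46312 = N31750 := ded_51_1 (flp_i L268980) (flp_g L268946) L391351
theorem L391375 : sm gh N31747 = N46315 := rfl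
theorem L391377 : sm gb N46315 = N31774 := ded_25_1 (flp_h L269165) (flp_b L268957) L391375
theorem L391380 : sm gg N46315 = N31752 := ded_50_1 (flp_h L268999) (flp_g L268962) L391375
theorem L391382 : sm ga N31748 = N46316 := rfl
theorem L391384 : sm gc N46316 = N31775 := ded_11_2 (flp_a L269171) (flp_c L268970) L391382
theorem L391388 : sm gj N46316 = N31753 := ded_16_2 (flp_a L269007) (flp_j L268968) L391382
theorem L391390 : sm ge N31748 = N46317 := rfl
theorem L391392 : sm gb N46317 = N31749 := ded_21_1 (flp_e L268972) L268964 L391390
theorem L391394 : sm gc N46317 = N31776 := ded_28_1 (flp_e L269179) (flp_c L268970) L391390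
theorem L391400 : sm gi N31748 = N46318 := rfl
theorem L391402 : sm gb N46318 = N31750 := ded_26_1 (flp_i L268980) L268964 L391400
theorem L391410 : sm gd N31749 = N46319 := rfl
theorem L391414 : sm gj N46319 = N31756 := ded_37_2 (flp_d L269029) (flp_j L268976) L391410
theorem L391417 : sm gi N31749 = N46320 := rfl
theorem L391421 : sm ge N46320 = N31750 := ded_44_1 (flp_i L268980) L268972 L391417
theorem L391427 : sm gh N31750 = N46321 := rfl
theorem L391429 : sm gc N46321 = N31752 := ded_32_1 (flp_h L268999) (flp_c L268982) L391427
theorem L391431 : sm gf N46321 = N31762 := ded_47_1 (flp_h L269076) (flp_f L268984) L391427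
theorem L391433 : sm gj N46321 = N31758 := ded_52_1 (flp_h L269042) (flp_j L268986) L391427
theorem L391445 : sm ge N31753 = N46323 := rfl
theorem L391447 : sm ga N46323 = N31754 := ded_13_1 (flp_e L269013) L269007 L391445
theorem L391453 : sm gi N31753 = N46324 := rfl
theorem L391455 : sm ga N46324 = N31755 := ded_18_1 (flp_i L269021) L269007 L391453
theorem L391459 : sm gf N46324 = N31763 := ded_48_1 (flp_i L269085) (flp_f L269011) L391453
theorem L391461 : sm gd N31754 = N46325 := rfl
theorem L391463 : sm gb N46325 = N31756 := ded_20_1 (flp_d L269029) (flp_b L269015) L391461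
theorem L391467 : sm gi N31754 = N46326 := rfl
theorem L391469 : sm gb N46326 = N31757 := ded_26_1 (flp_i L269034) (flp_b L269015) L391467
theorem L391473 : sm ge N46326 = N31755 := ded_44_1 (flp_i L269021) L269013 L391467
theorem L391477 : sm gh N31755 = N46327 := rfl
theorem L391479 : sm gb N46327 = N31758 := ded_25_1 (flp_h L269042) (flp_b L269023) L391477
theorem L391483 : sm gf N46327 = N31764 := ded_47_1 (flp_h L269095) (flp_f L269027) L391477
theorem L391485 : sm gh N31756 = N46328 := rfl
theorem L391487 : sm gc N46328 = N46328 := ded_32_1 (flp_h L391485) L269033 L391485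
theorem L391488 : sm gf N46328 = N32353 := ded_47_1 (flp_h L274059) (flp_f L269031) L391485
theorem L391490 : sm gi N31756 = N46329 := rfl
theorem L391495 : sm gf N46329 = N32354 := ded_48_1 (flp_i L274064) (flp_f L269031) L391490
theorem L391497 : sm gh N31757 = N46330 := rfl
theorem L391501 : sm ge N46330 = N31758 := ded_43_1 (flp_h L269042) (flp_e L269038) L391497
theorem L391503 : sm gf N46330 = N32355 := ded_47_1 (flp_h L274071) (flp_f L269040) L391497
theorem L391505 : sm gd N31758 = N46331 := rfl
theorem L391507 : sm gf N46331 = N31765 := ded_35_2 (flp_d L269105) (flp_f L269046) L391505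
theorem L391516 : sm gi N31760 = N46333 := rfl
theorem L391518 : sm ga N46333 = N31761 := ded_18_1 (flp_i L269065) L269056 L391516
theorem L391525 : sm gj N46333 = N31763 := ded_53_1 (flp_i L269085) (flp_j L269063) L391516
theorem L391527 : sm gh N31761 = N46334 := rfl
theorem L391529 : sm gb N46334 = N31762 := ded_25_1 (flp_h L269076) (flp_b L269067) L391527
theorem L391536 : sm gj N46334 = N31764 := ded_52_1 (flp_h L269095) (flp_j L269074) L391527
theorem L391538 : sm gd N31762 = N46335 := rfl
theorem L391540 : sm gg N46335 = N46335 := ded_36_2 (flp_d L391538) L269082 L391538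
theorem L391541 : sm gj N46335 = N31765 := ded_37_2 (flp_d L269105) (flp_j L269083) L391538
theorem L391543 : sm gh N31763 = N46336 := rfl
theorem L391545 : sm ga N46336 = N31764 := ded_17_1 (flp_h L269095) (flp_a L269087) L391543
theorem L391547 : sm gc N46336 = N31795 := ded_32_1 (flp_h L269334) (flp_c L269089) L391543
theorem L391549 : sm ge N46336 = N32361 := ded_43_1 (flp_h L274118) (flp_e L269091) L391543
theorem L391551 : sm gg N46336 = N31766 := ded_50_1 (flp_h L269109) (flp_g L269093) L391543
theorem L391553 : sm gd N31764 = N46337 := rfl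
theorem L391555 : sm gb N46337 = N31765 := ded_20_1 (flp_d L269105) (flp_b L269097) L391553
theorem L391557 : sm gg N46337 = N31767 := ded_36_2 (flp_d L269118) (flp_g L269103) L391553
theorem L391559 : sm ge N31765 = N46338 := rfl
theorem L391561 : sm gg N46338 = N31768 := ded_41_2 (flp_e L269123) (flp_g L269107) L391559
theorem L391563 : sm gd N46338 = N32363 := ded_34_1 (flp_e L274133) (flp_d L188655) (flp_e L185161) L269105 L391559
theorem L391565 : sm gd N31766 = N46339 := rfl
theorem L391567 : sm ga N46339 = N31767 := ded_12_1 (flp_d L269118) (flp_a L269111) L391565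
theorem L391570 : sm gc N31767 = N46340 := rfl
theorem L391573 : sm gd N46340 = N31799 := ded_27_2 (flp_c L269365) (flp_d L185360) (flp_c L185178) L269118 L391570
theorem L391575 : sm ge N34730 = N46340 := ded_55_4 L391573 (flp_b L390127) (flp_c L390123) (flp_d L268066) (flp_i L265254) (flp_h L265248) (flp_d L260451) (flp_f L356669) L356668 L356666 L249806 L172085 L118682 (flp_i L82052) (flp_h L56835) L39479 L27762 (flp_e L20308) L14188 (flp_b L14176) L14178 (flp_d L15571) L15574 L10950 L10947 (flp_f L7633) (flp_e L5270) L3616 (flp_b L3614) (flp_c L2464) (flp_d L1691) (flp_i L1689) (flp_h L1681) L1147 (flp_f L1670) (flp_e L2385) (flp_d L3506) (flp_b L4704) L4706 L4707 (flp_i L3225) (flp_h L2186) L1505 L1506 (flp_e L1499) L1045 L733 L536 L387 L570 L846 L1227 L1232 L864 (flp_d L856) L584 (flp_c L809) L1190 L1196 (flp_h L1697) (flp_d L1691) (flp_f L1678) (flp_e L2394) L3522 (flp_b L4726) L6805 (flp_d L9330) (flp_i L13273) L13272 L13275 L9724 L13868 L19838 (flp_b L28444) L40903 L40910 L31088 L31203 L44935 (flp_f L64890) L93894 (flp_d L136145) L136142 L96194 L96196 L96240 L139555 L202607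 (flp_f L294414)
theorem L391577 : N34735 = N31799 := coi_34_1 (flp_d L391573) (flp_e L391575) (flp_d L294412) L202602 L202624 L294442
theorem L391578 : N34735 = N31799 := eqc rfl L391577 rfl
theorem L391579 : sm ge N31799 = N23833 := trfs L391578 (flp_e L294442) rfl
theorem L391583 : sm gi N31799 = N45860 := trfs L391578 (flp_i L387664) rfl
theorem L391584 : N45860 = N45916 := eqes L391583 (flp_i L388146)
theorem L391585 : N45916 = N45860 := (eqc rfl L391584 rfl).symm
theorem L391586 : sm gc N45860 = N31470 := trfs L391585 (flp_c L388143) rfl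
theorem L391591 : sm ge N33914 = N46160 := ded_21_2 L390127 L391579 (flp_b L287702)
theorem L391593 : N34734 = N31800 := coi_28_2 (flp_e L269369) L269365 L391579 L294434
theorem L391594 : N34734 = N31800 := eqc rfl L391593 rfl
theorem L391595 : sm gc N31800 = N23833 := trfs L391594 (flp_c L294434) rfl
theorem L391597 : sm gd N31800 = N24253 := trfs L391594 L294440 rfl
theorem L391598 : N24253 = N22252 := eqes L391597 L269375
theorem L391599 : N24253 = N22252 := eqc rfl L391598 rfl
theorem L391600 : sm gf N31800 = N23834 := trfs L391594 L294436 rfl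
theorem L391604 : sm gi N31800 = N45859 := trfs L391594 (flp_i L387657) rfl
theorem L391605 : N45859 = N45917 := eqes L391604 (flp_i L388153)
theorem L391606 : N45917 = N45859 := (eqc rfl L391605 rfl).symm
theorem L391607 : sm gb N45859 = N31471 := trfs L391606 L388150 rfl
theorem L391609 : sm gd N45859 = N32309 := trfs L391606 L388155 rfl
theorem L391610 : N32309 = N32251 := eqes L391609 L387659
theorem L391611 : N32309 = N32251 := eqc rfl L391610 rfl
theorem L391612 : sm ge N45859 = N31470 := trfs L391606 (flp_e L388148) rfl
theorem L391617 : sm gb N32251 = N22177 := trfs L391611 L273686 rfl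
theorem L391619 : sm ge N32251 = N22176 := trfs L391611 (flp_e L273684) rfl
theorem L391644 : sm gh N22252 = N16847 := trfs L391599 L206138 rfl
theorem L391645 : N16847 = N15328 := eqes L391644 L188935
theorem L391646 : N16847 = N15328 := eqc rfl L391645 rfl
theorem L391647 : sm gi N22252 = N32251 := trfs L391599 (flp_i L273194) rfl
theorem L391662 : sm gf N15328 = N11603 := trfs L391646 L143604 rfl
theorem L391663 : N11603 = N22296 := eqes L391662 L189301
theorem L391664 : N22296 = N11603 := (eqc rfl L391663 rfl).symm
theorem L391665 : sm gg N15328 = N24500 := trfs L391646 (flp_g L208192) rfl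
theorem L391666 : N24500 = N22291 := eqes L391665 (flp_g L189268)
theorem L391667 : N24500 = N22291 := eqc rfl L391666 rfl
theorem L391680 : sm ge N22291 = N35675 := trfs L391667 L302275 rfl
theorem L391681 : N35675 = N15324 := eqes L391680 (flp_e L189264)
theorem L391682 : N35675 = N15324 := eqc rfl L391681 rfl
theorem L391702 : sm gc N15324 = N24501 := trfs L391682 L302277 rfl
theorem L391703 : N24501 = N22290 := eqes L391702 L189257
theorem L391704 : N24501 = N22290 := eqc rfl L391703 rfl
theorem L391723 : sm gh N22290 = N35320 := trfs L391704 (flp_h L299322) rfl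
theorem L391724 : N35320 = N32404 := eqes L391723 (flp_h L274461)
theorem L391725 : N35320 = N32404 := eqc rfl L391724 rfl
theorem L391730 : sm gg N32404 = N24254 := trfs L391725 L299320 rfl
theorem L391731 : N24254 = N22251 := eqes L391730 L274459
theorem L391732 : N24254 = N22251 := eqc rfl L391731 rfl
theorem L391733 : sm ga N22251 = N35303 := trfs L391732 (flp_a L299201) rfl
theorem L391734 : N35303 = N32407 := eqes L391733 (flp_a L274480)
theorem L391735 : N35303 = N32407 := eqc rfl L391734 rfl
theorem L391738 : sm gd N22251 = N35316 := trfs L391732 (flp_d L299294) rfl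
theorem L391739 : N35316 = N32365 := eqes L391738 (flp_d L274152)
theorem L391740 : N35316 = N32365 := eqc rfl L391739 rfl
theorem L391746 : sm gi N22251 = N32252 := trfs L391732 (flp_i L273201) rfl
theorem L391747 : N32252 = N32308 := eqes L391746 (flp_i L273681)
theorem L391748 : N32308 = N32252 := (eqc rfl L391747 rfl).symm
theorem L391750 : sm gc N32252 = N22176 := trfs L391748 (flp_c L273676) rfl
theorem L391755 : sm gi N32252 = N22251 := trfs L391748 L273681 rfl
theorem L391758 : sm ge N32365 = N24249 := trfs L391740 (flp_e L299289) rfl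
theorem L391763 : sm ge N32407 = N24238 := trfs L391735 (flp_e L299199) rfl
theorem L391767 : sm gh N32407 = N24497 := trfs L391735 L299204 rfl
theorem L391768 : N24497 = N22293 := eqes L391767 L274484
theorem L391769 : N24497 = N22293 := eqc rfl L391768 rfl
theorem L391778 : sm ge N22293 = N16843 := trfs L391769 (flp_e L208169) rfl
theorem L391779 : N16843 = N32467 := eqes L391778 L274979
theorem L391780 : N32467 = N16843 := (eqc rfl L391779 rfl).symm
theorem L391788 : sm ge N16843 = N22293 := trfs L391780 (flp_e L274979) rfl
theorem L391855 : sm gg N11603 = N32471 := trfs L391664 L275011 rfl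
theorem L391856 : N32471 = N16823 := eqes L391855 (flp_g L143406)
theorem L391857 : N32471 = N16823 := eqc rfl L391856 rfl
theorem L391861 : sm gb N16823 = N22297 := trfs L391857 L275013 rfl
theorem L391862 : N22297 = N24471 := eqes L391861 L207960
theorem L391863 : N24471 = N22297 := (eqc rfl L391862 rfl).symm
theorem L391875 : sm gf N22297 = N35633 := trfs L391863 (flp_f L301948) rfl
theorem L391876 : N35633 = N32465 := eqes L391875 (flp_f L274969)
theorem L391877 : N35633 = N32465 := eqc rfl L391876 rfl
theorem L391882 : sm gh N22297 = N35231 := trfs L391863 (flp_h L298617) rfl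
theorem L391883 : N35231 = N32411 := eqes L391882 (flp_h L274515)
theorem L391884 : N35231 = N32411 := eqc rfl L391883 rfl
theorem L391890 : sm gg N32411 = N24255 := trfs L391884 L298615 rfl
theorem L391891 : N24255 = N22253 := eqes L391890 (flp_g L274510)
theorem L391892 : N24255 = N22253 := eqc rfl L391891 rfl
theorem L391906 : sm gi N22253 = N32253 := trfs L391892 (flp_i L273209) rfl
theorem L391907 : N32253 = N32310 := eqes L391906 (flp_i L273698)
theorem L391908 : N32310 = N32253 := (eqc rfl L391907 rfl).symm
theorem L391911 : sm gd N32253 = N45918 := trfs L391908 (flp_d L388160) rfl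
theorem L391912 : N45918 = N45861 := eqes L391911 (flp_d L387668)
theorem L391913 : N45918 = N45861 := eqc rfl L391912 rfl
theorem L391919 : sm gi N32253 = N22253 := trfs L391908 L273698 rfl
theorem L391922 : sm gf N45861 = N31471 := trfs L391913 (flp_f L388157) rfl
theorem L391963 : sm gb N32465 = N24469 := trfs L391877 (flp_b L301945) rfl
theorem L394175 : sm ge N34561 = N43725 := ded_40_5 L369761 L391579 L202626 (flp_e L201577) (flp_f L293042)
theorem L394177 : sm gc N46161 = N33914 := ded_28_3 L391591 (flp_c L390123) L390129
theorem L394179 : N33663 = N6657 := coi_55_47 L57087 (flp_f L39653) (flp_e L27602) L19268 (flp_b L19266) (flp_c L13483) (flp_d L9458) L6616 (flp_h L6606) L4586 L4589 L4587 L3157 L2163 L2164 L1539 (flp_i L1534) (flp_h L1048) (flp_d L722) L730 L738 (flp_d L1045) L1043 L763 L764 L795 L1179 L1721 L1725 L1738 L1745 (flp_b L1603) (flp_c L2321) L3390 L3396 L4946 L4953 (flp_f L7154) (flp_e L10246) L14642 L14645 L20960 (flp_d L29987) L43137 L62202 L89891 L89894 L130199 (flp_d L185371) (flp_b L269371) L391595 (flp_d L202624) (flp_i L183190) (flp_h L183183) (flp_d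 L172533) L172535 L118971 L82234 (flp_b L80872) L80874 (flp_d L79824) (flp_i L79820) (flp_h L55348) (flp_d L38494) L38501 L38510 (flp_d L55344) L55342 L38514 L38515 L26862 L26860 (flp_d L27151) (flp_f L27146) L18978 (flp_d L13903) (flp_b L13897) L13899 L15150 (flp_i L21642) L31101 (flp_d L44644) (flp_f L64445) (flp_e L93210) L135160 L135162 L135239 L135247 L196399 L285542
theorem L394180 : N33663 = N6657 := eqc rfl L394179 rfl
theorem L394191 : sm gh N6657 = N23092 := trfs L394180 (flp_h L285542) rfl
theorem L394192 : N23092 = N9647 := eqes L394191 L82429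
theorem L394193 : N23092 = N9647 := eqc rfl L394192 rfl
theorem L394205 : sm ge N9647 = N15914 := trfs L394193 L196406 rfl
theorem L394206 : N15914 = N14000 := eqes L394205 (flp_e L119270)
theorem L394207 : N15914 = N14000 := eqc rfl L394206 rfl
theorem L394215 : sm gi N9647 = N15858 := trfs L394193 (flp_i L196399) rfl
theorem L394216 : N15858 = N14003 := eqes L394215 L119291
theorem L394217 : N15858 = N14003 := eqc rfl L394216 rfl
theorem L394221 : sm gb N14003 = N23091 := trfs L394217 L196392 rfl
theorem L394222 : N23091 = N9654 := eqes L394221 L119293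
theorem L394223 : N23091 = N9654 := eqc rfl L394222 rfl
theorem L394228 : sm ge N14003 = N10941 := trfs L394217 L135243 rfl
theorem L394229 : N10941 = N20357 := eqes L394228 (flp_e L172995)
theorem L394230 : N20357 = N10941 := (eqc rfl L394229 rfl).symm
theorem L394231 : sm gf N14003 = N23036 := trfs L394217 (flp_f L195930) rfl
theorem L394232 : N23036 = N9648 := eqes L394231 L119296
theorem L394233 : N23036 = N9648 := eqc rfl L394232 rfl
theorem L394234 : sm gg N14003 = N23089 := trfs L394217 (flp_g L196378) rfl
theorem L394235 : N23089 = N20359 := eqes L394234 (flp_g L173015)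
theorem L394236 : N23089 = N20359 := eqc rfl L394235 rfl
theorem L394239 : sm ga N20359 = N17779 := trfs L394236 L196374 rfl
theorem L394240 : N17779 = N29610 := eqes L394239 (flp_a L251017)
theorem L394241 : N29610 = N17779 := (eqc rfl L394240 rfl).symm
theorem L394245 : sm gc N20359 = N15856 := trfs L394236 (flp_c L196372) rfl
theorem L394246 : N15856 = N29620 := eqes L394245 (flp_c L251111)
theorem L394247 : N29620 = N15856 := (eqc rfl L394246 rfl).symm
theorem L394255 : sm gj N20359 = N33656 := trfs L394236 (flp_j L285481) rfl
theorem L394256 : N33656 = N29633 := eqes L394255 (flp_j L251226)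
theorem L394257 : N33656 = N29633 := eqc rfl L394256 rfl
theorem L394260 : sm ga N29633 = N25887 := trfs L394257 L285476 rfl
theorem L394261 : N25887 = N43156 := eqes L394260 (flp_a L364958)
theorem L394262 : N43156 = N25887 := (eqc rfl L394261 rfl).symm
theorem L394267 : sm ge N29633 = N23167 := trfs L394257 L285478 rfl
theorem L394268 : N23167 = N43185 := eqes L394267 (flp_e L365221)
theorem L394269 : N43185 = N23167 := (eqc rfl L394268 rfl).symm
theorem L394280 : sm gi N23167 = N29628 := trfs L394269 (flp_i L365217) rfl
theorem L394281 : N29628 = N33778 := eqes L394280 L286532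
theorem L394282 : N33778 = N29628 := (eqc rfl L394281 rfl).symm
theorem L394283 : sm ga N29628 = N26009 := trfs L394282 L286534 rfl
theorem L394284 : N26009 = N43151 := eqes L394283 (flp_a L364911)
theorem L394285 : N43151 = N26009 := (eqc rfl L394284 rfl).symm
theorem L394286 : sm gc N29628 = N23168 := trfs L394282 L286536 rfl
theorem L394287 : N23168 = N43164 := eqes L394286 (flp_c L365035)
theorem L394288 : N43164 = N23168 := (eqc rfl L394287 rfl).symm
theorem L394293 : sm gj N29628 = N23170 := trfs L394282 L286541 rfl
theorem L394294 : N23170 = N20355 := eqes L394293 L251185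
theorem L394295 : N23170 = N20355 := eqc rfl L394294 rfl
theorem L394298 : sm ga N20355 = N17860 := trfs L394295 L197083 rfl
theorem L394299 : N17860 = N29606 := eqes L394298 (flp_a L250979)
theorem L394300 : N29606 = N17860 := (eqc rfl L394299 rfl).symm
theorem L394315 : sm gh N20355 = N33782 := trfs L394295 L286570 rfl
theorem L394316 : N33782 = N13999 := eqes L394315 (flp_h L172975)
theorem L394317 : N33782 = N13999 := eqc rfl L394316 rfl
theorem L394323 : sm gc N13999 = N23171 := trfs L394317 L286574 rfl
theorem L394324 : N23171 = N20345 := eqes L394323 (flp_c L172887)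
theorem L394325 : N23171 = N20345 := eqc rfl L394324 rfl
theorem L394341 : sm gf N20345 = N33776 := trfs L394325 (flp_f L286518) rfl
theorem L394342 : N33776 = N29613 := eqes L394341 L251042
theorem L394343 : N33776 = N29613 := eqc rfl L394342 rfl
theorem L394347 : sm gj N20345 = N33779 := trfs L394325 (flp_j L286548) rfl
theorem L394348 : N33779 = N29614 := eqes L394347 L251051
theorem L394349 : N33779 = N29614 := eqc rfl L394348 rfl
theorem L394356 : sm gd N29614 = N23280 := trfs L394349 L286550 rfl
theorem L394357 : N23280 = N43158 := eqes L394356 (flp_d L364981)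
theorem L394358 : N43158 = N23280 := (eqc rfl L394357 rfl).symm
theorem L394363 : sm gb N23280 = N29679 := trfs L394358 L364978 rfl
theorem L394364 : N29679 = N33926 := eqes L394363 (flp_b L287799)
theorem L394365 : N33926 = N29679 := (eqc rfl L394364 rfl).symm
theorem L394367 : sm gd N23280 = N29614 := trfs L394358 L364981 rfl
theorem L394377 : sm gj N29679 = N23272 := trfs L394365 L287803 rfl
theorem L394378 : N23272 = N20389 := eqes L394377 (flp_j L251635)
theorem L394379 : N23272 = N20389 := eqc rfl L394378 rfl
theorem L394380 : sm gh N29679 = N23270 := trfs L394365 (flp_h L287797) rfl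
theorem L394381 : N23270 = N43261 := eqes L394380 L365882
theorem L394382 : N43261 = N23270 := (eqc rfl L394381 rfl).symm
theorem L394386 : sm gj N23270 = N29680 := trfs L394382 L365886 rfl
theorem L394387 : N29680 = N15979 := eqes L394386 L197936
theorem L394388 : N29680 = N15979 := eqc rfl L394387 rfl
theorem L394397 : sm gc N15979 = N42776 := trfs L394388 (flp_c L361737) rfl
theorem L394398 : N42776 = N23271 := eqes L394397 (flp_c L197941)
theorem L394399 : N42776 = N23271 := eqc rfl L394398 rfl
theorem L394412 : sm gi N15979 = N43263 := trfs L394388 L365894 rfl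
theorem L394413 : N43263 = N10983 := eqes L394412 (flp_i L136290)
theorem L394414 : N43263 = N10983 := eqc rfl L394413 rfl
theorem L394416 : sm gg N10983 = N29682 := trfs L394414 L365897 rfl
theorem L394417 : N29682 = N7564 := eqes L394416 L93959
theorem L394418 : N29682 = N7564 := eqc rfl L394417 rfl
theorem L394429 : sm gd N7564 = N43266 := trfs L394418 (flp_d L365914) rfl
theorem L394430 : N43266 = N5216 := eqes L394429 (flp_d L64940)
theorem L394431 : N43266 = N5216 := eqc rfl L394430 rfl
theorem L394439 : sm gi N5216 = N29681 := trfs L394431 (flp_i L365912) rfl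
theorem L394440 : N29681 = N7565 := eqes L394439 L64948
theorem L394441 : N29681 = N7565 := eqc rfl L394440 rfl
theorem L394458 : sm gh N7565 = N20394 := trfs L394441 L251651 rfl
theorem L394459 : N20394 = N10933 := eqes L394458 (flp_h L93534)
theorem L394460 : N20394 = N10933 := eqc rfl L394459 rfl
theorem L394481 : sm gi N10933 = N29690 := trfs L394460 L251708 rfl
theorem L394482 : N29690 = N7529 := eqes L394481 (flp_i L93526)
theorem L394483 : N29690 = N7529 := eqc rfl L394482 rfl
theorem L394500 : sm gg N7529 = N43275 := trfs L394483 (flp_g L365980) rfl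
theorem L394501 : N43275 = N10931 := eqes L394500 (flp_g L93517)
theorem L394502 : N43275 = N10931 := eqc rfl L394501 rfl
theorem L394510 : sm gd N10931 = N29687 := trfs L394502 L365978 rfl
theorem L394511 : N29687 = N15900 := eqes L394510 L135618
theorem L394512 : N29687 = N15900 := eqc rfl L394511 rfl
theorem L394514 : sm ga N15900 = N43233 := trfs L394512 (flp_a L365626) rfl
theorem L394515 : N43233 = N23122 := eqes L394514 (flp_a L196676)
theorem L394516 : N43233 = N23122 := eqc rfl L394515 rfl
theorem L394534 : sm gi N15900 = N20393 := trfs L394512 (flp_i L251688) rfl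
theorem L394535 : N20393 = N23157 := eqes L394534 L196969
theorem L394536 : N23157 = N20393 := (eqc rfl L394535 rfl).symm
theorem L394550 : sm gf N20393 = N33758 := trfs L394536 (flp_f L286369) rfl
theorem L394551 : N33758 = N29684 := eqes L394550 (flp_f L251672)
theorem L394552 : N33758 = N29684 := eqc rfl L394551 rfl
theorem L394572 : sm gb N29684 = N23166 := trfs L394552 L286365 rfl
theorem L394573 : N23166 = N43163 := eqes L394572 (flp_b L365023)
theorem L394574 : N43163 = N23166 := (eqc rfl L394573 rfl).symm
theorem L394589 : sm ge N23166 = N23166 := trfs L394574 L365027 L394574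
theorem L394590 : N23166 = N33775 := eqes L394589 (flp_e L286511)
theorem L394591 : N33775 = N23166 := (eqc rfl L394590 rfl).symm
theorem L394601 : sm gi N23166 = N23165 := trfs L394591 (flp_i L286507) rfl
theorem L394602 : N23165 = N15907 := eqes L394601 (flp_i L197046)
theorem L394603 : N23165 = N15907 := eqc rfl L394602 rfl
theorem L394621 : sm gj N15907 = N33770 := trfs L394603 (flp_j L286467) rfl
theorem L394622 : N33770 = N23162 := eqes L394621 (flp_j L197015)
theorem L394623 : N33770 = N23162 := eqc rfl L394622 rfl
theorem L394625 : sm ga N23162 = N26001 := trfs L394623 L286465 rfl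
theorem L394626 : N26001 = N17852 := eqes L394625 L197011
theorem L394627 : N26001 = N17852 := eqc rfl L394626 rfl
theorem L394640 : sm gf N17852 = N37739 := trfs L394627 (flp_f L319318) rfl
theorem L394641 : N37739 = N12273 := eqes L394640 L151895
theorem L394642 : N37739 = N12273 := eqc rfl L394641 rfl
theorem L394659 : sm gj N12273 = N25885 := trfs L394642 L319315 rfl
theorem L394660 : N25885 = N8451 := eqes L394659 L104751
theorem L394661 : N25885 = N8451 := eqc rfl L394660 rfl
theorem L394681 : sm gi N8451 = N37744 := trfs L394661 L319348 rfl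
theorem L394682 : N37744 = N12276 := eqes L394681 L104772
theorem L394683 : N37744 = N12276 := eqc rfl L394682 rfl
theorem L394684 : sm ge N12276 = N25886 := trfs L394683 L319350 rfl
theorem L394685 : N25886 = N17780 := eqes L394684 (flp_e L151284)
theorem L394686 : N25886 = N17780 := eqc rfl L394685 rfl
theorem L394704 : sm gj N17780 = N37740 := trfs L394686 (flp_j L319326) rfl
theorem L394705 : N37740 = N25888 := eqes L394704 (flp_j L219648)
theorem L394706 : N37740 = N25888 := eqc rfl L394705 rfl
theorem L394714 : sm gd N25888 = N25883 := trfs L394706 L319322 rfl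
theorem L394715 : N25883 = N17778 := eqes L394714 L219643
theorem L394716 : N25883 = N17778 := eqc rfl L394715 rfl
theorem L394735 : sm gi N17778 = N17774 := trfs L394716 (flp_i L219607) rfl
theorem L394736 : N17774 = N12219 := eqes L394735 (flp_i L151263)
theorem L394737 : N17774 = N12219 := eqc rfl L394736 rfl
theorem L394756 : sm gh N12219 = N12217 := trfs L394737 (flp_h L151237) rfl
theorem L394757 : N12217 = N8414 := eqes L394756 (flp_h L104291)
theorem L394758 : N12217 = N8414 := eqc rfl L394757 rfl
theorem L394774 : sm gj N8414 = N8413 := trfs L394758 (flp_j L104279) rfl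
theorem L394775 : N8413 = N5803 := eqes L394774 (flp_j L72085)
theorem L394776 : N8413 = N5803 := eqc rfl L394775 rfl
theorem L394790 : sm gg N5803 = N12182 := trfs L394776 (flp_g L104008) rfl
theorem L394791 : N12182 = N4010 := eqes L394790 (flp_g L49933)
theorem L394792 : N12182 = N4010 := eqc rfl L394791 rfl
theorem L394812 : sm gh N4010 = N17722 := trfs L394792 L150824 rfl
theorem L394813 : N17722 = N5804 := eqes L394812 L49940
theorem L394814 : N17722 = N5804 := eqc rfl L394813 rfl
theorem L394836 : sm gi N5804 = N25806 := trfs L394814 L218986 rfl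
theorem L394837 : N25806 = N8417 := eqes L394836 L72106
theorem L394838 : N25806 = N8417 := eqc rfl L394837 rfl
theorem L394854 : sm gj N8417 = N37621 := trfs L394838 (flp_j L318374) rfl
theorem L394855 : N37621 = N8417 := eqes L394854 L72111
theorem L394856 : N37621 = N8417 := eqc rfl L394855 rfl
theorem L394859 : sm gf N8417 = N25808 := trfs L394856 L318372 rfl
theorem L394860 : N25808 = N12186 := eqes L394859 (flp_f L104037)
theorem L394861 : N25808 = N12186 := eqc rfl L394860 rfl
theorem L394881 : sm gi N12186 = N17723 := trfs L394861 (flp_i L219001) rfl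
theorem L394882 : N17723 = N8391 := eqes L394881 (flp_i L104032)
theorem L394883 : N17723 = N8391 := eqc rfl L394882 rfl
theorem L394901 : sm gh N8391 = N12183 := trfs L394883 (flp_h L150831) rfl
theorem L394902 : N12183 = N5787 := eqes L394901 (flp_h L71911)
theorem L394903 : N12183 = N5787 := eqc rfl L394902 rfl
theorem L394912 : sm ge N5787 = N8392 := trfs L394903 L104014 rfl
theorem L394913 : N8392 = N4000 := eqes L394912 (flp_e L49810)
theorem L394914 : N8392 = N4000 := eqc rfl L394913 rfl
theorem L394933 : sm gg N4000 = N4000 := trfs L394914 L71925 L394914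
theorem L394934 : N4000 = N5788 := eqes L394933 L49818
theorem L394935 : N5788 = N4000 := (eqc rfl L394934 rfl).symm
theorem L394954 : sm gh N4000 = N8393 := trfs L394935 L71926 rfl
theorem L394955 : N8393 = N5789 := eqes L394954 L49824
theorem L394956 : N8393 = N5789 := eqc rfl L394955 rfl
theorem L394972 : sm gi N5789 = N12188 := trfs L394956 L104048 rfl
theorem L394973 : N12188 = N8394 := eqes L394972 L71932
theorem L394974 : N12188 = N8394 := eqc rfl L394973 rfl
theorem L394975 : sm ga N8394 = N15824 := trfs L394974 (flp_a L134956) rfl
theorem L394976 : N15824 = N10882 := eqes L394975 (flp_a L93084)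
theorem L394977 : N15824 = N10882 := eqc rfl L394976 rfl
theorem L394984 : sm gf N8394 = N17495 := trfs L394974 (flp_f L148993) rfl
theorem L394985 : N17495 = N5790 := eqes L394984 L71936
theorem L394986 : N17495 = N5790 := eqc rfl L394985 rfl
theorem L395004 : sm gj N5790 = N25464 := trfs L394986 (flp_j L216242) rfl
theorem L395005 : N25464 = N5790 := eqes L395004 L49837
theorem L395006 : N25464 = N5790 := eqc rfl L395005 rfl
theorem L395025 : sm gi N5790 = N17494 := trfs L395006 (flp_i L216236) rfl
theorem L395026 : N17494 = N4001 := eqes L395025 (flp_i L49831)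
theorem L395027 : N17494 = N4001 := eqc rfl L395026 rfl
theorem L395040 : sm gg N4001 = N25230 := trfs L395027 (flp_g L214202) rfl
theorem L395041 : N25230 = N5719 := eqes L395040 (flp_g L49281)
theorem L395042 : N25230 = N5719 := eqc rfl L395041 rfl
theorem L395062 : sm gh N5719 = N17336 := trfs L395042 (flp_h L214198) rfl
theorem L395063 : N17336 = N3955 := eqes L395062 (flp_h L49276)
theorem L395064 : N17336 = N3955 := eqc rfl L395063 rfl
theorem L395083 : sm gj N3955 = N11924 := trfs L395064 (flp_j L147612) rfl
theorem L395084 : N11924 = N5673 := eqes L395083 (flp_j L48884)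
theorem L395085 : N11924 = N5673 := eqc rfl L395084 rfl
theorem L395100 : sm gf N5673 = N5673 := trfs L395085 L101870 L395085
theorem L395101 : N5673 = N8217 := eqes L395100 L70479
theorem L395102 : N8217 = N5673 := (eqc rfl L395101 rfl).symm
theorem L395121 : sm gh N5673 = N11925 := trfs L395102 L101871 rfl
theorem L395122 : N11925 = N8218 := eqes L395121 L70487
theorem L395123 : N11925 = N8218 := eqc rfl L395122 rfl
theorem L395139 : sm gi N8218 = N17338 := trfs L395123 L147628 rfl
theorem L395140 : N17338 = N11926 := eqes L395139 L101879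
theorem L395141 : N17338 = N11926 := eqc rfl L395140 rfl
theorem L395154 : sm gg N11926 = N25231 := trfs L395141 (flp_g L214212) rfl
theorem L395155 : N25231 = N11926 := eqes L395154 L101885
theorem L395156 : N25231 = N11926 := eqc rfl L395155 rfl
theorem L395167 : sm ge N11926 = N36762 := trfs L395156 (flp_e L311236) rfl
theorem L395168 : N36762 = N8230 := eqes L395167 L101883
theorem L395169 : N36762 = N8230 := eqc rfl L395168 rfl
theorem L395177 : sm gi N8230 = N25227 := trfs L395169 (flp_i L311233) rfl
theorem L395178 : N25227 = N5680 := eqes L395177 (flp_i L70586)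
theorem L395179 : N25227 = N5680 := eqc rfl L395178 rfl
theorem L395191 : sm gf N5680 = N36759 := trfs L395179 (flp_f L311215) rfl
theorem L395192 : N36759 = N8229 := eqes L395191 (flp_f L70580)
theorem L395193 : N36759 = N8229 := eqc rfl L395192 rfl
theorem L395204 : sm gh N8229 = N25225 := trfs L395193 (flp_h L311211) rfl
theorem L395205 : N25225 = N5679 := eqes L395204 (flp_h L70577)
theorem L395206 : N25225 = N5679 := eqc rfl L395205 rfl
theorem L395224 : sm gj N5679 = N36758 := trfs L395206 L311204 rfl
theorem L395225 : N36758 = N3961 := eqes L395224 L48938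
theorem L395226 : N36758 = N3961 := eqc rfl L395225 rfl
theorem L395229 : sm ge N3961 = N3961 := trfs L395226 L311207 L395226
theorem L395230 : N3961 = N5728 := eqes L395229 L49346
theorem L395231 : N5728 = N3961 := (eqc rfl L395230 rfl).symm
theorem L395252 : sm gh N3961 = N8303 := trfs L395231 L71204 rfl
theorem L395253 : N8303 = N5730 := eqes L395252 L49358
theorem L395254 : N8303 = N5730 := eqc rfl L395253 rfl
theorem L395274 : sm gi N5730 = N12054 := trfs L395254 L102967 rfl
theorem L395275 : N12054 = N8306 := eqes L395274 L71226
theorem L395276 : N12054 = N8306 := eqc rfl L395275 rfl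
theorem L395294 : sm gj N8306 = N17361 := trfs L395276 (flp_j L147829) rfl
theorem L395295 : N17361 = N11943 := eqes L395294 (flp_j L102034)
theorem L395296 : N17361 = N11943 := eqc rfl L395295 rfl
theorem L395310 : sm gg N11943 = N25264 := trfs L395296 (flp_g L214500) rfl
theorem L395311 : N25264 = N17363 := eqes L395310 (flp_g L147848)
theorem L395312 : N25264 = N17363 := eqc rfl L395311 rfl
theorem L395333 : sm gi N17363 = N17359 := trfs L395312 (flp_i L214495) rfl
theorem L395334 : N17359 = N11942 := eqes L395333 (flp_i L147842)
theorem L395335 : N17359 = N11942 := eqc rfl L395334 rfl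
theorem L395352 : sm gh N11942 = N11939 := trfs L395335 (flp_h L147811) rfl
theorem L395353 : N11939 = N8228 := eqes L395352 (flp_h L102019)
theorem L395354 : N11939 = N8228 := eqc rfl L395353 rfl
theorem L395368 : sm gj N8228 = N17358 := trfs L395354 L147803 rfl
theorem L395369 : N17358 = N11941 := eqes L395368 L102010
theorem L395370 : N17358 = N11941 := eqc rfl L395369 rfl
theorem L395386 : sm gg N11941 = N12051 := trfs L395370 L147809 rfl
theorem L395387 : N12051 = N8304 := eqes L395386 L102017
theorem L395388 : N12051 = N8304 := eqc rfl L395387 rfl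
theorem L395404 : sm gh N8304 = N17526 := trfs L395388 L149238 rfl
theorem L395405 : N17526 = N12055 := eqes L395404 L102973
theorem L395406 : N17526 = N12055 := eqc rfl L395405 rfl
theorem L395422 : sm gi N12055 = N25514 := trfs L395406 L216632 rfl
theorem L395423 : N25514 = N17531 := eqes L395422 L149270
theorem L395424 : N25514 = N17531 := eqc rfl L395423 rfl
theorem L395432 : sm gd N17531 = N37189 := trfs L395424 (flp_d L314869) rfl
theorem L395433 : N37189 = N12092 := eqes L395432 L149273
theorem L395434 : N37189 = N12092 := eqc rfl L395433 rfl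
theorem L395443 : sm gj N12092 = N25516 := trfs L395434 L314873 rfl
theorem L395444 : N25516 = N8331 := eqes L395443 L103292
theorem L395445 : N25516 = N8331 := eqc rfl L395444 rfl
theorem L395467 : sm gi N8331 = N17527 := trfs L395445 (flp_i L216647) rfl
theorem L395468 : N17527 = N5747 := eqes L395467 (flp_i L71435)
theorem L395469 : N17527 = N5747 := eqc rfl L395468 rfl
theorem L395488 : sm gh N5747 = N25050 := trfs L395469 (flp_h L212755) rfl
theorem L395489 : N25050 = N3972 := eqes L395488 (flp_h L49500)
theorem L395490 : N25050 = N3972 := eqc rfl L395489 rfl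
theorem L395515 : sm gi N3972 = N36498 := trfs L395490 L309103 rfl
theorem L395516 : N36498 = N2761 := eqes L395515 L34386
theorem L395517 : N36498 = N2761 := eqc rfl L395516 rfl
theorem L395524 : sm gg N2761 = N25053 := trfs L395517 L309109 rfl
theorem L395525 : N25053 = N1916 := eqes L395524 (flp_g L24014)
theorem L395526 : N25053 = N1916 := eqc rfl L395525 rfl
theorem L395548 : sm gh N1916 = N36501 := trfs L395526 L309123 rfl
theorem L395549 : N36501 = N2762 := eqes L395548 L24022
theorem L395550 : N36501 = N2762 := eqc rfl L395549 rfl
theorem L395556 : sm gi N2762 = N25519 := trfs L395550 L309128 rfl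
theorem L395557 : N25519 = N3991 := eqes L395556 L34525
theorem L395558 : N25519 = N3991 := eqc rfl L395557 rfl
theorem L395576 : sm gj N3991 = N36820 := trfs L395558 (flp_j L311740) rfl
theorem L395577 : N36820 = N5709 := eqes L395576 (flp_j L49200)
theorem L395578 : N36820 = N5709 := eqc rfl L395577 rfl
theorem L395581 : sm ge N5709 = N25322 := trfs L395578 L311738 rfl
theorem L395582 : N25322 = N8270 := eqes L395581 (flp_e L70942)
theorem L395583 : N25322 = N8270 := eqc rfl L395582 rfl
theorem L395605 : sm gi N8270 = N36163 := trfs L395583 (flp_i L306463) rfl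
theorem L395606 : N36163 = N5706 := eqes L395605 (flp_i L70938)
theorem L395607 : N36163 = N5706 := eqc rfl L395606 rfl
theorem L395613 : sm gh N5706 = N24826 := trfs L395607 (flp_h L306456) rfl
theorem L395614 : N24826 = N3945 := eqes L395613 (flp_h L49167)
theorem L395615 : N24826 = N3945 := eqc rfl L395614 rfl
theorem L395634 : sm gi N3945 = N17066 := trfs L395615 (flp_i L211000) rfl
theorem L395635 : N17066 = N5689 := eqes L395634 (flp_i L49029)
theorem L395636 : N17066 = N5689 := eqc rfl L395635 rfl
theorem L395659 : sm gh N5689 = N11965 := trfs L395636 L145503 rfl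
theorem L395660 : N11965 = N8244 := eqes L395659 L70717
theorem L395661 : N11965 = N8244 := eqc rfl L395660 rfl
theorem L395679 : sm gj N8244 = N8328 := trfs L395661 L102240 rfl
theorem L395680 : N8328 = N5745 := eqes L395679 L70724
theorem L395681 : N8328 = N5745 := eqc rfl L395680 rfl
theorem L395697 : sm gi N5745 = N12091 := trfs L395681 L103281 rfl
theorem L395698 : N12091 = N8329 := eqes L395697 L71418
theorem L395699 : N12091 = N8329 := eqc rfl L395698 rfl
theorem L395706 : sm gc N8329 = N17585 := trfs L395699 (flp_c L149727) rfl
theorem L395707 : N17585 = N5931 := eqes L395706 L71420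
theorem L395708 : N17585 = N5931 := eqc rfl L395707 rfl
theorem L395734 : sm gh N5931 = N25600 := trfs L395708 L217328 rfl
theorem L395735 : N25600 = N4121 := eqes L395734 L50985
theorem L395736 : N25600 = N4121 := eqc rfl L395735 rfl
theorem L395754 : sm gi N4121 = N36582 := trfs L395736 (flp_i L309768) rfl
theorem L395755 : N36582 = N2848 := eqes L395754 (flp_i L35549)
theorem L395756 : N36582 = N2848 := eqc rfl L395755 rfl
theorem L395759 : sm gh N2848 = N25108 := trfs L395756 (flp_h L309763) rfl
theorem L395760 : N25108 = N1973 := eqes L395759 (flp_h L24704)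
theorem L395761 : N25108 = N1973 := eqc rfl L395760 rfl
theorem L395776 : sm gi N1973 = N17254 := trfs L395761 (flp_i L213209) rfl
theorem L395777 : N17254 = N2831 := eqes L395776 (flp_i L24578)
theorem L395778 : N17254 = N2831 := eqc rfl L395777 rfl
theorem L395791 : sm gg N2831 = N25105 := trfs L395778 (flp_g L213192) rfl
theorem L395792 : N25105 = N4094 := eqes L395791 L35357
theorem L395793 : N25105 = N4094 := eqc rfl L395792 rfl
theorem L395811 : sm gh N4094 = N17582 := trfs L395793 L213194 rfl
theorem L395812 : N17582 = N5929 := eqes L395811 L50969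
theorem L395813 : N17582 = N5929 := eqc rfl L395812 rfl
theorem L395830 : sm gj N5929 = N25593 := trfs L395813 (flp_j L217286) rfl
theorem L395831 : N25593 = N8599 := eqes L395830 (flp_j L73630)
theorem L395832 : N25593 = N8599 := eqc rfl L395831 rfl
theorem L395856 : sm gi N8599 = N37310 := trfs L395832 L315845 rfl
theorem L395857 : N37310 = N12493 := eqes L395856 L106588
theorem L395858 : N37310 = N12493 := eqc rfl L395857 rfl
theorem L395860 : sm gd N12493 = N26482 := trfs L395858 L315849 rfl
theorem L395861 : N26482 = N18181 := eqes L395860 (flp_d L154647)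
theorem L395862 : N26482 = N18181 := eqc rfl L395861 rfl
theorem L395881 : sm gh N18181 = N38622 := trfs L395862 L326694 rfl
theorem L395882 : N38622 = N26483 := eqes L395881 L224618
theorem L395883 : N38622 = N26483 := eqc rfl L395882 rfl
theorem L395887 : sm gj N26483 = N26486 := trfs L395883 L326699 rfl
theorem L395888 : N26486 = N18184 := eqes L395887 L224621
theorem L395889 : N26486 = N18184 := eqc rfl L395888 rfl
theorem L395905 : sm gg N18184 = N18187 := trfs L395889 L224644 rfl
theorem L395906 : N18187 = N12498 := eqes L395905 L154668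
theorem L395907 : N18187 = N12498 := eqc rfl L395906 rfl
theorem L395922 : sm gj N12498 = N26245 := trfs L395907 (flp_j L222683) rfl
theorem L395923 : N26245 = N18025 := eqes L395922 (flp_j L153356)
theorem L395924 : N26245 = N18025 := eqc rfl L395923 rfl
theorem L395933 : sm gc N18025 = N18025 := trfs L395924 L222679 rfl
theorem L395942 : sm gh N18025 = N18024 := trfs L395924 (flp_h L222677) rfl
theorem L395943 : N18024 = N12387 := eqes L395942 (flp_h L153352)
theorem L395944 : N18024 = N12387 := eqc rfl L395943 rfl
theorem L395960 : sm gi N12387 = N12386 := trfs L395944 (flp_i L153344) rfl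
theorem L395961 : N12386 = N8529 := eqes L395960 (flp_i L105707)
theorem L395962 : N12386 = N8529 := eqc rfl L395961 rfl
theorem L395976 : sm gj N8529 = N8602 := trfs L395962 L105704 rfl
theorem L395977 : N8602 = N5930 := eqes L395976 L73046
theorem L395978 : N8602 = N5930 := eqc rfl L395977 rfl
theorem L395980 : sm ga N5930 = N11090 := trfs L395978 (flp_a L94931) rfl
theorem L395981 : N11090 = N7637 := eqes L395980 (flp_a L65609)
theorem L395982 : N11090 = N7637 := eqc rfl L395981 rfl
theorem L395983 : sm gb N5930 = N12496 := trfs L395978 L106609 rfl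
theorem L395984 : N12496 = N8593 := eqes L395983 (flp_b L73576)
theorem L395985 : N12496 = N8593 := eqc rfl L395984 rfl
theorem L396009 : sm gi N8593 = N18186 := trfs L395985 L154678 rfl
theorem L396010 : N18186 = N12486 := eqes L396009 L106532
theorem L396011 : N18186 = N12486 := eqc rfl L396010 rfl
theorem L396022 : sm gg N12486 = N26485 := trfs L396011 (flp_g L224637) rfl
theorem L396023 : N26485 = N18170 := eqes L396022 (flp_g L154571)
theorem L396024 : N26485 = N18170 := eqc rfl L396023 rfl
theorem L396038 : sm gf N18170 = N38615 := trfs L396024 (flp_f L326648) rfl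
theorem L396039 : N38615 = N26462 := eqes L396038 (flp_f L224466)
theorem L396040 : N38615 = N26462 := eqc rfl L396039 rfl
theorem L396048 : sm gi N26462 = N26476 := trfs L396040 (flp_i L326644) rfl
theorem L396049 : N26476 = N18165 := eqes L396048 (flp_i L224460)
theorem L396050 : N26476 = N18165 := eqc rfl L396049 rfl
theorem L396068 : sm gj N18165 = N38608 := trfs L396050 (flp_j L326594) rfl
theorem L396069 : N38608 = N26458 := eqes L396068 (flp_j L224430)
theorem L396070 : N38608 = N26458 := eqc rfl L396069 rfl
theorem L396075 : sm gf N26458 = N26481 := trfs L396070 L326592 rfl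
theorem L396076 : N26481 = N18167 := eqes L396075 L224428
theorem L396077 : N26481 = N18167 := eqc rfl L396076 rfl
theorem L396088 : sm gg N18167 = N38260 := trfs L396077 (flp_g L323748) rfl
theorem L396089 : N38260 = N26225 := eqes L396088 (flp_g L222520)
theorem L396090 : N38260 = N26225 := eqc rfl L396089 rfl
theorem L396098 : sm gj N26225 = N26240 := trfs L396090 L323750 rfl
theorem L396099 : N26240 = N18010 := eqes L396098 L222522
theorem L396100 : N26240 = N18010 := eqc rfl L396099 rfl
theorem L396113 : sm gf N18010 = N38255 := trfs L396100 (flp_f L323712) rfl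
theorem L396114 : N38255 = N26223 := eqes L396113 (flp_f L222502)
theorem L396115 : N38255 = N26223 := eqc rfl L396114 rfl
theorem L396124 : sm gb N26223 = N26235 := trfs L396115 (flp_b L323710) rfl
theorem L396125 : N26235 = N18017 := eqes L396124 L222500
theorem L396126 : N26235 = N18017 := eqc rfl L396125 rfl
theorem L396133 : sm gd N18017 = N36891 := trfs L396126 (flp_d L312401) rfl
theorem L396134 : N36891 = N12382 := eqes L396133 (flp_d L153292)
theorem L396135 : N36891 = N12382 := eqc rfl L396134 rfl
theorem L396161 : sm gf N12382 = N25318 := trfs L396135 L312398 rfl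
theorem L396162 : N25318 = N8528 := eqes L396161 L105675
theorem L396163 : N25318 = N8528 := eqc rfl L396162 rfl
theorem L396179 : sm gi N8528 = N36897 := trfs L396163 L312436 rfl
theorem L396180 : N36897 = N12385 := eqes L396179 L105692
theorem L396181 : N36897 = N12385 := eqc rfl L396180 rfl
theorem L396182 : sm gc N12385 = N25319 := trfs L396181 L312438 rfl
theorem L396183 : N25319 = N17396 := eqes L396182 (flp_c L148154)
theorem L396184 : N25319 = N17396 := eqc rfl L396183 rfl
theorem L396199 : sm gj N17396 = N36895 := trfs L396184 (flp_j L312428) rfl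
theorem L396200 : N36895 = N25317 := eqes L396199 (flp_j L214995)
theorem L396201 : N36895 = N25317 := eqc rfl L396200 rfl
theorem L396206 : sm gi N25317 = N25316 := trfs L396201 (flp_i L312422) rfl
theorem L396207 : N25316 = N17394 := eqes L396206 (flp_i L214987)
theorem L396208 : N25316 = N17394 := eqc rfl L396207 rfl
theorem L396225 : sm gh N17394 = N36157 := trfs L396208 (flp_h L306414) rfl
theorem L396226 : N36157 = N11963 := eqes L396225 (flp_h L148138)
theorem L396227 : N36157 = N11963 := eqc rfl L396226 rfl
theorem L396231 : sm gg N11963 = N25103 := trfs L396227 L306410 rfl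
theorem L396232 : N25103 = N8326 := eqes L396231 L102227
theorem L396233 : N25103 = N8326 := eqc rfl L396232 rfl
theorem L396251 : sm gi N8326 = N36576 := trfs L396233 L309723 rfl
theorem L396252 : N36576 = N5768 := eqes L396251 L71405
theorem L396253 : N36576 = N5768 := eqc rfl L396252 rfl
theorem L396254 : sm gd N5768 = N25104 := trfs L396253 L309725 rfl
theorem L396255 : N25104 = N8203 := eqes L396254 (flp_d L70366)
theorem L396256 : N25104 = N8203 := eqc rfl L396255 rfl
theorem L396277 : sm gh N8203 = N17306 := trfs L396256 L213188 rfl
theorem L396278 : N17306 = N11904 := eqes L396277 L101694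
theorem L396279 : N17306 = N11904 := eqc rfl L396278 rfl
theorem L396300 : sm gj N11904 = N11906 := trfs L396279 L147357 rfl
theorem L396301 : N11906 = N8204 := eqes L396300 L101699
theorem L396302 : N11906 = N8204 := eqc rfl L396301 rfl
theorem L396320 : sm gg N8204 = N8206 := trfs L396302 L101713 rfl
theorem L396321 : N8206 = N5664 := eqes L396320 L70375
theorem L396322 : N8206 = N5664 := eqc rfl L396321 rfl
theorem L396335 : sm ge N5664 = N5667 := trfs L396322 L70386 rfl
theorem L396336 : N5667 = N3919 := eqes L396335 L48811
theorem L396337 : N5667 = N3919 := eqc rfl L396336 rfl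
theorem L396342 : sm gh N5664 = N11871 := trfs L396322 (flp_h L101455) rfl
theorem L396343 : N11871 = N3917 := eqes L396342 (flp_h L48808)
theorem L396344 : N11871 = N3917 := eqc rfl L396343 rfl
theorem L396360 : sm gi N3917 = N8180 := trfs L396344 (flp_i L101449) rfl
theorem L396361 : N8180 = N5647 := eqes L396360 (flp_i L48688)
theorem L396362 : N8180 = N5647 := eqc rfl L396361 rfl
theorem L396363 : sm ga N5647 = N10691 := trfs L396362 (flp_a L91377) rfl
theorem L396364 : N10691 = N7369 := eqes L396363 (flp_a L63217)
theorem L396365 : N10691 = N7369 := eqc rfl L396364 rfl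
theorem L396371 : sm ge N5647 = N5649 := trfs L396362 L70204 rfl
theorem L396372 : N5649 = N3907 := eqes L396371 (flp_e L48685)
theorem L396373 : N5649 = N3907 := eqc rfl L396372 rfl
theorem L396375 : sm gg N5647 = N11869 := trfs L396362 (flp_g L101442) rfl
theorem L396376 : N11869 = N8179 := eqes L396375 L70192
theorem L396377 : N11869 = N8179 := eqc rfl L396376 rfl
theorem L396379 : sm gh N5647 = N5647 := trfs L396362 (flp_h L70201) rfl
theorem L396388 : sm ge N8179 = N8182 := trfs L396377 L101440 rfl
theorem L396389 : N8182 = N5648 := eqes L396388 L70197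
theorem L396390 : N8182 = N5648 := eqc rfl L396389 rfl
theorem L396391 : sm gf N8179 = N17250 := trfs L396377 (flp_f L146938) rfl
theorem L396392 : N17250 = N11867 := eqes L396391 L101419
theorem L396393 : N17250 = N11867 := eqc rfl L396392 rfl
theorem L396413 : sm gi N11867 = N25102 := trfs L396393 L213166 rfl
theorem L396414 : N25102 = N8202 := eqes L396413 L101424
theorem L396415 : N25102 = N8202 := eqc rfl L396414 rfl
theorem L396419 : sm gb N8202 = N36561 := trfs L396415 (flp_b L309609) rfl
theorem L396420 : N36561 = N11895 := eqes L396419 (flp_b L101626)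
theorem L396421 : N36561 = N11895 := eqc rfl L396420 rfl
theorem L396439 : sm gh N11895 = N25169 := trfs L396421 L309615 rfl
theorem L396440 : N25169 = N17294 := eqes L396439 L147261
theorem L396441 : N25169 = N17294 := eqc rfl L396440 rfl
theorem L396450 : sm gd N17294 = N36677 := trfs L396441 (flp_d L310499) rfl
theorem L396451 : N36677 = N25168 := eqes L396450 L213668
theorem L396452 : N36677 = N25168 := eqc rfl L396451 rfl
theorem L396467 : sm gf N25168 = N25173 := trfs L396452 L310501 rfl
theorem L396468 : N25173 = N17296 := eqes L396467 L213672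
theorem L396469 : N25173 = N17296 := eqc rfl L396468 rfl
theorem L396471 : sm gi N25168 = N25168 := trfs L396452 (flp_i L310495) rfl
theorem L396487 : sm gh N17296 = N36682 := trfs L396469 L310536 rfl
theorem L396488 : N36682 = N12132 := eqes L396487 L147284
theorem L396489 : N36682 = N12132 := eqc rfl L396488 rfl
theorem L396498 : sm gi N12132 = N25700 := trfs L396489 L310543 rfl
theorem L396499 : N25700 = N17650 := eqes L396498 L150254
theorem L396500 : N25700 = N17650 := eqc rfl L396499 rfl
theorem L396514 : sm gf N17650 = N37464 := trfs L396500 (flp_f L317100) rfl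
theorem L396515 : N37464 = N25695 := eqes L396514 (flp_f L218106)
theorem L396516 : N37464 = N25695 := eqc rfl L396515 rfl
theorem L396520 : sm gj N17650 = N37467 := trfs L396500 (flp_j L317122) rfl
theorem L396521 : N37467 = N25697 := eqes L396520 (flp_j L218121)
theorem L396522 : N37467 = N25697 := eqc rfl L396521 rfl
theorem L396524 : sm gb N25697 = N25716 := trfs L396522 L317119 rfl
theorem L396525 : N25716 = N17661 := eqes L396524 L218116
theorem L396526 : N25716 = N17661 := eqc rfl L396525 rfl
theorem L396532 : sm gc N17661 = N37490 := trfs L396526 (flp_c L317291) rfl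
theorem L396533 : N37490 = N25715 := eqes L396532 (flp_c L218246)
theorem L396534 : N37490 = N25715 := eqc rfl L396533 rfl
theorem L396542 : sm gg N17661 = N37017 := trfs L396526 (flp_g L313489) rfl
theorem L396543 : N37017 = N25397 := eqes L396542 (flp_g L215696)
theorem L396544 : N37017 = N25397 := eqc rfl L396543 rfl
theorem L396554 : sm gj N25397 = N25400 := trfs L396544 L313491 rfl
theorem L396555 : N25400 = N17451 := eqes L396554 L215698
theorem L396556 : N25400 = N17451 := eqc rfl L396555 rfl
theorem L396574 : sm gi N17451 = N36241 := trfs L396556 (flp_i L307127) rfl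
theorem L396575 : N36241 = N12000 := eqes L396574 (flp_i L148635)
theorem L396576 : N36241 = N12000 := eqc rfl L396575 rfl
theorem L396579 : sm gh N12000 = N24879 := trfs L396576 (flp_h L307122) rfl
theorem L396580 : N24879 = N17101 := eqes L396579 (flp_h L145791)
theorem L396581 : N24879 = N17101 := eqc rfl L396580 rfl
theorem L396598 : sm gg N17101 = N17104 := trfs L396581 L211448 rfl
theorem L396599 : N17104 = N11769 := eqes L396598 L145788
theorem L396600 : N17104 = N11769 := eqc rfl L396599 rfl
theorem L396615 : sm gc N11769 = N24881 := trfs L396600 (flp_c L211461) rfl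
theorem L396616 : N24881 = N17103 := eqes L396615 L145800
theorem L396617 : N24881 = N17103 := eqc rfl L396616 rfl
theorem L396623 : sm gi N11769 = N11769 := trfs L396600 (flp_i L145809) rfl
theorem L396634 : sm gj N17103 = N17310 := trfs L396617 L211466 rfl
theorem L396635 : N17310 = N11907 := eqes L396634 L145804
theorem L396636 : N17310 = N11907 := eqc rfl L396635 rfl
theorem L396637 : sm gh N17103 = N36244 := trfs L396617 L307147 rfl
theorem L396638 : N36244 = N12002 := eqes L396637 L145806
theorem L396639 : N36244 = N12002 := eqc rfl L396638 rfl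
theorem L396647 : sm gi N12002 = N25403 := trfs L396639 L307155 rfl
theorem L396648 : N25403 = N17453 := eqes L396647 L148650
theorem L396649 : N25403 = N17453 := eqc rfl L396648 rfl
theorem L396663 : sm gj N17453 = N17667 := trfs L396649 L215745 rfl
theorem L396664 : N17667 = N12146 := eqes L396663 L148658
theorem L396665 : N17667 = N12146 := eqc rfl L396664 rfl
theorem L396666 : sm gh N17453 = N17453 := trfs L396649 (flp_h L215739) rfl
theorem L396681 : sm gg N12146 = N25719 := trfs L396665 (flp_g L218279) rfl
theorem L396682 : N25719 = N17663 := eqes L396681 (flp_g L150354)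
theorem L396683 : N25719 = N17663 := eqc rfl L396682 rfl
theorem L396702 : sm gi N17663 = N36701 := trfs L396683 (flp_i L310692) rfl
theorem L396703 : N36701 = N12143 := eqes L396702 (flp_i L150347)
theorem L396704 : N36701 = N12143 := eqc rfl L396703 rfl
theorem L396708 : sm gh N12143 = N25186 := trfs L396704 (flp_h L310685) rfl
theorem L396709 : N25186 = N17307 := eqes L396708 (flp_h L147364)
theorem L396710 : N25186 = N17307 := eqc rfl L396709 rfl
theorem L396714 : sm gb N17307 = N36700 := trfs L396710 (flp_b L310679) rfl
theorem L396715 : N36700 = N25185 := eqes L396714 L213800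
theorem L396716 : N36700 = N25185 := eqc rfl L396715 rfl
theorem L396738 : sm gg N25185 = N25189 := trfs L396716 L310683 rfl
theorem L396739 : N25189 = N17309 := eqes L396738 L213804
theorem L396740 : N25189 = N17309 := eqc rfl L396739 rfl
theorem L396746 : sm gc N17309 = N36684 := trfs L396740 (flp_c L310557) rfl
theorem L396747 : N36684 = N25174 := eqes L396746 (flp_c L213724)
theorem L396748 : N36684 = N25174 := eqc rfl L396747 rfl
theorem L396761 : sm gb N25174 = N25175 := trfs L396748 L310555 rfl
theorem L396762 : N25175 = N17298 := eqes L396761 (flp_b L213718)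
theorem L396763 : N25175 = N17298 := eqc rfl L396762 rfl
theorem L396780 : sm gh N17298 = N36685 := trfs L396763 L310561 rfl
theorem L396781 : N36685 = N12134 := eqes L396780 L147298
theorem L396782 : N36685 = N12134 := eqc rfl L396781 rfl
theorem L396787 : sm gi N12134 = N25703 := trfs L396782 L310567 rfl
theorem L396788 : N25703 = N17652 := eqes L396787 L150269
theorem L396789 : N25703 = N17652 := eqc rfl L396788 rfl
theorem L396803 : sm gj N17652 = N37004 := trfs L396789 (flp_j L313391) rfl
theorem L396804 : N37004 = N25388 := eqes L396803 (flp_j L215628)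
theorem L396805 : N37004 = N25388 := eqc rfl L396804 rfl
theorem L396807 : sm gc N25388 = N25389 := trfs L396805 L313387 rfl
theorem L396808 : N25389 = N17442 := eqes L396807 L215624
theorem L396809 : N25389 = N17442 := eqc rfl L396808 rfl
theorem L396813 : sm ga N17442 = N36954 := trfs L396809 (flp_a L312958) rfl
theorem L396814 : N36954 = N25354 := eqes L396813 (flp_a L215322)
theorem L396815 : N36954 = N25354 := eqc rfl L396814 rfl
theorem L396833 : sm gj N25354 = N25653 := trfs L396815 L312962 rfl
theorem L396834 : N25653 = N17618 := eqes L396833 L215328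
theorem L396835 : N25653 = N17618 := eqc rfl L396834 rfl
theorem L396849 : sm gi N17618 = N36635 := trfs L396835 (flp_i L310194) rfl
theorem L396850 : N36635 = N12110 := eqes L396849 (flp_i L149996)
theorem L396851 : N36635 = N12110 := eqc rfl L396850 rfl
theorem L396855 : sm gh N12110 = N25141 := trfs L396851 (flp_h L310188) rfl
theorem L396856 : N25141 = N17274 := eqes L396855 (flp_h L147120)
theorem L396857 : N25141 = N17274 := eqc rfl L396856 rfl
theorem L396869 : sm gj N17274 = N36195 := trfs L396857 (flp_j L306746) rfl
theorem L396870 : N36195 = N24845 := eqes L396869 (flp_j L211169)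
theorem L396871 : N36195 = N24845 := eqc rfl L396870 rfl
theorem L396874 : sm gd N24845 = N24846 := trfs L396871 L306742 rfl
theorem L396875 : N24846 = N17078 := eqes L396874 (flp_d L211164)
theorem L396876 : N24846 = N17078 := eqc rfl L396875 rfl
theorem L396880 : sm ga N17078 = N17095 := trfs L396876 L211176 rfl
theorem L396881 : N17095 = N11762 := eqes L396880 L145598
theorem L396882 : N17095 = N11762 := eqc rfl L396881 rfl
theorem L396897 : sm gh N17078 = N36127 := trfs L396876 (flp_h L306160) rfl
theorem L396898 : N36127 = N11751 := eqes L396897 (flp_h L145596)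
theorem L396899 : N36127 = N11751 := eqc rfl L396898 rfl
theorem L396911 : sm gi N11751 = N24800 := trfs L396899 (flp_i L306151) rfl
theorem L396912 : N24800 = N17048 := eqes L396911 (flp_i L145343)
theorem L396913 : N24800 = N17048 := eqc rfl L396912 rfl
theorem L396933 : sm gj N17048 = N17229 := trfs L396913 L210780 rfl
theorem L396934 : N17229 = N11852 := eqes L396933 L145341
theorem L396935 : N17229 = N11852 := eqc rfl L396934 rfl
theorem L396951 : sm gg N11852 = N25071 := trfs L396935 (flp_g L212929) rfl
theorem L396952 : N25071 = N17228 := eqes L396951 L146753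
theorem L396953 : N25071 = N17228 := eqc rfl L396952 rfl
theorem L396976 : sm gi N17228 = N36531 := trfs L396953 L309374 rfl
theorem L396977 : N36531 = N11881 := eqes L396976 L146761
theorem L396978 : N36531 = N11881 := eqc rfl L396977 rfl
theorem L396984 : sm gh N11881 = N25139 := trfs L396978 L309382 rfl
theorem L396985 : N25139 = N17273 := eqes L396984 L147106
theorem L396986 : N25139 = N17273 := eqc rfl L396985 rfl
theorem L397000 : sm gj N17273 = N36630 := trfs L396986 (flp_j L310154) rfl
theorem L397001 : N36630 = N25137 := eqes L397000 (flp_j L213441)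
theorem L397002 : N36630 = N25137 := eqc rfl L397001 rfl
theorem L397005 : sm ge N25137 = N25142 := trfs L397002 L310152 rfl
theorem L397006 : N25142 = N17276 := eqes L397005 L213439
theorem L397007 : N25142 = N17276 := eqc rfl L397006 rfl
theorem L397024 : sm gh N17276 = N36534 := trfs L397007 (flp_h L309405) rfl
theorem L397025 : N36534 = N11883 := eqes L397024 (flp_h L147129)
theorem L397026 : N36534 = N11883 := eqc rfl L397025 rfl
theorem L397033 : sm gi N11883 = N25074 := trfs L397026 (flp_i L309398) rfl
theorem L397034 : N25074 = N17230 := eqes L397033 (flp_i L146777)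
theorem L397035 : N25074 = N17230 := eqc rfl L397034 rfl
theorem L397050 : sm gg N17230 = N36128 := trfs L397035 (flp_g L306166) rfl
theorem L397051 : N36128 = N24801 := eqes L397050 (flp_g L210790)
theorem L397052 : N36128 = N24801 := eqc rfl L397051 rfl
theorem L397058 : sm gj N24801 = N24802 := trfs L397052 L306168 rfl
theorem L397059 : N24802 = N17049 := eqes L397058 (flp_j L210782)
theorem L397060 : N24802 = N17049 := eqc rfl L397059 rfl
theorem L397080 : sm gi N17049 = N36129 := trfs L397060 L306170 rfl
theorem L397081 : N36129 = N11752 := eqes L397080 L145354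
theorem L397082 : N36129 = N11752 := eqc rfl L397081 rfl
theorem L397087 : sm gh N11752 = N24848 := trfs L397082 L306176 rfl
theorem L397088 : N24848 = N17080 := eqes L397087 L145613
theorem L397089 : N24848 = N17080 := eqc rfl L397088 rfl
theorem L397101 : sm gf N17080 = N35903 := trfs L397089 (flp_f L304246) rfl
theorem L397102 : N35903 = N24652 := eqes L397101 (flp_f L209518)
theorem L397103 : N35903 = N24652 := eqc rfl L397102 rfl
theorem L397111 : sm gg N24652 = N24653 := trfs L397103 L304248 rfl
theorem L397112 : N24653 = N16949 := eqes L397111 L209520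
theorem L397113 : N24653 = N16949 := eqc rfl L397112 rfl
theorem L397132 : sm gh N16949 = N35858 := trfs L397113 (flp_h L303858) rfl
theorem L397133 : N35858 = N11667 := eqes L397132 (flp_h L144501)
theorem L397134 : N35858 = N11667 := eqc rfl L397133 rfl
theorem L397143 : sm gi N11667 = N24622 := trfs L397134 (flp_i L303851) rfl
theorem L397144 : N24622 = N16929 := eqes L397143 (flp_i L144335)
theorem L397145 : N24622 = N16929 := eqc rfl L397144 rfl
theorem L397161 : sm gf N16929 = N16930 := trfs L397145 L209259 rfl
theorem L397162 : N16930 = N11655 := eqes L397161 (flp_f L144328)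
theorem L397163 : N16930 = N11655 := eqc rfl L397162 rfl
theorem L397180 : sm gg N11655 = N11734 := trfs L397163 L144342 rfl
theorem L397181 : N11734 = N8091 := eqes L397180 L99711
theorem L397182 : N11734 = N8091 := eqc rfl L397181 rfl
theorem L397204 : sm gi N8091 = N17051 := trfs L397182 L145364 rfl
theorem L397205 : N17051 = N5597 := eqes L397204 L69505
theorem L397206 : N17051 = N5597 := eqc rfl L397205 rfl
theorem L397225 : sm gh N5597 = N11754 := trfs L397206 L145371 rfl
theorem L397226 : N11754 = N8104 := eqes L397225 L69612
theorem L397227 : N11754 = N8104 := eqc rfl L397226 rfl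
theorem L397228 : sm ga N8104 = N8111 := trfs L397227 L100555 rfl
theorem L397229 : N8111 = N5601 := eqes L397228 L69614
theorem L397230 : N8111 = N5601 := eqc rfl L397229 rfl
theorem L397231 : sm gb N8104 = N15447 := trfs L397227 (flp_b L131623) rfl
theorem L397232 : N15447 = N10630 := eqes L397231 (flp_b L90852)
theorem L397233 : N15447 = N10630 := eqc rfl L397232 rfl
theorem L397241 : sm gj N8104 = N8190 := trfs L397227 L100559 rfl
theorem L397242 : N8190 = N5654 := eqes L397241 L69617
theorem L397243 : N8190 = N5654 := eqc rfl L397242 rfl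
theorem L397245 : sm ga N5654 = N5661 := trfs L397243 L70272 rfl
theorem L397246 : N5661 = N3915 := eqes L397245 L48737
theorem L397247 : N5661 = N3915 := eqc rfl L397246 rfl
theorem L397248 : sm gb N5654 = N10701 := trfs L397243 (flp_b L91462) rfl
theorem L397249 : N10701 = N7376 := eqes L397248 (flp_b L63280)
theorem L397250 : N10701 = N7376 := eqc rfl L397249 rfl
theorem L397256 : sm gf N5654 = N11885 := trfs L397243 (flp_f L101557) rfl
theorem L397257 : N11885 = N8189 := eqes L397256 (flp_f L70267)
theorem L397258 : N11885 = N8189 := eqc rfl L397257 rfl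
theorem L397262 : sm ga N8189 = N8201 := trfs L397258 L101554 rfl
theorem L397263 : N8201 = N5660 := eqes L397262 L70265
theorem L397264 : N8201 = N5660 := eqc rfl L397263 rfl
theorem L397265 : sm gb N8189 = N15555 := trfs L397258 (flp_b L132545) rfl
theorem L397266 : N15555 = N10700 := eqes L397265 (flp_b L91453)
theorem L397267 : N15555 = N10700 := eqc rfl L397266 rfl
theorem L397275 : sm gh N8189 = N17232 := trfs L397258 (flp_h L146792) rfl
theorem L397276 : N17232 = N5653 := eqes L397275 (flp_h L70263)
theorem L397277 : N17232 = N5653 := eqc rfl L397276 rfl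
theorem L397288 : sm gd N5653 = N25030 := trfs L397277 (flp_d L212606) rfl
theorem L397289 : N25030 = N3912 := eqes L397288 L48733
theorem L397290 : N25030 = N3912 := eqc rfl L397289 rfl
theorem L397318 : sm gi N3912 = N17201 := trfs L397290 (flp_i L212602) rfl
theorem L397319 : N17201 = N5642 := eqes L397318 (flp_i L48649)
theorem L397320 : N17201 = N5642 := eqc rfl L397319 rfl
theorem L397343 : sm gh N5642 = N11834 := trfs L397320 (flp_h L146552) rfl
theorem L397344 : N11834 = N8158 := eqes L397343 (flp_h L70034)
theorem L397345 : N11834 = N8158 := eqc rfl L397344 rfl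
theorem L397365 : sm gj N8158 = N17030 := trfs L397345 (flp_j L145191) rfl
theorem L397366 : N17030 = N11722 := eqes L397365 (flp_j L100285)
theorem L397367 : N17030 = N11722 := eqc rfl L397366 rfl
theorem L397385 : sm gg N11722 = N24771 := trfs L397367 L210529 rfl
theorem L397386 : N24771 = N17032 := eqes L397385 L145202
theorem L397387 : N24771 = N17032 := eqc rfl L397386 rfl
theorem L397406 : sm gj N17032 = N36082 := trfs L397387 L305758 rfl
theorem L397407 : N36082 = N24774 := eqes L397406 L210555
theorem L397408 : N36082 = N24774 := eqc rfl L397407 rfl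
theorem L397415 : sm gg N24774 = N25028 := trfs L397408 L305765 rfl
theorem L397416 : N25028 = N17203 := eqes L397415 L210565
theorem L397417 : N25028 = N17203 := eqc rfl L397416 rfl
theorem L397429 : sm ge N17203 = N36462 := trfs L397417 (flp_e L308844) rfl
theorem L397430 : N36462 = N12039 := eqes L397429 L146573
theorem L397431 : N36462 = N12039 := eqc rfl L397430 rfl
theorem L397442 : sm gj N12039 = N25026 := trfs L397431 (flp_j L308838) rfl
theorem L397443 : N25026 = N8294 := eqes L397442 (flp_j L102855)
theorem L397444 : N25026 = N8294 := eqc rfl L397443 rfl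
theorem L397463 : sm gh N8294 = N36463 := trfs L397444 L308847 rfl
theorem L397464 : N36463 = N5736 := eqes L397463 L71138
theorem L397465 : N36463 = N5736 := eqc rfl L397464 rfl
theorem L397467 : sm ga N5736 = N25042 := trfs L397465 L308849 rfl
theorem L397468 : N25042 = N3970 := eqes L397467 L49409
theorem L397469 : N25042 = N3970 := eqc rfl L397468 rfl
theorem L397490 : sm gi N3970 = N36487 := trfs L397469 L309022 rfl
theorem L397491 : N36487 = N2759 := eqes L397490 L34369
theorem L397492 : N36487 = N2759 := eqc rfl L397491 rfl
theorem L397497 : sm gg N2759 = N25044 := trfs L397492 L309028 rfl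
theorem L397498 : N25044 = N1915 := eqes L397497 (flp_g L24001)
theorem L397499 : N25044 = N1915 := eqc rfl L397498 rfl
theorem L397511 : sm gj N1915 = N36098 := trfs L397499 (flp_j L305898) rfl
theorem L397512 : N36098 = N2732 := eqes L397511 (flp_j L23795)
theorem L397513 : N36098 = N2732 := eqc rfl L397512 rfl
theorem L397523 : sm gi N2732 = N24781 := trfs L397513 (flp_i L305892) rfl
theorem L397524 : N24781 = N3934 := eqes L397523 (flp_i L34078)
theorem L397525 : N24781 = N3934 := eqc rfl L397524 rfl
theorem L397548 : sm gh N3934 = N17035 := trfs L397525 (flp_h L210611) rfl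
theorem L397549 : N17035 = N5678 := eqes L397548 (flp_h L48930)
theorem L397550 : N17035 = N5678 := eqc rfl L397549 rfl
theorem L397568 : sm gj N5678 = N11839 := trfs L397550 L145230 rfl
theorem L397569 : N11839 = N3960 := eqes L397568 L48928
theorem L397570 : N11839 = N3960 := eqc rfl L397569 rfl
theorem L397579 : sm gf N3960 = N17170 := trfs L397570 (flp_f L146332) rfl
theorem L397580 : N17170 = N2743 := eqes L397579 (flp_f L34284)
theorem L397581 : N17170 = N2743 := eqc rfl L397580 rfl
theorem L397604 : sm gh N2743 = N24983 := trfs L397581 L212252 rfl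
theorem L397605 : N24983 = N1909 := eqes L397604 L23884
theorem L397606 : N24983 = N1909 := eqc rfl L397605 rfl
theorem L397624 : sm gg N1909 = N36398 := trfs L397606 (flp_g L308351) rfl
theorem L397625 : N36398 = N1342 := eqes L397624 L16702
theorem L397626 : N36398 = N1342 := eqc rfl L397625 rfl
theorem L397632 : sm ge N1342 = N24985 := trfs L397626 L308349 rfl
theorem L397633 : N24985 = N933 := eqes L397632 (flp_e L11780)
theorem L397634 : N24985 = N933 := eqc rfl L397633 rfl
theorem L397654 : sm gi N933 = N36402 := trfs L397634 L308379 rfl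
theorem L397655 : N36402 = N648 := eqes L397654 L8232
theorem L397656 : N36402 = N648 := eqc rfl L397655 rfl
theorem L397662 : sm gg N648 = N24986 := trfs L397656 L308385 rfl
theorem L397663 : N24986 = N926 := eqes L397662 (flp_g L8179)
theorem L397664 : N24986 = N926 := eqc rfl L397663 rfl
theorem L397680 : sm gj N926 = N36040 := trfs L397664 (flp_j L305416) rfl
theorem L397681 : N36040 = N1320 := eqes L397680 (flp_j L11614)
theorem L397682 : N36040 = N1320 := eqc rfl L397681 rfl
theorem L397693 : sm gi N1320 = N24743 := trfs L397682 (flp_i L305409) rfl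
theorem L397694 : N24743 = N1894 := eqes L397693 (flp_i L16581)
theorem L397695 : N24743 = N1894 := eqc rfl L397694 rfl
theorem L397714 : sm gh N1894 = N17010 := trfs L397695 (flp_h L210298) rfl
theorem L397715 : N17010 = N2722 := eqes L397714 (flp_h L23705)
theorem L397716 : N17010 = N2722 := eqc rfl L397715 rfl
theorem L397733 : sm gg N2722 = N24742 := trfs L397716 L210291 rfl
theorem L397734 : N24742 = N2722 := eqes L397733 L23702
theorem L397735 : N24742 = N2722 := eqc rfl L397734 rfl
theorem L397756 : sm gj N2722 = N36038 := trfs L397735 L305393 rfl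
theorem L397757 : N36038 = N1905 := eqes L397756 L23703
theorem L397758 : N36038 = N1905 := eqc rfl L397757 rfl
theorem L397767 : sm gg N1905 = N24984 := trfs L397758 L305400 rfl
theorem L397768 : N24984 = N1338 := eqes L397767 L16667
theorem L397769 : N24984 = N1338 := eqc rfl L397768 rfl
theorem L397783 : sm ge N1338 = N36397 := trfs L397769 (flp_e L308342) rfl
theorem L397784 : N36397 = N1926 := eqes L397783 L16827
theorem L397785 : N36397 = N1926 := eqc rfl L397784 rfl
theorem L397793 : sm gd N1926 = N25451 := trfs L397785 L308340 rfl
theorem L397794 : N25451 = N2774 := eqes L397793 L24116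
theorem L397795 : N25451 = N2774 := eqc rfl L397794 rfl
theorem L397819 : sm gh N2774 = N37098 := trfs L397795 L314157 rfl
theorem L397820 : N37098 = N4008 := eqes L397819 L34657
theorem L397821 : N37098 = N4008 := eqc rfl L397820 rfl
theorem L397825 : sm gj N4008 = N25452 := trfs L397821 L314163 rfl
theorem L397826 : N25452 = N4008 := eqes L397825 L34661
theorem L397827 : N25452 = N4008 := eqc rfl L397826 rfl
theorem L397850 : sm gi N4008 = N37100 := trfs L397827 L314172 rfl
theorem L397851 : N37100 = N5801 := eqes L397850 L49915
theorem L397852 : N37100 = N5801 := eqc rfl L397851 rfl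
theorem L397855 : sm gg N5801 = N25454 := trfs L397852 L314178 rfl
theorem L397856 : N25454 = N8300 := eqes L397855 (flp_g L71185)
theorem L397857 : N25454 = N8300 := eqc rfl L397856 rfl
theorem L397873 : sm gj N8300 = N36755 := trfs L397857 (flp_j L311182) rfl
theorem L397874 : N36755 = N11937 := eqes L397873 (flp_j L101983)
theorem L397875 : N36755 = N11937 := eqc rfl L397874 rfl
theorem L397882 : sm gi N11937 = N25221 := trfs L397875 (flp_i L311174) rfl
theorem L397883 : N25221 = N8225 := eqes L397882 (flp_i L101976)
theorem L397884 : N25221 = N8225 := eqc rfl L397883 rfl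
theorem L397901 : sm gh N8225 = N17329 := trfs L397884 (flp_h L214121) rfl
theorem L397902 : N17329 = N5677 := eqes L397901 (flp_h L70546)
theorem L397903 : N17329 = N5677 := eqc rfl L397902 rfl
theorem L397914 : sm gg N5677 = N25220 := trfs L397903 L214114 rfl
theorem L397915 : N25220 = N5677 := eqes L397914 L48919
theorem L397916 : N25220 = N5677 := eqc rfl L397915 rfl
theorem L397923 : sm gc N5677 = N36743 := trfs L397916 (flp_c L311071) rfl
theorem L397924 : N36743 = N8223 := eqes L397923 L70529
theorem L397925 : N36743 = N8223 := eqc rfl L397924 rfl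
theorem L397933 : sm ge N8223 = N25216 := trfs L397925 L311073 rfl
theorem L397934 : N25216 = N11919 := eqes L397933 (flp_e L101823)
theorem L397935 : N25216 = N11919 := eqc rfl L397934 rfl
theorem L397953 : sm gh N11919 = N36746 := trfs L397935 L311096 rfl
theorem L397954 : N36746 = N17328 := eqes L397953 L147541
theorem L397955 : N36746 = N17328 := eqc rfl L397954 rfl
theorem L397961 : sm gf N17328 = N17328 := trfs L397955 L311101 L397955
theorem L397962 : N17328 = N25217 := eqes L397961 (flp_f L214092)
theorem L397963 : N25217 = N17328 := (eqc rfl L397962 rfl).symm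
theorem L397979 : sm gi N17328 = N36748 := trfs L397963 L311112 rfl
theorem L397980 : N36748 = N25219 := eqes L397979 L214103
theorem L397981 : N36748 = N25219 := eqc rfl L397980 rfl
theorem L397985 : sm gj N25219 = N25447 := trfs L397981 L311119 rfl
theorem L397986 : N25447 = N17483 := eqes L397985 L214111
theorem L397987 : N25447 = N17483 := eqc rfl L397986 rfl
theorem L397999 : sm gg N17483 = N37090 := trfs L397987 (flp_g L314100) rfl
theorem L398000 : N37090 = N12176 := eqes L397999 L148903
theorem L398001 : N37090 = N12176 := eqc rfl L398000 rfl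
theorem L398010 : sm gi N12176 = N25445 := trfs L398001 (flp_i L314093) rfl
theorem L398011 : N25445 = N8384 := eqes L398010 (flp_i L103953)
theorem L398012 : N25445 = N8384 := eqc rfl L398011 rfl
theorem L398029 : sm gh N8384 = N17480 := trfs L398012 (flp_h L216088) rfl
theorem L398030 : N17480 = N5783 := eqes L398029 (flp_h L71855)
theorem L398031 : N17480 = N5783 := eqc rfl L398030 rfl
theorem L398051 : sm gj N5783 = N25444 := trfs L398031 L216080 rfl
theorem L398052 : N25444 = N5783 := eqes L398051 L49784
theorem L398053 : N25444 = N5783 := eqc rfl L398052 rfl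
theorem L398064 : sm gf N5783 = N17708 := trfs L398053 L216085 rfl
theorem L398065 : N17708 = N8383 := eqes L398064 L71848
theorem L398066 : N17708 = N8383 := eqc rfl L398065 rfl
theorem L398084 : sm gh N8383 = N25787 := trfs L398066 L218838 rfl
theorem L398085 : N25787 = N12174 := eqes L398084 L103940
theorem L398086 : N25787 = N12174 := eqc rfl L398085 rfl
theorem L398105 : sm gi N12174 = N37599 := trfs L398086 L318191 rfl
theorem L398106 : N37599 = N17711 := eqes L398105 L150734
theorem L398107 : N37599 = N17711 := eqc rfl L398106 rfl
theorem L398109 : sm gc N17711 = N25802 := trfs L398107 L318194 rfl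
theorem L398110 : N25802 = N12181 := eqes L398109 L150737
theorem L398111 : N25802 = N12181 := eqc rfl L398110 rfl
theorem L398116 : sm ga N12181 = N37584 := trfs L398111 (flp_a L318075) rfl
theorem L398117 : N37584 = N17704 := eqes L398116 (flp_a L150680)
theorem L398118 : N37584 = N17704 := eqc rfl L398117 rfl
theorem L398134 : sm gi N17704 = N25778 := trfs L398118 (flp_i L318073) rfl
theorem L398135 : N25778 = N12169 := eqes L398134 (flp_i L150678)
theorem L398136 : N25778 = N12169 := eqc rfl L398135 rfl
theorem L398153 : sm gh N12169 = N17702 := trfs L398136 (flp_h L218765) rfl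
theorem L398154 : N17702 = N8380 := eqes L398153 (flp_h L103900)
theorem L398155 : N17702 = N8380 := eqc rfl L398154 rfl
theorem L398170 : sm gg N8380 = N8380 := trfs L398155 L150670 L398155
theorem L398171 : N8380 = N12168 := eqes L398170 L103893
theorem L398172 : N12168 = N8380 := (eqc rfl L398171 rfl).symm
theorem L398188 : sm gf N8380 = N17475 := trfs L398172 (flp_f L148840) rfl
theorem L398189 : N17475 = N5781 := eqes L398188 (flp_f L71825)
theorem L398190 : N17475 = N5781 := eqc rfl L398189 rfl
theorem L398209 : sm gh N5781 = N25439 := trfs L398190 L216040 rfl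
theorem L398210 : N25439 = N8381 := eqes L398209 L71833
theorem L398211 : N25439 = N8381 := eqc rfl L398210 rfl
theorem L398225 : sm gi N8381 = N37080 := trfs L398211 L314013 rfl
theorem L398226 : N37080 = N12170 := eqes L398225 L103908
theorem L398227 : N37080 = N12170 := eqc rfl L398226 rfl
theorem L398231 : sm gg N12170 = N25440 := trfs L398227 L314020 rfl
theorem L398232 : N25440 = N17477 := eqes L398231 (flp_g L148856)
theorem L398233 : N25440 = N17477 := eqc rfl L398232 rfl
theorem L398243 : sm gj N17477 = N36741 := trfs L398233 (flp_j L311057) rfl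
theorem L398244 : N36741 = N25213 := eqes L398243 (flp_j L214058)
theorem L398245 : N36741 = N25213 := eqc rfl L398244 rfl
theorem L398252 : sm gi N25213 = N25212 := trfs L398245 (flp_i L311050) rfl
theorem L398253 : N25212 = N17325 := eqes L398252 (flp_i L214050)
theorem L398254 : N25212 = N17325 := eqc rfl L398253 rfl
theorem L398267 : sm gh N17325 = N17324 := trfs L398254 (flp_h L214041) rfl
theorem L398268 : N17324 = N11917 := eqes L398267 (flp_h L147516)
theorem L398269 : N17324 = N11917 := eqc rfl L398268 rfl
theorem L398282 : sm gg N11917 = N25211 := trfs L398269 L214033 rfl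
theorem L398283 : N25211 = N11917 := eqes L398282 L101807
theorem L398284 : N25211 = N11917 := eqc rfl L398283 rfl
theorem L398297 : sm gj N11917 = N36739 := trfs L398284 L311032 rfl
theorem L398298 : N36739 = N8280 := eqes L398297 L101808
theorem L398299 : N36739 = N8280 := eqc rfl L398298 rfl
theorem L398303 : sm gd N8280 = N25214 := trfs L398299 L311036 rfl
theorem L398304 : N25214 = N5715 := eqes L398303 (flp_d L71026)
theorem L398305 : N25214 = N5715 := eqc rfl L398304 rfl
theorem L398325 : sm gg N5715 = N17478 := trfs L398305 L214068 rfl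
theorem L398326 : N17478 = N3997 := eqes L398325 L49251
theorem L398327 : N17478 = N3997 := eqc rfl L398326 rfl
theorem L398341 : sm ge N3997 = N24976 := trfs L398327 (flp_e L212207) rfl
theorem L398342 : N24976 = N2768 := eqes L398341 (flp_e L34576)
theorem L398343 : N24976 = N2768 := eqc rfl L398342 rfl
theorem L398358 : sm gj N2768 = N17167 := trfs L398343 (flp_j L212203) rfl
theorem L398359 : N17167 = N2768 := eqes L398358 L24076
theorem L398360 : N17167 = N2768 := eqc rfl L398359 rfl
theorem L398377 : sm gg N2768 = N11812 := trfs L398360 (flp_g L146304) rfl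
theorem L398378 : N11812 = N3953 := eqes L398377 (flp_g L34234)
theorem L398379 : N11812 = N3953 := eqc rfl L398378 rfl
theorem L398398 : sm gj N3953 = N17008 := trfs L398379 (flp_j L145009) rfl
theorem L398399 : N17008 = N5671 := eqes L398398 (flp_j L48868)
theorem L398400 : N17008 = N5671 := eqc rfl L398399 rfl
theorem L398415 : sm gg N5671 = N24738 := trfs L398400 L210257 rfl
theorem L398416 : N24738 = N5671 := eqes L398415 L48867
theorem L398417 : N24738 = N5671 := eqc rfl L398416 rfl
theorem L398429 : sm gf N5671 = N35782 := trfs L398417 (flp_f L303222) rfl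
theorem L398430 : N35782 = N8074 := eqes L398429 (flp_f L69360)
theorem L398431 : N35782 = N8074 := eqc rfl L398430 rfl
theorem L398440 : sm gg N8074 = N24573 := trfs L398431 (flp_g L303215) rfl
theorem L398441 : N24573 = N11635 := eqes L398440 (flp_g L99540)
theorem L398442 : N24573 = N11635 := eqc rfl L398441 rfl
theorem L398457 : sm ge N11635 = N11635 := trfs L398442 L208849 L398442
theorem L398458 : N11635 = N16898 := eqes L398457 L144066
theorem L398459 : N16898 = N11635 := (eqc rfl L398458 rfl).symm
theorem L398473 : sm gd N11635 = N24572 := trfs L398459 L208832 rfl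
theorem L398474 : N24572 = N8035 := eqes L398473 L99537
theorem L398475 : N24572 = N8035 := eqc rfl L398474 rfl
theorem L398498 : sm gh N8035 = N35781 := trfs L398475 L303205 rfl
theorem L398499 : N35781 = N5556 := eqes L398498 L69024
theorem L398500 : N35781 = N5556 := eqc rfl L398499 rfl
theorem L398507 : sm gg N5556 = N24737 := trfs L398500 L303211 rfl
theorem L398508 : N24737 = N3870 := eqes L398507 L47942
theorem L398509 : N24737 = N3870 := eqc rfl L398508 rfl
theorem L398525 : sm gi N3870 = N36029 := trfs L398509 L305318 rfl
theorem L398526 : N36029 = N2687 := eqes L398525 L33569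
theorem L398527 : N36029 = N2687 := eqc rfl L398526 rfl
theorem L398531 : sm gj N2687 = N24975 := trfs L398527 L305325 rfl
theorem L398532 : N24975 = N1885 := eqes L398531 L23432
theorem L398533 : N24975 = N1885 := eqc rfl L398532 rfl
theorem L398539 : sm gc N1885 = N36381 := trfs L398533 (flp_c L308220) rfl
theorem L398540 : N36381 = N1885 := eqes L398539 L16506
theorem L398541 : N36381 = N1885 := eqc rfl L398540 rfl
theorem L398556 : sm gi N1885 = N24971 := trfs L398541 (flp_i L308216) rfl
theorem L398557 : N24971 = N2707 := eqes L398556 (flp_i L23591)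
theorem L398558 : N24971 = N2707 := eqc rfl L398557 rfl
theorem L398577 : sm gh N2707 = N17164 := trfs L398558 (flp_h L212161) rfl
theorem L398578 : N17164 = N3899 := eqes L398577 (flp_h L33799)
theorem L398579 : N17164 = N3899 := eqc rfl L398578 rfl
theorem L398599 : sm gj N3899 = N24735 := trfs L398579 (flp_j L210236) rfl
theorem L398600 : N24735 = N5585 := eqes L398599 (flp_j L48195)
theorem L398601 : N24735 = N5585 := eqc rfl L398600 rfl
theorem L398613 : sm ge N5585 = N17029 := trfs L398601 L210234 rfl
theorem L398614 : N17029 = N8084 := eqes L398613 L69438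
theorem L398615 : N17029 = N8084 := eqc rfl L398614 rfl
theorem L398640 : sm gh N8084 = N24769 := trfs L398615 L210512 rfl
theorem L398641 : N24769 = N5590 := eqes L398640 L69445
theorem L398642 : N24769 = N5590 := eqc rfl L398641 rfl
theorem L398662 : sm gi N5590 = N36079 := trfs L398642 L305732 rfl
theorem L398663 : N36079 = N3875 := eqes L398662 L48241
theorem L398664 : N36079 = N3875 := eqc rfl L398663 rfl
theorem L398665 : sm ga N3875 = N24779 := trfs L398664 L305734 rfl
theorem L398666 : N24779 = N2688 := eqes L398665 L33608
theorem L398667 : N24779 = N2688 := eqc rfl L398666 rfl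
theorem L398689 : sm gj N2688 = N17208 := trfs L398667 L210599 rfl
theorem L398690 : N17208 = N1886 := eqes L398689 L23440
theorem L398691 : N17208 = N1886 := eqc rfl L398690 rfl
theorem L398710 : sm gi N1886 = N11838 := trfs L398691 (flp_i L146603) rfl
theorem L398711 : N11838 = N2708 := eqes L398710 (flp_i L23599)
theorem L398712 : N11838 = N2708 := eqc rfl L398711 rfl
theorem L398729 : sm gh N2708 = N8159 := trfs L398712 (flp_h L101195) rfl
theorem L398730 : N8159 = N3900 := eqes L398729 (flp_h L33808)
theorem L398731 : N8159 = N3900 := eqc rfl L398730 rfl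
theorem L398742 : sm gf N3900 = N11837 := trfs L398731 L101189 rfl
theorem L398743 : N11837 = N5636 := eqes L398742 L48597
theorem L398744 : N11837 = N5636 := eqc rfl L398743 rfl
theorem L398759 : sm gj N5636 = N17033 := trfs L398744 (flp_j L145217) rfl
theorem L398760 : N17033 = N8086 := eqes L398759 (flp_j L69460)
theorem L398761 : N17033 = N8086 := eqc rfl L398760 rfl
theorem L398776 : sm gh N8086 = N24777 := trfs L398761 L210580 rfl
theorem L398777 : N24777 = N5592 := eqes L398776 L69462
theorem L398778 : N24777 = N5592 := eqc rfl L398777 rfl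
theorem L398790 : sm gg N5592 = N36089 := trfs L398778 (flp_g L305821) rfl
theorem L398791 : N36089 = N8096 := eqes L398790 L69545
theorem L398792 : N36089 = N8096 := eqc rfl L398791 rfl
theorem L398795 : sm gc N8096 = N24783 := trfs L398792 L305819 rfl
theorem L398796 : N24783 = N8096 := eqes L398795 L69549
theorem L398797 : N24783 = N8096 := eqc rfl L398796 rfl
theorem L398813 : sm gi N8096 = N36100 := trfs L398797 L305911 rfl
theorem L398814 : N36100 = N5602 := eqes L398813 L69552
theorem L398815 : N36100 = N5602 := eqc rfl L398814 rfl
theorem L398816 : sm gb N5602 = N24791 := trfs L398815 L305913 rfl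
theorem L398817 : N24791 = N3880 := eqes L398816 L48338
theorem L398818 : N24791 = N3880 := eqc rfl L398817 rfl
theorem L398840 : sm gj N3880 = N36108 := trfs L398818 (flp_j L305976) rfl
theorem L398841 : N36108 = N5607 := eqes L398840 L48372
theorem L398842 : N36108 = N5607 := eqc rfl L398841 rfl
theorem L398852 : sm gi N5607 = N24790 := trfs L398842 (flp_i L305970) rfl
theorem L398853 : N24790 = N8101 := eqes L398852 (flp_i L69592)
theorem L398854 : N24790 = N8101 := eqc rfl L398853 rfl
theorem L398875 : sm gh N8101 = N17042 := trfs L398854 (flp_h L210682) rfl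
theorem L398876 : N17042 = N11731 := eqes L398875 (flp_h L100358)
theorem L398877 : N17042 = N11731 := eqc rfl L398876 rfl
theorem L398893 : sm gj N11731 = N11728 := trfs L398877 (flp_j L145286) rfl
theorem L398894 : N11728 = N8089 := eqes L398893 (flp_j L100352)
theorem L398895 : N11728 = N8089 := eqc rfl L398894 rfl
theorem L398909 : sm gg N8089 = N8087 := trfs L398895 (flp_g L100332) rfl
theorem L398910 : N8087 = N5588 := eqes L398909 (flp_g L69480)
theorem L398911 : N8087 = N5588 := eqc rfl L398910 rfl
theorem L398929 : sm gh N5588 = N11729 := trfs L398911 L100337 rfl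
theorem L398930 : N11729 = N3873 := eqes L398929 L48221
theorem L398931 : N11729 = N3873 := eqc rfl L398930 rfl
theorem L398940 : sm gd N3873 = N8099 := trfs L398931 L100343 rfl
theorem L398941 : N8099 = N5593 := eqes L398940 (flp_d L48266)
theorem L398942 : N8099 = N5593 := eqc rfl L398941 rfl
theorem L398948 : sm gj N3873 = N8165 := trfs L398931 L100341 rfl
theorem L398949 : N8165 = N2710 := eqes L398948 L33592
theorem L398950 : N8165 = N2710 := eqc rfl L398949 rfl
theorem L398970 : sm gi N2710 = N11848 := trfs L398950 L101266 rfl
theorem L398971 : N11848 = N1888 := eqes L398970 L23612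
theorem L398972 : N11848 = N1888 := eqc rfl L398971 rfl
theorem L398985 : sm gg N1888 = N17220 := trfs L398972 (flp_g L146692) rfl
theorem L398986 : N17220 = N2717 := eqes L398985 L23657
theorem L398987 : N17220 = N2717 := eqc rfl L398986 rfl
theorem L398997 : sm gd N2717 = N11873 := trfs L398987 L146689 rfl
theorem L398998 : N11873 = N3918 := eqes L398997 (flp_d L33939)
theorem L398999 : N11873 = N3918 := eqc rfl L398998 rfl
theorem L399008 : sm gb N3918 = N17248 := trfs L398999 (flp_b L146917) rfl
theorem L399009 : N17248 = N5659 := eqes L399008 (flp_b L48773)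
theorem L399010 : N17248 = N5659 := eqc rfl L399009 rfl
theorem L399030 : sm gi N5659 = N11865 := trfs L399010 (flp_i L146915) rfl
theorem L399031 : N11865 = N8175 := eqes L399030 (flp_i L70165)
theorem L399032 : N11865 = N8175 := eqc rfl L399031 rfl
theorem L399041 : sm gg N8175 = N8176 := trfs L399032 L101409 rfl
theorem L399042 : N8176 = N5644 := eqes L399041 (flp_g L70159)
theorem L399043 : N8176 = N5644 := eqc rfl L399042 rfl
theorem L399056 : sm gj N5644 = N11740 := trfs L399043 (flp_j L100442) rfl
theorem L399057 : N11740 = N8094 := eqes L399056 (flp_j L69534)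
theorem L399058 : N11740 = N8094 := eqc rfl L399057 rfl
theorem L399071 : sm gi N8094 = N17062 := trfs L399058 L145462 rfl
theorem L399072 : N17062 = N5600 := eqes L399071 L69536
theorem L399073 : N17062 = N5600 := eqc rfl L399072 rfl
theorem L399086 : sm gh N5600 = N11765 := trfs L399073 L145470 rfl
theorem L399087 : N11765 = N8110 := eqes L399086 L69659
theorem L399088 : N11765 = N8110 := eqc rfl L399087 rfl
theorem L399093 : sm gc N8110 = N17088 := trfs L399088 (flp_c L145682) rfl
theorem L399094 : N17088 = N11758 := eqes L399093 (flp_c L100588)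
theorem L399095 : N17088 = N11758 := eqc rfl L399094 rfl
theorem L399118 : sm gj N11758 = N11892 := trfs L399095 L145686 rfl
theorem L399119 : N11892 = N8194 := eqes L399118 L100592
theorem L399120 : N11892 = N8194 := eqc rfl L399119 rfl
theorem L399132 : sm gf N8194 = N8196 := trfs L399120 L101608 rfl
theorem L399133 : N8196 = N5657 := eqes L399132 L70304
theorem L399134 : N8196 = N5657 := eqc rfl L399133 rfl
theorem L399138 : sm gh N8194 = N17239 := trfs L399120 (flp_h L146850) rfl
theorem L399139 : N17239 = N5656 := eqes L399138 (flp_h L70299)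
theorem L399140 : N17239 = N5656 := eqc rfl L399139 rfl
theorem L399151 : sm gf N5656 = N11861 := trfs L399140 L146848 rfl
theorem L399152 : N11861 = N3913 := eqes L399151 (flp_f L48751)
theorem L399153 : N11861 = N3913 := eqc rfl L399152 rfl
theorem L399173 : sm gi N3913 = N8173 := trfs L399153 (flp_i L101369) rfl
theorem L399174 : N8173 = N5643 := eqes L399173 (flp_i L48657)
theorem L399175 : N8173 = N5643 := eqc rfl L399174 rfl
theorem L399187 : sm gj N5643 = N11737 := trfs L399175 (flp_j L100415) rfl
theorem L399188 : N11737 = N8093 := eqes L399187 (flp_j L69522)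
theorem L399189 : N11737 = N8093 := eqc rfl L399188 rfl
theorem L399199 : sm gg N8093 = N16933 := trfs L399189 (flp_g L144370) rfl
theorem L399200 : N16933 = N11657 := eqes L399199 (flp_g L99729)
theorem L399201 : N16933 = N11657 := eqc rfl L399200 rfl
theorem L399216 : sm gi N11657 = N24629 := trfs L399201 L209317 rfl
theorem L399217 : N24629 = N8049 := eqes L399216 L99732
theorem L399218 : N24629 = N8049 := eqc rfl L399217 rfl
theorem L399235 : sm gh N8049 = N16956 := trfs L399218 L209326 rfl
theorem L399236 : N16956 = N11671 := eqes L399235 L99846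
theorem L399237 : N16956 = N11671 := eqc rfl L399236 rfl
theorem L399249 : sm gf N11671 = N24660 := trfs L399237 (flp_f L209585) rfl
theorem L399250 : N24660 = N16954 := eqes L399249 (flp_f L144548)
theorem L399251 : N24660 = N16954 := eqc rfl L399250 rfl
theorem L399261 : sm ge N16954 = N35910 := trfs L399251 (flp_e L304299) rfl
theorem L399262 : N35910 = N24656 := eqes L399261 (flp_e L209550)
theorem L399263 : N35910 = N24656 := eqc rfl L399262 rfl
theorem L399269 : sm gi N16954 = N16954 := trfs L399251 (flp_i L209580) rfl
theorem L399275 : sm gc N24656 = N24667 := trfs L399263 L304297 rfl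
theorem L399276 : N24667 = N16958 := eqes L399275 L209548
theorem L399277 : N24667 = N16958 := eqc rfl L399276 rfl
theorem L399294 : sm gh N16958 = N35872 := trfs L399277 (flp_h L303983) rfl
theorem L399295 : N35872 = N11672 := eqes L399294 (flp_h L144575)
theorem L399296 : N35872 = N11672 := eqc rfl L399295 rfl
theorem L399304 : sm gi N11672 = N24631 := trfs L399296 (flp_i L303975) rfl
theorem L399305 : N24631 = N16934 := eqes L399304 (flp_i L144378)
theorem L399306 : N24631 = N16934 := eqc rfl L399305 rfl
theorem L399319 : sm gg N16934 = N35870 := trfs L399306 (flp_g L303966) rfl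
theorem L399320 : N35870 = N24630 := eqes L399319 L209328
theorem L399321 : N35870 = N24630 := eqc rfl L399320 rfl
theorem L399327 : sm ge N24630 = N24633 := trfs L399321 L303964 rfl
theorem L399328 : N24633 = N16935 := eqes L399327 L209333
theorem L399329 : N24633 = N16935 := eqc rfl L399328 rfl
theorem L399345 : sm gi N16935 = N35874 := trfs L399329 L303994 rfl
theorem L399346 : N35874 = N11673 := eqes L399345 L144388
theorem L399347 : N35874 = N11673 := eqc rfl L399346 rfl
theorem L399348 : sm gb N11673 = N24641 := trfs L399347 L303996 rfl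
theorem L399349 : N24641 = N8054 := eqes L399348 L99864
theorem L399350 : N24641 = N8054 := eqc rfl L399349 rfl
theorem L399369 : sm gh N8054 = N16968 := trfs L399350 L209427 rfl
theorem L399370 : N16968 = N11680 := eqes L399369 L99918
theorem L399371 : N16968 = N11680 := eqc rfl L399370 rfl
theorem L399388 : sm gj N11680 = N24677 := trfs L399371 (flp_j L209723) rfl
theorem L399389 : N24677 = N16967 := eqes L399388 (flp_j L144649)
theorem L399390 : N24677 = N16967 := eqc rfl L399389 rfl
theorem L399403 : sm gf N16967 = N17105 := trfs L399390 L209720 rfl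
theorem L399404 : N17105 = N11771 := eqes L399403 L144646
theorem L399405 : N17105 = N11771 := eqc rfl L399404 rfl
theorem L399412 : sm gb N11771 = N24871 := trfs L399405 (flp_b L211382) rfl
theorem L399413 : N24871 = N17096 := eqes L399412 (flp_b L145750)
theorem L399414 : N24871 = N17096 := eqc rfl L399413 rfl
theorem L399427 : sm ge N17096 = N36225 := trfs L399414 (flp_e L306993) rfl
theorem L399428 : N36225 = N24866 := eqes L399427 (flp_e L211339)
theorem L399429 : N36225 = N24866 := eqc rfl L399428 rfl
theorem L399443 : sm gj N24866 = N24868 := trfs L399429 L306997 rfl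
theorem L399444 : N24868 = N17093 := eqes L399443 L211343
theorem L399445 : N24868 = N17093 := eqc rfl L399444 rfl
theorem L399458 : sm gh N17093 = N36149 := trfs L399445 (flp_h L306348) rfl
theorem L399459 : N36149 = N11761 := eqes L399458 (flp_h L145721)
theorem L399460 : N36149 = N11761 := eqc rfl L399459 rfl
theorem L399467 : sm gi N11761 = N24815 := trfs L399460 (flp_i L306340) rfl
theorem L399468 : N24815 = N17058 := eqes L399467 (flp_i L145435)
theorem L399469 : N24815 = N17058 := eqc rfl L399468 rfl
theorem L399485 : sm gj N17058 = N36147 := trfs L399469 (flp_j L306330) rfl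
theorem L399486 : N36147 = N24814 := eqes L399485 L210897
theorem L399487 : N36147 = N24814 := eqc rfl L399486 rfl
theorem L399491 : sm gg N24814 = N25093 := trfs L399487 L306328 rfl
theorem L399492 : N25093 = N17243 := eqes L399491 L210907
theorem L399493 : N25093 = N17243 := eqc rfl L399492 rfl
theorem L399497 : sm gc N17243 = N36542 := trfs L399493 (flp_c L309472) rfl
theorem L399498 : N36542 = N25079 := eqes L399497 (flp_c L212992)
theorem L399499 : N36542 = N25079 := eqc rfl L399498 rfl
theorem L399516 : sm gj N25079 = N25080 := trfs L399499 L309476 rfl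
theorem L399517 : N25080 = N17234 := eqes L399516 (flp_j L212989)
theorem L399518 : N25080 = N17234 := eqc rfl L399517 rfl
theorem L399534 : sm gi N17234 = N36544 := trfs L399518 L309483 rfl
theorem L399535 : N36544 = N11887 := eqes L399534 L146810
theorem L399536 : N36544 = N11887 := eqc rfl L399535 rfl
theorem L399541 : sm gh N11887 = N25152 := trfs L399536 L309492 rfl
theorem L399542 : N25152 = N17282 := eqes L399541 L147174
theorem L399543 : N25152 = N17282 := eqc rfl L399542 rfl
theorem L399553 : sm gj N17282 = N36650 := trfs L399543 (flp_j L310307) rfl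
theorem L399554 : N36650 = N25150 := eqes L399553 (flp_j L213545)
theorem L399555 : N36650 = N25150 := eqc rfl L399554 rfl
theorem L399559 : sm ge N25150 = N25157 := trfs L399555 L310305 rfl
theorem L399560 : N25157 = N17285 := eqes L399559 L213543
theorem L399561 : N25157 = N17285 := eqc rfl L399560 rfl
theorem L399566 : sm gd N17285 = N36661 := trfs L399561 (flp_d L310375) rfl
theorem L399567 : N36661 = N25156 := eqes L399566 L213577
theorem L399568 : N36661 = N25156 := eqc rfl L399567 rfl
theorem L399584 : sm gj N25156 = N25159 := trfs L399568 L310378 rfl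
theorem L399585 : N25159 = N17286 := eqes L399584 L213581
theorem L399586 : N25159 = N17286 := eqc rfl L399585 rfl
theorem L399599 : sm gh N17286 = N36664 := trfs L399586 L310394 rfl
theorem L399600 : N36664 = N17286 := eqes L399599 L147210
theorem L399601 : N36664 = N17286 := eqc rfl L399600 rfl
theorem L399606 : sm gg N17286 = N25162 := trfs L399601 L310399 rfl
theorem L399607 : N25162 = N11891 := eqes L399606 L147207
theorem L399608 : N25162 = N11891 := eqc rfl L399607 rfl
theorem L399624 : sm gj N11891 = N36216 := trfs L399608 (flp_j L306918) rfl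
theorem L399625 : N36216 = N17087 := eqes L399624 (flp_j L145675)
theorem L399626 : N36216 = N17087 := eqc rfl L399625 rfl
theorem L399632 : sm gf N17087 = N24863 := trfs L399626 L306916 rfl
theorem L399633 : N24863 = N11759 := eqes L399632 L145673
theorem L399634 : N24863 = N11759 := eqc rfl L399633 rfl
theorem L399653 : sm gh N11759 = N17090 := trfs L399634 (flp_h L211313) rfl
theorem L399654 : N17090 = N11759 := eqes L399653 L100600
theorem L399655 : N17090 = N11759 := eqc rfl L399654 rfl
theorem L399669 : sm gj N11759 = N11894 := trfs L399655 L145702 rfl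
theorem L399670 : N11894 = N8195 := eqes L399669 L100597
theorem L399671 : N11894 = N8195 := eqc rfl L399670 rfl
theorem L399679 : sm ge N8195 = N17291 := trfs L399671 (flp_e L147243) rfl
theorem L399680 : N17291 = N11893 := eqes L399679 L101610
theorem L399681 : N17291 = N11893 := eqc rfl L399680 rfl
theorem L399685 : sm gi N8195 = N8195 := trfs L399671 (flp_i L101617) rfl
theorem L399697 : sm gh N11893 = N25165 := trfs L399681 L213643 rfl
theorem L399698 : N25165 = N11893 := eqes L399697 L101615
theorem L399699 : N25165 = N11893 := eqc rfl L399698 rfl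
theorem L399701 : sm ga N11893 = N36624 := trfs L399699 (flp_a L310098) rfl
theorem L399702 : N36624 = N17269 := eqes L399701 (flp_a L147076)
theorem L399703 : N36624 = N17269 := eqc rfl L399702 rfl
theorem L399726 : sm ge N17269 = N25134 := trfs L399703 L310101 rfl
theorem L399727 : N25134 = N11879 := eqes L399726 (flp_e L147074)
theorem L399728 : N25134 = N11879 := eqc rfl L399727 rfl
theorem L399738 : sm gd N11879 = N36526 := trfs L399728 (flp_d L309336) rfl
theorem L399739 : N36526 = N8186 := eqes L399738 (flp_d L101507)
theorem L399740 : N36526 = N8186 := eqc rfl L399739 rfl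
theorem L399751 : sm gh N8186 = N25068 := trfs L399740 (flp_h L309331) rfl
theorem L399752 : N25068 = N5652 := eqes L399751 (flp_h L70241)
theorem L399753 : N25068 = N5652 := eqc rfl L399752 rfl
theorem L399774 : sm gi N5652 = N17226 := trfs L399753 (flp_i L212896) rfl
theorem L399775 : N17226 = N8168 := eqes L399774 (flp_i L70108)
theorem L399776 : N17226 = N8168 := eqc rfl L399775 rfl
theorem L399792 : sm gj N8168 = N24797 := trfs L399776 (flp_j L210749) rfl
theorem L399793 : N24797 = N11732 := eqes L399792 (flp_j L100368)
theorem L399794 : N24797 = N11732 := eqc rfl L399793 rfl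
theorem L399806 : sm gf N11732 = N36119 := trfs L399794 (flp_f L306080) rfl
theorem L399807 : N36119 = N17046 := eqes L399806 L145317
theorem L399808 : N36119 = N17046 := eqc rfl L399807 rfl
theorem L399823 : sm gd N17046 = N24796 := trfs L399808 (flp_d L306076) rfl
theorem L399824 : N24796 = N17046 := eqes L399823 L145323
theorem L399825 : N24796 = N17046 := eqc rfl L399824 rfl
theorem L399837 : sm gj N17046 = N17225 := trfs L399825 L210743 rfl
theorem L399838 : N17225 = N11850 := eqes L399837 L145324
theorem L399839 : N17225 = N11850 := eqc rfl L399838 rfl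
theorem L399857 : sm gg N11850 = N25064 := trfs L399839 (flp_g L212870) rfl
theorem L399858 : N25064 = N17224 := eqes L399857 L146719
theorem L399859 : N25064 = N17224 := eqc rfl L399858 rfl
theorem L399874 : sm gi N17224 = N36521 := trfs L399859 L309293 rfl
theorem L399875 : N36521 = N11877 := eqes L399874 L146726
theorem L399876 : N36521 = N11877 := eqc rfl L399875 rfl
theorem L399881 : sm gh N11877 = N25129 := trfs L399876 L309302 rfl
theorem L399882 : N25129 = N17266 := eqes L399881 L147049
theorem L399883 : N25129 = N17266 := eqc rfl L399882 rfl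
theorem L399885 : sm gb N17266 = N36593 := trfs L399883 (flp_b L309849) rfl
theorem L399886 : N36593 = N25114 := eqes L399885 (flp_b L213254)
theorem L399887 : N36593 = N25114 := eqc rfl L399886 rfl
theorem L399897 : sm gg N25114 = N25116 := trfs L399887 L309852 rfl
theorem L399898 : N25116 = N17259 := eqes L399897 L213257
theorem L399899 : N25116 = N17259 := eqc rfl L399898 rfl
theorem L399918 : sm gh N17259 = N36508 := trfs L399899 (flp_h L309188) rfl
theorem L399919 : N36508 = N11874 := eqes L399918 (flp_h L146995)
theorem L399920 : N36508 = N11874 := eqc rfl L399919 rfl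
theorem L399924 : sm gf N11874 = N25059 := trfs L399920 L309186 rfl
theorem L399925 : N25059 = N8184 := eqes L399924 (flp_f L101471)
theorem L399926 : N25059 = N8184 := eqc rfl L399925 rfl
theorem L399940 : sm gi N8184 = N17222 := trfs L399926 (flp_i L212815) rfl
theorem L399941 : N17222 = N11849 := eqes L399940 (flp_i L101278)
theorem L399942 : N17222 = N11849 := eqc rfl L399941 rfl
theorem L399952 : sm gj N11849 = N24793 := trfs L399942 (flp_j L210713) rfl
theorem L399953 : N24793 = N17045 := eqes L399952 (flp_j L145312)
theorem L399954 : N24793 = N17045 := eqc rfl L399953 rfl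
theorem L399958 : sm gc N17045 = N32691 := trfs L399954 (flp_c L277087) rfl
theorem L399959 : N32691 = N22442 := eqes L399958 (flp_c L190694)
theorem L399960 : N32691 = N22442 := eqc rfl L399959 rfl
theorem L399975 : sm gb N22442 = N22444 := trfs L399960 L277085 rfl
theorem L399976 : N22444 = N15425 := eqes L399975 (flp_b L190686)
theorem L399977 : N22444 = N15425 := eqc rfl L399976 rfl
theorem L399981 : sm ga N15425 = N15430 := trfs L399977 L190708 rfl
theorem L399982 : N15430 = N10619 := eqes L399981 L131413
theorem L399983 : N15430 = N10619 := eqc rfl L399982 rfl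
theorem L399999 : sm gi N15425 = N32696 := trfs L399977 L277127 rfl
theorem L400000 : N32696 = N10628 := eqes L399999 L131418
theorem L400001 : N32696 = N10628 := eqc rfl L400000 rfl
theorem L400010 : sm gh N10628 = N22473 := trfs L400001 L277136 rfl
theorem L400011 : N22473 = N15443 := eqes L400010 L131580
theorem L400012 : N22473 = N15443 := eqc rfl L400011 rfl
theorem L400013 : sm ga N15443 = N15453 := trfs L400012 L190981 rfl
theorem L400014 : N15453 = N10633 := eqes L400013 L131582
theorem L400015 : N15453 = N10633 := eqc rfl L400014 rfl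
theorem L400030 : sm gj N15443 = N15550 := trfs L400012 L190986 rfl
theorem L400031 : N15550 = N10697 := eqes L400030 L131587
theorem L400032 : N15550 = N10697 := eqc rfl L400031 rfl
theorem L400034 : sm ga N10697 = N10707 := trfs L400032 L132497 rfl
theorem L400035 : N10707 = N7379 := eqes L400034 L91425
theorem L400036 : N10707 = N7379 := eqc rfl L400035 rfl
theorem L400045 : sm gf N10697 = N22630 := trfs L400032 (flp_f L192324) rfl
theorem L400046 : N22630 = N15548 := eqes L400045 (flp_f L132487)
theorem L400047 : N22630 = N15548 := eqc rfl L400046 rfl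
theorem L400051 : sm ga N15548 = N15562 := trfs L400047 L192320 rfl
theorem L400052 : N15562 = N10705 := eqes L400051 L132483
theorem L400053 : N15562 = N10705 := eqc rfl L400052 rfl
theorem L400066 : sm gh N15548 = N32912 := trfs L400047 (flp_h L279017) rfl
theorem L400067 : N32912 = N10696 := eqes L400066 (flp_h L132481)
theorem L400068 : N32912 = N10696 := eqc rfl L400067 rfl
theorem L400075 : sm gi N10696 = N22587 := trfs L400068 (flp_i L279009) rfl
theorem L400076 : N22587 = N15520 := eqes L400075 (flp_i L132247)
theorem L400077 : N22587 = N15520 := eqc rfl L400076 rfl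
theorem L400078 : sm ga N15520 = N15529 := trfs L400077 L191959 rfl
theorem L400079 : N15529 = N10683 := eqes L400078 L132243
theorem L400080 : N15529 = N10683 := eqc rfl L400079 rfl
theorem L400094 : sm gg N15520 = N32910 := trfs L400077 (flp_g L279001) rfl
theorem L400095 : N32910 = N22586 := eqes L400094 L191948
theorem L400096 : N32910 = N22586 := eqc rfl L400095 rfl
theorem L400102 : sm gc N22586 = N22593 := trfs L400096 L278998 rfl
theorem L400103 : N22593 = N15523 := eqes L400102 L191952
theorem L400104 : N22593 = N15523 := eqc rfl L400103 rfl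
theorem L400107 : sm ga N15523 = N15535 := trfs L400104 L192014 rfl
theorem L400108 : N15535 = N10686 := eqes L400107 L132270
theorem L400109 : N15535 = N10686 := eqc rfl L400108 rfl
theorem L400119 : sm gi N15523 = N32921 := trfs L400104 L279095 rfl
theorem L400120 : N32921 = N10699 := eqes L400119 L132276
theorem L400121 : N32921 = N10699 := eqc rfl L400120 rfl
theorem L400128 : sm gh N10699 = N22639 := trfs L400121 L279104 rfl
theorem L400129 : N22639 = N15554 := eqes L400128 L132531
theorem L400130 : N22639 = N15554 := eqc rfl L400129 rfl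
theorem L400131 : sm ga N15554 = N15571 := trfs L400130 L192402 rfl
theorem L400132 : N15571 = N10711 := eqes L400131 L132533
theorem L400133 : N15571 = N10711 := eqc rfl L400132 rfl
theorem L400153 : sm gg N10711 = N10712 := trfs L400133 L132664 rfl
theorem L400154 : N10712 = N7382 := eqes L400153 L91535
theorem L400155 : N10712 = N7382 := eqc rfl L400154 rfl
theorem L400156 : sm gj N10711 = N22662 := trfs L400133 (flp_j L192573) rfl
theorem L400157 : N22662 = N15570 := eqes L400156 (flp_j L132655)
theorem L400158 : N22662 = N15570 := eqc rfl L400157 rfl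
theorem L400176 : sm gh N15570 = N32944 := trfs L400158 (flp_h L279277) rfl
theorem L400177 : N32944 = N10710 := eqes L400176 (flp_h L132650)
theorem L400178 : N32944 = N10710 := eqc rfl L400177 rfl
theorem L400185 : sm gi N10710 = N22609 := trfs L400178 (flp_i L279270) rfl
theorem L400186 : N22609 = N15534 := eqes L400185 (flp_i L132368)
theorem L400187 : N22609 = N15534 := eqc rfl L400186 rfl
theorem L400202 : sm gg N15534 = N32716 := trfs L400187 (flp_g L277322) rfl
theorem L400203 : N32716 = N22457 := eqes L400202 (flp_g L190839)
theorem L400204 : N32716 = N22457 := eqc rfl L400203 rfl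
theorem L400210 : sm gj N22457 = N22458 := trfs L400204 L277324 rfl
theorem L400211 : N22458 = N15432 := eqes L400210 (flp_j L190831)
theorem L400212 : N22458 = N15432 := eqc rfl L400211 rfl
theorem L400230 : sm gg N15432 = N15433 := trfs L400212 L190845 rfl
theorem L400231 : N15433 = N10620 := eqes L400230 (flp_g L131479)
theorem L400232 : N15433 = N10620 := eqc rfl L400231 rfl
theorem L400234 : sm gi N15432 = N32717 := trfs L400212 L277326 rfl
theorem L400235 : N32717 = N10635 := eqes L400234 L131485
theorem L400236 : N32717 = N10635 := eqc rfl L400235 rfl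
theorem L400243 : sm gh N10635 = N22494 := trfs L400236 L277332 rfl
theorem L400244 : N22494 = N15457 := eqes L400243 L131701
theorem L400245 : N22494 = N15457 := eqc rfl L400244 rfl
theorem L400260 : sm gg N15457 = N15458 := trfs L400245 L191168 rfl
theorem L400261 : N15458 = N10636 := eqes L400260 L131705
theorem L400262 : N15458 = N10636 := eqc rfl L400261 rfl
theorem L400278 : sm gf N10636 = N10637 := trfs L400262 L131713 rfl
theorem L400279 : N10637 = N7333 := eqes L400278 L90901
theorem L400280 : N10637 = N7333 := eqc rfl L400279 rfl
theorem L400285 : sm gb N7333 = N7338 := trfs L400280 L90908 rfl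
theorem L400286 : N7338 = N5067 := eqes L400285 L62901
theorem L400287 : N7338 = N5067 := eqc rfl L400286 rfl
theorem L400294 : sm gj N7333 = N7383 := trfs L400280 L90912 rfl
theorem L400295 : N7383 = N5096 := eqes L400294 L62904
theorem L400296 : N7383 = N5096 := eqc rfl L400295 rfl
theorem L400297 : sm gh N7333 = N15434 := trfs L400280 (flp_h L131502) rfl
theorem L400298 : N15434 = N5064 := eqes L400297 (flp_h L62899)
theorem L400299 : N15434 = N5064 := eqc rfl L400298 rfl
theorem L400300 : sm gi N7333 = N7333 := trfs L400280 (flp_i L90906) rfl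
theorem L400317 : sm gi N5064 = N10621 := trfs L400299 (flp_i L131495) rfl
theorem L400318 : N10621 = N7323 := eqes L400317 (flp_i L62812)
theorem L400319 : N10621 = N7323 := eqc rfl L400318 rfl
theorem L400321 : sm gb N7323 = N7326 := trfs L400319 L90766 rfl
theorem L400322 : N7326 = N5060 := eqes L400321 L62808
theorem L400323 : N7326 = N5060 := eqc rfl L400322 rfl
theorem L400330 : sm gg N7323 = N15367 := trfs L400319 (flp_g L130869) rfl
theorem L400331 : N15367 = N10577 := eqes L400330 (flp_g L90345)
theorem L400332 : N15367 = N10577 := eqc rfl L400331 rfl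
theorem L400333 : sm gj N7323 = N7367 := trfs L400319 L90769 rfl
theorem L400334 : N7367 = N5086 := eqes L400333 L62810
theorem L400335 : N7367 = N5086 := eqc rfl L400334 rfl
theorem L400336 : sm gh N7323 = N7323 := trfs L400319 (flp_h L90764) rfl
theorem L400340 : sm gb N5086 = N5089 := trfs L400335 L63202 rfl
theorem L400341 : N5089 = N3521 := eqes L400340 L43813
theorem L400342 : N5089 = N3521 := eqc rfl L400341 rfl
theorem L400343 : sm gc N5086 = N10684 := trfs L400335 (flp_c L91319) rfl
theorem L400344 : N10684 = N7365 := eqes L400343 L63185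
theorem L400345 : N10684 = N7365 := eqc rfl L400344 rfl
theorem L400350 : sm gf N5086 = N10687 := trfs L400335 (flp_f L91345) rfl
theorem L400351 : N10687 = N7366 := eqes L400350 L63192
theorem L400352 : N10687 = N7366 := eqc rfl L400351 rfl
theorem L400354 : sm gh N5086 = N5086 := trfs L400335 (flp_h L63200) rfl
theorem L400357 : sm gb N7366 = N7371 := trfs L400352 L91343 rfl
theorem L400358 : N7371 = N5088 := eqes L400357 L63194
theorem L400359 : N7371 = N5088 := eqc rfl L400358 rfl
theorem L400364 : sm ge N7366 = N15533 := trfs L400352 (flp_e L132358) rfl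
theorem L400365 : N15533 = N10685 := eqes L400364 L91323
theorem L400366 : N15533 = N10685 := eqc rfl L400365 rfl
theorem L400369 : sm gh N7366 = N7366 := trfs L400352 (flp_h L91341) rfl
theorem L400370 : sm gi N7366 = N15536 := trfs L400352 L132377 rfl
theorem L400371 : N15536 = N5095 := eqes L400370 L63198
theorem L400372 : N15536 = N5095 := eqc rfl L400371 rfl
theorem L400381 : sm ge N5095 = N22608 := trfs L400372 (flp_e L192136) rfl
theorem L400382 : N22608 = N7380 := eqes L400381 L63307
theorem L400383 : N22608 = N7380 := eqc rfl L400382 rfl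
theorem L400405 : sm gh N7380 = N15569 := trfs L400383 L192139 rfl
theorem L400406 : N15569 = N10709 := eqes L400405 L91516
theorem L400407 : N15569 = N10709 := eqc rfl L400406 rfl
theorem L400416 : sm gd N10709 = N22661 := trfs L400407 (flp_d L192563) rfl
theorem L400417 : N22661 = N15568 := eqes L400416 L132635
theorem L400418 : N22661 = N15568 := eqc rfl L400417 rfl
theorem L400425 : sm gb N15568 = N15578 := trfs L400418 L192561 rfl
theorem L400426 : N15578 = N10716 := eqes L400425 L132637
theorem L400427 : N15578 = N10716 := eqc rfl L400426 rfl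
theorem L400439 : sm gh N15568 = N33022 := trfs L400418 L279895 rfl
theorem L400440 : N33022 = N10855 := eqes L400439 L132641
theorem L400441 : N33022 = N10855 := eqc rfl L400440 rfl
theorem L400448 : sm gi N10855 = N22988 := trfs L400441 L279901 rfl
theorem L400449 : N22988 = N15787 := eqes L400448 L134624
theorem L400450 : N22988 = N15787 := eqc rfl L400449 rfl
theorem L400452 : sm gb N15787 = N15799 := trfs L400450 L195502 rfl
theorem L400453 : N15799 = N10865 := eqes L400452 L134626
theorem L400454 : N15799 = N10865 := eqc rfl L400453 rfl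
theorem L400455 : sm gc N15787 = N33508 := trfs L400450 (flp_c L284204) rfl
theorem L400456 : N33508 = N22987 := eqes L400455 (flp_c L195496)
theorem L400457 : N33508 = N22987 := eqc rfl L400456 rfl
theorem L400463 : sm gg N15787 = N33505 := trfs L400450 (flp_g L284186) rfl
theorem L400464 : N33505 = N22985 := eqes L400463 (flp_g L195486)
theorem L400465 : N33505 = N22985 := eqc rfl L400464 rfl
theorem L400492 : sm gb N22985 = N22999 := trfs L400465 L284183 rfl
theorem L400493 : N22999 = N15796 := eqes L400492 L195481
theorem L400494 : N22999 = N15796 := eqc rfl L400493 rfl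
theorem L400503 : sm gf N15796 = N33518 := trfs L400494 (flp_f L284296) rfl
theorem L400504 : N33518 = N22994 := eqes L400503 (flp_f L195560)
theorem L400505 : N33518 = N22994 := eqc rfl L400504 rfl
theorem L400563 : sm ga N22994 = N25713 := trfs L400505 L284294 rfl
theorem L400564 : N25713 = N17659 := eqes L400563 L195556
theorem L400565 : N25713 = N17659 := eqc rfl L400564 rfl
theorem L400570 : sm gd N17659 = N37308 := trfs L400565 (flp_d L315837) rfl
theorem L400571 : N37308 = N12140 := eqes L400570 L150321
theorem L400572 : N37308 = N12140 := eqc rfl L400571 rfl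
theorem L400593 : sm gh N12140 = N25592 := trfs L400572 (flp_h L315832) rfl
theorem L400594 : N25592 = N17579 := eqes L400593 (flp_h L149692)
theorem L400595 : N25592 = N17579 := eqc rfl L400594 rfl
theorem L400614 : sm gi N17579 = N17578 := trfs L400595 (flp_i L217277) rfl
theorem L400615 : N17578 = N12086 := eqes L400614 (flp_i L149683)
theorem L400616 : N17578 = N12086 := eqc rfl L400615 rfl
theorem L400630 : sm gj N12086 = N25588 := trfs L400616 (flp_j L217251) rfl
theorem L400631 : N25588 = N17577 := eqes L400630 (flp_j L149676)
theorem L400632 : N25588 = N17577 := eqc rfl L400631 rfl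
theorem L400637 : sm gb N17577 = N37286 := trfs L400632 (flp_b L315678) rfl
theorem L400638 : N37286 = N25577 := eqes L400637 (flp_b L217167)
theorem L400639 : N37286 = N25577 := eqc rfl L400638 rfl
theorem L400652 : sm gf N25577 = N25580 := trfs L400639 L315680 rfl
theorem L400653 : N25580 = N17570 := eqes L400652 L217171
theorem L400654 : N25580 = N17570 := eqc rfl L400653 rfl
theorem L400672 : sm gi N17570 = N37292 := trfs L400654 L315721 rfl
theorem L400673 : N37292 = N25581 := eqes L400672 L217199
theorem L400674 : N37292 = N25581 := eqc rfl L400673 rfl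
theorem L400677 : sm gj N25581 = N25583 := trfs L400674 L315727 rfl
theorem L400678 : N25583 = N17572 := eqes L400677 L217205
theorem L400679 : N25583 = N17572 := eqc rfl L400678 rfl
theorem L400684 : sm gc N17572 = N37294 := trfs L400679 (flp_c L315737) rfl
theorem L400685 : N37294 = N25562 := eqes L400684 (flp_c L217046)
theorem L400686 : N37294 = N25562 := eqc rfl L400685 rfl
theorem L400696 : sm gi N25562 = N25582 := trfs L400686 (flp_i L315735) rfl
theorem L400697 : N25582 = N17557 := eqes L400696 (flp_i L217042)
theorem L400698 : N25582 = N17557 := eqc rfl L400697 rfl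
theorem L400719 : sm gh N17557 = N36564 := trfs L400698 (flp_h L309639) rfl
theorem L400720 : N36564 = N12070 := eqes L400719 (flp_h L149502)
theorem L400721 : N36564 = N12070 := eqc rfl L400720 rfl
theorem L400725 : sm gg N12070 = N25096 := trfs L400721 L309637 rfl
theorem L400726 : N25096 = N8315 := eqes L400725 (flp_g L103105)
theorem L400727 : N25096 = N8315 := eqc rfl L400726 rfl
theorem L400744 : sm gj N8315 = N36150 := trfs L400727 (flp_j L306353) rfl
theorem L400745 : N36150 = N11952 := eqes L400744 (flp_j L102121)
theorem L400746 : N36150 = N11952 := eqc rfl L400745 rfl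
theorem L400797 : sm gh N11952 = N25309 := trfs L400746 L306355 rfl
theorem L400798 : N25309 = N17378 := eqes L400797 L147988
theorem L400799 : N25309 = N17378 := eqc rfl L400798 rfl
theorem L400818 : sm gi N17378 = N36886 := trfs L400799 L312353 rfl
theorem L400819 : N36886 = N25295 := eqes L400818 L214791
theorem L400820 : N36886 = N25295 := eqc rfl L400819 rfl
theorem L400821 : sm gc N25295 = N25310 := trfs L400820 L312355 rfl
theorem L400822 : N25310 = N17389 := eqes L400821 L214795
theorem L400823 : N25310 = N17389 := eqc rfl L400822 rfl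
theorem L400831 : sm ge N17389 = N36808 := trfs L400823 (flp_e L311645) rfl
theorem L400832 : N36808 = N11961 := eqes L400831 L148096
theorem L400833 : N36808 = N11961 := eqc rfl L400832 rfl
theorem L400844 : sm gi N11961 = N25256 := trfs L400833 (flp_i L311639) rfl
theorem L400845 : N25256 = N8240 := eqes L400844 (flp_i L102201)
theorem L400846 : N25256 = N8240 := eqc rfl L400845 rfl
theorem L400858 : sm gj N8240 = N17520 := trfs L400846 L214433 rfl
theorem L400859 : N17520 = N5741 := eqes L400858 L70687
theorem L400860 : N17520 = N5741 := eqc rfl L400859 rfl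
theorem L400871 : sm gf N5741 = N25453 := trfs L400860 (flp_f L216155) rfl
theorem L400872 : N25453 = N3969 := eqes L400871 L49455
theorem L400873 : N25453 = N3969 := eqc rfl L400872 rfl
theorem L400896 : sm gb N3969 = N17492 := trfs L400873 L216153 rfl
theorem L400897 : N17492 = N2751 := eqes L400896 L34359
theorem L400898 : N17492 = N2751 := eqc rfl L400897 rfl
theorem L400928 : sm gi N2751 = N25463 := trfs L400898 L216229 rfl
theorem L400929 : N25463 = N3974 := eqes L400928 L34396
theorem L400930 : N25463 = N3974 := eqc rfl L400929 rfl
theorem L400931 : sm ga N3974 = N33268 := trfs L400930 (flp_a L282205) rfl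
theorem L400932 : N33268 = N5150 := eqes L400931 (flp_a L44393)
theorem L400933 : N33268 = N5150 := eqc rfl L400932 rfl
theorem L400963 : sm gf N5150 = N22865 := trfs L400933 L282210 rfl
theorem L400964 : N22865 = N7462 := eqes L400963 (flp_f L64066)
theorem L400965 : N22865 = N7462 := eqc rfl L400964 rfl
theorem L400981 : sm gi N7462 = N15705 := trfs L400965 (flp_i L194449) rfl
theorem L400982 : N15705 = N5149 := eqes L400981 (flp_i L64060)
theorem L400983 : N15705 = N5149 := eqc rfl L400982 rfl
theorem L400998 : sm gh N5149 = N22579 := trfs L400983 (flp_h L191893) rfl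
theorem L400999 : N22579 = N3559 := eqes L400998 (flp_h L44383)
theorem L401000 : N22579 = N3559 := eqc rfl L400999 rfl
theorem L401018 : sm gj N3559 = N32686 := trfs L401000 (flp_j L277037) rfl
theorem L401019 : N32686 = N5114 := eqes L401018 (flp_j L44066)
theorem L401020 : N32686 = N5114 := eqc rfl L401019 rfl
theorem L401023 : sm gd N5114 = N22438 := trfs L401020 (flp_d L277033) rfl
theorem L401024 : N22438 = N3539 := eqes L401023 L44064
theorem L401025 : N22438 = N3539 := eqc rfl L401024 rfl
theorem L401046 : sm gi N3539 = N32687 := trfs L401025 L277043 rfl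
theorem L401047 : N32687 = N2457 := eqes L401046 L30655
theorem L401048 : N32687 = N2457 := eqc rfl L401047 rfl
theorem L401053 : sm gj N2457 = N22580 := trfs L401048 L277049 rfl
theorem L401054 : N22580 = N1718 := eqes L401053 L21396
theorem L401055 : N22580 = N1718 := eqc rfl L401054 rfl
theorem L401069 : sm gg N1718 = N32897 := trfs L401055 (flp_g L278882) rfl
theorem L401070 : N32897 = N2474 := eqes L401069 L21538
theorem L401071 : N32897 = N2474 := eqc rfl L401070 rfl
theorem L401077 : sm gi N2474 = N22578 := trfs L401071 (flp_i L278876) rfl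
theorem L401078 : N22578 = N3561 := eqes L401077 (flp_i L30852)
theorem L401079 : N22578 = N3561 := eqc rfl L401078 rfl
theorem L401088 : sm ge N3561 = N15517 := trfs L401079 L191883 rfl
theorem L401089 : N15517 = N5090 := eqes L401088 (flp_e L43849)
theorem L401090 : N15517 = N5090 := eqc rfl L401089 rfl
theorem L401098 : sm gh N3561 = N15514 := trfs L401079 (flp_h L191879) rfl
theorem L401099 : N15514 = N5139 := eqes L401098 (flp_h L44296)
theorem L401100 : N15514 = N5139 := eqc rfl L401099 rfl
theorem L401122 : sm gj N5139 = N22577 := trfs L401100 L191870 rfl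
theorem L401123 : N22577 = N7446 := eqes L401122 L63913
theorem L401124 : N22577 = N7446 := eqc rfl L401123 rfl
theorem L401140 : sm gg N7446 = N32684 := trfs L401124 (flp_g L277023) rfl
theorem L401141 : N32684 = N10737 := eqes L401140 (flp_g L91781)
theorem L401142 : N32684 = N10737 := eqc rfl L401141 rfl
theorem L401148 : sm gj N10737 = N22437 := trfs L401142 (flp_j L277014) rfl
theorem L401149 : N22437 = N7400 := eqes L401148 (flp_j L91771)
theorem L401150 : N22437 = N7400 := eqc rfl L401149 rfl
theorem L401161 : sm gf N7400 = N32683 := trfs L401150 L277007 rfl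
theorem L401162 : N32683 = N7400 := eqes L401161 L63495
theorem L401163 : N32683 = N7400 := eqc rfl L401162 rfl
theorem L401170 : sm gd N7400 = N22708 := trfs L401163 L277011 rfl
theorem L401171 : N22708 = N10734 := eqes L401170 (flp_d L91745)
theorem L401172 : N22708 = N10734 := eqc rfl L401171 rfl
theorem L401175 : sm gb N10734 = N33083 := trfs L401172 (flp_b L280483) rfl
theorem L401176 : N33083 = N15598 := eqes L401175 (flp_b L132915)
theorem L401177 : N33083 = N15598 := eqc rfl L401176 rfl
theorem L401201 : sm ge N15598 = N15598 := trfs L401177 L280486 L401177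
theorem L401202 : N15598 = N22703 := eqes L401201 (flp_e L192960)
theorem L401203 : N22703 = N15598 := (eqc rfl L401202 rfl).symm
theorem L401221 : sm gh N15598 = N33085 := trfs L401203 L280496 rfl
theorem L401222 : N33085 = N22706 := eqes L401221 L192981
theorem L401223 : N33085 = N22706 := eqc rfl L401222 rfl
theorem L401227 : sm gg N22706 = N22704 := trfs L401223 L280502 rfl
theorem L401228 : N22704 = N15599 := eqes L401227 L192986
theorem L401229 : N22704 = N15599 := eqc rfl L401228 rfl
theorem L401250 : sm gi N15599 = N33087 := trfs L401229 L280512 rfl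
theorem L401251 : N33087 = N22707 := eqes L401250 L192990
theorem L401252 : N33087 = N22707 := eqc rfl L401251 rfl
theorem L401255 : sm gj N22707 = N22856 := trfs L401252 L280518 rfl
theorem L401256 : N22856 = N15701 := eqes L401255 L192998
theorem L401257 : N22856 = N15701 := eqc rfl L401256 rfl
theorem L401271 : sm gg N15701 = N33310 := trfs L401257 (flp_g L282561) rfl
theorem L401272 : N33310 = N22858 := eqes L401271 (flp_g L194393)
theorem L401273 : N33310 = N22858 := eqc rfl L401272 rfl
theorem L401281 : sm gi N22858 = N22854 := trfs L401273 (flp_i L282555) rfl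
theorem L401282 : N22854 = N15700 := eqes L401281 (flp_i L194385)
theorem L401283 : N22854 = N15700 := eqc rfl L401282 rfl
theorem L401304 : sm gh N15700 = N15697 := trfs L401283 (flp_h L194354) rfl
theorem L401305 : N15697 = N10797 := eqes L401304 (flp_h L133868)
theorem L401306 : N15697 = N10797 := eqc rfl L401305 rfl
theorem L401322 : sm gj N10797 = N22853 := trfs L401306 L194347 rfl
theorem L401323 : N22853 = N15699 := eqes L401322 L133859
theorem L401324 : N22853 = N15699 := eqc rfl L401323 rfl
theorem L401335 : sm gf N15699 = N33306 := trfs L401324 (flp_f L282528) rfl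
theorem L401336 : N33306 = N10898 := eqes L401335 L133865
theorem L401337 : N33306 = N10898 := eqc rfl L401336 rfl
theorem L401344 : sm ge N10898 = N23075 := trfs L401337 L282526 rfl
theorem L401345 : N23075 = N15847 := eqes L401344 (flp_e L135148)
theorem L401346 : N23075 = N15847 := eqc rfl L401345 rfl
theorem L401364 : sm gh N15847 = N33640 := trfs L401346 L285341 rfl
theorem L401365 : N33640 = N23077 := eqes L401364 L196267
theorem L401366 : N33640 = N23077 := eqc rfl L401365 rfl
theorem L401370 : sm gj N23077 = N23076 := trfs L401366 L285347 rfl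
theorem L401371 : N23076 = N15848 := eqes L401370 L196274
theorem L401372 : N23076 = N15848 := eqc rfl L401371 rfl
theorem L401391 : sm gi N15848 = N33642 := trfs L401372 L285356 rfl
theorem L401392 : N33642 = N23079 := eqes L401391 L196285
theorem L401393 : N33642 = N23079 := eqc rfl L401392 rfl
theorem L401394 : sm gb N23079 = N23086 := trfs L401393 L285358 rfl
theorem L401395 : N23086 = N15857 := eqes L401394 L196287
theorem L401396 : N23086 = N15857 := eqc rfl L401395 rfl
theorem L401402 : sm ge N15857 = N33317 := trfs L401396 (flp_e L282617) rfl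
theorem L401403 : N33317 = N10907 := eqes L401402 L135234
theorem L401404 : N33317 = N10907 := eqc rfl L401403 rfl
theorem L401416 : sm gi N10907 = N22860 := trfs L401404 (flp_i L282612) rfl
theorem L401417 : N22860 = N7513 := eqes L401416 (flp_i L93292)
theorem L401418 : N22860 = N7513 := eqc rfl L401417 rfl
theorem L401435 : sm gh N7513 = N15702 := trfs L401418 (flp_h L194406) rfl
theorem L401436 : N15702 = N5182 := eqes L401435 (flp_h L64493)
theorem L401437 : N15702 = N5182 := eqc rfl L401436 rfl
theorem L401444 : sm gg N5182 = N22824 := trfs L401437 (flp_g L194107) rfl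
theorem L401445 : N22824 = N3582 := eqes L401444 (flp_g L44662)
theorem L401446 : N22824 = N3582 := eqc rfl L401445 rfl
theorem L401461 : sm gj N3582 = N33262 := trfs L401446 L282148 rfl
theorem L401462 : N33262 = N3582 := eqes L401461 L31034
theorem L401463 : N33262 = N3582 := eqc rfl L401462 rfl
theorem L401473 : sm gf N3582 = N22825 := trfs L401463 L282155 rfl
theorem L401474 : N22825 = N2481 := eqes L401473 (flp_f L31027)
theorem L401475 : N22825 = N2481 := eqc rfl L401474 rfl
theorem L401492 : sm gh N2481 = N33264 := trfs L401475 L282169 rfl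
theorem L401493 : N33264 = N3583 := eqes L401492 L31036
theorem L401494 : N33264 = N3583 := eqc rfl L401493 rfl
theorem L401499 : sm gj N3583 = N22826 := trfs L401494 L282176 rfl
theorem L401500 : N22826 = N3583 := eqes L401499 L31041
theorem L401501 : N22826 = N3583 := eqc rfl L401500 rfl
theorem L401514 : sm gg N3583 = N15680 := trfs L401501 L194124 rfl
theorem L401515 : N15680 = N5138 := eqes L401514 (flp_g L44286)
theorem L401516 : N15680 = N5138 := eqc rfl L401515 rfl
theorem L401539 : sm gh N5138 = N10785 := trfs L401516 (flp_h L133699) rfl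
theorem L401540 : N10785 = N3553 := eqes L401539 (flp_h L44281)
theorem L401541 : N10785 = N3553 := eqc rfl L401540 rfl
theorem L401556 : sm gj N3553 = N15586 := trfs L401541 (flp_j L132803) rfl
theorem L401557 : N15586 = N5108 := eqes L401556 (flp_j L44005)
theorem L401558 : N15586 = N5108 := eqc rfl L401557 rfl
theorem L401572 : sm gg N5108 = N22685 := trfs L401558 L192783 rfl
theorem L401573 : N22685 = N5108 := eqes L401572 L44004
theorem L401574 : N22685 = N5108 := eqc rfl L401573 rfl
theorem L401582 : sm gd N5108 = N32644 := trfs L401574 (flp_d L276662) rfl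
theorem L401583 : N32644 = N3534 := eqes L401582 (flp_d L44000)
theorem L401584 : N32644 = N3534 := eqc rfl L401583 rfl
theorem L401593 : sm ge N3534 = N22411 := trfs L401584 L276664 rfl
theorem L401594 : N22411 = N2449 := eqes L401593 (flp_e L30594)
theorem L401595 : N22411 = N2449 := eqc rfl L401594 rfl
theorem L401617 : sm gh N2449 = N32647 := trfs L401595 L276686 rfl
theorem L401618 : N32647 = N1704 := eqes L401617 L21320
theorem L401619 : N32647 = N1704 := eqc rfl L401618 rfl
theorem L401625 : sm gg N1704 = N22412 := trfs L401619 L276690 rfl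
theorem L401626 : N22412 = N1704 := eqes L401625 L14915
theorem L401627 : N22412 = N1704 := eqc rfl L401626 rfl
theorem L401644 : sm gi N1704 = N32648 := trfs L401627 L276693 rfl
theorem L401645 : N32648 = N1188 := eqes L401644 L14918
theorem L401646 : N32648 = N1188 := eqc rfl L401645 rfl
theorem L401652 : sm gj N1188 = N22541 := trfs L401646 L276700 rfl
theorem L401653 : N22541 = N831 := eqes L401652 L10454
theorem L401654 : N22541 = N831 := eqc rfl L401653 rfl
theorem L401668 : sm gg N831 = N32839 := trfs L401654 (flp_g L278412) rfl
theorem L401669 : N32839 = N579 := eqes L401668 L7346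
theorem L401670 : N32839 = N579 := eqc rfl L401669 rfl
theorem L401677 : sm gi N579 = N22540 := trfs L401670 (flp_i L278406) rfl
theorem L401678 : N22540 = N835 := eqes L401677 (flp_i L7385)
theorem L401679 : N22540 = N835 := eqc rfl L401678 rfl
theorem L401696 : sm gh N835 = N15488 := trfs L401679 (flp_h L191575) rfl
theorem L401697 : N15488 = N1198 := eqes L401696 (flp_h L10544)
theorem L401698 : N15488 = N1198 := eqc rfl L401697 rfl
theorem L401718 : sm gj N1198 = N22539 := trfs L401698 L191567 rfl
theorem L401719 : N22539 = N1198 := eqes L401718 L10543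
theorem L401720 : N22539 = N1198 := eqc rfl L401719 rfl
theorem L401729 : sm gd N1198 = N15491 := trfs L401720 L191571 rfl
theorem L401730 : N15491 = N1720 := eqes L401729 (flp_d L15059)
theorem L401731 : N15491 = N1720 := eqc rfl L401730 rfl
theorem L401750 : sm gg N1720 = N22414 := trfs L401731 (flp_g L190440) rfl
theorem L401751 : N22414 = N2459 := eqes L401750 (flp_g L21411)
theorem L401752 : N22414 = N2459 := eqc rfl L401751 rfl
theorem L401769 : sm gf N2459 = N32514 := trfs L401752 (flp_f L275442) rfl
theorem L401770 : N32514 = N3512 := eqes L401769 (flp_f L30404)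
theorem L401771 : N32514 = N3512 := eqc rfl L401770 rfl
theorem L401785 : sm gj N3512 = N22323 := trfs L401771 (flp_j L275435) rfl
theorem L401786 : N22323 = N5051 := eqes L401785 (flp_j L43490)
theorem L401787 : N22323 = N5051 := eqc rfl L401786 rfl
theorem L401804 : sm gg N5051 = N15346 := trfs L401787 (flp_g L189571) rfl
theorem L401805 : N15346 = N7287 := eqes L401804 (flp_g L62454)
theorem L401806 : N15346 = N7287 := eqc rfl L401805 rfl
theorem L401821 : sm ge N7287 = N7287 := trfs L401806 L130669 L401806
theorem L401822 : N7287 = N10564 := eqes L401821 L90214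
theorem L401823 : N10564 = N7287 := (eqc rfl L401822 rfl).symm
theorem L401837 : sm gd N7287 = N15345 := trfs L401823 L130650 rfl
theorem L401838 : N15345 = N5038 := eqes L401837 L62459
theorem L401839 : N15345 = N5038 := eqc rfl L401838 rfl
theorem L401862 : sm gh N5038 = N22322 := trfs L401839 L189561 rfl
theorem L401863 : N22322 = N3489 := eqes L401862 L43367
theorem L401864 : N22322 = N3489 := eqc rfl L401863 rfl
theorem L401884 : sm gi N3489 = N32513 := trfs L401864 L275424 rfl
theorem L401885 : N32513 = N2421 := eqes L401884 L30184
theorem L401886 : N32513 = N2421 := eqc rfl L401885 rfl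
theorem L401891 : sm ge N2421 = N22346 := trfs L401886 L275429 rfl
theorem L401892 : N22346 = N3492 := eqes L401891 L30205
theorem L401893 : N22346 = N3492 := eqc rfl L401892 rfl
theorem L401912 : sm gg N3492 = N15423 := trfs L401893 L189792 rfl
theorem L401913 : N15423 = N2431 := eqes L401912 L30211
theorem L401914 : N15423 = N2431 := eqc rfl L401913 rfl
theorem L401932 : sm gi N2431 = N10614 := trfs L401914 (flp_i L131389) rfl
theorem L401933 : N10614 = N3502 := eqes L401932 (flp_i L30316)
theorem L401934 : N10614 = N3502 := eqc rfl L401933 rfl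
theorem L401947 : sm gh N3502 = N7319 := trfs L401934 (flp_h L90693) rfl
theorem L401948 : N7319 = N5056 := eqes L401947 (flp_h L43541)
theorem L401949 : N7319 = N5056 := eqc rfl L401948 rfl
theorem L401961 : sm gj N5056 = N5082 := trfs L401949 L62771 rfl
theorem L401962 : N5082 = N3517 := eqes L401961 L43539
theorem L401963 : N5082 = N3517 := eqc rfl L401962 rfl
theorem L401978 : sm gf N3517 = N7359 := trfs L401963 L63129 rfl
theorem L401979 : N7359 = N5083 := eqes L401978 L43781
theorem L401980 : N7359 = N5083 := eqc rfl L401979 rfl
theorem L401988 : sm gc N5083 = N10664 := trfs L401980 (flp_c L91149) rfl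
theorem L401989 : N10664 = N3518 := eqes L401988 L43785
theorem L401990 : N10664 = N3518 := eqc rfl L401989 rfl
theorem L402003 : sm gd N3518 = N7354 := trfs L401990 L91151 rfl
theorem L402004 : N7354 = N5079 := eqes L402003 (flp_d L43752)
theorem L402005 : N7354 = N5079 := eqc rfl L402004 rfl
theorem L402016 : sm gh N3518 = N15500 := trfs L401990 L132076 rfl
theorem L402017 : N15500 = N2442 := eqes L402016 L30458
theorem L402018 : N15500 = N2442 := eqc rfl L402017 rfl
theorem L402038 : sm gi N2442 = N22557 := trfs L402018 L191712 rfl
theorem L402039 : N22557 = N1701 := eqes L402038 L21259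
theorem L402040 : N22557 = N1701 := eqc rfl L402039 rfl
theorem L402054 : sm gj N1701 = N32664 := trfs L402040 (flp_j L276846) rfl
theorem L402055 : N32664 = N2432 := eqes L402054 (flp_j L21163)
theorem L402056 : N32664 = N2432 := eqc rfl L402055 rfl
theorem L402058 : sm ga N2432 = N24766 := trfs L402056 L276839 rfl
theorem L402059 : N24766 = N1871 := eqes L402058 L21160
theorem L402060 : N24766 = N1871 := eqc rfl L402059 rfl
theorem L402074 : sm gf N1871 = N17027 := trfs L402060 L210491 rfl
theorem L402075 : N17027 = N1302 := eqes L402074 (flp_f L16390)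
theorem L402076 : N17027 = N1302 := eqc rfl L402075 rfl
theorem L402097 : sm gi N1302 = N11718 := trfs L402076 (flp_i L145160) rfl
theorem L402098 : N11718 = N1868 := eqes L402097 (flp_i L16371)
theorem L402099 : N11718 = N1868 := eqc rfl L402098 rfl
theorem L402116 : sm gh N1868 = N8081 := trfs L402099 (flp_h L100249) rfl
theorem L402117 : N8081 = N2683 := eqes L402116 (flp_h L23395)
theorem L402118 : N8081 = N2683 := eqc rfl L402117 rfl
theorem L402124 : sm gd N2683 = N5583 := trfs L402118 (flp_d L69414) rfl
theorem L402125 : N5583 = N3866 := eqes L402124 (flp_d L33530)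
theorem L402126 : N5583 = N3866 := eqc rfl L402125 rfl
theorem L402134 : sm gj N2683 = N5631 := trfs L402118 L69416 rfl
theorem L402135 : N5631 = N1881 := eqes L402134 L23393
theorem L402136 : N5631 = N1881 := eqc rfl L402135 rfl
theorem L402143 : sm gd N1881 = N3897 := trfs L402136 (flp_d L48560) rfl
theorem L402144 : N3897 = N2703 := eqes L402143 (flp_d L23557)
theorem L402145 : N3897 = N2703 := eqc rfl L402144 rfl
theorem L402146 : sm ge N1881 = N8140 := trfs L402136 (flp_e L69906) rfl
theorem L402147 : N8140 = N1309 := eqes L402146 (flp_e L16473)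
theorem L402148 : N8140 = N1309 := eqc rfl L402147 rfl
theorem L402170 : sm gh N1309 = N11808 := trfs L402148 L100977 rfl
theorem L402171 : N11808 = N912 := eqes L402170 L11525
theorem L402172 : N11808 = N912 := eqc rfl L402171 rfl
theorem L402192 : sm gi N912 = N17162 := trfs L402172 L146266 rfl
theorem L402193 : N17162 = N632 := eqes L402192 L8068
theorem L402194 : N17162 = N632 := eqc rfl L402193 rfl
theorem L402208 : sm gf N632 = N24968 := trfs L402194 (flp_f L212145) rfl
theorem L402209 : N24968 = N441 := eqes L402208 L5600
theorem L402210 : N24968 = N441 := eqc rfl L402209 rfl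
theorem L402228 : sm gj N441 = N36022 := trfs L402210 (flp_j L305262) rfl
theorem L402229 : N36022 = N636 := eqes L402228 (flp_j L5636)
theorem L402230 : N36022 = N636 := eqc rfl L402229 rfl
theorem L402236 : sm gi N636 = N24732 := trfs L402230 (flp_i L305256) rfl
theorem L402237 : N24732 = N918 := eqes L402236 (flp_i L8116)
theorem L402238 : N24732 = N918 := eqc rfl L402237 rfl
theorem L402255 : sm gh N918 = N17003 := trfs L402238 (flp_h L210205) rfl
theorem L402256 : N17003 = N1317 := eqes L402255 (flp_h L11590)
theorem L402257 : N17003 = N1317 := eqc rfl L402256 rfl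
theorem L402272 : sm gg N1317 = N24731 := trfs L402257 L210198 rfl
theorem L402273 : N24731 = N1317 := eqes L402272 L11586
theorem L402274 : N24731 = N1317 := eqc rfl L402273 rfl
theorem L402291 : sm gj N1317 = N36020 := trfs L402274 L305241 rfl
theorem L402292 : N36020 = N923 := eqes L402291 L11587
theorem L402293 : N36020 = N923 := eqc rfl L402292 rfl
theorem L402300 : sm gg N923 = N24966 := trfs L402293 L305248 rfl
theorem L402301 : N24966 = N645 := eqes L402300 L8155
theorem L402302 : N24966 = N645 := eqc rfl L402301 rfl
theorem L402319 : sm gh N645 = N36373 := trfs L402302 L308158 rfl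
theorem L402320 : N36373 = N445 := eqes L402319 L5708
theorem L402321 : N36373 = N445 := eqc rfl L402320 rfl
theorem L402327 : sm gj N445 = N24967 := trfs L402321 L308163 rfl
theorem L402328 : N24967 = N445 := eqes L402327 L3946
theorem L402329 : N24967 = N445 := eqc rfl L402328 rfl
theorem L402338 : sm ge N445 = N36370 := trfs L402329 (flp_e L308140) rfl
theorem L402339 : N36370 = N647 := eqes L402338 L5717
theorem L402340 : N36370 = N647 := eqc rfl L402339 rfl
theorem L402349 : sm gh N647 = N24964 := trfs L402340 (flp_h L308136) rfl
theorem L402350 : N24964 = N932 := eqes L402349 (flp_h L8223)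
theorem L402351 : N24964 = N932 := eqc rfl L402350 rfl
theorem L402366 : sm gg N932 = N17159 := trfs L402351 (flp_g L212110) rfl
theorem L402367 : N17159 = N1326 := eqes L402366 (flp_g L11660)
theorem L402368 : N17159 = N1326 := eqc rfl L402367 rfl
theorem L402380 : sm gf N1326 = N11828 := trfs L402368 L146250 rfl
theorem L402381 : N11828 = N1907 := eqes L402380 L16682
theorem L402382 : N11828 = N1907 := eqc rfl L402381 rfl
theorem L402399 : sm gh N1907 = N17192 := trfs L402382 L146487 rfl
theorem L402400 : N17192 = N1329 := eqes L402399 L16686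
theorem L402401 : N17192 = N1329 := eqc rfl L402400 rfl
theorem L402419 : sm gi N1329 = N25016 := trfs L402401 L212495 rfl
theorem L402420 : N25016 = N928 := eqes L402419 L11687
theorem L402421 : N25016 = N928 := eqc rfl L402420 rfl
theorem L402423 : sm gb N928 = N36436 := trfs L402421 (flp_b L308641) rfl
theorem L402424 : N36436 = N928 := eqes L402423 L8192
theorem L402425 : N36436 = N928 := eqc rfl L402424 rfl
theorem L402443 : sm ge N928 = N25011 := trfs L402425 L308643 rfl
theorem L402444 : N25011 = N1314 := eqes L402443 (flp_e L11561)
theorem L402445 : N25011 = N1314 := eqc rfl L402444 rfl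
theorem L402464 : sm gi N1314 = N17188 := trfs L402445 (flp_i L212460) rfl
theorem L402465 : N17188 = N1884 := eqes L402464 (flp_i L16500)
theorem L402466 : N17188 = N1884 := eqc rfl L402465 rfl
theorem L402485 : sm gh N1884 = N11825 := trfs L402466 (flp_h L146456) rfl
theorem L402486 : N11825 = N2706 := eqes L402485 (flp_h L23579)
theorem L402487 : N11825 = N2706 := eqc rfl L402486 rfl
theorem L402501 : sm gj N2706 = N17021 := trfs L402487 (flp_j L145118) rfl
theorem L402502 : N17021 = N3869 := eqes L402501 (flp_j L33554)
theorem L402503 : N17021 = N3869 := eqc rfl L402502 rfl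
theorem L402517 : sm gg N3869 = N24758 := trfs L402503 L210420 rfl
theorem L402518 : N24758 = N5589 := eqes L402517 L48226
theorem L402519 : N24758 = N5589 := eqc rfl L402518 rfl
theorem L402541 : sm gh N5589 = N36064 := trfs L402519 L305609 rfl
theorem L402542 : N36064 = N3874 := eqes L402541 L48231
theorem L402543 : N36064 = N3874 := eqc rfl L402542 rfl
theorem L402545 : sm gb N3874 = N24765 := trfs L402543 L305611 rfl
theorem L402546 : N24765 = N3874 := eqes L402545 L33600
theorem L402547 : N24765 = N3874 := eqc rfl L402546 rfl
theorem L402558 : sm gf N3874 = N35820 := trfs L402547 (flp_f L303530) rfl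
theorem L402559 : N35820 = N5560 := eqes L402558 (flp_f L47981)
theorem L402560 : N35820 = N5560 := eqc rfl L402559 rfl
theorem L402572 : sm gh N5560 = N24597 := trfs L402560 (flp_h L303526) rfl
theorem L402573 : N24597 = N8039 := eqes L402572 (flp_h L69057)
theorem L402574 : N24597 = N8039 := eqc rfl L402573 rfl
theorem L402580 : sm gd N8039 = N16915 := trfs L402574 L209042 rfl
theorem L402581 : N16915 = N11647 := eqes L402580 (flp_d L99639)
theorem L402582 : N16915 = N11647 := eqc rfl L402581 rfl
theorem L402590 : sm gj N8039 = N35819 := trfs L402574 L303516 rfl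
theorem L402591 : N35819 = N11654 := eqes L402590 L99697
theorem L402592 : N35819 = N11654 := eqc rfl L402591 rfl
theorem L402595 : sm gd N11654 = N24600 := trfs L402592 L303520 rfl
theorem L402596 : N24600 = N16916 := eqes L402595 (flp_d L144219)
theorem L402597 : N24600 = N16916 := eqc rfl L402596 rfl
theorem L402611 : sm gf N16916 = N17028 := trfs L402597 L209068 rfl
theorem L402612 : N17028 = N11720 := eqes L402611 L144221
theorem L402613 : N17028 = N11720 := eqc rfl L402612 rfl
theorem L402624 : sm gc N11720 = N11720 := trfs L402613 L145170 rfl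
theorem L402627 : sm gg N11720 = N11832 := trfs L402613 L145175 rfl
theorem L402628 : N11832 = N8156 := eqes L402627 L100271
theorem L402629 : N11832 = N8156 := eqc rfl L402628 rfl
theorem L402630 : sm gj N11720 = N11719 := trfs L402613 (flp_j L145168) rfl
theorem L402631 : N11719 = N8083 := eqes L402630 (flp_j L100263)
theorem L402632 : N11719 = N8083 := eqc rfl L402631 rfl
theorem L402635 : sm ga N8083 = N15412 := trfs L402632 (flp_a L131292) rfl
theorem L402636 : N15412 = N10609 := eqes L402635 (flp_a L90648)
theorem L402637 : N15412 = N10609 := eqc rfl L402636 rfl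
theorem L402639 : sm gc N8083 = N8083 := trfs L402632 L100258 rfl
theorem L402643 : sm gg N8083 = N8082 := trfs L402632 (flp_g L100256) rfl
theorem L402644 : N8082 = N5584 := eqes L402643 (flp_g L69430)
theorem L402645 : N8082 = N5584 := eqc rfl L402644 rfl
theorem L402648 : sm ga N5584 = N10608 := trfs L402645 (flp_a L90637) rfl
theorem L402649 : N10608 = N7316 := eqes L402648 (flp_a L62738)
theorem L402650 : N10608 = N7316 := eqc rfl L402649 rfl
theorem L402652 : sm gc N5584 = N5584 := trfs L402645 L69423 rfl
theorem L402656 : sm gj N5584 = N5632 := trfs L402645 L69425 rfl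
theorem L402657 : N5632 = N3898 := eqes L402656 L48185
theorem L402658 : N5632 = N3898 := eqc rfl L402657 rfl
theorem L402663 : sm gc N3898 = N3898 := trfs L402658 L48568 rfl
theorem L402667 : sm gg N3898 = N8155 := trfs L402658 L70006 rfl
theorem L402668 : N8155 = N5633 := eqes L402667 L48573
theorem L402669 : N8155 = N5633 := eqc rfl L402668 rfl
theorem L402672 : sm ga N5633 = N10666 := trfs L402669 (flp_a L91164) rfl
theorem L402673 : N10666 = N7355 := eqes L402672 (flp_a L63096)
theorem L402674 : N10666 = N7355 := eqc rfl L402673 rfl
theorem L402678 : sm gc N5633 = N5633 := trfs L402669 L70008 rfl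
theorem L402679 : sm gd N5633 = N11829 := trfs L402669 (flp_d L101131) rfl
theorem L402680 : N11829 = N3903 := eqes L402679 L48576
theorem L402681 : N11829 = N3903 := eqc rfl L402680 rfl
theorem L402698 : sm gh N3903 = N17194 := trfs L402681 L146501 rfl
theorem L402699 : N17194 = N2711 := eqes L402698 L33829
theorem L402700 : N17194 = N2711 := eqc rfl L402699 rfl
theorem L402709 : sm gj N2711 = N25017 := trfs L402700 (flp_j L212507) rfl
theorem L402710 : N25017 = N3910 := eqes L402709 L33879
theorem L402711 : N25017 = N3910 := eqc rfl L402710 rfl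
theorem L402721 : sm ge N3910 = N36441 := trfs L402711 (flp_e L308683) rfl
theorem L402722 : N36441 = N2753 := eqes L402721 L33883
theorem L402723 : N36441 = N2753 := eqc rfl L402722 rfl
theorem L402739 : sm gh N2753 = N25013 := trfs L402723 (flp_h L308679) rfl
theorem L402740 : N25013 = N3964 := eqes L402739 (flp_h L34320)
theorem L402741 : N25013 = N3964 := eqc rfl L402740 rfl
theorem L402749 : sm gf N3964 = N36439 := trfs L402741 (flp_f L308669) rfl
theorem L402750 : N36439 = N2779 := eqes L402749 L34318
theorem L402751 : N36439 = N2779 := eqc rfl L402750 rfl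
theorem L402783 : sm gj N2779 = N25012 := trfs L402751 (flp_j L308663) rfl
theorem L402784 : N25012 = N1929 := eqes L402783 (flp_j L24153)
theorem L402785 : N25012 = N1929 := eqc rfl L402784 rfl
theorem L402800 : sm gh N1929 = N36440 := trfs L402785 L308672 rfl
theorem L402801 : N36440 = N1345 := eqes L402800 L16855
theorem L402802 : N36440 = N1345 := eqc rfl L402801 rfl
theorem L402804 : sm gc N1345 = N25048 := trfs L402802 L308674 rfl
theorem L402805 : N25048 = N1935 := eqes L402804 (flp_c L16900)
theorem L402806 : N25048 = N1935 := eqc rfl L402805 rfl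
theorem L402814 : sm gg N1935 = N36404 := trfs L402806 (flp_g L308401) rfl
theorem L402815 : N36404 = N1344 := eqes L402814 (flp_g L16898)
theorem L402816 : N36404 = N1344 := eqc rfl L402815 rfl
theorem L402832 : sm gh N1344 = N24987 := trfs L402816 (flp_h L308396) rfl
theorem L402833 : N24987 = N1928 := eqes L402832 (flp_h L16846)
theorem L402834 : N24987 = N1928 := eqc rfl L402833 rfl
theorem L402836 : sm gb N1928 = N36396 := trfs L402834 (flp_b L308328) rfl
theorem L402837 : N36396 = N2775 := eqes L402836 (flp_b L24124)
theorem L402838 : N36396 = N2775 := eqc rfl L402837 rfl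
theorem L402857 : sm gg N2775 = N25040 := trfs L402838 L308334 rfl
theorem L402858 : N25040 = N4009 := eqes L402857 L34664
theorem L402859 : N25040 = N4009 := eqc rfl L402858 rfl
theorem L402871 : sm gj N4009 = N36483 := trfs L402859 L308987 rfl
theorem L402872 : N36483 = N5802 := eqes L402871 L49923
theorem L402873 : N36483 = N5802 := eqc rfl L402872 rfl
theorem L402877 : sm gd N5802 = N25501 := trfs L402873 L308991 rfl
theorem L402878 : N25501 = N8410 := eqes L402877 (flp_d L72058)
theorem L402879 : N25501 = N8410 := eqc rfl L402878 rfl
theorem L402896 : sm gh N8410 = N37172 := trfs L402879 L314743 rfl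
theorem L402897 : N37172 = N12215 := eqes L402896 L104261
theorem L402898 : N37172 = N12215 := eqc rfl L402897 rfl
theorem L402903 : sm gj N12215 = N25502 := trfs L402898 L314751 rfl
theorem L402904 : N25502 = N8411 := eqes L402903 L104266
theorem L402905 : N25502 = N8411 := eqc rfl L402904 rfl
theorem L402924 : sm gi N8411 = N37174 := trfs L402905 L314759 rfl
theorem L402925 : N37174 = N12216 := eqes L402924 L104270
theorem L402926 : N37174 = N12216 := eqc rfl L402925 rfl
theorem L402931 : sm gf N12216 = N25505 := trfs L402926 L314765 rfl
theorem L402932 : N25505 = N17523 := eqes L402931 (flp_f L149218)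
theorem L402933 : N25505 = N17523 := eqc rfl L402932 rfl
theorem L402939 : sm gc N17523 = N37157 := trfs L402933 (flp_c L314627) rfl
theorem L402940 : N37157 = N25495 := eqes L402939 (flp_c L216488)
theorem L402941 : N37157 = N25495 := eqc rfl L402940 rfl
theorem L402954 : sm gi N25495 = N25490 := trfs L402941 (flp_i L314624) rfl
theorem L402955 : N25490 = N17512 := eqes L402954 (flp_i L216485)
theorem L402956 : N25490 = N17512 := eqc rfl L402955 rfl
theorem L402973 : sm gh N17512 = N17509 := trfs L402956 (flp_h L216446) rfl
theorem L402974 : N17509 = N12041 := eqes L402973 (flp_h L149125)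
theorem L402975 : N17509 = N12041 := eqc rfl L402974 rfl
theorem L402993 : sm gj N12041 = N25489 := trfs L402975 L216438 rfl
theorem L402994 : N25489 = N17511 := eqes L402993 L149116
theorem L402995 : N25489 = N17511 := eqc rfl L402994 rfl
theorem L403007 : sm gg N17511 = N36790 := trfs L402995 (flp_g L311490) rfl
theorem L403008 : N36790 = N25247 := eqes L403007 (flp_g L214357)
theorem L403009 : N36790 = N25247 := eqc rfl L403008 rfl
theorem L403015 : sm gj N25247 = N25245 := trfs L403009 (flp_j L311482) rfl
theorem L403016 : N25245 = N17348 := eqes L403015 (flp_j L214349)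
theorem L403017 : N25245 = N17348 := eqc rfl L403016 rfl
theorem L403034 : sm gh N17348 = N36791 := trfs L403017 L311492 rfl
theorem L403035 : N36791 = N25248 := eqes L403034 L214359
theorem L403036 : N36791 = N25248 := eqc rfl L403035 rfl
theorem L403041 : sm gg N25248 = N25246 := trfs L403036 L311499 rfl
theorem L403042 : N25246 = N17349 := eqes L403041 L214365
theorem L403043 : N25246 = N17349 := eqc rfl L403042 rfl
theorem L403049 : sm gd N17349 = N36792 := trfs L403043 L311501 rfl
theorem L403050 : N36792 = N25249 := eqes L403049 L214367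
theorem L403051 : N36792 = N25249 := eqc rfl L403050 rfl
theorem L403065 : sm gj N25249 = N25491 := trfs L403051 L311504 rfl
theorem L403066 : N25491 = N17513 := eqes L403065 L214372
theorem L403067 : N25491 = N17513 := eqc rfl L403066 rfl
theorem L403083 : sm gh N17513 = N37151 := trfs L403067 (flp_h L314584) rfl
theorem L403084 : N37151 = N17513 := eqes L403083 L149141
theorem L403085 : N37151 = N17513 := eqc rfl L403084 rfl
theorem L403092 : sm gd N17513 = N25487 := trfs L403085 (flp_d L314581) rfl
theorem L403093 : N25487 = N12042 := eqes L403092 (flp_d L149134)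
theorem L403094 : N25487 = N12042 := eqc rfl L403093 rfl
theorem L403113 : sm gh N12042 = N17508 := trfs L403094 (flp_h L216426) rfl
theorem L403114 : N17508 = N8295 := eqes L403113 (flp_h L102880)
theorem L403115 : N17508 = N8295 := eqc rfl L403114 rfl
theorem L403137 : sm gj N8295 = N25244 := trfs L403115 (flp_j L214328) rfl
theorem L403138 : N25244 = N11932 := eqes L403137 (flp_j L101940)
theorem L403139 : N25244 = N11932 := eqc rfl L403138 rfl
theorem L403141 : sm ga N11932 = N36771 := trfs L403139 (flp_a L311313) rfl
theorem L403142 : N36771 = N17340 := eqes L403141 (flp_a L147647)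
theorem L403143 : N36771 = N17340 := eqc rfl L403142 rfl
theorem L403166 : sm gd N17340 = N25234 := trfs L403143 (flp_d L311311) rfl
theorem L403167 : N25234 = N17340 := eqes L403166 L147651
theorem L403168 : N25234 = N17340 := eqc rfl L403167 rfl
theorem L403185 : sm gj N17340 = N17498 := trfs L403168 L214238 rfl
theorem L403186 : N17498 = N12033 := eqes L403185 L147652
theorem L403187 : N17498 = N12033 := eqc rfl L403186 rfl
theorem L403203 : sm gh N12033 = N25472 := trfs L403187 L216298 rfl
theorem L403204 : N25472 = N17500 := eqes L403203 L149029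
theorem L403205 : N25472 = N17500 := eqc rfl L403204 rfl
theorem L403221 : sm gi N17500 = N37131 := trfs L403205 L314410 rfl
theorem L403222 : N37131 = N25476 := eqes L403221 L216335
theorem L403223 : N37131 = N25476 := eqc rfl L403222 rfl
theorem L403225 : sm gc N25476 = N25483 := trfs L403223 L314414 rfl
theorem L403226 : N25483 = N17507 := eqes L403225 L216339
theorem L403227 : N25483 = N17507 := eqc rfl L403226 rfl
theorem L403232 : sm gd N17507 = N37146 := trfs L403227 (flp_d L314547) rfl
theorem L403233 : N37146 = N12068 := eqes L403232 L149091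
theorem L403234 : N37146 = N12068 := eqc rfl L403233 rfl
theorem L403316 : sm ge N12068 = N25551 := trfs L403234 L314549 rfl
theorem L403317 : N25551 = N17550 := eqes L403316 (flp_e L149443)
theorem L403318 : N25551 = N17550 := eqc rfl L403317 rfl
theorem L403332 : sm gi N17550 = N17549 := trfs L403318 (flp_i L216946) rfl
theorem L403333 : N17549 = N12065 := eqes L403332 (flp_i L149439)
theorem L403334 : N17549 = N12065 := eqc rfl L403333 rfl
theorem L403348 : sm gj N12065 = N25285 := trfs L403334 (flp_j L214704) rfl
theorem L403349 : N25285 = N17372 := eqes L403348 (flp_j L147938)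
theorem L403350 : N25285 = N17372 := eqc rfl L403349 rfl
theorem L403353 : sm gb N17372 = N33115 := trfs L403350 (flp_b L280802) rfl
theorem L403354 : N33115 = N22723 := eqes L403353 (flp_b L193155)
theorem L403355 : N33115 = N22723 := eqc rfl L403354 rfl
theorem L403383 : sm ga N22723 = N22739 := trfs L403355 L280800 rfl
theorem L403384 : N22739 = N15621 := eqes L403383 L193153
theorem L403385 : N22739 = N15621 := eqc rfl L403384 rfl
theorem L403405 : sm gi N15621 = N33140 := trfs L403385 L281028 rfl
theorem L403406 : N33140 = N22740 := eqes L403405 L193316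
theorem L403407 : N33140 = N22740 := eqc rfl L403406 rfl
theorem L403413 : sm gj N22740 = N22909 := trfs L403407 L281035 rfl
theorem L403414 : N22909 = N15734 := eqes L403413 L193323
theorem L403415 : N22909 = N15734 := eqc rfl L403414 rfl
theorem L403424 : sm gg N15734 = N33388 := trfs L403415 (flp_g L283233) rfl
theorem L403425 : N33388 = N22907 := eqes L403424 (flp_g L194834)
theorem L403426 : N33388 = N22907 := eqc rfl L403425 rfl
theorem L403433 : sm gi N22907 = N22906 := trfs L403426 (flp_i L283227) rfl
theorem L403434 : N22906 = N15732 := eqes L403433 (flp_i L194828)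
theorem L403435 : N22906 = N15732 := eqc rfl L403434 rfl
theorem L403454 : sm gh N15732 = N32940 := trfs L403435 (flp_h L279246) rfl
theorem L403455 : N32940 = N10819 := eqes L403454 (flp_h L134159)
theorem L403456 : N32940 = N10819 := eqc rfl L403455 rfl
theorem L403460 : sm gd N10819 = N22606 := trfs L403456 (flp_d L279240) rfl
theorem L403461 : N22606 = N15532 := eqes L403460 (flp_d L132348)
theorem L403462 : N22606 = N15532 := eqc rfl L403461 rfl
theorem L404263 : sm gc N15532 = N32926 := trfs L403462 (flp_c L279142) rfl
theorem L404264 : N32926 = N22596 := eqes L404263 (flp_c L192042)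
theorem L404265 : N32926 = N22596 := eqc rfl L404264 rfl
theorem L404280 : sm gg N22596 = N22597 := trfs L404265 L279146 rfl
theorem L404281 : N22597 = N15527 := eqes L404280 (flp_g L192039)
theorem L404282 : N22597 = N15527 := eqc rfl L404281 rfl
theorem L404292 : sm gj N15527 = N32704 := trfs L404282 (flp_j L277220) rfl
theorem L404293 : N32704 = N22450 := eqes L404292 (flp_j L190776)
theorem L404294 : N32704 = N22450 := eqc rfl L404293 rfl
theorem L404298 : sm gc N22450 = N22456 := trfs L404294 L277215 rfl
theorem L404299 : N22456 = N15431 := eqes L404298 L190774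
theorem L404300 : N22456 = N15431 := eqc rfl L404299 rfl
theorem L404301 : sm ge N22450 = N22452 := trfs L404294 L277217 rfl
theorem L404302 : N22452 = N15429 := eqes L404301 (flp_e L190771)
theorem L404303 : N22452 = N15429 := eqc rfl L404302 rfl
theorem L404309 : sm gd N15429 = N32707 := trfs L404303 L277238 rfl
theorem L404310 : N32707 = N20676 := eqes L404309 (flp_d L175768)
theorem L404311 : N32707 = N20676 := eqc rfl L404310 rfl
theorem L404331 : sm gh N20676 = N43881 := trfs L404311 (flp_h L371193) rfl
theorem L404332 : N43881 = N30102 := eqes L404331 L255270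
theorem L404333 : N43881 = N30102 := eqc rfl L404332 rfl
theorem L404336 : sm gf N30102 = N30103 := trfs L404333 L371189 rfl
theorem L404337 : N30103 = N20677 := eqes L404336 L255275
theorem L404338 : N30103 = N20677 := eqc rfl L404337 rfl
theorem L404339 : sm gj N30102 = N30211 := trfs L404333 L371191 rfl
theorem L404340 : N30211 = N20750 := eqes L404339 L255277
theorem L404341 : N30211 = N20750 := eqc rfl L404340 rfl
theorem L404349 : sm gd N20750 = N20750 := trfs L404341 (flp_d L256196) rfl
theorem L404353 : sm gf N20750 = N20751 := trfs L404341 L256199 rfl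
theorem L404354 : N20751 = N14266 := eqes L404353 L176399
theorem L404355 : N20751 = N14266 := eqc rfl L404354 rfl
theorem L404360 : sm gi N20750 = N44048 := trfs L404341 L372610 rfl
theorem L404361 : N44048 = N30212 := eqes L404360 L256203
theorem L404362 : N44048 = N30212 := eqc rfl L404361 rfl
theorem L404365 : sm gf N30212 = N30214 := trfs L404362 L372615 rfl
theorem L404366 : N30214 = N20752 := eqes L404365 L256208
theorem L404367 : N30214 = N20752 := eqc rfl L404366 rfl
theorem L404383 : sm gh N20752 = N44051 := trfs L404367 L372628 rfl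
theorem L404384 : N44051 = N14289 := eqes L404383 L176413
theorem L404385 : N44051 = N14289 := eqc rfl L404384 rfl
theorem L404392 : sm gi N14289 = N32936 := trfs L404385 L372634 rfl
theorem L404393 : N32936 = N9840 := eqes L404392 (flp_i L121775)
theorem L404394 : N32936 = N9840 := eqc rfl L404393 rfl
theorem L404400 : sm gh N9840 = N22603 := trfs L404394 (flp_h L279207) rfl
theorem L404401 : N22603 = N6787 := eqes L404400 (flp_h L84130)
theorem L404402 : N22603 = N6787 := eqc rfl L404401 rfl
theorem L404423 : sm gi N6787 = N15530 := trfs L404402 (flp_i L192091) rfl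
theorem L404424 : N15530 = N9826 := eqes L404423 (flp_i L84022)
theorem L404425 : N15530 = N9826 := eqc rfl L404424 rfl
theorem L404434 : sm ge N9826 = N22602 := trfs L404425 L192086 rfl
theorem L404435 : N22602 = N13587 := eqes L404434 (flp_e L115698)
theorem L404436 : N22602 = N13587 := eqc rfl L404435 rfl
theorem L404456 : sm gh N13587 = N30213 := trfs L404436 (flp_h L256216) rfl
theorem L404457 : N30213 = N19738 := eqes L404456 L167615
theorem L404458 : N30213 = N19738 := eqc rfl L404457 rfl
theorem L404464 : sm gc N19738 = N43999 := trfs L404458 (flp_c L372195) rfl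
theorem L404465 : N43999 = N13589 := eqes L404464 L167618
theorem L404466 : N43999 = N13589 := eqc rfl L404465 rfl
theorem L404490 : sm ge N13589 = N30180 := trfs L404466 (flp_e L372193) rfl
theorem L404491 : N30180 = N9828 := eqes L404490 L115717
theorem L404492 : N30180 = N9828 := eqc rfl L404491 rfl
theorem L404507 : sm gj N9828 = N43850 := trfs L404492 (flp_j L370902) rfl
theorem L404508 : N43850 = N14220 := eqes L404507 (flp_j L121208)
theorem L404509 : N43850 = N14220 := eqc rfl L404508 rfl
theorem L404516 : sm gh N14220 = N32676 := trfs L404509 L370906 rfl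
theorem L404517 : N32676 = N9795 := eqes L404516 (flp_h L121204)
theorem L404518 : N32676 = N9795 := eqc rfl L404517 rfl
theorem L404520 : sm gd N9795 = N22431 := trfs L404518 (flp_d L276949) rfl
theorem L404521 : N22431 = N6759 := eqes L404520 (flp_d L83743)
theorem L404522 : N22431 = N6759 := eqc rfl L404521 rfl
theorem L404546 : sm gi N6759 = N32677 := trfs L404522 L276955 rfl
theorem L404547 : N32677 = N4678 := eqes L404546 L58001
theorem L404548 : N32677 = N4678 := eqc rfl L404547 rfl
theorem L404550 : sm gj N4678 = N22570 := trfs L404548 L276959 rfl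
theorem L404551 : N22570 = N3250 := eqes L404550 L40302
theorem L404552 : N22570 = N3250 := eqc rfl L404551 rfl
theorem L404567 : sm gf N3250 = N32883 := trfs L404552 (flp_f L278767) rfl
theorem L404568 : N32883 = N4694 := eqes L404567 L40438
theorem L404569 : N32883 = N4694 := eqc rfl L404568 rfl
theorem L404575 : sm gi N4694 = N22568 := trfs L404569 (flp_i L278763) rfl
theorem L404576 : N22568 = N6780 := eqes L404575 (flp_i L58192)
theorem L404577 : N22568 = N6780 := eqc rfl L404576 rfl
theorem L404596 : sm gh N6780 = N15507 := trfs L404577 (flp_h L191804) rfl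
theorem L404597 : N15507 = N9819 := eqes L404596 (flp_h L83960)
theorem L404598 : N15507 = N9819 := eqc rfl L404597 rfl
theorem L404618 : sm gj N9819 = N22430 := trfs L404598 (flp_j L190586) rfl
theorem L404619 : N22430 = N14211 := eqes L404618 (flp_j L121118)
theorem L404620 : N22430 = N14211 := eqc rfl L404619 rfl
theorem L404638 : sm gg N14211 = N32674 := trfs L404620 L276936 rfl
theorem L404639 : N32674 = N20666 := eqes L404638 L175668
theorem L404640 : N32674 = N20666 := eqc rfl L404639 rfl
theorem L404643 : sm gc N20666 = N22433 := trfs L404640 L276938 rfl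
theorem L404644 : N22433 = N15419 := eqes L404643 L175672
theorem L404645 : N22433 = N15419 := eqc rfl L404644 rfl
theorem L404661 : sm gj N15419 = N32680 := trfs L404645 L276979 rfl
theorem L404662 : N32680 = N22436 := eqes L404661 L190630
theorem L404663 : N32680 = N22436 := eqc rfl L404662 rfl
theorem L404668 : sm gg N22436 = N22573 := trfs L404663 L276986 rfl
theorem L404669 : N22573 = N15513 := eqes L404668 L190639
theorem L404670 : N22573 = N15513 := eqc rfl L404669 rfl
theorem L404680 : sm gj N15513 = N15510 := trfs L404670 (flp_j L191836) rfl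
theorem L404681 : N15510 = N10673 := eqes L404680 (flp_j L132181)
theorem L404682 : N15510 = N10673 := eqc rfl L404681 rfl
theorem L404685 : sm ga N10673 = N22562 := trfs L404682 (flp_a L191753) rfl
theorem L404686 : N22562 = N15506 := eqes L404685 (flp_a L132130)
theorem L404687 : N22562 = N15506 := eqc rfl L404686 rfl
theorem L404715 : sm gc N15506 = N32868 := trfs L404687 (flp_c L278648) rfl
theorem L404716 : N32868 = N20727 := eqes L404715 (flp_c L176202)
theorem L404717 : N32868 = N20727 := eqc rfl L404716 rfl
theorem L404726 : sm gd N20727 = N43983 := trfs L404717 (flp_d L372064) rfl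
theorem L404727 : N43983 = N30173 := eqes L404726 (flp_d L255881)
theorem L404728 : N43983 = N30173 := eqc rfl L404727 rfl
theorem L404737 : sm gg N30173 = N30170 := trfs L404728 (flp_g L372058) rfl
theorem L404738 : N30170 = N20725 := eqes L404737 (flp_g L255876)
theorem L404739 : N30170 = N20725 := eqc rfl L404738 rfl
theorem L404756 : sm gh N20725 = N43984 := trfs L404739 L372068 rfl
theorem L404757 : N43984 = N30174 := eqes L404756 L255885
theorem L404758 : N43984 = N30174 := eqc rfl L404757 rfl
theorem L404764 : sm gf N30174 = N30171 := trfs L404758 L372074 rfl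
theorem L404765 : N30171 = N20726 := eqes L404764 L255890
theorem L404766 : N30171 = N20726 := eqc rfl L404765 rfl
theorem L404779 : sm gi N20726 = N43986 := trfs L404766 L372085 rfl
theorem L404780 : N43986 = N30175 := eqes L404779 L255894
theorem L404781 : N43986 = N30175 := eqc rfl L404780 rfl
theorem L404782 : sm ga N30175 = N30181 := trfs L404781 L372087 rfl
theorem L404783 : N30181 = N20733 := eqes L404782 L255896
theorem L404784 : N30181 = N20733 := eqc rfl L404783 rfl
theorem L404789 : sm gb N20733 = N43967 := trfs L404784 (flp_b L371928) rfl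
theorem L404790 : N43967 = N14259 := eqes L404789 L176249
theorem L404791 : N43967 = N14259 := eqc rfl L404790 rfl
theorem L404817 : sm gi N14259 = N30158 := trfs L404791 (flp_i L371926) rfl
theorem L404818 : N30158 = N9821 := eqes L404817 (flp_i L121534)
theorem L404819 : N30158 = N9821 := eqc rfl L404818 rfl
theorem L404836 : sm gh N9821 = N20715 := trfs L404819 (flp_h L255750) rfl
theorem L404837 : N20715 = N6775 := eqes L404836 (flp_h L83971)
theorem L404838 : N20715 = N6775 := eqc rfl L404837 rfl
theorem L404845 : sm gc N6775 = N14244 := trfs L404838 (flp_c L176095) rfl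
theorem L404846 : N14244 = N9814 := eqes L404845 (flp_c L83914)
theorem L404847 : N14244 = N9814 := eqc rfl L404846 rfl
theorem L404856 : sm gj N6775 = N30067 := trfs L404838 (flp_j L254941) rfl
theorem L404857 : N30067 = N9791 := eqes L404856 (flp_j L83706)
theorem L404858 : N30067 = N9791 := eqc rfl L404857 rfl
theorem L404876 : sm gg N9791 = N43737 := trfs L404858 (flp_g L369871) rfl
theorem L404877 : N43737 = N14183 := eqes L404876 (flp_g L120856)
theorem L404878 : N43737 = N14183 := eqc rfl L404877 rfl
theorem L404887 : sm gd N14183 = N32524 := trfs L404878 L369877 rfl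
theorem L404888 : N32524 = N9772 := eqes L404887 (flp_d L120853)
theorem L404889 : N32524 = N9772 := eqc rfl L404888 rfl
theorem L404896 : sm gc N9772 = N22331 := trfs L404889 (flp_c L275531) rfl
theorem L404897 : N22331 = N6744 := eqes L404896 L83517
theorem L404898 : N22331 = N6744 := eqc rfl L404897 rfl
theorem L404921 : sm gh N6744 = N32526 := trfs L404898 L275547 rfl
theorem L404922 : N32526 = N4667 := eqes L404921 L57850
theorem L404923 : N32526 = N4667 := eqc rfl L404922 rfl
theorem L404929 : sm gg N4667 = N22419 := trfs L404923 L275551 rfl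
theorem L404930 : N22419 = N3239 := eqes L404929 L40191
theorem L404931 : N22419 = N3239 := eqc rfl L404930 rfl
theorem L404949 : sm gi N3239 = N32658 := trfs L404931 L276780 rfl
theorem L404950 : N32658 = N2252 := eqes L404949 L28031
theorem L404951 : N32658 = N2252 := eqc rfl L404950 rfl
theorem L404954 : sm gj N2252 = N22551 := trfs L404951 L276785 rfl
theorem L404955 : N22551 = N1573 := eqes L404954 L19579
theorem L404956 : N22551 = N1573 := eqc rfl L404955 rfl
theorem L404964 : sm ge N1573 = N32808 := trfs L404956 (flp_e L278140) rfl
theorem L404965 : N32808 = N1098 := eqes L404964 (flp_e L13743)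
theorem L404966 : N32808 = N1098 := eqc rfl L404965 rfl
theorem L404974 : sm gi N1098 = N22519 := trfs L404966 (flp_i L278136) rfl
theorem L404975 : N22519 = N1571 := eqes L404974 (flp_i L13734)
theorem L404976 : N22519 = N1571 := eqc rfl L404975 rfl
theorem L404993 : sm gh N1571 = N15475 := trfs L404976 (flp_h L191392) rfl
theorem L404994 : N15475 = N2254 := eqes L404993 (flp_h L19603)
theorem L404995 : N15475 = N2254 := eqc rfl L404994 rfl
theorem L405013 : sm gj N2254 = N22398 := trfs L404995 (flp_j L190280) rfl
theorem L405014 : N22398 = N3237 := eqes L405013 (flp_j L28010)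
theorem L405015 : N22398 = N3237 := eqc rfl L405014 rfl
theorem L405030 : sm gf N3237 = N32625 := trfs L405015 L276475 rfl
theorem L405031 : N32625 = N2260 := eqes L405030 L28008
theorem L405032 : N32625 = N2260 := eqc rfl L405031 rfl
theorem L405037 : sm gd N2260 = N22399 := trfs L405032 L276479 rfl
theorem L405038 : N22399 = N1574 := eqes L405037 (flp_d L19646)
theorem L405039 : N22399 = N1574 := eqc rfl L405038 rfl
theorem L405057 : sm gh N1574 = N32617 := trfs L405039 (flp_h L276401) rfl
theorem L405058 : N32617 = N1099 := eqes L405057 (flp_h L13751)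
theorem L405059 : N32617 = N1099 := eqc rfl L405058 rfl
theorem L405069 : sm gj N1099 = N22510 := trfs L405059 L276399 rfl
theorem L405070 : N22510 = N767 := eqes L405069 L9653
theorem L405071 : N22510 = N767 := eqc rfl L405070 rfl
theorem L405090 : sm gi N767 = N32783 := trfs L405071 (flp_i L277928) rfl
theorem L405091 : N32783 = N530 := eqes L405090 (flp_i L6756)
theorem L405092 : N32783 = N530 := eqc rfl L405091 rfl
theorem L405098 : sm gf N530 = N22504 := trfs L405092 (flp_f L277922) rfl
theorem L405099 : N22504 = N761 := eqes L405098 (flp_f L6702)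
theorem L405100 : N22504 = N761 := eqc rfl L405099 rfl
theorem L405116 : sm gj N761 = N32611 := trfs L405100 (flp_j L276339) rfl
theorem L405117 : N32611 = N1092 := eqes L405116 (flp_j L9578)
theorem L405118 : N32611 = N1092 := eqc rfl L405117 rfl
theorem L405125 : sm ge N1092 = N22389 := trfs L405118 (flp_e L276334) rfl
theorem L405126 : N22389 = N1565 := eqes L405125 L13660
theorem L405127 : N22389 = N1565 := eqc rfl L405126 rfl
theorem L405144 : sm gi N1565 = N15392 := trfs L405127 L190192 rfl
theorem L405145 : N15392 = N2248 := eqes L405144 L19532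
theorem L405146 : N15392 = N2248 := eqc rfl L405145 rfl
theorem L405163 : sm gh N2248 = N10597 := trfs L405146 L131101 rfl
theorem L405164 : N10597 = N3236 := eqes L405163 L27991
theorem L405165 : N10597 = N3236 := eqc rfl L405164 rfl
theorem L405181 : sm gj N3236 = N7343 := trfs L405165 L90533 rfl
theorem L405182 : N7343 = N2253 := eqes L405181 L28000
theorem L405183 : N7343 = N2253 := eqc rfl L405182 rfl
theorem L405192 : sm gd N2253 = N5077 := trfs L405183 L62991 rfl
theorem L405193 : N5077 = N3243 := eqes L405192 L28062
theorem L405194 : N5077 = N3243 := eqc rfl L405193 rfl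
theorem L405203 : sm gb N3243 = N3514 := trfs L405194 (flp_b L43733) rfl
theorem L405204 : N3514 = N2437 := eqes L405203 L28065
theorem L405205 : N3514 = N2437 := eqc rfl L405204 rfl
theorem L405206 : sm gc N3243 = N6770 := trfs L405194 (flp_c L58100) rfl
theorem L405207 : N6770 = N4682 := eqes L405206 L40330
theorem L405208 : N6770 = N4682 := eqc rfl L405207 rfl
theorem L405209 : sm ge N3243 = N7352 := trfs L405194 L63070 rfl
theorem L405210 : N7352 = N4683 := eqes L405209 L40338
theorem L405211 : N7352 = N4683 := eqc rfl L405210 rfl
theorem L405220 : sm gb N4683 = N5078 := trfs L405211 L63072 rfl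
theorem L405221 : N5078 = N3515 := eqes L405220 L40341
theorem L405222 : N5078 = N3515 := eqc rfl L405221 rfl
theorem L405223 : sm gc N4683 = N9813 := trfs L405211 (flp_c L83904) rfl
theorem L405224 : N9813 = N6771 := eqes L405223 (flp_c L58105)
theorem L405225 : N9813 = N6771 := eqc rfl L405224 rfl
theorem L405231 : sm gj N4683 = N10606 := trfs L405211 (flp_j L90622) rfl
theorem L405232 : N10606 = N6754 := eqes L405231 (flp_j L57942)
theorem L405233 : N10606 = N6754 := eqc rfl L405232 rfl
theorem L405239 : sm gb N6754 = N7315 := trfs L405233 L90620 rfl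
theorem L405240 : N7315 = N5054 := eqes L405239 L57940
theorem L405241 : N7315 = N5054 := eqc rfl L405240 rfl
theorem L405242 : sm gc N6754 = N14205 := trfs L405233 (flp_c L121057) rfl
theorem L405243 : N14205 = N9787 := eqes L405242 (flp_c L83661)
theorem L405244 : N14205 = N9787 := eqc rfl L405243 rfl
theorem L405247 : sm gf N6754 = N15409 := trfs L405233 L131261 rfl
theorem L405248 : N15409 = N9788 := eqes L405247 L83667
theorem L405249 : N15409 = N9788 := eqc rfl L405248 rfl
theorem L405264 : sm gg N9788 = N22420 := trfs L405249 L190485 rfl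
theorem L405265 : N22420 = N14208 := eqes L405264 L121082
theorem L405266 : N22420 = N14208 := eqc rfl L405265 rfl
theorem L405284 : sm gj N14208 = N32659 := trfs L405266 L276788 rfl
theorem L405285 : N32659 = N20660 := eqes L405284 L175607
theorem L405286 : N32659 = N20660 := eqc rfl L405285 rfl
theorem L405294 : sm gg N20660 = N22552 := trfs L405286 L276795 rfl
theorem L405295 : N22552 = N14249 := eqes L405294 L175617
theorem L405296 : N22552 = N14249 := eqc rfl L405295 rfl
theorem L405302 : sm gb N14249 = N15502 := trfs L405296 L191668 rfl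
theorem L405303 : N15502 = N10667 := eqes L405302 L121451
theorem L405304 : N15502 = N10667 := eqc rfl L405303 rfl
theorem L405313 : sm gj N14249 = N15497 := trfs L405296 (flp_j L191666) rfl
theorem L405314 : N15497 = N9816 := eqes L405313 (flp_j L121448)
theorem L405315 : N15497 = N9816 := eqc rfl L405314 rfl
theorem L405325 : sm gd N9816 = N22549 := trfs L405315 (flp_d L191648) rfl
theorem L405326 : N22549 = N6777 := eqes L405325 L83930
theorem L405327 : N22549 = N6777 := eqc rfl L405326 rfl
theorem L405340 : sm ge N6777 = N32853 := trfs L405327 (flp_e L278525) rfl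
theorem L405341 : N32853 = N4718 := eqes L405340 L58163
theorem L405342 : N32853 = N4718 := eqc rfl L405341 rfl
theorem L405356 : sm gg N4718 = N22548 := trfs L405342 (flp_g L278520) rfl
theorem L405357 : N22548 = N3266 := eqes L405356 (flp_g L40662)
theorem L405358 : N22548 = N3266 := eqc rfl L405357 rfl
theorem L405360 : sm ga N3266 = N32843 := trfs L405358 (flp_a L278439) rfl
theorem L405361 : N32843 = N3266 := eqes L405360 L28275
theorem L405362 : N32843 = N3266 := eqc rfl L405361 rfl
theorem L405415 : sm ge N3266 = N22543 := trfs L405362 (flp_e L278437) rfl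
theorem L405416 : N22543 = N4686 := eqes L405415 (flp_e L40376)
theorem L405417 : N22543 = N4686 := eqc rfl L405416 rfl
theorem L405434 : sm gh N4686 = N32845 := trfs L405417 L278455 rfl
theorem L405435 : N32845 = N3248 := eqes L405434 L40373
theorem L405436 : N32845 = N3248 := eqc rfl L405435 rfl
theorem L405441 : sm gf N3248 = N22544 := trfs L405436 L278461 rfl
theorem L405442 : N22544 = N2256 := eqes L405441 (flp_f L28107)
theorem L405443 : N22544 = N2256 := eqc rfl L405442 rfl
theorem L405448 : sm gc N2256 = N32842 := trfs L405443 (flp_c L278434) rfl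
theorem L405449 : N32842 = N3247 := eqes L405448 (flp_c L28102)
theorem L405450 : N32842 = N3247 := eqc rfl L405449 rfl
theorem L405461 : sm gh N3247 = N22542 := trfs L405450 (flp_h L278430) rfl
theorem L405462 : N22542 = N4685 := eqes L405461 (flp_h L40365)
theorem L405463 : N22542 = N4685 := eqc rfl L405462 rfl
theorem L405475 : sm gj N4685 = N32649 := trfs L405463 (flp_j L276707) rfl
theorem L405476 : N32649 = N6756 := eqes L405475 (flp_j L57965)
theorem L405477 : N32649 = N6756 := eqc rfl L405476 rfl
theorem L405480 : sm gc N6756 = N22415 := trfs L405477 (flp_c L276703) rfl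
theorem L405481 : N22415 = N4673 := eqes L405480 L57963
theorem L405482 : N22415 = N4673 := eqc rfl L405481 rfl
theorem L405486 : sm gb N4673 = N17018 := trfs L405482 L190446 rfl
theorem L405487 : N17018 = N3500 := eqes L405486 L40248
theorem L405488 : N17018 = N3500 := eqc rfl L405487 rfl
theorem L405513 : sm gh N3500 = N24753 := trfs L405488 L210379 rfl
theorem L405514 : N24753 = N2429 := eqes L405513 L30296
theorem L405515 : N24753 = N2429 := eqc rfl L405514 rfl
theorem L405533 : sm gi N2429 = N36054 := trfs L405515 L305522 rfl
theorem L405534 : N36054 = N1691 := eqes L405533 L21138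
theorem L405535 : N36054 = N1691 := eqc rfl L405534 rfl
theorem L405538 : sm gj N1691 = N25000 := trfs L405535 L305527 rfl
theorem L405539 : N25000 = N1184 := eqes L405538 L14794
theorem L405540 : N25000 = N1184 := eqc rfl L405539 rfl
theorem L405548 : sm ge N1184 = N36356 := trfs L405540 (flp_e L308030) rfl
theorem L405549 : N36356 = N823 := eqes L405548 (flp_e L10412)
theorem L405550 : N36356 = N823 := eqc rfl L405549 rfl
theorem L405558 : sm gi N823 = N24955 := trfs L405550 (flp_i L308026) rfl
theorem L405559 : N24955 = N1182 := eqes L405558 (flp_i L10401)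
theorem L405560 : N24955 = N1182 := eqc rfl L405559 rfl
theorem L405575 : sm gh N1182 = N17153 := trfs L405560 (flp_h L212043) rfl
theorem L405576 : N17153 = N1696 := eqes L405575 (flp_h L14846)
theorem L405577 : N17153 = N1696 := eqc rfl L405576 rfl
theorem L405587 : sm gf N1696 = N24954 := trfs L405577 L212036 rfl
theorem L405588 : N24954 = N1191 := eqes L405587 L14842
theorem L405589 : N24954 = N1191 := eqc rfl L405588 rfl
theorem L405611 : sm gj N1191 = N36008 := trfs L405589 (flp_j L305145) rfl
theorem L405612 : N36008 = N1703 := eqes L405611 (flp_j L14906)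
theorem L405613 : N36008 = N1703 := eqc rfl L405612 rfl
theorem L405617 : sm gd N1703 = N24725 := trfs L405613 L305143 rfl
theorem L405618 : N24725 = N1186 := eqes L405617 (flp_d L14901)
theorem L405619 : N24725 = N1186 := eqc rfl L405618 rfl
theorem L405637 : sm gh N1186 = N35997 := trfs L405619 (flp_h L305059) rfl
theorem L405638 : N35997 = N825 := eqes L405637 (flp_h L10431)
theorem L405639 : N35997 = N825 := eqc rfl L405638 rfl
theorem L405648 : sm gj N825 = N24943 := trfs L405639 L305057 rfl
theorem L405649 : N24943 = N573 := eqes L405648 L7293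
theorem L405650 : N24943 = N573 := eqc rfl L405649 rfl
theorem L405669 : sm gi N573 = N36324 := trfs L405650 (flp_i L307798) rfl
theorem L405670 : N36324 = N391 := eqes L405669 (flp_i L5069)
theorem L405671 : N36324 = N391 := eqc rfl L405670 rfl
theorem L405676 : sm gf N391 = N24935 := trfs L405671 (flp_f L307793) rfl
theorem L405677 : N24935 = N566 := eqes L405676 (flp_f L5008)
theorem L405678 : N24935 = N566 := eqc rfl L405677 rfl
theorem L405694 : sm gj N566 = N35989 := trfs L405678 (flp_j L304989) rfl
theorem L405695 : N35989 = N816 := eqes L405694 (flp_j L7205)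
theorem L405696 : N35989 = N816 := eqc rfl L405695 rfl
theorem L405702 : sm ge N816 = N24712 := trfs L405696 (flp_e L304985) rfl
theorem L405703 : N24712 = N1174 := eqes L405702 L10316
theorem L405704 : N24712 = N1174 := eqc rfl L405703 rfl
theorem L405721 : sm gi N1174 = N16995 := trfs L405704 L210049 rfl
theorem L405722 : N16995 = N1687 := eqes L405721 L14751
theorem L405723 : N16995 = N1687 := eqc rfl L405722 rfl
theorem L405740 : sm gh N1687 = N11702 := trfs L405723 L144910 rfl
theorem L405741 : N11702 = N2426 := eqes L405740 L21100
theorem L405742 : N11702 = N2426 := eqc rfl L405741 rfl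
theorem L405758 : sm gj N2426 = N8138 := trfs L405742 L100124 rfl
theorem L405759 : N8138 = N1695 := eqes L405758 L21107
theorem L405760 : N8138 = N1695 := eqc rfl L405759 rfl
theorem L405769 : sm gd N1695 = N5629 := trfs L405760 L69889 rfl
theorem L405770 : N5629 = N2437 := eqes L405769 L21211
theorem L405771 : N5629 = N2437 := eqc rfl L405770 rfl
theorem L405783 : sm ge N2437 = N8150 := trfs L405771 L69971 rfl
theorem L405784 : N8150 = N3515 := eqes L405783 L30427
theorem L405785 : N8150 = N3515 := eqc rfl L405784 rfl
theorem L405798 : sm gf N3515 = N11823 := trfs L405785 L101084 rfl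
theorem L405799 : N11823 = N5079 := eqes L405798 L43748
theorem L405800 : N11823 = N5079 := eqc rfl L405799 rfl
theorem L405814 : sm gj N5079 = N17019 := trfs L405800 (flp_j L145099) rfl
theorem L405815 : N17019 = N7316 := eqes L405814 (flp_j L62742)
theorem L405816 : N17019 = N7316 := eqc rfl L405815 rfl
theorem L405826 : sm gg N7316 = N24754 := trfs L405816 L210386 rfl
theorem L405827 : N24754 = N10609 := eqes L405826 L90646
theorem L405828 : N24754 = N10609 := eqc rfl L405827 rfl
theorem L405840 : sm gj N10609 = N36055 := trfs L405828 L305530 rfl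
theorem L405841 : N36055 = N15413 := eqes L405840 L131299
theorem L405842 : N36055 = N15413 := eqc rfl L405841 rfl
theorem L405849 : sm gg N15413 = N25001 := trfs L405842 L305538 rfl
theorem L405850 : N25001 = N10667 := eqes L405849 L131308
theorem L405851 : N25001 = N10667 := eqc rfl L405850 rfl
theorem L405860 : sm gd N10667 = N36420 := trfs L405851 (flp_d L308516) rfl
theorem L405861 : N36420 = N7362 := eqes L405860 L91176
theorem L405862 : N36420 = N7362 := eqc rfl L405861 rfl
theorem L405872 : sm gj N7362 = N24998 := trfs L405862 (flp_j L308512) rfl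
theorem L405873 : N24998 = N5084 := eqes L405872 (flp_j L63155)
theorem L405874 : N24998 = N5084 := eqc rfl L405873 rfl
theorem L405882 : sm ge N5084 = N36418 := trfs L405874 (flp_e L308503) rfl
theorem L405883 : N36418 = N3555 := eqes L405882 L43796
theorem L405884 : N36418 = N3555 := eqc rfl L405883 rfl
theorem L405895 : sm ga N3555 = N25007 := trfs L405884 L308500 rfl
theorem L405896 : N25007 = N2746 := eqes L405895 L30794
theorem L405897 : N25007 = N2746 := eqc rfl L405896 rfl
theorem L405902 : sm gc N2746 = N36424 := trfs L405897 (flp_c L308547) rfl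
theorem L405903 : N36424 = N3963 := eqes L405902 (flp_c L34307)
theorem L405904 : N36424 = N3963 := eqc rfl L405903 rfl
theorem L405923 : sm gg N3963 = N25002 := trfs L405904 (flp_g L308543) rfl
theorem L405924 : N25002 = N2745 := eqes L405923 (flp_g L34305)
theorem L405925 : N25002 = N2745 := eqc rfl L405924 rfl
theorem L405942 : sm gh N2745 = N36425 := trfs L405925 L308552 rfl
theorem L405943 : N36425 = N1911 := eqes L405942 L23897
theorem L405944 : N36425 = N1911 := eqc rfl L405943 rfl
theorem L405946 : sm gb N1911 = N25033 := trfs L405944 L308554 rfl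
theorem L405947 : N25033 = N2749 := eqes L405946 (flp_b L23929)
theorem L405948 : N25033 = N2749 := eqc rfl L405947 rfl
theorem L405951 : sm ga N2749 = N36454 := trfs L405948 (flp_a L308771) rfl
theorem L405952 : N36454 = N3966 := eqes L405951 (flp_a L34334)
theorem L405953 : N36454 = N3966 := eqc rfl L405952 rfl
theorem L405966 : sm gh N3966 = N25021 := trfs L405953 (flp_h L308769) rfl
theorem L405967 : N25021 = N5723 := eqes L405966 (flp_h L49311)
theorem L405968 : N25021 = N5723 := eqc rfl L405967 rfl
theorem L405970 : sm gb N5723 = N36447 := trfs L405968 (flp_b L308724) rfl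
theorem L405971 : N36447 = N7437 := eqes L405970 (flp_b L63843)
theorem L405972 : N36447 = N7437 := eqc rfl L405971 rfl
theorem L405999 : sm ge N7437 = N25019 := trfs L405972 (flp_e L308722) rfl
theorem L406000 : N25019 = N10669 := eqes L405999 (flp_e L91199)
theorem L406001 : N25019 = N10669 := eqc rfl L406000 rfl
theorem L406021 : sm gh N10669 = N36449 := trfs L406001 L308734 rfl
theorem L406022 : N36449 = N7364 := eqes L406021 L91196
theorem L406023 : N36449 = N7364 := eqc rfl L406022 rfl
theorem L406026 : sm gf N7364 = N25020 := trfs L406023 L308738 rfl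
theorem L406027 : N25020 = N5085 := eqes L406026 (flp_f L63175)
theorem L406028 : N25020 = N5085 := eqc rfl L406027 rfl
theorem L406033 : sm gc N5085 = N32866 := trfs L406028 (flp_c L278634) rfl
theorem L406034 : N32866 = N6778 := eqes L406033 (flp_c L58174)
theorem L406035 : N32866 = N6778 := eqc rfl L406034 rfl
theorem L406057 : sm gh N6778 = N22558 := trfs L406035 (flp_h L278630) rfl
theorem L406058 : N22558 = N9817 := eqes L406057 (flp_h L83944)
theorem L406059 : N22558 = N9817 := eqc rfl L406058 rfl
theorem L406073 : sm gj N9817 = N32665 := trfs L406059 (flp_j L276851) rfl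
theorem L406074 : N32665 = N14209 := eqes L406073 (flp_j L121099)
theorem L406075 : N32665 = N14209 := eqc rfl L406074 rfl
theorem L406081 : sm gd N14209 = N43839 := trfs L406075 (flp_d L370795) rfl
theorem L406082 : N43839 = N20661 := eqes L406081 L175619
theorem L406083 : N43839 = N20661 := eqc rfl L406082 rfl
theorem L406085 : sm gb N20661 = N30076 := trfs L406083 (flp_b L370793) rfl
theorem L406086 : N30076 = N20661 := eqes L406085 L175623
theorem L406087 : N30076 = N20661 := eqc rfl L406086 rfl
theorem L406098 : sm gg N20661 = N43746 := trfs L406087 (flp_g L369959) rfl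
theorem L406099 : N43746 = N30013 := eqes L406098 (flp_g L254459)
theorem L406100 : N43746 = N30013 := eqc rfl L406099 rfl
theorem L406106 : sm gd N30013 = N32533 := trfs L406100 L369963 rfl
theorem L406107 : N32533 = N20620 := eqes L406106 (flp_d L254454)
theorem L406108 : N32533 = N20620 := eqc rfl L406107 rfl
theorem L406113 : sm gc N20620 = N22337 := trfs L406108 (flp_c L275614) rfl
theorem L406114 : N22337 = N15356 := eqes L406113 L175246
theorem L406115 : N22337 = N15356 := eqc rfl L406114 rfl
theorem L406132 : sm gh N15356 = N32535 := trfs L406115 L275632 rfl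
theorem L406133 : N32535 = N10576 := eqes L406132 L130764
theorem L406134 : N32535 = N10576 := eqc rfl L406133 rfl
theorem L406141 : sm gg N10576 = N22428 := trfs L406134 L275638 rfl
theorem L406142 : N22428 = N7322 := eqes L406141 L90336
theorem L406143 : N22428 = N7322 := eqc rfl L406142 rfl
theorem L406153 : sm gj N7322 = N15505 := trfs L406143 L190567 rfl
theorem L406154 : N15505 = N5085 := eqes L406153 L62802
theorem L406155 : N15505 = N5085 := eqc rfl L406154 rfl
theorem L406196 : sm gh N5085 = N10668 := trfs L406155 (flp_h L132119) rfl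
theorem L406197 : N10668 = N7356 := eqes L406196 (flp_h L63111)
theorem L406198 : N10668 = N7356 := eqc rfl L406197 rfl
theorem L406203 : sm ge N7356 = N15481 := trfs L406198 (flp_e L131925) rfl
theorem L406204 : N15481 = N5080 := eqes L406203 (flp_e L63104)
theorem L406205 : N15481 = N5080 := eqc rfl L406204 rfl
theorem L406224 : sm gj N5080 = N22404 := trfs L406205 (flp_j L190340) rfl
theorem L406225 : N22404 = N7317 := eqes L406224 (flp_j L62751)
theorem L406226 : N22404 = N7317 := eqc rfl L406225 rfl
theorem L406240 : sm gf N7317 = N32634 := trfs L406226 L276561 rfl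
theorem L406241 : N32634 = N5106 := eqes L406240 L62749
theorem L406242 : N32634 = N5106 := eqc rfl L406241 rfl
theorem L406246 : sm ga N5106 = N22407 := trfs L406242 L276563 rfl
theorem L406247 : N22407 = N3533 := eqes L406246 (flp_a L43980)
theorem L406248 : N22407 = N3533 := eqc rfl L406247 rfl
theorem L406265 : sm gj N3533 = N15484 := trfs L406248 L190372 rfl
theorem L406266 : N15484 = N2461 := eqes L406265 L30589
theorem L406267 : N15484 = N2461 := eqc rfl L406266 rfl
theorem L406283 : sm gh N2461 = N22534 := trfs L406267 L191524 rfl
theorem L406284 : N22534 = N1712 := eqes L406283 L21431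
theorem L406285 : N22534 = N1712 := eqc rfl L406284 rfl
theorem L406295 : sm ge N1712 = N32829 := trfs L406285 (flp_e L278325) rfl
theorem L406296 : N32829 = N2465 := eqes L406295 L21462
theorem L406297 : N32829 = N2465 := eqc rfl L406296 rfl
theorem L406406 : sm gf N2465 = N22572 := trfs L406297 L278327 rfl
theorem L406407 : N22572 = N3558 := eqes L406406 L30821
theorem L406408 : N22572 = N3558 := eqc rfl L406407 rfl
theorem L406419 : sm gh N3558 = N15509 := trfs L406408 (flp_h L191830) rfl
theorem L406420 : N15509 = N5136 := eqes L406419 (flp_h L44270)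
theorem L406421 : N15509 = N5136 := eqc rfl L406420 rfl
theorem L406432 : sm gj N5136 = N22432 := trfs L406421 (flp_j L190599) rfl
theorem L406433 : N22432 = N7397 := eqes L406432 (flp_j L63461)
theorem L406434 : N22432 = N7397 := eqc rfl L406433 rfl
theorem L406436 : sm ga N7397 = N32668 := trfs L406434 (flp_a L276875) rfl
theorem L406437 : N32668 = N10728 := eqes L406436 (flp_a L91690)
theorem L406438 : N32668 = N10728 := eqc rfl L406437 rfl
theorem L406448 : sm gd N10728 = N22693 := trfs L406438 L276882 rfl
theorem L406449 : N22693 = N15592 := eqes L406448 (flp_d L132864)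
theorem L406450 : N22693 = N15592 := eqc rfl L406449 rfl
theorem L406464 : sm gj N15592 = N15687 := trfs L406450 L192866 rfl
theorem L406465 : N15687 = N10791 := eqes L406464 L132866
theorem L406466 : N15687 = N10791 := eqc rfl L406465 rfl
theorem L406480 : sm gh N10791 = N22839 := trfs L406466 L194231 rfl
theorem L406481 : N22839 = N15689 := eqes L406480 L133778
theorem L406482 : N22839 = N15689 := eqc rfl L406481 rfl
theorem L406493 : sm gf N15689 = N33242 := trfs L406482 (flp_f L281981) rfl
theorem L406494 : N33242 = N10792 := eqes L406493 L133784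
theorem L406495 : N33242 = N10792 := eqc rfl L406494 rfl
theorem L406503 : sm ge N10792 = N22811 := trfs L406495 L281979 rfl
theorem L406504 : N22811 = N15670 := eqes L406503 (flp_e L133617)
theorem L406505 : N22811 = N15670 := eqc rfl L406504 rfl
theorem L406518 : sm gh N15670 = N15669 := trfs L406505 (flp_h L193985) rfl
theorem L406519 : N15669 = N10779 := eqes L406518 (flp_h L133611)
theorem L406520 : N15669 = N10779 := eqc rfl L406519 rfl
theorem L406529 : sm gd N10779 = N10780 := trfs L406520 L133608 rfl
theorem L406530 : N10780 = N7429 := eqes L406529 (flp_d L92176)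
theorem L406531 : N10780 = N7429 := eqc rfl L406530 rfl
theorem L406547 : sm gj N7429 = N15581 := trfs L406531 (flp_j L132757) rfl
theorem L406548 : N15581 = N10720 := eqes L406547 (flp_j L91614)
theorem L406549 : N15581 = N10720 := eqc rfl L406548 rfl
theorem L406560 : sm gg N10720 = N22677 := trfs L406549 L192707 rfl
theorem L406561 : N22677 = N10720 := eqes L406560 L91613
theorem L406562 : N22677 = N10720 := eqc rfl L406561 rfl
theorem L406565 : sm ga N10720 = N15585 := trfs L406562 L192709 rfl
theorem L406566 : N15585 = N7391 := eqes L406565 L91608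
theorem L406567 : N15585 = N7391 := eqc rfl L406566 rfl
theorem L406589 : sm gj N7391 = N22684 := trfs L406567 L192773 rfl
theorem L406590 : N22684 = N5130 := eqes L406589 L63403
theorem L406591 : N22684 = N5130 := eqc rfl L406590 rfl
theorem L406603 : sm gg N5130 = N15678 := trfs L406591 L192781 rfl
theorem L406604 : N15678 = N3575 := eqes L406603 L44216
theorem L406605 : N15678 = N3575 := eqc rfl L406604 rfl
theorem L406618 : sm gj N3575 = N10784 := trfs L406605 (flp_j L133682) rfl
theorem L406619 : N10784 = N3575 := eqes L406618 L30971
theorem L406620 : N10784 = N3575 := eqc rfl L406619 rfl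
theorem L406634 : sm gf N3575 = N7493 := trfs L406620 L92228 rfl
theorem L406635 : N7493 = N5170 := eqes L406634 L44561
theorem L406636 : N7493 = N5170 := eqc rfl L406635 rfl
theorem L406647 : sm gd N5170 = N10874 := trfs L406636 (flp_d L93017) rfl
theorem L406648 : N10874 = N7491 := eqes L406647 (flp_d L64312)
theorem L406649 : N10874 = N7491 := eqc rfl L406648 rfl
theorem L406668 : sm gh N7491 = N15816 := trfs L406649 L134881 rfl
theorem L406669 : N15816 = N10875 := eqes L406668 L93020
theorem L406670 : N15816 = N10875 := eqc rfl L406669 rfl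
theorem L406690 : sm gi N10875 = N23030 := trfs L406670 L195871 rfl
theorem L406691 : N23030 = N15817 := eqes L406690 L134888
theorem L406692 : N23030 = N15817 := eqc rfl L406691 rfl
theorem L406704 : sm gf N15817 = N33261 := trfs L406692 (flp_f L282143) rfl
theorem L406705 : N33261 = N10876 := eqes L406704 L134893
theorem L406706 : N33261 = N10876 := eqc rfl L406705 rfl
theorem L406743 : sm gg N10876 = N22823 := trfs L406706 L282145 rfl
theorem L406744 : N22823 = N15677 := eqes L406743 (flp_g L133679)
theorem L406745 : N22823 = N15677 := eqc rfl L406744 rfl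
theorem L406758 : sm gj N15677 = N33054 := trfs L406745 (flp_j L280210) rfl
theorem L406759 : N33054 = N22683 := eqes L406758 (flp_j L192770)
theorem L406760 : N33054 = N22683 := eqc rfl L406759 rfl
theorem L406767 : sm gi N22683 = N22682 := trfs L406760 (flp_i L280203) rfl
theorem L406768 : N22682 = N15584 := eqes L406767 (flp_i L192762)
theorem L406769 : N22682 = N15584 := eqc rfl L406768 rfl
theorem L406782 : sm gh N15584 = N15583 := trfs L406769 (flp_h L192753) rfl
theorem L406783 : N15583 = N10721 := eqes L406782 (flp_h L132780)
theorem L406784 : N15583 = N10721 := eqc rfl L406783 rfl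
theorem L406787 : sm gc N10721 = N22678 := trfs L406784 (flp_c L192720) rfl
theorem L406788 : N22678 = N15582 := eqes L406787 L132761
theorem L406789 : N22678 = N15582 := eqc rfl L406788 rfl
theorem L406808 : sm gj N15582 = N15672 := trfs L406789 L192723 rfl
theorem L406809 : N15672 = N10781 := eqes L406808 L132766
theorem L406810 : N15672 = N10781 := eqc rfl L406809 rfl
theorem L406824 : sm gh N10781 = N22816 := trfs L406810 L194034 rfl
theorem L406825 : N22816 = N15673 := eqes L406824 L133640
theorem L406826 : N22816 = N15673 := eqc rfl L406825 rfl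
theorem L406834 : sm ge N15673 = N33248 := trfs L406826 (flp_e L282035) rfl
theorem L406835 : N33248 = N10795 := eqes L406834 L133645
theorem L406836 : N33248 = N10795 := eqc rfl L406835 rfl
theorem L406849 : sm gf N10795 = N22845 := trfs L406836 L282037 rfl
theorem L406850 : N22845 = N15694 := eqes L406849 (flp_f L133829)
theorem L406851 : N22845 = N15694 := eqc rfl L406850 rfl
theorem L406862 : sm gh N15694 = N15692 := trfs L406851 (flp_h L194285) rfl
theorem L406863 : N15692 = N10794 := eqes L406862 (flp_h L133824)
theorem L406864 : N15692 = N10794 := eqc rfl L406863 rfl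
theorem L406875 : sm gj N10794 = N22698 := trfs L406864 (flp_j L192920) rfl
theorem L406876 : N22698 = N15595 := eqes L406875 (flp_j L132895)
theorem L406877 : N22698 = N15595 := eqc rfl L406876 rfl
theorem L406882 : sm gd N15595 = N33074 := trfs L406877 L280404 rfl
theorem L406883 : N33074 = N20805 := eqes L406882 (flp_d L176832)
theorem L406884 : N33074 = N20805 := eqc rfl L406883 rfl
theorem L406891 : sm ge N20805 = N44164 := trfs L406884 (flp_e L373549) rfl
theorem L406892 : N44164 = N30293 := eqes L406891 L256852
theorem L406893 : N44164 = N30293 := eqc rfl L406892 rfl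
theorem L406899 : sm gj N30293 = N30413 := trfs L406893 L373546 rfl
theorem L406900 : N30413 = N20886 := eqes L406899 L256857
theorem L406901 : N30413 = N20886 := eqc rfl L406900 rfl
theorem L406907 : sm gc N20886 = N43992 := trfs L406901 (flp_c L372145) rfl
theorem L406908 : N43992 = N14360 := eqes L406907 L177585
theorem L406909 : N43992 = N14360 := eqc rfl L406908 rfl
theorem L406937 : sm gd N14360 = N30177 := trfs L406909 (flp_d L372141) rfl
theorem L406938 : N30177 = N20730 := eqes L406937 (flp_d L176228)
theorem L406939 : N30177 = N20730 := eqc rfl L406938 rfl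
theorem L406949 : sm gb N20730 = N43963 := trfs L406939 (flp_b L371894) rfl
theorem L406950 : N43963 = N14256 := eqes L406949 L176225
theorem L406951 : N43963 = N14256 := eqc rfl L406950 rfl
theorem L406975 : sm gc N14256 = N30159 := trfs L406951 L371896 rfl
theorem L406976 : N30159 = N20719 := eqes L406975 (flp_c L176131)
theorem L406977 : N30159 = N20719 := eqc rfl L406976 rfl
theorem L406996 : sm gh N20719 = N43969 := trfs L406977 L371943 rfl
theorem L406997 : N43969 = N30165 := eqes L406996 L255807
theorem L406998 : N43969 = N30165 := eqc rfl L406997 rfl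
theorem L407001 : sm ge N30165 = N30161 := trfs L406998 L371947 rfl
theorem L407002 : N30161 = N20721 := eqes L407001 L255812
theorem L407003 : N30161 = N20721 := eqc rfl L407002 rfl
theorem L407015 : sm gj N20721 = N43831 := trfs L407003 (flp_j L370722) rfl
theorem L407016 : N43831 = N30073 := eqes L407015 (flp_j L254999)
theorem L407017 : N43831 = N30073 := eqc rfl L407016 rfl
theorem L407031 : sm gh N30073 = N30068 := trfs L407017 (flp_h L370716) rfl
theorem L407032 : N30068 = N20657 := eqes L407031 (flp_h L254992)
theorem L407033 : N30068 = N20657 := eqc rfl L407032 rfl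
theorem L407034 : sm ga N20657 = N43824 := trfs L407033 (flp_a L370653) rfl
theorem L407035 : N43824 = N20657 := eqes L407034 L175582
theorem L407036 : N43824 = N20657 := eqc rfl L407035 rfl
theorem L407057 : sm gj N20657 = N30154 := trfs L407036 L370658 rfl
theorem L407058 : N30154 = N14246 := eqes L407057 L175587
theorem L407059 : N30154 = N14246 := eqc rfl L407058 rfl
theorem L407067 : sm gd N14246 = N20714 := trfs L407059 L255719 rfl
theorem L407068 : N20714 = N9815 := eqes L407067 L121428
theorem L407069 : N20714 = N9815 := eqc rfl L407068 rfl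
theorem L407071 : sm gf N14246 = N20713 := trfs L407059 (flp_f L255714) rfl
theorem L407072 : N20713 = N9814 := eqes L407071 (flp_f L121423)
theorem L407073 : N20713 = N9814 := eqc rfl L407072 rfl
theorem L407135 : sm gd N9814 = N14243 := trfs L407073 (flp_d L176077) rfl
theorem L407136 : N14243 = N6771 := eqes L407135 (flp_d L83909)
theorem L407137 : N14243 = N6771 := eqc rfl L407136 rfl
theorem L407181 : sm gj N6771 = N20654 := trfs L407137 (flp_j L175557) rfl
theorem L407182 : N20654 = N9787 := eqes L407181 (flp_j L83663)
theorem L407183 : N20654 = N9787 := eqc rfl L407182 rfl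
theorem L407195 : sm gg N9787 = N30006 := trfs L407183 (flp_g L254391) rfl
theorem L407196 : N30006 = N14179 := eqes L407195 (flp_g L120813)
theorem L407197 : N30006 = N14179 := eqc rfl L407196 rfl
theorem L407214 : sm gf N14179 = N43736 := trfs L407197 L369858 rfl
theorem L407215 : N43736 = N20618 := eqes L407214 L175222
theorem L407216 : N43736 = N20618 := eqc rfl L407215 rfl
theorem L407225 : sm gc N20618 = N32523 := trfs L407216 L369863 rfl
theorem L407226 : N32523 = N14180 := eqes L407225 L175225
theorem L407227 : N32523 = N14180 := eqc rfl L407226 rfl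
theorem L407234 : sm gb N14180 = N24591 := trfs L407227 L275526 rfl
theorem L407235 : N24591 = N10570 := eqes L407234 L120821
theorem L407236 : N24591 = N10570 := eqc rfl L407235 rfl
theorem L407244 : sm gc N10570 = N10570 := trfs L407236 L208994 L407236
theorem L407245 : N10570 = N15354 := eqes L407244 (flp_c L130740)
theorem L407246 : N15354 = N10570 := (eqc rfl L407245 rfl).symm
theorem L407253 : sm gf N10570 = N16910 := trfs L407236 (flp_f L208990) rfl
theorem L407254 : N16910 = N7291 := eqes L407253 (flp_f L90271)
theorem L407255 : N16910 = N7291 := eqc rfl L407254 rfl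
theorem L407264 : sm gc N7291 = N7291 := trfs L407255 L144170 L407255
theorem L407265 : N7291 = N10569 := eqes L407264 (flp_c L90264)
theorem L407266 : N10569 = N7291 := (eqc rfl L407265 rfl).symm
theorem L407268 : sm ge N7291 = N11643 := trfs L407255 (flp_e L144166) rfl
theorem L407269 : N11643 = N5037 := eqes L407268 (flp_e L62490)
theorem L407270 : N11643 = N5037 := eqc rfl L407269 rfl
theorem L407281 : sm gc N5037 = N5037 := trfs L407270 L99605 L407270
theorem L407282 : N5037 = N7290 := eqes L407281 L62481
theorem L407283 : N7290 = N5037 := (eqc rfl L407282 rfl).symm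
theorem L407285 : sm gf N5037 = N16905 := trfs L407270 (flp_f L144127) rfl
theorem L407286 : N16905 = N7289 := eqes L407285 (flp_f L62475)
theorem L407287 : N16905 = N7289 := eqc rfl L407286 rfl
theorem L407298 : sm gc N7289 = N7289 := trfs L407287 L144126 L407287
theorem L407299 : N7289 = N10566 := eqes L407298 L90234
theorem L407300 : N10566 = N7289 := (eqc rfl L407299 rfl).symm
theorem L407304 : sm ge N7289 = N24583 := trfs L407287 L208924 rfl
theorem L407305 : N24583 = N10567 := eqes L407304 L90244
theorem L407306 : N24583 = N10567 := eqc rfl L407305 rfl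
theorem L407317 : sm gc N10567 = N10567 := trfs L407306 L208928 L407306
theorem L407318 : N10567 = N15349 := eqes L407317 (flp_c L130692)
theorem L407319 : N15349 = N10567 := (eqc rfl L407318 rfl).symm
theorem L407320 : sm gd N10567 = N35795 := trfs L407306 L303321 rfl
theorem L407321 : N35795 = N10567 := eqes L407320 L90252
theorem L407322 : N35795 = N10567 := eqc rfl L407321 rfl
theorem L407328 : sm ga N10567 = N24584 := trfs L407322 L303323 rfl
theorem L407329 : N24584 = N8031 := eqes L407328 L90246
theorem L407330 : N24584 = N8031 := eqc rfl L407329 rfl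
theorem L407349 : sm gh N8031 = N35799 := trfs L407330 L303353 rfl
theorem L407350 : N35799 = N8031 := eqes L407349 L68989
theorem L407351 : N35799 = N8031 := eqc rfl L407350 rfl
theorem L407353 : sm gb N8031 = N24587 := trfs L407351 L303355 rfl
theorem L407354 : N24587 = N8031 := eqes L407353 L68986
theorem L407355 : N24587 = N8031 := eqc rfl L407354 rfl
theorem L407362 : sm gc N8031 = N8031 := trfs L407355 L208959 L407355
theorem L407363 : N8031 = N11641 := eqes L407362 (flp_c L99588)
theorem L407364 : N11641 = N8031 := (eqc rfl L407363 rfl).symm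
theorem L407369 : sm gf N8031 = N35803 := trfs L407355 (flp_f L303387) rfl
theorem L407370 : N35803 = N11642 := eqes L407369 L99594
theorem L407371 : N35803 = N11642 := eqc rfl L407370 rfl
theorem L407384 : sm gc N11642 = N11642 := trfs L407371 L303386 L407371
theorem L407385 : N11642 = N16908 := eqes L407384 (flp_c L144150)
theorem L407386 : N16908 = N11642 := (eqc rfl L407385 rfl).symm
theorem L407389 : sm gh N11642 = N24586 := trfs L407371 (flp_h L303384) rfl
theorem L407390 : N24586 = N11642 := eqes L407389 L99599
theorem L407391 : N24586 = N11642 := eqc rfl L407390 rfl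
theorem L407403 : sm gg N11642 = N35802 := trfs L407391 L303377 rfl
theorem L407404 : N35802 = N16909 := eqes L407403 L144157
theorem L407405 : N35802 = N16909 := eqc rfl L407404 rfl
theorem L407408 : sm gc N16909 = N16909 := trfs L407405 L303379 L407405
theorem L407409 : N16909 = N24588 := eqes L407408 (flp_c L208965)
theorem L407410 : N24588 = N16909 := (eqc rfl L407409 rfl).symm
theorem L407414 : sm ga N16909 = N32520 := trfs L407410 (flp_a L275492) rfl
theorem L407415 : N32520 = N22329 := eqes L407414 (flp_a L189632)
theorem L407416 : N32520 = N22329 := eqc rfl L407415 rfl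
theorem L407462 : sm gg N22329 = N22328 := trfs L407416 (flp_g L275490) rfl
theorem L407463 : N22328 = N15350 := eqes L407462 (flp_g L189630)
theorem L407464 : N22328 = N15350 := eqc rfl L407463 rfl
theorem L407468 : sm gb N15350 = N32517 := trfs L407464 (flp_b L275466) rfl
theorem L407469 : N32517 = N20614 := eqes L407468 (flp_b L175182)
theorem L407470 : N32517 = N20614 := eqc rfl L407469 rfl
theorem L407482 : sm gf N20614 = N22326 := trfs L407470 (flp_f L275464) rfl
theorem L407483 : N22326 = N14177 := eqes L407482 (flp_f L175179)
theorem L407484 : N22326 = N14177 := eqc rfl L407483 rfl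
theorem L407496 : sm ge N14177 = N15348 := trfs L407484 (flp_e L189603) rfl
theorem L407497 : N15348 = N9768 := eqes L407496 (flp_e L120788)
theorem L407498 : N15348 = N9768 := eqc rfl L407497 rfl
theorem L407508 : sm gd N9768 = N22310 := trfs L407498 (flp_d L189445) rfl
theorem L407509 : N22310 = N6741 := eqes L407508 (flp_d L83470)
theorem L407510 : N22310 = N6741 := eqc rfl L407509 rfl
theorem L407511 : sm gf N9768 = N10568 := trfs L407498 L130682 rfl
theorem L407512 : N10568 = N6742 := eqes L407511 L83475
theorem L407513 : N10568 = N6742 := eqc rfl L407512 rfl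
theorem L407520 : sm gc N6742 = N14178 := trfs L407513 (flp_c L120806) rfl
theorem L407521 : N14178 = N9769 := eqes L407520 L83481
theorem L407522 : N14178 = N9769 := eqc rfl L407521 rfl
theorem L407530 : sm gb N9769 = N9769 := trfs L407522 (flp_b L120798) rfl
theorem L407534 : sm gg N9769 = N9786 := trfs L407522 L120801 rfl
theorem L407535 : N9786 = N6753 := eqes L407534 L83484
theorem L407536 : N9786 = N6753 := eqc rfl L407535 rfl
theorem L407541 : sm gb N6753 = N6753 := trfs L407536 (flp_b L83648) rfl
theorem L407562 : sm gh N6741 = N32481 := trfs L407510 (flp_h L275115) rfl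
theorem L407563 : N32481 = N4663 := eqes L407562 (flp_h L57809)
theorem L407564 : N32481 = N4663 := eqc rfl L407563 rfl
theorem L407566 : sm gb N4663 = N22303 := trfs L407564 (flp_b L275108) rfl
theorem L407567 : N22303 = N3486 := eqes L407566 L40144
theorem L407568 : N22303 = N3486 := eqc rfl L407567 rfl
theorem L407590 : sm gi N3486 = N32479 := trfs L407568 (flp_i L275095) rfl
theorem L407591 : N32479 = N2417 := eqes L407590 (flp_i L30145)
theorem L407592 : N32479 = N2417 := eqc rfl L407591 rfl
theorem L407600 : sm gf N2417 = N22305 := trfs L407592 L275090 rfl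
theorem L407601 : N22305 = N1681 := eqes L407600 (flp_f L21009)
theorem L407602 : N22305 = N1681 := eqc rfl L407601 rfl
theorem L407614 : sm ge N1681 = N32485 := trfs L407602 L275148 rfl
theorem L407615 : N32485 = N1170 := eqes L407614 (flp_e L14688)
theorem L407616 : N32485 = N1170 := eqc rfl L407615 rfl
theorem L407630 : sm gi N1170 = N22308 := trfs L407616 L275158 rfl
theorem L407631 : N22308 = N1682 := eqes L407630 L14697
theorem L407632 : N22308 = N1682 := eqc rfl L407631 rfl
theorem L407653 : sm gh N1682 = N15341 := trfs L407632 L189432 rfl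
theorem L407654 : N15341 = N2419 := eqes L407653 L21028
theorem L407655 : N15341 = N2419 := eqc rfl L407654 rfl
theorem L407672 : sm gg N2419 = N10598 := trfs L407655 L130614 rfl
theorem L407673 : N10598 = N1688 := eqes L407672 L21033
theorem L407674 : N10598 = N1688 := eqc rfl L407673 rfl
theorem L407687 : sm gj N1688 = N7344 := trfs L407674 L90543 rfl
theorem L407688 : N7344 = N1181 := eqes L407687 L14767
theorem L407689 : N7344 = N1181 := eqc rfl L407688 rfl
theorem L407703 : sm gh N1181 = N10647 := trfs L407689 (flp_h L91004) rfl
theorem L407704 : N10647 = N821 := eqes L407703 (flp_h L10386)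
theorem L407705 : N10647 = N821 := eqc rfl L407704 rfl
theorem L407717 : sm ge N821 = N7341 := trfs L407705 (flp_e L90997) rfl
theorem L407718 : N7341 = N1180 := eqes L407717 (flp_e L10382)
theorem L407719 : N7341 = N1180 := eqc rfl L407718 rfl
theorem L407736 : sm gi N1180 = N10644 := trfs L407719 (flp_i L90976) rfl
theorem L407737 : N10644 = N820 := eqes L407736 (flp_i L10377)
theorem L407738 : N10644 = N820 := eqc rfl L407737 rfl
theorem L407743 : sm gc N820 = N7340 := trfs L407738 (flp_c L90969) rfl
theorem L407744 : N7340 = N1178 := eqes L407743 (flp_c L10361)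
theorem L407745 : N7340 = N1178 := eqc rfl L407744 rfl
theorem L407764 : sm gj N1178 = N10594 := trfs L407745 (flp_j L90503) rfl
theorem L407765 : N10594 = N1685 := eqes L407764 (flp_j L14735)
theorem L407766 : N10594 = N1685 := eqc rfl L407765 rfl
theorem L407783 : sm gi N1685 = N7308 := trfs L407766 L90505 rfl
theorem L407784 : N7308 = N2424 := eqes L407783 L21076
theorem L407785 : N7308 = N2424 := eqc rfl L407784 rfl
theorem L407791 : sm gd N2424 = N5049 := trfs L407785 (flp_d L62657) rfl
theorem L407792 : N5049 = N3495 := eqes L407791 (flp_d L30240)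
theorem L407793 : N5049 = N3495 := eqc rfl L407792 rfl
theorem L407802 : sm gh N2424 = N5050 := trfs L407785 L62665 rfl
theorem L407803 : N5050 = N3496 := eqes L407802 L30246
theorem L407804 : N5050 = N3496 := eqc rfl L407803 rfl
theorem L407816 : sm gj N3496 = N3511 := trfs L407804 L43481 rfl
theorem L407817 : N3511 = N2435 := eqes L407816 L30256
theorem L407818 : N3511 = N2435 := eqc rfl L407817 rfl
theorem L407820 : sm ga N2435 = N2699 := trfs L407818 L30394 rfl
theorem L407821 : N2699 = N1877 := eqes L407820 L21191
theorem L407822 : N2699 = N1877 := eqc rfl L407821 rfl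
theorem L407844 : sm gh N1877 = N3890 := trfs L407822 (flp_h L33734) rfl
theorem L407845 : N3890 = N1306 := eqes L407844 (flp_h L16442)
theorem L407846 : N3890 = N1306 := eqc rfl L407845 rfl
theorem L407853 : sm gd N1306 = N2698 := trfs L407846 (flp_d L33730) rfl
theorem L407854 : N2698 = N1876 := eqes L407853 (flp_d L16437)
theorem L407855 : N2698 = N1876 := eqc rfl L407854 rfl
theorem L407856 : sm ge N1306 = N5620 := trfs L407846 L48483 rfl
theorem L407857 : N5620 = N909 := eqes L407856 L11498
theorem L407858 : N5620 = N909 := eqc rfl L407857 rfl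
theorem L407877 : sm gi N909 = N8134 := trfs L407858 (flp_i L69864) rfl
theorem L407878 : N8134 = N628 := eqes L407877 (flp_i L8039)
theorem L407879 : N8134 = N628 := eqc rfl L407878 rfl
theorem L407893 : sm gj N628 = N11698 := trfs L407879 (flp_j L100089) rfl
theorem L407894 : N11698 = N902 := eqes L407893 (flp_j L7983)
theorem L407895 : N11698 = N902 := eqc rfl L407894 rfl
theorem L407909 : sm gg N902 = N16886 := trfs L407895 (flp_g L143974) rfl
theorem L407910 : N16886 = N1290 := eqes L407909 (flp_g L11360)
theorem L407911 : N16886 = N1290 := eqc rfl L407910 rfl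
theorem L407928 : sm gi N1290 = N11629 := trfs L407911 L143978 rfl
theorem L407929 : N11629 = N1853 := eqes L407928 L16233
theorem L407930 : N11629 = N1853 := eqc rfl L407929 rfl
theorem L407945 : sm gh N1853 = N8026 := trfs L407930 L99495 rfl
theorem L407946 : N8026 = N2665 := eqes L407945 L23228
theorem L407947 : N8026 = N2665 := eqc rfl L407946 rfl
theorem L407962 : sm gg N2665 = N5578 := trfs L407947 L68945 rfl
theorem L407963 : N5578 = N1864 := eqes L407962 L23233
theorem L407964 : N5578 = N1864 := eqc rfl L407963 rfl
theorem L407976 : sm gf N1864 = N8073 := trfs L407964 L69348 rfl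
theorem L407977 : N8073 = N1316 := eqes L407976 L16333
theorem L407978 : N8073 = N1316 := eqc rfl L407977 rfl
theorem L407999 : sm gh N1316 = N11701 := trfs L407978 (flp_h L100116) rfl
theorem L408000 : N11701 = N916 := eqes L407999 (flp_h L11574)
theorem L408001 : N11701 = N916 := eqc rfl L408000 rfl
theorem L408015 : sm gg N916 = N16999 := trfs L408001 L144935 rfl
theorem L408016 : N16999 = N916 := eqes L408015 L8099
theorem L408017 : N16999 = N916 := eqc rfl L408016 rfl
theorem L408038 : sm gi N916 = N24716 := trfs L408017 (flp_i L210083) rfl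
theorem L408039 : N24716 = N633 := eqes L408038 (flp_i L8093)
theorem L408040 : N24716 = N633 := eqc rfl L408039 rfl
theorem L408056 : sm gj N633 = N35995 := trfs L408040 L305037 rfl
theorem L408057 : N35995 = N438 := eqes L408056 L5608
theorem L408058 : N35995 = N438 := eqc rfl L408057 rfl
theorem L408062 : sm gg N438 = N24941 := trfs L408058 L305044 rfl
theorem L408063 : N24941 = N301 := eqes L408062 L3890
theorem L408064 : N24941 = N301 := eqc rfl L408063 rfl
theorem L408083 : sm gi N301 = N17152 := trfs L408064 L211953 rfl
theorem L408084 : N17152 = N443 := eqes L408083 L3927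
theorem L408085 : N17152 = N443 := eqc rfl L408084 rfl
theorem L408102 : sm gh N443 = N11810 := trfs L408085 L146199 rfl
theorem L408103 : N11810 = N644 := eqes L408102 L5694
theorem L408104 : N11810 = N644 := eqc rfl L408103 rfl
theorem L408120 : sm gj N644 = N8142 := trfs L408104 (flp_j L100991) rfl
theorem L408121 : N8142 = N644 := eqes L408120 L5700
theorem L408122 : N8142 = N644 := eqc rfl L408121 rfl
theorem L408133 : sm gd N644 = N5628 := trfs L408122 L69916 rfl
theorem L408134 : N5628 = N930 := eqes L408133 L8206
theorem L408135 : N5628 = N930 := eqc rfl L408134 rfl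
theorem L408154 : sm gg N930 = N3895 := trfs L408135 (flp_g L48538) rfl
theorem L408155 : N3895 = N1324 := eqes L408154 (flp_g L11646)
theorem L408156 : N3895 = N1324 := eqc rfl L408155 rfl
theorem L408173 : sm gf N1324 = N2701 := trfs L408156 (flp_f L33765) rfl
theorem L408174 : N2701 = N1878 := eqes L408173 (flp_f L16453)
theorem L408175 : N2701 = N1878 := eqc rfl L408174 rfl
theorem L408185 : sm gc N1878 = N3894 := trfs L408175 (flp_c L33760) rfl
theorem L408186 : N3894 = N2700 := eqes L408185 L23531
theorem L408187 : N3894 = N2700 := eqc rfl L408186 rfl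
theorem L408202 : sm gj N2700 = N5580 := trfs L408187 (flp_j L48152) rfl
theorem L408203 : N5580 = N3863 := eqes L408202 (flp_j L33504)
theorem L408204 : N5580 = N3863 := eqc rfl L408203 rfl
theorem L408216 : sm gf N3863 = N8077 := trfs L408204 L69381 rfl
theorem L408217 : N8077 = N2720 := eqes L408216 L33502
theorem L408218 : N8077 = N2720 := eqc rfl L408217 rfl
theorem L408229 : sm gg N2720 = N11712 := trfs L408218 L100198 rfl
theorem L408230 : N11712 = N2720 := eqes L408229 L23685
theorem L408231 : N11712 = N2720 := eqc rfl L408230 rfl
theorem L408237 : sm gc N2720 = N8078 := trfs L408231 L100200 rfl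
theorem L408238 : N8078 = N1891 := eqes L408237 (flp_c L23683)
theorem L408239 : N8078 = N1891 := eqc rfl L408238 rfl
theorem L408260 : sm gj N1891 = N11713 := trfs L408239 L100206 rfl
theorem L408261 : N11713 = N1324 := eqes L408260 L16553
theorem L408262 : N11713 = N1324 := eqc rfl L408261 rfl
theorem L408274 : sm gf N1324 = N16904 := trfs L408262 (flp_f L144119) rfl
theorem L408275 : N16904 = N1878 := eqes L408274 (flp_f L16453)
theorem L408276 : N16904 = N1878 := eqc rfl L408275 rfl
theorem L408285 : sm gd N1878 = N24571 := trfs L408276 (flp_d L208826) rfl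
theorem L408286 : N24571 = N1307 := eqes L408285 (flp_d L16451)
theorem L408287 : N24571 = N1307 := eqc rfl L408286 rfl
theorem L408307 : sm gj N1307 = N16897 := trfs L408287 (flp_j L208824) rfl
theorem L408308 : N16897 = N1864 := eqes L408307 (flp_j L16335)
theorem L408309 : N16897 = N1864 := eqc rfl L408308 rfl
theorem L408328 : sm ge N1864 = N24564 := trfs L408309 (flp_e L208772) rfl
theorem L408329 : N24564 = N2679 := eqes L408328 (flp_e L23359)
theorem L408330 : N24564 = N2679 := eqc rfl L408329 rfl
theorem L408351 : sm gh N2679 = N35748 := trfs L408330 (flp_h L302939) rfl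
theorem L408352 : N35748 = N1863 := eqes L408351 (flp_h L23355)
theorem L408353 : N35748 = N1863 := eqc rfl L408352 rfl
theorem L408357 : sm gg N1863 = N24551 := trfs L408353 (flp_g L302935) rfl
theorem L408358 : N24551 = N2664 := eqes L408357 (flp_g L23225)
theorem L408359 : N24551 = N2664 := eqc rfl L408358 rfl
theorem L408378 : sm gi N2664 = N35743 := trfs L408359 (flp_i L302900) rfl
theorem L408379 : N35743 = N1852 := eqes L408378 (flp_i L23219)
theorem L408380 : N35743 = N1852 := eqc rfl L408379 rfl
theorem L408382 : sm gf N1852 = N24548 := trfs L408380 (flp_f L302896) rfl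
theorem L408383 : N24548 = N2663 := eqes L408382 L23211
theorem L408384 : N24548 = N2663 := eqc rfl L408383 rfl
theorem L408399 : sm ge N2663 = N16882 := trfs L408384 (flp_e L208642) rfl
theorem L408400 : N16882 = N2663 := eqes L408399 L23217
theorem L408401 : N16882 = N2663 := eqc rfl L408400 rfl
theorem L408418 : sm gi N2663 = N11626 := trfs L408401 L143945 rfl
theorem L408419 : N11626 = N3840 := eqes L408418 L33297
theorem L408420 : N11626 = N3840 := eqc rfl L408419 rfl
theorem L408426 : sm gd N3840 = N8021 := trfs L408420 (flp_d L99466) rfl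
theorem L408427 : N8021 = N5543 := eqes L408426 (flp_d L47829)
theorem L408428 : N8021 = N5543 := eqc rfl L408427 rfl
theorem L408433 : sm gh N3840 = N8024 := trfs L408420 L99472 rfl
theorem L408434 : N8024 = N5546 := eqes L408433 L47850
theorem L408435 : N8024 = N5546 := eqc rfl L408434 rfl
theorem L408446 : sm ge N5546 = N11631 := trfs L408435 L99507 rfl
theorem L408447 : N11631 = N5546 := eqes L408446 L47854
theorem L408448 : N11631 = N5546 := eqc rfl L408447 rfl
theorem L408459 : sm gc N5546 = N16891 := trfs L408448 (flp_c L144015) rfl
theorem L408460 : N16891 = N3843 := eqes L408459 L47852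
theorem L408461 : N16891 = N3843 := eqc rfl L408460 rfl
theorem L408483 : sm gh N3843 = N24550 := trfs L408461 (flp_h L208664) rfl
theorem L408484 : N24550 = N2666 := eqes L408483 (flp_h L33324)
theorem L408485 : N24550 = N2666 := eqc rfl L408484 rfl
theorem L408488 : sm gb N2666 = N35745 := trfs L408485 (flp_b L302915) rfl
theorem L408489 : N35745 = N2666 := eqes L408488 L23239
theorem L408490 : N35745 = N2666 := eqc rfl L408489 rfl
theorem L408503 : sm ge N2666 = N24549 := trfs L408490 (flp_e L302913) rfl
theorem L408504 : N24549 = N2666 := eqes L408503 L23241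
theorem L408505 : N24549 = N2666 := eqc rfl L408504 rfl
theorem L408525 : sm gi N2666 = N35741 := trfs L408505 (flp_i L302885) rfl
theorem L408526 : N35741 = N1854 := eqes L408525 (flp_i L23237)
theorem L408527 : N35741 = N1854 := eqc rfl L408526 rfl
theorem L408530 : sm gf N1854 = N24552 := trfs L408527 L302880 rfl
theorem L408531 : N24552 = N1291 := eqes L408530 (flp_f L16242)
theorem L408532 : N24552 = N1291 := eqc rfl L408531 rfl
theorem L408542 : sm ge N1291 = N35750 := trfs L408532 L302951 rfl
theorem L408543 : N35750 = N899 := eqes L408542 (flp_e L11365)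
theorem L408544 : N35750 = N899 := eqc rfl L408543 rfl
theorem L408553 : sm gi N899 = N24556 := trfs L408544 L302959 rfl
theorem L408554 : N24556 = N1292 := eqes L408553 L11373
theorem L408555 : N24556 = N1292 := eqc rfl L408554 rfl
theorem L408574 : sm gh N1292 = N16894 := trfs L408555 L208714 rfl
theorem L408575 : N16894 = N1856 := eqes L408574 L16259
theorem L408576 : N16894 = N1856 := eqc rfl L408575 rfl
theorem L408593 : sm gg N1856 = N11703 := trfs L408576 L144039 rfl
theorem L408594 : N11703 = N1299 := eqes L408593 L16263
theorem L408595 : N11703 = N1299 := eqc rfl L408594 rfl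
theorem L408608 : sm gj N1299 = N8139 := trfs L408595 L100131 rfl
theorem L408609 : N8139 = N911 := eqes L408608 L11442
theorem L408610 : N8139 = N911 := eqc rfl L408609 rfl
theorem L408624 : sm gh N911 = N11800 := trfs L408610 (flp_h L100929) rfl
theorem L408625 : N11800 = N630 := eqes L408624 (flp_h L8055)
theorem L408626 : N11800 = N630 := eqc rfl L408625 rfl
theorem L408636 : sm ge N630 = N8135 := trfs L408626 (flp_e L100924) rfl
theorem L408637 : N8135 = N910 := eqes L408636 (flp_e L8051)
theorem L408638 : N8135 = N910 := eqc rfl L408637 rfl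
theorem L408653 : sm gi N910 = N11796 := trfs L408638 (flp_i L100900) rfl
theorem L408654 : N11796 = N629 := eqes L408653 (flp_i L8047)
theorem L408655 : N11796 = N629 := eqc rfl L408654 rfl
theorem L408658 : sm gc N629 = N17115 := trfs L408655 (flp_c L145908) rfl
theorem L408659 : N17115 = N908 := eqes L408658 (flp_c L8034)
theorem L408660 : N17115 = N908 := eqc rfl L408659 rfl
theorem L408681 : sm gj N908 = N24686 := trfs L408660 (flp_j L209805) rfl
theorem L408682 : N24686 = N1296 := eqes L408681 (flp_j L11415)
theorem L408683 : N24686 = N1296 := eqc rfl L408682 rfl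
theorem L408700 : sm gi N1296 = N16977 := trfs L408683 L209808 rfl
theorem L408701 : N16977 = N1863 := eqes L408700 L16320
theorem L408702 : N16977 = N1863 := eqc rfl L408701 rfl
theorem L408719 : sm gh N1863 = N11689 := trfs L408702 L144741 rfl
theorem L408720 : N11689 = N2679 := eqes L408719 L23355
theorem L408721 : N11689 = N2679 := eqc rfl L408720 rfl
theorem L408734 : sm gj N2679 = N8125 := trfs L408721 L100005 rfl
theorem L408735 : N8125 = N1877 := eqes L408734 L23362
theorem L408736 : N8125 = N1877 := eqc rfl L408735 rfl
theorem L408739 : sm gb N1877 = N5613 := trfs L408736 (flp_b L69783) rfl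
theorem L408740 : N5613 = N2695 := eqes L408739 (flp_b L23495)
theorem L408741 : N5613 = N2695 := eqc rfl L408740 rfl
theorem L408759 : sm gh N2695 = N8123 := trfs L408741 (flp_h L69772) rfl
theorem L408760 : N8123 = N1873 := eqes L408759 (flp_h L23492)
theorem L408761 : N8123 = N1873 := eqc rfl L408760 rfl
theorem L408769 : sm ge N1873 = N11782 := trfs L408761 L100776 rfl
theorem L408770 : N11782 = N1304 := eqes L408769 L16413
theorem L408771 : N11782 = N1304 := eqc rfl L408770 rfl
theorem L408790 : sm gi N1304 = N17116 := trfs L408771 (flp_i L145917) rfl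
theorem L408791 : N17116 = N907 := eqes L408790 (flp_i L11478)
theorem L408792 : N17116 = N907 := eqc rfl L408791 rfl
theorem L408804 : sm gj N907 = N24687 := trfs L408792 (flp_j L209817) rfl
theorem L408805 : N24687 = N1295 := eqes L408804 (flp_j L11406)
theorem L408806 : N24687 = N1295 := eqc rfl L408805 rfl
theorem L408818 : sm gg N1295 = N35704 := trfs L408806 (flp_g L302548) rfl
theorem L408819 : N35704 = N1851 := eqes L408818 (flp_g L16219)
theorem L408820 : N35704 = N1851 := eqc rfl L408819 rfl
theorem L408830 : sm gi N1851 = N24525 := trfs L408820 L302552 rfl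
theorem L408831 : N24525 = N2661 := eqes L408830 L23193
theorem L408832 : N24525 = N2661 := eqc rfl L408831 rfl
theorem L408847 : sm gh N2661 = N16871 := trfs L408832 L208441 rfl
theorem L408848 : N16871 = N3836 := eqes L408847 L33262
theorem L408849 : N16871 = N3836 := eqc rfl L408848 rfl
theorem L408862 : sm gg N3836 = N11690 := trfs L408849 L143843 rfl
theorem L408863 : N11690 = N2676 := eqes L408862 L33269
theorem L408864 : N11690 = N2676 := eqc rfl L408863 rfl
theorem L408874 : sm gf N2676 = N16983 := trfs L408864 L144793 rfl
theorem L408875 : N16983 = N1890 := eqes L408874 L23333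
theorem L408876 : N16983 = N1890 := eqc rfl L408875 rfl
theorem L408895 : sm gh N1890 = N24692 := trfs L408876 (flp_h L209867) rfl
theorem L408896 : N24692 = N1315 := eqes L408895 (flp_h L16539)
theorem L408897 : N24692 = N1315 := eqc rfl L408896 rfl
theorem L408904 : sm gd N1315 = N35958 := trfs L408897 (flp_d L304713) rfl
theorem L408905 : N35958 = N1315 := eqes L408904 L11569
theorem L408906 : N35958 = N1315 := eqc rfl L408905 rfl
theorem L408923 : sm gj N1315 = N24904 := trfs L408906 L304715 rfl
theorem L408924 : N24904 = N921 := eqes L408923 L11572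
theorem L408925 : N24904 = N921 := eqc rfl L408924 rfl
theorem L408939 : sm gh N921 = N36279 := trfs L408925 L307434 rfl
theorem L408940 : N36279 = N1323 := eqes L408939 L11634
theorem L408941 : N36279 = N1323 := eqc rfl L408940 rfl
theorem L408954 : sm gf N1323 = N24905 := trfs L408941 L307438 rfl
theorem L408955 : N24905 = N1874 := eqes L408954 (flp_f L16423)
theorem L408956 : N24905 = N1874 := eqc rfl L408955 rfl
theorem L408973 : sm gi N1874 = N36280 := trfs L408956 L307442 rfl
theorem L408974 : N36280 = N1874 := eqes L408973 L16426
theorem L408975 : N36280 = N1874 := eqc rfl L408974 rfl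
theorem L408978 : sm gd N1874 = N24917 := trfs L408975 L307446 rfl
theorem L408979 : N24917 = N2696 := eqes L408978 L23503
theorem L408980 : N24917 = N2696 := eqc rfl L408979 rfl
theorem L408995 : sm gj N2696 = N35971 := trfs L408980 (flp_j L304831) rfl
theorem L408996 : N35971 = N3859 := eqes L408995 (flp_j L33475)
theorem L408997 : N35971 = N3859 := eqc rfl L408996 rfl
theorem L409008 : sm gi N3859 = N24698 := trfs L408997 (flp_i L304825) rfl
theorem L409009 : N24698 = N3859 := eqes L409008 L33477
theorem L409010 : N24698 = N3859 := eqc rfl L409009 rfl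
theorem L409024 : sm gg N3859 = N35720 := trfs L409010 (flp_g L302700) rfl
theorem L409025 : N35720 = N5540 := eqes L409024 (flp_g L47806)
theorem L409026 : N35720 = N5540 := eqc rfl L409025 rfl
theorem L409033 : sm ge N5540 = N5540 := trfs L409026 L302699 L409026
theorem L409034 : N5540 = N8017 := eqes L409033 L68870
theorem L409035 : N8017 = N5540 := (eqc rfl L409034 rfl).symm
theorem L409045 : sm gf N5540 = N11621 := trfs L409035 L99425 rfl
theorem L409046 : N11621 = N5540 := eqes L409045 L47805
theorem L409047 : N11621 = N5540 := eqc rfl L409046 rfl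
theorem L409063 : sm gg N5540 = N16877 := trfs L409047 L143896 rfl
theorem L409064 : N16877 = N3859 := eqes L409063 L47806
theorem L409065 : N16877 = N3859 := eqc rfl L409064 rfl
theorem L409071 : sm gc N3859 = N24540 := trfs L409065 (flp_c L208576) rfl
theorem L409072 : N24540 = N5573 := eqes L409071 L48088
theorem L409073 : N24540 = N5573 := eqc rfl L409072 rfl
theorem L409095 : sm gj N5573 = N35733 := trfs L409073 L302811 rfl
theorem L409096 : N35733 = N3887 := eqes L409095 L48093
theorem L409097 : N35733 = N3887 := eqc rfl L409096 rfl
theorem L409105 : sm gf N3887 = N24711 := trfs L409097 L302817 rfl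
theorem L409106 : N24711 = N2737 := eqes L409105 L33708
theorem L409107 : N24711 = N2737 := eqc rfl L409106 rfl
theorem L409122 : sm gg N2737 = N17140 := trfs L409107 L210040 rfl
theorem L409123 : N17140 = N1920 := eqes L409122 L23833
theorem L409124 : N17140 = N1920 := eqc rfl L409123 rfl
theorem L409142 : sm gj N1920 = N11794 := trfs L409124 (flp_j L146105) rfl
theorem L409143 : N11794 = N1920 := eqes L409142 L16784
theorem L409144 : N11794 = N1920 := eqc rfl L409143 rfl
theorem L409159 : sm gg N1920 = N8131 := trfs L409144 (flp_g L100874) rfl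
theorem L409160 : N8131 = N2737 := eqes L409159 (flp_g L23833)
theorem L409161 : N8131 = N2737 := eqc rfl L409160 rfl
theorem L409176 : sm gj N2737 = N11695 := trfs L409161 (flp_j L100063) rfl
theorem L409177 : N11695 = N3922 := eqes L409176 (flp_j L33966)
theorem L409178 : N11695 = N3922 := eqc rfl L409177 rfl
theorem L409191 : sm ge N3922 = N8212 := trfs L409178 L100067 rfl
theorem L409192 : N8212 = N5669 := eqes L409191 L48843
theorem L409193 : N8212 = N5669 := eqc rfl L409192 rfl
theorem L409209 : sm gg N5669 = N11915 := trfs L409193 L101784 rfl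
theorem L409210 : N11915 = N5669 := eqes L409209 L48848
theorem L409211 : N11915 = N5669 := eqc rfl L409210 rfl
theorem L409222 : sm gd N5669 = N17319 := trfs L409211 (flp_d L147464) rfl
theorem L409223 : N17319 = N8211 := eqes L409222 L70425
theorem L409224 : N17319 = N8211 := eqc rfl L409223 rfl
theorem L409244 : sm gh N8211 = N25205 := trfs L409224 L213977 rfl
theorem L409245 : N25205 = N11914 := eqes L409244 L101775
theorem L409246 : N25205 = N11914 := eqc rfl L409245 rfl
theorem L409264 : sm gi N11914 = N36729 := trfs L409246 L310939 rfl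
theorem L409265 : N36729 = N17321 := eqes L409264 L147477
theorem L409266 : N36729 = N17321 := eqc rfl L409265 rfl
theorem L409270 : sm gf N17321 = N17321 := trfs L409266 L310944 L409266
theorem L409271 : N17321 = N25206 := eqes L409270 (flp_f L213990)
theorem L409272 : N25206 = N17321 := (eqc rfl L409271 rfl).symm
theorem L409285 : sm gj N17321 = N17470 := trfs L409272 L213992 rfl
theorem L409286 : N17470 = N12014 := eqes L409285 L147484
theorem L409287 : N17470 = N12014 := eqc rfl L409286 rfl
theorem L409304 : sm gi N12014 = N12013 := trfs L409287 (flp_i L148793) rfl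
theorem L409305 : N12013 = N8277 := eqes L409304 (flp_i L102658)
theorem L409306 : N12013 = N8277 := eqc rfl L409305 rfl
theorem L409321 : sm gh N8277 = N8276 := trfs L409306 (flp_h L102651) rfl
theorem L409322 : N8276 = N5712 := eqes L409321 (flp_h L70999)
theorem L409323 : N8276 = N5712 := eqc rfl L409322 rfl
theorem L409334 : sm gg N5712 = N12012 := trfs L409323 L102642 rfl
theorem L409335 : N12012 = N3994 := eqes L409334 L49225
theorem L409336 : N12012 = N3994 := eqc rfl L409335 rfl
theorem L409351 : sm gj N3994 = N17468 := trfs L409336 L148775 rfl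
theorem L409352 : N17468 = N3994 := eqes L409351 L34554
theorem L409353 : N17468 = N3994 := eqc rfl L409352 rfl
theorem L409369 : sm gh N3994 = N25427 := trfs L409353 L215938 rfl
theorem L409370 : N25427 = N5778 := eqes L409369 L49739
theorem L409371 : N25427 = N5778 := eqc rfl L409370 rfl
theorem L409387 : sm gi N5778 = N37059 := trfs L409371 L313835 rfl
theorem L409388 : N37059 = N8377 := eqes L409387 L71800
theorem L409389 : N37059 = N8377 := eqc rfl L409388 rfl
theorem L409393 : sm gf N8377 = N25758 := trfs L409389 L313840 rfl
theorem L409394 : N25758 = N12163 := eqes L409393 (flp_f L103856)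
theorem L409395 : N25758 = N12163 := eqc rfl L409394 rfl
theorem L409407 : sm gg N12163 = N12163 := trfs L409395 L218600 L409395
theorem L409408 : N12163 = N17692 := eqes L409407 (flp_g L150586)
theorem L409409 : N17692 = N12163 := (eqc rfl L409408 rfl).symm
theorem L409425 : sm gi N12163 = N12162 := trfs L409409 (flp_i L150581) rfl
theorem L409426 : N12162 = N8376 := eqes L409425 (flp_i L103851)
theorem L409427 : N12162 = N8376 := eqc rfl L409426 rfl
theorem L409434 : sm ge N8376 = N17688 := trfs L409427 (flp_e L150553) rfl
theorem L409435 : N17688 = N12160 := eqes L409434 (flp_e L103832)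
theorem L409436 : N17688 = N12160 := eqc rfl L409435 rfl
theorem L409456 : sm gh N12160 = N12159 := trfs L409436 (flp_h L150549) rfl
theorem L409457 : N12159 = N8374 := eqes L409456 (flp_h L103828)
theorem L409458 : N12159 = N8374 := eqc rfl L409457 rfl
theorem L409471 : sm gj N8374 = N17687 := trfs L409458 L150540 rfl
theorem L409472 : N17687 = N8374 := eqes L409471 L71781
theorem L409473 : N17687 = N8374 := eqc rfl L409472 rfl
theorem L409482 : sm gf N8374 = N25751 := trfs L409473 (flp_f L218544) rfl
theorem L409483 : N25751 = N8374 := eqes L409482 L71784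
theorem L409484 : N25751 = N8374 := eqc rfl L409483 rfl
theorem L409494 : sm ge N8374 = N37052 := trfs L409484 (flp_e L313785) rfl
theorem L409495 : N37052 = N5777 := eqes L409494 (flp_e L71777)
theorem L409496 : N37052 = N5777 := eqc rfl L409495 rfl
theorem L409518 : sm gj N5777 = N25422 := trfs L409496 (flp_j L313781) rfl
theorem L409519 : N25422 = N5777 := eqes L409518 L49737
theorem L409520 : N25422 = N5777 := eqc rfl L409519 rfl
theorem L409534 : sm gh N5777 = N37053 := trfs L409520 L313790 rfl
theorem L409535 : N37053 = N8376 := eqes L409534 L71792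
theorem L409536 : N37053 = N8376 := eqc rfl L409535 rfl
theorem L409541 : sm gf N8376 = N25424 := trfs L409536 L313796 rfl
theorem L409542 : N25424 = N5778 := eqes L409541 L71796
theorem L409543 : N25424 = N5778 := eqc rfl L409542 rfl
theorem L409550 : sm gd N5778 = N37055 := trfs L409543 L313807 rfl
theorem L409551 : N37055 = N5778 := eqes L409550 L49745
theorem L409552 : N37055 = N5778 := eqc rfl L409551 rfl
theorem L409567 : sm gg N5778 = N25425 := trfs L409552 L313810 rfl
theorem L409568 : N25425 = N8277 := eqes L409567 (flp_g L71004)
theorem L409569 : N25425 = N8277 := eqc rfl L409568 rfl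
theorem L409583 : sm gh N8277 = N36319 := trfs L409569 (flp_h L307761) rfl
theorem L409584 : N36319 = N5712 := eqes L409583 (flp_h L70999)
theorem L409585 : N36319 = N5712 := eqc rfl L409584 rfl
theorem L409594 : sm gd N5712 = N24931 := trfs L409585 (flp_d L307756) rfl
theorem L409595 : N24931 = N3951 := eqes L409594 (flp_d L49222)
theorem L409596 : N24931 = N3951 := eqc rfl L409595 rfl
theorem L409620 : sm gi N3951 = N36320 := trfs L409596 L307763 rfl
theorem L409621 : N36320 = N3951 := eqes L409620 L34221
theorem L409622 : N36320 = N3951 := eqc rfl L409621 rfl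
theorem L409624 : sm ge N3951 = N24934 := trfs L409622 L307766 rfl
theorem L409625 : N24934 = N2737 := eqes L409624 (flp_e L34213)
theorem L409626 : N24934 = N2737 := eqc rfl L409625 rfl
theorem L409640 : sm gj N2737 = N35988 := trfs L409626 (flp_j L304982) rfl
theorem L409641 : N35988 = N3922 := eqes L409640 (flp_j L33966)
theorem L409642 : N35988 = N3922 := eqc rfl L409641 rfl
theorem L409649 : sm gi N3922 = N24709 := trfs L409642 (flp_i L304976) rfl
theorem L409650 : N24709 = N3922 := eqes L409649 L33969
theorem L409651 : N24709 = N3922 := eqc rfl L409650 rfl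
theorem L409660 : sm gg N3922 = N35987 := trfs L409651 (flp_g L304973) rfl
theorem L409661 : N35987 = N3922 := eqes L409660 L33965
theorem L409662 : N35987 = N3922 := eqc rfl L409661 rfl
theorem L409667 : sm gh N3922 = N24708 := trfs L409662 (flp_h L304970) rfl
theorem L409668 : N24708 = N3922 := eqes L409667 L33968
theorem L409669 : N24708 = N3922 := eqc rfl L409668 rfl
theorem L409678 : sm ge N3922 = N35984 := trfs L409669 (flp_e L304951) rfl
theorem L409679 : N35984 = N5669 := eqes L409678 L48843
theorem L409680 : N35984 = N5669 := eqc rfl L409679 rfl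
theorem L409687 : sm gg N5669 = N24707 := trfs L409680 (flp_g L304946) rfl
theorem L409688 : N24707 = N5669 := eqes L409687 L48848
theorem L409689 : N24707 = N5669 := eqc rfl L409688 rfl
theorem L409698 : sm gd N5669 = N17318 := trfs L409689 L210006 rfl
theorem L409699 : N17318 = N8211 := eqes L409698 L70425
theorem L409700 : N17318 = N8211 := eqc rfl L409699 rfl
theorem L409716 : sm gh N8211 = N25203 := trfs L409700 L213958 rfl
theorem L409717 : N25203 = N11914 := eqes L409716 L101775
theorem L409718 : N25203 = N11914 := eqc rfl L409717 rfl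
theorem L409721 : sm gb N11914 = N36719 := trfs L409718 (flp_b L310853) rfl
theorem L409722 : N36719 = N17316 := eqes L409721 (flp_b L147436)
theorem L409723 : N36719 = N17316 := eqc rfl L409722 rfl
theorem L409737 : sm gj N17316 = N25418 := trfs L409723 L310858 rfl
theorem L409738 : N25418 = N12009 := eqes L409737 L147440
theorem L409739 : N25418 = N12009 := eqc rfl L409738 rfl
theorem L409753 : sm gh N12009 = N17461 := trfs L409739 (flp_h L215869) rfl
theorem L409754 : N17461 = N8274 := eqes L409753 (flp_h L102618)
theorem L409755 : N17461 = N8274 := eqc rfl L409754 rfl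
theorem L409777 : sm gg N8274 = N25417 := trfs L409755 L215862 rfl
theorem L409778 : N25417 = N5775 := eqes L409777 L70980
theorem L409779 : N25417 = N5775 := eqc rfl L409778 rfl
theorem L409789 : sm gd N5775 = N36311 := trfs L409779 (flp_d L307697) rfl
theorem L409790 : N36311 = N3993 := eqes L409789 (flp_d L49714)
theorem L409791 : N36311 = N3993 := eqc rfl L409790 rfl
theorem L409805 : sm ge N3993 = N24926 := trfs L409791 L307699 rfl
theorem L409806 : N24926 = N2765 := eqes L409805 (flp_e L34542)
theorem L409807 : N24926 = N2765 := eqc rfl L409806 rfl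
theorem L409825 : sm gh N2765 = N36314 := trfs L409807 L307717 rfl
theorem L409826 : N36314 = N2765 := eqes L409825 L24049
theorem L409827 : N36314 = N2765 := eqc rfl L409826 rfl
theorem L409834 : sm gg N2765 = N24927 := trfs L409827 L307722 rfl
theorem L409835 : N24927 = N3950 := eqes L409834 (flp_g L34207)
theorem L409836 : N24927 = N3950 := eqc rfl L409835 rfl
theorem L409846 : sm gf N3950 = N17134 := trfs L409836 L211844 rfl
theorem L409847 : N17134 = N5615 := eqes L409846 (flp_f L48445)
theorem L409848 : N17134 = N5615 := eqc rfl L409847 rfl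
theorem L409872 : sm gi N5615 = N24928 := trfs L409848 L211847 rfl
theorem L409873 : N24928 = N5615 := eqes L409872 L48449
theorem L409874 : N24928 = N5615 := eqc rfl L409873 rfl
theorem L409887 : sm gj N5615 = N35982 := trfs L409874 (flp_j L304931) rfl
theorem L409888 : N35982 = N8065 := eqes L409887 (flp_j L69284)
theorem L409889 : N35982 = N8065 := eqc rfl L409888 rfl
theorem L409893 : sm ge N8065 = N8065 := trfs L409889 L304930 L409889
theorem L409894 : N8065 = N11693 := eqes L409893 L100041
theorem L409895 : N11693 = N8065 := (eqc rfl L409894 rfl).symm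
theorem L409908 : sm gg N8065 = N16874 := trfs L409895 (flp_g L143874) rfl
theorem L409909 : N16874 = N11619 := eqes L409908 (flp_g L99408)
theorem L409910 : N16874 = N11619 := eqc rfl L409909 rfl
theorem L409921 : sm gf N11619 = N24537 := trfs L409910 L208548 rfl
theorem L409922 : N24537 = N11619 := eqes L409921 L99407
theorem L409923 : N24537 = N11619 := eqc rfl L409922 rfl
theorem L409930 : sm gd N11619 = N35726 := trfs L409923 (flp_d L302756) rfl
theorem L409931 : N35726 = N11619 := eqes L409930 L99406
theorem L409932 : N35726 = N11619 := eqc rfl L409931 rfl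
theorem L409938 : sm gb N11619 = N24538 := trfs L409932 L302754 rfl
theorem L409939 : N24538 = N8016 := eqes L409938 (flp_b L99404)
theorem L409940 : N24538 = N8016 := eqc rfl L409939 rfl
theorem L409952 : sm gf N8016 = N16875 := trfs L409940 (flp_f L208558) rfl
theorem L409953 : N16875 = N8016 := eqes L409952 L68863
theorem L409954 : N16875 = N8016 := eqc rfl L409953 rfl
theorem L409971 : sm gg N8016 = N11694 := trfs L409954 L143882 rfl
theorem L409972 : N11694 = N5573 := eqes L409971 L68864
theorem L409973 : N11694 = N5573 := eqc rfl L409972 rfl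
theorem L409984 : sm gj N5573 = N8130 := trfs L409973 L100054 rfl
theorem L409985 : N8130 = N3887 := eqes L409984 L48093
theorem L409986 : N8130 = N3887 := eqc rfl L409985 rfl
theorem L409991 : sm gc N3887 = N11786 := trfs L409986 (flp_c L100815) rfl
theorem L409992 : N11786 = N2696 := eqes L409991 (flp_c L33705)
theorem L409993 : N11786 = N2696 := eqc rfl L409992 rfl
theorem L410008 : sm gf N2696 = N17126 := trfs L409993 L145994 rfl
theorem L410009 : N17126 = N1902 := eqes L410008 L23508
theorem L410010 : N17126 = N1902 := eqc rfl L410009 rfl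
theorem L410024 : sm gg N1902 = N24915 := trfs L410010 L211742 rfl
theorem L410025 : N24915 = N1335 := eqes L410024 L16646
theorem L410026 : N24915 = N1335 := eqc rfl L410025 rfl
theorem L410042 : sm gj N1335 = N36295 := trfs L410026 L307563 rfl
theorem L410043 : N36295 = N1335 := eqes L410042 L11730
theorem L410044 : N36295 = N1335 := eqc rfl L410043 rfl
theorem L410055 : sm gd N1335 = N24918 := trfs L410044 L307568 rfl
theorem L410056 : N24918 = N929 := eqes L410055 (flp_d L11724)
theorem L410057 : N24918 = N929 := eqc rfl L410056 rfl
theorem L410071 : sm gh N929 = N36281 := trfs L410057 (flp_h L307456) rfl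
theorem L410072 : N36281 = N643 := eqes L410071 (flp_h L8196)
theorem L410073 : N36281 = N643 := eqc rfl L410072 rfl
theorem L410079 : sm gj N643 = N24906 := trfs L410073 (flp_j L307449) rfl
theorem L410080 : N24906 = N643 := eqes L410079 L5693
theorem L410081 : N24906 = N643 := eqc rfl L410080 rfl
theorem L410083 : sm gb N643 = N36276 := trfs L410081 (flp_b L307414) rfl
theorem L410084 : N36276 = N443 := eqes L410083 L5687
theorem L410085 : N36276 = N443 := eqc rfl L410084 rfl
theorem L410184 : sm gh N443 = N24913 := trfs L410085 L307419 rfl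
theorem L410185 : N24913 = N644 := eqes L410184 L5694
theorem L410186 : N24913 = N644 := eqc rfl L410185 rfl
theorem L410197 : sm gg N644 = N17125 := trfs L410186 (flp_g L211725) rfl
theorem L410198 : N17125 = N922 := eqes L410197 (flp_g L8149)
theorem L410199 : N17125 = N922 := eqc rfl L410198 rfl
theorem L410202 : sm ga N922 = N24909 := trfs L410199 (flp_a L211696) rfl
theorem L410203 : N24909 = N1190 := eqes L410202 (flp_a L10470)
theorem L410204 : N24909 = N1190 := eqc rfl L410203 rfl
theorem L410219 : sm gf N1190 = N17123 := trfs L410204 (flp_f L211694) rfl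
theorem L410220 : N17123 = N1694 := eqes L410219 (flp_f L14825)
theorem L410221 : N17123 = N1694 := eqc rfl L410220 rfl
theorem L410237 : sm gh N1694 = N24901 := trfs L410221 (flp_h L211638) rfl
theorem L410238 : N24901 = N1179 := eqes L410237 (flp_h L14818)
theorem L410239 : N24901 = N1179 := eqc rfl L410238 rfl
theorem L410247 : sm ge N1179 = N17118 := trfs L410239 (flp_e L211630) rfl
theorem L410248 : N17118 = N1693 := eqes L410247 (flp_e L14814)
theorem L410249 : N17118 = N1693 := eqc rfl L410248 rfl
theorem L410264 : sm gd N1693 = N24891 := trfs L410249 (flp_d L211548) rfl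
theorem L410265 : N24891 = N2434 := eqes L410264 (flp_d L21184)
theorem L410266 : N24891 = N2434 := eqc rfl L410265 rfl
theorem L410277 : sm ge N2434 = N36257 := trfs L410266 L307262 rfl
theorem L410278 : N36257 = N2434 := eqes L410277 L21186
theorem L410279 : N36257 = N2434 := eqc rfl L410278 rfl
theorem L410285 : sm gh N2434 = N2434 := trfs L410266 L211552 L410266
theorem L410286 : N2434 = N3510 := eqes L410285 L30383
theorem L410287 : N3510 = N2434 := (eqc rfl L410286 rfl).symm
theorem L410305 : sm gh N2434 = N2434 := trfs L410287 (flp_h L30383) rfl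
theorem L410314 : sm ga N2434 = N24892 := trfs L410279 L307264 rfl
theorem L410315 : N24892 = N1876 := eqes L410314 L21180
theorem L410316 : N24892 = N1876 := eqc rfl L410315 rfl
theorem L410325 : sm gd N1876 = N36258 := trfs L410316 L307270 rfl
theorem L410326 : N36258 = N1306 := eqes L410325 L16437
theorem L410327 : N36258 = N1306 := eqc rfl L410326 rfl
theorem L410338 : sm gi N1876 = N36253 := trfs L410316 (flp_i L307234) rfl
theorem L410339 : N36253 = N1305 := eqes L410338 (flp_i L16434)
theorem L410340 : N36253 = N1305 := eqc rfl L410339 rfl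
theorem L410341 : sm gb N1305 = N24889 := trfs L410340 L307230 rfl
theorem L410342 : N24889 = N1872 := eqes L410341 (flp_b L16402)
theorem L410343 : N24889 = N1872 := eqc rfl L410342 rfl
theorem L410364 : sm gh N1872 = N36250 := trfs L410343 (flp_h L307207) rfl
theorem L410365 : N36250 = N2693 := eqes L410364 L23473
theorem L410366 : N36250 = N2693 := eqc rfl L410365 rfl
theorem L410376 : sm gi N2693 = N2693 := trfs L410366 L307209 L410366
theorem L410377 : N2693 = N3884 := eqes L410376 L33680
theorem L410378 : N3884 = N2693 := (eqc rfl L410377 rfl).symm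
theorem L410380 : sm gb N2693 = N2697 := trfs L410378 L33683 rfl
theorem L410381 : N2697 = N1875 := eqes L410380 L23476
theorem L410382 : N2697 = N1875 := eqc rfl L410381 rfl
theorem L410383 : sm gc N2693 = N5609 := trfs L410378 (flp_c L48393) rfl
theorem L410384 : N5609 = N3882 := eqes L410383 (flp_c L33665)
theorem L410385 : N5609 = N3882 := eqc rfl L410384 rfl
theorem L410390 : sm gj N2693 = N5570 := trfs L410378 (flp_j L48068) rfl
theorem L410391 : N5570 = N3856 := eqes L410390 (flp_j L33442)
theorem L410392 : N5570 = N3856 := eqc rfl L410391 rfl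
theorem L410393 : sm gh N2693 = N5611 := trfs L410378 L48407 rfl
theorem L410394 : N5611 = N1872 := eqes L410393 (flp_h L23473)
theorem L410395 : N5611 = N1872 := eqc rfl L410394 rfl
theorem L410396 : sm gi N2693 = N2693 := trfs L410378 (flp_i L33680) rfl
theorem L410413 : sm gi N1872 = N3885 := trfs L410395 L48415 rfl
theorem L410414 : N3885 = N2694 := eqes L410413 L23482
theorem L410415 : N3885 = N2694 := eqc rfl L410414 rfl
theorem L410425 : sm gj N2694 = N5571 := trfs L410415 (flp_j L48077) rfl
theorem L410426 : N5571 = N3857 := eqes L410425 (flp_j L33454)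
theorem L410427 : N5571 = N3857 := eqc rfl L410426 rfl
theorem L410430 : sm gb N3857 = N3861 := trfs L410427 L48073 rfl
theorem L410431 : N3861 = N2678 := eqes L410430 L33448
theorem L410432 : N3861 = N2678 := eqc rfl L410431 rfl
theorem L410441 : sm gg N3857 = N8013 := trfs L410427 (flp_g L68836) rfl
theorem L410442 : N8013 = N5537 := eqes L410441 (flp_g L47774)
theorem L410443 : N8013 = N5537 := eqc rfl L410442 rfl
theorem L410447 : sm gb N5537 = N5545 := trfs L410443 L68833 rfl
theorem L410448 : N5545 = N3839 := eqes L410447 L47769
theorem L410449 : N5545 = N3839 := eqc rfl L410448 rfl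
theorem L410462 : sm gi N5537 = N11614 := trfs L410443 (flp_i L99363) rfl
theorem L410463 : N11614 = N3833 := eqes L410462 (flp_i L47766)
theorem L410464 : N11614 = N3833 := eqc rfl L410463 rfl
theorem L410481 : sm gh N3833 = N8012 := trfs L410464 (flp_h L99354) rfl
theorem L410482 : N8012 = N5536 := eqes L410481 L47756
theorem L410483 : N8012 = N5536 := eqc rfl L410482 rfl
theorem L410485 : sm gb N5536 = N5544 := trfs L410483 L68823 rfl
theorem L410486 : N5544 = N3838 := eqes L410485 L47759
theorem L410487 : N5544 = N3838 := eqc rfl L410486 rfl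
theorem L410488 : sm gc N5536 = N11608 := trfs L410483 (flp_c L99298) rfl
theorem L410489 : N11608 = N8007 := eqes L410488 (flp_c L68773)
theorem L410490 : N11608 = N8007 := eqc rfl L410489 rfl
theorem L410493 : sm gf N5536 = N11612 := trfs L410483 (flp_f L99341) rfl
theorem L410494 : N11612 = N8010 := eqes L410493 (flp_f L68804)
theorem L410495 : N11612 = N8010 := eqc rfl L410494 rfl
theorem L410498 : sm gi N5536 = N5536 := trfs L410483 (flp_i L68820) rfl
theorem L410500 : sm gb N8010 = N8020 := trfs L410495 L99338 rfl
theorem L410501 : N8020 = N5542 := eqes L410500 L68802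
theorem L410502 : N8020 = N5542 := eqc rfl L410501 rfl
theorem L410503 : sm gc N8010 = N16854 := trfs L410495 (flp_c L143671) rfl
theorem L410504 : N16854 = N11605 := eqes L410503 (flp_c L99268)
theorem L410505 : N16854 = N11605 := eqc rfl L410504 rfl
theorem L410507 : sm ge N8010 = N16861 := trfs L410495 (flp_e L143744) rfl
theorem L410508 : N16861 = N11610 := eqes L410507 (flp_e L99319)
theorem L410509 : N16861 = N11610 := eqc rfl L410508 rfl
theorem L410513 : sm gi N8010 = N8010 := trfs L410495 (flp_i L99335) rfl
theorem L410515 : sm gb N11610 = N11623 := trfs L410509 L143742 rfl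
theorem L410516 : N11623 = N8018 := eqes L410515 L99317
theorem L410517 : N11623 = N8018 := eqc rfl L410516 rfl
theorem L410518 : sm gc N11610 = N24506 := trfs L410509 (flp_c L208240) rfl
theorem L410519 : N24506 = N16851 := eqes L410518 (flp_c L143637)
theorem L410520 : N24506 = N16851 := eqc rfl L410519 rfl
theorem L410521 : sm gd N11610 = N24516 := trfs L410509 (flp_d L208346) rfl
theorem L410522 : N24516 = N16860 := eqes L410521 L143728
theorem L410523 : N24516 = N16860 := eqc rfl L410522 rfl
theorem L410527 : sm gh N11610 = N24517 := trfs L410509 L208352 rfl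
theorem L410528 : N24517 = N8009 := eqes L410527 (flp_h L99314)
theorem L410529 : N24517 = N8009 := eqc rfl L410528 rfl
theorem L410530 : sm gi N11610 = N11610 := trfs L410509 (flp_i L143739) rfl
theorem L410545 : sm gi N8009 = N16862 := trfs L410529 L208362 rfl
theorem L410546 : N16862 = N11611 := eqes L410545 L99324
theorem L410547 : N16862 = N11611 := eqc rfl L410546 rfl
theorem L410549 : sm gb N11611 = N11624 := trfs L410547 L143752 rfl
theorem L410550 : N11624 = N8019 := eqes L410549 L99327
theorem L410551 : N11624 = N8019 := eqc rfl L410550 rfl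
theorem L410555 : sm gd N11611 = N24518 := trfs L410547 L208364 rfl
theorem L410556 : N24518 = N11611 := eqes L410555 L99329
theorem L410557 : N24518 = N11611 := eqc rfl L410556 rfl
theorem L410570 : sm ge N11611 = N35697 := trfs L410557 L302474 rfl
theorem L410571 : N35697 = N8011 := eqes L410570 L99330
theorem L410572 : N35697 = N8011 := eqc rfl L410571 rfl
theorem L410579 : sm gb N8011 = N24546 := trfs L410572 L302477 rfl
theorem L410580 : N24546 = N5543 := eqes L410579 L68812
theorem L410581 : N24546 = N5543 := eqc rfl L410580 rfl
theorem L410582 : sm gd N8011 = N24521 := trfs L410572 L302482 rfl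
theorem L410583 : N24521 = N5538 := eqes L410582 L68814
theorem L410584 : N24521 = N5538 := eqc rfl L410583 rfl
theorem L410591 : sm gc N5538 = N35701 := trfs L410584 (flp_c L302517) rfl
theorem L410592 : N35701 = N5538 := eqes L410591 L47782
theorem L410593 : N35701 = N5538 := eqc rfl L410592 rfl
theorem L410601 : sm ge N5538 = N24520 := trfs L410593 (flp_e L302514) rfl
theorem L410602 : N24520 = N5538 := eqes L410601 L47783
theorem L410603 : N24520 = N5538 := eqc rfl L410602 rfl
theorem L410736 : sm gd N5538 = N35685 := trfs L410603 (flp_d L302370) rfl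
theorem L410737 : N35685 = N8011 := eqes L410736 (flp_d L68814)
theorem L410738 : N35685 = N8011 := eqc rfl L410737 rfl
theorem L410755 : sm gf N8011 = N24514 := trfs L410738 L302365 rfl
theorem L410756 : N24514 = N5537 := eqes L410755 L68816
theorem L410757 : N24514 = N5537 := eqc rfl L410756 rfl
theorem L410778 : sm gi N5537 = N35689 := trfs L410757 (flp_i L302407) rfl
theorem L410779 : N35689 = N3833 := eqes L410778 (flp_i L47766)
theorem L410780 : N35689 = N3833 := eqc rfl L410779 rfl
theorem L410786 : sm gg N3833 = N24681 := trfs L410780 L302404 rfl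
theorem L410787 : N24681 = N2674 := eqes L410786 L33237
theorem L410788 : N24681 = N2674 := eqc rfl L410787 rfl
theorem L410799 : sm gh N2674 = N35940 := trfs L410788 (flp_h L304546) rfl
theorem L410800 : N35940 = N3856 := eqes L410799 L33435
theorem L410801 : N35940 = N3856 := eqc rfl L410800 rfl
theorem L410804 : sm gc N3856 = N24680 := trfs L410801 (flp_c L304540) rfl
theorem L410805 : N24680 = N5568 := eqes L410804 (flp_c L48043)
theorem L410806 : N24680 = N5568 := eqc rfl L410805 rfl
theorem L410828 : sm gi N5568 = N5568 := trfs L410806 L209754 L410806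
theorem L410829 : N5568 = N8059 := eqes L410828 L69220
theorem L410830 : N8059 = N5568 := (eqc rfl L410829 rfl).symm
theorem L410834 : sm gd N5568 = N11683 := trfs L410830 (flp_d L99947) rfl
theorem L410835 : N11683 = N8058 := eqes L410834 L69211
theorem L410836 : N11683 = N8058 := eqc rfl L410835 rfl
theorem L410844 : sm gi N5568 = N5568 := trfs L410830 (flp_i L69220) rfl
theorem L410857 : sm ge N8058 = N16970 := trfs L410836 (flp_e L144677) rfl
theorem L410858 : N16970 = N11682 := eqes L410857 L99933
theorem L410859 : N16970 = N11682 := eqc rfl L410858 rfl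
theorem L410861 : sm gg N8058 = N16857 := trfs L410836 (flp_g L143705) rfl
theorem L410862 : N16857 = N11607 := eqes L410861 (flp_g L99289)
theorem L410863 : N16857 = N11607 := eqc rfl L410862 rfl
theorem L410864 : sm gj N8058 = N8119 := trfs L410836 L99950 rfl
theorem L410865 : N8119 = N5608 := eqes L410864 L69216
theorem L410866 : N8119 = N5608 := eqc rfl L410865 rfl
theorem L410868 : sm gi N8058 = N8058 := trfs L410836 (flp_i L99942) rfl
theorem L410873 : sm ge N5608 = N11774 := trfs L410866 (flp_e L100716) rfl
theorem L410874 : N11774 = N8118 := eqes L410873 L69722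
theorem L410875 : N11774 = N8118 := eqc rfl L410874 rfl
theorem L410878 : sm gh N5608 = N11775 := trfs L410866 L100719 rfl
theorem L410879 : N11775 = N5608 := eqes L410878 L48388
theorem L410880 : N11775 = N5608 := eqc rfl L410879 rfl
theorem L410881 : sm gi N5608 = N5608 := trfs L410866 (flp_i L69730) rfl
theorem L410886 : sm ge N5608 = N17108 := trfs L410880 (flp_e L145849) rfl
theorem L410887 : N17108 = N8118 := eqes L410886 L69722
theorem L410888 : N17108 = N8118 := eqc rfl L410887 rfl
theorem L410903 : sm gj N8118 = N24679 := trfs L410888 (flp_j L209744) rfl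
theorem L410904 : N24679 = N11682 := eqes L410903 (flp_j L99938)
theorem L410905 : N24679 = N11682 := eqc rfl L410904 rfl
theorem L410916 : sm gf N11682 = N35938 := trfs L410905 (flp_f L304526) rfl
theorem L410917 : N35938 = N16969 := eqes L410916 L144660
theorem L410918 : N35938 = N16969 := eqc rfl L410917 rfl
theorem L410919 : sm gg N11682 = N35687 := trfs L410905 (flp_g L302387) rfl
theorem L410920 : N35687 = N16856 := eqes L410919 (flp_g L143692)
theorem L410921 : N35687 = N16856 := eqc rfl L410920 rfl
theorem L410928 : sm ge N16856 = N24512 := trfs L410921 L302384 rfl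
theorem L410929 : N24512 = N11607 := eqes L410928 (flp_e L143687)
theorem L410930 : N24512 = N11607 := eqc rfl L410929 rfl
theorem L410933 : sm gh N16856 = N24511 := trfs L410921 (flp_h L302379) rfl
theorem L410934 : N24511 = N16856 := eqes L410933 L143695
theorem L410935 : N24511 = N16856 := eqc rfl L410934 rfl
theorem L410946 : sm gi N16856 = N16856 := trfs L410935 (flp_i L208292) rfl
theorem L410951 : sm gf N11607 = N35683 := trfs L410930 (flp_f L302347) rfl
theorem L410952 : N35683 = N16853 := eqes L410951 (flp_f L143660)
theorem L410953 : N35683 = N16853 := eqc rfl L410952 rfl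
theorem L410965 : sm gh N16853 = N24508 := trfs L410953 (flp_h L302341) rfl
theorem L410966 : N24508 = N16853 := eqes L410965 L143666
theorem L410967 : N24508 = N16853 := eqc rfl L410966 rfl
theorem L410978 : sm gi N16853 = N16853 := trfs L410967 (flp_i L208259) rfl
theorem L410985 : sm gh N16969 = N24678 := trfs L410918 (flp_h L304520) rfl
theorem L410986 : N24678 = N16969 := eqes L410985 L144668
theorem L410987 : N24678 = N16969 := eqc rfl L410986 rfl
theorem L410997 : sm gj N16969 = N17107 := trfs L410987 L209735 rfl
theorem L410998 : N17107 = N11773 := eqes L410997 L144666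
theorem L410999 : N17107 = N11773 := eqc rfl L410998 rfl
theorem L411000 : sm gi N16969 = N16969 := trfs L410987 (flp_i L209725) rfl
theorem L411007 : sm gg N11773 = N24883 := trfs L410999 (flp_g L211484) rfl
theorem L411008 : N24883 = N17106 := eqes L411007 L145825
theorem L411009 : N24883 = N17106 := eqc rfl L411008 rfl
theorem L411011 : sm gi N11773 = N11773 := trfs L410999 (flp_i L145835) rfl
theorem L411022 : sm gi N17106 = N17106 := trfs L411009 (flp_i L211476) rfl
theorem L411080 : sm gi N8118 = N8118 := trfs L410875 (flp_i L100710) rfl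
theorem L411086 : sm gi N11607 = N11607 := trfs L410863 (flp_i L143698) rfl
theorem L411091 : sm gi N11682 = N11682 := trfs L410859 (flp_i L144671) rfl
theorem L411428 : sm gc N5543 = N35739 := trfs L410581 (flp_c L302865) rfl
theorem L411429 : N35739 = N5543 := eqes L411428 L47828
theorem L411430 : N35739 = N5543 := eqc rfl L411429 rfl
theorem L411439 : sm ge N5543 = N24545 := trfs L411430 (flp_e L302863) rfl
theorem L411440 : N24545 = N8019 := eqes L411439 (flp_e L68892)
theorem L411441 : N24545 = N8019 := eqc rfl L411440 rfl
theorem L411459 : sm gi N8019 = N35736 := trfs L411441 (flp_i L302845) rfl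
theorem L411460 : N35736 = N5541 := eqes L411459 (flp_i L68888)
theorem L411461 : N35736 = N5541 := eqc rfl L411460 rfl
theorem L411462 : sm gc N5541 = N24544 := trfs L411461 (flp_c L302840) rfl
theorem L411463 : N24544 = N5541 := eqes L411462 L47813
theorem L411464 : N24544 = N5541 := eqc rfl L411463 rfl
theorem L411478 : sm gh N5541 = N35735 := trfs L411464 (flp_h L302838) rfl
theorem L411479 : N35735 = N8018 := eqes L411478 L68880
theorem L411480 : N35735 = N8018 := eqc rfl L411479 rfl
theorem L411482 : sm gd N8018 = N24543 := trfs L411480 (flp_d L302832) rfl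
theorem L411483 : N24543 = N11622 := eqes L411482 L99434
theorem L411484 : N24543 = N11622 := eqc rfl L411483 rfl
theorem L411503 : sm gh N11622 = N16879 := trfs L411484 (flp_h L208604) rfl
theorem L411504 : N16879 = N11622 := eqes L411503 L99440
theorem L411505 : N16879 = N11622 := eqc rfl L411504 rfl
theorem L411508 : sm ga N11622 = N22299 := trfs L411505 (flp_a L189328) rfl
theorem L411509 : N22299 = N15330 := eqes L411508 (flp_a L130494)
theorem L411510 : N22299 = N15330 := eqc rfl L411509 rfl
theorem L411512 : sm gc N11622 = N24542 := trfs L411505 (flp_c L208597) rfl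
theorem L411513 : N24542 = N16878 := eqes L411512 L143906
theorem L411514 : N24542 = N16878 := eqc rfl L411513 rfl
theorem L411520 : sm gi N11622 = N11622 := trfs L411505 (flp_i L143915) rfl
theorem L411521 : sm ga N16878 = N32474 := trfs L411514 (flp_a L275038) rfl
theorem L411522 : N32474 = N22298 := eqes L411521 (flp_a L189318)
theorem L411523 : N32474 = N22298 := eqc rfl L411522 rfl
theorem L411531 : sm gi N16878 = N16878 := trfs L411514 (flp_i L208594) rfl
theorem L411538 : sm gi N22298 = N22298 := trfs L411523 (flp_i L275036) rfl
theorem L411540 : sm gd N15330 = N15331 := trfs L411510 L189331 rfl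
theorem L411541 : N15331 = N10554 := eqes L411540 (flp_d L130492)
theorem L411542 : N15331 = N10554 := eqc rfl L411541 rfl
theorem L411548 : sm gi N15330 = N15330 := trfs L411510 (flp_i L189326) rfl
theorem L411552 : sm ge N10554 = N10556 := trfs L411542 L130508 rfl
theorem L411553 : N10556 = N7281 := eqes L411552 L90112
theorem L411554 : N10556 = N7281 := eqc rfl L411553 rfl
theorem L411558 : sm gh N10554 = N22300 := trfs L411542 L189337 rfl
theorem L411559 : N22300 = N7280 := eqes L411558 (flp_h L90106)
theorem L411560 : N22300 = N7280 := eqc rfl L411559 rfl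
theorem L411561 : sm gi N10554 = N10554 := trfs L411542 (flp_i L130502) rfl
theorem L411572 : sm gi N7280 = N15332 := trfs L411560 L189348 rfl
theorem L411573 : N15332 = N10555 := eqes L411572 L90117
theorem L411574 : N15332 = N10555 := eqc rfl L411573 rfl
theorem L411581 : sm ge N10555 = N10557 := trfs L411574 L130519 rfl
theorem L411582 : N10557 = N7282 := eqes L411581 L90124
theorem L411583 : N10557 = N7282 := eqc rfl L411582 rfl
theorem L411587 : sm gh N10555 = N10555 := trfs L411574 (flp_h L130513) rfl
theorem L411592 : sm gf N7282 = N7284 := trfs L411583 L90146 rfl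
theorem L411593 : N7284 = N5032 := eqes L411592 L62402
theorem L411594 : N7284 = N5032 := eqc rfl L411593 rfl
theorem L411597 : sm gh N7282 = N7282 := trfs L411583 (flp_h L90140) rfl
theorem L411606 : sm gh N5032 = N5032 := trfs L411594 (flp_h L62417) rfl
theorem L411607 : sm gi N5032 = N10558 := trfs L411594 (flp_i L90160) rfl
theorem L411608 : N10558 = N3482 := eqes L411607 (flp_i L43292)
theorem L411609 : N10558 = N3482 := eqc rfl L411608 rfl
theorem L411618 : sm gh N3482 = N7283 := trfs L411609 (flp_h L90150) rfl
theorem L411619 : N7283 = N5031 := eqes L411618 L43281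
theorem L411620 : N7283 = N5031 := eqc rfl L411619 rfl
theorem L411627 : sm gg N5031 = N5048 := trfs L411620 L62414 rfl
theorem L411628 : N5048 = N3494 := eqes L411627 L43288
theorem L411629 : N5048 = N3494 := eqc rfl L411628 rfl
theorem L411631 : sm gi N5031 = N5031 := trfs L411620 (flp_i L62406) rfl
theorem L411632 : sm ga N3494 = N3860 := trfs L411629 L43456 rfl
theorem L411633 : N3860 = N2677 := eqes L411632 L30225
theorem L411634 : N3860 = N2677 := eqc rfl L411633 rfl
theorem L411640 : sm gj N3494 = N3509 := trfs L411629 L43463 rfl
theorem L411641 : N3509 = N2433 := eqes L411640 L30231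
theorem L411642 : N3509 = N2433 := eqc rfl L411641 rfl
theorem L411644 : sm gi N3494 = N3494 := trfs L411629 (flp_i L43454) rfl
theorem L411653 : sm gi N2433 = N2433 := trfs L411642 (flp_i L30373) rfl
theorem L411664 : sm gi N2677 = N2677 := trfs L411634 (flp_i L33479) rfl
theorem L411696 : sm gi N7281 = N7281 := trfs L411554 (flp_i L90129) rfl
theorem L411780 : sm gh N8019 = N8019 := trfs L410551 (flp_h L99449) rfl
theorem L411804 : sm gi N16860 = N16860 := trfs L410523 (flp_i L208340) rfl
theorem L411812 : sm gi N16851 = N16851 := trfs L410520 (flp_i L208236) rfl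
theorem L411818 : sm gi N8018 = N8018 := trfs L410517 (flp_i L99441) rfl
theorem L411824 : sm gi N11605 = N11605 := trfs L410505 (flp_i L143667) rfl
theorem L411831 : sm gi N5542 = N5542 := trfs L410502 (flp_i L68897) rfl
theorem L411837 : sm gi N8007 = N8007 := trfs L410490 (flp_i L99294) rfl
theorem L411843 : sm gi N3838 = N3838 := trfs L410487 (flp_i L47835) rfl
theorem L411906 : sm gh N3839 = N3839 := trfs L410449 (flp_h L47843) rfl
theorem L411936 : sm gh N2678 = N2678 := trfs L410432 (flp_h L33487) rfl
theorem L411974 : sm gi N3856 = N3856 := trfs L410392 (flp_i L48060) rfl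
theorem L411980 : sm gi N3882 = N3882 := trfs L410385 (flp_i L48389) rfl
theorem L411986 : sm gi N1875 = N1875 := trfs L410382 (flp_i L23513) rfl
theorem L412031 : sm ge N1306 = N24902 := trfs L410327 L307275 rfl
theorem L412032 : N24902 = N909 := eqes L412031 L11498
theorem L412033 : N24902 = N909 := eqc rfl L412032 rfl
theorem L412037 : sm gc N909 = N36273 := trfs L412033 L307393 rfl
theorem L412038 : N36273 = N630 := eqes L412037 L8041
theorem L412039 : N36273 = N630 := eqc rfl L412038 rfl
theorem L412056 : sm gd N630 = N24944 := trfs L412039 L307397 rfl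
theorem L412057 : N24944 = N433 := eqes L412056 L5582
theorem L412058 : N24944 = N433 := eqc rfl L412057 rfl
theorem L412076 : sm gi N433 = N36325 := trfs L412058 (flp_i L307805) rfl
theorem L412077 : N36325 = N294 := eqes L412076 (flp_i L3845)
theorem L412078 : N36325 = N294 := eqc rfl L412077 rfl
theorem L412080 : sm gc N294 = N24936 := trfs L412078 (flp_c L307801) rfl
theorem L412081 : N24936 = N294 := eqes L412080 L2622
theorem L412082 : N24936 = N294 := eqc rfl L412081 rfl
theorem L412098 : sm gh N294 = N36327 := trfs L412082 L307816 rfl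
theorem L412099 : N36327 = N201 := eqes L412098 (flp_h L2619)
theorem L412100 : N36327 = N201 := eqc rfl L412099 rfl
theorem L412102 : sm gb N201 = N24939 := trfs L412100 L307818 rfl
theorem L412103 : N24939 = N201 := eqes L412102 L1806
theorem L412104 : N24939 = N201 := eqc rfl L412103 rfl
theorem L412118 : sm gj N201 = N35993 := trfs L412104 (flp_j L305026) rfl
theorem L412119 : N35993 = N293 := eqes L412118 L2611
theorem L412120 : N35993 = N293 := eqc rfl L412119 rfl
theorem L412133 : sm gh N293 = N24714 := trfs L412120 (flp_h L305022) rfl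
theorem L412134 : N24714 = N430 := eqes L412133 L3819
theorem L412135 : N24714 = N430 := eqc rfl L412134 rfl
theorem L412150 : sm gi N430 = N16997 := trfs L412135 L210064 rfl
theorem L412151 : N16997 = N626 := eqes L412150 L5547
theorem L412152 : N16997 = N626 := eqc rfl L412151 rfl
theorem L412160 : sm gd N626 = N11700 := trfs L412152 (flp_d L144920) rfl
theorem L412161 : N11700 = N904 := eqes L412160 (flp_d L7998)
theorem L412162 : N11700 = N904 := eqc rfl L412161 rfl
theorem L412173 : sm gh N626 = N24721 := trfs L412152 L210116 rfl
theorem L412174 : N24721 = N905 := eqes L412173 L8004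
theorem L412175 : N24721 = N905 := eqc rfl L412174 rfl
theorem L412186 : sm gg N905 = N35758 := trfs L412175 (flp_g L303020) rfl
theorem L412187 : N35758 = N1293 := eqes L412186 (flp_g L11388)
theorem L412188 : N35758 = N1293 := eqc rfl L412187 rfl
theorem L412198 : sm gd N1293 = N24569 := trfs L412188 L303023 rfl
theorem L412199 : N24569 = N1857 := eqes L412198 L16267
theorem L412200 : N24569 = N1857 := eqc rfl L412199 rfl
theorem L412215 : sm gh N1857 = N16895 := trfs L412200 (flp_h L208808) rfl
theorem L412216 : N16895 = N2668 := eqes L412215 (flp_h L23263)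
theorem L412217 : N16895 = N2668 := eqc rfl L412216 rfl
theorem L412231 : sm gf N2668 = N24568 := trfs L412217 L208800 rfl
theorem L412232 : N24568 = N2668 := eqes L412231 L23258
theorem L412233 : N24568 = N2668 := eqc rfl L412232 rfl
theorem L412249 : sm ge N2668 = N35774 := trfs L412233 L303145 rfl
theorem L412250 : N35774 = N3846 := eqes L412249 L33350
theorem L412251 : N35774 = N3846 := eqc rfl L412250 rfl
theorem L412259 : sm gf N3846 = N24596 := trfs L412251 L303151 rfl
theorem L412260 : N24596 = N5555 := eqes L412259 L47929
theorem L412261 : N24596 = N5555 := eqc rfl L412260 rfl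
theorem L412277 : sm gh N5555 = N35818 := trfs L412261 L303509 rfl
theorem L412278 : N35818 = N3849 := eqes L412277 L47933
theorem L412279 : N35818 = N3849 := eqc rfl L412278 rfl
theorem L412281 : sm gc N3849 = N24613 := trfs L412279 L303511 rfl
theorem L412282 : N24613 = N5559 := eqes L412281 (flp_c L47968)
theorem L412283 : N24613 = N5559 := eqc rfl L412282 rfl
theorem L412306 : sm gi N5559 = N35844 := trfs L412283 L303723 rfl
theorem L412307 : N35844 = N3853 := eqes L412306 L47971
theorem L412308 : N35844 = N3853 := eqc rfl L412307 rfl
theorem L412309 : sm ge N3853 = N24616 := trfs L412308 L303725 rfl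
theorem L412310 : N24616 = N3853 := eqes L412309 L33417
theorem L412311 : N24616 = N3853 := eqc rfl L412310 rfl
theorem L412315 : sm gb N3853 = N35839 := trfs L412311 (flp_b L303690) rfl
theorem L412316 : N35839 = N5563 := eqes L412315 (flp_b L48002)
theorem L412317 : N35839 = N5563 := eqc rfl L412316 rfl
theorem L412338 : sm gi N5563 = N24609 := trfs L412317 (flp_i L303688) rfl
theorem L412339 : N24609 = N8042 := eqes L412338 (flp_i L69088)
theorem L412340 : N24609 = N8042 := eqc rfl L412339 rfl
theorem L412353 : sm gh N8042 = N16920 := trfs L412340 (flp_h L209140) rfl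
theorem L412354 : N16920 = N11650 := eqes L412353 (flp_h L99670)
theorem L412355 : N16920 = N11650 := eqc rfl L412354 rfl
theorem L412369 : sm gf N11650 = N11649 := trfs L412355 (flp_f L144251) rfl
theorem L412370 : N11649 = N8036 := eqes L412369 (flp_f L99664)
theorem L412371 : N11649 = N8036 := eqc rfl L412370 rfl
theorem L412372 : sm gg N11650 = N24608 := trfs L412355 L209131 rfl
theorem L412373 : N24608 = N16922 := eqes L412372 L144268
theorem L412374 : N24608 = N16922 := eqc rfl L412373 rfl
theorem L412383 : sm ge N16922 = N35835 := trfs L412374 (flp_e L303658) rfl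
theorem L412384 : N35835 = N16922 := eqes L412383 L144273
theorem L412385 : N35835 = N16922 := eqc rfl L412384 rfl
theorem L412397 : sm gb N16922 = N24612 := trfs L412385 L303655 rfl
theorem L412398 : N24612 = N11653 := eqes L412397 L144270
theorem L412399 : N24612 = N11653 := eqc rfl L412398 rfl
theorem L412403 : sm ga N11653 = N32544 := trfs L412399 (flp_a L275716) rfl
theorem L412404 : N32544 = N15361 := eqes L412403 (flp_a L130803)
theorem L412405 : N32544 = N15361 := eqc rfl L412404 rfl
theorem L412431 : sm gg N15361 = N22343 := trfs L412405 (flp_g L275714) rfl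
theorem L412432 : N22343 = N10574 := eqes L412431 (flp_g L130801)
theorem L412433 : N22343 = N10574 := eqc rfl L412432 rfl
theorem L412440 : sm gd N10574 = N10574 := trfs L412433 L189767 L412433
theorem L412441 : N10574 = N15359 := eqes L412440 (flp_d L130788)
theorem L412442 : N15359 = N10574 := (eqc rfl L412441 rfl).symm
theorem L412467 : sm gh N10574 = N22345 := trfs L412442 L189777 rfl
theorem L412468 : N22345 = N7298 := eqes L412467 L90316
theorem L412469 : N22345 = N7298 := eqc rfl L412468 rfl
theorem L412483 : sm gg N7298 = N32547 := trfs L412469 (flp_g L275745) rfl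
theorem L412484 : N32547 = N10581 := eqes L412483 L90378
theorem L412485 : N32547 = N10581 := eqc rfl L412484 rfl
theorem L412489 : sm gd N10581 = N22362 := trfs L412485 L275747 rfl
theorem L412490 : N22362 = N15370 := eqes L412489 (flp_d L130896)
theorem L412491 : N22362 = N15370 := eqc rfl L412490 rfl
theorem L412508 : sm ge N15370 = N32569 := trfs L412491 (flp_e L275960) rfl
theorem L412509 : N32569 = N22359 := eqes L412508 (flp_e L189920)
theorem L412510 : N32569 = N22359 := eqc rfl L412509 rfl
theorem L412542 : sm gg N22359 = N22360 := trfs L412510 L275962 rfl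
theorem L412543 : N22360 = N15369 := eqes L412542 (flp_g L189914)
theorem L412544 : N22360 = N15369 := eqc rfl L412543 rfl
theorem L412558 : sm gi N15369 = N32571 := trfs L412544 L275971 rfl
theorem L412559 : N32571 = N10589 := eqes L412558 L130887
theorem L412560 : N32571 = N10589 := eqc rfl L412559 rfl
theorem L412568 : sm gh N10589 = N22386 := trfs L412560 L275980 rfl
theorem L412569 : N22386 = N15386 := eqes L412568 L131035
theorem L412570 : N22386 = N15386 := eqc rfl L412569 rfl
theorem L412579 : sm ge N15386 = N15389 := trfs L412570 L190160 rfl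
theorem L412580 : N15389 = N10591 := eqes L412579 L131040
theorem L412581 : N15389 = N10591 := eqc rfl L412580 rfl
theorem L412598 : sm gf N10591 = N10592 := trfs L412581 L131070 rfl
theorem L412599 : N10592 = N7304 := eqes L412598 L90472
theorem L412600 : N10592 = N7304 := eqc rfl L412599 rfl
theorem L412605 : sm ga N7304 = N8056 := trfs L412600 L90478 rfl
theorem L412606 : N8056 = N5565 := eqes L412605 L62617
theorem L412607 : N8056 = N5565 := eqc rfl L412606 rfl
theorem L412621 : sm gg N5565 = N5606 := trfs L412607 L69199 rfl
theorem L412622 : N5606 = N3879 := eqes L412621 L48018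
theorem L412623 : N5606 = N3879 := eqc rfl L412622 rfl
theorem L412625 : sm gh N5565 = N11664 := trfs L412607 (flp_h L99793) rfl
theorem L412626 : N11664 = N3852 := eqes L412625 (flp_h L48014)
theorem L412627 : N11664 = N3852 := eqc rfl L412626 rfl
theorem L412639 : sm gi N3852 = N8044 := trfs L412627 (flp_i L99786) rfl
theorem L412640 : N8044 = N5558 := eqes L412639 (flp_i L47962)
theorem L412641 : N8044 = N5558 := eqc rfl L412640 rfl
theorem L412642 : sm ga N5558 = N10580 := trfs L412641 (flp_a L90371) rfl
theorem L412643 : N10580 = N7297 := eqes L412642 (flp_a L62553)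
theorem L412644 : N10580 = N7297 := eqc rfl L412643 rfl
theorem L412654 : sm gg N5558 = N5594 := trfs L412641 L69103 rfl
theorem L412655 : N5594 = N3872 := eqes L412654 L47959
theorem L412656 : N5594 = N3872 := eqc rfl L412655 rfl
theorem L412658 : sm gh N5558 = N5558 := trfs L412641 (flp_h L69099) rfl
theorem L412665 : sm gj N3872 = N3908 := trfs L412656 L48276 rfl
theorem L412666 : N3908 = N2709 := eqes L412665 L33582
theorem L412667 : N3908 = N2709 := eqc rfl L412666 rfl
theorem L412668 : sm gh N3872 = N3872 := trfs L412656 (flp_h L48272) rfl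
theorem L412677 : sm gh N2709 = N2709 := trfs L412667 (flp_h L33865) rfl
theorem L412678 : sm gi N2709 = N5650 := trfs L412667 L48706 rfl
theorem L412679 : N5650 = N1887 := eqes L412678 L23604
theorem L412680 : N5650 = N1887 := eqc rfl L412679 rfl
theorem L412691 : sm gh N1887 = N3920 := trfs L412680 L48711 rfl
theorem L412692 : N3920 = N2716 := eqes L412691 L23651
theorem L412693 : N3920 = N2716 := eqc rfl L412692 rfl
theorem L412694 : sm ga N2716 = N5101 := trfs L412693 (flp_a L43933) rfl
theorem L412695 : N5101 = N3528 := eqes L412694 (flp_a L30539)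
theorem L412696 : N5101 = N3528 := eqc rfl L412695 rfl
theorem L412704 : sm gi N2716 = N2716 := trfs L412693 (flp_i L33948) rfl
theorem L412709 : sm gf N3528 = N7389 := trfs L412696 (flp_f L63383) rfl
theorem L412710 : N7389 = N5100 := eqes L412709 (flp_f L43928)
theorem L412711 : N7389 = N5100 := eqc rfl L412710 rfl
theorem L412715 : sm gi N3528 = N3528 := trfs L412696 (flp_i L43931) rfl
theorem L412724 : sm gi N5100 = N5100 := trfs L412711 (flp_i L63377) rfl
theorem L412769 : sm gh N7297 = N7297 := trfs L412644 (flp_h L90369) rfl
theorem L412784 : sm gi N3879 = N3879 := trfs L412623 (flp_i L48365) rfl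
theorem L413131 : sm gc N8036 = N16919 := trfs L412371 L144244 rfl
theorem L413132 : N16919 = N8036 := eqes L413131 L69031
theorem L413133 : N16919 = N8036 := eqc rfl L413132 rfl
theorem L413173 : sm gh N8036 = N24606 := trfs L413133 L209117 rfl
theorem L413174 : N24606 = N5557 := eqes L413173 L69035
theorem L413175 : N24606 = N5557 := eqc rfl L413174 rfl
theorem L413185 : sm ge N5557 = N35784 := trfs L413175 (flp_e L303234) rfl
theorem L413186 : N35784 = N3847 := eqes L413185 (flp_e L47947)
theorem L413187 : N35784 = N3847 := eqc rfl L413186 rfl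
theorem L413193 : sm gg N3847 = N24740 := trfs L413187 L303236 rfl
theorem L413194 : N24740 = N2684 := eqes L413193 L33363
theorem L413195 : N24740 = N2684 := eqc rfl L413194 rfl
theorem L413203 : sm gd N2684 = N36034 := trfs L413195 L305360 rfl
theorem L413204 : N36034 = N2684 := eqes L413203 L23400
theorem L413205 : N36034 = N2684 := eqc rfl L413204 rfl
theorem L413212 : sm gj N2684 = N24980 := trfs L413205 L305362 rfl
theorem L413213 : N24980 = N1882 := eqes L413212 L23403
theorem L413214 : N24980 = N1882 := eqc rfl L413213 rfl
theorem L413224 : sm gf N1882 = N36392 := trfs L413214 (flp_f L308304) rfl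
theorem L413225 : N36392 = N1327 := eqes L413224 L16483
theorem L413226 : N36392 = N1327 := eqc rfl L413225 rfl
theorem L413241 : sm gd N1327 = N24979 := trfs L413226 (flp_d L308302) rfl
theorem L413242 : N24979 = N1327 := eqes L413241 L11668
theorem L413243 : N24979 = N1327 := eqc rfl L413242 rfl
theorem L413253 : sm gh N1327 = N17168 := trfs L413243 (flp_h L212225) rfl
theorem L413254 : N17168 = N1905 := eqes L413253 (flp_h L16669)
theorem L413255 : N17168 = N1905 := eqc rfl L413254 rfl
theorem L413262 : sm gd N1905 = N24923 := trfs L413255 (flp_d L211815) rfl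
theorem L413263 : N24923 = N2739 := eqes L413262 (flp_d L23850)
theorem L413264 : N24923 = N2739 := eqc rfl L413263 rfl
theorem L413323 : sm gj N2739 = N35977 := trfs L413264 (flp_j L304889) rfl
theorem L413324 : N35977 = N3924 := eqes L413323 (flp_j L33987)
theorem L413325 : N35977 = N3924 := eqc rfl L413324 rfl
theorem L413332 : sm gf N3924 = N24703 := trfs L413325 (flp_f L304883) rfl
theorem L413333 : N24703 = N5579 := eqes L413332 (flp_f L48142)
theorem L413334 : N24703 = N5579 := eqc rfl L413333 rfl
theorem L413337 : sm gb N5579 = N35964 := trfs L413334 (flp_b L304770) rfl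
theorem L413338 : N35964 = N3863 := eqes L413337 (flp_b L48138)
theorem L413339 : N35964 = N3863 := eqc rfl L413338 rfl
theorem L413362 : sm gc N3863 = N24695 := trfs L413339 (flp_c L304764) rfl
theorem L413363 : N24695 = N2680 := eqes L413362 (flp_c L33500)
theorem L413364 : N24695 = N2680 := eqc rfl L413363 rfl
theorem L414008 : sm ga N2680 = N35962 := trfs L413364 (flp_a L304746) rfl
theorem L414009 : N35962 = N3497 := eqes L414008 (flp_a L30261)
theorem L414010 : N35962 = N3497 := eqc rfl L414009 rfl
theorem L414036 : sm ge N3497 = N3497 := trfs L414010 L304752 L414010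
theorem L414037 : N3497 = N5052 := eqes L414036 L43496
theorem L414038 : N5052 = N3497 := (eqc rfl L414037 rfl).symm
theorem L414046 : sm gf N3497 = N7313 := trfs L414038 L62708 rfl
theorem L414047 : N7313 = N2448 := eqes L414046 L30264
theorem L414048 : N7313 = N2448 := eqc rfl L414047 rfl
theorem L414057 : sm ge N2448 = N5105 := trfs L414048 L62717 rfl
theorem L414058 : N5105 = N3532 := eqes L414057 L30575
theorem L414059 : N5105 = N3532 := eqc rfl L414058 rfl
theorem L414076 : sm gj N3532 = N3550 := trfs L414059 L43976 rfl
theorem L414077 : N3550 = N2460 := eqes L414076 L30581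
theorem L414078 : N3550 = N2460 := eqc rfl L414077 rfl
theorem L414089 : sm gg N2460 = N5133 := trfs L414078 L44238 rfl
theorem L414090 : N5133 = N1721 := eqes L414089 L21422
theorem L414091 : N5133 = N1721 := eqc rfl L414090 rfl
theorem L414102 : sm gj N1721 = N7435 := trfs L414091 L63820 rfl
theorem L414103 : N7435 = N1721 := eqes L414102 L15066
theorem L414104 : N7435 = N1721 := eqc rfl L414103 rfl
theorem L414114 : sm gf N1721 = N5174 := trfs L414104 L63826 rfl
theorem L414115 : N5174 = N2478 := eqes L414114 L21574
theorem L414116 : N5174 = N2478 := eqc rfl L414115 rfl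
theorem L414131 : sm ga N2478 = N4003 := trfs L414116 L44599 rfl
theorem L414132 : N4003 = N1924 := eqes L414131 L21576
theorem L414133 : N4003 = N1924 := eqc rfl L414132 rfl
theorem L414162 : sm gg N1924 = N1924 := trfs L414133 L34626 L414133
theorem L414163 : N1924 = N2772 := eqes L414162 L24101
theorem L414164 : N2772 = N1924 := (eqc rfl L414163 rfl).symm
theorem L414169 : sm gb N1924 = N3996 := trfs L414164 (flp_b L34570) rfl
theorem L414170 : N3996 = N2767 := eqes L414169 (flp_b L24064)
theorem L414171 : N3996 = N2767 := eqc rfl L414170 rfl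
theorem L414180 : sm gc N2767 = N5779 := trfs L414171 (flp_c L49749) rfl
theorem L414181 : N5779 = N3995 := eqes L414180 (flp_c L34561)
theorem L414182 : N5779 = N3995 := eqc rfl L414181 rfl
theorem L414243 : sm gj N3995 = N8378 := trfs L414182 L71808 rfl
theorem L414244 : N8378 = N3995 := eqes L414243 L34563
theorem L414245 : N8378 = N3995 := eqc rfl L414244 rfl
theorem L414249 : sm gb N3995 = N12158 := trfs L414245 (flp_b L103812) rfl
theorem L414250 : N12158 = N5776 := eqes L414249 (flp_b L49723)
theorem L414251 : N12158 = N5776 := eqc rfl L414250 rfl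
theorem L414269 : sm gf N5776 = N17465 := trfs L414251 (flp_f L148757) rfl
theorem L414270 : N17465 = N3993 := eqes L414269 (flp_f L49721)
theorem L414271 : N17465 = N3993 := eqc rfl L414270 rfl
theorem L414285 : sm gj N3993 = N12010 := trfs L414271 (flp_j L148751) rfl
theorem L414286 : N12010 = N3993 := eqes L414285 L34548
theorem L414287 : N12010 = N3993 := eqc rfl L414286 rfl
theorem L414300 : sm gg N3993 = N8275 := trfs L414287 (flp_g L102626) rfl
theorem L414301 : N8275 = N5711 := eqes L414300 (flp_g L49218)
theorem L414302 : N8275 = N5711 := eqc rfl L414301 rfl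
theorem L414305 : sm ga N5711 = N12006 := trfs L414302 (flp_a L102595) rfl
theorem L414306 : N12006 = N8273 := eqes L414305 (flp_a L70967)
theorem L414307 : N12006 = N8273 := eqc rfl L414306 rfl
theorem L414412 : sm gj N8273 = N17313 := trfs L414307 (flp_j L147411) rfl
theorem L414413 : N17313 = N11910 := eqes L414412 (flp_j L101743)
theorem L414414 : N17313 = N11910 := eqc rfl L414413 rfl
theorem L414420 : sm gd N11910 = N25192 := trfs L414414 (flp_d L213861) rfl
theorem L414421 : N25192 = N17312 := eqes L414420 L147394
theorem L414422 : N25192 = N17312 := eqc rfl L414421 rfl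
theorem L414459 : sm gh N17312 = N36710 := trfs L414422 L310765 rfl
theorem L414460 : N36710 = N25193 := eqes L414459 L213866
theorem L414461 : N36710 = N25193 := eqc rfl L414460 rfl
theorem L414467 : sm gj N25193 = N25409 := trfs L414461 L310772 rfl
theorem L414468 : N25409 = N17457 := eqes L414467 L213873
theorem L414469 : N25409 = N17457 := eqc rfl L414468 rfl
theorem L414478 : sm gg N17457 = N37034 := trfs L414469 (flp_g L313638) rfl
theorem L414479 : N37034 = N12150 := eqes L414478 L148690
theorem L414480 : N37034 = N12150 := eqc rfl L414479 rfl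
theorem L414498 : sm gh N12150 = N25408 := trfs L414480 (flp_h L313631) rfl
theorem L414499 : N25408 = N8368 := eqes L414498 (flp_h L103745)
theorem L414500 : N25408 = N8368 := eqc rfl L414499 rfl
theorem L414512 : sm gj N8368 = N37033 := trfs L414500 L313621 rfl
theorem L414513 : N37033 = N8368 := eqes L414512 L71731
theorem L414514 : N37033 = N8368 := eqc rfl L414513 rfl
theorem L414519 : sm gf N8368 = N25732 := trfs L414514 L313628 rfl
theorem L414520 : N25732 = N12149 := eqes L414519 L103736
theorem L414521 : N25732 = N12149 := eqc rfl L414520 rfl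
theorem L414535 : sm gh N12149 = N37516 := trfs L414521 L317510 rfl
theorem L414536 : N37516 = N17673 := eqes L414535 L150425
theorem L414537 : N37516 = N17673 := eqc rfl L414536 rfl
theorem L414539 : sm ga N17673 = N25749 := trfs L414537 L317512 rfl
theorem L414540 : N25749 = N12156 := eqes L414539 L150427
theorem L414541 : N25749 = N12156 := eqc rfl L414540 rfl
theorem L414548 : sm gc N12156 = N37525 := trfs L414541 (flp_c L317588) rfl
theorem L414549 : N37525 = N17678 := eqes L414548 (flp_c L150473)
theorem L414550 : N37525 = N17678 := eqc rfl L414549 rfl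
theorem L414567 : sm gg N17678 = N17678 := trfs L414550 L317590 L414550
theorem L414568 : N17678 = N25739 := eqes L414567 (flp_g L218447)
theorem L414569 : N25739 = N17678 := (eqc rfl L414568 rfl).symm
theorem L414587 : sm gh N17678 = N17677 := trfs L414569 (flp_h L218442) rfl
theorem L414588 : N17677 = N12152 := eqes L414587 (flp_h L150470)
theorem L414589 : N17677 = N12152 := eqc rfl L414588 rfl
theorem L414605 : sm ge N12152 = N25736 := trfs L414589 (flp_e L218421) rfl
theorem L414606 : N25736 = N17676 := eqes L414605 L150454
theorem L414607 : N25736 = N17676 := eqc rfl L414606 rfl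
theorem L414617 : sm gd N17676 = N37518 := trfs L414607 (flp_d L317532) rfl
theorem L414618 : N37518 = N25735 := eqes L414617 L218407
theorem L414619 : N37518 = N25735 := eqc rfl L414618 rfl
theorem L414683 : sm ge N25735 = N25780 := trfs L414619 L317534 rfl
theorem L414684 : N25780 = N17705 := eqes L414683 L218414
theorem L414685 : N25780 = N17705 := eqc rfl L414684 rfl
theorem L414696 : sm gf N17705 = N37585 := trfs L414685 L318082 rfl
theorem L414697 : N37585 = N12201 := eqes L414696 L150690
theorem L414698 : N37585 = N12201 := eqc rfl L414697 rfl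
theorem L414720 : sm gg N12201 = N25847 := trfs L414698 L318089 rfl
theorem L414721 : N25847 = N17750 := eqes L414720 L151050
theorem L414722 : N25847 = N17750 := eqc rfl L414721 rfl
theorem L414736 : sm gj N17750 = N37687 := trfs L414722 L318915 rfl
theorem L414737 : N37687 = N25848 := eqes L414736 L219333
theorem L414738 : N37687 = N25848 := eqc rfl L414737 rfl
theorem L414748 : sm gd N25848 = N25852 := trfs L414738 L318919 rfl
theorem L414749 : N25852 = N17753 := eqes L414748 L219337
theorem L414750 : N25852 = N17753 := eqc rfl L414749 rfl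
theorem L414764 : sm gh N17753 = N37696 := trfs L414750 L318979 rfl
theorem L414765 : N37696 = N25854 := eqes L414764 L219377
theorem L414766 : N37696 = N25854 := eqc rfl L414765 rfl
theorem L414771 : sm gj N25854 = N25853 := trfs L414766 L318986 rfl
theorem L414772 : N25853 = N17754 := eqes L414771 L219385
theorem L414773 : N25853 = N17754 := eqc rfl L414772 rfl
theorem L414784 : sm gg N17754 = N37591 := trfs L414773 (flp_g L318136) rfl
theorem L414785 : N37591 = N12203 := eqes L414784 L151086
theorem L414786 : N37591 = N12203 := eqc rfl L414785 rfl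
theorem L414797 : sm gf N12203 = N25784 := trfs L414786 L318134 rfl
theorem L414798 : N25784 = N17707 := eqes L414797 (flp_f L150710)
theorem L414799 : N25784 = N17707 := eqc rfl L414798 rfl
theorem L414815 : sm gi N17707 = N37594 := trfs L414799 L318153 rfl
theorem L414816 : N37594 = N25786 := eqes L414815 L218827
theorem L414817 : N37594 = N25786 := eqc rfl L414816 rfl
theorem L414819 : sm gc N25786 = N25799 := trfs L414817 L318156 rfl
theorem L414820 : N25799 = N17718 := eqes L414819 L218830
theorem L414821 : N25799 = N17718 := eqc rfl L414820 rfl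
theorem L414829 : sm gd N17718 = N37615 := trfs L414821 (flp_d L318322) rfl
theorem L414830 : N37615 = N25801 := eqes L414829 (flp_d L218949)
theorem L414831 : N37615 = N25801 := eqc rfl L414830 rfl
theorem L414843 : sm gi N25801 = N25798 := trfs L414831 (flp_i L318318) rfl
theorem L414844 : N25798 = N17717 := eqes L414843 (flp_i L218945)
theorem L414845 : N25798 = N17717 := eqc rfl L414844 rfl
theorem L414849 : sm gb N17717 = N17724 := trfs L414845 L218923 rfl
theorem L414850 : N17724 = N12185 := eqes L414849 L150784
theorem L414851 : N17724 = N12185 := eqc rfl L414850 rfl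
theorem L415624 : sm ga N12185 = N23034 := trfs L414851 (flp_a L195909) rfl
theorem L415625 : N23034 = N15821 := eqes L415624 (flp_a L134927)
theorem L415626 : N23034 = N15821 := eqc rfl L415625 rfl
theorem L415627 : sm gc N12185 = N25809 := trfs L414851 L219010 rfl
theorem L415628 : N25809 = N17726 := eqes L415627 L150853
theorem L415629 : N25809 = N17726 := eqc rfl L415628 rfl
theorem L415637 : sm ga N17726 = N33578 := trfs L415629 (flp_a L284828) rfl
theorem L415638 : N33578 = N23036 := eqes L415637 (flp_a L195927)
theorem L415639 : N33578 = N9648 := eqc rfl L415638 L394233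
theorem L415697 : sm gc N9648 = N15821 := trfs L415639 (flp_c L284826) L415626
theorem L415698 : N15821 = N13998 := eqes L415697 (flp_c L119252)
theorem L415699 : N15821 = N13998 := eqc rfl L415698 rfl
theorem L415711 : sm gd N13998 = N10879 := trfs L415699 (flp_d L134925) rfl
theorem L415712 : N10879 = N20352 := eqes L415711 (flp_d L172954)
theorem L415713 : N20352 = N10879 := (eqc rfl L415712 rfl).symm
theorem L415721 : sm gi N13998 = N23037 := trfs L415699 L195935 rfl
theorem L415722 : N23037 = N9644 := eqes L415721 (flp_i L119248)
theorem L415723 : N23037 = N9644 := eqc rfl L415722 rfl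
theorem L415731 : sm gd N9644 = N15822 := trfs L415723 L195939 rfl
theorem L415732 : N15822 = N13997 := eqes L415731 L119240
theorem L415733 : N15822 = N13997 := eqc rfl L415732 rfl
theorem L415740 : sm gh N9644 = N33582 := trfs L415723 L284863 rfl
theorem L415741 : N33582 = N6656 := eqes L415740 (flp_h L82404)
theorem L415742 : N33582 = N6656 := eqc rfl L415741 rfl
theorem L415743 : sm ga N6656 = N25813 := trfs L415742 L284865 rfl
theorem L415744 : N25813 = N9639 := eqes L415743 (flp_a L82360)
theorem L415745 : N25813 = N9639 := eqc rfl L415744 rfl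
theorem L415759 : sm gf N9639 = N17783 := trfs L415745 L219044 rfl
theorem L415760 : N17783 = N13987 := eqes L415759 L119147
theorem L415761 : N17783 = N13987 := eqc rfl L415760 rfl
theorem L415786 : sm gh N13987 = N12223 := trfs L415761 (flp_h L151303) rfl
theorem L415787 : N12223 = N20336 := eqes L415786 L172800
theorem L415788 : N20336 = N12223 := (eqc rfl L415787 rfl).symm
theorem L415811 : sm gi N12223 = N29601 := trfs L415788 L250930 rfl
theorem L415812 : N29601 = N8416 := eqes L415811 (flp_i L104321)
theorem L415813 : N29601 = N8416 := eqc rfl L415812 rfl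
theorem L415822 : sm ge N8416 = N43140 := trfs L415813 (flp_e L364812) rfl
theorem L415823 : N43140 = N5829 := eqes L415822 L72103
theorem L415824 : N43140 = N5829 := eqc rfl L415823 rfl
theorem L415840 : sm gc N5829 = N29608 := trfs L415824 L364810 rfl
theorem L415841 : N29608 = N8453 := eqes L415840 L72411
theorem L415842 : N29608 = N8453 := eqc rfl L415841 rfl
theorem L415861 : sm gi N8453 = N20340 := trfs L415842 (flp_i L250995) rfl
theorem L415862 : N20340 = N12278 := eqes L415861 L104785
theorem L415863 : N20340 = N12278 := eqc rfl L415862 rfl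
theorem L415878 : sm gh N12278 = N13989 := trfs L415863 (flp_h L172836) rfl
theorem L415879 : N13989 = N17864 := eqes L415878 L151981
theorem L415880 : N17864 = N13989 := (eqc rfl L415879 rfl).symm
theorem L415882 : sm gb N13989 = N26015 := trfs L415880 (flp_b L220704) rfl
theorem L415883 : N26015 = N13989 := eqes L415882 L119169
theorem L415884 : N26015 = N13989 := eqc rfl L415883 rfl
theorem L415906 : sm gg N13989 = N37930 := trfs L415884 (flp_g L320913) rfl
theorem L415907 : N37930 = N20339 := eqes L415906 L172827
theorem L415908 : N37930 = N20339 := eqc rfl L415907 rfl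
theorem L415914 : sm gh N20339 = N26012 := trfs L415908 (flp_h L320909) rfl
theorem L415915 : N26012 = N29606 := eqes L415914 L250977
theorem L415916 : N26012 = N17860 := eqc rfl L415915 L394300
theorem L415927 : sm ge N17860 = N37750 := trfs L415916 (flp_e L319401) rfl
theorem L415928 : N37750 = N25890 := eqes L415927 (flp_e L219663)
theorem L415929 : N37750 = N25890 := eqc rfl L415928 rfl
theorem L415937 : sm gi N17860 = N17859 := trfs L415916 (flp_i L220678) rfl
theorem L415938 : N17859 = N12275 := eqes L415937 (flp_i L151951)
theorem L415939 : N17859 = N12275 := eqc rfl L415938 rfl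
theorem L415957 : sm gj N12275 = N26008 := trfs L415939 (flp_j L220651) rfl
theorem L415958 : N26008 = N17857 := eqes L415957 (flp_j L151932)
theorem L415959 : N26008 = N17857 := eqc rfl L415958 rfl
theorem L415974 : sm gf N17857 = N37914 := trfs L415959 (flp_f L320788) rfl
theorem L415975 : N37914 = N26000 := eqes L415974 (flp_f L220590)
theorem L415976 : N37914 = N26000 := eqc rfl L415975 rfl
theorem L415981 : sm gd N26000 = N26811 := trfs L415976 L320786 rfl
theorem L415982 : N26811 = N18408 := eqes L415981 L220595
theorem L415983 : N26811 = N18408 := eqc rfl L415982 rfl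
theorem L416006 : sm gi N18408 = N39104 := trfs L415983 L330475 rfl
theorem L416007 : N39104 = N26813 := eqes L416006 L227215
theorem L416008 : N39104 = N26813 := eqc rfl L416007 rfl
theorem L416013 : sm gj N26813 = N26817 := trfs L416008 L330481 rfl
theorem L416014 : N26817 = N18413 := eqes L416013 L227221
theorem L416015 : N26817 = N18413 := eqc rfl L416014 rfl
theorem L416025 : sm ge N18413 = N39110 := trfs L416015 (flp_e L330525) rfl
theorem L416026 : N39110 = N26819 := eqes L416025 (flp_e L227263)
theorem L416027 : N39110 = N26819 := eqc rfl L416026 rfl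
theorem L416036 : sm gi N26819 = N26816 := trfs L416027 (flp_i L330521) rfl
theorem L416037 : N26816 = N18412 := eqes L416036 (flp_i L227259)
theorem L416038 : N26816 = N18412 := eqc rfl L416037 rfl
theorem L416051 : sm gh N18412 = N18620 := trfs L416038 L227244 rfl
theorem L416052 : N18620 = N12803 := eqes L416051 L156458
theorem L416053 : N18620 = N12803 := eqc rfl L416052 rfl
theorem L416069 : sm gj N12803 = N27098 := trfs L416053 (flp_j L229548) rfl
theorem L416070 : N27098 = N18618 := eqes L416069 (flp_j L158143)
theorem L416071 : N27098 = N18618 := eqc rfl L416070 rfl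
theorem L416085 : sm gg N18618 = N39489 := trfs L416071 (flp_g L333628) rfl
theorem L416086 : N39489 = N27095 := eqes L416085 (flp_g L229525)
theorem L416087 : N39489 = N27095 := eqc rfl L416086 rfl
theorem L416091 : sm ge N27095 = N27094 := trfs L416087 (flp_e L333624) rfl
theorem L416092 : N27094 = N18615 := eqes L416091 (flp_e L229521)
theorem L416093 : N27094 = N18615 := eqc rfl L416092 rfl
theorem L416100 : sm gc N18615 = N39479 := trfs L416093 (flp_c L333550) rfl
theorem L416101 : N39479 = N12799 := eqes L416100 (flp_c L158116)
theorem L416102 : N39479 = N12799 := eqc rfl L416101 rfl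
theorem L416113 : sm gg N12799 = N27088 := trfs L416102 L333546 rfl
theorem L416114 : N27088 = N8817 := eqes L416113 L109037
theorem L416115 : N27088 = N8817 := eqc rfl L416114 rfl
theorem L416132 : sm gj N8817 = N18611 := trfs L416115 L229468 rfl
theorem L416133 : N18611 = N6083 := eqes L416132 L75374
theorem L416134 : N18611 = N6083 := eqc rfl L416133 rfl
theorem L416152 : sm gh N6083 = N26799 := trfs L416134 (flp_h L227097) rfl
theorem L416153 : N26799 = N8706 := eqes L416152 (flp_h L74465)
theorem L416154 : N26799 = N8706 := eqc rfl L416153 rfl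
theorem L416167 : sm gf N8706 = N18402 := trfs L416154 L227094 rfl
theorem L416168 : N18402 = N6001 := eqes L416167 L74462
theorem L416169 : N18402 = N6001 := eqc rfl L416168 rfl
theorem L416191 : sm gi N6001 = N26806 := trfs L416169 L227154 rfl
theorem L416192 : N26806 = N8711 := eqes L416191 L74498
theorem L416193 : N26806 = N8711 := eqc rfl L416192 rfl
theorem L416209 : sm gj N8711 = N39095 := trfs L416193 (flp_j L330404) rfl
theorem L416210 : N39095 = N12652 := eqes L416209 (flp_j L107846)
theorem L416211 : N39095 = N12652 := eqc rfl L416210 rfl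
theorem L416213 : sm gb N12652 = N26804 := trfs L416211 L330398 rfl
theorem L416214 : N26804 = N18401 := eqes L416213 (flp_b L156361)
theorem L416215 : N26804 = N18401 := eqc rfl L416214 rfl
theorem L416235 : sm gi N18401 = N18400 := trfs L416215 (flp_i L227136) rfl
theorem L416236 : N18400 = N12639 := eqes L416235 (flp_i L156359)
theorem L416237 : N18400 = N12639 := eqc rfl L416236 rfl
theorem L416252 : sm gh N12639 = N12796 := trfs L416237 L156357 rfl
theorem L416253 : N12796 = N8813 := eqes L416252 L107742
theorem L416254 : N12796 = N8813 := eqc rfl L416253 rfl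
theorem L416266 : sm gj N8813 = N8814 := trfs L416254 L109015 rfl
theorem L416267 : N8814 = N6079 := eqes L416266 L75343
theorem L416268 : N8814 = N6079 := eqc rfl L416267 rfl
theorem L416274 : sm gc N6079 = N6079 := trfs L416268 (flp_c L75347) rfl
theorem L416280 : sm gg N6079 = N6080 := trfs L416268 L75350 rfl
theorem L416281 : N6080 = N4201 := eqes L416280 L52164
theorem L416282 : N6080 = N4201 := eqc rfl L416281 rfl
theorem L416285 : sm ga N4201 = N8794 := trfs L416282 (flp_a L75181) rfl
theorem L416286 : N8794 = N6064 := eqes L416285 (flp_a L52033)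
theorem L416287 : N8794 = N6064 := eqc rfl L416286 rfl
theorem L416291 : sm gc N4201 = N4201 := trfs L416282 (flp_c L52168) rfl
theorem L416298 : sm gh N4201 = N8701 := trfs L416282 (flp_h L74424) rfl
theorem L416299 : N8701 = N5994 := eqes L416298 (flp_h L51476)
theorem L416300 : N8701 = N5994 := eqc rfl L416299 rfl
theorem L416314 : sm gi N5994 = N12644 := trfs L416300 L107781 rfl
theorem L416315 : N12644 = N8702 := eqes L416314 L74426
theorem L416316 : N12644 = N8702 := eqc rfl L416315 rfl
theorem L416322 : sm gd N8702 = N18378 := trfs L416316 (flp_d L156194) rfl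
theorem L416323 : N18378 = N5995 := eqes L416322 L74430
theorem L416324 : N18378 = N5995 := eqc rfl L416323 rfl
theorem L416347 : sm gh N5995 = N26776 := trfs L416324 L226920 rfl
theorem L416348 : N26776 = N4173 := eqes L416347 L51486
theorem L416349 : N26776 = N4173 := eqc rfl L416348 rfl
theorem L416369 : sm gi N4173 = N39024 := trfs L416349 (flp_i L329881) rfl
theorem L416370 : N39024 = N2882 := eqes L416369 (flp_i L35950)
theorem L416371 : N39024 = N2882 := eqc rfl L416370 rfl
theorem L416378 : sm gh N2882 = N26752 := trfs L416371 (flp_h L329874) rfl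
theorem L416379 : N26752 = N1995 := eqes L416378 (flp_h L24958)
theorem L416380 : N26752 = N1995 := eqc rfl L416379 rfl
theorem L416401 : sm gi N1995 = N18364 := trfs L416380 (flp_i L226755) rfl
theorem L416402 : N18364 = N2858 := eqes L416401 (flp_i L24783)
theorem L416403 : N18364 = N2858 := eqc rfl L416402 rfl
theorem L416420 : sm gg N2858 = N26747 := trfs L416403 (flp_g L226721) rfl
theorem L416421 : N26747 = N4137 := eqes L416420 L35676
theorem L416422 : N26747 = N4137 := eqc rfl L416421 rfl
theorem L416446 : sm gh N4137 = N18373 := trfs L416422 L226723 rfl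
theorem L416447 : N18373 = N5993 := eqes L416446 L51461
theorem L416448 : N18373 = N5993 := eqc rfl L416447 rfl
theorem L416461 : sm gf N5993 = N26759 := trfs L416448 (flp_f L226810) rfl
theorem L416462 : N26759 = N8697 := eqes L416461 (flp_f L74388)
theorem L416463 : N26759 = N8697 := eqc rfl L416462 rfl
theorem L416483 : sm gi N8697 = N39035 := trfs L416463 L329951 rfl
theorem L416484 : N39035 = N12638 := eqes L416483 L107725
theorem L416485 : N39035 = N12638 := eqc rfl L416484 rfl
theorem L416489 : sm gd N12638 = N26801 := trfs L416485 L329955 rfl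
theorem L416490 : N26801 = N18399 := eqes L416489 (flp_d L156345)
theorem L416491 : N26801 = N18399 := eqc rfl L416490 rfl
theorem L416499 : sm ge N18399 = N39093 := trfs L416491 (flp_e L330381) rfl
theorem L416500 : N39093 = N26802 := eqes L416499 (flp_e L227121)
theorem L416501 : N39093 = N26802 := eqc rfl L416500 rfl
theorem L416511 : sm gi N26802 = N26800 := trfs L416501 (flp_i L330377) rfl
theorem L416512 : N26800 = N18398 := eqes L416511 (flp_i L227117)
theorem L416513 : N26800 = N18398 := eqc rfl L416512 rfl
theorem L416528 : sm gh N18398 = N18612 := trfs L416513 L227106 rfl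
theorem L416529 : N18612 = N12795 := eqes L416528 L156338
theorem L416530 : N18612 = N12795 := eqc rfl L416529 rfl
theorem L416542 : sm gj N12795 = N27089 := trfs L416530 (flp_j L229477) rfl
theorem L416543 : N27089 = N18610 := eqes L416542 (flp_j L158079)
theorem L416544 : N27089 = N18610 := eqc rfl L416543 rfl
theorem L416546 : sm ga N18610 = N39411 := trfs L416544 (flp_a L333000) rfl
theorem L416547 : N39411 = N27036 := eqes L416546 (flp_a L229058)
theorem L416548 : N39411 = N27036 := eqc rfl L416547 rfl
theorem L416570 : sm ge N27036 = N27035 := trfs L416548 (flp_e L332998) rfl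
theorem L416571 : N27035 = N18570 := eqes L416570 (flp_e L229056)
theorem L416572 : N27035 = N18570 := eqc rfl L416571 rfl
theorem L416591 : sm gh N18570 = N38987 := trfs L416572 (flp_h L329578) rfl
theorem L416592 : N38987 = N26728 := eqes L416591 (flp_h L226557)
theorem L416593 : N38987 = N26728 := eqc rfl L416592 rfl
theorem L416598 : sm gj N26728 = N26730 := trfs L416593 L329576 rfl
theorem L416599 : N26730 = N18350 := eqes L416598 L226555
theorem L416600 : N26730 = N18350 := eqc rfl L416599 rfl
theorem L416608 : sm gf N18350 = N18354 := trfs L416600 L226573 rfl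
theorem L416609 : N18354 = N12607 := eqes L416608 L155975
theorem L416610 : N18354 = N12607 := eqc rfl L416609 rfl
theorem L416624 : sm gi N12607 = N26736 := trfs L416610 L226624 rfl
theorem L416625 : N26736 = N18355 := eqes L416624 L156019
theorem L416626 : N26736 = N18355 := eqc rfl L416625 rfl
theorem L416632 : sm gd N18355 = N38958 := trfs L416626 (flp_d L329321) rfl
theorem L416633 : N38958 = N12608 := eqes L416632 L156023
theorem L416634 : N38958 = N12608 := eqc rfl L416633 rfl
theorem L416641 : sm gc N12608 = N26708 := trfs L416634 L329319 rfl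
theorem L416642 : N26708 = N18334 := eqes L416641 (flp_c L155832)
theorem L416643 : N26708 = N18334 := eqc rfl L416642 rfl
theorem L416668 : sm gi N18334 = N18333 := trfs L416643 (flp_i L226379) rfl
theorem L416669 : N18333 = N12593 := eqes L416668 (flp_i L155828)
theorem L416670 : N18333 = N12593 := eqc rfl L416669 rfl
theorem L416689 : sm gh N12593 = N26695 := trfs L416670 (flp_h L226266) rfl
theorem L416690 : N26695 = N8666 := eqes L416689 (flp_h L107360)
theorem L416691 : N26695 = N8666 := eqc rfl L416690 rfl
theorem L416712 : sm gi N8666 = N38940 := trfs L416691 L329158 rfl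
theorem L416713 : N38940 = N6012 := eqes L416712 L74136
theorem L416714 : N38940 = N6012 := eqc rfl L416713 rfl
theorem L416721 : sm gg N6012 = N26699 := trfs L416714 L329164 rfl
theorem L416722 : N26699 = N4151 := eqes L416721 (flp_g L51602)
theorem L416723 : N26699 = N4151 := eqc rfl L416722 rfl
theorem L416737 : sm gh N4151 = N38946 := trfs L416723 L329210 rfl
theorem L416738 : N38946 = N6013 := eqes L416737 L51610
theorem L416739 : N38946 = N6013 := eqc rfl L416738 rfl
theorem L416747 : sm gi N6013 = N26714 := trfs L416739 L329218 rfl
theorem L416748 : N26714 = N8730 := eqes L416747 L74640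
theorem L416749 : N26714 = N8730 := eqc rfl L416748 rfl
theorem L416758 : sm ge N8730 = N38970 := trfs L416749 (flp_e L329420) rfl
theorem L416759 : N38970 = N6017 := eqes L416758 L74646
theorem L416760 : N38970 = N6017 := eqc rfl L416759 rfl
theorem L416769 : sm gh N6017 = N26713 := trfs L416760 (flp_h L329416) rfl
theorem L416770 : N26713 = N8671 := eqes L416769 (flp_h L74184)
theorem L416771 : N26713 = N8671 := eqc rfl L416770 rfl
theorem L416790 : sm gi N8671 = N18336 := trfs L416771 (flp_i L226419) rfl
theorem L416791 : N18336 = N5974 := eqes L416790 (flp_i L74175)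
theorem L416792 : N18336 = N5974 := eqc rfl L416791 rfl
theorem L416811 : sm gh N5974 = N26698 := trfs L416792 (flp_h L226294) rfl
theorem L416812 : N26698 = N4125 := eqes L416811 (flp_h L51304)
theorem L416813 : N26698 = N4125 := eqc rfl L416812 rfl
theorem L416825 : sm gf N4125 = N38944 := trfs L416813 L329193 rfl
theorem L416826 : N38944 = N2852 := eqes L416825 (flp_f L35577)
theorem L416827 : N38944 = N2852 := eqc rfl L416826 rfl
theorem L416831 : sm ga N2852 = N26753 := trfs L416827 L329195 rfl
theorem L416832 : N26753 = N1980 := eqes L416831 L24731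
theorem L416833 : N26753 = N1980 := eqc rfl L416832 rfl
theorem L416854 : sm gi N1980 = N39026 := trfs L416833 L329889 rfl
theorem L416855 : N39026 = N1382 := eqes L416854 L17258
theorem L416856 : N39026 = N1382 := eqc rfl L416855 rfl
theorem L416859 : sm gf N1382 = N26754 := trfs L416856 L329893 rfl
theorem L416860 : N26754 = N1993 := eqes L416859 L17355
theorem L416861 : N26754 = N1993 := eqc rfl L416860 rfl
theorem L416870 : sm gg N1993 = N39016 := trfs L416861 (flp_g L329819) rfl
theorem L416871 : N39016 = N2877 := eqes L416870 L24926
theorem L416872 : N39016 = N2877 := eqc rfl L416871 rfl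
theorem L416883 : sm gi N2877 = N26748 := trfs L416872 (flp_i L329814) rfl
theorem L416884 : N26748 = N4133 := eqes L416883 (flp_i L35654)
theorem L416885 : N26748 = N4133 := eqc rfl L416884 rfl
theorem L416900 : sm gh N4133 = N18374 := trfs L416885 L226731 rfl
theorem L416901 : N18374 = N5986 := eqes L416900 L51407
theorem L416902 : N18374 = N5986 := eqc rfl L416901 rfl
theorem L416919 : sm gi N5986 = N26769 := trfs L416902 L226871 rfl
theorem L416920 : N26769 = N8690 := eqes L416919 L74333
theorem L416921 : N26769 = N8690 := eqc rfl L416920 rfl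
theorem L416940 : sm gh N8690 = N39053 := trfs L416921 L330076 rfl
theorem L416941 : N39053 = N6035 := eqes L416940 L74339
theorem L416942 : N39053 = N6035 := eqc rfl L416941 rfl
theorem L416943 : sm ge N6035 = N26770 := trfs L416942 L330078 rfl
theorem L416944 : N26770 = N8753 := eqes L416943 (flp_e L74833)
theorem L416945 : N26770 = N8753 := eqc rfl L416944 rfl
theorem L416963 : sm gi N8753 = N39017 := trfs L416945 (flp_i L329827) rfl
theorem L416964 : N39017 = N6030 := eqes L416963 (flp_i L74829)
theorem L416965 : N39017 = N6030 := eqc rfl L416964 rfl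
theorem L416966 : sm gd N6030 = N26931 := trfs L416965 L329825 rfl
theorem L416967 : N26931 = N8752 := eqes L416966 L74824
theorem L416968 : N26931 = N8752 := eqc rfl L416967 rfl
theorem L416990 : sm gh N8752 = N18494 := trfs L416968 (flp_h L228186) rfl
theorem L416991 : N18494 = N12706 := eqes L416990 (flp_h L108285)
theorem L416992 : N18494 = N12706 := eqc rfl L416991 rfl
theorem L417013 : sm gj N12706 = N26928 := trfs L416992 (flp_j L228170) rfl
theorem L417014 : N26928 = N18491 := eqes L417013 (flp_j L157105)
theorem L417015 : N26928 = N18491 := eqc rfl L417014 rfl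
theorem L417030 : sm gf N18491 = N39258 := trfs L417015 (flp_f L331740) rfl
theorem L417031 : N39258 = N26923 := eqes L417030 (flp_f L228126)
theorem L417032 : N39258 = N26923 := eqc rfl L417031 rfl
theorem L417037 : sm gd N26923 = N26924 := trfs L417032 L331738 rfl
theorem L417038 : N26924 = N18488 := eqes L417037 (flp_d L228124)
theorem L417039 : N26924 = N18488 := eqc rfl L417038 rfl
theorem L417061 : sm gh N18488 = N39005 := trfs L417039 (flp_h L329738) rfl
theorem L417062 : N39005 = N12703 := eqes L417061 (flp_h L157079)
theorem L417063 : N39005 = N12703 := eqc rfl L417062 rfl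
theorem L417074 : sm gi N12703 = N26742 := trfs L417063 (flp_i L329730) rfl
theorem L417075 : N26742 = N18359 := eqes L417074 (flp_i L156062)
theorem L417076 : N26742 = N18359 := eqc rfl L417075 rfl
theorem L417098 : sm gj N18359 = N18360 := trfs L417076 L226684 rfl
theorem L417099 : N18360 = N12612 := eqes L417098 (flp_j L156054)
theorem L417100 : N18360 = N12612 := eqc rfl L417099 rfl
theorem L417117 : sm gf N12612 = N12614 := trfs L417100 L156068 rfl
theorem L417118 : N12614 = N8681 := eqes L417117 (flp_f L107532)
theorem L417119 : N12614 = N8681 := eqc rfl L417118 rfl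
theorem L417127 : sm gc N8681 = N8797 := trfs L417119 L107553 rfl
theorem L417128 : N8797 = N6066 := eqes L417127 L74268
theorem L417129 : N8797 = N6066 := eqc rfl L417128 rfl
theorem L417137 : sm gi N8681 = N18363 := trfs L417119 L156085 rfl
theorem L417138 : N18363 = N6026 := eqes L417137 L74273
theorem L417139 : N18363 = N6026 := eqc rfl L417138 rfl
theorem L417150 : sm gg N6026 = N12616 := trfs L417139 L156090 rfl
theorem L417151 : N12616 = N4161 := eqes L417150 (flp_g L51724)
theorem L417152 : N12616 = N4161 := eqc rfl L417151 rfl
theorem L417166 : sm gh N4161 = N8748 := trfs L417152 L107571 rfl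
theorem L417167 : N8748 = N6027 := eqes L417166 L51731
theorem L417168 : N8748 = N6027 := eqc rfl L417167 rfl
theorem L417176 : sm gc N6027 = N6098 := trfs L417168 L74797 rfl
theorem L417177 : N6098 = N4216 := eqes L417176 L51733
theorem L417178 : N6098 = N4216 := eqc rfl L417177 rfl
theorem L417192 : sm gg N4216 = N8838 := trfs L417178 (flp_g L75534) rfl
theorem L417193 : N8838 = N6097 := eqes L417192 (flp_g L52302)
theorem L417194 : N8838 = N6097 := eqc rfl L417193 rfl
theorem L417208 : sm gj N6097 = N12824 := trfs L417194 (flp_j L109235) rfl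
theorem L417209 : N12824 = N8837 := eqes L417208 (flp_j L75526)
theorem L417210 : N12824 = N8837 := eqc rfl L417209 rfl
theorem L417222 : sm gh N8837 = N18583 := trfs L417210 (flp_h L157868) rfl
theorem L417223 : N18583 = N6096 := eqes L417222 (flp_h L75521)
theorem L417224 : N18583 = N6096 := eqc rfl L417223 rfl
theorem L417238 : sm gi N6096 = N12773 := trfs L417224 (flp_i L157861) rfl
theorem L417239 : N12773 = N8796 := eqes L417238 (flp_i L75201)
theorem L417240 : N12773 = N8796 := eqc rfl L417239 rfl
theorem L417246 : sm gd N8796 = N18582 := trfs L417240 L157853 rfl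
theorem L417247 : N18582 = N6069 := eqes L417246 L75198
theorem L417248 : N18582 = N6069 := eqc rfl L417247 rfl
theorem L417271 : sm gh N6069 = N12782 := trfs L417248 L157859 rfl
theorem L417272 : N12782 = N8802 := eqes L417271 L75245
theorem L417273 : N12782 = N8802 := eqc rfl L417272 rfl
theorem L417280 : sm gd N8802 = N8802 := trfs L417273 (flp_d L108900) rfl
theorem L417288 : sm gj N8802 = N8803 := trfs L417273 L108904 rfl
theorem L417289 : N8803 = N6070 := eqes L417288 L75253
theorem L417290 : N8803 = N6070 := eqc rfl L417289 rfl
theorem L417292 : sm ga N6070 = N12757 := trfs L417290 (flp_a L108695) rfl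
theorem L417293 : N12757 = N8784 := eqes L417292 (flp_a L75089)
theorem L417294 : N12757 = N8784 := eqc rfl L417293 rfl
theorem L417297 : sm gd N6070 = N6070 := trfs L417290 (flp_d L75256) rfl
theorem L417301 : sm gf N6070 = N12781 := trfs L417290 (flp_f L108896) rfl
theorem L417302 : N12781 = N8801 := eqes L417301 (flp_f L75241)
theorem L417303 : N12781 = N8801 := eqc rfl L417302 rfl
theorem L417304 : sm gg N6070 = N6071 := trfs L417290 L75259 rfl
theorem L417305 : N6071 = N4193 := eqes L417304 L52089
theorem L417306 : N6071 = N4193 := eqc rfl L417305 rfl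
theorem L417309 : sm ga N4193 = N8785 := trfs L417306 (flp_a L75100) rfl
theorem L417310 : N8785 = N6056 := eqes L417309 (flp_a L51955)
theorem L417311 : N8785 = N6056 := eqc rfl L417310 rfl
theorem L417314 : sm gd N4193 = N4193 := trfs L417306 (flp_d L52092) rfl
theorem L417320 : sm gh N4193 = N8798 := trfs L417306 (flp_h L75215) rfl
theorem L417321 : N8798 = N2899 := eqes L417320 (flp_h L36120)
theorem L417322 : N8798 = N2899 := eqc rfl L417321 rfl
theorem L417329 : sm gd N2899 = N6067 := trfs L417322 (flp_d L75210) rfl
theorem L417330 : N6067 = N4191 := eqes L417329 L36103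
theorem L417331 : N6067 = N4191 := eqc rfl L417330 rfl
theorem L417338 : sm gi N2899 = N12778 := trfs L417322 L108864 rfl
theorem L417339 : N12778 = N2024 := eqes L417338 L25101
theorem L417340 : N12778 = N2024 := eqc rfl L417339 rfl
theorem L417351 : sm gg N2024 = N18586 := trfs L417340 (flp_g L157889) rfl
theorem L417352 : N18586 = N2918 := eqes L417351 L25252
theorem L417353 : N18586 = N2918 := eqc rfl L417352 rfl
theorem L417367 : sm gf N2918 = N27050 := trfs L417353 (flp_f L229170) rfl
theorem L417368 : N27050 = N4217 := eqes L417367 L36319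
theorem L417369 : N27050 = N4217 := eqc rfl L417368 rfl
theorem L417391 : sm gi N4217 = N18580 := trfs L417369 (flp_i L229165) rfl
theorem L417392 : N18580 = N6068 := eqes L417391 (flp_i L52068)
theorem L417393 : N18580 = N6068 := eqc rfl L417392 rfl
theorem L417402 : sm ge N6068 = N27049 := trfs L417393 L229159 rfl
theorem L417403 : N27049 = N6068 := eqes L417402 L52070
theorem L417404 : N27049 = N6068 := eqc rfl L417403 rfl
theorem L417426 : sm gh N6068 = N18595 := trfs L417404 L229163 rfl
theorem L417427 : N18595 = N8801 := eqes L417426 L75235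
theorem L417428 : N18595 = N8801 := eqc rfl L417427 rfl
theorem L417444 : sm gj N8801 = N27069 := trfs L417428 (flp_j L229316) rfl
theorem L417445 : N27069 = N12780 := eqes L417444 (flp_j L108890)
theorem L417446 : N27069 = N12780 := eqc rfl L417445 rfl
theorem L417461 : sm gg N12780 = N39458 := trfs L417446 (flp_g L333373) rfl
theorem L417462 : N39458 = N18592 := eqes L417461 (flp_g L157936)
theorem L417463 : N39458 = N18592 := eqc rfl L417462 rfl
theorem L417467 : sm gd N18592 = N18592 := trfs L417463 L333377 L417463
theorem L417468 : N18592 = N27067 := eqes L417467 L229296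
theorem L417469 : N27067 = N18592 := (eqc rfl L417468 rfl).symm
theorem L417484 : sm gh N18592 = N39423 := trfs L417469 (flp_h L333100) rfl
theorem L417485 : N39423 = N12779 := eqes L417484 (flp_h L157929)
theorem L417486 : N39423 = N12779 := eqc rfl L417485 rfl
theorem L417489 : sm gd N12779 = N27045 := trfs L417486 (flp_d L333093) rfl
theorem L417490 : N27045 = N18578 := eqes L417489 (flp_d L157824)
theorem L417491 : N27045 = N18578 := eqc rfl L417490 rfl
theorem L417507 : sm gi N18578 = N39424 := trfs L417491 L333102 rfl
theorem L417508 : N39424 = N12821 := eqes L417507 L157826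
theorem L417509 : N39424 = N12821 := eqc rfl L417508 rfl
theorem L417514 : sm gh N12821 = N27129 := trfs L417509 L333109 rfl
theorem L417515 : N27129 = N18644 := eqes L417514 L158344
theorem L417516 : N27129 = N18644 := eqc rfl L417515 rfl
theorem L417523 : sm ge N18644 = N39528 := trfs L417516 (flp_e L333944) rfl
theorem L417524 : N39528 = N27124 := eqes L417523 (flp_e L229757)
theorem L417525 : N39528 = N27124 := eqc rfl L417524 rfl
theorem L417531 : sm gg N27124 = N27126 := trfs L417525 L333946 rfl
theorem L417532 : N27126 = N18641 := eqes L417531 L229759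
theorem L417533 : N27126 = N18641 := eqc rfl L417532 rfl
theorem L417549 : sm gh N18641 = N39419 := trfs L417533 (flp_h L333072) rfl
theorem L417550 : N39419 = N12819 := eqes L417549 (flp_h L158322)
theorem L417551 : N39419 = N12819 := eqc rfl L417550 rfl
theorem L417559 : sm gi N12819 = N27042 := trfs L417551 (flp_i L333064) rfl
theorem L417560 : N27042 = N18576 := eqes L417559 (flp_i L157812)
theorem L417561 : N27042 = N18576 := eqc rfl L417560 rfl
theorem L417573 : sm gj N18576 = N18577 := trfs L417561 L229110 rfl
theorem L417574 : N18577 = N12770 := eqes L417573 (flp_j L157805)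
theorem L417575 : N18577 = N12770 := eqc rfl L417574 rfl
theorem L417577 : sm ga N12770 = N27003 := trfs L417575 (flp_a L228763) rfl
theorem L417578 : N27003 = N18547 := eqes L417577 (flp_a L157554)
theorem L417579 : N27003 = N18547 := eqc rfl L417578 rfl
theorem L417631 : sm gi N18547 = N39366 := trfs L417579 L332603 rfl
theorem L417632 : N39366 = N12813 := eqes L417631 L157557
theorem L417633 : N39366 = N12813 := eqc rfl L417632 rfl
theorem L417640 : sm gh N12813 = N27120 := trfs L417633 L332611 rfl
theorem L417641 : N27120 = N18635 := eqes L417640 L158273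
theorem L417642 : N27120 = N18635 := eqc rfl L417641 rfl
theorem L417653 : sm ge N18635 = N18638 := trfs L417642 L229725 rfl
theorem L417654 : N18638 = N12815 := eqes L417653 L158277
theorem L417655 : N18638 = N12815 := eqc rfl L417654 rfl
theorem L417670 : sm gj N12815 = N27122 := trfs L417655 (flp_j L229745) rfl
theorem L417671 : N27122 = N18637 := eqes L417670 (flp_j L158295)
theorem L417672 : N27122 = N18637 := eqc rfl L417671 rfl
theorem L417684 : sm gh N18637 = N39369 := trfs L417672 (flp_h L332639) rfl
theorem L417685 : N39369 = N12814 := eqes L417684 (flp_h L158289)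
theorem L417686 : N39369 = N12814 := eqc rfl L417685 rfl
theorem L417691 : sm gi N12814 = N27005 := trfs L417686 (flp_i L332631) rfl
theorem L417692 : N27005 = N18548 := eqes L417691 (flp_i L157569)
theorem L417693 : N27005 = N18548 := eqc rfl L417692 rfl
theorem L417699 : sm gd N18548 = N39368 := trfs L417693 L332621 rfl
theorem L417700 : N39368 = N12754 := eqes L417699 L157565
theorem L417701 : N39368 = N12754 := eqc rfl L417700 rfl
theorem L417710 : sm gh N12754 = N27019 := trfs L417701 L332629 rfl
theorem L417711 : N27019 = N18557 := eqes L417710 L157639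
theorem L417712 : N27019 = N18557 := eqc rfl L417711 rfl
theorem L417722 : sm gj N18557 = N18558 := trfs L417712 L228910 rfl
theorem L417723 : N18558 = N12755 := eqes L417722 L157648
theorem L417724 : N18558 = N12755 := eqc rfl L417723 rfl
theorem L417730 : sm gc N12755 = N27020 := trfs L417724 L228913 rfl
theorem L417731 : N27020 = N8791 := eqes L417730 L108674
theorem L417732 : N27020 = N8791 := eqc rfl L417731 rfl
theorem L417754 : sm gh N8791 = N39370 := trfs L417732 (flp_h L332648) rfl
theorem L417755 : N39370 = N6061 := eqes L417754 (flp_h L75152)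
theorem L417756 : N39370 = N6061 := eqc rfl L417755 rfl
theorem L417760 : sm gf N6061 = N27010 := trfs L417756 L332645 rfl
theorem L417761 : N27010 = N4187 := eqes L417760 (flp_f L52005)
theorem L417762 : N27010 = N4187 := eqc rfl L417761 rfl
theorem L417782 : sm gi N4187 = N39378 := trfs L417762 L332712 rfl
theorem L417783 : N39378 = N2915 := eqes L417782 L36073
theorem L417784 : N39378 = N2915 := eqc rfl L417783 rfl
theorem L417787 : sm gg N2915 = N27015 := trfs L417784 L332718 rfl
theorem L417788 : N27015 = N2021 := eqes L417787 (flp_g L25230)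
theorem L417789 : N27015 = N2021 := eqc rfl L417788 rfl
theorem L417797 : sm ge N2021 = N39386 := trfs L417789 (flp_e L332783) rfl
theorem L417798 : N39386 = N1402 := eqes L417797 (flp_e L17579)
theorem L417799 : N39386 = N1402 := eqc rfl L417798 rfl
theorem L417812 : sm gi N1402 = N27014 := trfs L417799 (flp_i L332777) rfl
theorem L417813 : N27014 = N2006 := eqes L417812 (flp_i L17456)
theorem L417814 : N27014 = N2006 := eqc rfl L417813 rfl
theorem L417833 : sm gh N2006 = N18563 := trfs L417814 L228863 rfl
theorem L417834 : N18563 = N2897 := eqes L417833 L25076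
theorem L417835 : N18563 = N2897 := eqc rfl L417834 rfl
theorem L417852 : sm gg N2897 = N27025 := trfs L417835 (flp_g L228963) rfl
theorem L417853 : N27025 = N4190 := eqes L417852 (flp_g L36099)
theorem L417854 : N27025 = N4190 := eqc rfl L417853 rfl
theorem L417871 : sm gj N4190 = N39396 := trfs L417854 (flp_j L332872) rfl
theorem L417872 : N39396 = N6065 := eqes L417871 (flp_j L52045)
theorem L417873 : N39396 = N6065 := eqc rfl L417872 rfl
theorem L417883 : sm ge N6065 = N27022 := trfs L417873 (flp_e L332865) rfl
theorem L417884 : N27022 = N8792 := eqes L417883 (flp_e L75165)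
theorem L417885 : N27022 = N8792 := eqc rfl L417884 rfl
theorem L417889 : sm gb N8792 = N39395 := trfs L417885 L332857 rfl
theorem L417890 : N39395 = N11280 := eqes L417889 (flp_b L96522)
theorem L417891 : N39395 = N11280 := eqc rfl L417890 rfl
theorem L417903 : sm gj N11280 = N27024 := trfs L417891 L332862 rfl
theorem L417904 : N27024 = N7770 := eqes L417903 L96527
theorem L417905 : N27024 = N7770 := eqc rfl L417904 rfl
theorem L417919 : sm gg N7770 = N18562 := trfs L417905 L228954 rfl
theorem L417920 : N18562 = N5359 := eqes L417919 L66736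
theorem L417921 : N18562 = N5359 := eqc rfl L417920 rfl
theorem L417937 : sm gh N5359 = N27013 := trfs L417921 (flp_h L228854) rfl
theorem L417938 : N27013 = N3701 := eqes L417937 (flp_h L46196)
theorem L417939 : N27013 = N3701 := eqc rfl L417938 rfl
theorem L417948 : sm gd N3701 = N38941 := trfs L417939 (flp_d L329168) rfl
theorem L417949 : N38941 = N5298 := eqes L417948 (flp_d L45684)
theorem L417950 : N38941 = N5298 := eqc rfl L417949 rfl
theorem L417959 : sm gh N5298 = N26709 := trfs L417950 L329172 rfl
theorem L417960 : N26709 = N7685 := eqes L417959 L66006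
theorem L417961 : N26709 = N7685 := eqc rfl L417960 rfl
theorem L417982 : sm gi N7685 = N38964 := trfs L417961 L329363 rfl
theorem L417983 : N38964 = N11166 := eqes L417982 L95568
theorem L417984 : N38964 = N11166 := eqc rfl L417983 rfl
theorem L417986 : sm gd N11166 = N26738 := trfs L417984 L329367 rfl
theorem L417987 : N26738 = N16246 := eqes L417986 (flp_d L138621)
theorem L417988 : N26738 = N16246 := eqc rfl L417987 rfl
theorem L417995 : sm gc N16246 = N34507 := trfs L417988 (flp_c L292670) rfl
theorem L417996 : N34507 = N23667 := eqes L417995 (flp_c L201334)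
theorem L417997 : N34507 = N23667 := eqc rfl L417996 rfl
theorem L418009 : sm gi N23667 = N23666 := trfs L417997 (flp_i L292666) rfl
theorem L418010 : N23666 = N16245 := eqes L418009 (flp_i L201330)
theorem L418011 : N23666 = N16245 := eqc rfl L418010 rfl
theorem L418026 : sm gh N16245 = N16405 := trfs L418011 L201326 rfl
theorem L418027 : N16405 = N11282 := eqes L418026 L138613
theorem L418028 : N16405 = N11282 := eqc rfl L418027 rfl
theorem L418032 : sm gb N11282 = N11282 := trfs L418028 (flp_b L139921) rfl
theorem L418039 : sm gg N11282 = N23884 := trfs L418028 (flp_g L203079) rfl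
theorem L418040 : N23884 = N16404 := eqes L418039 (flp_g L139918)
theorem L418041 : N23884 = N16404 := eqc rfl L418040 rfl
theorem L418047 : sm gb N16404 = N16404 := trfs L418041 (flp_b L203076) rfl
theorem L418053 : sm gf N16404 = N34806 := trfs L418041 (flp_f L295069) rfl
theorem L418054 : N34806 = N23881 := eqes L418053 (flp_f L203053)
theorem L418055 : N34806 = N23881 := eqc rfl L418054 rfl
theorem L418067 : sm gc N23881 = N27037 := trfs L418055 L295073 rfl
theorem L418068 : N27037 = N16402 := eqes L418067 (flp_c L203049)
theorem L418069 : N27037 = N16402 := eqc rfl L418068 rfl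
theorem L418072 : sm ga N16402 = N39412 := trfs L418069 L333008 rfl
theorem L418073 : N39412 = N11300 := eqes L418072 L139894
theorem L418074 : N39412 = N11300 := eqc rfl L418073 rfl
theorem L418090 : sm gf N11300 = N27040 := trfs L418074 L333010 rfl
theorem L418091 : N27040 = N7786 := eqes L418090 L96688
theorem L418092 : N27040 = N7786 := eqc rfl L418091 rfl
theorem L418108 : sm gh N7786 = N38996 := trfs L418092 (flp_h L329660) rfl
theorem L418109 : N38996 = N11187 := eqes L418108 (flp_h L95736)
theorem L418110 : N38996 = N11187 := eqc rfl L418109 rfl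
theorem L418115 : sm gg N11187 = N26737 := trfs L418110 L329658 rfl
theorem L418116 : N26737 = N7701 := eqes L418115 L95733
theorem L418117 : N26737 = N7701 := eqc rfl L418116 rfl
theorem L418119 : sm gb N7701 = N18404 := trfs L418117 L226641 rfl
theorem L418120 : N18404 = N5316 := eqes L418119 L66141
theorem L418121 : N18404 = N5316 := eqc rfl L418120 rfl
theorem L418143 : sm gi N5316 = N26807 := trfs L418121 L227164 rfl
theorem L418144 : N26807 = N7711 := eqes L418143 L66229
theorem L418145 : N26807 = N7711 := eqc rfl L418144 rfl
theorem L418148 : sm gc N7711 = N18419 := trfs L418145 L227168 rfl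
theorem L418149 : N18419 = N11201 := eqes L418148 (flp_c L95862)
theorem L418150 : N18419 = N11201 := eqc rfl L418149 rfl
theorem L418174 : sm gg N11201 = N26822 := trfs L418150 (flp_g L227290) rfl
theorem L418175 : N26822 = N16290 := eqes L418174 (flp_g L138977)
theorem L418176 : N26822 = N16290 := eqc rfl L418175 rfl
theorem L418193 : sm gi N16290 = N18417 := trfs L418176 (flp_i L227285) rfl
theorem L418194 : N18417 = N11198 := eqes L418193 (flp_i L138970)
theorem L418195 : N18417 = N11198 := eqc rfl L418194 rfl
theorem L418210 : sm gh N11198 = N12805 := trfs L418195 L156498 rfl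
theorem L418211 : N12805 = N7792 := eqes L418210 L95839
theorem L418212 : N12805 = N7792 := eqc rfl L418211 rfl
theorem L418213 : sm ga N7792 = N8821 := trfs L418212 (flp_a L109078) rfl
theorem L418214 : N8821 = N6085 := eqes L418213 L66921
theorem L418215 : N8821 = N6085 := eqc rfl L418214 rfl
theorem L418216 : sm gb N7792 = N16441 := trfs L418212 (flp_b L140208) rfl
theorem L418217 : N16441 = N11309 := eqes L418216 L96762
theorem L418218 : N16441 = N11309 := eqc rfl L418217 rfl
theorem L418225 : sm gg N7792 = N8822 := trfs L418212 L109082 rfl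
theorem L418226 : N8822 = N5378 := eqes L418225 L66924
theorem L418227 : N8822 = N5378 := eqc rfl L418226 rfl
theorem L418228 : sm gj N7792 = N18622 := trfs L418212 (flp_j L158173) rfl
theorem L418229 : N18622 = N11308 := eqes L418228 (flp_j L96758)
theorem L418230 : N18622 = N11308 := eqc rfl L418229 rfl
theorem L418243 : sm gf N11308 = N27097 := trfs L418230 (flp_f L229539) rfl
theorem L418244 : N27097 = N16436 := eqes L418243 (flp_f L140162)
theorem L418245 : N27097 = N16436 := eqc rfl L418244 rfl
theorem L418250 : sm gb N16436 = N34866 := trfs L418245 (flp_b L295545) rfl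
theorem L418251 : N34866 = N23927 := eqes L418250 L203415
theorem L418252 : N34866 = N23927 := eqc rfl L418251 rfl
theorem L418263 : sm gj N23927 = N23929 := trfs L418252 L295542 rfl
theorem L418264 : N23929 = N16438 := eqes L418263 L203420
theorem L418265 : N23929 = N16438 := eqc rfl L418264 rfl
theorem L418269 : sm gc N16438 = N34859 := trfs L418265 (flp_c L295480) rfl
theorem L418270 : N34859 = N23921 := eqes L418269 (flp_c L203370)
theorem L418271 : N34859 = N23921 := eqc rfl L418270 rfl
theorem L418292 : sm gf N23921 = N23924 := trfs L418271 L295482 rfl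
theorem L418293 : N23924 = N16433 := eqes L418292 L203366
theorem L418294 : N23924 = N16433 := eqc rfl L418293 rfl
theorem L418304 : sm gg N16433 = N16434 := trfs L418294 L203393 rfl
theorem L418305 : N16434 = N11303 := eqes L418304 L140136
theorem L418306 : N16434 = N11303 := eqc rfl L418305 rfl
theorem L418310 : sm gh N16433 = N34574 := trfs L418294 (flp_h L293161) rfl
theorem L418311 : N34574 = N23712 := eqes L418310 (flp_h L201657)
theorem L418312 : N34574 = N23712 := eqc rfl L418311 rfl
theorem L418317 : sm gg N23712 = N23714 := trfs L418312 L293159 rfl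
theorem L418318 : N23714 = N16279 := eqes L418317 L201655
theorem L418319 : N23714 = N16279 := eqc rfl L418318 rfl
theorem L418322 : sm gc N16279 = N16291 := trfs L418319 L201671 rfl
theorem L418323 : N16291 = N11200 := eqes L418322 L138877
theorem L418324 : N16291 = N11200 := eqc rfl L418323 rfl
theorem L418346 : sm gd N11200 = N23172 := trfs L418324 (flp_d L197102) rfl
theorem L418347 : N23172 = N15913 := eqes L418346 (flp_d L135737)
theorem L418348 : N23172 = N15913 := eqc rfl L418347 rfl
theorem L418353 : sm gh N11200 = N11310 := trfs L418324 L138985 rfl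
theorem L418354 : N11310 = N7793 := eqes L418353 L95856
theorem L418355 : N11310 = N7793 := eqc rfl L418354 rfl
theorem L418357 : sm ga N7793 = N7793 := trfs L418355 (flp_a L96769) rfl
theorem L418373 : sm ge N15913 = N33661 := trfs L418348 (flp_e L285528) rfl
theorem L418374 : N33661 = N23091 := eqes L418373 (flp_e L196395)
theorem L418375 : N33661 = N9654 := eqc rfl L418374 L394223
theorem L418396 : sm gb N9654 = N25892 := trfs L418375 L285532 rfl
theorem L418397 : N25892 = N14003 := eqes L418396 (flp_b L119293)
theorem L418398 : N25892 = N14003 := eqc rfl L418397 rfl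
theorem L418419 : sm gi N14003 = N37752 := trfs L418398 L319414 rfl
theorem L418420 : N37752 = N9647 := eqes L418419 (flp_i L119291)
theorem L418421 : N37752 = N9647 := eqc rfl L418420 rfl
theorem L418422 : sm ga N9647 = N25893 := trfs L418421 L319416 rfl
theorem L418423 : N25893 = N13991 := eqes L418422 (flp_a L119185)
theorem L418424 : N25893 = N13991 := eqc rfl L418423 rfl
theorem L418438 : sm gg N13991 = N25890 := trfs L418424 (flp_g L319403) L415929
theorem L418439 : N25890 = N20342 := eqes L418438 (flp_g L172861)
theorem L418440 : N25890 = N20342 := eqc rfl L418439 rfl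
theorem L418456 : sm gj N20342 = N37747 := trfs L418440 (flp_j L319377) rfl
theorem L418457 : N37747 = N29609 := eqes L418456 (flp_j L251012)
theorem L418458 : N37747 = N29609 := eqc rfl L418457 rfl
theorem L418468 : sm gc N29609 = N25888 := trfs L418458 L319371 rfl
theorem L418469 : N25888 = N43141 := eqes L418468 (flp_c L364821)
theorem L418470 : N43141 = N25888 := (eqc rfl L418469 rfl).symm
theorem L418477 : sm ga N25888 = N29618 := trfs L418470 L364819 rfl
theorem L418478 : N29618 = N33657 := eqes L418477 (flp_a L285487)
theorem L418479 : N33657 = N29618 := (eqc rfl L418478 rfl).symm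
theorem L418504 : sm gj N29618 = N23090 := trfs L418479 L285494 rfl
theorem L418505 : N23090 = N20348 := eqes L418504 L251096
theorem L418506 : N23090 = N20348 := eqc rfl L418505 rfl
theorem L418513 : sm gd N20348 = N15857 := trfs L418506 L196386 rfl
theorem L418514 : N15857 = N29619 := eqes L418513 L251098
theorem L418515 : N29619 = N15857 := (eqc rfl L418514 rfl).symm
theorem L418542 : sm gi N15857 = N43173 := trfs L418515 L365109 rfl
theorem L418543 : N43173 = N10903 := eqes L418542 (flp_i L135229)
theorem L418544 : N43173 = N10903 := eqc rfl L418543 rfl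
theorem L418552 : sm gg N10903 = N29622 := trfs L418544 L365117 rfl
theorem L418553 : N29622 = N7511 := eqes L418552 L93263
theorem L418554 : N29622 = N7511 := eqc rfl L418553 rfl
theorem L418556 : sm gb N7511 = N20400 := trfs L418554 L251126 rfl
theorem L418557 : N20400 = N10897 := eqes L418556 (flp_b L93208)
theorem L418558 : N20400 = N10897 := eqc rfl L418557 rfl
theorem L418566 : sm gh N7511 = N43176 := trfs L418554 L365136 rfl
theorem L418567 : N43176 = N5181 := eqes L418566 (flp_h L64476)
theorem L418568 : N43176 = N5181 := eqc rfl L418567 rfl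
theorem L418575 : sm gf N5181 = N29625 := trfs L418568 L365141 rfl
theorem L418576 : N29625 = N7494 := eqes L418575 (flp_f L64340)
theorem L418577 : N29625 = N7494 := eqc rfl L418576 rfl
theorem L418591 : sm gg N7494 = N7494 := trfs L418577 L251157 L418577
theorem L418592 : N7494 = N10878 := eqes L418591 L93046
theorem L418593 : N10878 = N7494 := (eqc rfl L418592 rfl).symm
theorem L418605 : sm gh N7494 = N15820 := trfs L418593 L134916 rfl
theorem L418606 : N15820 = N10879 := eqes L418605 L93055
theorem L418607 : N15820 = N10879 := eqc rfl L418606 rfl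
theorem L418619 : sm gi N10879 = N23035 := trfs L418607 L195915 rfl
theorem L418620 : N23035 = N15822 := eqes L418619 L134934
theorem L418621 : N23035 = N13997 := eqc rfl L418620 L415733
theorem L418630 : sm ge N13997 = N10882 := trfs L418621 L195920 L394977
theorem L418631 : N10882 = N20351 := eqes L418630 L172940
theorem L418632 : N20351 = N10882 := (eqc rfl L418631 rfl).symm
theorem L418656 : sm gi N10882 = N29624 := trfs L418632 L251142 rfl
theorem L418657 : N29624 = N7496 := eqes L418656 (flp_i L93082)
theorem L418658 : N29624 = N7496 := eqc rfl L418657 rfl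
theorem L418668 : sm gf N7496 = N43178 := trfs L418658 (flp_f L365160) rfl
theorem L418669 : N43178 = N5172 := eqes L418668 L64355
theorem L418670 : N43178 = N5172 := eqc rfl L418669 rfl
theorem L418675 : sm gb N5172 = N29699 := trfs L418670 L365156 rfl
theorem L418676 : N29699 = N7492 := eqes L418675 (flp_b L64318)
theorem L418677 : N29699 = N7492 := eqc rfl L418676 rfl
theorem L418700 : sm gi N7492 = N20401 := trfs L418677 (flp_i L251779) rfl
theorem L418701 : N20401 = N10876 := eqes L418700 L93028
theorem L418702 : N20401 = N10876 := eqc rfl L418701 rfl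
theorem L418716 : sm gg N10876 = N29698 := trfs L418702 L251772 rfl
theorem L418717 : N29698 = N15677 := eqes L418716 (flp_g L133679)
theorem L418718 : N29698 = N15677 := eqc rfl L418717 rfl
theorem L418735 : sm gj N15677 = N43290 := trfs L418718 L366086 rfl
theorem L418736 : N43290 = N22683 := eqes L418735 (flp_j L192770)
theorem L418737 : N43290 = N22683 := eqc rfl L418736 rfl
theorem L418740 : sm gc N22683 = N29811 := trfs L418737 L366088 rfl
theorem L418741 : N29811 = N33049 := eqes L418740 (flp_c L280160)
theorem L418742 : N33049 = N29811 := (eqc rfl L418741 rfl).symm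
theorem L418756 : sm gi N29811 = N22679 := trfs L418742 (flp_i L280157) rfl
theorem L418757 : N22679 = N43459 := eqes L418756 L367521
theorem L418758 : N43459 = N22679 := (eqc rfl L418757 rfl).symm
theorem L418766 : sm gj N22679 = N29812 := trfs L418758 L367528 rfl
theorem L418767 : N29812 = N15673 := eqes L418766 L192734
theorem L418768 : N29812 = N15673 := eqc rfl L418767 rfl
theorem L418784 : sm gh N15673 = N43460 := trfs L418768 L367530 rfl
theorem L418785 : N43460 = N10781 := eqes L418784 (flp_h L133640)
theorem L418786 : N43460 = N10781 := eqc rfl L418785 rfl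
theorem L418792 : sm gg N10781 = N29813 := trfs L418786 L367534 rfl
theorem L418793 : N29813 = N7490 := eqes L418792 L92200
theorem L418794 : N29813 = N7490 := eqc rfl L418793 rfl
theorem L418805 : sm gf N7490 = N20478 := trfs L418794 L252765 rfl
theorem L418806 : N20478 = N10871 := eqes L418805 L92988
theorem L418807 : N20478 = N10871 := eqc rfl L418806 rfl
theorem L418811 : sm ga N10871 = N29767 := trfs L418807 (flp_a L252385) rfl
theorem L418812 : N29767 = N15801 := eqes L418811 (flp_a L134749)
theorem L418813 : N29767 = N15801 := eqc rfl L418812 rfl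
theorem L418825 : sm gh N10871 = N14081 := trfs L418807 (flp_h L174041) rfl
theorem L418826 : N14081 = N15810 := eqes L418825 L134833
theorem L418827 : N15810 = N14081 := (eqc rfl L418826 rfl).symm
theorem L418848 : sm gi N14081 = N23021 := trfs L418827 L195795 rfl
theorem L418849 : N23021 = N9699 := eqes L418848 (flp_i L119979)
theorem L418850 : N23021 = N9699 := eqc rfl L418849 rfl
theorem L418859 : sm ge N9699 = N33555 := trfs L418850 (flp_e L284632) rfl
theorem L418860 : N33555 = N6692 := eqes L418859 (flp_e L82890)
theorem L418861 : N33555 = N6692 := eqc rfl L418860 rfl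
theorem L418869 : sm gf N6692 = N23066 := trfs L418861 L284634 rfl
theorem L418870 : N23066 = N9697 := eqes L418869 (flp_f L82876)
theorem L418871 : N23066 = N9697 := eqc rfl L418870 rfl
theorem L418893 : sm gi N9697 = N15839 := trfs L418871 (flp_i L196184) rfl
theorem L418894 : N15839 = N14079 := eqes L418893 L119964
theorem L418895 : N15839 = N14079 := eqc rfl L418894 rfl
theorem L418913 : sm gh N14079 = N10891 := trfs L418895 (flp_h L135084) rfl
theorem L418914 : N10891 = N20475 := eqes L418913 L174017
theorem L418915 : N20475 = N10891 := (eqc rfl L418914 rfl).symm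
theorem L418929 : sm gg N10891 = N29807 := trfs L418915 (flp_g L252720) rfl
theorem L418930 : N29807 = N15838 := eqes L418929 L135076
theorem L418931 : N29807 = N15838 := eqc rfl L418930 rfl
theorem L418950 : sm gj N15838 = N43451 := trfs L418931 (flp_j L367465) rfl
theorem L418951 : N43451 = N23063 := eqes L418950 L196162
theorem L418952 : N43451 = N23063 := eqc rfl L418951 rfl
theorem L418963 : sm gh N23063 = N29804 := trfs L418952 (flp_h L367460) rfl
theorem L418964 : N29804 = N33623 := eqes L418963 L285213
theorem L418965 : N33623 = N29804 := (eqc rfl L418964 rfl).symm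
theorem L418971 : sm ge N29804 = N23067 := trfs L418965 L285218 rfl
theorem L418972 : N23067 = N43450 := eqes L418971 (flp_e L367455)
theorem L418973 : N43450 = N23067 := (eqc rfl L418972 rfl).symm
theorem L418979 : sm ge N23067 = N29804 := trfs L418973 L367455 rfl
theorem L418985 : sm gi N23067 = N29803 := trfs L418973 (flp_i L367452) rfl
theorem L418986 : N29803 = N33630 := eqes L418985 L285263
theorem L418987 : N33630 = N29803 := (eqc rfl L418986 rfl).symm
theorem L418993 : sm gj N29803 = N23069 := trfs L418987 L285269 rfl
theorem L418994 : N23069 = N20471 := eqes L418993 L252692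
theorem L418995 : N23069 = N20471 := eqc rfl L418994 rfl
theorem L418999 : sm ga N20471 = N33602 := trfs L418995 (flp_a L285034) rfl
theorem L419000 : N33602 = N29760 := eqes L418999 (flp_a L252327)
theorem L419001 : N33602 = N29760 := eqc rfl L419000 rfl
theorem L419010 : sm gf N20471 = N33300 := trfs L418995 (flp_f L282481) rfl
theorem L419011 : N33300 = N29805 := eqes L419010 L252704
theorem L419012 : N33300 = N29805 := eqc rfl L419011 rfl
theorem L419021 : sm gg N29805 = N22849 := trfs L419012 L282483 rfl
theorem L419022 : N22849 = N43452 := eqes L419021 L367470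
theorem L419023 : N43452 = N22849 := (eqc rfl L419022 rfl).symm
theorem L419037 : sm gf N22849 = N29808 := trfs L419023 L367475 rfl
theorem L419038 : N29808 = N15696 := eqes L419037 L194321
theorem L419039 : N29808 = N15696 := eqc rfl L419038 rfl
theorem L419053 : sm gg N15696 = N20473 := trfs L419039 (flp_g L252725) rfl
theorem L419054 : N20473 = N10895 := eqes L419053 L133843
theorem L419055 : N20473 = N10895 := eqc rfl L419054 rfl
theorem L419073 : sm gi N10895 = N29809 := trfs L419055 L252731 rfl
theorem L419074 : N29809 = N7504 := eqes L419073 (flp_i L93191)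
theorem L419075 : N29809 = N7504 := eqc rfl L419074 rfl
theorem L419081 : sm gd N7504 = N43447 := trfs L419075 (flp_d L367432) rfl
theorem L419082 : N43447 = N10894 := eqes L419081 L93185
theorem L419083 : N43447 = N10894 := eqc rfl L419082 rfl
theorem L419093 : sm gf N10894 = N29801 := trfs L419083 L367436 rfl
theorem L419094 : N29801 = N15842 := eqes L419093 (flp_f L135109)
theorem L419095 : N29801 = N15842 := eqc rfl L419094 rfl
theorem L419116 : sm gi N15842 = N20467 := trfs L419095 (flp_i L252672) rfl
theorem L419117 : N20467 = N23071 := eqes L419116 L196222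
theorem L419118 : N23071 = N20467 := (eqc rfl L419117 rfl).symm
theorem L419123 : sm gc N20467 = N15893 := trfs L419118 L196225 rfl
theorem L419124 : N15893 = N29798 := eqes L419123 (flp_c L252652)
theorem L419125 : N29798 = N15893 := (eqc rfl L419124 rfl).symm
theorem L419134 : sm gh N20467 = N33635 := trfs L419118 L285304 rfl
theorem L419135 : N33635 = N29786 := eqes L419134 (flp_h L252553)
theorem L419136 : N33635 = N29786 := eqc rfl L419135 rfl
theorem L419144 : sm gf N29786 = N23074 := trfs L419136 L285309 rfl
theorem L419145 : N23074 = N43422 := eqes L419144 L367233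
theorem L419146 : N43422 = N23074 := (eqc rfl L419145 rfl).symm
theorem L419162 : sm ge N23074 = N31561 := trfs L419146 L367240 rfl
theorem L419163 : N31561 = N33638 := eqes L419162 (flp_e L285331)
theorem L419164 : N33638 = N31561 := (eqc rfl L419163 rfl).symm
theorem L419176 : sm gh N31561 = N23073 := trfs L419164 (flp_h L285326) rfl
theorem L419177 : N23073 = N21667 := eqes L419176 L267504
theorem L419178 : N23073 = N21667 := eqc rfl L419177 rfl
theorem L419190 : sm ga N21667 = N33606 := trfs L419178 (flp_a L285068) rfl
theorem L419191 : N33606 = N31522 := eqes L419190 (flp_a L267177)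
theorem L419192 : N33606 = N31522 := eqc rfl L419191 rfl
theorem L419205 : sm gg N21667 = N33304 := trfs L419178 (flp_g L282512) rfl
theorem L419206 : N33304 = N31585 := eqes L419205 L267673
theorem L419207 : N33304 = N31585 := eqc rfl L419206 rfl
theorem L419217 : sm gi N31585 = N22850 := trfs L419207 (flp_i L282505) rfl
theorem L419218 : N22850 = N46099 := eqes L419217 L389653
theorem L419219 : N46099 = N22850 := (eqc rfl L419218 rfl).symm
theorem L419221 : sm gd N22850 = N31593 := trfs L419219 L389656 rfl
theorem L419222 : N31593 = N33253 := eqes L419221 (flp_d L282079)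
theorem L419223 : N33253 = N31593 := (eqc rfl L419222 rfl).symm
theorem L419232 : sm gg N31593 = N23022 := trfs L419223 L282076 rfl
theorem L419233 : N23022 = N21675 := eqes L419232 L267744
theorem L419234 : N23022 = N21675 := eqc rfl L419233 rfl
theorem L419246 : sm gf N21675 = N33561 := trfs L419234 L284676 rfl
theorem L419247 : N33561 = N14885 := eqes L419246 L184163
theorem L419248 : N33561 = N14885 := eqc rfl L419247 rfl
theorem L419254 : sm gd N14885 = N23072 := trfs L419248 L284680 rfl
theorem L419255 : N23072 = N21668 := eqes L419254 (flp_d L184102)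
theorem L419256 : N23072 = N21668 := eqc rfl L419255 rfl
theorem L419263 : sm gc N21668 = N15894 := trfs L419256 L196235 rfl
theorem L419264 : N15894 = N31583 := eqes L419263 (flp_c L267662)
theorem L419265 : N31583 = N15894 := (eqc rfl L419264 rfl).symm
theorem L419275 : sm gh N21668 = N30606 := trfs L419256 (flp_h L259587) rfl
theorem L419276 : N30606 = N31587 := eqes L419275 L267686
theorem L419277 : N31587 = N30606 := (eqc rfl L419276 rfl).symm
theorem L419287 : sm ge N30606 = N21669 := trfs L419277 L267689 rfl
theorem L419288 : N21669 = N44632 := eqes L419287 (flp_e L377600)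
theorem L419289 : N44632 = N21669 := (eqc rfl L419288 rfl).symm
theorem L419320 : sm gc N21669 = N30678 := trfs L419289 L377595 rfl
theorem L419321 : N30678 = N31584 := eqes L419320 (flp_c L267670)
theorem L419322 : N31584 = N30678 := (eqc rfl L419321 rfl).symm
theorem L419325 : sm gf N21669 = N30604 := trfs L419289 (flp_f L377592) rfl
theorem L419326 : N30604 = N29802 := eqes L419325 (flp_f L252683)
theorem L419327 : N30604 = N29802 := eqc rfl L419326 rfl
theorem L419342 : sm gg N29802 = N44630 := trfs L419327 (flp_g L377579) rfl
theorem L419343 : N44630 = N43439 := eqes L419342 (flp_g L367373)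
theorem L419344 : N44630 = N43439 := eqc rfl L419343 rfl
theorem L419361 : sm gh N43439 = N33631 := trfs L419344 L377581 rfl
theorem L419362 : N33631 = N29796 := eqes L419361 (flp_h L367370)
theorem L419363 : N33631 = N29796 := eqc rfl L419362 rfl
theorem L419365 : sm gc N29796 = N23142 := trfs L419363 L285275 rfl
theorem L419366 : N23142 = N43436 := eqes L419365 (flp_c L367350)
theorem L419367 : N43436 = N23142 := (eqc rfl L419366 rfl).symm
theorem L419379 : sm gi N23142 = N29794 := trfs L419367 (flp_i L367348) rfl
theorem L419380 : N29794 = N33744 := eqes L419379 L286258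
theorem L419381 : N33744 = N29794 := (eqc rfl L419380 rfl).symm
theorem L419382 : sm gb N29794 = N23695 := trfs L419381 L286260 rfl
theorem L419383 : N23695 = N43434 := eqes L419382 L367335
theorem L419384 : N43434 = N23695 := (eqc rfl L419383 rfl).symm
theorem L419388 : sm gg N29794 = N23145 := trfs L419381 L286264 rfl
theorem L419389 : N23145 = N20466 := eqes L419388 L252624
theorem L419390 : N23145 = N20466 := eqc rfl L419389 rfl
theorem L419396 : sm gb N20466 = N16266 := trfs L419390 L196877 rfl
theorem L419397 : N16266 = N29797 := eqes L419396 L252642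
theorem L419398 : N29797 = N16266 := (eqc rfl L419397 rfl).symm
theorem L419409 : sm gh N20466 = N33748 := trfs L419390 L286289 rfl
theorem L419410 : N33748 = N29785 := eqes L419409 (flp_h L252547)
theorem L419411 : N33748 = N29785 := eqc rfl L419410 rfl
theorem L419414 : sm gb N29785 = N23699 := trfs L419411 L286291 rfl
theorem L419415 : N23699 = N43419 := eqes L419414 L367211
theorem L419416 : N43419 = N23699 := (eqc rfl L419415 rfl).symm
theorem L419420 : sm gi N29785 = N44747 := trfs L419411 (flp_i L378613) rfl
theorem L419421 : N44747 = N43421 := eqes L419420 L367226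
theorem L419422 : N44747 = N43421 := eqc rfl L419421 rfl
theorem L419425 : sm ge N43421 = N30680 := trfs L419422 L378610 rfl
theorem L419428 : sm gh N43421 = N30679 := trfs L419422 (flp_h L378606) rfl
theorem L419433 : sm gf N23699 = N31558 := trfs L419416 L367213 rfl
theorem L419434 : N31558 = N34557 := eqes L419433 (flp_f L293020)
theorem L419435 : N34557 = N31558 := (eqc rfl L419434 rfl).symm
theorem L419445 : sm gh N31558 = N23698 := trfs L419435 (flp_h L293015) rfl
theorem L419446 : N23698 = N21664 := eqes L419445 L267483
theorem L419447 : N23698 = N21664 := eqc rfl L419446 rfl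
theorem L419448 : sm gi N31558 = N45601 := trfs L419435 (flp_i L385590) rfl
theorem L419449 : N45601 = N46055 := eqes L419448 L389332
theorem L419450 : N46055 = N45601 := (eqc rfl L419449 rfl).symm
theorem L419455 : sm gi N45601 = N31558 := trfs L419450 (flp_i L389332) rfl
theorem L419470 : sm gg N21664 = N34556 := trfs L419447 (flp_g L293013) rfl
theorem L419471 : N34556 = N31573 := eqes L419470 (flp_g L267594)
theorem L419472 : N34556 = N31573 := eqc rfl L419471 rfl
theorem L419474 : sm gi N21664 = N16265 := trfs L419447 (flp_i L201543) rfl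
theorem L419475 : N16265 = N31581 := eqes L419474 L267646
theorem L419476 : N31581 = N16265 := (eqc rfl L419475 rfl).symm
theorem L419484 : sm gd N16265 = N21690 := trfs L419476 L267651 rfl
theorem L419485 : N21690 = N23689 := eqes L419484 (flp_d L201490)
theorem L419486 : N23689 = N21690 := (eqc rfl L419485 rfl).symm
theorem L419493 : sm gg N16265 = N46082 := trfs L419476 (flp_g L389539) rfl
theorem L419494 : N46082 = N23697 := eqes L419493 L201538
theorem L419495 : N46082 = N23697 := eqc rfl L419494 rfl
theorem L419505 : sm gb N23697 = N31575 := trfs L419495 L389534 rfl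
theorem L419506 : N31575 = N33746 := eqes L419505 (flp_b L286276)
theorem L419507 : N33746 = N31575 := (eqc rfl L419506 rfl).symm
theorem L419509 : sm gd N23697 = N31609 := trfs L419495 L389537 rfl
theorem L419510 : N31609 = N34546 := eqes L419509 (flp_d L292948)
theorem L419511 : N34546 = N31609 := (eqc rfl L419510 rfl).symm
theorem L419514 : sm gd N31609 = N23697 := trfs L419511 L292948 rfl
theorem L419520 : sm ge N31575 = N23147 := trfs L419507 L286278 rfl
theorem L419521 : N23147 = N46084 := eqes L419520 (flp_e L389551)
theorem L419522 : N46084 = N23147 := (eqc rfl L419521 rfl).symm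
theorem L419538 : sm gi N23147 = N31574 := trfs L419522 (flp_i L389546) rfl
theorem L419539 : N31574 = N33750 := eqes L419538 L286302
theorem L419540 : N33750 = N31574 := (eqc rfl L419539 rfl).symm
theorem L419545 : sm gg N31574 = N23148 := trfs L419540 L286307 rfl
theorem L419546 : N23148 = N21665 := eqes L419545 L267601
theorem L419547 : N23148 = N21665 := eqc rfl L419546 rfl
theorem L419550 : sm ga N21665 = N33704 := trfs L419547 (flp_a L285917) rfl
theorem L419551 : N33704 = N31520 := eqes L419550 (flp_a L267160)
theorem L419552 : N33704 = N31520 := eqc rfl L419551 rfl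
theorem L419561 : sm gh N21665 = N33751 := trfs L419547 L286309 rfl
theorem L419562 : N33751 = N31559 := eqes L419561 (flp_h L267491)
theorem L419563 : N33751 = N31559 := eqc rfl L419562 rfl
theorem L419571 : sm gi N31559 = N44750 := trfs L419563 (flp_i L378635) rfl
theorem L419572 : N44750 = N46058 := eqes L419571 L389351
theorem L419573 : N46058 = N44750 := (eqc rfl L419572 rfl).symm
theorem L419579 : sm gi N44750 = N31559 := trfs L419573 (flp_i L389351) rfl
theorem L419586 : sm gi N31520 = N23116 := trfs L419552 (flp_i L285915) rfl
theorem L419587 : N23116 = N46003 := eqes L419586 L388902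
theorem L419588 : N46003 = N23116 := (eqc rfl L419587 rfl).symm
theorem L419593 : sm ge N23116 = N31521 := trfs L419588 L388909 rfl
theorem L419594 : N31521 = N33700 := eqes L419593 (flp_e L285892)
theorem L419595 : N33700 = N31521 := (eqc rfl L419594 rfl).symm
theorem L419602 : sm gf N31521 = N23114 := trfs L419595 (flp_f L285887) rfl
theorem L419603 : N23114 = N43379 := eqes L419602 (flp_f L366875)
theorem L419604 : N43379 = N23114 := (eqc rfl L419603 rfl).symm
theorem L419619 : sm gd N23114 = N29777 := trfs L419604 L366873 rfl
theorem L419620 : N29777 = N33694 := eqes L419619 (flp_d L285845)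
theorem L419621 : N33694 = N29777 := (eqc rfl L419620 rfl).symm
theorem L419622 : sm gf N23114 = N31521 := trfs L419604 L366875 rfl
theorem L419627 : sm ga N29777 = N23138 := trfs L419621 L285842 rfl
theorem L419628 : N23138 = N20488 := eqes L419627 L252478
theorem L419629 : N23138 = N20488 := eqc rfl L419628 rfl
theorem L419632 : sm ge N29777 = N23109 := trfs L419621 (flp_e L285840) rfl
theorem L419633 : N23109 = N43256 := eqes L419632 (flp_e L365850)
theorem L419634 : N43256 = N23109 := (eqc rfl L419633 rfl).symm
theorem L419636 : sm ga N23109 = N29710 := trfs L419634 L365846 rfl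
theorem L419637 : N29710 = N15887 := eqes L419636 L196567
theorem L419638 : N29710 = N15887 := eqc rfl L419637 rfl
theorem L419646 : sm gi N23109 = N29675 := trfs L419634 (flp_i L365844) rfl
theorem L419647 : N29675 = N33695 := eqes L419646 L285847
theorem L419648 : N33695 = N29675 := (eqc rfl L419647 rfl).symm
theorem L419649 : sm ga N29675 = N23139 := trfs L419648 L285849 rfl
theorem L419650 : N23139 = N20409 := eqes L419649 L251600
theorem L419651 : N23139 = N20409 := eqc rfl L419650 rfl
theorem L419652 : sm gd N29675 = N23110 := trfs L419648 L285851 rfl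
theorem L419653 : N23110 = N43234 := eqes L419652 (flp_d L365641)
theorem L419654 : N43234 = N23110 := (eqc rfl L419653 rfl).symm
theorem L419657 : sm gi N29675 = N23109 := trfs L419648 (flp_i L285847) rfl
theorem L419661 : sm gd N23110 = N29675 := trfs L419654 L365641 rfl
theorem L419665 : sm gb N20409 = N16260 := trfs L419651 L196830 rfl
theorem L419666 : N16260 = N29709 := eqes L419665 L251864
theorem L419667 : N29709 = N16260 := (eqc rfl L419666 rfl).symm
theorem L419679 : sm gh N20409 = N33740 := trfs L419651 L286230 rfl
theorem L419680 : N33740 = N29373 := eqes L419679 (flp_h L249019)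
theorem L419681 : N33740 = N29373 := eqc rfl L419680 rfl
theorem L419684 : sm gb N29373 = N23691 := trfs L419681 L286232 rfl
theorem L419685 : N23691 = N42805 := eqes L419684 L361978
theorem L419686 : N42805 = N23691 := (eqc rfl L419685 rfl).symm
theorem L419687 : sm gd N29373 = N23250 := trfs L419681 L286236 rfl
theorem L419688 : N23250 = N42784 := eqes L419687 (flp_d L361803)
theorem L419689 : N42784 = N23250 := (eqc rfl L419688 rfl).symm
theorem L419692 : sm gc N23250 = N29358 := trfs L419689 (flp_c L361799) rfl
theorem L419693 : N29358 = N33898 := eqes L419692 (flp_c L287576)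
theorem L419694 : N33898 = N29358 := (eqc rfl L419693 rfl).symm
theorem L419700 : sm gc N29358 = N23250 := trfs L419694 L287576 rfl
theorem L419704 : sm gh N29358 = N23247 := trfs L419694 (flp_h L287573) rfl
theorem L419705 : N23247 = N42777 := eqes L419704 (flp_h L361747)
theorem L419706 : N42777 = N23247 := (eqc rfl L419705 rfl).symm
theorem L419708 : sm gd N23247 = N29354 := trfs L419706 (flp_d L361742) rfl
theorem L419709 : N29354 = N15980 := eqes L419708 L197752
theorem L419710 : N29354 = N15980 := eqc rfl L419709 rfl
theorem L419713 : sm gh N23247 = N29358 := trfs L419706 L361747 rfl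
theorem L419724 : sm gh N15980 = N20172 := trfs L419710 (flp_h L248855) rfl
theorem L419725 : N20172 = N23273 := eqes L419724 L197954
theorem L419726 : N23273 = N20172 := (eqc rfl L419725 rfl).symm
theorem L419732 : sm gc N20172 = N15981 := trfs L419726 L197957 rfl
theorem L419733 : N15981 = N14023 := eqes L419732 L171428
theorem L419734 : N15981 = N14023 := eqc rfl L419733 rfl
theorem L419744 : sm gh N20172 = N15980 := trfs L419726 (flp_h L197954) rfl
theorem L419757 : sm ga N14023 = N23227 := trfs L419734 (flp_a L197588) rfl
theorem L419758 : N23227 = N20373 := eqes L419757 (flp_a L173134)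
theorem L419759 : N23227 = N20373 := eqc rfl L419758 rfl
theorem L419763 : sm gd N14023 = N23160 := trfs L419734 (flp_d L196996) rfl
theorem L419764 : N23160 = N9663 := eqes L419763 (flp_d L119475)
theorem L419765 : N23160 = N9663 := eqc rfl L419764 rfl
theorem L419780 : sm ge N9663 = N33649 := trfs L419765 (flp_e L285419) rfl
theorem L419781 : N33649 = N6669 := eqes L419780 (flp_e L82578)
theorem L419782 : N33649 = N6669 := eqc rfl L419781 rfl
theorem L419791 : sm gh N6669 = N23081 := trfs L419782 (flp_h L285415) rfl
theorem L419792 : N23081 = N9665 := eqes L419791 L82592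
theorem L419793 : N23081 = N9665 := eqc rfl L419792 rfl
theorem L419807 : sm gi N9665 = N15849 := trfs L419793 (flp_i L196300) rfl
theorem L419808 : N15849 = N14029 := eqes L419807 L119519
theorem L419809 : N15849 = N14029 := eqc rfl L419808 rfl
theorem L419815 : sm gc N14029 = N23080 := trfs L419809 L196294 rfl
theorem L419816 : N23080 = N9672 := eqes L419815 L119521
theorem L419817 : N23080 = N9672 := eqc rfl L419816 rfl
theorem L419835 : sm ge N9672 = N15902 := trfs L419817 L196296 rfl
theorem L419836 : N15902 = N14036 := eqes L419835 (flp_e L119578)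
theorem L419837 : N15902 = N14036 := eqc rfl L419836 rfl
theorem L419862 : sm gd N14036 = N23137 := trfs L419837 (flp_d L196819) rfl
theorem L419863 : N23137 = N20410 := eqes L419862 (flp_d L173447)
theorem L419864 : N23137 = N20410 := eqc rfl L419863 rfl
theorem L419869 : sm gi N14036 = N23159 := trfs L419837 L196984 rfl
theorem L419870 : N23159 = N9669 := eqes L419869 (flp_i L119574)
theorem L419871 : N23159 = N9669 := eqc rfl L419870 rfl
theorem L419872 : sm ga N9669 = N33715 := trfs L419871 (flp_a L286021) rfl
theorem L419873 : N33715 = N14019 := eqes L419872 (flp_a L119437)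
theorem L419874 : N33715 = N14019 := eqc rfl L419873 rfl
theorem L419875 : sm gb N9669 = N33765 := trfs L419871 (flp_b L286418) rfl
theorem L419876 : N33765 = N6677 := eqes L419875 L82623
theorem L419877 : N33765 = N6677 := eqc rfl L419876 rfl
theorem L419885 : sm gc N6677 = N23173 := trfs L419877 L286420 rfl
theorem L419886 : N23173 = N9651 := eqes L419885 (flp_c L82468)
theorem L419887 : N23173 = N9651 := eqc rfl L419886 rfl
theorem L419903 : sm gi N9651 = N15913 := trfs L419887 (flp_i L197109) rfl
theorem L419904 : N15913 = N14008 := eqes L419903 L119335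
theorem L419905 : N15913 = N14008 := eqc rfl L419904 rfl
theorem L419915 : sm gg N14008 = N23169 := trfs L419905 (flp_g L197078) rfl
theorem L419916 : N23169 = N20364 := eqes L419915 (flp_g L173061)
theorem L419917 : N23169 = N20364 := eqc rfl L419916 rfl
theorem L419930 : sm gf N20364 = N33772 := trfs L419917 (flp_f L286484) rfl
theorem L419931 : N33772 = N29637 := eqes L419930 (flp_f L251262)
theorem L419932 : N33772 = N29637 := eqc rfl L419931 rfl
theorem L419939 : sm gd N29637 = N23721 := trfs L419932 L286482 rfl
theorem L419940 : N23721 = N43196 := eqes L419939 (flp_d L365314)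
theorem L419941 : N43196 = N23721 := (eqc rfl L419940 rfl).symm
theorem L419949 : sm gi N23721 = N29636 := trfs L419941 (flp_i L365311) rfl
theorem L419950 : N29636 = N34586 := eqes L419949 L293270
theorem L419951 : N34586 = N29636 := (eqc rfl L419950 rfl).symm
theorem L419952 : sm gb N29636 = N23723 := trfs L419951 L293272 rfl
theorem L419953 : N23723 = N43182 := eqes L419952 (flp_b L365193)
theorem L419954 : N43182 = N23723 := (eqc rfl L419953 rfl).symm
theorem L419955 : sm gf N29636 = N23728 := trfs L419951 L293274 rfl
theorem L419956 : N23728 = N20363 := eqes L419955 L251252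
theorem L419957 : N23728 = N20363 := eqc rfl L419956 rfl
theorem L419960 : sm gi N29636 = N23721 := trfs L419951 (flp_i L293270) rfl
theorem L419966 : sm gc N20363 = N34575 := trfs L419957 (flp_c L293167) rfl
theorem L419967 : N34575 = N29640 := eqes L419966 L251285
theorem L419968 : N34575 = N29640 := eqc rfl L419967 rfl
theorem L420002 : sm gb N29640 = N23713 := trfs L419968 L293165 rfl
theorem L420003 : N23713 = N43199 := eqes L420002 L365338
theorem L420004 : N43199 = N23713 := (eqc rfl L420003 rfl).symm
theorem L420010 : sm gi N29640 = N23712 := trfs L419968 (flp_i L293163) rfl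
theorem L420011 : N23712 = N43200 := eqes L420010 L365346
theorem L420012 : N43200 = N23712 := (eqc rfl L420011 rfl).symm
theorem L420015 : sm gd N23712 = N29721 := trfs L420012 L365351 rfl
theorem L420016 : N29721 = N34534 := eqes L420015 (flp_d L292867)
theorem L420017 : N34534 = N29721 := (eqc rfl L420016 rfl).symm
theorem L420019 : sm gg N23712 = N29643 := trfs L420012 L365354 rfl
theorem L420020 : N29643 = N16279 := eqes L420019 L201655
theorem L420021 : N29643 = N16279 := eqc rfl L420020 rfl
theorem L420022 : sm gi N23712 = N29640 := trfs L420012 (flp_i L365346) rfl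
theorem L420029 : sm gd N16279 = N20421 := trfs L420021 L251315 rfl
theorem L420030 : N20421 = N23686 := eqes L420029 (flp_d L201470)
theorem L420031 : N23686 = N20421 := (eqc rfl L420030 rfl).symm
theorem L420035 : sm gh N16279 = N43204 := trfs L420021 L365382 rfl
theorem L420036 : N43204 = N11303 := eqes L420035 L138875
theorem L420037 : N43204 = N11303 := eqc rfl L420036 rfl
theorem L420042 : sm gc N11303 = N29644 := trfs L420037 L365385 rfl
theorem L420043 : N29644 = N7793 := eqes L420042 L96713
theorem L420044 : N29644 = N7793 := eqc rfl L420043 rfl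
theorem L420050 : sm gb N7793 = N43190 := trfs L420044 (flp_b L365259) rfl
theorem L420051 : N43190 = N5378 := eqes L420050 (flp_b L66928)
theorem L420052 : N43190 = N5378 := eqc rfl L420051 rfl
theorem L420072 : sm gh N5378 = N29632 := trfs L420052 (flp_h L365257) rfl
theorem L420073 : N29632 = N7710 := eqes L420072 (flp_h L66227)
theorem L420074 : N29632 = N7710 := eqc rfl L420073 rfl
theorem L420088 : sm gi N7710 = N20356 := trfs L420074 (flp_i L251210) rfl
theorem L420089 : N20356 = N11201 := eqes L420088 L95858
theorem L420090 : N20356 = N11201 := eqc rfl L420089 rfl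
theorem L420094 : sm gc N11201 = N29631 := trfs L420090 L251204 rfl
theorem L420095 : N29631 = N7711 := eqes L420094 L95862
theorem L420096 : N29631 = N7711 := eqc rfl L420095 rfl
theorem L420107 : sm gb N7711 = N43188 := trfs L420096 L365242 rfl
theorem L420108 : N43188 = N11190 := eqes L420107 (flp_b L95757)
theorem L420109 : N43188 = N11190 := eqc rfl L420108 rfl
theorem L420127 : sm gc N11190 = N29642 := trfs L420109 L365248 rfl
theorem L420128 : N29642 = N16280 := eqes L420127 (flp_c L138881)
theorem L420129 : N29642 = N16280 := eqc rfl L420128 rfl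
theorem L420139 : sm gd N16280 = N20420 := trfs L420129 L251304 rfl
theorem L420140 : N20420 = N23688 := eqes L420139 (flp_d L201484)
theorem L420141 : N23688 = N20420 := (eqc rfl L420140 rfl).symm
theorem L420156 : sm gd N20420 = N16280 := trfs L420141 L201484 rfl
theorem L420162 : sm gg N20420 = N34536 := trfs L420141 (flp_g L292884) rfl
theorem L420163 : N34536 = N29720 := eqes L420162 (flp_g L251956)
theorem L420164 : N34536 = N29720 := eqc rfl L420163 rfl
theorem L420169 : sm gi N20420 = N16258 := trfs L420141 (flp_i L201480) rfl
theorem L420170 : N16258 = N29724 := eqes L420169 L251982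
theorem L420171 : N29724 = N16258 := (eqc rfl L420170 rfl).symm
theorem L420172 : sm ga N16258 = N43324 := trfs L420171 (flp_a L366365) rfl
theorem L420173 : N43324 = N23645 := eqes L420172 (flp_a L201126)
theorem L420174 : N43324 = N23645 := eqc rfl L420173 rfl
theorem L420181 : sm ge N16258 = N20502 := trfs L420171 L251986 rfl
theorem L420182 : N20502 = N23687 := eqes L420181 L201474
theorem L420183 : N23687 = N20502 := (eqc rfl L420182 rfl).symm
theorem L420185 : sm gg N16258 = N43322 := trfs L420171 (flp_g L366352) rfl
theorem L420186 : N43322 = N23683 := eqes L420185 (flp_g L201452)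
theorem L420187 : N43322 = N23683 := eqc rfl L420186 rfl
theorem L420189 : sm gh N16258 = N43325 := trfs L420171 L366372 rfl
theorem L420190 : N43325 = N23674 := eqes L420189 (flp_h L201389)
theorem L420191 : N43325 = N23674 := eqc rfl L420190 rfl
theorem L420192 : sm gi N16258 = N20420 := trfs L420171 (flp_i L251982) rfl
theorem L420194 : sm gb N23674 = N29725 := trfs L420191 L366374 rfl
theorem L420195 : N29725 = N34519 := eqes L420194 L292761
theorem L420196 : N34519 = N29725 := (eqc rfl L420195 rfl).symm
theorem L420197 : sm ge N23674 = N29845 := trfs L420191 L366376 rfl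
theorem L420198 : N29845 = N34520 := eqes L420197 L292769
theorem L420199 : N34520 = N29845 := (eqc rfl L420198 rfl).symm
theorem L420202 : sm gc N29845 = N23675 := trfs L420199 L292771 rfl
theorem L420203 : N23675 = N43478 := eqes L420202 (flp_c L367679)
theorem L420204 : N43478 = N23675 := (eqc rfl L420203 rfl).symm
theorem L420205 : sm ge N29845 = N23674 := trfs L420199 (flp_e L292769) rfl
theorem L420209 : sm gb N23675 = N29827 := trfs L420204 L367677 rfl
theorem L420210 : N29827 = N33724 := eqes L420209 (flp_b L286099)
theorem L420211 : N33724 = N29827 := (eqc rfl L420210 rfl).symm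
theorem L420212 : sm gc N23675 = N29845 := trfs L420204 L367679 rfl
theorem L420218 : sm gh N23675 = N29826 := trfs L420204 (flp_h L367675) rfl
theorem L420219 : N29826 = N16259 := eqes L420218 L201396
theorem L420220 : N29826 = N16259 := eqc rfl L420219 rfl
theorem L420221 : sm ga N16259 = N43477 := trfs L420220 (flp_a L367668) rfl
theorem L420222 : N43477 = N23646 := eqes L420221 (flp_a L201134)
theorem L420223 : N43477 = N23646 := eqc rfl L420222 rfl
theorem L420236 : sm gi N16259 = N20487 := trfs L420220 (flp_i L252863) rfl
theorem L420237 : N20487 = N23690 := eqes L420236 L201494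
theorem L420238 : N23690 = N20487 := (eqc rfl L420237 rfl).symm
theorem L420239 : sm ga N20487 = N34482 := trfs L420238 (flp_a L292436) rfl
theorem L420240 : N34482 = N29825 := eqes L420239 L252856
theorem L420241 : N34482 = N29825 := eqc rfl L420240 rfl
theorem L420256 : sm gi N20487 = N16259 := trfs L420238 (flp_i L201494) rfl
theorem L420275 : sm gd N29825 = N23653 := trfs L420241 L292438 rfl
theorem L420276 : N23653 = N43440 := eqes L420275 (flp_d L367380)
theorem L420277 : N43440 = N23653 := (eqc rfl L420276 rfl).symm
theorem L420293 : sm gd N23653 = N29825 := trfs L420277 L367380 rfl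
theorem L420311 : sm gc N23646 = N29844 := trfs L420223 L367670 rfl
theorem L420312 : N29844 = N34479 := eqes L420311 (flp_c L292412)
theorem L420313 : N34479 = N29844 := (eqc rfl L420312 rfl).symm
theorem L420328 : sm gc N29844 = N23646 := trfs L420313 L292412 rfl
theorem L420349 : sm gd N29827 = N44723 := trfs L420211 (flp_d L378419) rfl
theorem L420350 : N44723 = N43479 := eqes L420349 L367684
theorem L420351 : N44723 = N43479 := eqc rfl L420350 rfl
theorem L420371 : sm gb N43479 = N31230 := trfs L420351 L378414 rfl
theorem L420380 : sm gd N29725 = N23897 := trfs L420196 L292763 rfl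
theorem L420381 : N23897 = N43326 := eqes L420380 L366380
theorem L420382 : N43326 = N23897 := (eqc rfl L420381 rfl).symm
theorem L420386 : sm ga N23897 = N23897 := trfs L420382 L366382 L420382
theorem L420387 : N23897 = N34828 := eqes L420386 L295238
theorem L420388 : N34828 = N23897 := (eqc rfl L420387 rfl).symm
theorem L420390 : sm gd N23897 = N29725 := trfs L420382 (flp_d L366380) rfl
theorem L420394 : sm ga N23897 = N23897 := trfs L420388 (flp_a L295238) rfl
theorem L420398 : sm gh N23897 = N23911 := trfs L420388 L295243 rfl
theorem L420399 : N23911 = N16421 := eqes L420398 L203181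
theorem L420400 : N23911 = N16421 := eqc rfl L420399 rfl
theorem L420401 : sm ga N16421 = N16421 := trfs L420400 (flp_a L203284) rfl
theorem L420426 : sm ge N23683 = N29842 := trfs L420187 L366350 rfl
theorem L420433 : sm gc N20502 = N16259 := trfs L420183 L201476 rfl
theorem L420436 : sm ge N20502 = N16258 := trfs L420183 (flp_e L201474) rfl
theorem L420456 : sm ge N23645 = N29844 := trfs L420174 L366368 rfl
theorem L420467 : sm gc N29720 = N23685 := trfs L420164 L292880 rfl
theorem L420471 : sm gi N29720 = N23683 := trfs L420164 (flp_i L292878) rfl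
theorem L420507 : sm gb N20421 = N16258 := trfs L420031 (flp_b L201468) rfl
theorem L420524 : sm gb N29721 = N23683 := trfs L420017 (flp_b L292865) rfl
theorem L420538 : sm gb N23713 = N29640 := trfs L420004 (flp_b L365338) rfl
theorem L420544 : sm gb N23723 = N29636 := trfs L419954 L365193 rfl
theorem L420594 : sm gc N14019 = N23125 := trfs L419874 L286023 rfl
theorem L420595 : N23125 = N20375 := eqes L420594 (flp_c L173153)
theorem L420596 : N23125 = N20375 := eqc rfl L420595 rfl
theorem L420611 : sm gi N20375 = N15878 := trfs L420596 (flp_i L196702) rfl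
theorem L420612 : N15878 = N29661 := eqes L420611 L251461
theorem L420613 : N29661 = N15878 := (eqc rfl L420612 rfl).symm
theorem L420615 : sm gb N15878 = N43212 := trfs L420613 (flp_b L365447) rfl
theorem L420616 : N43212 = N12242 := eqes L420615 L135433
theorem L420617 : N43212 = N12242 := eqc rfl L420616 rfl
theorem L420632 : sm ge N12242 = N29651 := trfs L420617 L365450 rfl
theorem L420633 : N29651 = N17746 := eqes L420632 (flp_e L151021)
theorem L420634 : N29651 = N17746 := eqc rfl L420633 rfl
theorem L420656 : sm gi N17746 = N20370 := trfs L420634 (flp_i L251378) rfl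
theorem L420657 : N20370 = N25845 := eqes L420656 L219307
theorem L420658 : N25845 = N20370 := (eqc rfl L420657 rfl).symm
theorem L420673 : sm gg N20370 = N37682 := trfs L420658 (flp_g L318883) rfl
theorem L420674 : N37682 = N29649 := eqes L420673 (flp_g L251368)
theorem L420675 : N37682 = N29649 := eqc rfl L420674 rfl
theorem L420677 : sm gh N20370 = N37685 := trfs L420658 L318900 rfl
theorem L420678 : N37685 = N14011 := eqes L420677 (flp_h L173108)
theorem L420679 : N37685 = N14011 := eqc rfl L420678 rfl
theorem L420680 : sm gi N20370 = N17746 := trfs L420658 (flp_i L219307) rfl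
theorem L420684 : sm ge N14011 = N25947 := trfs L420679 L318904 rfl
theorem L420685 : N25947 = N20368 := eqes L420684 L173092
theorem L420686 : N25947 = N20368 := eqc rfl L420685 rfl
theorem L420700 : sm gg N20368 = N37833 := trfs L420686 (flp_g L320127) rfl
theorem L420701 : N37833 = N29646 := eqes L420700 L251336
theorem L420702 : N37833 = N29646 := eqc rfl L420701 rfl
theorem L420713 : sm gh N29646 = N25944 := trfs L420702 (flp_h L320123) rfl
theorem L420714 : N25944 = N43210 := eqes L420713 L365430
theorem L420715 : N43210 = N25944 := (eqc rfl L420714 rfl).symm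
theorem L420719 : sm gc N25944 = N25944 := trfs L420715 L365434 L420715
theorem L420720 : N25944 = N37832 := eqes L420719 (flp_c L320119)
theorem L420721 : N37832 = N25944 := (eqc rfl L420720 rfl).symm
theorem L420734 : sm gi N25944 = N25943 := trfs L420721 (flp_i L320115) rfl
theorem L420735 : N25943 = N17812 := eqes L420734 (flp_i L220136)
theorem L420736 : N25943 = N17812 := eqc rfl L420735 rfl
theorem L420754 : sm gj N17812 = N37829 := trfs L420736 (flp_j L320098) rfl
theorem L420755 : N37829 = N25941 := eqes L420754 (flp_j L220115)
theorem L420756 : N37829 = N25941 := eqc rfl L420755 rfl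
theorem L420758 : sm ga N25941 = N25990 := trfs L420756 L320095 rfl
theorem L420759 : N25990 = N17844 := eqes L420758 L220112
theorem L420760 : N25990 = N17844 := eqc rfl L420759 rfl
theorem L420772 : sm gf N17844 = N37894 := trfs L420760 (flp_f L320630) rfl
theorem L420773 : N37894 = N25985 := eqes L420772 (flp_f L220476)
theorem L420774 : N37894 = N25985 := eqc rfl L420773 rfl
theorem L420785 : sm gj N25985 = N25987 := trfs L420774 L320632 rfl
theorem L420786 : N25987 = N17842 := eqes L420785 L220478
theorem L420787 : N25987 = N17842 := eqc rfl L420786 rfl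
theorem L420794 : sm gd N17842 = N37857 := trfs L420787 (flp_d L320341) rfl
theorem L420795 : N37857 = N12262 := eqes L420794 (flp_d L151814)
theorem L420796 : N37857 = N12262 := eqc rfl L420795 rfl
theorem L420815 : sm gf N12262 = N25963 := trfs L420796 L320338 rfl
theorem L420816 : N25963 = N8443 := eqes L420815 L104665
theorem L420817 : N25963 = N8443 := eqc rfl L420816 rfl
theorem L420837 : sm gi N8443 = N37865 := trfs L420817 L320396 rfl
theorem L420838 : N37865 = N12265 := eqes L420837 L104684
theorem L420839 : N37865 = N12265 := eqc rfl L420838 rfl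
theorem L420844 : sm gg N12265 = N25968 := trfs L420839 L320402 rfl
theorem L420845 : N25968 = N8445 := eqes L420844 L104690
theorem L420846 : N25968 = N8445 := eqc rfl L420845 rfl
theorem L420864 : sm gh N8445 = N37874 := trfs L420846 L320466 rfl
theorem L420865 : N37874 = N5858 := eqes L420864 L72354
theorem L420866 : N37874 = N5858 := eqc rfl L420865 rfl
theorem L420868 : sm gc N5858 = N25971 := trfs L420866 L320468 rfl
theorem L420869 : N25971 = N8483 := eqes L420868 (flp_c L72654)
theorem L420870 : N25971 = N8483 := eqc rfl L420869 rfl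
theorem L420887 : sm gi N8483 = N37853 := trfs L420870 (flp_i L320304) rfl
theorem L420888 : N37853 = N5847 := eqes L420887 (flp_i L72650)
theorem L420889 : N37853 = N5847 := eqc rfl L420888 rfl
theorem L420896 : sm gh N5847 = N25956 := trfs L420889 (flp_h L320296) rfl
theorem L420897 : N25956 = N4039 := eqes L420896 (flp_h L50286)
theorem L420898 : N25956 = N4039 := eqc rfl L420897 rfl
theorem L420913 : sm gi N4039 = N17820 := trfs L420898 (flp_i L220236) rfl
theorem L420914 : N17820 = N5816 := eqes L420913 (flp_i L50044)
theorem L420915 : N17820 = N5816 := eqc rfl L420914 rfl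
theorem L420934 : sm gh N5816 = N12251 := trfs L420915 L151635 rfl
theorem L420935 : N12251 = N8434 := eqes L420934 L72252
theorem L420936 : N12251 = N8434 := eqc rfl L420935 rfl
theorem L420945 : sm ge N8434 = N17828 := trfs L420936 L151701 rfl
theorem L420946 : N17828 = N5818 := eqes L420945 L72258
theorem L420947 : N17828 = N5818 := eqc rfl L420946 rfl
theorem L420968 : sm gi N5818 = N25970 := trfs L420947 L220353 rfl
theorem L420969 : N25970 = N8438 := eqes L420968 L72288
theorem L420970 : N25970 = N8438 := eqc rfl L420969 rfl
theorem L420980 : sm gf N8438 = N37876 := trfs L420970 (flp_f L320486) rfl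
theorem L420981 : N37876 = N5820 := eqes L420980 L72294
theorem L420982 : N37876 = N5820 := eqc rfl L420981 rfl
theorem L420989 : sm gd N5820 = N25978 := trfs L420982 L320483 rfl
theorem L420990 : N25978 = N8440 := eqes L420989 (flp_d L72310)
theorem L420991 : N25978 = N8440 := eqc rfl L420990 rfl
theorem L421015 : sm gi N8440 = N17834 := trfs L420991 (flp_i L220416) rfl
theorem L421016 : N17834 = N5819 := eqes L421015 (flp_i L72306)
theorem L421017 : N17834 = N5819 := eqc rfl L421016 rfl
theorem L421032 : sm gg N5819 = N25977 := trfs L421017 L220409 rfl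
theorem L421033 : N25977 = N8318 := eqes L421032 (flp_g L71335)
theorem L421034 : N25977 = N8318 := eqc rfl L421033 rfl
theorem L421055 : sm gj N8318 = N37884 := trfs L421034 L320544 rfl
theorem L421056 : N37884 = N11955 := eqes L421055 (flp_j L102151)
theorem L421057 : N37884 = N11955 := eqc rfl L421056 rfl
theorem L421063 : sm ge N11955 = N25980 := trfs L421057 L320548 rfl
theorem L421064 : N25980 = N17383 := eqes L421063 L148041
theorem L421065 : N25980 = N17383 := eqc rfl L421064 rfl
theorem L421084 : sm gi N17383 = N37888 := trfs L421065 L320578 rfl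
theorem L421085 : N37888 = N25302 := eqes L421084 L214859
theorem L421086 : N37888 = N25302 := eqc rfl L421085 rfl
theorem L421092 : sm gj N25302 = N25981 := trfs L421086 L320584 rfl
theorem L421093 : N25981 = N17566 := eqes L421092 L214867
theorem L421094 : N25981 = N17566 := eqc rfl L421093 rfl
theorem L421110 : sm gh N17566 = N37889 := trfs L421094 L320586 rfl
theorem L421111 : N37889 = N25575 := eqes L421110 L217147
theorem L421112 : N37889 = N25575 := eqc rfl L421111 rfl
theorem L421117 : sm gg N25575 = N25982 := trfs L421112 L320590 rfl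
theorem L421118 : N25982 = N17839 := eqes L421117 L217153
theorem L421119 : N25982 = N17839 := eqc rfl L421118 rfl
theorem L421130 : sm gd N17839 = N37890 := trfs L421119 L320593 rfl
theorem L421131 : N37890 = N25983 := eqes L421130 L220455
theorem L421132 : N37890 = N25983 := eqc rfl L421131 rfl
theorem L421138 : sm gb N25983 = N26792 := trfs L421132 L320595 rfl
theorem L421139 : N26792 = N18393 := eqes L421138 L220457
theorem L421140 : N26792 = N18393 := eqc rfl L421139 rfl
theorem L421152 : sm ge N18393 = N39080 := trfs L421140 L330263 rfl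
theorem L421153 : N39080 = N12732 := eqes L421152 L156295
theorem L421154 : N39080 = N12732 := eqc rfl L421153 rfl
theorem L421165 : sm gf N12732 = N26966 := trfs L421154 L330268 rfl
theorem L421166 : N26966 = N18523 := eqes L421165 (flp_f L157339)
theorem L421167 : N26966 = N18523 := eqc rfl L421166 rfl
theorem L421180 : sm gd N18523 = N39302 := trfs L421167 (flp_d L332062) rfl
theorem L421181 : N39302 = N12731 := eqes L421180 (flp_d L157337)
theorem L421182 : N39302 = N12731 := eqc rfl L421181 rfl
theorem L421193 : sm ge N12731 = N26961 := trfs L421182 (flp_e L332058) rfl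
theorem L421194 : N26961 = N18519 := eqes L421193 (flp_e L157312)
theorem L421195 : N26961 = N18519 := eqc rfl L421194 rfl
theorem L421215 : sm gh N18519 = N39289 := trfs L421195 (flp_h L331968) rfl
theorem L421216 : N39289 = N12727 := eqes L421215 (flp_h L157308)
theorem L421217 : N39289 = N12727 := eqc rfl L421216 rfl
theorem L421222 : sm gf N12727 = N26951 := trfs L421217 L331965 rfl
theorem L421223 : N26951 = N8761 := eqes L421222 L108434
theorem L421224 : N26951 = N8761 := eqc rfl L421223 rfl
theorem L421246 : sm gi N8761 = N39271 := trfs L421224 (flp_i L331840) rfl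
theorem L421247 : N39271 = N6036 := eqes L421246 (flp_i L74888)
theorem L421248 : N39271 = N6036 := eqc rfl L421247 rfl
theorem L421249 : sm gd N6036 = N26934 := trfs L421248 (flp_d L331837) rfl
theorem L421250 : N26934 = N8754 := eqes L421249 (flp_d L74841)
theorem L421251 : N26934 = N8754 := eqc rfl L421250 rfl
theorem L421267 : sm gh N8754 = N18496 := trfs L421251 (flp_h L228208) rfl
theorem L421268 : N18496 = N12708 := eqes L421267 (flp_h L108298)
theorem L421269 : N18496 = N12708 := eqc rfl L421268 rfl
theorem L421274 : sm gb N12708 = N26111 := trfs L421269 (flp_b L221534) rfl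
theorem L421275 : N26111 = N17925 := eqes L421274 (flp_b L152499)
theorem L421276 : N26111 = N17925 := eqc rfl L421275 rfl
theorem L421323 : sm ge N17925 = N17926 := trfs L421276 L221537 rfl
theorem L421324 : N17926 = N12316 := eqes L421323 (flp_e L152497)
theorem L421325 : N17926 = N12316 := eqc rfl L421324 rfl
theorem L421340 : sm gc N12316 = N26109 := trfs L421325 (flp_c L221518) rfl
theorem L421341 : N26109 = N17924 := eqes L421340 L152489
theorem L421342 : N26109 = N17924 := eqc rfl L421341 rfl
theorem L421360 : sm gh N17924 = N38079 := trfs L421342 L322214 rfl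
theorem L421361 : N38079 = N12323 := eqes L421360 L152493
theorem L421362 : N38079 = N12323 := eqc rfl L421361 rfl
theorem L421368 : sm gi N12323 = N26129 := trfs L421362 L322221 rfl
theorem L421369 : N26129 = N17937 := eqes L421368 L152595
theorem L421370 : N26129 = N17937 := eqc rfl L421369 rfl
theorem L421383 : sm gg N17937 = N38100 := trfs L421370 (flp_g L322394) rfl
theorem L421384 : N38100 = N26123 := eqes L421383 (flp_g L221639)
theorem L421385 : N38100 = N26123 := eqc rfl L421384 rfl
theorem L421389 : sm gc N26123 = N26126 := trfs L421385 L322392 rfl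
theorem L421390 : N26126 = N17935 := eqes L421389 L221635
theorem L421391 : N26126 = N17935 := eqc rfl L421390 rfl
theorem L421405 : sm gj N17935 = N38097 := trfs L421391 (flp_j L322371) rfl
theorem L421406 : N38097 = N26121 := eqes L421405 (flp_j L221622)
theorem L421407 : N38097 = N26121 := eqc rfl L421406 rfl
theorem L421410 : sm gb N26121 = N26944 := trfs L421407 L322368 rfl
theorem L421411 : N26944 = N18504 := eqes L421410 L221617
theorem L421412 : N26944 = N18504 := eqc rfl L421411 rfl
theorem L421423 : sm gf N18504 = N39276 := trfs L421412 (flp_f L331875) rfl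
theorem L421424 : N39276 = N26938 := eqes L421423 (flp_f L228241)
theorem L421425 : N39276 = N26938 := eqc rfl L421424 rfl
theorem L421431 : sm gj N26938 = N26941 := trfs L421425 L331877 rfl
theorem L421432 : N26941 = N18502 := eqes L421431 L228243
theorem L421433 : N26941 = N18502 := eqc rfl L421432 rfl
theorem L421435 : sm ga N18502 = N39221 := trfs L421433 (flp_a L331421) rfl
theorem L421436 : N39221 = N26894 := eqes L421435 (flp_a L227866)
theorem L421437 : N39221 = N26894 := eqc rfl L421436 rfl
theorem L421452 : sm gf N26894 = N26899 := trfs L421437 L331424 rfl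
theorem L421453 : N26899 = N18467 := eqes L421452 L227871
theorem L421454 : N26899 = N18467 := eqc rfl L421453 rfl
theorem L421463 : sm ge N18467 = N39227 := trfs L421454 (flp_e L331479) rfl
theorem L421464 : N39227 = N26898 := eqes L421463 (flp_e L227908)
theorem L421465 : N39227 = N26898 := eqc rfl L421464 rfl
theorem L421474 : sm gg N26898 = N26902 := trfs L421465 L331481 rfl
theorem L421475 : N26902 = N18469 := eqes L421474 L227910
theorem L421476 : N26902 = N18469 := eqc rfl L421475 rfl
theorem L421479 : sm gb N18469 = N39159 := trfs L421476 (flp_b L330901) rfl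
theorem L421480 : N39159 = N26849 := eqes L421479 (flp_b L227487)
theorem L421481 : N39159 = N26849 := eqc rfl L421480 rfl
theorem L421496 : sm ge N26849 = N26850 := trfs L421481 L330903 rfl
theorem L421497 : N26850 = N18434 := eqes L421496 L227491
theorem L421498 : N26850 = N18434 := eqc rfl L421497 rfl
theorem L421513 : sm gi N18434 = N39138 := trfs L421498 (flp_i L330748) rfl
theorem L421514 : N39138 = N12663 := eqes L421513 (flp_i L156617)
theorem L421515 : N39138 = N12663 := eqc rfl L421514 rfl
theorem L421519 : sm gh N12663 = N26836 := trfs L421515 (flp_h L330742) rfl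
theorem L421520 : N26836 = N18425 := eqes L421519 (flp_h L156560)
theorem L421521 : N26836 = N18425 := eqc rfl L421520 rfl
theorem L421538 : sm gg N18425 = N39133 := trfs L421521 (flp_g L330708) rfl
theorem L421539 : N39133 = N26832 := eqes L421538 (flp_g L227365)
theorem L421540 : N39133 = N26832 := eqc rfl L421539 rfl
theorem L421544 : sm gd N26832 = N26833 := trfs L421540 L330706 rfl
theorem L421545 : N26833 = N18424 := eqes L421544 (flp_d L227361)
theorem L421546 : N26833 = N18424 := eqc rfl L421545 rfl
theorem L421565 : sm gh N18424 = N38885 := trfs L421546 (flp_h L328723) rfl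
theorem L421566 : N38885 = N12658 := eqes L421565 (flp_h L156547)
theorem L421567 : N38885 = N12658 := eqc rfl L421566 rfl
theorem L421574 : sm gi N12658 = N26663 := trfs L421567 (flp_i L328716) rfl
theorem L421575 : N26663 = N18307 := eqes L421574 (flp_i L155612)
theorem L421576 : N26663 = N18307 := eqc rfl L421575 rfl
theorem L421589 : sm gg N18307 = N18308 := trfs L421576 L226014 rfl
theorem L421590 : N18308 = N12579 := eqes L421589 (flp_g L155605)
theorem L421591 : N18308 = N12579 := eqc rfl L421590 rfl
theorem L421639 : sm gd N12579 = N26664 := trfs L421591 L226016 rfl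
theorem L421640 : N26664 = N8660 := eqes L421639 (flp_d L107245)
theorem L421641 : N26664 = N8660 := eqc rfl L421640 rfl
theorem L421658 : sm gh N8660 = N18312 := trfs L421641 L226022 rfl
theorem L421659 : N18312 = N12581 := eqes L421658 L107262
theorem L421660 : N18312 = N12581 := eqc rfl L421659 rfl
theorem L421674 : sm gi N12581 = N26673 := trfs L421660 L226084 rfl
theorem L421675 : N26673 = N18313 := eqes L421674 L155651
theorem L421676 : N26673 = N18313 := eqc rfl L421675 rfl
theorem L421677 : sm ga N18313 = N37769 := trfs L421676 (flp_a L319577) rfl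
theorem L421678 : N37769 = N25902 := eqes L421677 (flp_a L219768)
theorem L421679 : N37769 = N25902 := eqc rfl L421678 rfl
theorem L421693 : sm gb N25902 = N25926 := trfs L421679 L319579 rfl
theorem L421694 : N25926 = N17800 := eqes L421693 L219770
theorem L421695 : N25926 = N17800 := eqc rfl L421694 rfl
theorem L421705 : sm gg N17800 = N37804 := trfs L421695 (flp_g L319899) rfl
theorem L421706 : N37804 = N25923 := eqes L421705 (flp_g L219968)
theorem L421707 : N37804 = N25923 := eqc rfl L421706 rfl
theorem L421713 : sm gi N25923 = N25922 := trfs L421707 (flp_i L319893) rfl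
theorem L421714 : N25922 = N17798 := eqes L421713 (flp_i L219960)
theorem L421715 : N25922 = N17798 := eqc rfl L421714 rfl
theorem L421732 : sm gh N17798 = N37791 := trfs L421715 (flp_h L319782) rfl
theorem L421733 : N37791 = N12231 := eqes L421732 (flp_h L151442)
theorem L421734 : N37791 = N12231 := eqc rfl L421733 rfl
theorem L421736 : sm gd N12231 = N25916 := trfs L421734 (flp_d L319776) rfl
theorem L421737 : N25916 = N17794 := eqes L421736 (flp_d L151409)
theorem L421738 : N25916 = N17794 := eqc rfl L421737 rfl
theorem L421754 : sm gi N17794 = N37792 := trfs L421738 L319784 rfl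
theorem L421755 : N37792 = N12290 := eqes L421754 L151412
theorem L421756 : N37792 = N12290 := eqc rfl L421755 rfl
theorem L421763 : sm gh N12290 = N26053 := trfs L421756 L319792 rfl
theorem L421764 : N26053 = N17886 := eqes L421763 L152174
theorem L421765 : N26053 = N17886 := eqc rfl L421764 rfl
theorem L421778 : sm gg N17886 = N17888 := trfs L421765 L221050 rfl
theorem L421779 : N17888 = N12291 := eqes L421778 L152180
theorem L421780 : N17888 = N12291 := eqc rfl L421779 rfl
theorem L424102 : sm gb N12291 = N26022 := trfs L421780 (flp_b L220770) rfl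
theorem L424103 : N26022 = N17867 := eqes L424102 (flp_b L152010)
theorem L424104 : N26022 = N17867 := eqc rfl L424103 rfl
theorem L424113 : sm gc N17867 = N37936 := trfs L424104 (flp_c L320964) rfl
theorem L424114 : N37936 = N26017 := eqes L424113 (flp_c L220723)
theorem L424115 : N37936 = N26017 := eqc rfl L424114 rfl
theorem L424131 : sm ga N26017 = N26827 := trfs L424115 L320961 rfl
theorem L424132 : N26827 = N18421 := eqes L424131 L220720
theorem L424133 : N26827 = N18421 := eqc rfl L424132 rfl
theorem L424150 : sm gh N18421 = N38879 := trfs L424133 (flp_h L328673) rfl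
theorem L424151 : N38879 = N12657 := eqes L424150 (flp_h L156523)
theorem L424152 : N38879 = N12657 := eqc rfl L424151 rfl
theorem L424154 : sm gb N12657 = N26972 := trfs L424152 L328666 rfl
theorem L424155 : N26972 = N8823 := eqes L424154 L107884
theorem L424156 : N26972 = N8823 := eqc rfl L424155 rfl
theorem L424176 : sm gi N8823 = N18527 := trfs L424156 (flp_i L228479) rfl
theorem L424177 : N18527 = N12736 := eqes L424176 (flp_i L108503)
theorem L424178 : N18527 = N12736 := eqc rfl L424177 rfl
theorem L424181 : sm gc N12736 = N12738 := trfs L424178 L157371 rfl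
theorem L424182 : N12738 = N8772 := eqes L424181 (flp_c L108497)
theorem L424183 : N12738 = N8772 := eqc rfl L424182 rfl
theorem L424189 : sm gg N12736 = N26970 := trfs L424178 (flp_g L228472) rfl
theorem L424190 : N26970 = N18526 := eqes L424189 L157360
theorem L424191 : N26970 = N18526 := eqc rfl L424190 rfl
theorem L424193 : sm gh N12736 = N12736 := trfs L424178 (flp_h L157368) rfl
theorem L424196 : sm gc N18526 = N18530 := trfs L424191 L228469 rfl
theorem L424197 : N18530 = N12737 := eqes L424196 L157363
theorem L424198 : N18530 = N12737 := eqc rfl L424197 rfl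
theorem L424206 : sm gj N18526 = N39313 := trfs L424191 (flp_j L332147) rfl
theorem L424207 : N39313 = N26969 := eqes L424206 L228457
theorem L424208 : N39313 = N26969 := eqc rfl L424207 rfl
theorem L424212 : sm gc N26969 = N26976 := trfs L424208 L332143 rfl
theorem L424213 : N26976 = N18529 := eqes L424212 L228460
theorem L424214 : N26976 = N18529 := eqc rfl L424213 rfl
theorem L424228 : sm gi N18529 = N39326 := trfs L424214 L332253 rfl
theorem L424229 : N39326 = N12809 := eqes L424228 L157394
theorem L424230 : N39326 = N12809 := eqc rfl L424229 rfl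
theorem L424235 : sm gj N12809 = N26978 := trfs L424230 L332260 rfl
theorem L424236 : N26978 = N8824 := eqes L424235 (flp_j L109107)
theorem L424237 : N26978 = N8824 := eqc rfl L424236 rfl
theorem L424326 : sm gb N8824 = N18552 := trfs L424237 L228539 rfl
theorem L424327 : N18552 = N6090 := eqes L424326 L75421
theorem L424328 : N18552 = N6090 := eqc rfl L424327 rfl
theorem L424334 : sm gf N8824 = N39324 := trfs L424237 (flp_f L332238) rfl
theorem L424335 : N39324 = N12808 := eqes L424334 L109099
theorem L424336 : N39324 = N12808 := eqc rfl L424335 rfl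
theorem L424343 : sm gi N12808 = N26975 := trfs L424336 (flp_i L332233) rfl
theorem L424344 : N26975 = N18528 := eqes L424343 (flp_i L157383)
theorem L424345 : N26975 = N18528 := eqc rfl L424344 rfl
theorem L424349 : sm gd N18528 = N39323 := trfs L424345 L332223 rfl
theorem L424350 : N39323 = N12739 := eqes L424349 L157381
theorem L424351 : N39323 = N12739 := eqc rfl L424350 rfl
theorem L424359 : sm gf N12739 = N26977 := trfs L424351 L332228 rfl
theorem L424360 : N26977 = N8773 := eqes L424359 (flp_f L108523)
theorem L424361 : N26977 = N8773 := eqc rfl L424360 rfl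
theorem L424377 : sm gh N8773 = N18536 := trfs L424361 L228534 rfl
theorem L424378 : N18536 = N12741 := eqes L424377 L108542
theorem L424379 : N18536 = N12741 := eqc rfl L424378 rfl
theorem L424394 : sm gj N12741 = N26985 := trfs L424379 (flp_j L228608) rfl
theorem L424395 : N26985 = N18535 := eqes L424394 (flp_j L157452)
theorem L424396 : N26985 = N18535 := eqc rfl L424395 rfl
theorem L424404 : sm ge N18535 = N39340 := trfs L424396 L332378 rfl
theorem L424405 : N39340 = N12743 := eqes L424404 L157449
theorem L424406 : N39340 = N12743 := eqc rfl L424405 rfl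
theorem L424413 : sm gd N12743 = N26992 := trfs L424406 L332387 rfl
theorem L424414 : N26992 = N18539 := eqes L424413 L157478
theorem L424415 : N26992 = N18539 := eqc rfl L424414 rfl
theorem L424431 : sm gj N18539 = N18541 := trfs L424415 L228667 rfl
theorem L424432 : N18541 = N12744 := eqes L424431 L157485
theorem L424433 : N18541 = N12744 := eqc rfl L424432 rfl
theorem L424448 : sm gg N12744 = N12746 := trfs L424433 L157503 rfl
theorem L424449 : N12746 = N8777 := eqes L424448 L108576
theorem L424450 : N12746 = N8777 := eqc rfl L424449 rfl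
theorem L424464 : sm gf N8777 = N18543 := trfs L424450 L157516 rfl
theorem L424465 : N18543 = N6053 := eqes L424464 L75027
theorem L424466 : N18543 = N6053 := eqc rfl L424465 rfl
theorem L424483 : sm gg N6053 = N26997 := trfs L424466 L228706 rfl
theorem L424484 : N26997 = N6053 := eqes L424483 L51930
theorem L424485 : N26997 = N6053 := eqc rfl L424484 rfl
theorem L424505 : sm gj N6053 = N39357 := trfs L424485 L332523 rfl
theorem L424506 : N39357 = N6053 := eqes L424505 L51931
theorem L424507 : N39357 = N6053 := eqc rfl L424506 rfl
theorem L424514 : sm ge N6053 = N27001 := trfs L424507 L332528 rfl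
theorem L424515 : N27001 = N8779 := eqes L424514 L75040
theorem L424516 : N27001 = N8779 := eqc rfl L424515 rfl
theorem L424521 : sm gb N8779 = N18568 := trfs L424516 L228744 rfl
theorem L424522 : N18568 = N6060 := eqes L424521 L75043
theorem L424523 : N18568 = N6060 := eqc rfl L424522 rfl
theorem L424607 : sm gj N6060 = N12763 := trfs L424523 (flp_j L157737) rfl
theorem L424608 : N12763 = N6060 := eqes L424607 L52001
theorem L424609 : N12763 = N6060 := eqc rfl L424608 rfl
theorem L424612 : sm ga N6060 = N8809 := trfs L424609 L108749 rfl
theorem L424613 : N8809 = N4197 := eqes L424612 L51997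
theorem L424614 : N8809 = N4197 := eqc rfl L424613 rfl
theorem L424630 : sm gf N4197 = N4197 := trfs L424614 L75310 L424614
theorem L424631 : N4197 = N6075 := eqes L424630 L52124
theorem L424632 : N6075 = N4197 := (eqc rfl L424631 rfl).symm
theorem L424641 : sm ge N4197 = N8808 := trfs L424632 (flp_e L75301) rfl
theorem L424642 : N8808 = N2902 := eqes L424641 (flp_e L36158)
theorem L424643 : N8808 = N2902 := eqc rfl L424642 rfl
theorem L424654 : sm gf N2902 = N6074 := trfs L424643 (flp_f L75294) rfl
theorem L424655 : N6074 = N4196 := eqes L424654 (flp_f L36152)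
theorem L424656 : N6074 = N4196 := eqc rfl L424655 rfl
theorem L424665 : sm ge N4196 = N4196 := trfs L424656 (flp_e L52117) rfl
theorem L424666 : sm gg N4196 = N8807 := trfs L424656 (flp_g L75290) rfl
theorem L424667 : N8807 = N6073 := eqes L424666 (flp_g L52112)
theorem L424668 : N8807 = N6073 := eqc rfl L424667 rfl
theorem L424676 : sm ge N6073 = N6073 := trfs L424668 (flp_e L75286) rfl
theorem L424680 : sm gj N6073 = N12788 := trfs L424668 (flp_j L108950) rfl
theorem L424681 : N12788 = N8806 := eqes L424680 (flp_j L75281)
theorem L424682 : N12788 = N8806 := eqc rfl L424681 rfl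
theorem L424689 : sm ge N8806 = N8806 := trfs L424682 (flp_e L108945) rfl
theorem L425831 : sm gi N6090 = N12751 := trfs L424328 (flp_i L157594) rfl
theorem L425832 : N12751 = N8780 := eqes L425831 (flp_i L75057)
theorem L425833 : N12751 = N8780 := eqc rfl L425832 rfl
theorem L425840 : sm gg N8780 = N8781 := trfs L425833 L108640 rfl
theorem L425841 : N8781 = N6054 := eqes L425840 (flp_g L75050)
theorem L425842 : N8781 = N6054 := eqc rfl L425841 rfl
theorem L425844 : sm gh N8780 = N8780 := trfs L425833 (flp_h L108635) rfl
theorem L425852 : sm gh N6054 = N6054 := trfs L425842 (flp_h L75059) rfl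
theorem L425873 : sm gh N12737 = N12737 := trfs L424198 (flp_h L157397) rfl
theorem L425901 : sm gh N8772 = N8772 := trfs L424183 (flp_h L108515) rfl
theorem L426762 : sm gd N29649 = N25843 := trfs L420675 L318879 rfl
theorem L426763 : N25843 = N43214 := eqes L426762 L365464
theorem L426764 : N43214 = N25843 := (eqc rfl L426763 rfl).symm
theorem L426769 : sm gb N25843 = N29663 := trfs L426764 L365466 rfl
theorem L426770 : N29663 = N33612 := eqes L426769 (flp_b L285127)
theorem L426771 : N33612 = N29663 := (eqc rfl L426770 rfl).symm
theorem L426787 : sm gi N29663 = N23055 := trfs L426771 (flp_i L285123) rfl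
theorem L426788 : N23055 = N43240 := eqes L426787 L365689
theorem L426789 : N43240 = N23055 := (eqc rfl L426788 rfl).symm
theorem L426799 : sm gg N23055 = N29666 := trfs L426789 L365698 rfl
theorem L426800 : N29666 = N15833 := eqes L426799 L196100
theorem L426801 : N29666 = N15833 := eqc rfl L426800 rfl
theorem L426817 : sm gh N15833 = N43243 := trfs L426801 L365719 rfl
theorem L426818 : N43243 = N10886 := eqes L426817 (flp_h L135029)
theorem L426819 : N43243 = N10886 := eqc rfl L426818 rfl
theorem L426825 : sm gf N10886 = N29669 := trfs L426819 L365725 rfl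
theorem L426826 : N29669 = N15803 := eqes L426825 (flp_f L134774)
theorem L426827 : N29669 = N15803 := eqc rfl L426826 rfl
theorem L426838 : sm ge N15803 = N43246 := trfs L426827 (flp_e L365755) rfl
theorem L426839 : N43246 = N10868 := eqes L426838 (flp_e L134765)
theorem L426840 : N43246 = N10868 := eqc rfl L426839 rfl
theorem L426851 : sm gh N10868 = N29668 := trfs L426840 (flp_h L365749) rfl
theorem L426852 : N29668 = N15805 := eqes L426851 L134785
theorem L426853 : N29668 = N15805 := eqc rfl L426852 rfl
theorem L426868 : sm gi N15805 = N20380 := trfs L426853 (flp_i L251530) rfl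
theorem L426869 : N20380 = N23014 := eqes L426868 L195734
theorem L426870 : N23014 = N20380 := (eqc rfl L426869 rfl).symm
theorem L426877 : sm ge N20380 = N33546 := trfs L426870 (flp_e L284553) rfl
theorem L426878 : N33546 = N14016 := eqes L426877 (flp_e L173198)
theorem L426879 : N33546 = N14016 := eqc rfl L426878 rfl
theorem L426889 : sm gb N14016 = N25777 := trfs L426879 L284551 rfl
theorem L426890 : N25777 = N20371 := eqes L426889 (flp_b L173118)
theorem L426891 : N25777 = N20371 := eqc rfl L426890 rfl
theorem L426911 : sm gi N20371 = N17701 := trfs L426891 (flp_i L218755) rfl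
theorem L426912 : N17701 = N29654 := eqes L426911 L251403
theorem L426913 : N29654 = N17701 := (eqc rfl L426912 rfl).symm
theorem L426919 : sm gc N17701 = N43220 := trfs L426913 (flp_c L365518) rfl
theorem L426920 : N43220 = N25766 := eqes L426919 (flp_c L218664)
theorem L426921 : N43220 = N25766 := eqc rfl L426920 rfl
theorem L426931 : sm gb N25766 = N29741 := trfs L426921 L365516 rfl
theorem L426932 : N29741 = N37554 := eqes L426931 (flp_b L317823)
theorem L426933 : N37554 = N29741 := (eqc rfl L426932 rfl).symm
theorem L426950 : sm gh N29741 = N25759 := trfs L426933 (flp_h L317820) rfl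
theorem L426951 : N25759 = N43355 := eqes L426950 L366648
theorem L426952 : N43355 = N25759 := (eqc rfl L426951 rfl).symm
theorem L426954 : sm gc N25759 = N29744 := trfs L426952 L366651 rfl
theorem L426955 : N29744 = N33528 := eqes L426954 (flp_c L284379)
theorem L426956 : N33528 = N29744 := (eqc rfl L426955 rfl).symm
theorem L426959 : sm gh N25759 = N29741 := trfs L426952 (flp_h L366648) rfl
theorem L426969 : sm gf N29744 = N23039 := trfs L426956 L284383 rfl
theorem L426970 : N23039 = N43351 := eqes L426969 (flp_f L366618)
theorem L426971 : N43351 = N23039 := (eqc rfl L426970 rfl).symm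
theorem L426976 : sm gd N23039 = N29870 := trfs L426971 L366621 rfl
theorem L426977 : N29870 = N33583 := eqes L426976 L284873
theorem L426978 : N33583 = N29870 := (eqc rfl L426977 rfl).symm
theorem L426982 : sm gh N23039 = N29739 := trfs L426971 (flp_h L366613) rfl
theorem L426983 : N29739 = N33585 := eqes L426982 L284890
theorem L426984 : N33585 = N29739 := (eqc rfl L426983 rfl).symm
theorem L426994 : sm gh N29739 = N23039 := trfs L426984 (flp_h L284890) rfl
theorem L427346 : sm gd N29870 = N23039 := trfs L426978 (flp_d L284873) rfl
theorem L427902 : sm gg N20410 = N33732 := trfs L419864 (flp_g L286172) rfl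
theorem L427903 : N33732 = N29708 := eqes L427902 (flp_g L251862)
theorem L427904 : N33732 = N29708 := eqc rfl L427903 rfl
theorem L427907 : sm gc N29708 = N23135 := trfs L427904 (flp_c L286170) rfl
theorem L427908 : N23135 = N43303 := eqes L427907 (flp_c L366195)
theorem L427909 : N43303 = N23135 := (eqc rfl L427908 rfl).symm
theorem L427911 : sm gc N23135 = N29708 := trfs L427909 L366195 rfl
theorem L427982 : sm gh N20373 = N15947 := trfs L419759 (flp_h L197586) rfl
theorem L427998 : sm gc N23691 = N29384 := trfs L419686 L361986 rfl
theorem L428000 : sm ge N23691 = N29451 := trfs L419686 L361980 rfl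
theorem L428020 : sm gc N16260 = N20420 := trfs L419667 L251870 rfl
theorem L428036 : sm gc N15887 = N20410 := trfs L419638 L251874 rfl
theorem L428045 : sm gb N20488 = N16259 := trfs L419629 L196823 rfl
theorem L428094 : sm gf N21690 = N16259 := trfs L419486 (flp_f L201488) rfl
theorem L428118 : sm gi N31573 = N23697 := trfs L419472 (flp_i L293008) rfl
theorem L428164 : sm gd N16266 = N20487 := trfs L419398 L252644 rfl
theorem L428193 : sm gb N23695 = N29794 := trfs L419384 (flp_b L367335) rfl
theorem L428196 : sm gd N23695 = N29822 := trfs L419384 L367337 rfl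
theorem L428233 : sm gh N30678 = N21666 := trfs L419322 (flp_h L267668) rfl
theorem L428267 : sm ge N15894 = N21666 := trfs L419265 L267665 rfl
theorem L428273 : sm gi N15894 = N21665 := trfs L419265 (flp_i L267660) rfl
theorem L428330 : sm gc N31522 = N23117 := trfs L419192 L285070 rfl
theorem L428336 : sm gi N31522 = N23051 := trfs L419192 (flp_i L285066) rfl
theorem L428364 : sm ge N15893 = N20466 := trfs L419125 (flp_e L252650) rfl
theorem L428461 : sm gi N29760 = N23048 := trfs L419001 (flp_i L285032) rfl
theorem L428692 : sm gh N15801 = N20446 := trfs L418813 (flp_h L252383) rfl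
theorem L428883 : sm gd N10897 = N14029 := trfs L418558 L173366 rfl
theorem L428971 : sm ga N11303 = N11303 := trfs L418306 (flp_a L140141) rfl
theorem L429010 : sm ga N5378 = N6086 := trfs L418227 (flp_a L75405) rfl
theorem L429011 : N6086 = N4207 := eqes L429010 L46375
theorem L429012 : N6086 = N4207 := eqc rfl L429011 rfl
theorem L429020 : sm gb N4207 = N4207 := trfs L429012 (flp_b L52211) rfl
theorem L429047 : sm ga N11309 = N11309 := trfs L418218 (flp_a L140201) rfl
theorem L429052 : sm gb N6085 = N6085 := trfs L418215 (flp_b L75398) rfl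
theorem L429665 : sm gh N4191 = N4191 := trfs L417331 (flp_h L52057) rfl
theorem L429674 : sm gd N6056 = N6056 := trfs L417311 (flp_d L75098) rfl
theorem L429680 : sm gd N8801 = N8801 := trfs L417303 (flp_d L108893) rfl
theorem L429687 : sm gd N8784 = N8784 := trfs L417294 (flp_d L108693) rfl
theorem L429782 : sm gh N6066 = N6066 := trfs L417129 (flp_h L75204) rfl
theorem L430286 : sm gc N6064 = N6064 := trfs L416287 (flp_c L75179) rfl
theorem L430692 : sm gd N10879 = N13998 := trfs L415713 L172954 rfl
theorem L432274 : sm ge N904 = N8069 := trfs L412162 (flp_e L100103) rfl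
theorem L432275 : N8069 = N1298 := eqes L432274 (flp_e L11432)
theorem L432276 : N8069 = N1298 := eqc rfl L432275 rfl
theorem L432291 : sm gh N1298 = N5577 := trfs L432276 L69323 rfl
theorem L432292 : N5577 = N1865 := eqes L432291 L16338
theorem L432293 : N5577 = N1865 := eqc rfl L432292 rfl
theorem L432309 : sm gd N1865 = N3865 := trfs L432293 L48129 rfl
theorem L432310 : N3865 = N2681 := eqes L432309 L23373
theorem L432311 : N3865 = N2681 := eqc rfl L432310 rfl
theorem L432314 : sm gg N1865 = N8025 := trfs L432293 (flp_g L68937) rfl
theorem L432315 : N8025 = N2667 := eqes L432314 (flp_g L23251)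
theorem L432316 : N8025 = N2667 := eqc rfl L432315 rfl
theorem L432322 : sm gd N2667 = N5551 := trfs L432316 L68941 rfl
theorem L432323 : N5551 = N3844 := eqes L432322 L33333
theorem L432324 : N5551 = N3844 := eqc rfl L432323 rfl
theorem L432332 : sm gc N3844 = N3844 := trfs L432324 (flp_c L47892) rfl
theorem L432333 : sm ge N3844 = N8033 := trfs L432324 L69000 rfl
theorem L432334 : N8033 = N5552 := eqes L432333 L47899
theorem L432335 : N8033 = N5552 := eqc rfl L432334 rfl
theorem L432336 : sm gf N3844 = N8030 := trfs L432324 (flp_f L68978) rfl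
theorem L432337 : N8030 = N5550 := eqes L432336 (flp_f L47886)
theorem L432338 : N8030 = N5550 := eqc rfl L432337 rfl
theorem L432345 : sm gc N5550 = N5550 := trfs L432338 (flp_c L68976) rfl
theorem L432354 : sm gc N5552 = N5552 := trfs L432335 L69002 rfl
theorem L432356 : sm gf N5552 = N11646 := trfs L432335 L99629 rfl
theorem L432357 : N11646 = N8034 := eqes L432356 L69009
theorem L432358 : N11646 = N8034 := eqc rfl L432357 rfl
theorem L432365 : sm gc N8034 = N8034 := trfs L432358 L99631 rfl
theorem L432372 : sm ga N2681 = N5053 := trfs L432311 (flp_a L43507) rfl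
theorem L432373 : N5053 = N3498 := eqes L432372 (flp_a L30272)
theorem L432374 : N5053 = N3498 := eqc rfl L432373 rfl
theorem L432378 : sm gc N2681 = N2681 := trfs L432311 (flp_c L33516) rfl
theorem L432381 : sm gj N2681 = N2702 := trfs L432311 L33519 rfl
theorem L432382 : N2702 = N1879 := eqes L432381 L23377
theorem L432383 : N2702 = N1879 := eqc rfl L432382 rfl
theorem L432388 : sm gc N1879 = N1879 := trfs L432383 (flp_c L23545) rfl
theorem L432417 : sm gc N3498 = N3498 := trfs L432374 (flp_c L43505) rfl
theorem L433743 : sm gh N5543 = N5543 := trfs L408428 (flp_h L68905) rfl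
theorem L434250 : sm gh N1876 = N1876 := trfs L407855 (flp_h L23520) rfl
theorem L434299 : sm gh N3495 = N3495 := trfs L407793 (flp_h L43465) rfl
theorem L434539 : sm gc N11642 = N11642 := trfs L407386 L144150 rfl
theorem L434549 : sm gc N8031 = N8031 := trfs L407364 L99588 rfl
theorem L434575 : sm gc N10567 = N10567 := trfs L407319 L130692 rfl
theorem L434596 : sm gc N7289 = N7289 := trfs L407300 (flp_c L90234) rfl
theorem L434613 : sm gc N5037 = N5037 := trfs L407283 (flp_c L62481) rfl
theorem L434641 : sm gc N7291 = N7291 := trfs L407266 L90264 rfl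
theorem L434661 : sm gc N10570 = N10570 := trfs L407246 L130740 rfl
theorem L434737 : sm ga N9815 = N14245 := trfs L407069 L176087 rfl
theorem L434738 : N14245 = N9815 := eqes L434737 L83919
theorem L434739 : N14245 = N9815 := eqc rfl L434738 rfl
theorem L434747 : sm gb N9815 = N9815 := trfs L434739 L121416 rfl
theorem L435811 : sm gc N10667 = N10667 := trfs L405304 L132098 rfl
theorem L435855 : sm gb N9787 = N9787 := trfs L405244 L121055 rfl
theorem L435861 : sm gc N5054 = N5054 := trfs L405241 L62730 rfl
theorem L435875 : sm gb N6771 = N6771 := trfs L405225 L83902 rfl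
theorem L435882 : sm gc N3515 = N3515 := trfs L405222 L43743 rfl
theorem L435893 : sm gb N4682 = N4682 := trfs L405208 (flp_b L58093) rfl
theorem L435899 : sm gc N2437 = N2437 := trfs L405205 (flp_c L30419) rfl
theorem L436141 : sm gb N9814 = N9814 := trfs L404847 L121409 rfl
theorem L436408 : sm gd N14266 = N14266 := trfs L404355 (flp_d L176401) rfl
theorem L436420 : sm gd N20677 = N20677 := trfs L404338 (flp_d L255279) rfl
theorem L436429 : sm gb N15431 = N15437 := trfs L404300 L190824 rfl
theorem L436430 : N15437 = N10623 := eqes L436429 L131470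
theorem L436431 : N15437 = N10623 := eqc rfl L436430 rfl
theorem L436442 : sm ge N10623 = N10625 := trfs L436431 L131530 rfl
theorem L436443 : N10625 = N7325 := eqes L436442 (flp_e L90779)
theorem L436444 : N10625 = N7325 := eqc rfl L436443 rfl
theorem L436641 : sm gh N7325 = N7325 := trfs L436444 (flp_h L90800) rfl
theorem L437144 : sm gc N7355 = N7355 := trfs L402674 L91166 rfl
theorem L437151 : sm gc N7316 = N7316 := trfs L402650 L90639 rfl
theorem L437158 : sm gc N10609 = N10609 := trfs L402637 L131294 rfl
theorem L437163 : sm gc N8156 = N8156 := trfs L402629 L101151 rfl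
theorem L437198 : sm gc N11647 = N11647 := trfs L402582 L144210 rfl
theorem L437601 : sm gc N2703 = N2703 := trfs L402145 L33780 rfl
theorem L437615 : sm gc N3866 = N3866 := trfs L402126 L48174 rfl
theorem L437702 : sm gc N5079 = N5079 := trfs L402005 L63089 rfl
theorem L438348 : sm gd N5090 = N10693 := trfs L401090 L132221 rfl
theorem L438349 : N10693 = N7370 := eqes L438348 (flp_d L63230)
theorem L438350 : N10693 = N7370 := eqc rfl L438349 rfl
theorem L438361 : sm gh N7370 = N7370 := trfs L438350 (flp_h L91393) rfl
theorem L438616 : sm gh N22987 = N22987 := trfs L400457 (flp_h L284202) rfl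
theorem L438621 : sm gh N10865 = N10865 := trfs L400454 (flp_h L134731) rfl
theorem L438679 : sm gi N10716 = N10716 := trfs L400427 (flp_i L132721) rfl
theorem L438742 : sm gh N10685 = N10685 := trfs L400366 (flp_h L132354) rfl
theorem L438751 : sm gh N5088 = N5088 := trfs L400359 (flp_h L63235) rfl
theorem L438760 : sm gh N7365 = N7365 := trfs L400345 (flp_h L91316) rfl
theorem L438765 : sm gh N3521 = N3521 := trfs L400342 (flp_h L43836) rfl
theorem L438776 : sm gh N10577 = N10577 := trfs L400332 (flp_h L130864) rfl
theorem L438781 : sm gh N5060 = N5060 := trfs L400323 (flp_h L62836) rfl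
theorem L438819 : sm gi N5096 = N5096 := trfs L400296 (flp_i L63328) rfl
theorem L438828 : sm gi N5067 = N5067 := trfs L400287 (flp_i L62941) rfl
theorem L438879 : sm gh N10620 = N10620 := trfs L400232 (flp_h L131487) rfl
theorem L438953 : sm gi N7382 = N7382 := trfs L400155 (flp_i L91538) rfl
theorem L438985 : sm gh N10686 = N10686 := trfs L400109 (flp_h L132370) rfl
theorem L439003 : sm gh N10683 = N10683 := trfs L400080 (flp_h L132324) rfl
theorem L439016 : sm gi N10705 = N10705 := trfs L400053 (flp_i L132591) rfl
theorem L439040 : sm gi N7379 = N7379 := trfs L400036 (flp_i L91501) rfl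
theorem L439102 : sm gi N10633 = N10633 := trfs L400015 (flp_i L131668) rfl
theorem L439121 : sm gh N10619 = N10619 := trfs L399983 (flp_h L131460) rfl
theorem L439727 : sm gi N5657 = N5657 := trfs L399134 (flp_i L70312) rfl
theorem L439848 : sm gh N5593 = N5593 := trfs L398942 (flp_h L69571) rfl
theorem L440818 : sm gi N10700 = N10700 := trfs L397267 (flp_i L132541) rfl
theorem L440823 : sm gi N5660 = N5660 := trfs L397264 (flp_i L70349) rfl
theorem L440832 : sm gi N7376 = N7376 := trfs L397250 (flp_i L91458) rfl
theorem L440837 : sm gi N3915 = N3915 := trfs L397247 (flp_i L48785) rfl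
theorem L440844 : sm gi N10630 = N10630 := trfs L397233 (flp_i L131619) rfl
theorem L440848 : sm gi N5601 = N5601 := trfs L397230 (flp_i L69668) rfl
theorem L441027 : sm gi N11762 = N11762 := trfs L396882 (flp_i L145739) rfl
theorem L441528 : sm gi N11907 = N11907 := trfs L396636 (flp_i L147381) rfl
theorem L441571 : sm gh N25715 = N25715 := trfs L396534 (flp_h L317289) rfl
theorem L441579 : sm gh N25695 = N25695 := trfs L396516 (flp_h L317096) rfl
theorem L441667 : sm gh N5648 = N5648 := trfs L396390 (flp_h L70215) rfl
theorem L441674 : sm gh N3907 = N3907 := trfs L396373 (flp_h L48701) rfl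
theorem L441681 : sm gh N7369 = N7369 := trfs L396365 (flp_h L91375) rfl
theorem L441697 : sm gi N3919 = N3919 := trfs L396337 (flp_i L48827) rfl
theorem L441892 : sm gc N7637 = N7637 := trfs L395982 (flp_c L94929) rfl
theorem L442736 : sm gi N23122 = N29659 := trfs L394516 (flp_i L365624) rfl
theorem L442838 : sm gh N23271 = N29353 := trfs L394399 (flp_h L361734) rfl
theorem L442850 : sm gh N20389 = N15979 := trfs L394379 (flp_h L197946) rfl
theorem L442885 : sm gd N29613 = N23279 := trfs L394343 L286521 rfl
theorem L442988 : sm gh N23168 = N29614 := trfs L394288 (flp_h L365031) rfl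
theorem L442996 : sm gh N26009 = N29605 := trfs L394285 (flp_h L364909) rfl
theorem L443014 : sm ga N25887 = N29633 := trfs L394262 L364958 rfl
theorem L443041 : sm gi N15856 = N20348 := trfs L394247 (flp_i L251107) rfl
theorem L443053 : sm gi N17779 = N20342 := trfs L394241 (flp_i L251015) rfl
theorem L443070 : sm ge N10941 = N14003 := trfs L394230 L172995 rfl
theorem L443114 : sm gi N14000 = N10941 := trfs L394207 (flp_i L135742) rfl
theorem L443154 : sm gf N34562 = N43726 := ded_40_2 (flp_e L369765) L254323 L269369 L391600 (flp_e L293048)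
theorem L443156 : N35315 = N32366 := coi_28_2 (flp_e L274154) L274146 L391758 L299283
theorem L443157 : N35315 = N32366 := eqc rfl L443156 rfl
theorem L443158 : sm gc N32366 = N24249 := trfs L443157 (flp_c L299283) rfl
theorem L443164 : N34644 = N30650 := coi_56_6 L259982 L179101 (flp_f L135572) (flp_e L93480) (flp_d L64617) L44749 L31103 L21666 (flp_h L16892) L16883 L24211 L24218 L24213 (flp_b L24780) (flp_a L35597) L51340 L51346 L51344 L35620 (flp_c L51308) (flp_b L74098) (flp_a L104358) (flp_h L104356) (flp_f L72129) L49972 L49971 (flp_c L64521) (flp_b L64513) L44702 L44745 (flp_f L64614) (flp_e L93441) L135515 L428036 L173445 L119649 L173541 L173546 L173544 L120151 (flp_c L120772) (flp_b L175146) (flp_a L254312) (flp_h L254310) L175141 L127683 L89881 L62353 L62352 L62350 L62357 L62363 L62362 L90092 L130470 L130475 (flp_a L189280) (flp_h L274484) L274482 L391763 (flp_d L206028) (flp_c L202324) (flp_b L293731)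
theorem L443165 : N34644 = N30650 := eqc rfl L443164 rfl
theorem L443176 : sm gi N30650 = N45703 := trfs L443165 (flp_i L386412) rfl
theorem L443177 : N45703 = N44703 := eqes L443176 L378241
theorem L443178 : N45703 = N44703 := eqc rfl L443177 rfl
theorem L443181 : sm gf N44703 = N31323 := trfs L443178 L386409 rfl
theorem L443182 : N31323 = N30651 := eqes L443181 L378245
theorem L443183 : N31323 = N30651 := eqc rfl L443182 rfl
theorem L443193 : sm gc N30651 = N45699 := trfs L443183 (flp_c L386377) rfl
theorem L443194 : N45699 = N44605 := eqes L443193 (flp_c L377359)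
theorem L443195 : N45699 = N44605 := eqc rfl L443194 rfl
theorem L443206 : sm gh N30651 = N21491 := trfs L443183 (flp_h L265508) rfl
theorem L443207 : N21491 = N44704 := eqes L443206 L378248
theorem L443208 : N44704 = N21491 := (eqc rfl L443207 rfl).symm
theorem L443219 : sm gi N21491 = N33705 := trfs L443208 L378255 rfl
theorem L443220 : N33705 = N14762 := eqes L443219 (flp_i L182628)
theorem L443221 : N33705 = N14762 := eqc rfl L443220 rfl
theorem L443229 : sm gh N14762 = N23117 := trfs L443221 (flp_h L285923) rfl
theorem L443230 : N23117 = N11210 := eqes L443229 L125768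
theorem L443231 : N23117 = N11210 := eqc rfl L443230 rfl
theorem L443238 : sm gc N11210 = N31522 := trfs L443231 (flp_c L428330) rfl
theorem L443239 : N31522 = N16307 := eqes L443238 (flp_c L139109)
theorem L443240 : N31522 = N16307 := eqc rfl L443239 rfl
theorem L443252 : sm gi N11210 = N15873 := trfs L443231 (flp_i L196628) rfl
theorem L443253 : N15873 = N16310 := eqes L443252 L139127
theorem L443254 : N16310 = N15873 := (eqc rfl L443253 rfl).symm
theorem L443269 : sm gg N15873 = N23515 := trfs L443254 (flp_g L200075) rfl
theorem L443270 : N23515 = N22879 := eqes L443269 (flp_g L194589)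
theorem L443271 : N23515 = N22879 := eqc rfl L443270 rfl
theorem L443295 : sm gh N22879 = N34290 := trfs L443271 L290895 rfl
theorem L443296 : N34290 = N30449 := eqes L443295 (flp_h L258283)
theorem L443297 : N34290 = N30449 := eqc rfl L443296 rfl
theorem L443303 : sm ge N30449 = N23516 := trfs L443297 L290899 rfl
theorem L443304 : N23516 = N20908 := eqes L443303 (flp_e L258277)
theorem L443305 : N23516 = N20908 := eqc rfl L443304 rfl
theorem L443330 : sm gi N20908 = N31066 := trfs L443305 (flp_i L263471) rfl
theorem L443331 : N31066 = N30450 := eqes L443330 L258285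
theorem L443332 : N31066 = N30450 := eqc rfl L443331 rfl
theorem L443350 : sm gj N30450 = N45064 := trfs L443332 (flp_j L381292) rfl
theorem L443351 : N45064 = N44201 := eqes L443350 (flp_j L373914)
theorem L443352 : N45064 = N44201 := eqc rfl L443351 rfl
theorem L443353 : sm gh N30450 = N21321 := trfs L443332 (flp_h L263465) rfl
theorem L443354 : N21321 = N44403 := eqes L443353 L375714
theorem L443355 : N44403 = N21321 := (eqc rfl L443354 rfl).symm
theorem L443356 : sm ga N21321 = N30472 := trfs L443355 L375716 rfl
theorem L443357 : N30472 = N30501 := eqes L443356 (flp_a L258715)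
theorem L443358 : N30501 = N30472 := (eqc rfl L443357 rfl).symm
theorem L443359 : sm gd N21321 = N30516 := trfs L443355 L375720 rfl
theorem L443360 : N30516 = N14648 := eqes L443359 L181269
theorem L443361 : N30516 = N14648 := eqc rfl L443360 rfl
theorem L443365 : sm gi N21321 = N33349 := trfs L443355 L375722 rfl
theorem L443366 : N33349 = N14647 := eqes L443365 (flp_i L181265)
theorem L443367 : N33349 = N14647 := eqc rfl L443366 rfl
theorem L443371 : sm gd N14647 = N22946 := trfs L443367 L282905 rfl
theorem L443372 : N22946 = N10081 := eqes L443371 (flp_d L124842)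
theorem L443373 : N22946 = N10081 := eqc rfl L443372 rfl
theorem L443375 : sm gh N14647 = N22880 := trfs L443367 (flp_h L282899) rfl
theorem L443376 : N22880 = N11096 := eqes L443375 L124848
theorem L443377 : N22880 = N11096 := eqc rfl L443376 rfl
theorem L443395 : sm gj N11096 = N33111 := trfs L443377 (flp_j L280764) rfl
theorem L443396 : N33111 = N16028 := eqes L443395 (flp_j L136760)
theorem L443397 : N33111 = N16028 := eqc rfl L443396 rfl
theorem L443407 : sm gi N16028 = N22720 := trfs L443397 (flp_i L280757) rfl
theorem L443408 : N22720 = N23345 := eqes L443407 L198628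
theorem L443409 : N23345 = N22720 := (eqc rfl L443408 rfl).symm
theorem L443423 : sm gf N22720 = N34028 := trfs L443409 (flp_f L288725) rfl
theorem L443424 : N34028 = N33108 := eqes L443423 (flp_f L280733)
theorem L443425 : N34028 = N33108 := eqc rfl L443424 rfl
theorem L443436 : sm gj N33108 = N23511 := trfs L443425 L288727 rfl
theorem L443437 : N23511 = N22877 := eqes L443436 L280735
theorem L443438 : N23511 = N22877 := eqc rfl L443437 rfl
theorem L443444 : sm gb N22877 = N16156 := trfs L443438 L200039 rfl
theorem L443445 : N16156 = N33330 := eqes L443444 (flp_b L282740)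
theorem L443446 : N33330 = N16156 := (eqc rfl L443445 rfl).symm
theorem L443453 : sm ge N22877 = N34282 := trfs L443438 (flp_e L290840) rfl
theorem L443454 : N34282 = N33345 := eqes L443453 L282873
theorem L443455 : N34282 = N33345 := eqc rfl L443454 rfl
theorem L443457 : sm gg N22877 = N34278 := trfs L443438 (flp_g L290812) rfl
theorem L443458 : N34278 = N33343 := eqes L443457 (flp_g L282859)
theorem L443459 : N34278 = N33343 := eqc rfl L443458 rfl
theorem L443468 : sm gf N33343 = N23749 := trfs L443459 L290810 rfl
theorem L443469 : N23749 = N23112 := eqes L443468 L282857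
theorem L443470 : N23749 = N23112 := eqc rfl L443469 rfl
theorem L443497 : sm gi N23112 = N16302 := trfs L443470 (flp_i L201966) rfl
theorem L443498 : N16302 = N33699 := eqes L443497 L285879
theorem L443499 : N33699 = N16302 := (eqc rfl L443498 rfl).symm
theorem L443506 : sm gg N16302 = N23115 := trfs L443499 L285885 rfl
theorem L443507 : N23115 = N11207 := eqes L443506 L139072
theorem L443508 : N23115 = N11207 := eqc rfl L443507 rfl
theorem L443511 : sm ga N11207 = N15893 := trfs L443508 L196615 rfl
theorem L443512 : N15893 = N15921 := eqes L443511 (flp_a L135812)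
theorem L443513 : N15921 = N15893 := (eqc rfl L443512 rfl).symm
theorem L443520 : sm gd N11207 = N15872 := trfs L443508 L196617 rfl
theorem L443521 : N15872 = N7715 := eqes L443520 (flp_d L95907)
theorem L443522 : N15872 = N7715 := eqc rfl L443521 rfl
theorem L443528 : sm gh N11207 = N33702 := trfs L443508 L285901 rfl
theorem L443529 : N33702 = N14759 := eqes L443528 (flp_h L125745)
theorem L443530 : N33702 = N14759 := eqc rfl L443529 rfl
theorem L443533 : sm ga N14759 = N23146 := trfs L443530 L285903 rfl
theorem L443534 : N23146 = N21090 := eqes L443533 (flp_a L179317)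
theorem L443535 : N23146 = N21090 := eqc rfl L443534 rfl
theorem L443541 : sm gi N14759 = N44701 := trfs L443530 (flp_i L378233) rfl
theorem L443542 : N44701 = N21487 := eqes L443541 L182595
theorem L443543 : N44701 = N21487 := eqc rfl L443542 rfl
theorem L443544 : sm ga N21487 = N30680 := trfs L443543 L378226 rfl
theorem L443545 : N30680 = N30722 := eqes L443544 (flp_a L260585)
theorem L443546 : N30722 = N30680 := (eqc rfl L443545 rfl).symm
theorem L443547 : sm gd N21487 = N30747 := trfs L443543 L378231 rfl
theorem L443548 : N30747 = N14760 := eqes L443547 L182599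
theorem L443549 : N30747 = N14760 := eqc rfl L443548 rfl
theorem L443552 : sm gh N21487 = N30649 := trfs L443543 (flp_h L378224) rfl
theorem L443553 : N30649 = N31316 := eqes L443552 L265453
theorem L443554 : N31316 = N30649 := (eqc rfl L443553 rfl).symm
theorem L443577 : sm gi N30649 = N23754 := trfs L443554 L265460 rfl
theorem L443578 : N23754 = N21040 := eqes L443577 (flp_i L259971)

end Cfsg.Agent.Helper28.FicA
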