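import Cfsg.Agent.Helper28.FicB26

/-! # The Fi₂₃ presentation, cosets of the subgroup generated by a, …, i: the coset enumeration, part 27 (helper28; generated) -/

set_option autoImplicit false

noncomputable section

namespace Cfsg.Agent.Helper28.FicA

open Cfsg.Agent.Helper28.CosetTable

theorem L443579 : N23754 = N21040 := eqc rfl L443578 rfl
theorem L443592 : sm ge N21040 = N34634 := trfs L443579 (flp_e L293656) rfl
theorem L443593 : N34634 = N30648 := eqes L443592 L259964
theorem L443594 : N34634 = N30648 := eqc rfl L443593 rfl
theorem L443603 : sm gh N30648 = N23753 := trfs L443594 (flp_h L293652) rfl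
theorem L443604 : N23753 = N23114 := eqes L443603 L259969
theorem L443605 : N23753 = N23114 := eqc rfl L443604 rfl
theorem L443620 : sm gf N23114 = N34633 := trfs L443605 (flp_f L293649) rfl
theorem L443621 : N34633 = N31521 := eqes L443620 L419622
theorem L443622 : N34633 = N31521 := eqc rfl L443621 rfl
theorem L443632 : sm gi N31521 = N23752 := trfs L443622 (flp_i L293643) rfl
theorem L443633 : N23752 = N21624 := eqes L443632 (flp_i L267166)
theorem L443634 : N23752 = N21624 := eqc rfl L443633 rfl
theorem L443635 : sm ga N21624 = N33807 := trfs L443634 (flp_a L286810) rfl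
theorem L443636 : N33807 = N14877 := eqes L443635 L183743
theorem L443637 : N33807 = N14877 := eqc rfl L443636 rfl
theorem L443655 : sm gh N21624 = N31314 := trfs L443634 (flp_h L265442) rfl
theorem L443656 : N31314 = N31507 := eqes L443655 (flp_h L267053)
theorem L443657 : N31507 = N31314 := (eqc rfl L443656 rfl).symm
theorem L443673 : sm gf N31314 = N43365 := trfs L443657 (flp_f L366743) rfl
theorem L443674 : N43365 = N21486 := eqes L443673 (flp_f L265437)
theorem L443675 : N43365 = N21486 := eqc rfl L443674 rfl
theorem L443696 : sm ga N21486 = N29785 := trfs L443675 L366741 rfl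
theorem L443697 : N29785 = N30721 := eqes L443696 (flp_a L260576)
theorem L443698 : N30721 = N29785 := (eqc rfl L443697 rfl).symm
theorem L443699 : sm gc N21486 = N29748 := trfs L443675 (flp_c L366739) rfl
theorem L443700 : N29748 = N31312 := eqes L443699 (flp_c L265422)
theorem L443701 : N31312 = N29748 := (eqc rfl L443700 rfl).symm
theorem L443723 : sm gh N29748 = N23750 := trfs L443701 L265425 rfl
theorem L443724 : N23750 = N20438 := eqes L443723 L252216
theorem L443725 : N23750 = N20438 := eqc rfl L443724 rfl
theorem L443736 : sm ga N20438 = N33805 := trfs L443725 (flp_a L286790) rfl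
theorem L443737 : N33805 = N14073 := eqes L443736 L173698
theorem L443738 : N33805 = N14073 := eqc rfl L443737 rfl
theorem L443750 : sm gg N20438 = N34623 := trfs L443725 (flp_g L293573) rfl
theorem L443751 : N34623 = N29753 := eqes L443750 (flp_g L252265)
theorem L443752 : N34623 = N29753 := eqc rfl L443751 rfl
theorem L443761 : sm ge N29753 = N23747 := trfs L443752 (flp_e L293567) rfl
theorem L443762 : N23747 = N43375 := eqes L443761 L366837
theorem L443763 : N43375 = N23747 := (eqc rfl L443762 rfl).symm
theorem L443768 : sm gd N23747 = N29760 := trfs L443763 L366843 rfl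
theorem L443769 : N29760 = N18437 := eqes L443768 L201958
theorem L443770 : N29760 = N18437 := eqc rfl L443769 rfl
theorem L443796 : sm gi N18437 = N23048 := trfs L443770 L428461 rfl
theorem L443797 : N23048 = N26855 := eqes L443796 L227534
theorem L443798 : N26855 = N23048 := (eqc rfl L443797 rfl).symm
theorem L443815 : sm gg N23048 = N18441 := trfs L443798 L227540 rfl
theorem L443816 : N18441 = N15829 := eqes L443815 L196036
theorem L443817 : N18441 = N15829 := eqc rfl L443816 rfl
theorem L443821 : sm gh N23048 = N39168 := trfs L443798 L330972 rfl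
theorem L443822 : N39168 = N15828 := eqes L443821 (flp_h L196030)
theorem L443823 : N39168 = N15828 := eqc rfl L443822 rfl
theorem L443832 : sm gg N15828 = N26862 := trfs L443823 L330978 rfl
theorem L443833 : N26862 = N10884 := eqes L443832 (flp_g L134988)
theorem L443834 : N26862 = N10884 := eqc rfl L443833 rfl
theorem L443851 : sm gf N10884 = N18448 := trfs L443834 L227592 rfl
theorem L443852 : N18448 = N7499 := eqes L443851 (flp_f L93099)
theorem L443853 : N18448 = N7499 := eqc rfl L443852 rfl
theorem L443869 : sm ge N7499 = N26871 := trfs L443853 (flp_e L227665) rfl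
theorem L443870 : N26871 = N10867 := eqes L443869 (flp_e L92953)
theorem L443871 : N26871 = N10867 := eqc rfl L443870 rfl
theorem L443876 : sm gh N7499 = N12672 := trfs L443853 (flp_h L156725) rfl
theorem L443877 : N12672 = N10885 := eqes L443876 L93107
theorem L443878 : N12672 = N10885 := eqc rfl L443877 rfl
theorem L443900 : sm gi N10885 = N8721 := trfs L443878 (flp_i L107985) rfl
theorem L443901 : N8721 = N15831 := eqes L443900 L135011
theorem L443902 : N15831 = N8721 := (eqc rfl L443901 rfl).symm
theorem L443919 : sm gg N8721 = N22837 := trfs L443902 (flp_g L194219) rfl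
theorem L443920 : N22837 = N12506 := eqes L443919 (flp_g L106676)
theorem L443921 : N22837 = N12506 := eqc rfl L443920 rfl
theorem L443942 : sm gj N12506 = N33068 := trfs L443921 (flp_j L280346) rfl
theorem L443943 : N33068 = N18033 := eqes L443942 (flp_j L153419)
theorem L443944 : N33068 = N18033 := eqc rfl L443943 rfl
theorem L443956 : sm gi N18033 = N22692 := trfs L443944 (flp_i L280339) rfl
theorem L443957 : N22692 = N26261 := eqes L443956 L222806
theorem L443958 : N26261 = N22692 := (eqc rfl L443957 rfl).symm
theorem L443977 : sm gh N22692 = N38297 := trfs L443958 L324050 rfl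
theorem L443978 : N38297 = N15591 := eqes L443977 (flp_h L192851)
theorem L443979 : N38297 = N15591 := eqc rfl L443978 rfl
theorem L443980 : sm gi N22692 = N18033 := trfs L443958 (flp_i L222806) rfl
theorem L443985 : sm gc N15591 = N26264 := trfs L443979 L324054 rfl
theorem L443986 : N26264 = N10727 := eqes L443985 (flp_c L132850)
theorem L443987 : N26264 = N10727 := eqc rfl L443986 rfl
theorem L444007 : sm gj N10727 = N18206 := trfs L443987 L222838 rfl
theorem L444008 : N18206 = N7436 := eqes L444007 L91685
theorem L444009 : N18206 = N7436 := eqc rfl L444008 rfl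
theorem L444029 : sm gh N7436 = N12508 := trfs L444009 (flp_h L154819) rfl
theorem L444030 : N12508 = N10792 := eqes L444029 L92293
theorem L444031 : N12508 = N10792 := eqc rfl L444030 rfl
theorem L444040 : sm gd N10792 = N8609 := trfs L444031 L106693 rfl
theorem L444041 : N8609 = N7449 := eqes L444040 L92301
theorem L444042 : N8609 = N7449 := eqc rfl L444041 rfl
theorem L444046 : sm gf N10792 = N18201 := trfs L444031 (flp_f L154785) rfl
theorem L444047 : N18201 = N15689 := eqes L444046 (flp_f L133784)
theorem L444048 : N18201 = N15689 := eqc rfl L444047 rfl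
theorem L444068 : sm gg N15689 = N26509 := trfs L444048 (flp_g L224809) rfl
theorem L444069 : N26509 = N22841 := eqes L444068 (flp_g L194258)
theorem L444070 : N26509 = N22841 := eqc rfl L444069 rfl
theorem L444071 : sm gj N15689 = N26259 := trfs L444048 (flp_j L222794) rfl
theorem L444072 : N26259 = N22695 := eqes L444071 (flp_j L192887)
theorem L444073 : N26259 = N22695 := eqc rfl L444072 rfl
theorem L444075 : sm gi N15689 = N12504 := trfs L444048 (flp_i L154779) rfl
theorem L444076 : N12504 = N22842 := eqes L444075 L194262
theorem L444077 : N22842 = N12504 := (eqc rfl L444076 rfl).symm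
theorem L444092 : sm gg N12504 = N33290 := trfs L444077 (flp_g L282410) rfl
theorem L444093 : N33290 = N18197 := eqes L444092 (flp_g L154756)
theorem L444094 : N33290 = N18197 := eqc rfl L444093 rfl
theorem L444095 : sm gj N12504 = N33073 := trfs L444077 (flp_j L280401) rfl
theorem L444096 : N33073 = N18031 := eqes L444095 (flp_j L153405)
theorem L444097 : N33073 = N18031 := eqc rfl L444096 rfl
theorem L444107 : sm gd N18031 = N22726 := trfs L444097 L280397 rfl
theorem L444108 : N22726 = N12391 := eqes L444107 (flp_d L153399)
theorem L444109 : N22726 = N12391 := eqc rfl L444108 rfl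
theorem L444114 : sm ga N12391 = N15624 := trfs L444109 L193186 rfl
theorem L444115 : N15624 = N17402 := eqes L444114 (flp_a L148206)
theorem L444116 : N17402 = N15624 := (eqc rfl L444115 rfl).symm
theorem L444120 : sm gc N12391 = N33109 := trfs L444109 (flp_c L280741) rfl
theorem L444121 : N33109 = N16027 := eqes L444120 (flp_c L136749)
theorem L444122 : N33109 = N16027 := eqc rfl L444121 rfl
theorem L444133 : sm gh N12391 = N15643 := trfs L444109 L193194 rfl
theorem L444134 : N15643 = N8533 := eqes L444133 (flp_h L105738)
theorem L444135 : N15643 = N8533 := eqc rfl L444134 rfl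
theorem L444136 : sm gi N12391 = N15612 := trfs L444109 (flp_i L193184) rfl
theorem L444137 : N15612 = N18032 := eqes L444136 L153408
theorem L444138 : N18032 = N15612 := (eqc rfl L444137 rfl).symm
theorem L444157 : sm gh N15612 = N26171 := trfs L444138 (flp_h L222039) rfl
theorem L444158 : N26171 = N10739 := eqes L444157 (flp_h L133055)
theorem L444159 : N26171 = N10739 := eqc rfl L444158 rfl
theorem L444177 : sm gf N10739 = N17975 := trfs L444159 L222035 rfl
theorem L444178 : N17975 = N7402 := eqes L444177 (flp_f L91793)
theorem L444179 : N17975 = N7402 := eqc rfl L444178 rfl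
theorem L444186 : sm gi N10739 = N17973 := trfs L444159 (flp_i L222031) rfl
theorem L444187 : N17973 = N7414 := eqes L444186 L91803
theorem L444188 : N17973 = N7414 := eqc rfl L444187 rfl
theorem L444213 : sm gh N7414 = N12353 := trfs L444188 (flp_h L152890) rfl
theorem L444214 : N12353 = N10759 := eqes L444213 L91990
theorem L444215 : N12353 = N10759 := eqc rfl L444214 rfl
theorem L444219 : sm gb N10759 = N8509 := trfs L444215 L105404 rfl
theorem L444220 : N8509 = N8253 := eqes L444219 L91994
theorem L444221 : N8509 = N8253 := eqc rfl L444220 rfl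
theorem L444222 : sm gc N10759 = N15989 := trfs L444215 (flp_c L136387) rfl
theorem L444223 : N15989 = N15636 := eqes L444222 (flp_c L133298)
theorem L444224 : N15989 = N15636 := eqc rfl L444223 rfl
theorem L444232 : sm gg N10759 = N17972 := trfs L444215 L152882 rfl
theorem L444233 : N17972 = N15642 := eqes L444232 (flp_g L133359)
theorem L444234 : N17972 = N15642 := eqc rfl L444233 rfl
theorem L444235 : sm gj N10759 = N8569 := trfs L444215 L105407 rfl
theorem L444236 : N8569 = N7468 := eqes L444235 L91998
theorem L444237 : N8569 = N7468 := eqc rfl L444236 rfl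
theorem L444243 : sm gb N7468 = N5910 := trfs L444237 L73377 rfl
theorem L444244 : N5910 = N5754 := eqes L444243 L64115
theorem L444245 : N5910 = N5754 := eqc rfl L444244 rfl
theorem L444246 : sm gc N7468 = N11057 := trfs L444237 (flp_c L94645) rfl
theorem L444247 : N11057 = N10835 := eqes L444246 (flp_c L92683)
theorem L444248 : N11057 = N10835 := eqc rfl L444247 rfl
theorem L444256 : sm gg N7468 = N12445 := trfs L444237 L106194 rfl
theorem L444257 : N12445 = N10841 := eqes L444256 (flp_g L92738)
theorem L444258 : N12445 = N10841 := eqc rfl L444257 rfl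
theorem L444260 : sm gi N7468 = N5934 := trfs L444237 L73380 rfl
theorem L444261 : N5934 = N10842 := eqes L444260 L92741
theorem L444262 : N10842 = N5934 := (eqc rfl L444261 rfl).symm
theorem L444263 : sm ga N5934 = N7480 := trfs L444262 L92743 rfl
theorem L444264 : N7480 = N8332 := eqes L444263 (flp_a L71447)
theorem L444265 : N8332 = N7480 := (eqc rfl L444264 rfl).symm
theorem L444269 : sm gc N5934 = N15756 := trfs L444262 (flp_c L134375) rfl
theorem L444270 : N15756 = N7641 := eqes L444269 (flp_c L65647)
theorem L444271 : N15756 = N7641 := eqc rfl L444270 rfl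
theorem L444273 : sm ge N5934 = N15763 := trfs L444262 (flp_e L134437) rfl
theorem L444274 : N15763 = N8605 := eqes L444273 L73666
theorem L444275 : N15763 = N8605 := eqc rfl L444274 rfl
theorem L444276 : sm gf N5934 = N7469 := trfs L444262 L92748 rfl
theorem L444277 : N7469 = N4099 := eqes L444276 (flp_f L51003)
theorem L444278 : N7469 = N4099 := eqc rfl L444277 rfl
theorem L444279 : sm gg N5934 = N15765 := trfs L444262 (flp_g L134460) rfl
theorem L444280 : N15765 = N8606 := eqes L444279 L73671
theorem L444281 : N15765 = N8606 := eqc rfl L444280 rfl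
theorem L444286 : sm ga N8606 = N10858 := trfs L444281 L134453 rfl
theorem L444287 : N10858 = N12094 := eqes L444286 (flp_a L103305)
theorem L444288 : N12094 = N10858 := (eqc rfl L444287 rfl).symm
theorem L444292 : sm gc N8606 = N22941 := trfs L444281 (flp_c L195127) rfl
theorem L444293 : N22941 = N11094 := eqes L444292 (flp_c L94966)
theorem L444294 : N22941 = N11094 := eqc rfl L444293 rfl
theorem L444296 : sm ge N8606 = N22951 := trfs L444281 (flp_e L195216) rfl
theorem L444297 : N22951 = N12500 := eqes L444296 (flp_e L106637)
theorem L444298 : N22951 = N12500 := eqc rfl L444297 rfl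
theorem L444299 : sm gf N8606 = N10964 := trfs L444281 L134458 rfl
theorem L444300 : N10964 = N6007 := eqes L444299 L73676
theorem L444301 : N10964 = N6007 := eqc rfl L444300 rfl
theorem L444302 : sm gj N8606 = N22954 := trfs L444281 (flp_j L195245) rfl
theorem L444303 : N22954 = N12502 := eqes L444302 L106646
theorem L444304 : N22954 = N12502 := eqc rfl L444303 rfl
theorem L444305 : sm gh N8606 = N22887 := trfs L444281 (flp_h L194669) rfl
theorem L444306 : N22887 = N12503 := eqes L444305 L106653
theorem L444307 : N22887 = N12503 := eqc rfl L444306 rfl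
theorem L444313 : sm gb N12503 = N17552 := trfs L444307 L194663 rfl
theorem L444314 : N17552 = N8614 := eqes L444313 L106655
theorem L444315 : N17552 = N8614 := eqc rfl L444314 rfl
theorem L444316 : sm gc N12503 = N33344 := trfs L444307 (flp_c L282865) rfl
theorem L444317 : N33344 = N16139 := eqes L444316 (flp_c L137725)
theorem L444318 : N33344 = N16139 := eqc rfl L444317 rfl
theorem L444330 : sm gi N12503 = N15719 := trfs L444307 (flp_i L194659) rfl
theorem L444331 : N15719 = N18198 := eqes L444330 L154759
theorem L444332 : N18198 = N15719 := (eqc rfl L444331 rfl).symm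
theorem L444351 : sm gh N15719 = N26378 := trfs L444332 (flp_h L223805) rfl
theorem L444352 : N26378 = N10810 := eqes L444351 (flp_h L134045)
theorem L444353 : N26378 = N10810 := eqc rfl L444352 rfl
theorem L444378 : sm gi N10810 = N18111 := trfs L444353 (flp_i L223797) rfl
theorem L444379 : N18111 = N7467 := eqes L444378 L92458
theorem L444380 : N18111 = N7467 := eqc rfl L444379 rfl
theorem L444387 : sm gc N7467 = N23421 := trfs L444380 (flp_c L199310) rfl
theorem L444388 : N23421 = N10834 := eqes L444387 (flp_c L92675)
theorem L444389 : N23421 = N10834 := eqc rfl L444388 rfl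
theorem L444400 : sm gj N7467 = N26376 := trfs L444380 (flp_j L223786) rfl
theorem L444401 : N26376 = N10840 := eqes L444400 L92720
theorem L444402 : N26376 = N10840 := eqc rfl L444401 rfl
theorem L444425 : sm gh N10840 = N18110 := trfs L444402 (flp_h L223780) rfl
theorem L444426 : N18110 = N15764 := eqes L444425 L134440
theorem L444427 : N18110 = N15764 := eqc rfl L444426 rfl
theorem L444445 : sm gg N15764 = N26168 := trfs L444427 (flp_g L222013) rfl
theorem L444446 : N26168 = N22770 := eqes L444445 (flp_g L193618)
theorem L444447 : N26168 = N22770 := eqc rfl L444446 rfl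
theorem L444467 : sm gi N22770 = N18029 := trfs L444447 L222011 rfl
theorem L444468 : N18029 = N33185 := eqes L444467 L281464
theorem L444469 : N33185 = N18029 := (eqc rfl L444468 rfl).symm
theorem L444470 : sm ga N18029 = N22794 := trfs L444469 L281466 rfl
theorem L444471 : N22794 = N25326 := eqes L444470 (flp_a L215065)
theorem L444472 : N25326 = N22794 := (eqc rfl L444471 rfl).symm
theorem L444479 : sm gj N18029 = N22771 := trfs L444469 L281474 rfl
theorem L444480 : N22771 = N12390 := eqes L444479 (flp_j L153384)
theorem L444481 : N22771 = N12390 := eqc rfl L444480 rfl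
theorem L444494 : sm ge N12390 = N33182 := trfs L444481 (flp_e L281440) rfl
theorem L444495 : N33182 = N18027 := eqes L444494 (flp_e L153373)
theorem L444496 : N33182 = N18027 := eqc rfl L444495 rfl
theorem L444511 : sm gi N18027 = N22767 := trfs L444496 (flp_i L281434) rfl
theorem L444512 : N22767 = N26166 := eqes L444511 (flp_i L221994)
theorem L444513 : N26166 = N22767 := (eqc rfl L444512 rfl).symm
theorem L444532 : sm gh N22767 = N38152 := trfs L444513 L322813 rfl
theorem L444533 : N38152 = N15639 := eqes L444532 (flp_h L193580)
theorem L444534 : N38152 = N15639 := eqc rfl L444533 rfl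
theorem L444537 : sm gb N15639 = N26179 := trfs L444534 L322815 rfl
theorem L444538 : N26179 = N11976 := eqes L444537 L133326
theorem L444539 : N26179 = N11976 := eqc rfl L444538 rfl
theorem L444564 : sm gi N11976 = N38175 := trfs L444539 L323024 rfl
theorem L444565 : N38175 = N17371 := eqes L444564 (flp_i L147929)
theorem L444566 : N38175 = N17371 := eqc rfl L444565 rfl
theorem L444567 : sm ga N17371 = N26207 := trfs L444566 L323026 rfl
theorem L444568 : N26207 = N11957 := eqes L444567 L147925
theorem L444569 : N26207 = N11957 := eqc rfl L444568 rfl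
theorem L444579 : sm gh N17371 = N26274 := trfs L444566 L323034 rfl
theorem L444580 : N26274 = N25284 := eqes L444579 L214691
theorem L444581 : N26274 = N25284 := eqc rfl L444580 rfl
theorem L444600 : sm gg N25284 = N18042 := trfs L444581 L222930 rfl
theorem L444601 : N18042 = N17372 := eqes L444600 L214697
theorem L444602 : N18042 = N17372 := eqc rfl L444601 rfl
theorem L444606 : sm gi N25284 = N18040 := trfs L444581 (flp_i L222922) rfl
theorem L444607 : N18040 = N36850 := eqes L444606 L312027
theorem L444608 : N36850 = N18040 := (eqc rfl L444607 rfl).symm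
theorem L444615 : sm gg N18040 = N25286 := trfs L444608 L312033 rfl
theorem L444616 : N25286 = N12396 := eqes L444615 L153485
theorem L444617 : N25286 = N12396 := eqc rfl L444616 rfl
theorem L444636 : sm gh N12396 = N17418 := trfs L444617 L214715 rfl
theorem L444637 : N17418 = N8535 := eqes L444636 (flp_h L105779)
theorem L444638 : N17418 = N8535 := eqc rfl L444637 rfl
theorem L444651 : sm ge N8535 = N11980 := trfs L444638 L148354 rfl
theorem L444652 : N11980 = N5885 := eqes L444651 (flp_e L73090)
theorem L444653 : N11980 = N5885 := eqc rfl L444652 rfl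
theorem L444659 : sm gi N8535 = N11977 := trfs L444638 (flp_i L148350) rfl
theorem L444660 : N11977 = N12355 := eqes L444659 (flp_i L105427)
theorem L444661 : N12355 = N11977 := (eqc rfl L444660 rfl).symm
theorem L444662 : sm ga N11977 = N8516 := trfs L444661 L105421 rfl
theorem L444663 : N8516 = N8262 := eqes L444662 L102344
theorem L444664 : N8516 = N8262 := eqc rfl L444663 rfl
theorem L444669 : sm gd N11977 = N17976 := trfs L444661 L152916 rfl
theorem L444670 : N17976 = N17417 := eqes L444669 L148342
theorem L444671 : N17976 = N17417 := eqc rfl L444670 rfl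
theorem L444675 : sm gj N11977 = N8571 := trfs L444661 L105425 rfl
theorem L444676 : N8571 = N8340 := eqes L444675 L102349
theorem L444677 : N8571 = N8340 := eqc rfl L444676 rfl
theorem L444681 : sm ga N8340 = N5917 := trfs L444677 L73391 rfl
theorem L444682 : N5917 = N5763 := eqes L444681 L71510
theorem L444683 : N5917 = N5763 := eqc rfl L444682 rfl
theorem L444696 : sm gh N8340 = N12451 := trfs L444677 L106244 rfl
theorem L444697 : N12451 = N5752 := eqes L444696 (flp_h L71508)
theorem L444698 : N12451 = N5752 := eqc rfl L444697 rfl
theorem L444707 : sm gc N5752 = N8577 := trfs L444698 L106248 rfl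
theorem L444708 : N8577 = N8334 := eqes L444707 (flp_c L71465)
theorem L444709 : N8577 = N8334 := eqc rfl L444708 rfl
theorem L444721 : sm gi N5752 = N18123 := trfs L444698 L154182 rfl
theorem L444722 : N18123 = N8310 := eqes L444721 (flp_i L71266)
theorem L444723 : N18123 = N8310 := eqc rfl L444722 rfl
theorem L444724 : sm ga N8310 = N12471 := trfs L444723 L154184 rfl
theorem L444725 : N12471 = N5739 := eqes L444724 L71264
theorem L444726 : N12471 = N5739 := eqc rfl L444725 rfl
theorem L444736 : sm ge N8310 = N12455 := trfs L444723 L154188 rfl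
theorem L444737 : N12455 = N5734 := eqes L444736 (flp_e L71262)
theorem L444738 : N12455 = N5734 := eqc rfl L444737 rfl
theorem L444744 : sm gh N8310 = N12515 := trfs L444723 L154191 rfl
theorem L444745 : N12515 = N12065 := eqes L444744 L103064
theorem L444746 : N12515 = N12065 := eqc rfl L444745 rfl
theorem L444763 : sm gg N12065 = N18216 := trfs L444746 (flp_g L154909) rfl
theorem L444764 : N18216 = N17548 := eqes L444763 (flp_g L149432)
theorem L444765 : N18216 = N17548 := eqc rfl L444764 rfl
theorem L444787 : sm gi N17548 = N12513 := trfs L444765 (flp_i L154901) rfl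
theorem L444788 : N12513 = N25549 := eqes L444787 L216931
theorem L444789 : N25549 = N12513 := (eqc rfl L444788 rfl).symm
theorem L444808 : sm gh N12513 = N17616 := trfs L444789 L216939 rfl
theorem L444809 : N17616 = N8611 := eqes L444808 (flp_h L106729)
theorem L444810 : N17616 = N8611 := eqc rfl L444809 rfl
theorem L444811 : sm gi N12513 = N17548 := trfs L444789 (flp_i L216931) rfl
theorem L444824 : sm gf N8611 = N25646 := trfs L444810 (flp_f L217722) rfl
theorem L444825 : N25646 = N12511 := eqes L444824 L106712
theorem L444826 : N25646 = N12511 := eqc rfl L444825 rfl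
theorem L444828 : sm gj N8611 = N25648 := trfs L444810 (flp_j L217738) rfl
theorem L444829 : N25648 = N12512 := eqes L444828 L106721
theorem L444830 : N25648 = N12512 := eqc rfl L444829 rfl
theorem L444842 : sm gd N12512 = N37393 := trfs L444830 (flp_d L316544) rfl
theorem L444843 : N37393 = N18208 := eqes L444842 (flp_d L154839)
theorem L444844 : N37393 = N18208 := eqc rfl L444843 rfl
theorem L444855 : sm gi N12512 = N17614 := trfs L444830 (flp_i L217732) rfl
theorem L444856 : N17614 = N18120 := eqes L444855 (flp_i L154165)
theorem L444857 : N18120 = N17614 := (eqc rfl L444856 rfl).symm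
theorem L444876 : sm gh N17614 = N26394 := trfs L444857 L223932 rfl
theorem L444877 : N26394 = N12108 := eqes L444876 (flp_h L149967)
theorem L444878 : N26394 = N12108 := eqc rfl L444877 rfl
theorem L444897 : sm gi N12108 = N38495 := trfs L444878 L325723 rfl
theorem L444898 : N38495 = N17547 := eqes L444897 (flp_i L149424)
theorem L444899 : N38495 = N17547 := eqc rfl L444898 rfl
theorem L444906 : sm ge N17547 = N26401 := trfs L444899 L325729 rfl
theorem L444907 : N26401 = N12066 := eqes L444906 L149422
theorem L444908 : N26401 = N12066 := eqc rfl L444907 rfl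
theorem L444928 : sm gh N12066 = N18221 := trfs L444908 L224000 rfl
theorem L444929 : N18221 = N17551 := eqes L444928 L149448
theorem L444930 : N18221 = N17551 := eqc rfl L444929 rfl
theorem L444939 : sm gd N17551 = N26547 := trfs L444930 (flp_d L225111) rfl
theorem L444940 : N26547 = N25484 := eqes L444939 (flp_d L216406)
theorem L444941 : N26547 = N25484 := eqc rfl L444940 rfl
theorem L444950 : sm gi N17551 = N12516 := trfs L444930 (flp_i L154942) rfl
theorem L444951 : N12516 = N25552 := eqes L444950 L216953
theorem L444952 : N25552 = N12516 := (eqc rfl L444951 rfl).symm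
theorem L444960 : sm gd N12516 = N37147 := trfs L444952 (flp_d L314555) rfl
theorem L444961 : N37147 = N18220 := eqes L444960 L154931
theorem L444962 : N37147 = N18220 := eqc rfl L444961 rfl
theorem L444967 : sm gg N12516 = N36853 := trfs L444952 (flp_g L312058) rfl
theorem L444968 : N36853 = N18043 := eqes L444967 (flp_g L153512)
theorem L444969 : N36853 = N18043 := eqc rfl L444968 rfl
theorem L444974 : sm ga N18043 = N25311 := trfs L444969 L312055 rfl
theorem L444975 : N25311 = N12417 := eqes L444974 L153507
theorem L444976 : N25311 = N12417 := eqc rfl L444975 rfl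
theorem L444982 : sm gb N12417 = N17399 := trfs L444976 L214938 rfl
theorem L444983 : N17399 = N17428 := eqes L444982 (flp_b L148440)
theorem L444984 : N17428 = N17399 := (eqc rfl L444983 rfl).symm
theorem L445002 : sm gi N12417 = N17390 := trfs L444976 (flp_i L214936) rfl
theorem L445003 : N17390 = N18073 := eqes L445002 L153764
theorem L445004 : N18073 = N17390 := (eqc rfl L445003 rfl).symm
theorem L445023 : sm gh N17390 = N26212 := trfs L445004 (flp_h L222414) rfl
theorem L445024 : N26212 = N11959 := eqes L445023 (flp_h L148103)
theorem L445025 : N26212 = N11959 := eqc rfl L445024 rfl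
theorem L445026 : sm gi N17390 = N12417 := trfs L445004 (flp_i L153764) rfl
theorem L445046 : sm gi N11959 = N17999 := trfs L445025 (flp_i L222405) rfl
theorem L445047 : N17999 = N8263 := eqes L445046 L102190
theorem L445048 : N17999 = N8263 := eqc rfl L445047 rfl
theorem L445071 : sm gh N8263 = N12368 := trfs L445048 (flp_h L153136) rfl
theorem L445072 : N12368 = N11995 := eqes L445071 L102502
theorem L445073 : N12368 = N11995 := eqc rfl L445072 rfl
theorem L445075 : sm gb N11995 = N17379 := trfs L445073 (flp_b L148001) rfl
theorem L445076 : N17379 = N8271 := eqes L445075 L102504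
theorem L445077 : N17379 = N8271 := eqc rfl L445076 rfl
theorem L445078 : sm gc N11995 = N8523 := trfs L445073 L105547 rfl
theorem L445079 : N8523 = N17428 := eqes L445078 (flp_c L148442)
theorem L445080 : N17399 = N8523 := (eqc rfl L445079 L444984).symm
theorem L445089 : sm gj N11995 = N8517 := trfs L445073 (flp_j L105545) rfl
theorem L445090 : N8517 = N8264 := eqes L445089 L102509
theorem L445091 : N8517 = N8264 := eqc rfl L445090 rfl
theorem L445094 : sm ga N8264 = N12356 := trfs L445091 (flp_a L105432) rfl
theorem L445095 : N12356 = N11979 := eqes L445094 (flp_a L102362)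
theorem L445096 : N12356 = N11979 := eqc rfl L445095 rfl
theorem L445108 : sm gg N8264 = N5872 := trfs L445091 (flp_g L72940) rfl
theorem L445109 : N5872 = N5702 := eqes L445108 L70898
theorem L445110 : N5872 = N5702 := eqc rfl L445109 rfl
theorem L445112 : sm gi N8264 = N5893 := trfs L445091 L72945 rfl
theorem L445113 : N5893 = N11996 := eqes L445112 L102512
theorem L445114 : N11996 = N5893 := (eqc rfl L445113 rfl).symm
theorem L445123 : sm ge N5893 = N17440 := trfs L445114 (flp_e L148551) rfl
theorem L445124 : N17440 = N8546 := eqes L445123 (flp_e L73192)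
theorem L445125 : N17440 = N8546 := eqc rfl L445124 rfl
theorem L445127 : sm gg N5893 = N8265 := trfs L445114 L102518 rfl
theorem L445128 : N8265 = N4071 := eqes L445127 (flp_g L50678)
theorem L445129 : N8265 = N4071 := eqc rfl L445128 rfl
theorem L445132 : sm gi N5893 = N8264 := trfs L445114 (flp_i L102512) rfl
theorem L445135 : sm gb N4071 = N5709 := trfs L445129 L70903 rfl
theorem L445136 : N5709 = N5698 := eqes L445135 (flp_b L49103)
theorem L445137 : N5709 = N5698 := eqc rfl L445136 rfl
theorem L445138 : sm gc N4071 = N11987 := trfs L445129 (flp_c L102437) rfl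
theorem L445139 : N11987 = N2817 := eqes L445138 L35167
theorem L445140 : N11987 = N2817 := eqc rfl L445139 rfl
theorem L445143 : sm gf N4071 = N5703 := trfs L445129 L70906 rfl
theorem L445144 : N5703 = N2816 := eqes L445143 (flp_f L35165)
theorem L445145 : N5703 = N2816 := eqc rfl L445144 rfl
theorem L445146 : sm gj N4071 = N5766 := trfs L445129 L70908 rfl
theorem L445147 : N5766 = N2840 := eqes L445146 L35170
theorem L445148 : N5766 = N2840 := eqc rfl L445147 rfl
theorem L445149 : sm gh N4071 = N11961 := trfs L445129 (flp_h L102209) rfl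
theorem L445150 : N11961 = N5894 := eqes L445149 L50684
theorem L445151 : N11961 = N5894 := eqc rfl L445150 rfl
theorem L445155 : sm gb N5894 = N8247 := trfs L445151 L102203 rfl
theorem L445156 : N8247 = N8258 := eqes L445155 (flp_b L70842)
theorem L445157 : N8258 = N8247 := (eqc rfl L445156 rfl).symm
theorem L445158 : sm gc N5894 = N17382 := trfs L445151 (flp_c L148033) rfl
theorem L445159 : N17382 = N4075 := eqes L445158 L50686
theorem L445160 : N17382 = N4075 := eqc rfl L445159 rfl
theorem L445169 : sm gj N5894 = N8324 := trfs L445151 L102207 rfl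
theorem L445170 : N8324 = N4109 := eqes L445169 L50690
theorem L445171 : N8324 = N4109 := eqc rfl L445170 rfl
theorem L445172 : sm gi N5894 = N8240 := trfs L445151 (flp_i L102201) rfl
theorem L445173 : N8240 = N8551 := eqes L445172 L73227
theorem L445174 : N8551 = N8240 := (eqc rfl L445173 rfl).symm
theorem L445176 : sm gb N8240 = N2817 := trfs L445174 (flp_b L102435) L445140
theorem L445177 : N2817 = N5691 := eqes L445176 L70683
theorem L445178 : N5691 = N2817 := (eqc rfl L445177 rfl).symm
theorem L445195 : sm gh N8240 = N12371 := trfs L445174 (flp_h L105578) rfl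
theorem L445196 : N12371 = N5686 := eqes L445195 (flp_h L70681)
theorem L445197 : N12371 = N5686 := eqc rfl L445196 rfl
theorem L445201 : sm gb N5686 = N4075 := trfs L445197 (flp_b L148031) L445160
theorem L445202 : N4075 = N3935 := eqes L445201 L48999
theorem L445203 : N4075 = N3935 := eqc rfl L445202 rfl
theorem L445220 : sm gi N5686 = N8518 := trfs L445197 (flp_i L105570) rfl
theorem L445221 : N8518 = N3942 := eqes L445220 L49005
theorem L445222 : N8518 = N3942 := eqc rfl L445221 rfl
theorem L445227 : sm gc N3942 = N5876 := trfs L445222 L72950 rfl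
theorem L445228 : N5876 = N5698 := eqes L445227 (flp_c L49105)
theorem L445229 : N5876 = N5698 := eqc rfl L445228 rfl
theorem L445240 : sm gj N3942 = N5919 := trfs L445222 L72954 rfl
theorem L445241 : N5919 = N2757 := eqes L445240 L34146
theorem L445242 : N5919 = N2757 := eqc rfl L445241 rfl
theorem L445248 : sm gc N2757 = N4091 := trfs L445242 L50891 rfl
theorem L445249 : N4091 = N3980 := eqes L445248 (flp_c L34447)
theorem L445250 : N4091 = N3980 := eqc rfl L445249 rfl
theorem L445261 : sm gh N2757 = N4087 := trfs L445242 (flp_h L50889) rfl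
theorem L445262 : N4087 = N3984 := eqes L445261 L34472
theorem L445263 : N4087 = N3984 := eqc rfl L445262 rfl
theorem L445266 : sm gb N3984 = N5737 := trfs L445263 (flp_b L49418) rfl
theorem L445267 : N5737 = N2762 := eqes L445266 L34474
theorem L445268 : N5737 = N2762 := eqc rfl L445267 rfl
theorem L445269 : sm gc N3984 = N2828 := trfs L445263 L35299 rfl
theorem L445270 : N2828 = N5759 := eqes L445269 (flp_c L49596)
theorem L445271 : N5759 = N2828 := (eqc rfl L445270 rfl).symm
theorem L445274 : sm gf N3984 = N2827 := trfs L445263 (flp_f L35297) rfl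
theorem L445275 : N2827 = N2758 := eqes L445274 L34476
theorem L445276 : N2827 = N2758 := eqc rfl L445275 rfl
theorem L445277 : sm gg N3984 = N5918 := trfs L445263 L50880 rfl
theorem L445278 : N5918 = N5765 := eqes L445277 (flp_g L49644)
theorem L445279 : N5918 = N5765 := eqc rfl L445278 rfl
theorem L445283 : sm ga N5765 = N8572 := trfs L445279 (flp_a L73400) rfl
theorem L445284 : N8572 = N8342 := eqes L445283 (flp_a L71525)
theorem L445285 : N8572 = N8342 := eqc rfl L445284 rfl
theorem L445286 : sm gb N5765 = N8316 := trfs L445279 (flp_b L71314) rfl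
theorem L445287 : N8316 = N3990 := eqes L445286 L49640
theorem L445288 : N8316 = N3990 := eqc rfl L445287 rfl
theorem L445289 : sm gc N5765 = N4090 := trfs L445279 L50882 rfl
theorem L445290 : N4090 = N8348 := eqes L445289 (flp_c L71575)
theorem L445291 : N8348 = N4090 := (eqc rfl L445290 rfl).symm
theorem L445293 : sm ge N5765 = N8582 := trfs L445279 (flp_e L73491) rfl
theorem L445294 : N8582 = N8355 := eqes L445293 (flp_e L71632)
theorem L445295 : N8582 = N8355 := eqc rfl L445294 rfl
theorem L445296 : sm gf N5765 = N4133 := trfs L445279 L50887 rfl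
theorem L445297 : N4133 = N4047 := eqes L445296 L49642
theorem L445298 : N4133 = N4047 := eqc rfl L445297 rfl
theorem L445301 : sm gi N5765 = N4108 := trfs L445279 L50885 rfl
theorem L445302 : N4108 = N8359 := eqes L445301 L71658
theorem L445303 : N8359 = N4108 := (eqc rfl L445302 rfl).symm
theorem L445305 : sm gb N4108 = N5773 := trfs L445303 L71660 rfl
theorem L445306 : N5773 = N5758 := eqes L445305 (flp_b L49585)
theorem L445307 : N5773 = N5758 := eqc rfl L445306 rfl
theorem L445308 : sm gc N4108 = N12123 := trfs L445303 (flp_c L103544) rfl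
theorem L445309 : N12123 = N2843 := eqes L445308 L35461
theorem L445310 : N12123 = N2843 := eqc rfl L445309 rfl
theorem L445313 : sm gf N4108 = N5860 := trfs L445303 L71663 rfl
theorem L445314 : N5860 = N2877 := eqes L445313 L35464
theorem L445315 : N5860 = N2877 := eqc rfl L445314 rfl
theorem L445320 : sm gh N4108 = N12084 := trfs L445303 (flp_h L103233) rfl
theorem L445321 : N12084 = N5950 := eqes L445320 L51122
theorem L445322 : N12084 = N5950 := eqc rfl L445321 rfl
theorem L445323 : sm gi N4108 = N5765 := trfs L445303 (flp_i L71658) rfl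
theorem L445329 : sm gc N5950 = N17562 := trfs L445322 (flp_c L149551) rfl
theorem L445330 : N17562 = N4115 := eqes L445329 L51124
theorem L445331 : N17562 = N4115 := eqc rfl L445330 rfl
theorem L445332 : sm gd N5950 = N17523 := trfs L445322 (flp_d L149216) rfl
theorem L445333 : N17523 = N8634 := eqes L445332 L73886
theorem L445334 : N17523 = N8634 := eqc rfl L445333 rfl
theorem L445341 : sm gi N5950 = N8323 := trfs L445322 (flp_i L103225) rfl
theorem L445342 : N8323 = N8635 := eqes L445341 L73895
theorem L445343 : N8635 = N8323 := (eqc rfl L445342 rfl).symm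
theorem L445345 : sm gb N8323 = N2843 := trfs L445343 (flp_b L103542) L445310
theorem L445346 : N2843 = N5747 := eqes L445345 L71376
theorem L445347 : N5747 = N2843 := (eqc rfl L445346 rfl).symm
theorem L445351 : sm gd N8323 = N12548 := trfs L445343 (flp_d L107006) rfl
theorem L445352 : N12548 = N12048 := eqes L445351 (flp_d L102933)
theorem L445353 : N12548 = N12048 := eqc rfl L445352 rfl
theorem L445355 : sm gf N8323 = N6035 := trfs L445343 L73899 rfl
theorem L445356 : N6035 = N5824 := eqes L445355 L71378
theorem L445357 : N6035 = N5824 := eqc rfl L445356 rfl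
theorem L445360 : sm gh N8323 = N12474 := trfs L445343 (flp_h L106447) rfl
theorem L445361 : N12474 = N5740 := eqes L445360 (flp_h L71374)
theorem L445362 : N12474 = N5740 := eqc rfl L445361 rfl
theorem L445366 : sm gb N5740 = N4115 := trfs L445362 (flp_b L149549) L445331
theorem L445367 : N4115 = N3972 := eqes L445366 L49443
theorem L445368 : N4115 = N3972 := eqc rfl L445367 rfl
theorem L445378 : sm gf N5740 = N8690 := trfs L445362 L106443 rfl
theorem L445379 : N8690 = N4022 := eqes L445378 L49449
theorem L445380 : N8690 = N4022 := eqc rfl L445379 rfl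
theorem L445406 : sm gi N4022 = N5986 := trfs L445380 (flp_i L74333) rfl
theorem L445407 : N5986 = N2798 := eqes L445406 L34774
theorem L445408 : N5986 = N2798 := eqc rfl L445407 rfl
theorem L445415 : sm gc N2798 = N4140 := trfs L445408 L51409 rfl
theorem L445416 : N4140 = N4040 := eqes L445415 (flp_c L34912)
theorem L445417 : N4140 = N4040 := eqc rfl L445416 rfl
theorem L445418 : sm gd N2798 = N8689 := trfs L445408 L74327 rfl
theorem L445419 : N8689 = N1942 := eqes L445418 L24306
theorem L445420 : N8689 = N1942 := eqc rfl L445419 rfl
theorem L445428 : sm gj N2798 = N8688 := trfs L445408 (flp_j L74325) rfl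
theorem L445429 : N8688 = N4046 := eqes L445428 L34954
theorem L445430 : N8688 = N4046 := eqc rfl L445429 rfl
theorem L445438 : sm gc N4046 = N5996 := trfs L445430 L74322 rfl
theorem L445439 : N5996 = N5848 := eqes L445438 (flp_c L50300)
theorem L445440 : N5996 = N5848 := eqc rfl L445439 rfl
theorem L445449 : sm gh N4046 = N5985 := trfs L445430 (flp_h L74320) rfl
theorem L445450 : N5985 = N5859 := eqes L445449 L50384
theorem L445451 : N5985 = N5859 := eqc rfl L445450 rfl
theorem L445453 : sm ga N5859 = N8668 := trfs L445451 (flp_a L74150) rfl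
theorem L445454 : N8668 = N8475 := eqes L445453 (flp_a L72589)
theorem L445455 : N8668 = N8475 := eqc rfl L445454 rfl
theorem L445456 : sm gb N5859 = N8435 := trfs L445451 (flp_b L72264) rfl
theorem L445457 : N8435 = N4054 := eqes L445456 L50386
theorem L445458 : N8435 = N4054 := eqc rfl L445457 rfl
theorem L445459 : sm gc N5859 = N4139 := trfs L445451 L51401 rfl
theorem L445460 : N4139 = N8484 := eqes L445459 (flp_c L72664)
theorem L445461 : N8484 = N4139 := (eqc rfl L445460 rfl).symm
theorem L445469 : sm gi N5859 = N4164 := trfs L445451 L51404 rfl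
theorem L445470 : N4164 = N8499 := eqes L445469 L72781
theorem L445471 : N8499 = N4164 := (eqc rfl L445470 rfl).symm
theorem L445475 : sm gb N4164 = N5867 := trfs L445471 L72783 rfl
theorem L445476 : N5867 = N5848 := eqes L445475 (flp_b L50298)
theorem L445477 : N5867 = N5848 := eqc rfl L445476 rfl
theorem L445478 : sm gc N4164 = N12327 := trfs L445471 (flp_c L105195) rfl
theorem L445479 : N12327 = N2883 := eqes L445478 L35886
theorem L445480 : N12327 = N2883 := eqc rfl L445479 rfl
theorem L445488 : sm gh N4164 = N12268 := trfs L445471 (flp_h L104714) rfl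
theorem L445489 : N12268 = N6033 := eqes L445488 L51771
theorem L445490 : N12268 = N6033 := eqc rfl L445489 rfl
theorem L445491 : sm gi N4164 = N5859 := trfs L445471 (flp_i L72781) rfl
theorem L445509 : sm gi N6033 = N8446 := trfs L445490 (flp_i L104707) rfl
theorem L445510 : N8446 = N8757 := eqes L445509 L74858
theorem L445511 : N8757 = N8446 := (eqc rfl L445510 rfl).symm
theorem L445513 : sm gb N8446 = N2883 := trfs L445511 (flp_b L105193) L445480
theorem L445514 : N2883 = N5831 := eqes L445513 L72358
theorem L445515 : N5831 = N2883 := (eqc rfl L445514 rfl).symm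
theorem L445519 : sm gd N8446 = N12722 := trfs L445511 (flp_d L108396) rfl
theorem L445520 : N12722 = N12215 := eqes L445519 (flp_d L104268)
theorem L445521 : N12722 = N12215 := eqc rfl L445520 rfl
theorem L445522 : sm ge N8446 = N12715 := trfs L445511 (flp_e L108345) rfl
theorem L445523 : N12715 = N12263 := eqes L445522 (flp_e L104672)
theorem L445524 : N12715 = N12263 := eqc rfl L445523 rfl
theorem L445534 : sm gb N12263 = N17932 := trfs L445524 (flp_b L152556) rfl
theorem L445535 : N17932 = N8450 := eqes L445534 L104670
theorem L445536 : N17932 = N8450 := eqc rfl L445535 rfl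
theorem L445550 : sm gh N12263 = N18372 := trfs L445524 (flp_h L156158) rfl
theorem L445551 : N18372 = N8442 := eqes L445550 (flp_h L104668)
theorem L445552 : N18372 = N8442 := eqc rfl L445551 rfl
theorem L445566 : sm gf N8442 = N26758 := trfs L445552 (flp_f L226802) rfl
theorem L445567 : N26758 = N12261 := eqes L445566 (flp_f L104657)
theorem L445568 : N26758 = N12261 := eqc rfl L445567 rfl
theorem L445592 : sm gi N12261 = N18368 := trfs L445568 (flp_i L226798) rfl
theorem L445593 : N18368 = N8492 := eqes L445592 L104659
theorem L445594 : N18368 = N8492 := eqc rfl L445593 rfl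
theorem L445615 : sm gh N8492 = N12617 := trfs L445594 (flp_h L156122) rfl
theorem L445616 : N12617 = N12337 := eqes L445615 L105275
theorem L445617 : N12617 = N12337 := eqc rfl L445616 rfl
theorem L445627 : sm gd N12337 = N18359 := trfs L445617 (flp_d L156058) rfl
theorem L445628 : N18359 = N17954 := eqes L445627 L152736
theorem L445629 : N18359 = N17954 := eqc rfl L445628 rfl
theorem L445637 : sm gj N12337 = N8683 := trfs L445617 (flp_j L107573) rfl
theorem L445638 : N8683 = N8493 := eqes L445637 L105281
theorem L445639 : N8683 = N8493 := eqc rfl L445638 rfl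
theorem L445640 : sm gi N12337 = N8749 := trfs L445617 L107579 rfl
theorem L445641 : N8749 = N17955 := eqes L445640 L152745
theorem L445642 : N17955 = N8749 := (eqc rfl L445641 rfl).symm
theorem L445643 : sm ga N8749 = N26086 := trfs L445642 (flp_a L221321) rfl
theorem L445644 : N26086 = N12681 := eqes L445643 (flp_a L108061)
theorem L445645 : N26086 = N12681 := eqc rfl L445644 rfl
theorem L445665 : sm gh N8749 = N25986 := trfs L445642 (flp_h L220489) rfl
theorem L445666 : N25986 = N12711 := eqes L445665 L108314
theorem L445667 : N25986 = N12711 := eqc rfl L445666 rfl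
theorem L445689 : sm gj N12711 = N17843 := trfs L445667 L220487 rfl
theorem L445690 : N17843 = N8750 := eqes L445689 L108320
theorem L445691 : N17843 = N8750 := eqc rfl L445690 rfl
theorem L445697 : sm gb N8750 = N12272 := trfs L445691 L151824 rfl
theorem L445698 : N12272 = N12319 := eqes L445697 (flp_b L105126)
theorem L445699 : N12319 = N12272 := (eqc rfl L445698 rfl).symm
theorem L445703 : sm gd N8750 = N25989 := trfs L445691 (flp_d L220507) rfl
theorem L445704 : N25989 = N12712 := eqes L445703 L108322
theorem L445705 : N25989 = N12712 := eqc rfl L445704 rfl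
theorem L445714 : sm gi N8750 = N12262 := trfs L445691 (flp_i L151822) rfl
theorem L445715 : N12262 = N12713 := eqes L445714 L108328
theorem L445716 : N12713 = N12262 := (eqc rfl L445715 rfl).symm
theorem L445729 : sm ge N12262 = N18253 := trfs L445716 (flp_e L155204) rfl
theorem L445730 : N18253 = N17569 := eqes L445729 (flp_e L149610)
theorem L445731 : N18253 = N17569 := eqc rfl L445730 rfl
theorem L445739 : sm gb N17569 = N25666 := trfs L445731 (flp_b L217868) rfl
theorem L445740 : N25666 = N12086 := eqes L445739 L149608
theorem L445741 : N25666 = N12086 := eqc rfl L445740 rfl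
theorem L445753 : sm gh N17569 = N26433 := trfs L445731 (flp_h L224262) rfl
theorem L445754 : N26433 = N12078 := eqes L445753 (flp_h L149606)
theorem L445755 : N26433 = N12078 := eqc rfl L445754 rfl
theorem L445774 : sm gi N12078 = N18146 := trfs L445755 (flp_i L224253) rfl
theorem L445775 : N18146 = N8353 := eqes L445774 L103182
theorem L445776 : N18146 = N8353 := eqc rfl L445775 rfl
theorem L445795 : sm gh N8353 = N12467 := trfs L445776 (flp_h L154383) rfl
theorem L445796 : N12467 = N12130 := eqes L445795 L103598
theorem L445797 : N12467 = N12130 := eqc rfl L445796 rfl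
theorem L445804 : sm gc N12130 = N8590 := trfs L445797 L106388 rfl
theorem L445805 : N8590 = N17626 := eqes L445804 (flp_c L150061)
theorem L445806 : N17626 = N8590 := (eqc rfl L445805 rfl).symm
theorem L445807 : sm gd N12130 = N18140 := trfs L445797 (flp_d L154342) rfl
theorem L445808 : N18140 = N17645 := eqes L445807 L150218
theorem L445809 : N18140 = N17645 := eqc rfl L445808 rfl
theorem L445814 : sm gi N12130 = N8628 := trfs L445797 L106390 rfl
theorem L445815 : N8628 = N17646 := eqes L445814 L150225
theorem L445816 : N17646 = N8628 := (eqc rfl L445815 rfl).symm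
theorem L445821 : sm gc N8628 = N12086 := trfs L445816 (flp_c L217870) L445741
theorem L445822 : N12086 = N5955 := eqes L445821 L73849
theorem L445823 : N12086 = N5955 := eqc rfl L445822 rfl
theorem L445824 : sm gd N8628 = N25695 := trfs L445816 (flp_d L218104) rfl
theorem L445825 : N25695 = N12532 := eqes L445824 (flp_d L106902)
theorem L445826 : N25695 = N12532 := eqc rfl L445825 rfl
theorem L445837 : sm gb N12532 = N17659 := trfs L445826 L218102 rfl
theorem L445838 : N17659 = N17620 := eqes L445837 (flp_b L150015)
theorem L445839 : N17659 = N17620 := eqc rfl L445838 rfl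
theorem L445846 : sm gf N12532 = N17650 := trfs L445826 L218106 rfl
theorem L445847 : N17650 = N8626 := eqes L445846 (flp_f L106899)
theorem L445848 : N17650 = N8626 := eqc rfl L445847 rfl
theorem L445850 : sm gj N12532 = N37459 := trfs L445826 (flp_j L317064) rfl
theorem L445851 : N37459 = N18242 := eqes L445850 L155131
theorem L445852 : N37459 = N18242 := eqc rfl L445851 rfl
theorem L445853 : sm gh N12532 = N12532 := trfs L445826 L441579 L445826
theorem L445854 : N12532 = N18243 := eqes L445853 L155138
theorem L445855 : N18243 = N12532 := (eqc rfl L445854 rfl).symm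
theorem L445879 : sm gi N12532 = N26576 := trfs L445855 L225366 rfl
theorem L445880 : N26576 = N18140 := eqes L445879 (flp_i L154344)
theorem L445881 : N26576 = N17645 := eqc rfl L445880 L445809
theorem L445904 : sm gh N17645 = N38536 := trfs L445881 (flp_h L326077) rfl
theorem L445905 : N38536 = N25168 := eqes L445904 (flp_h L213675)
theorem L445906 : N38536 = N25168 := eqc rfl L445905 rfl
theorem L445914 : sm gi N25168 = N26423 := trfs L445906 (flp_i L326071) rfl
theorem L445915 : N26423 = N25168 := eqes L445914 L396471
theorem L445916 : N26423 = N25168 := eqc rfl L445915 rfl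
theorem L445935 : sm gj N25168 = N38534 := trfs L445916 (flp_j L326062) rfl
theorem L445936 : N38534 = N36673 := eqes L445935 (flp_j L310466)
theorem L445937 : N38534 = N36673 := eqc rfl L445936 rfl
theorem L445943 : sm gh N36673 = N26422 := trfs L445937 (flp_h L326057) rfl
theorem L445944 : N26422 = N25691 := eqes L445943 L310468
theorem L445945 : N26422 = N25691 := eqc rfl L445944 rfl
theorem L445962 : sm gg N25691 = N38533 := trfs L445945 L326049 rfl
theorem L445963 : N38533 = N37455 := eqes L445962 (flp_g L317029)
theorem L445964 : N38533 = N37455 := eqc rfl L445963 rfl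
theorem L445969 : sm gd N37455 = N26430 := trfs L445964 L326052 rfl
theorem L445970 : N26430 = N25690 := eqes L445969 (flp_d L317025)
theorem L445971 : N26430 = N25690 := eqc rfl L445970 rfl
theorem L445981 : sm gc N25690 = N18163 := trfs L445971 L224231 rfl
theorem L445982 : N18163 = N37417 := eqes L445981 (flp_c L316720)
theorem L445983 : N37417 = N18163 := (eqc rfl L445982 rfl).symm
theorem L445993 : sm gi N25690 = N18250 := trfs L445971 L224235 rfl
theorem L445994 : N18250 = N37456 := eqes L445993 L317032
theorem L445995 : N37456 = N18250 := (eqc rfl L445994 rfl).symm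
theorem L445996 : sm gb N18250 = N25705 := trfs L445995 L317034 rfl
theorem L445997 : N25705 = N25663 := eqes L445996 (flp_b L217840)
theorem L445998 : N25705 = N25663 := eqc rfl L445997 rfl
theorem L446002 : sm gi N18250 = N25690 := trfs L445995 (flp_i L317032) rfl
theorem L446007 : sm gc N25663 = N18291 := trfs L445998 L218171 rfl
theorem L446008 : N18291 = N17643 := eqes L446007 L217842
theorem L446009 : N18291 = N17643 := eqc rfl L446008 rfl
theorem L446019 : sm gg N25663 = N17656 := trfs L445998 L218175 rfl
theorem L446020 : N17656 = N17625 := eqes L446019 (flp_g L217838)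
theorem L446021 : N17656 = N17625 := eqc rfl L446020 rfl
theorem L446023 : sm gh N25663 = N37300 := trfs L445998 (flp_h L315780) rfl
theorem L446024 : N37300 = N37417 := eqes L446023 L316716
theorem L446025 : N37300 = N18163 := eqc rfl L446024 L445983
theorem L446037 : sm gi N18163 = N25587 := trfs L446025 (flp_i L315771) rfl
theorem L446038 : N25587 = N12555 := eqes L446037 L154508
theorem L446039 : N25587 = N12555 := eqc rfl L446038 rfl
theorem L446046 : sm gc N12555 = N18174 := trfs L446039 L217240 rfl
theorem L446047 : N18174 = N18250 := eqes L446046 (flp_c L155180)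
theorem L446048 : N18250 = N18174 := (eqc rfl L446047 rfl).symm
theorem L446060 : sm gh N12555 = N17576 := trfs L446039 (flp_h L217238) rfl
theorem L446061 : N17576 = N18277 := eqes L446060 L155364
theorem L446062 : N18277 = N17576 := (eqc rfl L446061 rfl).symm
theorem L446087 : sm gi N17576 = N26627 := trfs L446062 L225712 rfl
theorem L446088 : N26627 = N12137 := eqes L446087 L149665
theorem L446089 : N26627 = N12137 := eqc rfl L446088 rfl
theorem L446110 : sm gh N12137 = N38587 := trfs L446089 (flp_h L326425) rfl
theorem L446111 : N38587 = N17654 := eqes L446110 L150281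
theorem L446112 : N38587 = N17654 := eqc rfl L446111 rfl
theorem L446119 : sm gg N17654 = N26459 := trfs L446112 L326422 rfl
theorem L446120 : N26459 = N12138 := eqes L446119 L150287
theorem L446121 : N26459 = N12138 := eqc rfl L446120 rfl
theorem L446139 : sm gf N12138 = N18168 := trfs L446121 L224439 rfl
theorem L446140 : N18168 = N8362 := eqes L446139 L103664
theorem L446141 : N18168 = N8362 := eqc rfl L446140 rfl
theorem L446145 : sm gi N12138 = N18164 := trfs L446121 (flp_i L224433) rfl
theorem L446146 : N18164 = N17656 := eqes L446145 L150296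
theorem L446147 : N18164 = N17625 := eqc rfl L446146 L446021
theorem L446159 : sm gf N17625 = N12482 := trfs L446147 L154517 rfl
theorem L446160 : N12482 = N12117 := eqes L446159 L150055
theorem L446161 : N12482 = N12117 := eqc rfl L446160 rfl
theorem L446166 : sm gh N17625 = N12480 := trfs L446147 (flp_h L154511) rfl
theorem L446167 : N12480 = N25664 := eqes L446166 L217847
theorem L446168 : N25664 = N12480 := (eqc rfl L446167 rfl).symm
theorem L446181 : sm gf N12480 = N17627 := trfs L446168 L217855 rfl
theorem L446182 : N17627 = N8591 := eqes L446181 L106488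
theorem L446183 : N17627 = N8591 := eqc rfl L446182 rfl
theorem L446188 : sm gi N12480 = N37419 := trfs L446168 L316735 rfl
theorem L446189 : N37419 = N8641 := eqes L446188 L106490
theorem L446190 : N37419 = N8641 := eqc rfl L446189 rfl
theorem L446198 : sm gf N8641 = N25668 := trfs L446190 L316743 rfl
theorem L446199 : N25668 = N5956 := eqes L446198 L73945
theorem L446200 : N25668 = N5956 := eqc rfl L446199 rfl
theorem L446220 : sm gh N5956 = N37263 := trfs L446200 (flp_h L315504) rfl
theorem L446221 : N37263 = N8643 := eqes L446220 L73956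
theorem L446222 : N37263 = N8643 := eqc rfl L446221 rfl
theorem L446236 : sm gi N8643 = N25560 := trfs L446222 (flp_i L315494) rfl
theorem L446237 : N25560 = N12560 := eqes L446236 L107101
theorem L446238 : N25560 = N12560 := eqc rfl L446237 rfl
theorem L446263 : sm gh N12560 = N17556 := trfs L446238 (flp_h L217026) rfl
theorem L446264 : N17556 = N18168 := eqes L446263 (flp_h L154556)
theorem L446265 : N17556 = N8362 := eqc rfl L446264 L446141
theorem L446271 : sm gd N8362 = N25554 := trfs L446265 (flp_d L216976) rfl
theorem L446272 : N25554 = N12141 := eqes L446271 L103682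
theorem L446273 : N25554 = N12141 := eqc rfl L446272 rfl
theorem L446286 : sm gi N8362 = N12117 := trfs L446265 L149500 rfl
theorem L446287 : N12117 = N12142 := eqes L446286 L103687
theorem L446288 : N12142 = N12117 := (eqc rfl L446287 rfl).symm
theorem L446294 : sm gd N12117 = N17661 := trfs L446288 (flp_d L150335) rfl
theorem L446295 : N17661 = N17621 := eqes L446294 (flp_d L150024)
theorem L446296 : N17661 = N17621 := eqc rfl L446295 rfl
theorem L446304 : sm gj N12117 = N8364 := trfs L446288 L103693 rfl
theorem L446305 : N8364 = N8345 := eqes L446304 (flp_j L103488)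
theorem L446306 : N8364 = N8345 := eqc rfl L446305 rfl
theorem L446307 : sm gh N12117 = N17581 := trfs L446288 (flp_h L149706) rfl
theorem L446308 : N17581 = N17627 := eqes L446307 L150068
theorem L446309 : N17581 = N8591 := eqc rfl L446308 L446183
theorem L446310 : sm gi N12117 = N8362 := trfs L446288 (flp_i L103687) rfl
theorem L446332 : sm gi N8591 = N12087 := trfs L446309 (flp_i L149698) rfl
theorem L446333 : N12087 = N5956 := eqes L446332 L73564
theorem L446334 : N12087 = N5956 := eqc rfl L446333 rfl
theorem L446343 : sm ge N5956 = N8330 := trfs L446334 L103258 rfl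
theorem L446344 : N8330 = N4114 := eqes L446343 L51172
theorem L446345 : N8330 = N4114 := eqc rfl L446344 rfl
theorem L446350 : sm gj N5956 = N8327 := trfs L446334 L103260 rfl
theorem L446351 : N8327 = N4112 := eqes L446350 (flp_j L51167)
theorem L446352 : N8327 = N4112 := eqc rfl L446351 rfl
theorem L446353 : sm gh N5956 = N8326 := trfs L446334 (flp_h L103254) rfl
theorem L446354 : N8326 = N8643 := eqes L446353 L73956
theorem L446355 : N8643 = N8326 := (eqc rfl L446354 rfl).symm
theorem L446372 : sm gj N8326 = N5957 := trfs L446355 L73962 rfl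
theorem L446373 : N5957 = N5744 := eqes L446372 (flp_j L71399)
theorem L446374 : N5957 = N5744 := eqc rfl L446373 rfl
theorem L446375 : sm gh N8326 = N5956 := trfs L446355 (flp_h L73956) rfl
theorem L446377 : sm gi N8326 = N12560 := trfs L446355 L107101 rfl
theorem L446378 : N12560 = N5768 := eqes L446377 L71405
theorem L446379 : N12560 = N5768 := eqc rfl L446378 rfl
theorem L446395 : sm gj N5768 = N8645 := trfs L446379 L107107 rfl
theorem L446396 : N8645 = N3987 := eqes L446395 (flp_j L49661)
theorem L446397 : N8645 = N3987 := eqc rfl L446396 rfl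
theorem L446415 : sm gg N3987 = N5959 := trfs L446397 L73979 rfl
theorem L446416 : N5959 = N2760 := eqes L446415 (flp_g L34495)
theorem L446417 : N5959 = N2760 := eqc rfl L446416 rfl
theorem L446418 : sm gh N3987 = N12484 := trfs L446397 (flp_h L106525) rfl
theorem L446419 : N12484 = N5769 := eqes L446418 L49667
theorem L446420 : N12484 = N5769 := eqc rfl L446419 rfl
theorem L446425 : sm gb N5769 = N8601 := trfs L446420 L106519 rfl
theorem L446426 : N8601 = N8355 := eqes L446425 (flp_b L71630)
theorem L446427 : N8601 = N8355 := eqc rfl L446426 rfl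
theorem L446440 : sm gi N5769 = N8592 := trfs L446420 (flp_i L106517) rfl
theorem L446441 : N8592 = N8364 := eqes L446440 L71697
theorem L446442 : N8592 = N8345 := eqc rfl L446441 L446306
theorem L446453 : sm ge N8345 = N5925 := trfs L446442 L73570 rfl
theorem L446454 : N5925 = N5758 := eqes L446453 L71551
theorem L446455 : N5925 = N5758 := eqc rfl L446454 rfl
theorem L446457 : sm gg N8345 = N5923 := trfs L446442 L73572 rfl
theorem L446458 : N5923 = N5757 := eqes L446457 (flp_g L71545)
theorem L446459 : N5923 = N5757 := eqc rfl L446458 rfl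
theorem L446461 : sm gh N8345 = N5922 := trfs L446442 (flp_h L73566) rfl
theorem L446462 : N5922 = N12118 := eqes L446461 L103496
theorem L446463 : N12118 = N5922 := (eqc rfl L446462 rfl).symm
theorem L446477 : sm gg N5922 = N8346 := trfs L446463 L103504 rfl
theorem L446478 : N8346 = N4089 := eqes L446477 (flp_g L50910)
theorem L446479 : N8346 = N4089 := eqc rfl L446478 rfl
theorem L446495 : sm gj N4089 = N11983 := trfs L446479 (flp_j L102402) rfl
theorem L446496 : N11983 = N5874 := eqes L446495 (flp_j L50514)
theorem L446497 : N11983 = N5874 := eqc rfl L446496 rfl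
theorem L446500 : sm gi N4089 = N12120 := trfs L446479 L103511 rfl
theorem L446501 : N12120 = N2842 := eqes L446500 L35315
theorem L446502 : N12120 = N2842 := eqc rfl L446501 rfl
theorem L446509 : sm gc N2842 = N8357 := trfs L446502 L103515 rfl
theorem L446510 : N8357 = N4107 := eqes L446509 (flp_c L35456)
theorem L446511 : N8357 = N4107 := eqc rfl L446510 rfl
theorem L446523 : sm gh N2842 = N17559 := trfs L446502 (flp_h L149526) rfl
theorem L446524 : N17559 = N4113 := eqes L446523 L35493
theorem L446525 : N17559 = N4113 := eqc rfl L446524 rfl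
theorem L446529 : sm gb N4113 = N5739 := trfs L446525 L149519 L444726
theorem L446530 : N5739 = N2848 := eqes L446529 L35495
theorem L446531 : N5739 = N2848 := eqc rfl L446530 rfl
theorem L446548 : sm gi N4113 = N12071 := trfs L446525 (flp_i L149517) rfl
theorem L446549 : N12071 = N5959 := eqes L446548 L51190
theorem L446550 : N12071 = N2760 := eqc rfl L446549 L446417
theorem L446566 : sm gh N2760 = N8315 := trfs L446550 (flp_h L103115) rfl
theorem L446567 : N8315 = N3988 := eqes L446566 L34501
theorem L446568 : N8315 = N3988 := eqc rfl L446567 rfl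
theorem L446574 : sm gd N3988 = N12069 := trfs L446568 L103097 rfl
theorem L446575 : N12069 = N5770 := eqes L446574 L49675
theorem L446576 : N12069 = N5770 := eqc rfl L446575 rfl
theorem L446583 : sm gi N3988 = N5757 := trfs L446568 L71309 rfl
theorem L446584 : N5757 = N5771 := eqes L446583 L49679
theorem L446585 : N5771 = N5757 := (eqc rfl L446584 rfl).symm
theorem L446586 : sm ga N5757 = N7485 := trfs L446585 (flp_a L64250) rfl
theorem L446587 : N7485 = N8334 := eqes L446586 (flp_a L71463)
theorem L446588 : N8334 = N7485 := (eqc rfl L446587 rfl).symm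
theorem L446590 : sm gc N5757 = N4121 := trfs L446585 L49681 rfl
theorem L446591 : N4121 = N3982 := eqes L446590 L49580
theorem L446592 : N4121 = N3982 := eqc rfl L446591 rfl
theorem L446593 : sm gd N5757 = N8366 := trfs L446585 (flp_d L71713) rfl
theorem L446594 : N8366 = N8344 := eqes L446593 L71539
theorem L446595 : N8366 = N8344 := eqc rfl L446594 rfl
theorem L446596 : sm ge N5757 = N3991 := trfs L446585 L49683 rfl
theorem L446597 : N3991 = N3980 := eqes L446596 (flp_e L49576)
theorem L446598 : N3991 = N3980 := eqc rfl L446597 rfl
theorem L446601 : sm gj N5757 = N8270 := trfs L446585 (flp_j L70945) rfl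
theorem L446602 : N8270 = N8256 := eqes L446601 (flp_j L70829)
theorem L446603 : N8270 = N8256 := eqc rfl L446602 rfl
theorem L446606 : sm gi N5757 = N3988 := trfs L446585 (flp_i L49679) rfl
theorem L446612 : sm gc N8256 = N5906 := trfs L446603 L70940 rfl
theorem L446613 : N5906 = N5700 := eqes L446612 L70827
theorem L446614 : N5906 = N5700 := eqc rfl L446613 rfl
theorem L446620 : sm gg N8256 = N12001 := trfs L446603 (flp_g L102556) rfl
theorem L446621 : N12001 = N11982 := eqes L446620 L102385
theorem L446622 : N12001 = N11982 := eqc rfl L446621 rfl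
theorem L446623 : sm gh N8256 = N11966 := trfs L446603 (flp_h L102251) rfl
theorem L446624 : N11966 = N11983 := eqes L446623 L102393
theorem L446625 : N11966 = N5874 := eqc rfl L446624 L446497
theorem L446628 : sm ga N5874 = N15629 := trfs L446625 (flp_a L133223) rfl
theorem L446629 : N15629 = N8511 := eqes L446628 (flp_a L72882)
theorem L446630 : N15629 = N8511 := eqc rfl L446629 rfl
theorem L446634 : sm gc N5874 = N8530 := trfs L446625 L102244 rfl
theorem L446635 : N8530 = N8516 := eqes L446634 (flp_c L72933)
theorem L446636 : N8530 = N8262 := eqc rfl L446635 L444664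
theorem L446638 : sm ge N5874 = N8247 := trfs L446625 L102246 rfl
theorem L446639 : N8247 = N4059 := eqes L446638 (flp_e L50510)
theorem L446640 : N8247 = N4059 := eqc rfl L446639 rfl
theorem L446648 : sm gi N5874 = N8244 := trfs L446625 (flp_i L102242) rfl
theorem L446649 : N8244 = N4073 := eqes L446648 L50516
theorem L446650 : N8244 = N4073 := eqc rfl L446649 rfl
theorem L446651 : sm ga N4073 = N10750 := trfs L446650 (flp_a L91901) rfl
theorem L446652 : N10750 = N5887 := eqes L446651 (flp_a L50627)
theorem L446653 : N10750 = N5887 := eqc rfl L446652 rfl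
theorem L446657 : sm gc N4073 = N5880 := trfs L446650 L70719 rfl
theorem L446658 : N5880 = N5892 := eqes L446657 (flp_c L50673)
theorem L446659 : N5892 = N5880 := (eqc rfl L446658 rfl).symm
theorem L446663 : sm gg N4073 = N11964 := trfs L446650 (flp_g L102235) rfl
theorem L446664 : N11964 = N5897 := eqes L446663 L50708
theorem L446665 : N11964 = N5897 := eqc rfl L446664 rfl
theorem L446666 : sm gj N4073 = N5745 := trfs L446650 L70724 rfl
theorem L446667 : N5745 = N2842 := eqes L446666 L35184
theorem L446668 : N5745 = N2842 := eqc rfl L446667 rfl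
theorem L446669 : sm gh N4073 = N5689 := trfs L446650 (flp_h L70717) rfl
theorem L446670 : N5689 = N5898 := eqes L446669 L50715
theorem L446671 : N5898 = N5689 := (eqc rfl L446670 rfl).symm
theorem L446675 : sm gb N5689 = N4079 := trfs L446671 L50717 rfl
theorem L446676 : N4079 = N8238 := eqes L446675 (flp_b L70665)
theorem L446677 : N8238 = N4079 := (eqc rfl L446676 rfl).symm
theorem L446684 : sm gg N5689 = N8556 := trfs L446671 (flp_g L73275) rfl
theorem L446685 : N8556 = N8243 := eqes L446684 L70709
theorem L446686 : N8556 = N8243 := eqc rfl L446685 rfl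
theorem L446690 : sm gh N5689 = N4073 := trfs L446671 (flp_h L50715) rfl
theorem L446692 : sm gi N5689 = N8558 := trfs L446671 L73287 rfl
theorem L446693 : N8558 = N3945 := eqes L446692 L49029
theorem L446694 : N8558 = N3945 := eqc rfl L446693 rfl
theorem L446710 : sm gh N3945 = N12378 := trfs L446694 (flp_h L105642) rfl
theorem L446711 : N12378 = N5706 := eqes L446710 L49167
theorem L446712 : N12378 = N5706 := eqc rfl L446711 rfl
theorem L446726 : sm gg N5706 = N18011 := trfs L446712 (flp_g L153243) rfl
theorem L446727 : N18011 = N8268 := eqes L446726 (flp_g L70930)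
theorem L446728 : N18011 = N8268 := eqc rfl L446727 rfl
theorem L446738 : sm gc N8268 = N11957 := trfs L446728 (flp_c L222368) L444569
theorem L446739 : N11957 = N5904 := eqes L446738 L70926
theorem L446740 : N11957 = N5904 := eqc rfl L446739 rfl
theorem L446754 : sm gi N8268 = N12376 := trfs L446728 (flp_i L153237) rfl
theorem L446755 : N12376 = N12001 := eqes L446754 L102550
theorem L446756 : N12376 = N11982 := eqc rfl L446755 L446622
theorem L446758 : sm gb N11982 = N8528 := trfs L446756 L105618 rfl
theorem L446759 : N8528 = N8546 := eqes L446758 L102387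
theorem L446760 : N8546 = N8528 := (eqc rfl L446759 rfl).symm
theorem L446777 : sm gh N11982 = N8521 := trfs L446756 (flp_h L105616) rfl
theorem L446778 : N8521 = N17425 := eqes L446777 L148410
theorem L446779 : N17425 = N8521 := (eqc rfl L446778 rfl).symm
theorem L446792 : sm gf N8521 = N25362 := trfs L446779 (flp_f L215396) rfl
theorem L446793 : N25362 = N12374 := eqes L446792 L105596
theorem L446794 : N25362 = N12374 := eqc rfl L446793 rfl
theorem L446801 : sm gi N8521 = N25365 := trfs L446779 L215417 rfl
theorem L446802 : N25365 = N5897 := eqes L446801 L72980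
theorem L446803 : N25365 = N5897 := eqc rfl L446802 rfl
theorem L446810 : N17440 = N8528 := L445125.trans L446760
theorem L446822 : sm gh N5897 = N36863 := trfs L446803 (flp_h L312159) rfl
theorem L446823 : N36863 = N8556 := eqes L446822 L73269
theorem L446824 : N36863 = N8243 := eqc rfl L446823 L446686
theorem L446835 : sm gi N8243 = N25293 := trfs L446824 (flp_i L312149) rfl
theorem L446836 : N25293 = N5705 := eqes L446835 L70715
theorem L446837 : N25293 = N5705 := eqc rfl L446836 rfl
theorem L446855 : sm gh N5705 = N17377 := trfs L446837 (flp_h L214774) rfl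
theorem L446856 : N17377 = N8268 := eqes L446855 L70924
theorem L446857 : N17377 = N8268 := eqc rfl L446856 rfl
theorem L446861 : sm gd N8268 = N25289 := trfs L446857 (flp_d L214739) rfl
theorem L446862 : N25289 = N12000 := eqes L446861 L102545
theorem L446863 : N25289 = N12000 := eqc rfl L446862 rfl
theorem L446865 : sm gf N8268 = N25291 := trfs L446857 L214752 rfl
theorem L446866 : N25291 = N11998 := eqes L446865 (flp_f L102532)
theorem L446867 : N25291 = N11998 := eqc rfl L446866 rfl
theorem L446890 : sm gi N11998 = N17423 := trfs L446867 L214758 rfl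
theorem L446891 : N17423 = N17447 := eqes L446890 L148603
theorem L446892 : N17447 = N17423 := (eqc rfl L446891 rfl).symm
theorem L446896 : sm gb N17423 = N25382 := trfs L446892 (flp_b L215575) rfl
theorem L446897 : N25382 = N12412 := eqes L446896 L148394
theorem L446898 : N25382 = N12412 := eqc rfl L446897 rfl
theorem L446902 : sm gd N17423 = N25395 := trfs L446892 (flp_d L215677) rfl
theorem L446903 : N25395 = N25356 := eqes L446902 (flp_d L215344)
theorem L446904 : N25395 = N25356 := eqc rfl L446903 rfl
theorem L446908 : sm gj N17423 = N25392 := trfs L446892 (flp_j L215661) rfl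
theorem L446909 : N25392 = N25361 := eqes L446908 L215380
theorem L446910 : N25392 = N25361 := eqc rfl L446909 rfl
theorem L446911 : sm gh N17423 = N25315 := trfs L446892 (flp_h L214979) rfl
theorem L446912 : N25315 = N25362 := eqes L446911 L215389
theorem L446913 : N25315 = N12374 := eqc rfl L446912 L446794
theorem L446932 : sm gi N12374 = N17393 := trfs L446913 (flp_i L214971) rfl
theorem L446933 : N17393 = N8554 := eqes L446932 L105601
theorem L446934 : N17393 = N8554 := eqc rfl L446933 rfl
theorem L446941 : sm gc N8554 = N12382 := trfs L446934 L148132 rfl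
theorem L446942 : N12382 = N12412 := eqes L446941 (flp_c L105930)
theorem L446943 : N12412 = N12382 := (eqc rfl L446942 rfl).symm
theorem L446951 : sm gh N8554 = N11962 := trfs L446934 (flp_h L148130) rfl
theorem L446952 : N11962 = N12426 := eqes L446951 L106039
theorem L446953 : N12426 = N11962 := (eqc rfl L446952 rfl).symm
theorem L446973 : sm gi N11962 = N18085 := trfs L446953 L153867 rfl
theorem L446974 : N18085 = N8266 := eqes L446973 L102215
theorem L446975 : N18085 = N8266 := eqc rfl L446974 rfl
theorem L446989 : sm gj N8266 = N26337 := trfs L446975 (flp_j L223464) rfl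
theorem L446990 : N26337 = N11997 := eqes L446989 L102520
theorem L446991 : N26337 = N11997 := eqc rfl L446990 rfl
theorem L446996 : sm gb N11997 = N18095 := trfs L446991 L223459 rfl
theorem L446997 : N18095 = N17436 := eqes L446996 (flp_b L148517)
theorem L446998 : N18095 = N17436 := eqc rfl L446997 rfl
theorem L447008 : sm gh N11997 = N38238 := trfs L446991 (flp_h L323573) rfl
theorem L447009 : N38238 = N17445 := eqes L447008 L148589
theorem L447010 : N38238 = N17445 := eqc rfl L447009 rfl
theorem L447018 : sm gi N17445 = N26222 := trfs L447010 (flp_i L323564) rfl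
theorem L447019 : N26222 = N25392 := eqes L447018 L215654
theorem L447020 : N26222 = N25361 := eqc rfl L447019 L446910
theorem L447024 : sm gb N25361 = N18016 := trfs L447020 L222491 rfl
theorem L447025 : N18016 = N18064 := eqes L447024 L215382
theorem L447026 : N18064 = N18016 := (eqc rfl L447025 rfl).symm
theorem L447039 : sm gh N25361 = N18007 := trfs L447020 (flp_h L222489) rfl
theorem L447040 : N18007 = N36965 := eqes L447039 L313045
theorem L447041 : N36965 = N18007 := (eqc rfl L447040 rfl).symm
theorem L447045 : sm gc N18007 = N25380 := trfs L447041 L313049 rfl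
theorem L447046 : N25380 = N26203 := eqes L447045 (flp_c L222337)
theorem L447047 : N26203 = N25380 := (eqc rfl L447046 rfl).symm
theorem L447067 : sm gi N25380 = N18016 := trfs L447047 L222342 L447026
theorem L447068 : N18016 = N36993 := eqes L447067 L313298
theorem L447069 : N36993 = N18016 := (eqc rfl L447068 rfl).symm
theorem L447074 : sm gf N18016 = N25384 := trfs L447069 L313303 rfl
theorem L447075 : N25384 = N12383 := eqes L447074 L153288
theorem L447076 : N25384 = N12383 := eqc rfl L447075 rfl
theorem L447077 : N25382 = N12382 := L446898.trans L446943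
theorem L447100 : sm gi N12383 = N17438 := trfs L447076 (flp_i L215590) rfl
theorem L447101 : N17438 = N18020 := eqes L447100 L153314
theorem L447102 : N18020 = N17438 := (eqc rfl L447101 rfl).symm
theorem L447118 : sm gh N17438 = N12438 := trfs L447102 L153322 rfl
theorem L447119 : N12438 = N11991 := eqes L447118 (flp_h L148530)
theorem L447120 : N12438 = N11991 := eqc rfl L447119 rfl
theorem L447139 : sm gi N11991 = N8563 := trfs L447120 (flp_i L106139) rfl
theorem L447140 : N8563 = N17386 := eqes L447139 (flp_i L148073)
theorem L447141 : N17386 = N8563 := (eqc rfl L447140 rfl).symm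
theorem L447159 : sm gh N8563 = N25306 := trfs L447141 L214896 rfl
theorem L447160 : N25306 = N5903 := eqes L447159 (flp_h L73328)
theorem L447161 : N25306 = N5903 := eqc rfl L447160 rfl
theorem L447170 : sm ge N5903 = N17390 := trfs L447161 L214900 rfl
theorem L447171 : N17390 = N4080 := eqes L447170 L50760
theorem L447172 : N17390 = N4080 := eqc rfl L447171 rfl
theorem L447203 : sm gi N4080 = N12417 := trfs L447172 L445026 rfl
theorem L447204 : N12417 = N5881 := eqes L447203 (flp_i L50580)
theorem L447205 : N12417 = N5881 := eqc rfl L447204 rfl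
theorem L447209 : N17428 = N8523 := L444984.trans L445080
theorem L447220 : sm gj N5881 = N8549 := trfs L447205 L105971 rfl
theorem L447221 : N8549 = N4063 := eqes L447220 (flp_j L50575)
theorem L447222 : N8549 = N4063 := eqc rfl L447221 rfl
theorem L447228 : sm gc N4063 = N5900 := trfs L447222 L73213 rfl
theorem L447229 : N5900 = N5690 := eqes L447228 (flp_c L49034)
theorem L447230 : N5900 = N5690 := eqc rfl L447229 rfl
theorem L447239 : sm gh N4063 = N5893 := trfs L447222 (flp_h L73211) rfl
theorem L447240 : N5893 = N5882 := eqes L447239 L50584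
theorem L447241 : N5893 = N5882 := eqc rfl L447240 rfl
theorem L447244 : sm ga N5882 = N8536 := trfs L447241 (flp_a L73101) rfl
theorem L447245 : N8536 = N7589 := eqes L447244 (flp_a L65180)
theorem L447246 : N8536 = N7589 := eqc rfl L447245 rfl
theorem L447249 : sm gc N5882 = N4074 := trfs L447241 L50680 rfl
theorem L447250 : N4074 = N8246 := eqes L447249 (flp_c L70739)
theorem L447251 : N8246 = N4074 := (eqc rfl L447250 rfl).symm
theorem L447259 : sm gi N5882 = N8264 := trfs L447241 L445132 rfl
theorem L447260 : N8264 = N8532 := eqes L447259 L73067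
theorem L447261 : N8532 = N8264 := (eqc rfl L447260 rfl).symm
theorem L447262 : sm ga N8264 = N11020 := trfs L447261 (flp_a L94310) rfl
theorem L447263 : N11020 = N11979 := eqes L447262 (flp_a L102362)
theorem L447264 : N11979 = N11020 := (eqc rfl L447263 rfl).symm
theorem L447272 : sm gg N8264 = N5883 := trfs L447261 L73071 rfl
theorem L447273 : N5883 = N5702 := eqes L447272 L70898
theorem L447274 : N5883 = N5702 := eqc rfl L447273 rfl
theorem L447276 : sm gh N8264 = N5908 := trfs L447261 L73073 rfl
theorem L447277 : N5908 = N5701 := eqes L447276 (flp_h L70893)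
theorem L447278 : N5908 = N5701 := eqc rfl L447277 rfl
theorem L447288 : sm gd N5701 = N4245 := trfs L447278 L50796 rfl
theorem L447289 : N4245 = N3944 := eqes L447288 L49131
theorem L447290 : N4245 = N3944 := eqc rfl L447289 rfl
theorem L447293 : sm gg N5701 = N4082 := trfs L447278 L50799 rfl
theorem L447294 : N4082 = N3942 := eqes L447293 (flp_g L49127)
theorem L447295 : N4082 = N3942 := eqc rfl L447294 rfl
theorem L447297 : sm gi N5701 = N4081 := trfs L447278 (flp_i L50794) rfl
theorem L447298 : N4081 = N8239 := eqes L447297 (flp_i L70678)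
theorem L447299 : N8239 = N4081 := (eqc rfl L447298 rfl).symm
theorem L447306 : sm gd N4081 = N5688 := trfs L447299 L70676 rfl
theorem L447307 : N5688 = N2937 := eqes L447306 L35250
theorem L447308 : N5688 = N2937 := eqc rfl L447307 rfl
theorem L447311 : sm gg N4081 = N5686 := trfs L447299 (flp_g L70672) rfl
theorem L447312 : N5686 = N2822 := eqes L447311 L35248
theorem L447313 : N5686 = N2822 := eqc rfl L447312 rfl
theorem L447324 : sm gd N2822 = N3934 := trfs L447313 L49001 rfl
theorem L447325 : N3934 = N2038 := eqes L447324 L24503
theorem L447326 : N3934 = N2038 := eqc rfl L447325 rfl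
theorem L447328 : sm gf N2822 = N3933 := trfs L447313 (flp_f L48997) rfl
theorem L447329 : N3933 = N1957 := eqes L447328 L24499
theorem L447330 : N3933 = N1957 := eqc rfl L447329 rfl
theorem L447331 : sm gj N2822 = N3968 := trfs L447313 L49003 rfl
theorem L447332 : N3968 = N1975 := eqes L447331 L24501
theorem L447333 : N3968 = N1975 := eqc rfl L447332 rfl
theorem L447334 : sm gh N2822 = N8240 := trfs L447313 L70681 rfl
theorem L447335 : N8240 = N1956 := eqes L447334 (flp_h L24497)
theorem L447336 : N8240 = N1956 := eqc rfl L447335 rfl
theorem L447353 : sm gj N1956 = N5741 := trfs L447336 L70687 rfl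
theorem L447354 : N5741 = N1369 := eqes L447353 L17071
theorem L447355 : N5741 = N1369 := eqc rfl L447354 rfl
theorem L447360 : sm gb N1369 = N3973 := trfs L447355 L49453 rfl
theorem L447361 : N3973 = N1970 := eqes L447360 (flp_b L17180)
theorem L447362 : N3973 = N1970 := eqc rfl L447361 rfl
theorem L447375 : sm gi N1369 = N4109 := trfs L447355 L71382 L445171
theorem L447376 : N4109 = N1963 := eqes L447375 (flp_i L17130)
theorem L447377 : N4109 = N1963 := eqc rfl L447376 rfl
theorem L447396 : sm gh N1963 = N2840 := trfs L447377 (flp_h L35466) rfl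
theorem L447397 : N2840 = N2833 := eqes L447396 L24590
theorem L447398 : N2840 = N2833 := eqc rfl L447397 rfl
theorem L447401 : sm ga N2833 = N4100 := trfs L447398 (flp_a L35399) rfl
theorem L447402 : N4100 = N3639 := eqes L447401 (flp_a L31540)
theorem L447403 : N4100 = N3639 := eqc rfl L447402 rfl
theorem L447409 : sm ge N2833 = N4107 := trfs L447398 L35454 rfl
theorem L447410 : N4107 = N4095 := eqes L447409 (flp_e L35366)
theorem L447411 : N4107 = N4095 := eqc rfl L447410 rfl
theorem L447412 : sm gf N2833 = N1969 := trfs L447398 (flp_f L24646) rfl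
theorem L447413 : N1969 = N1964 := eqes L447412 L24592
theorem L447414 : N1969 = N1964 := eqc rfl L447413 rfl
theorem L447415 : sm gg N2833 = N4108 := trfs L447398 L35459 rfl
theorem L447416 : N4108 = N4097 := eqes L447415 (flp_g L35381)
theorem L447417 : N4108 = N4097 := eqc rfl L447416 rfl
theorem L447419 : sm ga N4097 = N5937 := trfs L447417 (flp_a L51024) rfl
theorem L447420 : N5937 = N5268 := eqes L447419 (flp_a L45434)
theorem L447421 : N5937 = N5268 := eqc rfl L447420 rfl
theorem L447428 : sm gf N4097 = N2877 := trfs L447417 L35464 rfl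
theorem L447429 : N2877 = N2866 := eqes L447428 L35379
theorem L447430 : N2877 = N2866 := eqc rfl L447429 rfl
theorem L447435 : sm gi N4097 = N5765 := trfs L447417 L445323 rfl
theorem L447436 : N5765 = N5933 := eqes L447435 L50994
theorem L447437 : N5933 = N5765 := (eqc rfl L447436 rfl).symm
theorem L447438 : sm ga N5765 = N7640 := trfs L447437 (flp_a L65634) rfl
theorem L447439 : N7640 = N8342 := eqes L447438 (flp_a L71525)
theorem L447440 : N8342 = N7640 := (eqc rfl L447439 rfl).symm
theorem L447446 : sm gf N5765 = N4148 := trfs L447437 L50997 rfl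
theorem L447447 : N4148 = N4047 := eqes L447446 L49642
theorem L447448 : N4148 = N4047 := eqc rfl L447447 rfl
theorem L447449 : sm gg N5765 = N4098 := trfs L447437 L50999 rfl
theorem L447450 : N4098 = N3984 := eqes L447449 L49644
theorem L447451 : N4098 = N3984 := eqc rfl L447450 rfl
theorem L447455 : sm gh N5765 = N4123 := trfs L447437 L51001 rfl
theorem L447456 : N4123 = N3983 := eqes L447455 (flp_h L49638)
theorem L447457 : N4123 = N3983 := eqc rfl L447456 rfl
theorem L447458 : sm gi N5765 = N4097 := trfs L447437 (flp_i L50994) rfl
theorem L447460 : sm ga N3983 = N5294 := trfs L447457 (flp_a L45642) rfl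
theorem L447461 : N5294 = N5753 := eqes L447460 (flp_a L49547)
theorem L447462 : N5753 = N5294 := (eqc rfl L447461 rfl).symm
theorem L447465 : sm gd N3983 = N2962 := trfs L447457 L35564 rfl
theorem L447466 : N2962 = N2759 := eqes L447465 L34468
theorem L447467 : N2962 = N2759 := eqc rfl L447466 rfl
theorem L447469 : sm gf N3983 = N2891 := trfs L447457 L35566 rfl
theorem L447470 : N2891 = N2798 := eqes L447469 L34470
theorem L447471 : N2891 = N2798 := eqc rfl L447470 rfl
theorem L447472 : sm gg N3983 = N2851 := trfs L447457 L35568 rfl
theorem L447473 : N2851 = N2757 := eqes L447472 (flp_g L34464)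
theorem L447474 : N2851 = N2757 := eqc rfl L447473 rfl
theorem L447478 : sm gi N3983 = N2850 := trfs L447457 (flp_i L35562) rfl
theorem L447479 : N2850 = N5740 := eqes L447478 (flp_i L49447)
theorem L447480 : N5740 = N2850 := (eqc rfl L447479 rfl).symm
theorem L447487 : sm gd N2850 = N3970 := trfs L447480 L49445 rfl
theorem L447488 : N3970 = N2055 := eqes L447487 L24721
theorem L447489 : N3970 = N2055 := eqc rfl L447488 rfl
theorem L447491 : sm gf N2850 = N4022 := trfs L447480 L49449 rfl
theorem L447492 : N4022 = N2003 := eqes L447491 L24717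
theorem L447493 : N4022 = N2003 := eqc rfl L447492 rfl
theorem L447495 : sm gj N2850 = N8322 := trfs L447480 L71364 rfl
theorem L447496 : N8322 = N4122 := eqes L447495 (flp_j L35558)
theorem L447497 : N8322 = N4122 := eqc rfl L447496 rfl
theorem L447499 : sm gi N2850 = N3983 := trfs L447480 L49447 rfl
theorem L447507 : sm gd N4122 = N5743 := trfs L447497 L71368 rfl
theorem L447508 : N5743 = N2961 := eqes L447507 L35560
theorem L447509 : N5743 = N2961 := eqc rfl L447508 rfl
theorem L447511 : sm gf N4122 = N5823 := trfs L447497 L71370 rfl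
theorem L447512 : N5823 = N2890 := eqes L447511 L35556
theorem L447513 : N5823 = N2890 := eqc rfl L447512 rfl
theorem L447521 : sm gb N2890 = N4028 := trfs L447513 L50100 rfl
theorem L447522 : N4028 = N4174 := eqes L447521 (flp_b L35961)
theorem L447523 : N4174 = N4028 := (eqc rfl L447522 rfl).symm
theorem L447525 : sm gd N2890 = N4025 := trfs L447513 L50102 rfl
theorem L447526 : N4025 = N2071 := eqes L447525 L25022
theorem L447527 : N4025 = N2071 := eqc rfl L447526 rfl
theorem L447536 : sm gi N2890 = N4046 := trfs L447513 L50104 rfl
theorem L447537 : N4046 = N4180 := eqes L447536 L36003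
theorem L447538 : N4180 = N4046 := (eqc rfl L447537 rfl).symm
theorem L447539 : sm ga N4046 = N5351 := trfs L447538 (flp_a L46121) rfl
theorem L447540 : N5351 = N5842 := eqes L447539 (flp_a L50250)
theorem L447541 : N5842 = N5351 := (eqc rfl L447540 rfl).symm
theorem L447544 : sm gd N4046 = N2980 := trfs L447538 L36005 rfl
theorem L447545 : N2980 = N2801 := eqes L447544 L34958
theorem L447546 : N2980 = N2801 := eqc rfl L447545 rfl
theorem L447553 : sm gh N4046 = N6005 := trfs L447538 (flp_h L51561) rfl
theorem L447554 : N6005 = N5859 := eqes L447553 L50384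
theorem L447555 : N6005 = N5859 := eqc rfl L447554 rfl
theorem L447556 : sm gi N4046 = N2890 := trfs L447538 (flp_i L36003) rfl
theorem L447558 : sm ga N5859 = N7712 := trfs L447555 (flp_a L66241) rfl
theorem L447559 : N7712 = N8475 := eqes L447558 (flp_a L72589)
theorem L447560 : N8475 = N7712 := (eqc rfl L447559 rfl).symm
theorem L447573 : sm gi N5859 = N4147 := trfs L447555 (flp_i L51555) rfl
theorem L447574 : N4147 = N4164 := eqes L447573 (flp_i L445491)
theorem L447575 : N4164 = N4147 := (eqc rfl L447574 rfl).symm
theorem L447576 : sm ga N4147 = N6014 := trfs L447575 (flp_a L51622) rfl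
theorem L447577 : N6014 = N5318 := eqes L447576 (flp_a L45856)
theorem L447578 : N6014 = N5318 := eqc rfl L447577 rfl
theorem L447590 : sm gh N4147 = N6033 := trfs L447575 L51771 rfl
theorem L447591 : N6033 = N2865 := eqes L447590 (flp_h L35757)
theorem L447592 : N6033 = N2865 := eqc rfl L447591 rfl
theorem L447593 : sm gi N4147 = N5859 := trfs L447575 L445491 rfl
theorem L447608 : sm gj N2865 = N4165 := trfs L447592 L51776 rfl
theorem L447609 : N4165 = N1985 := eqes L447608 (flp_j L24838)
theorem L447610 : N4165 = N1985 := eqc rfl L447609 rfl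
theorem L447618 : sm gc N1985 = N2884 := trfs L447610 L35892 rfl
theorem L447619 : N2884 = N2787 := eqes L447618 (flp_c L24222)
theorem L447620 : N2884 = N2787 := eqc rfl L447619 rfl
theorem L447632 : sm gi N1985 = N5824 := trfs L447610 L51785 L445357
theorem L447633 : N5824 = N1387 := eqes L447632 L17299
theorem L447634 : N5824 = N1387 := eqc rfl L447633 rfl
theorem L447638 : sm gb N1387 = N4029 := trfs L447634 L50109 rfl
theorem L447639 : N4029 = N1996 := eqes L447638 (flp_b L17377)
theorem L447640 : N4029 = N1996 := eqc rfl L447639 rfl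
theorem L447649 : sm gg N1387 = N4023 := trfs L447634 L50111 rfl
theorem L447650 : N4023 = N962 := eqes L447649 (flp_g L12138)
theorem L447651 : N4023 = N962 := eqc rfl L447650 rfl
theorem L447659 : sm gb N962 = N2788 := trfs L447651 L34778 rfl
theorem L447660 : N2788 = N1383 := eqes L447659 (flp_b L12110)
theorem L447661 : N2788 = N1383 := eqc rfl L447660 rfl
theorem L447675 : sm gh N962 = N2783 := trfs L447651 (flp_h L34776) rfl
theorem L447676 : N2783 = N1388 := eqes L447675 L12142
theorem L447677 : N2783 = N1388 := eqc rfl L447676 rfl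
theorem L447678 : sm gi N962 = N5825 := trfs L447651 L50113 rfl
theorem L447679 : N5825 = N1376 := eqes L447678 (flp_i L12062)
theorem L447680 : N5825 = N1376 := eqc rfl L447679 rfl
theorem L447684 : sm gb N1376 = N4030 := trfs L447680 L50115 rfl
theorem L447685 : N4030 = N1981 := eqes L447684 (flp_b L17263)
theorem L447686 : N4030 = N1981 := eqc rfl L447685 rfl
theorem L447701 : sm gh N1376 = N4048 := trfs L447680 L50120 rfl
theorem L447702 : N4048 = N1986 := eqes L447701 L17301
theorem L447703 : N4048 = N1986 := eqc rfl L447702 rfl
theorem L447707 : sm gb N1986 = N2806 := trfs L447703 L34970 rfl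
theorem L447708 : N2806 = N2860 := eqes L447707 (flp_b L24798)
theorem L447709 : N2860 = N2806 := (eqc rfl L447708 rfl).symm
theorem L447714 : sm ge N1986 = N5858 := trfs L447703 (flp_e L50380) rfl
theorem L447715 : N5858 = N2864 := eqes L447714 (flp_e L24834)
theorem L447716 : N5858 = N2864 := eqc rfl L447715 rfl
theorem L447717 : sm gf N1986 = N2800 := trfs L447703 L34973 rfl
theorem L447718 : N2800 = N1377 := eqes L447717 L17303
theorem L447719 : N2800 = N1377 := eqc rfl L447718 rfl
theorem L447720 : N5860 = N2866 := L445315.trans L447430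
theorem L447723 : sm gi N1986 = N2799 := trfs L447703 (flp_i L34968) rfl
theorem L447724 : N2799 = N2867 := eqes L447723 L24850
theorem L447725 : N2867 = N2799 := (eqc rfl L447724 rfl).symm
theorem L447726 : sm ga N2799 = N3673 := trfs L447725 (flp_a L31828) rfl
theorem L447727 : N3673 = N4036 := eqes L447726 (flp_a L34879)
theorem L447728 : N4036 = N3673 := (eqc rfl L447727 rfl).symm
theorem L447732 : sm gc N2799 = N1981 := trfs L447725 (flp_c L34834) L447686
theorem L447733 : N1981 = N4041 := eqes L447732 (flp_c L34919)
theorem L447734 : N4041 = N1981 := (eqc rfl L447733 rfl).symm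
theorem L447736 : sm ge N2799 = N4146 := trfs L447725 (flp_e L35751) rfl
theorem L447737 : N4146 = N4045 := eqes L447736 (flp_e L34950)
theorem L447738 : N4146 = N4045 := eqc rfl L447737 rfl
theorem L447739 : sm gf N2799 = N1987 := trfs L447725 L24853 rfl
theorem L447740 : N1987 = N1941 := eqes L447739 L24312
theorem L447741 : N1987 = N1941 := eqc rfl L447740 rfl
theorem L447744 : sm gh N2799 = N2004 := trfs L447725 L24856 rfl
theorem L447745 : N2004 = N1940 := eqes L447744 (flp_h L24308)
theorem L447746 : N2004 = N1940 := eqc rfl L447745 rfl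
theorem L447747 : sm gi N2799 = N1986 := trfs L447725 (flp_i L24850) rfl
theorem L447749 : sm ga N1940 = N2558 := trfs L447746 (flp_a L22273) rfl
theorem L447750 : N2558 = N2792 := eqes L447749 (flp_a L24260)
theorem L447751 : N2792 = N2558 := (eqc rfl L447750 rfl).symm
theorem L447755 : sm gc N1940 = N2806 := trfs L447746 (flp_c L24362) rfl
theorem L447756 : N2806 = N2795 := eqes L447755 (flp_c L24283)
theorem L447757 : N2806 = N2795 := eqc rfl L447756 rfl
theorem L447758 : sm gd N1940 = N1440 := trfs L447746 L17434 rfl
theorem L447759 : N1440 = N1348 := eqes L447758 L16939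
theorem L447760 : N1440 = N1348 := eqc rfl L447759 rfl
theorem L447761 : sm ge N1940 = N2889 := trfs L447746 (flp_e L25013) rfl
theorem L447762 : N2889 = N2797 := eqes L447761 L24295
theorem L447763 : N2889 = N2797 := eqc rfl L447762 rfl
theorem L447764 : sm gf N1940 = N1389 := trfs L447746 L17436 rfl
theorem L447765 : N1389 = N1347 := eqes L447764 (flp_f L16935)
theorem L447766 : N1389 = N1347 := eqc rfl L447765 rfl
theorem L447771 : sm ga N1347 = N1773 := trfs L447766 (flp_a L15521) rfl
theorem L447772 : N1773 = N1937 := eqes L447771 (flp_a L16916)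
theorem L447773 : N1937 = N1773 := (eqc rfl L447772 rfl).symm
theorem L447777 : sm gc N1347 = N1946 := trfs L447766 (flp_c L16979) rfl
theorem L447778 : N1946 = N1939 := eqes L447777 L16928
theorem L447779 : N1946 = N1939 := eqc rfl L447778 rfl
theorem L447780 : sm gd N1347 = N1001 := trfs L447766 L12151 rfl
theorem L447781 : N1001 = N937 := eqes L447780 (flp_d L11819)
theorem L447782 : N1001 = N937 := eqc rfl L447781 rfl
theorem L447784 : sm gg N1347 = N1976 := trfs L447766 (flp_g L17224) rfl
theorem L447785 : N1976 = N1914 := eqes L447784 (flp_g L16742)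
theorem L447786 : N1976 = N1914 := eqc rfl L447785 rfl
theorem L447789 : sm gi N1347 = N963 := trfs L447766 (flp_i L12149) rfl
theorem L447790 : N963 = N1931 := eqes L447789 (flp_i L16871)
theorem L447791 : N1931 = N963 := (eqc rfl L447790 rfl).symm
theorem L447795 : sm gb N963 = N1343 := trfs L447791 L16868 rfl
theorem L447796 : N1343 = N1384 := eqes L447795 (flp_b L12117)
theorem L447797 : N1384 = N1343 := (eqc rfl L447796 rfl).symm
theorem L447801 : sm gd N963 = N1342 := trfs L447791 (flp_d L16866) rfl
theorem L447802 : N1342 = N690 := eqes L447801 L8471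
theorem L447803 : N1342 = N690 := eqc rfl L447802 rfl
theorem L447806 : sm gg N963 = N2748 := trfs L447791 (flp_g L23922) rfl
theorem L447807 : N2748 = N1370 := eqes L447806 (flp_g L12008)
theorem L447808 : N2748 = N1370 := eqc rfl L447807 rfl
theorem L447811 : sm gi N963 = N1347 := trfs L447791 L16871 rfl
theorem L447816 : sm gb N1370 = N1910 := trfs L447808 L23920 rfl
theorem L447817 : N1910 = N1971 := eqes L447816 (flp_b L17186)
theorem L447818 : N1971 = N1910 := (eqc rfl L447817 rfl).symm
theorem L447819 : sm gc N1370 = N3967 := trfs L447808 L34339 rfl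
theorem L447820 : N3967 = N1917 := eqes L447819 (flp_c L16759)
theorem L447821 : N3967 = N1917 := eqc rfl L447820 rfl
theorem L447822 : sm gd N1370 = N1909 := trfs L447808 (flp_d L23918) rfl
theorem L447823 : N1909 = N990 := eqes L447822 L12010
theorem L447824 : N1909 = N990 := eqc rfl L447823 rfl
theorem L447834 : sm gb N990 = N1328 := trfs L447824 L16699 rfl
theorem L447835 : N1328 = N1421 := eqes L447834 (flp_b L12415)
theorem L447836 : N1421 = N1328 := (eqc rfl L447835 rfl).symm
theorem L447838 : sm ge N990 = N1327 := trfs L447824 (flp_e L16697) rfl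
theorem L447839 : N1327 = N705 := eqes L447838 L8687
theorem L447840 : N1327 = N705 := eqc rfl L447839 rfl
theorem L447841 : sm gf N990 = N2749 := trfs L447824 L23927 rfl
theorem L447842 : N2749 = N1425 := eqes L447841 (flp_f L12448)
theorem L447843 : N2749 = N1425 := eqc rfl L447842 rfl
theorem L447845 : sm gj N990 = N2726 := trfs L447824 (flp_j L23743) rfl
theorem L447846 : N2726 = N1414 := eqes L447845 (flp_j L12363)
theorem L447847 : N2726 = N1414 := eqc rfl L447846 rfl
theorem L447851 : sm gi N990 = N1331 := trfs L447824 L16704 rfl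
theorem L447852 : N1331 = N1426 := eqes L447851 L12450
theorem L447853 : N1426 = N1331 := (eqc rfl L447852 rfl).symm
theorem L447854 : sm ga N1331 = N1810 := trfs L447853 (flp_a L15853) rfl
theorem L447855 : N1810 = N1913 := eqes L447854 (flp_a L16732)
theorem L447856 : N1913 = N1810 := (eqc rfl L447855 rfl).symm
theorem L447862 : sm ge N1331 = N1018 := trfs L447853 L12453 rfl
theorem L447863 : N1018 = N926 := eqes L447862 (flp_e L11696)
theorem L447864 : N1018 = N926 := eqc rfl L447863 rfl
theorem L447865 : sm gf N1331 = N2056 := trfs L447853 (flp_f L17868) rfl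
theorem L447866 : N2056 = N1915 := eqes L447865 L16745
theorem L447867 : N2056 = N1915 := eqc rfl L447866 rfl
theorem L447869 : sm gj N1331 = N2039 := trfs L447853 (flp_j L17732) rfl
theorem L447870 : N2039 = N1898 := eqes L447869 (flp_j L16616)
theorem L447871 : N2039 = N1898 := eqc rfl L447870 rfl
theorem L447873 : sm gi N1331 = N990 := trfs L447853 (flp_i L12450) rfl
theorem L447875 : sm ga N1898 = N2593 := trfs L447871 (flp_a L22594) rfl
theorem L447876 : N2593 = N2730 := eqes L447875 (flp_a L23775)
theorem L447877 : N2730 = N2593 := (eqc rfl L447876 rfl).symm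
theorem L447882 : sm gd N1898 = N2823 := trfs L447871 (flp_d L24507) rfl
theorem L447883 : N2823 = N2731 := eqes L447882 L23782
theorem L447884 : N2823 = N2731 := eqc rfl L447883 rfl
theorem L447885 : sm ge N1898 = N1451 := trfs L447871 L17729 rfl
theorem L447886 : N1451 = N1320 := eqes L447885 (flp_e L16610)
theorem L447887 : N1451 = N1320 := eqc rfl L447886 rfl
theorem L447888 : sm gf N1898 = N2938 := trfs L447871 (flp_f L25427) rfl
theorem L447889 : N2938 = N2732 := eqes L447888 L23790
theorem L447890 : N2938 = N2732 := eqc rfl L447889 rfl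
theorem L447895 : sm ga N2732 = N3744 := trfs L447890 (flp_a L32452) rfl
theorem L447896 : N3744 = N3940 := eqes L447895 (flp_a L34125)
theorem L447897 : N3940 = N3744 := (eqc rfl L447896 rfl).symm
theorem L447903 : sm ge N2732 = N4243 := trfs L447890 (flp_e L36551) rfl
theorem L447904 : N4243 = N3877 := eqes L447903 (flp_e L33629)
theorem L447905 : N4243 = N3877 := eqc rfl L447904 rfl
theorem L447911 : sm ga N3877 = N5414 := trfs L447905 (flp_a L46703) rfl
theorem L447912 : N5414 = N5598 := eqes L447911 (flp_a L48305)
theorem L447913 : N5598 = N5414 := (eqc rfl L447912 rfl).symm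
theorem L447921 : sm gf N3877 = N3000 := trfs L447905 L36553 rfl
theorem L447922 : N3000 = N2688 := eqes L447921 (flp_f L33621)
theorem L447923 : N3000 = N2688 := eqc rfl L447922 rfl
theorem L447927 : sm gj N3877 = N2960 := trfs L447905 L36555 rfl
theorem L447928 : N2960 = N2714 := eqes L447927 L33626
theorem L447929 : N2960 = N2714 := eqc rfl L447928 rfl
theorem L447931 : sm gi N3877 = N2935 := trfs L447905 (flp_i L36548) rfl
theorem L447932 : N2935 = N5592 := eqes L447931 (flp_i L48259)
theorem L447933 : N5592 = N2935 := (eqc rfl L447932 rfl).symm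
theorem L447937 : sm gb N2935 = N3873 := trfs L447933 L48254 rfl
theorem L447938 : N3873 = N4235 := eqes L447937 (flp_b L36483)
theorem L447939 : N4235 = N3873 := (eqc rfl L447938 rfl).symm
theorem L447941 : sm gd N2935 = N8094 := trfs L447933 (flp_d L69532) rfl
theorem L447942 : N8094 = N4242 := eqes L447941 L36541
theorem L447943 : N8094 = N4242 := eqc rfl L447942 rfl
theorem L447945 : sm gf N2935 = N3871 := trfs L447933 (flp_f L48252) rfl
theorem L447946 : N3871 = N2084 := eqes L447945 L25405
theorem L447947 : N3871 = N2084 := eqc rfl L447946 rfl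
theorem L447948 : sm gg N2935 = N8096 := trfs L447933 L69545 rfl
theorem L447949 : N8096 = N4241 := eqes L447948 (flp_g L36539)
theorem L447950 : N8096 = N4241 := eqc rfl L447949 rfl
theorem L447951 : sm gj N2935 = N3906 := trfs L447933 L48257 rfl
theorem L447952 : N3906 = N2053 := eqes L447951 L25407
theorem L447953 : N3906 = N2053 := eqc rfl L447952 rfl
theorem L447954 : sm gh N2935 = N8086 := trfs L447933 (flp_h L69462) rfl
theorem L447955 : N8086 = N2036 := eqes L447954 (flp_h L25400)
theorem L447956 : N8086 = N2036 := eqc rfl L447955 rfl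
theorem L447957 : sm gi N2935 = N3877 := trfs L447933 L48259 rfl
theorem L447962 : sm gb N2036 = N5588 := trfs L447956 L69457 rfl
theorem L447963 : N5588 = N2929 := eqes L447962 (flp_b L25349)
theorem L447964 : N5588 = N2929 := eqc rfl L447963 rfl
theorem L447976 : sm gj N2036 = N5636 := trfs L447956 L69460 rfl
theorem L447977 : N5636 = N1423 := eqes L447976 L17706
theorem L447978 : N5636 = N1423 := eqc rfl L447977 rfl
theorem L447983 : sm gb N1423 = N3902 := trfs L447978 L48599 rfl
theorem L447984 : N3902 = N2047 := eqes L447983 (flp_b L17796)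
theorem L447985 : N3902 = N2047 := eqc rfl L447984 rfl
theorem L447994 : sm gg N1423 = N8162 := trfs L447978 L70058 rfl
theorem L447995 : N8162 = N2052 := eqes L447994 L17835
theorem L447996 : N8162 = N2052 := eqc rfl L447995 rfl
theorem L448002 : sm gb N2052 = N5639 := trfs L447996 L70060 rfl
theorem L448003 : N5639 = N2952 := eqes L448002 (flp_b L25542)
theorem L448004 : N5639 = N2952 := eqc rfl L448003 rfl
theorem L448014 : sm gh N2052 = N5646 := trfs L447996 L70065 rfl
theorem L448015 : N5646 = N2958 := eqes L448014 L25589
theorem L448016 : N5646 = N2958 := eqc rfl L448015 rfl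
theorem L448021 : sm gb N2958 = N3909 := trfs L448016 L48677 rfl
theorem L448022 : N3909 = N4268 := eqes L448021 (flp_b L36759)
theorem L448023 : N4268 = N3909 := (eqc rfl L448022 rfl).symm
theorem L448031 : sm gj N2958 = N8178 := trfs L448016 L70182 rfl
theorem L448032 : N8178 = N4273 := eqes L448031 (flp_j L36805)
theorem L448033 : N8178 = N4273 := eqc rfl L448032 rfl
theorem L448034 : sm gi N2958 = N3916 := trfs L448016 L48682 rfl
theorem L448035 : N3916 = N4275 := eqes L448034 L36813
theorem L448036 : N4275 = N3916 := (eqc rfl L448035 rfl).symm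
theorem L448037 : sm ga N3916 = N5446 := trfs L448036 (flp_a L46985) rfl
theorem L448038 : N5446 = N5655 := eqes L448037 (flp_a L48744)
theorem L448039 : N5655 = N5446 := (eqc rfl L448038 rfl).symm
theorem L448044 : sm gd N3916 = N6180 := trfs L448036 (flp_d L53010) rfl
theorem L448045 : N6180 = N5659 := eqes L448044 (flp_d L48775)
theorem L448046 : N6180 = N5659 := eqc rfl L448045 rfl
theorem L448050 : sm gj N3916 = N6178 := trfs L448036 (flp_j L52998) rfl
theorem L448051 : N6178 = N5662 := eqes L448050 L48792
theorem L448052 : N6178 = N5662 := eqc rfl L448051 rfl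
theorem L448054 : sm gi N3916 = N2958 := trfs L448036 (flp_i L36813) rfl
theorem L448066 : sm ge N5662 = N4278 := trfs L448052 L52995 rfl
theorem L448067 : N4278 = N3986 := eqes L448066 L48797
theorem L448068 : N4278 = N3986 := eqc rfl L448067 rfl
theorem L448070 : sm gg N5662 = N8888 := trfs L448052 (flp_g L75987) rfl
theorem L448071 : N8888 = N8112 := eqes L448070 (flp_g L69684)
theorem L448072 : N8888 = N8112 := eqc rfl L448071 rfl
theorem L448083 : sm gd N8112 = N12897 := trfs L448072 (flp_d L109890) rfl
theorem L448084 : N12897 = N11763 := eqes L448083 (flp_d L100630)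
theorem L448085 : N12897 = N11763 := eqc rfl L448084 rfl
theorem L448086 : sm ge N8112 = N6136 := trfs L448072 L75985 rfl
theorem L448087 : N6136 = N5704 := eqes L448086 L69681
theorem L448088 : N6136 = N5704 := eqc rfl L448087 rfl
theorem L448089 : sm gf N8112 = N12892 := trfs L448072 (flp_f L109852) rfl
theorem L448090 : N12892 = N11676 := eqes L448089 (flp_f L99893)
theorem L448091 : N12892 = N11676 := eqc rfl L448090 rfl
theorem L448094 : sm gi N8112 = N6131 := trfs L448072 (flp_i L75982) rfl
theorem L448095 : N6131 = N11742 := eqes L448094 (flp_i L100460)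
theorem L448096 : N11742 = N6131 := (eqc rfl L448095 rfl).symm
theorem L448115 : sm gh N6131 = N17039 := trfs L448096 (flp_h L145268) rfl
theorem L448116 : N17039 = N4240 := eqes L448115 (flp_h L52605)
theorem L448117 : N17039 = N4240 := eqc rfl L448116 rfl
theorem L448123 : sm gb N4240 = N11731 := trfs L448117 L145263 rfl
theorem L448124 : N11731 = N6123 := eqes L448123 (flp_b L52535)
theorem L448125 : N11731 = N6123 := eqc rfl L448124 rfl
theorem L448131 : sm gf N4240 = N24611 := trfs L448117 (flp_f L209165) rfl
theorem L448132 : N24611 = N6129 := eqes L448131 (flp_f L52593)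
theorem L448133 : N24611 = N6129 := eqc rfl L448132 rfl
theorem L448147 : sm gj N6129 = N16922 := trfs L448133 (flp_j L209159) rfl
theorem L448148 : N16922 = N4239 := eqes L448147 (flp_j L52588)
theorem L448149 : N16922 = N4239 := eqc rfl L448148 rfl
theorem L448155 : sm gb N4239 = N11653 := trfs L448149 L144270 rfl
theorem L448156 : N11653 = N6122 := eqes L448155 (flp_b L52526)
theorem L448157 : N11653 = N6122 := eqc rfl L448156 rfl
theorem L448165 : sm gh N4239 = N11660 := trfs L448149 L144274 rfl
theorem L448166 : N11660 = N6130 := eqes L448165 L52597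
theorem L448167 : N11660 = N6130 := eqc rfl L448166 rfl
theorem L448181 : sm gg N6130 = N8042 := trfs L448167 (flp_g L99753) rfl
theorem L448182 : N8042 = N4324 := eqes L448181 L52603
theorem L448183 : N8042 = N4324 := eqc rfl L448182 rfl
theorem L448185 : sm gi N6130 = N8052 := trfs L448167 L99759 rfl
theorem L448186 : N8052 = N8886 := eqes L448185 L75966
theorem L448187 : N8886 = N8052 := (eqc rfl L448186 rfl).symm
theorem L448200 : sm gg N8052 = N6247 := trfs L448187 L75972 rfl
theorem L448201 : N6247 = N5563 := eqes L448200 (flp_g L69165)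
theorem L448202 : N6247 = N5563 := eqc rfl L448201 rfl
theorem L448207 : sm ga N5563 = N7954 := trfs L448202 (flp_a L68345) rfl
theorem L448208 : N7954 = N8048 := eqes L448207 (flp_a L69135)
theorem L448209 : N8048 = N7954 := (eqc rfl L448208 rfl).symm
theorem L448218 : sm gf N5563 = N4326 := trfs L448202 L53583 rfl
theorem L448219 : N4326 = N3851 := eqes L448218 (flp_f L48000)
theorem L448220 : N4326 = N3851 := eqc rfl L448219 rfl
theorem L448225 : sm ga N3851 = N5497 := trfs L448220 (flp_a L47439) rfl
theorem L448226 : N5497 = N5561 := eqes L448225 (flp_a L47985)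
theorem L448227 : N5561 = N5497 := (eqc rfl L448226 rfl).symm
theorem L448235 : sm ge N3851 = N3001 := trfs L448220 L37251 rfl
theorem L448236 : N3001 = N2671 := eqes L448235 (flp_e L33395)
theorem L448237 : N3001 = N2671 := eqc rfl L448236 rfl
theorem L448241 : sm gi N3851 = N2998 := trfs L448220 (flp_i L37248) rfl
theorem L448242 : N2998 = N5557 := eqes L448241 (flp_i L47955)
theorem L448243 : N5557 = N2998 := (eqc rfl L448242 rfl).symm
theorem L448247 : sm gb N2998 = N3848 := trfs L448243 L47949 rfl
theorem L448248 : N3848 = N4320 := eqes L448247 (flp_b L37200)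
theorem L448249 : N4320 = N3848 := (eqc rfl L448248 rfl).symm
theorem L448251 : sm gd N2998 = N8041 := trfs L448243 L69072 rfl
theorem L448252 : N8041 = N4325 := eqes L448251 L37241
theorem L448253 : N8041 = N4325 := eqc rfl L448252 rfl
theorem L448254 : sm ge N2998 = N3847 := trfs L448243 (flp_e L47947) rfl
theorem L448255 : N3847 = N2085 := eqes L448254 L25928
theorem L448256 : N3847 = N2085 := eqc rfl L448255 rfl
theorem L448260 : sm gh N2998 = N8036 := trfs L448243 (flp_h L69035) rfl
theorem L448261 : N8036 = N2083 := eqes L448260 (flp_h L25925)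
theorem L448262 : N8036 = N2083 := eqc rfl L448261 rfl
theorem L448263 : sm gi N2998 = N3851 := trfs L448243 L47955 rfl
theorem L448268 : sm gb N2083 = N5554 := trfs L448262 L69029 rfl
theorem L448269 : N5554 = N2993 := eqes L448268 (flp_b L25884)
theorem L448270 : N5554 = N2993 := eqc rfl L448269 rfl
theorem L448273 : sm ge N2083 = N5553 := trfs L448262 (flp_e L69027) rfl
theorem L448274 : N5553 = N1449 := eqes L448273 L18096
theorem L448275 : N5553 = N1449 := eqc rfl L448274 rfl
theorem L448283 : sm gb N1449 = N3845 := trfs L448275 (flp_b L47909) rfl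
theorem L448284 : N3845 = N2080 := eqes L448283 (flp_b L18067)
theorem L448285 : N3845 = N2080 := eqc rfl L448284 rfl
theorem L448291 : sm gg N1449 = N3867 := trfs L448275 L47912 rfl
theorem L448292 : N3867 = N1008 := eqes L448291 (flp_g L12643)
theorem L448293 : N3867 = N1008 := eqc rfl L448292 rfl
theorem L448300 : sm gb N1008 = N2682 := trfs L448293 (flp_b L33532) rfl
theorem L448301 : N2682 = N1445 := eqes L448300 (flp_b L12610)
theorem L448302 : N2682 = N1445 := eqc rfl L448301 rfl
theorem L448314 : sm gh N1008 = N2684 := trfs L448293 L33538 rfl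
theorem L448315 : N2684 = N1450 := eqes L448314 L12651
theorem L448316 : N2684 = N1450 := eqc rfl L448315 rfl
theorem L448321 : sm gb N1450 = N1867 := trfs L448316 (flp_b L23398) rfl
theorem L448322 : N1867 = N2081 := eqes L448321 (flp_b L18076)
theorem L448323 : N2081 = N1867 := (eqc rfl L448322 rfl).symm
theorem L448327 : sm gf N1450 = N1894 := trfs L448316 L23401 rfl
theorem L448328 : N1894 = N1009 := eqes L448327 L12654
theorem L448329 : N1894 = N1009 := eqc rfl L448328 rfl
theorem L448331 : sm gj N1450 = N1882 := trfs L448316 L23403 rfl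
theorem L448332 : N1882 = N1017 := eqes L448331 L12656
theorem L448333 : N1882 = N1017 := eqc rfl L448332 rfl
theorem L448334 : sm gi N1450 = N1869 := trfs L448316 L23405 rfl
theorem L448335 : N1869 = N2086 := eqes L448334 L18115
theorem L448336 : N2086 = N1869 := (eqc rfl L448335 rfl).symm
theorem L448337 : sm ga N1869 = N2640 := trfs L448336 (flp_a L23017) rfl
theorem L448338 : N2640 = N2687 := eqes L448337 L23426
theorem L448339 : N2687 = N2640 := (eqc rfl L448338 rfl).symm
theorem L448348 : sm gj N1869 = N1461 := trfs L448336 L18121 rfl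
theorem L448349 : N1461 = N1312 := eqes L448348 L16379
theorem L448350 : N1461 = N1312 := eqc rfl L448349 rfl
theorem L448352 : sm gi N1869 = N1450 := trfs L448336 (flp_i L18115) rfl
theorem L448354 : sm ga N1312 = N1845 := trfs L448350 (flp_a L16165) rfl
theorem L448355 : N1845 = N1885 := eqes L448354 L16504
theorem L448356 : N1885 = N1845 := (eqc rfl L448355 rfl).symm
theorem L448362 : sm ge N1312 = N2100 := trfs L448350 (flp_e L18228) rfl
theorem L448363 : N2100 = N1886 := eqes L448362 L16512
theorem L448364 : N2100 = N1886 := eqc rfl L448363 rfl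
theorem L448370 : sm ga N1886 = N2654 := trfs L448364 (flp_a L23136) rfl
theorem L448371 : N2654 = N2712 := eqes L448370 (flp_a L23627)
theorem L448372 : N2712 = N2654 := (eqc rfl L448371 rfl).symm
theorem L448377 : sm gd N1886 = N3019 := trfs L448364 (flp_d L26096) rfl
theorem L448378 : N3019 = N2713 := eqes L448377 L23632
theorem L448379 : N3019 = N2713 := eqc rfl L448378 rfl
theorem L448384 : sm gi N1886 = N1460 := trfs L448364 (flp_i L18225) rfl
theorem L448385 : N1460 = N2708 := eqes L448384 (flp_i L23599)
theorem L448386 : N2708 = N1460 := (eqc rfl L448385 rfl).symm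
theorem L448390 : sm gb N1460 = N1883 := trfs L448386 L23595 rfl
theorem L448391 : N1883 = N2097 := eqes L448390 (flp_b L18206)
theorem L448392 : N2097 = N1883 := (eqc rfl L448391 rfl).symm
theorem L448394 : sm gd N1460 = N3905 := trfs L448386 L33841 rfl
theorem L448395 : N3905 = N2099 := eqes L448394 L18220
theorem L448396 : N3905 = N2099 := eqc rfl L448395 rfl
theorem L448402 : sm gi N1460 = N1886 := trfs L448386 L23599 rfl
theorem L448407 : sm gb N2099 = N2709 := trfs L448396 L33843 rfl
theorem L448408 : N2709 = N3016 := eqes L448407 (flp_b L26075)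
theorem L448409 : N3016 = N2709 := (eqc rfl L448408 rfl).symm
theorem L448410 : sm gc N2099 = N5643 := trfs L448396 L48653 rfl
theorem L448411 : N5643 = N3018 := eqes L448410 L26088
theorem L448412 : N5643 = N3018 := eqc rfl L448411 rfl
theorem L448414 : sm gf N2099 = N5644 := trfs L448396 L48661 rfl
theorem L448415 : N5644 = N2959 := eqes L448414 (flp_f L25599)
theorem L448416 : N5644 = N2959 := eqc rfl L448415 rfl
theorem L448418 : sm gj N2099 = N5591 := trfs L448396 (flp_j L48247) rfl
theorem L448419 : N5591 = N2999 := eqes L448418 (flp_j L25935)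
theorem L448420 : N5591 = N2999 := eqc rfl L448419 rfl
theorem L448427 : sm gb N2999 = N3872 := trfs L448420 L48245 rfl
theorem L448428 : N3872 = N4321 := eqes L448427 (flp_b L37209)
theorem L448429 : N4321 = N3872 := (eqc rfl L448428 rfl).symm
theorem L448430 : sm gc N2999 = N8093 := trfs L448420 L69519 rfl
theorem L448431 : N8093 = N4327 := eqes L448430 L37257
theorem L448432 : N8093 = N4327 := eqc rfl L448431 rfl
theorem L448438 : sm gi N2999 = N3876 := trfs L448420 L48249 rfl
theorem L448439 : N3876 = N4328 := eqes L448438 L37264
theorem L448440 : N4328 = N3876 := (eqc rfl L448439 rfl).symm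
theorem L448441 : sm ga N3876 = N5499 := trfs L448440 (flp_a L47459) rfl
theorem L448442 : N5499 = N5597 := eqes L448441 (flp_a L48298)
theorem L448443 : N5597 = N5499 := (eqc rfl L448442 rfl).symm
theorem L448447 : sm gc N3876 = N6251 := trfs L448440 (flp_c L53612) rfl
theorem L448448 : N6251 = N5599 := eqes L448447 L48313
theorem L448449 : N6251 = N5599 := eqc rfl L448448 rfl
theorem L448455 : sm gh N3876 = N6252 := trfs L448440 L53618 rfl
theorem L448456 : N6252 = N5601 := eqes L448455 L48328
theorem L448457 : N6252 = N5601 := eqc rfl L448456 rfl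
theorem L448458 : sm gi N3876 = N2999 := trfs L448440 (flp_i L37264) rfl
theorem L448460 : sm ga N5601 = N7959 := trfs L448457 (flp_a L68392) rfl
theorem L448461 : N7959 = N8104 := eqes L448460 (flp_a L69614)
theorem L448462 : N8104 = N7959 := (eqc rfl L448461 rfl).symm
theorem L448466 : sm gc N5601 = N9052 := trfs L448457 (flp_c L77348) rfl
theorem L448467 : N9052 = N8107 := eqes L448466 (flp_c L69639)
theorem L448468 : N9052 = N8107 := eqc rfl L448467 rfl
theorem L448477 : sm gj N5601 = N4353 := trfs L448457 L53621 rfl
theorem L448478 : N4353 = N3915 := eqes L448477 L48333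
theorem L448479 : N4353 = N3915 := eqc rfl L448478 rfl
theorem L448481 : sm ga N3915 = N5524 := trfs L448479 (flp_a L47660) rfl
theorem L448482 : N5524 = N5654 := eqes L448481 (flp_a L48737)
theorem L448483 : N5654 = N5524 := (eqc rfl L448482 rfl).symm
theorem L448487 : sm gc N3915 = N6286 := trfs L448479 (flp_c L53885) rfl
theorem L448488 : N6286 = N5657 := eqes L448487 (flp_c L48760)
theorem L448489 : N6286 = N5657 := eqc rfl L448488 rfl
theorem L448492 : sm gf N3915 = N6183 := trfs L448479 (flp_f L53030) rfl
theorem L448493 : N6183 = N5660 := eqes L448492 (flp_f L48782)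
theorem L448494 : N6183 = N5660 := eqc rfl L448493 rfl
theorem L448498 : sm ga N5660 = N7890 := trfs L448494 (flp_a L67787) rfl
theorem L448499 : N7890 = N8189 := eqes L448498 (flp_a L70265)
theorem L448500 : N8189 = N7890 := (eqc rfl L448499 rfl).symm
theorem L448504 : sm gc N5660 = N8958 := trfs L448494 (flp_c L76546) rfl
theorem L448505 : N8958 = N8194 := eqes L448504 (flp_c L70302)
theorem L448506 : N8958 = N8194 := eqc rfl L448505 rfl
theorem L448515 : sm gh N5660 = N4277 := trfs L448494 (flp_h L53028) rfl
theorem L448516 : N4277 = N3914 := eqes L448515 (flp_h L48778)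
theorem L448517 : N4277 = N3914 := eqc rfl L448516 rfl
theorem L448519 : sm ga N3914 = N5448 := trfs L448517 (flp_a L47004) rfl
theorem L448520 : N5448 = N5653 := eqes L448519 (flp_a L48731)
theorem L448521 : N5653 = N5448 := (eqc rfl L448520 rfl).symm
theorem L448525 : sm gc N3914 = N6182 := trfs L448517 (flp_c L53023) rfl
theorem L448526 : N6182 = N5656 := eqes L448525 (flp_c L48754)
theorem L448527 : N6182 = N5656 := eqc rfl L448526 rfl
theorem L448529 : sm ge N3914 = N5968 := trfs L448517 (flp_e L51260) rfl
theorem L448530 : N5968 = N5658 := eqes L448529 L48764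
theorem L448531 : N5968 = N5658 := eqc rfl L448530 rfl
theorem L448537 : sm ga N5658 = N7675 := trfs L448531 (flp_a L65917) rfl
theorem L448538 : N7675 = N8187 := eqes L448537 (flp_a L70251)
theorem L448539 : N8187 = N7675 := (eqc rfl L448538 rfl).symm
theorem L448548 : sm gg N5658 = N8656 := trfs L448531 (flp_g L74060) rfl
theorem L448549 : N8656 = N8197 := eqes L448548 L70319
theorem L448550 : N8656 = N8197 := eqc rfl L448549 rfl
theorem L448551 : sm gj N5658 = N8567 := trfs L448531 (flp_j L73364) rfl
theorem L448552 : N8567 = N8108 := eqes L448551 (flp_j L69648)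
theorem L448553 : N8567 = N8108 := eqc rfl L448552 rfl
theorem L448555 : sm gi N5658 = N4120 := trfs L448531 (flp_i L51256) rfl
theorem L448556 : N4120 = N8174 := eqes L448555 (flp_i L70154)
theorem L448557 : N8174 = N4120 := (eqc rfl L448556 rfl).symm
theorem L448561 : sm gb N4120 = N5647 := trfs L448557 L70152 rfl
theorem L448562 : N5647 = N5958 := eqes L448561 (flp_b L51184)
theorem L448563 : N5958 = N5647 := (eqc rfl L448562 rfl).symm
theorem L448564 : sm gc N4120 = N11857 := trfs L448557 (flp_c L101343) rfl
theorem L448565 : N11857 = N5967 := eqes L448564 L51250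
theorem L448566 : N11857 = N5967 := eqc rfl L448565 rfl
theorem L448573 : sm gj N4120 = N11738 := trfs L448557 (flp_j L100421) rfl
theorem L448574 : N11738 = N5905 := eqes L448573 (flp_j L50773)
theorem L448575 : N11738 = N5905 := eqc rfl L448574 rfl
theorem L448577 : sm gi N4120 = N5658 := trfs L448557 L70154 rfl
theorem L448590 : sm gg N5905 = N17058 := trfs L448575 L145427 rfl
theorem L448591 : N17058 = N8564 := eqes L448590 (flp_g L73338)
theorem L448592 : N17058 = N8564 := eqc rfl L448591 rfl
theorem L448614 : sm gi N8564 = N11761 := trfs L448592 L145435 rfl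
theorem L448615 : N11761 = N12440 := eqes L448614 L106154
theorem L448616 : N12440 = N11761 := (eqc rfl L448615 rfl).symm
theorem L448623 : sm gc N11761 = N18102 := trfs L448616 (flp_c L154012) rfl
theorem L448624 : N18102 = N17083 := eqes L448623 (flp_c L145641)
theorem L448625 : N18102 = N17083 := eqc rfl L448624 rfl
theorem L448635 : sm gh N11761 = N18103 := trfs L448616 L154018 rfl
theorem L448636 : N18103 = N17093 := eqes L448635 L145721
theorem L448637 : N18103 = N17093 := eqc rfl L448636 rfl
theorem L448655 : sm gf N17093 = N26358 := trfs L448637 (flp_f L223638) rfl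
theorem L448656 : N26358 = N24865 := eqes L448655 (flp_f L211332)
theorem L448657 : N26358 = N24865 := eqc rfl L448656 rfl
theorem L448661 : sm gj N17093 = N26361 := trfs L448637 (flp_j L223667) rfl
theorem L448662 : N26361 = N24866 := eqes L448661 (flp_j L211343)
theorem L448663 : N26361 = N24866 := eqc rfl L448662 rfl
theorem L448683 : sm gg N24866 = N18299 := trfs L448663 L223665 rfl
theorem L448684 : N18299 = N17295 := eqes L448683 L211341
theorem L448685 : N18299 = N17295 := eqc rfl L448684 rfl
theorem L448703 : sm gf N17295 = N26646 := trfs L448685 (flp_f L225878) rfl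
theorem L448704 : N26646 = N25167 := eqes L448703 (flp_f L213664)
theorem L448705 : N26646 = N25167 := eqc rfl L448704 rfl
theorem L448709 : sm gh N17295 = N12572 := trfs L448685 (flp_h L155546) rfl
theorem L448710 : N12572 = N11896 := eqes L448709 (flp_h L147269)
theorem L448711 : N12572 = N11896 := eqc rfl L448710 rfl
theorem L448722 : sm gf N11896 = N18293 := trfs L448711 (flp_f L155505) rfl
theorem L448723 : N18293 = N17293 := eqes L448722 (flp_f L147259)
theorem L448724 : N18293 = N17293 := eqc rfl L448723 rfl
theorem L448727 : sm gi N11896 = N8653 := trfs L448711 (flp_i L107194) rfl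
theorem L448728 : N8653 = N17243 := eqes L448727 (flp_i L146882)
theorem L448729 : N17243 = N8653 := (eqc rfl L448728 rfl).symm
theorem L448742 : sm gf N8653 = N25091 := trfs L448729 (flp_f L213083) rfl
theorem L448743 : N25091 = N12567 := eqes L448742 (flp_f L107158)
theorem L448744 : N25091 = N12567 := eqc rfl L448743 rfl
theorem L448764 : sm gj N12567 = N17242 := trfs L448744 (flp_j L213076) rfl
theorem L448765 : N17242 = N8651 := eqes L448764 L107160
theorem L448766 : N17242 = N8651 := eqc rfl L448765 rfl
theorem L448779 : sm gd N8651 = N12078 := trfs L448766 L146868 rfl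
theorem L448780 : N12078 = N5963 := eqes L448779 (flp_d L74020)
theorem L448781 : N12078 = N5963 := eqc rfl L448780 rfl
theorem L448786 : sm gi N8651 = N11895 := trfs L448766 L146870 rfl
theorem L448787 : N11895 = N12570 := eqes L448786 L107179
theorem L448788 : N12570 = N11895 := (eqc rfl L448787 rfl).symm
theorem L448805 : sm gh N11895 = N18296 := trfs L448788 L155524 rfl
theorem L448806 : N18296 = N17294 := eqes L448805 L147261
theorem L448807 : N18296 = N17294 := eqc rfl L448806 rfl
theorem L448808 : sm gi N11895 = N8651 := trfs L448788 (flp_i L107179) rfl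
theorem L448819 : sm gd N17294 = N26480 := trfs L448807 (flp_d L224602) rfl
theorem L448820 : N26480 = N25168 := eqes L448819 L213668
theorem L448821 : N26480 = N25168 := eqc rfl L448820 rfl
theorem L448838 : sm gf N25168 = N18184 := trfs L448821 L224599 rfl
theorem L448839 : N18184 = N17296 := eqes L448838 L213672
theorem L448840 : N18184 = N17296 := eqc rfl L448839 rfl
theorem L448845 : sm gh N25168 = N18179 := trfs L448821 (flp_h L224597) rfl
theorem L448846 : N18179 = N17645 := eqes L448845 L213675
theorem L448847 : N18179 = N17645 := eqc rfl L448846 rfl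
theorem L448857 : sm gd N17645 = N12491 := trfs L448847 L154634 rfl
theorem L448858 : N12491 = N12130 := eqes L448857 (flp_d L150218)
theorem L448859 : N12491 = N12130 := eqc rfl L448858 rfl
theorem L448863 : sm gf N17645 = N12495 := trfs L448847 L154636 rfl
theorem L448864 : N12495 = N12132 := eqes L448863 L150222
theorem L448865 : N12495 = N12132 := eqc rfl L448864 rfl
theorem L448867 : sm gj N17645 = N26475 := trfs L448847 (flp_j L224567) rfl
theorem L448868 : N26475 = N25691 := eqes L448867 (flp_j L218075)
theorem L448869 : N26475 = N25691 := eqc rfl L448868 rfl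
theorem L448889 : sm gi N25691 = N18175 := trfs L448869 (flp_i L224561) rfl
theorem L448890 : N18175 = N37459 := eqes L448889 L317056
theorem L448891 : N18242 = N18175 := (eqc rfl L448890 L445852).symm
theorem L448908 : sm gj N18175 = N12532 := trfs L448891 (flp_j L155131) rfl
theorem L448909 : N12532 = N12490 := eqes L448908 L154606
theorem L448910 : N12532 = N12490 := eqc rfl L448909 rfl
theorem L448926 : sm gf N12490 = N8626 := trfs L448910 (flp_f L106899) rfl
theorem L448927 : N8626 = N8600 := eqes L448926 L106569
theorem L448928 : N8626 = N8600 := eqc rfl L448927 rfl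
theorem L448940 : sm gg N8600 = N5946 := trfs L448928 (flp_g L73836) rfl
theorem L448941 : N5946 = N5930 := eqes L448940 L73634
theorem L448942 : N5946 = N5930 := eqc rfl L448941 rfl
theorem L448946 : sm gi N8600 = N12465 := trfs L448928 (flp_i L106379) rfl
theorem L448947 : N12465 = N12495 := eqes L448946 L106602
theorem L448948 : N12465 = N12132 := eqc rfl L448947 L448865
theorem L448961 : sm gg N12132 = N8581 := trfs L448948 (flp_g L106373) rfl
theorem L448962 : N8581 = N8356 := eqes L448961 L103619
theorem L448963 : N8581 = N8356 := eqc rfl L448962 rfl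
theorem L448980 : sm gi N8356 = N5930 := trfs L448963 L73483 L448942
theorem L448981 : N5930 = N12135 := eqes L448980 L103634
theorem L448982 : N12135 = N5930 := (eqc rfl L448981 rfl).symm
theorem L448992 : N8357 = N4095 := L446511.trans L447411
theorem L448996 : N17650 = N8600 := L445848.trans L448928
theorem L448998 : sm gj N5930 = N17442 := trfs L448982 (flp_j L148569) rfl
theorem L448999 : N17442 = N8529 := eqes L448998 (flp_j L73046)
theorem L449000 : N17442 = N8529 := eqc rfl L448999 rfl
theorem L449002 : sm gi N5930 = N8356 := trfs L448982 (flp_i L103634) rfl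
theorem L449003 : N8356 = N8603 := eqes L449002 L73651
theorem L449004 : N8603 = N8356 := (eqc rfl L449003 rfl).symm
theorem L449005 : sm ga N8356 = N11091 := trfs L449004 (flp_a L94938) rfl
theorem L449006 : N11091 = N12110 := eqes L449005 (flp_a L103437)
theorem L449007 : N12110 = N11091 := (eqc rfl L449006 rfl).symm
theorem L449013 : sm gd N8356 = N5931 := trfs L449004 L73653 rfl
theorem L449014 : N5931 = N5763 := eqes L449013 (flp_d L71636)
theorem L449015 : N5931 = N5763 := eqc rfl L449014 rfl
theorem L449022 : sm gh N8356 = N12498 := trfs L449004 L106620 rfl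
theorem L449023 : N12498 = N11898 := eqes L449022 (flp_h L101654)
theorem L449024 : N12498 = N11898 := eqc rfl L449023 rfl
theorem L449040 : sm gj N11898 = N18025 := trfs L449024 (flp_j L153356) rfl
theorem L449041 : N18025 = N17094 := eqes L449040 (flp_j L145734)
theorem L449042 : N18025 = N17094 := eqc rfl L449041 rfl
theorem L449050 : sm gc N17094 = N17094 := trfs L449042 L395933 L449042
theorem L449051 : N17094 = N24869 := eqes L449050 L211362
theorem L449052 : N24869 = N17094 := (eqc rfl L449051 rfl).symm
theorem L449075 : sm gh N17094 = N17441 := trfs L449052 L211368 rfl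
theorem L449076 : N17441 = N11993 := eqes L449075 L145737
theorem L449077 : N17441 = N11993 := eqc rfl L449076 rfl
theorem L449091 : sm gg N11993 = N25385 := trfs L449077 (flp_g L215603) rfl
theorem L449092 : N25385 = N17439 := eqes L449091 (flp_g L148544)
theorem L449093 : N25385 = N17439 := eqc rfl L449092 rfl
theorem L449095 : sm gi N11993 = N25388 := trfs L449077 L215622 rfl
theorem L449096 : N25388 = N17442 := eqes L449095 L148561
theorem L449097 : N25388 = N8529 := eqc rfl L449096 L449000
theorem L449110 : sm gg N8529 = N37000 := trfs L449097 (flp_g L313358) rfl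
theorem L449111 : N37000 = N12384 := eqes L449110 (flp_g L105688)
theorem L449112 : N37000 = N12384 := eqc rfl L449111 rfl
theorem L449119 : sm gi N12384 = N17439 := trfs L449112 (flp_i L313353) L449093
theorem L449120 : N17439 = N18022 := eqes L449119 L153330
theorem L449121 : N18022 = N17439 := (eqc rfl L449120 rfl).symm
theorem L449130 : sm gf N17439 = N26237 := trfs L449121 (flp_f L222621) rfl
theorem L449131 : N26237 = N25381 := eqes L449130 (flp_f L215570)
theorem L449132 : N26237 = N25381 := eqc rfl L449131 rfl
theorem L449138 : sm ga N25381 = N34006 := trfs L449132 (flp_a L288528) rfl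
theorem L449139 : N34006 = N36946 := eqes L449138 (flp_a L312892)
theorem L449140 : N36946 = N34006 := (eqc rfl L449139 rfl).symm
theorem L449158 : sm gi N25381 = N18017 := trfs L449132 (flp_i L222617) rfl
theorem L449159 : N18017 = N36996 := eqes L449158 L313319
theorem L449160 : N36996 = N18017 := (eqc rfl L449159 rfl).symm
theorem L449161 : sm gb N18017 = N25356 := trfs L449160 L313321 L446904
theorem L449162 : N25356 = N26223 := eqes L449161 (flp_b L222500)
theorem L449163 : N26223 = N25356 := (eqc rfl L449162 rfl).symm
theorem L449179 : sm ge N25356 = N38240 := trfs L449163 L323581 rfl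
theorem L449180 : N38240 = N36955 := eqes L449179 L312964
theorem L449181 : N38240 = N36955 := eqc rfl L449180 rfl
theorem L449185 : sm gh N25356 = N25356 := trfs L449163 L222505 L449163
theorem L449186 : N25356 = N36957 := eqes L449185 L312979
theorem L449187 : N36957 = N25356 := (eqc rfl L449186 rfl).symm
theorem L449193 : sm gf N25356 = N25358 := trfs L449187 L312983 rfl
theorem L449194 : N25358 = N17421 := eqes L449193 (flp_f L215340)
theorem L449195 : N25358 = N17421 := eqc rfl L449194 rfl
theorem L449218 : sm gi N17421 = N36960 := trfs L449195 L313003 rfl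
theorem L449219 : N36960 = N25289 := eqes L449218 (flp_i L214742)
theorem L449220 : N36960 = N12000 := eqc rfl L449219 L446863
theorem L449225 : sm gg N12000 = N25360 := trfs L449220 L313008 rfl
theorem L449226 : N25360 = N8269 := eqes L449225 L102547
theorem L449227 : N25360 = N8269 := eqc rfl L449226 rfl
theorem L449245 : sm gh N8269 = N36858 := trfs L449227 (flp_h L312108) rfl
theorem L449246 : N36858 = N11769 := eqes L449245 (flp_h L100678)
theorem L449247 : N36858 = N11769 := eqc rfl L449246 rfl
theorem L449258 : sm gi N11769 = N25290 := trfs L449247 (flp_i L312100) rfl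
theorem L449259 : N25290 = N11769 := eqes L449258 L396623
theorem L449260 : N25290 = N11769 := eqc rfl L449259 rfl
theorem L449281 : sm gh N11769 = N17376 := trfs L449260 (flp_h L214744) rfl
theorem L449282 : N17376 = N8269 := eqes L449281 L100678
theorem L449283 : N17376 = N8269 := eqc rfl L449282 rfl
theorem L449288 : sm gc N8269 = N24804 := trfs L449283 (flp_c L210816) rfl
theorem L449289 : N24804 = N12002 := eqes L449288 L102558
theorem L449290 : N24804 = N12002 := eqc rfl L449289 rfl
theorem L449310 : sm gj N12002 = N17233 := trfs L449290 L210812 rfl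
theorem L449311 : N17233 = N8365 := eqes L449310 L102562
theorem L449312 : N17233 = N8365 := eqc rfl L449311 rfl
theorem L449314 : sm gi N12002 = N17082 := trfs L449290 L210814 rfl
theorem L449315 : N17082 = N17453 := eqes L449314 L148650
theorem L449316 : N17453 = N17082 := (eqc rfl L449315 rfl).symm
theorem L449335 : sm gh N17082 = N17082 := trfs L449316 L396666 L449316
theorem L449336 : N17082 = N24850 := eqes L449335 L211207
theorem L449337 : N24850 = N17082 := (eqc rfl L449336 rfl).symm
theorem L449351 : sm gj N17082 = N17279 := trfs L449337 L211214 rfl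
theorem L449352 : N17279 = N11886 := eqes L449351 L145633
theorem L449353 : N17279 = N11886 := eqc rfl L449352 rfl
theorem L449372 : sm gi N11886 = N25147 := trfs L449353 L213514 rfl
theorem L449373 : N25147 = N17233 := eqes L449372 (flp_i L146798)
theorem L449374 : N25147 = N8365 := eqc rfl L449373 L449312
theorem L449391 : sm gh N8365 = N36539 := trfs L449374 (flp_h L309448) rfl
theorem L449392 : N36539 = N11907 := eqes L449391 (flp_h L101719)
theorem L449393 : N36539 = N11907 := eqc rfl L449392 rfl
theorem L449400 : sm gi N11907 = N25077 := trfs L449393 (flp_i L309441) rfl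
theorem L449401 : N25077 = N11907 := eqes L449400 L441528
theorem L449402 : N25077 = N11907 := eqc rfl L449401 rfl
theorem L449412 : sm gg N11907 = N36537 := trfs L449402 (flp_g L309433) rfl
theorem L449413 : N36537 = N17307 := eqes L449412 (flp_g L147362)
theorem L449414 : N36537 = N17307 := eqc rfl L449413 rfl
theorem L449424 : sm gh N17307 = N25076 := trfs L449414 (flp_h L309427) rfl
theorem L449425 : N25076 = N12143 := eqes L449424 L147364
theorem L449426 : N25076 = N12143 := eqc rfl L449425 rfl
theorem L449445 : sm gi N12143 = N17278 := trfs L449426 L212971 rfl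
theorem L449446 : N17278 = N17663 := eqes L449445 L150347
theorem L449447 : N17663 = N17278 := (eqc rfl L449446 rfl).symm
theorem L449465 : sm gj N17278 = N25715 := trfs L449447 (flp_j L218251) rfl
theorem L449466 : N25715 = N25144 := eqes L449465 L213492
theorem L449467 : N25715 = N25144 := eqc rfl L449466 rfl
theorem L449487 : sm gh N25144 = N25144 := trfs L449467 L441571 L449467
theorem L449488 : N25144 = N36639 := eqes L449487 L310221
theorem L449489 : N36639 = N25144 := (eqc rfl L449488 rfl).symm
theorem L449493 : sm gc N25144 = N25657 := trfs L449489 L310224 rfl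
theorem L449494 : N25657 = N17621 := eqes L449493 L213495
theorem L449495 : N25657 = N17621 := eqc rfl L449494 rfl
theorem L449517 : sm gi N17621 = N37407 := trfs L449495 L316646 rfl
theorem L449518 : N37407 = N25554 := eqes L449517 (flp_i L216979)
theorem L449519 : N37407 = N12141 := eqc rfl L449518 L446273
theorem L449524 : sm gj N12141 = N25659 := trfs L449519 L316651 rfl
theorem L449525 : N25659 = N8363 := eqes L449524 L103684
theorem L449526 : N25659 = N8363 := eqc rfl L449525 rfl
theorem L449532 : sm gd N8363 = N37410 := trfs L449526 (flp_d L316672) rfl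
theorem L449533 : N37410 = N5769 := eqes L449532 (flp_d L71692)
theorem L449534 : N37410 = N5769 := eqc rfl L449533 rfl
theorem L449553 : sm gi N5769 = N25658 := trfs L449534 (flp_i L316668) rfl
theorem L449554 : N25658 = N8364 := eqes L449553 L71697
theorem L449555 : N25658 = N8345 := eqc rfl L449554 L446306
theorem L449572 : sm gg N8345 = N17623 := trfs L449555 L217808 rfl
theorem L449573 : N17623 = N5757 := eqes L449572 (flp_g L71545)
theorem L449574 : N17623 = N5757 := eqc rfl L449573 rfl
theorem L449591 : sm gj N5757 = N25359 := trfs L449574 (flp_j L215368) rfl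
theorem L449592 : N25359 = N8256 := eqes L449591 (flp_j L70829)
theorem L449593 : N25359 = N8256 := eqc rfl L449592 rfl
theorem L449612 : sm gh N8256 = N17426 := trfs L449593 L215370 rfl
theorem L449613 : N17426 = N11983 := eqes L449612 L102393
theorem L449614 : N17426 = N5874 := eqc rfl L449613 L446497
theorem L449632 : sm gi N5874 = N25368 := trfs L449614 L215442 rfl
theorem L449633 : N25368 = N4073 := eqes L449632 L50516
theorem L449634 : N25368 = N4073 := eqc rfl L449633 rfl
theorem L449650 : sm gh N4073 = N36978 := trfs L449634 L313159 rfl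
theorem L449651 : N36978 = N5689 := eqes L449650 (flp_h L446690)
theorem L449652 : N36978 = N5689 := eqc rfl L449651 rfl
theorem L449657 : sm gj N5689 = N25677 := trfs L449652 L313164 rfl
theorem L449658 : N25677 = N3971 := eqes L449657 L49027
theorem L449659 : N25677 = N3971 := eqc rfl L449658 rfl
theorem L449681 : sm gi N3971 = N37416 := trfs L449659 (flp_i L316714) rfl
theorem L449682 : N37416 = N2760 := eqes L449681 L34377
theorem L449683 : N37416 = N2760 := eqc rfl L449682 rfl
theorem L449684 : sm gb N2760 = N26587 := trfs L449683 L316711 rfl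
theorem L449685 : N26587 = N3982 := eqes L449684 (flp_b L34461)
theorem L449686 : N26587 = N3982 := eqc rfl L449685 rfl
theorem L449708 : sm gh N3982 = N18249 := trfs L449686 (flp_h L225433) rfl
theorem L449709 : N18249 = N5763 := eqes L449708 L49623
theorem L449710 : N18249 = N5763 := eqc rfl L449709 rfl
theorem L449727 : sm gj N5763 = N26307 := trfs L449710 (flp_j L223227) rfl
theorem L449728 : N26307 = N8262 := eqes L449727 (flp_j L70882)
theorem L449729 : N26307 = N8262 := eqc rfl L449728 rfl
theorem L449744 : sm gg N8262 = N38361 := trfs L449729 (flp_g L324636) rfl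
theorem L449745 : N38361 = N11992 := eqes L449744 (flp_g L102483)
theorem L449746 : N38361 = N11992 := eqc rfl L449745 rfl
theorem L449752 : sm gi N11992 = N26303 := trfs L449746 (flp_i L324632) rfl
theorem L449753 : N26303 = N17440 := eqes L449752 L148547
theorem L449754 : N26303 = N8528 := eqc rfl L449753 L446810
theorem L449777 : sm gh N8528 = N18067 := trfs L449754 L223199 rfl
theorem L449778 : N18067 = N5879 := eqes L449777 (flp_h L73037)
theorem L449779 : N18067 = N5879 := eqc rfl L449778 rfl
theorem L449798 : sm gi N5879 = N26316 := trfs L449779 L223287 rfl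
theorem L449799 : N26316 = N4078 := eqes L449798 L50566
theorem L449800 : N26316 = N4078 := eqc rfl L449799 rfl
theorem L449817 : sm gj N4078 = N38376 := trfs L449800 (flp_j L324749) rfl
theorem L449818 : N38376 = N5903 := eqes L449817 L50757
theorem L449819 : N38376 = N5903 := eqc rfl L449818 rfl
theorem L449826 : sm gg N5903 = N26596 := trfs L449819 L324747 rfl
theorem L449827 : N26596 = N4118 := eqes L449826 L50762
theorem L449828 : N26596 = N4118 := eqc rfl L449827 rfl
theorem L449850 : sm gi N4118 = N18254 := trfs L449828 (flp_i L225494) rfl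
theorem L449851 : N18254 = N5928 := eqes L449850 (flp_i L50967)
theorem L449852 : N18254 = N5928 := eqc rfl L449851 rfl
theorem L449873 : sm gh N5928 = N26577 := trfs L449852 (flp_h L225376) rfl
theorem L449874 : N26577 = N8599 := eqes L449873 L73626
theorem L449875 : N26577 = N8599 := eqc rfl L449874 rfl
theorem L449884 : sm ge N8599 = N38766 := trfs L449875 L327844 rfl
theorem L449885 : N38766 = N5932 := eqes L449884 L73628
theorem L449886 : N38766 = N5932 := eqc rfl L449885 rfl
theorem L449902 : sm gj N5932 = N26580 := trfs L449886 L327846 rfl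
theorem L449903 : N26580 = N4097 := eqes L449902 L50991
theorem L449904 : N26580 = N4097 := eqc rfl L449903 rfl
theorem L449922 : sm gh N4097 = N18257 := trfs L449904 L225395 rfl
theorem L449923 : N18257 = N2832 := eqes L449922 (flp_h L35377)
theorem L449924 : N18257 = N2832 := eqc rfl L449923 rfl
theorem L449951 : sm gi N2832 = N26601 := trfs L449924 L225526 rfl
theorem L449952 : N26601 = N1974 := eqes L449951 L24586
theorem L449953 : N26601 = N1974 := eqc rfl L449952 rfl
theorem L449974 : sm gh N1974 = N38809 := trfs L449953 L328131 rfl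
theorem L449975 : N38809 = N2850 := eqes L449974 L24715
theorem L449976 : N38809 = N2850 := eqc rfl L449975 rfl
theorem L449980 : sm gg N2850 = N26611 := trfs L449976 L328135 rfl
theorem L449981 : N26611 = N1975 := eqes L449980 L24719
theorem L449982 : N26611 = N1975 := eqc rfl L449981 rfl
theorem L449998 : sm gj N1975 = N38391 := trfs L449982 (flp_j L324857) rfl
theorem L449999 : N38391 = N2822 := eqes L449998 (flp_j L24501)
theorem L450000 : N38391 = N2822 := eqc rfl L449999 rfl
theorem L450005 : sm gh N2822 = N26321 := trfs L450000 (flp_h L324853) rfl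
theorem L450006 : N26321 = N1956 := eqes L450005 (flp_h L24497)
theorem L450007 : N26321 = N1956 := eqc rfl L450006 rfl
theorem L450024 : sm gi N1956 = N18070 := trfs L450007 (flp_i L223324) rfl
theorem L450025 : N18070 = N2810 := eqes L450024 (flp_i L24406)
theorem L450026 : N18070 = N2810 := eqc rfl L450025 rfl
theorem L450043 : sm gh N2810 = N26306 := trfs L450026 (flp_h L223219) rfl
theorem L450044 : N26306 = N4064 := eqes L450043 L35102
theorem L450045 : N26306 = N4064 := eqc rfl L450044 rfl
theorem L450056 : sm gf N4064 = N38365 := trfs L450045 L324662 rfl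
theorem L450057 : N38365 = N2811 := eqes L450056 L35104
theorem L450058 : N38365 = N2811 := eqc rfl L450057 rfl
theorem L450065 : sm gj N2811 = N26585 := trfs L450058 L324665 rfl
theorem L450066 : N26585 = N1964 := eqes L450065 L24412
theorem L450067 : N26585 = N1964 := eqc rfl L450066 rfl
theorem L450084 : sm gh N1964 = N18262 := trfs L450067 L225425 rfl
theorem L450085 : N18262 = N1363 := eqes L450084 (flp_h L17132)
theorem L450086 : N18262 = N1363 := eqc rfl L450085 rfl
theorem L450112 : sm gi N1363 = N26610 := trfs L450086 L225581 rfl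
theorem L450113 : N26610 = N951 := eqes L450112 L11957
theorem L450114 : N26610 = N951 := eqc rfl L450113 rfl
theorem L450129 : sm gg N951 = N38820 := trfs L450114 (flp_g L328207) rfl
theorem L450130 : N38820 = N664 := eqes L450129 L8377
theorem L450131 : N38820 = N664 := eqc rfl L450130 rfl
theorem L450134 : sm gd N664 = N26619 := trfs L450131 L328204 rfl
theorem L450135 : N26619 = N456 := eqes L450134 (flp_d L5857)
theorem L450136 : N26619 = N456 := eqc rfl L450135 rfl
theorem L450161 : sm gi N456 = N18270 := trfs L450136 (flp_i L225651) rfl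
theorem L450162 : N18270 = N660 := eqes L450161 (flp_i L5829)
theorem L450163 : N18270 = N660 := eqc rfl L450162 rfl
theorem L450181 : sm gj N660 = N26618 := trfs L450163 L225644 rfl
theorem L450182 : N26618 = N660 := eqes L450181 L5827
theorem L450183 : N26618 = N660 := eqc rfl L450182 rfl
theorem L450203 : sm gg N660 = N38398 := trfs L450183 (flp_g L324918) rfl
theorem L450204 : N38398 = N947 := eqes L450203 (flp_g L8345)
theorem L450205 : N38398 = N947 := eqc rfl L450204 rfl
theorem L450214 : sm gj N947 = N26328 := trfs L450205 (flp_j L324911) rfl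
theorem L450215 : N26328 = N1354 := eqes L450214 (flp_j L11877)
theorem L450216 : N26328 = N1354 := eqc rfl L450215 rfl
theorem L450240 : sm gi N1354 = N38399 := trfs L450216 L324920 rfl
theorem L450241 : N38399 = N944 := eqes L450240 L11880
theorem L450242 : N38399 = N944 := eqc rfl L450241 rfl
theorem L450249 : sm gg N944 = N26329 := trfs L450242 L324926 rfl
theorem L450250 : N26329 = N944 := eqes L450249 L8318
theorem L450251 : N26329 = N944 := eqc rfl L450250 rfl
theorem L450267 : sm gh N944 = N38400 := trfs L450251 L324928 rfl
theorem L450268 : N38400 = N679 := eqes L450267 L8321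
theorem L450269 : N38400 = N679 := eqc rfl L450268 rfl
theorem L450280 : sm gj N679 = N26620 := trfs L450269 L324936 rfl
theorem L450281 : N26620 = N469 := eqes L450280 L5982
theorem L450282 : N26620 = N469 := eqc rfl L450281 rfl
theorem L450299 : sm gf N469 = N18272 := trfs L450282 L225665 rfl
theorem L450300 : N18272 = N684 := eqes L450299 L6018
theorem L450301 : N18272 = N684 := eqc rfl L450300 rfl
theorem L450324 : sm gh N684 = N12550 := trfs L450301 (flp_h L155327) rfl
theorem L450325 : N12550 = N952 := eqes L450324 (flp_h L8384)
theorem L450326 : N12550 = N952 := eqc rfl L450325 rfl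
theorem L450344 : sm gi N952 = N8636 := trfs L450326 (flp_i L107019) rfl
theorem L450345 : N8636 = N1364 := eqes L450344 (flp_i L11965)
theorem L450346 : N8636 = N1364 := eqc rfl L450345 rfl
theorem L450353 : sm gc N1364 = N6166 := trfs L450346 L73905 rfl
theorem L450354 : N6166 = N948 := eqes L450353 L11962
theorem L450355 : N6166 = N948 := eqc rfl L450354 rfl
theorem L450378 : sm gj N948 = N8871 := trfs L450355 (flp_j L75840) rfl
theorem L450379 : N8871 = N1355 := eqes L450378 (flp_j L11885)
theorem L450380 : N8871 = N1355 := eqc rfl L450379 rfl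
theorem L450401 : sm gi N1355 = N12876 := trfs L450380 L109710 rfl
theorem L450402 : N12876 = N945 := eqes L450401 L11888
theorem L450403 : N12876 = N945 := eqc rfl L450402 rfl
theorem L450420 : sm gh N945 = N18728 := trfs L450403 L159104 rfl
theorem L450421 : N18728 = N680 := eqes L450420 L8328
theorem L450422 : N18728 = N680 := eqc rfl L450421 rfl
theorem L450435 : sm gg N680 = N27254 := trfs L450422 (flp_g L230922) rfl
theorem L450436 : N27254 = N985 := eqes L450435 L8647
theorem L450437 : N27254 = N985 := eqc rfl L450436 rfl
theorem L450456 : sm gj N985 = N39724 := trfs L450437 (flp_j L335705) rfl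
theorem L450457 : N39724 = N1416 := eqes L450456 L12372
theorem L450458 : N39724 = N1416 := eqc rfl L450457 rfl
theorem L450468 : sm gh N1416 = N27250 := trfs L450458 (flp_h L335698) rfl
theorem L450469 : N27250 = N1959 := eqes L450468 (flp_h L17094)
theorem L450470 : N27250 = N1959 := eqc rfl L450469 rfl
theorem L450492 : sm gi N1959 = N18721 := trfs L450470 (flp_i L230885) rfl
theorem L450493 : N18721 = N2813 := eqes L450492 (flp_i L24430)
theorem L450494 : N18721 = N2813 := eqc rfl L450493 rfl
theorem L450511 : sm gg N2813 = N12966 := trfs L450494 L159054 rfl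
theorem L450512 : N12966 = N1966 := eqes L450511 L24432
theorem L450513 : N12966 = N1966 := eqc rfl L450512 rfl
theorem L450529 : sm gf N1966 = N18858 := trfs L450513 L160159 rfl
theorem L450530 : N18858 = N1379 := eqes L450529 L17152
theorem L450531 : N18858 = N1379 := eqc rfl L450530 rfl
theorem L450555 : sm gi N1379 = N27448 := trfs L450531 L232499 rfl
theorem L450556 : N27448 = N965 := eqes L450555 L12084
theorem L450557 : N27448 = N965 := eqc rfl L450556 rfl
theorem L450578 : sm gh N965 = N40004 := trfs L450557 L337986 rfl
theorem L450579 : N40004 = N692 := eqes L450578 L8486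
theorem L450580 : N40004 = N692 := eqc rfl L450579 rfl
theorem L450586 : sm gj N692 = N27452 := trfs L450580 L337993 rfl
theorem L450587 : N27452 = N475 := eqes L450586 (flp_j L6077)
theorem L450588 : N27452 = N475 := eqc rfl L450587 rfl
theorem L450606 : sm gg N475 = N40007 := trfs L450588 (flp_g L338019) rfl
theorem L450607 : N40007 = N322 := eqes L450606 (flp_g L4179)
theorem L450608 : N40007 = N322 := eqc rfl L450607 rfl
theorem L450618 : sm gh N322 = N27451 := trfs L450608 (flp_h L338012) rfl
theorem L450619 : N27451 = N457 := eqes L450618 (flp_h L4041)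
theorem L450620 : N27451 = N457 := eqc rfl L450619 rfl
theorem L450638 : sm gi N457 = N18861 := trfs L450620 (flp_i L232524) rfl
theorem L450639 : N18861 = N661 := eqes L450638 (flp_i L5836)
theorem L450640 : N18861 = N661 := eqc rfl L450639 rfl
theorem L450654 : sm gj N661 = N27450 := trfs L450640 L232516 rfl
theorem L450655 : N27450 = N661 := eqes L450654 L5834
theorem L450656 : N27450 = N661 := eqc rfl L450655 rfl
theorem L450670 : sm gg N661 = N40002 := trfs L450656 (flp_g L337977) rfl
theorem L450671 : N40002 = N958 := eqes L450670 L8430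
theorem L450672 : N40002 = N958 := eqc rfl L450671 rfl
theorem L450676 : sm ge N958 = N27536 := trfs L450672 L337974 rfl
theorem L450677 : N27536 = N671 := eqes L450676 L8433
theorem L450678 : N27536 = N671 := eqc rfl L450677 rfl
theorem L450695 : sm gi N671 = N40116 := trfs L450678 L338895 rfl
theorem L450696 : N40116 = N465 := eqes L450695 L5917
theorem L450697 : N40116 = N465 := eqc rfl L450696 rfl
theorem L450704 : sm gj N465 = N27537 := trfs L450697 L338902 rfl
theorem L450705 : N27537 = N677 := eqes L450704 L5959
theorem L450706 : N27537 = N677 := eqc rfl L450705 rfl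
theorem L450711 : sm gc N677 = N39292 := trfs L450706 (flp_c L331986) rfl
theorem L450712 : N39292 = N980 := eqes L450711 (flp_c L8605)
theorem L450713 : N39292 = N980 := eqc rfl L450712 rfl
theorem L450730 : sm gi N980 = N26952 := trfs L450713 (flp_i L331984) rfl
theorem L450731 : N26952 = N1400 := eqes L450730 (flp_i L12247)
theorem L450732 : N26952 = N1400 := eqc rfl L450731 rfl
theorem L450747 : sm gg N1400 = N18511 := trfs L450732 (flp_g L228333) rfl
theorem L450748 : N18511 = N1400 := eqes L450747 L12249
theorem L450749 : N18511 = N1400 := eqc rfl L450748 rfl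
theorem L450766 : sm gj N1400 = N12723 := trfs L450749 L157250 rfl
theorem L450767 : N12723 = N971 := eqes L450766 (flp_j L12241)
theorem L450768 : N12723 = N971 := eqc rfl L450767 rfl
theorem L450793 : sm gi N971 = N18515 := trfs L450768 L157277 rfl
theorem L450794 : N18515 = N676 := eqes L450793 L8538
theorem L450795 : N18515 = N676 := eqc rfl L450794 rfl
theorem L450818 : sm gh N676 = N26957 := trfs L450795 L228372 rfl
theorem L450819 : N26957 = N478 := eqes L450818 L5956
theorem L450820 : N26957 = N478 := eqc rfl L450819 rfl
theorem L450836 : sm gj N478 = N39293 := trfs L450820 (flp_j L331997) rfl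
theorem L450837 : N39293 = N695 := eqes L450836 L6101
theorem L450838 : N39293 = N695 := eqc rfl L450837 rfl
theorem L450841 : sm gf N695 = N26954 := trfs L450838 L331995 rfl
theorem L450842 : N26954 = N695 := eqes L450841 L6106
theorem L450843 : N26954 = N695 := eqc rfl L450842 rfl
theorem L450861 : sm gh N695 = N18512 := trfs L450843 (flp_h L228347) rfl
theorem L450862 : N18512 = N980 := eqes L450861 (flp_h L8608)
theorem L450863 : N18512 = N980 := eqc rfl L450862 rfl
theorem L450877 : sm ge N980 = N12215 := trfs L450863 L157257 L445521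
theorem L450878 : N12215 = N1390 := eqes L450877 (flp_e L12159)
theorem L450879 : N12215 = N1390 := eqc rfl L450878 rfl
theorem L450902 : sm gh N1390 = N8410 := trfs L450879 (flp_h L104261) rfl
theorem L450903 : N8410 = N1002 := eqes L450902 L12161
theorem L450904 : N8410 = N1002 := eqc rfl L450903 rfl
theorem L450926 : sm gj N1002 = N5799 := trfs L450904 (flp_j L72054) rfl
theorem L450927 : N5799 = N691 := eqes L450926 (flp_j L8777)
theorem L450928 : N5799 = N691 := eqc rfl L450927 rfl
theorem L450948 : sm gg N691 = N4007 := trfs L450928 (flp_g L49899) rfl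
theorem L450949 : N4007 = N474 := eqes L450948 (flp_g L6070)
theorem L450950 : N4007 = N474 := eqc rfl L450949 rfl
theorem L450968 : sm gf N474 = N2774 := trfs L450950 (flp_f L34649) rfl
theorem L450969 : N2774 = N321 := eqes L450968 (flp_f L4171)
theorem L450970 : N2774 = N321 := eqc rfl L450969 rfl
theorem L450993 : sm gh N321 = N4008 := trfs L450970 L34657 rfl
theorem L450994 : N4008 = N456 := eqes L450993 (flp_h L4035)
theorem L450995 : N4008 = N456 := eqc rfl L450994 rfl
theorem L451015 : sm gi N456 = N5801 := trfs L450995 L49915 rfl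
theorem L451016 : N5801 = N660 := eqes L451015 (flp_i L5829)
theorem L451017 : N5801 = N660 := eqc rfl L451016 rfl
theorem L451032 : sm gg N660 = N8300 := trfs L451017 (flp_g L71185) rfl
theorem L451033 : N8300 = N947 := eqes L451032 (flp_g L8345)
theorem L451034 : N8300 = N947 := eqc rfl L451033 rfl
theorem L451055 : sm gj N947 = N11937 := trfs L451034 (flp_j L101983) rfl
theorem L451056 : N11937 = N1354 := eqes L451055 (flp_j L11877)
theorem L451057 : N11937 = N1354 := eqc rfl L451056 rfl
theorem L451080 : sm gi N1354 = N8225 := trfs L451057 (flp_i L101976) rfl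
theorem L451081 : N8225 = N944 := eqes L451080 L11880
theorem L451082 : N8225 = N944 := eqc rfl L451081 rfl
theorem L451099 : sm gh N944 = N5677 := trfs L451082 (flp_h L70546) rfl
theorem L451100 : N5677 = N679 := eqes L451099 L8321
theorem L451101 : N5677 = N679 := eqc rfl L451100 rfl
theorem L451117 : sm gf N679 = N8224 := trfs L451101 L70537 rfl
theorem L451118 : N8224 = N984 := eqes L451117 L8639
theorem L451119 : N8224 = N984 := eqc rfl L451118 rfl
theorem L451137 : sm gj N984 = N5725 := trfs L451119 L70543 rfl
theorem L451138 : N5725 = N684 := eqes L451137 L8643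
theorem L451139 : N5725 = N684 := eqc rfl L451138 rfl
theorem L451148 : sm gc N684 = N8295 := trfs L451139 (flp_c L71146) rfl
theorem L451149 : N8295 = N470 := eqes L451148 L6020
theorem L451150 : N8295 = N470 := eqc rfl L451149 rfl
theorem L451170 : sm gh N470 = N12042 := trfs L451150 L102880 rfl
theorem L451171 : N12042 = N658 := eqes L451170 (flp_h L5810)
theorem L451172 : N12042 = N658 := eqc rfl L451171 rfl
theorem L451192 : sm gi N658 = N17514 := trfs L451172 L149142 rfl
theorem L451193 : N17514 = N948 := eqes L451192 (flp_i L8354)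
theorem L451194 : N17514 = N948 := eqc rfl L451193 rfl
theorem L451208 : sm gj N948 = N25250 := trfs L451194 (flp_j L214384) rfl
theorem L451209 : N25250 = N1355 := eqes L451208 (flp_j L11885)
theorem L451210 : N25250 = N1355 := eqc rfl L451209 rfl
theorem L451223 : sm gg N1355 = N36796 := trfs L451210 (flp_g L311541) rfl
theorem L451224 : N36796 = N1952 := eqes L451223 L17031
theorem L451225 : N36796 = N1952 := eqc rfl L451224 rfl
theorem L451234 : sm gi N1952 = N25248 := trfs L451225 (flp_i L311535) rfl
theorem L451235 : N25248 = N1360 := eqes L451234 L17036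
theorem L451236 : N25248 = N1360 := eqc rfl L451235 rfl
theorem L451253 : sm gh N1360 = N17348 := trfs L451236 (flp_h L214359) rfl
theorem L451254 : N17348 = N985 := eqes L451253 L11930
theorem L451255 : N17348 = N985 := eqc rfl L451254 rfl
theorem L451265 : sm gj N985 = N25247 := trfs L451255 L214349 rfl
theorem L451266 : N25247 = N1416 := eqes L451265 L12372
theorem L451267 : N25247 = N1416 := eqc rfl L451266 rfl
theorem L451279 : sm gg N1416 = N17511 := trfs L451267 L214357 rfl
theorem L451280 : N17511 = N992 := eqes L451279 L12379
theorem L451281 : N17511 = N992 := eqc rfl L451280 rfl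
theorem L451293 : sm gh N992 = N25493 := trfs L451281 L216466 rfl
theorem L451294 : N25493 = N1372 := eqes L451293 (flp_h L12027)
theorem L451295 : N25493 = N1372 := eqc rfl L451294 rfl
theorem L451309 : sm gi N1372 = N37162 := trfs L451295 L314658 rfl
theorem L451310 : N37162 = N1966 := eqes L451309 (flp_i L17155)
theorem L451311 : N37162 = N1966 := eqc rfl L451310 rfl
theorem L451316 : sm gf N1966 = N25861 := trfs L451311 L314663 rfl
theorem L451317 : N25861 = N1379 := eqes L451316 L17152
theorem L451318 : N25861 = N1379 := eqc rfl L451317 rfl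
theorem L451333 : sm gj N1379 = N17759 := trfs L451318 L219434 rfl
theorem L451334 : N17759 = N958 := eqes L451333 (flp_j L12078)
theorem L451335 : N17759 = N958 := eqc rfl L451334 rfl
theorem L451356 : sm gi N958 = N12205 := trfs L451335 (flp_i L151117) rfl
theorem L451357 : N12205 = N666 := eqes L451356 L8436
theorem L451358 : N12205 = N666 := eqc rfl L451357 rfl
theorem L451371 : sm gg N666 = N8405 := trfs L451358 L104187 rfl
theorem L451372 : N8405 = N457 := eqes L451371 (flp_g L5870)
theorem L451373 : N8405 = N457 := eqc rfl L451372 rfl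
theorem L451384 : sm ge N457 = N12203 := trfs L451373 (flp_e L104171) rfl
theorem L451385 : N12203 = N316 := eqes L451384 L4043
theorem L451386 : N12203 = N316 := eqc rfl L451385 rfl
theorem L451407 : sm gi N316 = N17756 := trfs L451386 L151092 rfl
theorem L451408 : N17756 = N460 := eqes L451407 (flp_i L4069)
theorem L451409 : N17756 = N460 := eqc rfl L451408 rfl
theorem L451419 : sm gf N460 = N25786 := trfs L451409 (flp_f L218834) rfl
theorem L451420 : N25786 = N313 := eqes L451419 (flp_f L4063)
theorem L451421 : N25786 = N313 := eqc rfl L451420 rfl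
theorem L451433 : sm ge N313 = N17711 := trfs L451421 L218832 rfl
theorem L451434 : N17711 = N214 := eqes L451433 (flp_e L2774)
theorem L451435 : N17711 = N214 := eqc rfl L451434 rfl
theorem L451456 : sm gi N214 = N12174 := trfs L451435 (flp_i L150734) rfl
theorem L451457 : N12174 = N147 := eqes L451456 L1915
theorem L451458 : N12174 = N147 := eqc rfl L451457 rfl
theorem L451475 : sm gh N147 = N8383 := trfs L451458 (flp_h L103940) rfl
theorem L451476 : N8383 = N104 := eqes L451475 L1324
theorem L451477 : N8383 = N104 := eqc rfl L451476 rfl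
theorem L451491 : sm gf N104 = N5783 := trfs L451477 (flp_f L71848) rfl
theorem L451492 : N5783 = N150 := eqes L451491 (flp_f L1349)
theorem L451493 : N5783 = N150 := eqc rfl L451492 rfl
theorem L451506 : sm gg N150 = N8282 := trfs L451493 (flp_g L71045) rfl
theorem L451507 : N8282 = N218 := eqes L451506 (flp_g L1948)
theorem L451508 : N8282 = N218 := eqc rfl L451507 rfl
theorem L451527 : sm gh N218 = N12021 := trfs L451508 L102715 rfl
theorem L451528 : N12021 = N308 := eqes L451527 (flp_h L2741)
theorem L451529 : N12021 = N308 := eqc rfl L451528 rfl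
theorem L451547 : sm gi N308 = N17483 := trfs L451529 L148896 rfl
theorem L451548 : N17483 = N450 := eqes L451547 (flp_i L3987)
theorem L451549 : N17483 = N450 := eqc rfl L451548 rfl
theorem L451561 : sm gj N450 = N25219 := trfs L451549 (flp_j L214111) rfl
theorem L451562 : N25219 = N651 := eqes L451561 (flp_j L5751)
theorem L451563 : N25219 = N651 := eqc rfl L451562 rfl
theorem L451570 : sm gd N651 = N36750 := trfs L451563 (flp_d L311135) rfl
theorem L451571 : N36750 = N448 := eqes L451570 (flp_d L5746)
theorem L451572 : N36750 = N448 := eqc rfl L451571 rfl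
theorem L451582 : sm gi N448 = N25218 := trfs L451572 (flp_i L311131) rfl
theorem L451583 : N25218 = N306 := eqes L451582 L3970
theorem L451584 : N25218 = N306 := eqc rfl L451583 rfl
theorem L451597 : sm gh N306 = N36716 := trfs L451584 (flp_h L310832) rfl
theorem L451598 : N36716 = N209 := eqes L451597 (flp_h L2718)
theorem L451599 : N36716 = N209 := eqc rfl L451598 rfl
theorem L451606 : sm gj N209 = N25415 := trfs L451599 L310829 rfl
theorem L451607 : N25415 = N143 := eqes L451606 L1876
theorem L451608 : N25415 = N143 := eqc rfl L451607 rfl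
theorem L451625 : sm gi N143 = N37044 := trfs L451608 L313717 rfl
theorem L451626 : N37044 = N96 := eqes L451625 (flp_i L1286)
theorem L451627 : N37044 = N96 := eqc rfl L451626 rfl
theorem L451633 : sm gg N96 = N25743 := trfs L451627 L313723 rfl
theorem L451634 : N25743 = N65 := eqes L451633 (flp_g L873)
theorem L451635 : N25743 = N65 := eqc rfl L451634 rfl
theorem L451651 : sm gh N65 = N37532 := trfs L451635 L317641 rfl
theorem L451652 : N37532 = N97 := eqes L451651 L880
theorem L451653 : N37532 = N97 := eqc rfl L451652 rfl
theorem L451659 : sm gi N97 = N25794 := trfs L451653 L317647 rfl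
theorem L451660 : N25794 = N144 := eqes L451659 L1295
theorem L451661 : N25794 = N144 := eqc rfl L451660 rfl
theorem L451678 : sm gh N144 = N17713 := trfs L451661 (flp_h L218890) rfl
theorem L451679 : N17713 = N212 := eqes L451678 L1893
theorem L451680 : N17713 = N212 := eqc rfl L451679 rfl
theorem L451693 : sm gi N212 = N12175 := trfs L451680 (flp_i L150750) rfl
theorem L451694 : N12175 = N145 := eqes L451693 L1900
theorem L451695 : N12175 = N145 := eqc rfl L451694 rfl
theorem L451702 : sm ge N145 = N17712 := trfs L451695 L150743 rfl
theorem L451703 : N17712 = N207 := eqes L451702 (flp_e L1855)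
theorem L451704 : N17712 = N207 := eqc rfl L451703 rfl
theorem L451722 : sm gh N207 = N25742 := trfs L451704 (flp_h L218472) rfl
theorem L451723 : N25742 = N140 := eqes L451722 (flp_h L1851)
theorem L451724 : N25742 = N140 := eqc rfl L451723 rfl
theorem L451726 : sm ga N140 = N37509 := trfs L451724 (flp_a L317449) rfl
theorem L451727 : N37509 = N182 := eqes L451726 (flp_a L1628)
theorem L451728 : N37509 = N182 := eqc rfl L451727 rfl
theorem L451739 : sm ge N182 = N25728 := trfs L451728 (flp_e L317447) rfl
theorem L451740 : N25728 = N126 := eqes L451739 L1632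
theorem L451741 : N25728 = N126 := eqc rfl L451740 rfl
theorem L451752 : sm gf N126 = N37507 := trfs L451741 (flp_f L317431) rfl
theorem L451753 : N37507 = N86 := eqes L451752 L1139
theorem L451754 : N37507 = N86 := eqc rfl L451753 rfl
theorem L451767 : sm gh N86 = N25769 := trfs L451754 L317435 rfl
theorem L451768 : N25769 = N128 := eqes L451767 L1151
theorem L451769 : N25769 = N128 := eqc rfl L451768 rfl
theorem L451771 : sm gb N128 = N37557 := trfs L451769 (flp_b L317847) rfl
theorem L451772 : N37557 = N173 := eqes L451771 (flp_b L1546)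
theorem L451773 : N37557 = N173 := eqc rfl L451772 rfl
theorem L451792 : sm gf N173 = N25762 := trfs L451773 L317849 rfl
theorem L451793 : N25762 = N253 := eqes L451792 (flp_f L2247)
theorem L451794 : N25762 = N253 := eqc rfl L451793 rfl
theorem L451812 : sm gi N253 = N37561 := trfs L451794 L317874 rfl
theorem L451813 : N37561 = N371 := eqes L451812 (flp_i L3289)
theorem L451814 : N37561 = N371 := eqc rfl L451813 rfl
theorem L451817 : sm gd N371 = N25763 := trfs L451814 L317879 rfl
theorem L451818 : N25763 = N540 := eqes L451817 L4770
theorem L451819 : N25763 = N540 := eqc rfl L451818 rfl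
theorem L451834 : sm gg N540 = N37064 := trfs L451819 (flp_g L313882) rfl
theorem L451835 : N37064 = N776 := eqes L451834 (flp_g L6848)
theorem L451836 : N37064 = N776 := eqc rfl L451835 rfl
theorem L451846 : sm gi N776 = N25430 := trfs L451836 (flp_i L313875) rfl
theorem L451847 : N25430 = N539 := eqes L451846 L6850
theorem L451848 : N25430 = N539 := eqc rfl L451847 rfl
theorem L451863 : sm gh N539 = N17471 := trfs L451848 (flp_h L215963) rfl
theorem L451864 : N17471 = N377 := eqes L451863 L4768
theorem L451865 : N17471 = N377 := eqc rfl L451864 rfl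
theorem L451881 : sm gj N377 = N25207 := trfs L451865 (flp_j L214000) rfl
theorem L451882 : N25207 = N548 := eqes L451881 (flp_j L4849)
theorem L451883 : N25207 = N548 := eqc rfl L451882 rfl
theorem L451895 : sm ge N548 = N17339 := trfs L451883 L213997 rfl
theorem L451896 : N17339 = N793 := eqes L451895 L6995
theorem L451897 : N17339 = N793 := eqc rfl L451896 rfl
theorem L451915 : sm gh N793 = N25233 := trfs L451897 L214224 rfl
theorem L451916 : N25233 = N1114 := eqes L451915 (flp_h L9791)
theorem L451917 : N25233 = N1114 := eqc rfl L451916 rfl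
theorem L451935 : sm gi N1114 = N36770 := trfs L451917 L311302 rfl
theorem L451936 : N36770 = N1595 := eqes L451935 (flp_i L13945)
theorem L451937 : N36770 = N1595 := eqc rfl L451936 rfl
theorem L451939 : sm gb N1595 = N25238 := trfs L451937 L311305 rfl
theorem L451940 : N25238 = N1209 := eqes L451939 L13939
theorem L451941 : N25238 = N1209 := eqc rfl L451940 rfl
theorem L451953 : sm gj N1209 = N17502 := trfs L451941 L214277 rfl
theorem L451954 : N17502 = N844 := eqes L451953 L10638
theorem L451955 : N17502 = N844 := eqc rfl L451954 rfl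
theorem L451970 : sm gi N844 = N12034 := trfs L451955 (flp_i L149046) rfl
theorem L451971 : N12034 = N585 := eqes L451970 L7469
theorem L451972 : N12034 = N585 := eqc rfl L451971 rfl
theorem L451987 : sm gh N585 = N8291 := trfs L451972 (flp_h L102816) rfl
theorem L451988 : N8291 = N412 := eqes L451987 L5186
theorem L451989 : N8291 = N412 := eqc rfl L451988 rfl
theorem L451998 : sm gg N412 = N5792 := trfs L451989 L71114 rfl
theorem L451999 : N5792 = N282 := eqes L451998 L3662
theorem L452000 : N5792 = N282 := eqc rfl L451999 rfl
theorem L452010 : sm gf N282 = N8396 := trfs L452000 L71946 rfl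
theorem L452011 : N8396 = N415 := eqes L452010 L3682
theorem L452012 : N8396 = N415 := eqc rfl L452011 rfl
theorem L452025 : sm gg N415 = N12192 := trfs L452012 L104077 rfl
theorem L452026 : N12192 = N608 := eqes L452025 L5383
theorem L452027 : N12192 = N608 := eqc rfl L452026 rfl
theorem L452043 : sm gj N608 = N17737 := trfs L452027 L150939 rfl
theorem L452044 : N17737 = N881 := eqes L452043 L7790
theorem L452045 : N17737 = N881 := eqc rfl L452044 rfl
theorem L452059 : sm gh N881 = N25831 := trfs L452045 L219186 rfl
theorem L452060 : N25831 = N1232 := eqes L452059 (flp_h L10846)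
theorem L452061 : N25831 = N1232 := eqc rfl L452060 rfl
theorem L452071 : sm ge N1232 = N37659 := trfs L452061 (flp_e L318679) rfl
theorem L452072 : N37659 = N866 := eqes L452071 L10844
theorem L452073 : N37659 = N866 := eqc rfl L452072 rfl
theorem L452085 : sm gj N866 = N25828 := trfs L452073 L318682 rfl
theorem L452086 : N25828 = N598 := eqes L452085 (flp_j L7658)
theorem L452087 : N25828 = N598 := eqc rfl L452086 rfl
theorem L452101 : sm gi N598 = N37661 := trfs L452087 L318690 rfl
theorem L452102 : N37661 = N860 := eqes L452101 (flp_i L7612)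
theorem L452103 : N37661 = N860 := eqc rfl L452102 rfl
theorem L452105 : sm gc N860 = N25843 := trfs L452103 L318694 rfl
theorem L452106 : N25843 = N1238 := eqes L452105 (flp_c L10901)
theorem L452107 : N25843 = N1238 := eqc rfl L452106 rfl
theorem L452127 : sm gj N1238 = N37680 := trfs L452107 (flp_j L318863) rfl
theorem L452128 : N37680 = N1784 := eqes L452127 L15622
theorem L452129 : N37680 = N1784 := eqc rfl L452128 rfl
theorem L452135 : sm ge N1784 = N25846 := trfs L452129 L318860 rfl
theorem L452136 : N25846 = N2542 := eqes L452135 (flp_e L22147)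
theorem L452137 : N25846 = N2542 := eqc rfl L452136 rfl
theorem L452148 : sm gf N2542 = N18220 := trfs L452137 (flp_f L314557) L444962
theorem L452149 : N18220 = N3641 := eqes L452148 (flp_f L31562)
theorem L452150 : N18220 = N3641 := eqc rfl L452149 rfl
theorem L452180 : sm gi N3641 = N25484 := trfs L452150 L225105 L444941
theorem L452181 : N25484 = N2531 := eqes L452180 L31565
theorem L452182 : N25484 = N2531 := eqc rfl L452181 rfl
theorem L452199 : sm gh N2531 = N17505 := trfs L452182 (flp_h L216398) rfl
theorem L452200 : N17505 = N1811 := eqes L452199 L22051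
theorem L452201 : N17505 = N1811 := eqc rfl L452200 rfl
theorem L452217 : sm gj N1811 = N12036 := trfs L452201 (flp_j L149068) rfl
theorem L452218 : N12036 = N1258 := eqes L452217 (flp_j L15861)
theorem L452219 : N12036 = N1258 := eqc rfl L452218 rfl
theorem L452226 : sm gd N1258 = N8294 := trfs L452219 L102833 rfl
theorem L452227 : N8294 = N1808 := eqes L452226 (flp_d L15839)
theorem L452228 : N8294 = N1808 := eqc rfl L452227 rfl
theorem L452247 : sm gh N1808 = N5736 := trfs L452228 L71138 rfl
theorem L452248 : N5736 = N2609 := eqes L452247 L22736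
theorem L452249 : N5736 = N2609 := eqc rfl L452248 rfl
theorem L452252 : sm gb N2609 = N7450 := trfs L452249 (flp_b L63956) rfl
theorem L452253 : N7450 = N3761 := eqes L452252 (flp_b L32603)
theorem L452254 : N7450 = N3761 := eqc rfl L452253 rfl
theorem L452267 : sm gi N2609 = N3979 := trfs L452249 L49412 rfl
theorem L452268 : N3979 = N3768 := eqes L452267 L32662
theorem L452269 : N3979 = N3768 := eqc rfl L452268 rfl
theorem L452272 : sm gb N3768 = N5155 := trfs L452269 (flp_b L44441) rfl
theorem L452273 : N5155 = N5443 := eqes L452272 (flp_b L46958)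
theorem L452274 : N5443 = N5155 := (eqc rfl L452273 rfl).symm
theorem L452278 : sm gf N3768 = N2794 := trfs L452269 L34441 rfl
theorem L452279 : N2794 = N2626 := eqes L452278 L32667
theorem L452280 : N2794 = N2626 := eqc rfl L452279 rfl
theorem L452281 : sm gg N3768 = N2755 := trfs L452269 (flp_g L34435) rfl
theorem L452282 : N2755 = N2610 := eqes L452281 L32669
theorem L452283 : N2755 = N2610 := eqc rfl L452282 rfl
theorem L452284 : sm gj N3768 = N5756 := trfs L452269 L49568 rfl
theorem L452285 : N5756 = N5449 := eqes L452284 (flp_j L47017)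
theorem L452286 : N5756 = N5449 := eqc rfl L452285 rfl
theorem L452290 : sm gb N5449 = N7470 := trfs L452286 (flp_b L64134) rfl
theorem L452291 : N7470 = N7883 := eqes L452290 (flp_b L67726)
theorem L452292 : N7883 = N7470 := (eqc rfl L452291 rfl).symm
theorem L452298 : sm gf N5449 = N4038 := trfs L452286 L49573 rfl
theorem L452299 : N4038 = N3786 := eqes L452298 L47015
theorem L452300 : N4038 = N3786 := eqc rfl L452299 rfl
theorem L452301 : sm gg N5449 = N8255 := trfs L452286 (flp_g L70821) rfl
theorem L452302 : N8255 = N7843 := eqes L452301 (flp_g L67386)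
theorem L452303 : N8255 = N7843 := eqc rfl L452302 rfl
theorem L452317 : sm gj N7843 = N5697 := trfs L452303 (flp_j L70814) rfl
theorem L452318 : N5697 = N5416 := eqes L452317 L67388
theorem L452319 : N5697 = N5416 := eqc rfl L452318 rfl
theorem L452321 : sm gi N7843 = N11951 := trfs L452303 (flp_i L102111) rfl
theorem L452322 : N11951 = N5415 := eqes L452321 (flp_i L67380)
theorem L452323 : N11951 = N5415 := eqc rfl L452322 rfl
theorem L452338 : sm gh N5415 = N17346 := trfs L452323 (flp_h L147705) rfl
theorem L452339 : N17346 = N3742 := eqes L452338 (flp_h L46713)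
theorem L452340 : N17346 = N3742 := eqc rfl L452339 rfl
theorem L452350 : sm gj N3742 = N11931 := trfs L452340 (flp_j L147699) rfl
theorem L452351 : N11931 = N2591 := eqes L452350 (flp_j L32431)
theorem L452352 : N11931 = N2591 := eqc rfl L452351 rfl
theorem L452368 : sm gg N2591 = N8222 := trfs L452352 (flp_g L101925) rfl
theorem L452369 : N8222 = N1797 := eqes L452368 (flp_g L22574)
theorem L452370 : N8222 = N1797 := eqc rfl L452369 rfl
theorem L452384 : sm gh N1797 = N5684 := trfs L452370 L70526 rfl
theorem L452385 : N5684 = N2592 := eqes L452384 L22583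
theorem L452386 : N5684 = N2592 := eqc rfl L452385 rfl
theorem L452389 : sm gb N2592 = N7403 := trfs L452386 (flp_b L63523) rfl
theorem L452390 : N7403 = N3737 := eqes L452389 (flp_b L32386)
theorem L452391 : N7403 = N3737 := eqc rfl L452390 rfl
theorem L452395 : sm gf N2592 = N3932 := trfs L452386 (flp_f L48977) rfl
theorem L452396 : N3932 = N1798 := eqes L452395 L22588
theorem L452397 : N3932 = N1798 := eqc rfl L452396 rfl
theorem L452402 : sm gb N1798 = N5111 := trfs L452397 (flp_b L44033) rfl
theorem L452403 : N5111 = N2588 := eqes L452402 (flp_b L22549)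
theorem L452404 : N5111 = N2588 := eqc rfl L452403 rfl
theorem L452409 : sm ge N1798 = N2725 := trfs L452397 (flp_e L34051) rfl
theorem L452410 : N2725 = N1276 := eqes L452409 L15751
theorem L452411 : N2725 = N1276 := eqc rfl L452410 rfl
theorem L452417 : sm gb N1276 = N3536 := trfs L452411 (flp_b L30624) rfl
theorem L452418 : N3536 = N1830 := eqes L452417 (flp_b L16035)
theorem L452419 : N3536 = N1830 := eqc rfl L452418 rfl
theorem L452430 : sm gi N1276 = N1897 := trfs L452411 L23735 rfl
theorem L452431 : N1897 = N1835 := eqes L452430 L16080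
theorem L452432 : N1897 = N1835 := eqc rfl L452431 rfl
theorem L452435 : sm gb N1835 = N2454 := trfs L452432 (flp_b L21370) rfl
theorem L452436 : N2454 = N2636 := eqes L452435 (flp_b L22979)
theorem L452437 : N2636 = N2454 := (eqc rfl L452436 rfl).symm
theorem L452443 : sm gj N1835 = N1330 := trfs L452432 L16607 rfl
theorem L452444 : N1330 = N1285 := eqes L452443 L16087
theorem L452445 : N1330 = N1285 := eqc rfl L452444 rfl
theorem L452449 : sm gb N1285 = N1715 := trfs L452445 (flp_b L15017) rfl
theorem L452450 : N1715 = N1843 := eqes L452449 (flp_b L16149)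
theorem L452451 : N1843 = N1715 := (eqc rfl L452450 rfl).symm
theorem L452456 : sm gg N1285 = N936 := trfs L452445 L11693 rfl
theorem L452457 : N936 = N898 := eqes L452456 L11322
theorem L452458 : N936 = N898 := eqc rfl L452457 rfl
theorem L452461 : sm ga N898 = N648 := trfs L452458 (flp_a L8251) rfl
theorem L452462 : N648 = N709 := eqes L452461 L7946
theorem L452463 : N709 = N648 := (eqc rfl L452462 rfl).symm
theorem L452464 : sm gb N898 = N1203 := trfs L452458 (flp_b L10588) rfl
theorem L452465 : N1203 = N1289 := eqes L452464 (flp_b L11351)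
theorem L452466 : N1289 = N1203 := (eqc rfl L452465 rfl).symm
theorem L452469 : sm ge N898 = N1346 := trfs L452458 L11812 rfl
theorem L452470 : N1346 = N1268 := eqes L452469 (flp_e L11166)
theorem L452471 : N1346 = N1268 := eqc rfl L452470 rfl
theorem L452475 : sm gi N898 = N1341 := trfs L452458 (flp_i L11778) rfl
theorem L452476 : N1341 = N622 := eqes L452475 (flp_i L7944)
theorem L452477 : N1341 = N622 := eqc rfl L452476 rfl
theorem L452478 : sm ga N622 = N933 := trfs L452477 (flp_a L11772) rfl
theorem L452479 : N933 = N489 := eqes L452478 L5514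
theorem L452480 : N933 = N489 := eqc rfl L452479 rfl
theorem L452481 : sm gb N622 = N1725 := trfs L452477 (flp_b L15104) rfl
theorem L452482 : N1725 = N897 := eqes L452481 (flp_b L7939)
theorem L452483 : N1725 = N897 := eqc rfl L452482 rfl
theorem L452492 : sm gh N622 = N1925 := trfs L452477 (flp_h L16824) rfl
theorem L452493 : N1925 = N428 := eqes L452492 (flp_h L5512)
theorem L452494 : N1925 = N428 := eqc rfl L452493 rfl
theorem L452509 : sm gg N428 = N2742 := trfs L452494 (flp_g L23872) rfl
theorem L452510 : N2742 = N618 := eqes L452509 (flp_g L5480)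
theorem L452511 : N2742 = N618 := eqc rfl L452510 rfl
theorem L452527 : sm gf N618 = N3899 := trfs L452511 (flp_f L33796) rfl
theorem L452528 : N3899 = N893 := eqes L452527 L7904
theorem L452529 : N3899 = N893 := eqc rfl L452528 rfl
theorem L452546 : sm gh N893 = N2707 := trfs L452529 L33799 rfl
theorem L452547 : N2707 = N1284 := eqes L452546 L11307
theorem L452548 : N2707 = N1284 := eqc rfl L452547 rfl
theorem L452551 : sm gb N1284 = N3519 := trfs L452548 (flp_b L30471) rfl
theorem L452552 : N3519 = N1842 := eqes L452551 (flp_b L16141)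
theorem L452553 : N3519 = N1842 := eqc rfl L452552 rfl
theorem L452561 : sm ga N1842 = N2440 := trfs L452553 (flp_a L30463) rfl
theorem L452562 : N2440 = N2645 := eqes L452561 (flp_a L23063)
theorem L452563 : N2645 = N2440 := (eqc rfl L452562 rfl).symm
theorem L452564 : sm gc N1842 = N4687 := trfs L452553 (flp_c L40380) rfl
theorem L452565 : N4687 = N2648 := eqes L452564 (flp_c L23091)
theorem L452566 : N4687 = N2648 := eqc rfl L452565 rfl
theorem L452568 : sm ge N1842 = N5085 := trfs L452553 L43802 rfl
theorem L452569 : N5085 = N2651 := eqes L452568 (flp_e L23115)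
theorem L452570 : N5085 = N2651 := eqc rfl L452569 rfl
theorem L452571 : sm gf N1842 = N2464 := trfs L452553 L30466 rfl
theorem L452572 : N2464 = N1282 := eqes L452571 L16143
theorem L452573 : N2464 = N1282 := eqc rfl L452572 rfl
theorem L452575 : sm gj N1842 = N5058 := trfs L452553 (flp_j L43560) rfl
theorem L452576 : N5058 = N2635 := eqes L452575 (flp_j L22974)
theorem L452577 : N5058 = N2635 := eqc rfl L452576 rfl
theorem L452579 : sm gi N1842 = N2443 := trfs L452553 L30469 rfl
theorem L452580 : N2443 = N2652 := eqes L452579 L23118
theorem L452581 : N2652 = N2443 := (eqc rfl L452580 rfl).symm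
theorem L452591 : sm ge N2443 = N3823 := trfs L452581 (flp_e L33156) rfl
theorem L452592 : N3823 = N3524 := eqes L452591 L30509
theorem L452593 : N3823 = N3524 := eqc rfl L452592 rfl
theorem L452596 : sm gj N2443 = N3802 := trfs L452581 (flp_j L32974) rfl
theorem L452597 : N3802 = N3504 := eqes L452596 (flp_j L30334)
theorem L452598 : N3802 = N3504 := eqc rfl L452597 rfl
theorem L452600 : sm gi N2443 = N1842 := trfs L452581 (flp_i L23118) rfl
theorem L452607 : sm gc N3504 = N5487 := trfs L452598 (flp_c L47351) rfl
theorem L452608 : N5487 = N4677 := eqes L452607 (flp_c L40288)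
theorem L452609 : N5487 = N4677 := eqc rfl L452608 rfl
theorem L452611 : sm ge N3504 = N5493 := trfs L452598 (flp_e L47404) rfl
theorem L452612 : N5493 = N5063 := eqes L452611 L43605
theorem L452613 : N5493 = N5063 := eqc rfl L452612 rfl
theorem L452615 : sm gg N3504 = N5494 := trfs L452598 (flp_g L47415) rfl
theorem L452616 : N5494 = N5043 := eqes L452615 (flp_g L43413)
theorem L452617 : N5494 = N5043 := eqc rfl L452616 rfl
theorem L452624 : sm gb N5043 = N3807 := trfs L452617 L47411 rfl
theorem L452625 : N3807 = N3850 := eqes L452624 L43417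
theorem L452626 : N3850 = N3807 := (eqc rfl L452625 rfl).symm
theorem L452627 : sm gc N5043 = N7942 := trfs L452617 (flp_c L68244) rfl
theorem L452628 : N7942 = N6748 := eqes L452627 (flp_c L57885)
theorem L452629 : N7942 = N6748 := eqc rfl L452628 rfl
theorem L452631 : sm ge N5043 = N7950 := trfs L452617 (flp_e L68314) rfl
theorem L452632 : N7950 = N7300 := eqes L452631 L62582
theorem L452633 : N7950 = N7300 := eqc rfl L452632 rfl
theorem L452637 : sm gi N5043 = N3801 := trfs L452617 (flp_i L47409) rfl
theorem L452638 : N3801 = N7295 := eqes L452637 (flp_i L62538)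
theorem L452639 : N7295 = N3801 := (eqc rfl L452638 rfl).symm
theorem L452640 : sm ga N3801 = N5040 := trfs L452639 (flp_a L62531) rfl
theorem L452641 : N5040 = N5480 := eqes L452640 (flp_a L47283)
theorem L452642 : N5480 = N5040 := (eqc rfl L452641 rfl).symm
theorem L452646 : sm gc N3801 = N9774 := trfs L452639 (flp_c L83537) rfl
theorem L452647 : N9774 = N5485 := eqes L452646 (flp_c L47333)
theorem L452648 : N9774 = N5485 := eqc rfl L452647 rfl
theorem L452650 : sm ge N3801 = N10576 := trfs L452639 L90330 rfl
theorem L452651 : N10576 = N5491 := eqes L452650 (flp_e L47387)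
theorem L452652 : N10576 = N5491 := eqc rfl L452651 rfl
theorem L452656 : sm gh N3801 = N10571 := trfs L452639 (flp_h L90286) rfl
theorem L452657 : N10571 = N2634 := eqes L452656 (flp_h L32958)
theorem L452658 : N10571 = N2634 := eqc rfl L452657 rfl
theorem L452659 : sm gi N3801 = N5043 := trfs L452639 L62538 rfl
theorem L452675 : sm gg N2634 = N7317 := trfs L452658 L90283 rfl
theorem L452676 : N7317 = N1829 := eqes L452675 (flp_g L22959)
theorem L452677 : N7317 = N1829 := eqc rfl L452676 rfl
theorem L452680 : sm ga N1829 = N5055 := trfs L452677 (flp_a L62747) rfl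
theorem L452681 : N5055 = N2628 := eqes L452680 (flp_a L22903)
theorem L452682 : N5055 = N2628 := eqc rfl L452681 rfl
theorem L452693 : sm gf N1829 = N5106 := trfs L452677 L62749 rfl
theorem L452694 : N5106 = N1273 := eqes L452693 (flp_f L16024)
theorem L452695 : N5106 = N1273 := eqc rfl L452694 rfl
theorem L452699 : sm ga N1273 = N3533 := trfs L452695 (flp_a L43980) rfl
theorem L452700 : N3533 = N1826 := eqes L452699 (flp_a L15996)
theorem L452701 : N3533 = N1826 := eqc rfl L452700 rfl
theorem L452709 : sm ge N1273 = N7395 := trfs L452695 L63437 rfl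
theorem L452710 : N7395 = N1795 := eqes L452709 (flp_e L15726)
theorem L452711 : N7395 = N1795 := eqc rfl L452710 rfl
theorem L452716 : sm ga N1795 = N5107 := trfs L452711 L63439 rfl
theorem L452717 : N5107 = N2584 := eqes L452716 (flp_a L22509)
theorem L452718 : N5107 = N2584 := eqc rfl L452717 rfl
theorem L452728 : sm gj N1795 = N5134 := trfs L452711 L63444 rfl
theorem L452729 : N5134 = N1254 := eqes L452728 L15723
theorem L452730 : N5134 = N1254 := eqc rfl L452729 rfl
theorem L452733 : sm ga N1254 = N3552 := trfs L452730 L44250 rfl
theorem L452734 : N3552 = N1801 := eqes L452733 (flp_a L15777)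
theorem L452735 : N3552 = N1801 := eqc rfl L452734 rfl
theorem L452750 : sm gh N1254 = N3556 := trfs L452730 L44256 rfl
theorem L452751 : N3556 = N1805 := eqes L452750 L15809
theorem L452752 : N3556 = N1805 := eqc rfl L452751 rfl
theorem L452754 : sm ga N1805 = N2465 := trfs L452752 L30804 rfl
theorem L452755 : N2465 = N2597 := eqes L452754 (flp_a L22634)
theorem L452756 : N2597 = N2465 := (eqc rfl L452755 rfl).symm
theorem L452758 : sm gc N1805 = N4719 := trfs L452752 (flp_c L40678) rfl
theorem L452759 : N4719 = N2600 := eqes L452758 (flp_c L22661)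
theorem L452760 : N4719 = N2600 := eqc rfl L452759 rfl
theorem L452761 : sm gd N1805 = N5141 := trfs L452752 L44311 rfl
theorem L452762 : N5141 = N2525 := eqes L452761 (flp_d L22000)
theorem L452763 : N5141 = N2525 := eqc rfl L452762 rfl
theorem L452765 : sm gf N1805 = N5142 := trfs L452752 L44322 rfl
theorem L452766 : N5142 = N2603 := eqes L452765 (flp_f L22688)
theorem L452767 : N5142 = N2603 := eqc rfl L452766 rfl
theorem L452768 : sm gg N1805 = N2484 := trfs L452752 L30808 rfl
theorem L452769 : N2484 = N1264 := eqes L452768 L15815
theorem L452770 : N2484 = N1264 := eqc rfl L452769 rfl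
theorem L452772 : sm gi N1805 = N2469 := trfs L452752 L30810 rfl
theorem L452773 : N2469 = N2604 := eqes L452772 L22690
theorem L452774 : N2604 = N2469 := (eqc rfl L452773 rfl).symm
theorem L452783 : sm gd N2469 = N3651 := trfs L452774 (flp_d L31641) rfl
theorem L452784 : N3651 = N3563 := eqes L452783 L30866
theorem L452785 : N3651 = N3563 := eqc rfl L452784 rfl
theorem L452793 : sm gj N2469 = N3738 := trfs L452774 (flp_j L32399) rfl
theorem L452794 : N3738 = N3541 := eqes L452793 (flp_j L30673)
theorem L452795 : N3738 = N3541 := eqc rfl L452794 rfl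
theorem L452797 : sm gi N2469 = N1805 := trfs L452774 (flp_i L22690) rfl
theorem L452804 : sm gc N3541 = N5404 := trfs L452795 (flp_c L46610) rfl
theorem L452805 : N5404 = N4707 := eqes L452804 (flp_c L40566)
theorem L452806 : N5404 = N4707 := eqc rfl L452805 rfl
theorem L452807 : sm gd N3541 = N5247 := trfs L452795 (flp_d L45247) rfl
theorem L452808 : N5247 = N5118 := eqes L452807 L44100
theorem L452809 : N5247 = N5118 := eqc rfl L452808 rfl
theorem L452811 : sm gf N3541 = N5409 := trfs L452795 (flp_f L46657) rfl
theorem L452812 : N5409 = N5119 := eqes L452811 L44110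
theorem L452813 : N5409 = N5119 := eqc rfl L452812 rfl
theorem L452823 : sm gc N5119 = N7826 := trfs L452813 (flp_c L67224) rfl
theorem L452824 : N7826 = N6809 := eqes L452823 (flp_c L58445)
theorem L452825 : N7826 = N6809 := eqc rfl L452824 rfl
theorem L452826 : sm gd N5119 = N7608 := trfs L452813 (flp_d L65351) rfl
theorem L452827 : N7608 = N7414 := eqes L452826 (flp_d L63633)
theorem L452828 : N7608 = N7414 := eqc rfl L452827 rfl
theorem L452829 : sm ge N5119 = N7833 := trfs L452813 (flp_e L67287) rfl
theorem L452830 : N7833 = N7330 := eqes L452829 (flp_e L62883)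
theorem L452831 : N7833 = N7330 := eqc rfl L452830 rfl
theorem L452832 : sm gg N5119 = N7835 := trfs L452813 (flp_g L67308) rfl
theorem L452833 : N7835 = N7416 := eqes L452832 L63648
theorem L452834 : N7835 = N7416 := eqc rfl L452833 rfl
theorem L452844 : sm gc N7416 = N11358 := trfs L452834 (flp_c L97209) rfl
theorem L452845 : N11358 = N9872 := eqes L452844 (flp_c L84419)
theorem L452846 : N11358 = N9872 := eqc rfl L452845 rfl
theorem L452847 : sm gd N7416 = N11048 := trfs L452834 (flp_d L94561) rfl
theorem L452848 : N11048 = N10758 := eqes L452847 (flp_d L91987)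
theorem L452849 : N11048 = N10758 := eqc rfl L452848 rfl
theorem L452856 : sm gi N7416 = N5408 := trfs L452834 (flp_i L67303) rfl
theorem L452857 : N5408 = N10741 := eqes L452856 (flp_i L91821)
theorem L452858 : N10741 = N5408 := (eqc rfl L452857 rfl).symm
theorem L452859 : sm ga N5408 = N7407 := trfs L452858 L91817 rfl
theorem L452860 : N7407 = N7818 := eqes L452859 (flp_a L67151)
theorem L452861 : N7818 = N7407 := (eqc rfl L452860 rfl).symm
theorem L452863 : sm gc N5408 = N14316 := trfs L452858 (flp_c L122012) rfl
theorem L452864 : N14316 = N7824 := eqes L452863 (flp_c L67209)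
theorem L452865 : N14316 = N7824 := eqc rfl L452864 rfl
theorem L452869 : sm ge N5408 = N15428 := trfs L452858 (flp_e L131447) rfl
theorem L452870 : N15428 = N7831 := eqes L452869 (flp_e L67270)
theorem L452871 : N15428 = N7831 := eqc rfl L452870 rfl
theorem L452876 : sm gi N5408 = N7416 := trfs L452858 L91821 rfl
theorem L452878 : sm ga N7831 = N10622 := trfs L452871 L131443 rfl
theorem L452879 : N10622 = N11344 := eqes L452878 (flp_a L97075)
theorem L452880 : N11344 = N10622 := (eqc rfl L452879 rfl).symm
theorem L452884 : sm gc N7831 = N20675 := trfs L452871 (flp_c L175757) rfl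
theorem L452885 : N20675 = N11353 := eqes L452884 (flp_c L97165)
theorem L452886 : N20675 = N11353 := eqc rfl L452885 rfl
theorem L452890 : sm gf N7831 = N22351 := trfs L452871 (flp_f L189849) rfl
theorem L452891 : N22351 = N11365 := eqes L452890 (flp_f L97268)
theorem L452892 : N22351 = N11365 := eqc rfl L452891 rfl
theorem L452893 : sm gg N7831 = N10618 := trfs L452871 (flp_g L131441) rfl
theorem L452894 : N10618 = N5406 := eqes L452893 L67272
theorem L452895 : N10618 = N5406 := eqc rfl L452894 rfl
theorem L452896 : sm gj N7831 = N22449 := trfs L452871 L190759 rfl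
theorem L452897 : N22449 = N11366 := eqes L452896 (flp_j L97280)
theorem L452898 : N22449 = N11366 := eqc rfl L452897 rfl
theorem L452899 : sm gh N7831 = N22429 := trfs L452871 (flp_h L190579) rfl
theorem L452900 : N22429 = N5405 := eqes L452899 (flp_h L67266)
theorem L452901 : N22429 = N5405 := eqc rfl L452900 rfl
theorem L452919 : sm gj N5405 = N32672 := trfs L452901 L276916 rfl
theorem L452920 : N32672 = N7830 := eqes L452919 L67256
theorem L452921 : N32672 = N7830 := eqc rfl L452920 rfl
theorem L452931 : sm gg N7830 = N22565 := trfs L452921 L276927 rfl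
theorem L452932 : N22565 = N5438 := eqes L452931 L67264
theorem L452933 : N22565 = N5438 := eqc rfl L452932 rfl
theorem L452936 : sm ga N5438 = N15513 := trfs L452933 L191783 rfl
theorem L452937 : N15513 = N7858 := eqes L452936 (flp_a L67519)
theorem L452938 : N15513 = N7858 := eqc rfl L452937 rfl
theorem L452953 : sm gh N5438 = N15526 := trfs L452933 L191790 rfl
theorem L452954 : N15526 = N7878 := eqes L452953 L67684
theorem L452955 : N15526 = N7878 := eqc rfl L452954 rfl
theorem L452957 : sm ga N7878 = N10689 := trfs L452955 L132299 rfl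
theorem L452958 : N10689 = N11406 := eqes L452957 (flp_a L97635)
theorem L452959 : N11406 = N10689 := (eqc rfl L452958 rfl).symm
theorem L452963 : sm gc N7878 = N20747 := trfs L452955 (flp_c L176370) rfl
theorem L452964 : N20747 = N11416 := eqes L452963 (flp_c L97726)
theorem L452965 : N20747 = N11416 := eqc rfl L452964 rfl
theorem L452969 : sm ge N7878 = N10813 := trfs L452955 L132303 rfl
theorem L452970 : N10813 = N5442 := eqes L452969 L67688
theorem L452971 : N10813 = N5442 := eqc rfl L452970 rfl
theorem L452974 : sm gj N7878 = N10682 := trfs L452955 (flp_j L132297) rfl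
theorem L452975 : N10682 = N5439 := eqes L452974 L67691
theorem L452976 : N10682 = N5439 := eqc rfl L452975 rfl
theorem L452977 : sm gi N7878 = N10702 := trfs L452955 L132306 rfl
theorem L452978 : N10702 = N11433 := eqes L452977 L97844
theorem L452979 : N11433 = N10702 := (eqc rfl L452978 rfl).symm
theorem L452996 : sm gj N10702 = N7880 := trfs L452979 L97851 rfl
theorem L452997 : N7880 = N7377 := eqes L452996 (flp_j L91467)
theorem L452998 : N7880 = N7377 := eqc rfl L452997 rfl
theorem L453007 : sm gc N7377 = N11418 := trfs L452998 (flp_c L97742) rfl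
theorem L453008 : N11418 = N9838 := eqes L453007 (flp_c L84117)
theorem L453009 : N11418 = N9838 := eqc rfl L453008 rfl
theorem L453015 : sm gg N7377 = N5441 := trfs L452998 L67708 rfl
theorem L453016 : N5441 = N5093 := eqes L453015 (flp_g L63285)
theorem L453017 : N5441 = N5093 := eqc rfl L453016 rfl
theorem L453024 : sm gb N5093 = N3766 := trfs L453017 L46941 rfl
theorem L453025 : N3766 = N3912 := eqes L453024 L43876
theorem L453026 : N3912 = N3766 := (eqc rfl L453025 rfl).symm
theorem L453027 : sm gc N5093 = N7869 := trfs L453017 (flp_c L67621) rfl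
theorem L453028 : N7869 = N6786 := eqes L453027 (flp_c L58241)
theorem L453029 : N7869 = N6786 := eqc rfl L453028 rfl
theorem L453030 : sm gd N5093 = N7882 := trfs L453017 (flp_d L67720) rfl
theorem L453031 : N7882 = N7375 := eqes L453030 (flp_d L63274)
theorem L453032 : N7882 = N7375 := eqc rfl L453031 rfl
theorem L453037 : sm gi N5093 = N3759 := trfs L453017 (flp_i L46939) rfl
theorem L453038 : N3759 = N7364 := eqes L453037 (flp_i L63181)
theorem L453039 : N7364 = N3759 := (eqc rfl L453038 rfl).symm
theorem L453040 : sm ga N3759 = N5087 := trfs L453039 L63177 rfl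
theorem L453041 : N5087 = N5425 := eqes L453040 (flp_a L46807)
theorem L453042 : N5425 = N5087 := (eqc rfl L453041 rfl).symm
theorem L453046 : sm gc N3759 = N9825 := trfs L453039 (flp_c L84013) rfl
theorem L453047 : N9825 = N5431 := eqes L453046 (flp_c L46864)
theorem L453048 : N9825 = N5431 := eqc rfl L453047 rfl
theorem L453049 : sm gd N3759 = N10680 := trfs L453039 (flp_d L91286) rfl
theorem L453050 : N10680 = N5440 := eqes L453049 L46932
theorem L453051 : N10680 = N5440 := eqc rfl L453050 rfl
theorem L453056 : sm gh N3759 = N10669 := trfs L453039 (flp_h L91196) rfl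
theorem L453057 : N10669 = N2601 := eqes L453056 (flp_h L32584)
theorem L453058 : N10669 = N2601 := eqc rfl L453057 rfl
theorem L453059 : sm gi N3759 = N5093 := trfs L453039 L63181 rfl
theorem L453070 : sm gf N2601 = N7356 := trfs L453058 (flp_f L91190) rfl
theorem L453071 : N7356 = N1841 := eqes L453070 L22673
theorem L453072 : N7356 = N1841 := eqc rfl L453071 rfl
theorem L453076 : sm ga N1841 = N5081 := trfs L453072 L63106 rfl
theorem L453077 : N5081 = N2644 := eqes L453076 (flp_a L23054)
theorem L453078 : N5081 = N2644 := eqc rfl L453077 rfl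
theorem L453080 : sm gc N1841 = N9817 := trfs L453072 (flp_c L83941) rfl
theorem L453081 : N9817 = N2647 := eqes L453080 (flp_c L23084)
theorem L453082 : N9817 = N2647 := eqc rfl L453081 rfl
theorem L453089 : sm ga N2647 = N6774 := trfs L453082 L83938 rfl
theorem L453090 : N6774 = N3810 := eqes L453089 (flp_a L33046)
theorem L453091 : N6774 = N3810 := eqc rfl L453090 rfl
theorem L453104 : sm gh N2647 = N6778 := trfs L453082 L83944 rfl
theorem L453105 : N6778 = N3817 := eqes L453104 L33105
theorem L453106 : N6778 = N3817 := eqc rfl L453105 rfl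
theorem L453108 : sm ga N3817 = N4688 := trfs L453106 L58171 rfl
theorem L453109 : N4688 = N5505 := eqes L453108 (flp_a L47513)
theorem L453110 : N5505 = N4688 := (eqc rfl L453109 rfl).symm
theorem L453113 : sm gd N3817 = N9824 := trfs L453106 L84000 rfl
theorem L453114 : N9824 = N5513 := eqes L453113 L47581
theorem L453115 : N9824 = N5513 := eqc rfl L453114 rfl
theorem L453119 : sm gj N3817 = N9794 := trfs L453106 (flp_j L83739) rfl
theorem L453120 : N9794 = N5484 := eqes L453119 (flp_j L47328)
theorem L453121 : N9794 = N5484 := eqc rfl L453120 rfl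
theorem L453122 : sm gi N3817 = N4692 := trfs L453106 L58177 rfl
theorem L453123 : N4692 = N5514 := eqes L453122 L47585
theorem L453124 : N5514 = N4692 := (eqc rfl L453123 rfl).symm
theorem L453136 : sm gj N4692 = N7940 := trfs L453124 (flp_j L68229) rfl
theorem L453137 : N7940 = N6763 := eqes L453136 (flp_j L58039)
theorem L453138 : N7940 = N6763 := eqc rfl L453137 rfl
theorem L453140 : sm gi N4692 = N3817 := trfs L453124 (flp_i L47585) rfl
theorem L453147 : sm gd N6763 = N11516 := trfs L453138 (flp_d L98551) rfl
theorem L453148 : N11516 = N9801 := eqes L453147 L83800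
theorem L453149 : N11516 = N9801 := eqc rfl L453148 rfl
theorem L453151 : sm gf N6763 = N11355 := trfs L453138 (flp_f L97185) rfl
theorem L453152 : N11355 = N9802 := eqes L453151 L83807
theorem L453153 : N11355 = N9802 := eqc rfl L453152 rfl
theorem L453154 : sm gg N6763 = N11513 := trfs L453138 (flp_g L98531) rfl
theorem L453155 : N11513 = N9779 := eqes L453154 (flp_g L83593)
theorem L453156 : N11513 = N9779 := eqc rfl L453155 rfl
theorem L453165 : sm gd N9779 = N16727 := trfs L453156 (flp_d L142639) rfl
theorem L453166 : N16727 = N14193 := eqes L453165 L120951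
theorem L453167 : N16727 = N14193 := eqc rfl L453166 rfl
theorem L453169 : sm gf N9779 = N16724 := trfs L453156 (flp_f L142617) rfl
theorem L453170 : N16724 = N14194 := eqes L453169 L120959
theorem L453171 : N16724 = N14194 := eqc rfl L453170 rfl
theorem L453174 : sm gi N9779 = N7938 := trfs L453156 (flp_i L98524) rfl
theorem L453175 : N7938 = N14186 := eqes L453174 (flp_i L120892)
theorem L453176 : N14186 = N7938 := (eqc rfl L453175 rfl).symm
theorem L453177 : sm ga N7938 = N9775 := trfs L453176 L120884 rfl
theorem L453178 : N9775 = N11492 := eqes L453177 (flp_a L98332)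
theorem L453179 : N11492 = N9775 := (eqc rfl L453178 rfl).symm
theorem L453182 : sm gd N7938 = N20627 := trfs L453176 L175313 rfl
theorem L453183 : N20627 = N11512 := eqes L453182 L98518
theorem L453184 : N20627 = N11512 := eqc rfl L453183 rfl
theorem L453191 : sm gh N7938 = N20620 := trfs L453176 (flp_h L175251) rfl
theorem L453192 : N20620 = N5483 := eqes L453191 (flp_h L68207)
theorem L453193 : N20620 = N5483 := eqc rfl L453192 rfl
theorem L453194 : sm gi N7938 = N9779 := trfs L453176 L120892 rfl
theorem L453196 : sm ga N5483 = N14182 := trfs L453193 L175243 rfl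
theorem L453197 : N14182 = N7923 := eqes L453196 (flp_a L68061)
theorem L453198 : N14182 = N7923 := eqc rfl L453197 rfl
theorem L453205 : sm gf N5483 = N30014 := trfs L453193 L254464 rfl
theorem L453206 : N30014 = N7937 := eqes L453205 L68199
theorem L453207 : N30014 = N7937 := eqc rfl L453206 rfl
theorem L453211 : sm ga N7937 = N20622 := trfs L453207 L254466 rfl
theorem L453212 : N20622 = N11491 := eqes L453211 (flp_a L98323)
theorem L453213 : N20622 = N11491 := eqc rfl L453212 rfl
theorem L453222 : sm gg N7937 = N43749 := trfs L453207 L369985 rfl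
theorem L453223 : N43749 = N11351 := eqes L453222 (flp_g L97150)
theorem L453224 : N43749 = N11351 := eqc rfl L453223 rfl
theorem L453235 : sm gh N11351 = N30027 := trfs L453224 L369993 rfl
theorem L453236 : N30027 = N16500 := eqes L453235 L140738
theorem L453237 : N30027 = N16500 := eqc rfl L453236 rfl
theorem L453253 : sm gi N16500 = N20641 := trfs L453237 L254597 rfl
theorem L453254 : N20641 = N24019 := eqes L453253 L204250
theorem L453255 : N24019 = N20641 := (eqc rfl L453254 rfl).symm
theorem L453271 : sm gj N20641 = N34996 := trfs L453255 (flp_j L296714) rfl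
theorem L453272 : N34996 = N30047 := eqes L453271 L254770
theorem L453273 : N34996 = N30047 := eqc rfl L453272 rfl
theorem L453282 : sm gf N30047 = N24021 := trfs L453273 L296711 rfl
theorem L453283 : N24021 = N20695 := eqes L453282 L254778
theorem L453284 : N24021 = N20695 := eqc rfl L453283 rfl
theorem L453303 : sm gi N20695 = N16501 := trfs L453284 (flp_i L204268) rfl
theorem L453304 : N16501 = N30099 := eqes L453303 (flp_i L255248)
theorem L453305 : N30099 = N16501 := (eqc rfl L453304 rfl).symm
theorem L453314 : sm ge N16501 = N20824 := trfs L453305 L255246 rfl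
theorem L453315 : N20824 = N11356 := eqes L453314 L140753
theorem L453316 : N20824 = N11356 := eqc rfl L453315 rfl
theorem L453323 : sm ga N11356 = N14323 := trfs L453316 L177014 rfl
theorem L453324 : N14323 = N16478 := eqes L453323 (flp_a L140529)
theorem L453325 : N16478 = N14323 := (eqc rfl L453324 rfl).symm
theorem L453328 : sm gd N11356 = N30319 := trfs L453316 (flp_d L257105) rfl
theorem L453329 : N30319 = N16507 := eqes L453328 L140798
theorem L453330 : N30319 = N16507 := eqc rfl L453329 rfl
theorem L453332 : sm gg N11356 = N14377 := trfs L453316 L177022 rfl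
theorem L453333 : N14377 = N7870 := eqes L453332 L97196
theorem L453334 : N14377 = N7870 := eqc rfl L453333 rfl
theorem L453336 : sm gh N11356 = N30292 := trfs L453316 (flp_h L256847) rfl
theorem L453337 : N30292 = N7823 := eqes L453336 (flp_h L97190)
theorem L453338 : N30292 = N7823 := eqc rfl L453337 rfl
theorem L453341 : sm ga N7823 = N20811 := trfs L453338 L256841 rfl
theorem L453342 : N20811 = N11336 := eqes L453341 (flp_a L96996)
theorem L453343 : N20811 = N11336 := eqc rfl L453342 rfl
theorem L453354 : sm gj N7823 = N20804 := trfs L453338 (flp_j L256839) rfl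
theorem L453355 : N20804 = N5401 := eqes L453354 (flp_j L67197)
theorem L453356 : N20804 = N5401 := eqc rfl L453355 rfl
theorem L453358 : sm ga N5401 = N14307 := trfs L453356 L176818 rfl
theorem L453359 : N14307 = N7811 := eqes L453358 (flp_a L67080)
theorem L453360 : N14307 = N7811 := eqc rfl L453359 rfl
theorem L453368 : sm gg N5401 = N14303 := trfs L453356 (flp_g L176816) rfl
theorem L453369 : N14303 = N3733 := eqes L453368 (flp_g L46585)
theorem L453370 : N14303 = N3733 := eqc rfl L453369 rfl
theorem L453373 : sm ga N3733 = N9853 := trfs L453370 L121880 rfl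
theorem L453374 : N9853 = N5393 := eqes L453373 (flp_a L46502)
theorem L453375 : N9853 = N5393 := eqc rfl L453374 rfl
theorem L453388 : sm gh N3733 = N9859 := trfs L453370 L121887 rfl
theorem L453389 : N9859 = N5402 := eqes L453388 L46592
theorem L453390 : N9859 = N5402 := eqc rfl L453389 rfl
theorem L453392 : sm ga N5402 = N6803 := trfs L453390 L84293 rfl
theorem L453393 : N6803 = N7812 := eqes L453392 (flp_a L67088)
theorem L453394 : N7812 = N6803 := (eqc rfl L453393 rfl).symm
theorem L453397 : sm gd N5402 = N14314 := trfs L453390 (flp_d L121993) rfl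
theorem L453398 : N14314 = N7825 := eqes L453397 L67214
theorem L453399 : N14314 = N7825 := eqc rfl L453398 rfl
theorem L453400 : sm ge N5402 = N14217 := trfs L453390 (flp_e L121183) rfl
theorem L453401 : N14217 = N7822 := eqes L453400 (flp_e L67191)
theorem L453402 : N14217 = N7822 := eqc rfl L453401 rfl
theorem L453403 : sm gf N5402 = N6801 := trfs L453390 (flp_f L84291) rfl
theorem L453404 : N6801 = N3734 := eqes L453403 L46597
theorem L453405 : N6801 = N3734 := eqc rfl L453404 rfl
theorem L453407 : sm gj N5402 = N6827 := trfs L453390 L84298 rfl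
theorem L453408 : N6827 = N3755 := eqes L453407 L46599
theorem L453409 : N6827 = N3755 := eqc rfl L453408 rfl
theorem L453412 : sm ga N3755 = N4721 := trfs L453409 L58603 rfl
theorem L453413 : N4721 = N5421 := eqes L453412 (flp_a L46771)
theorem L453414 : N5421 = N4721 := (eqc rfl L453413 rfl).symm
theorem L453417 : sm gd N3755 = N9897 := trfs L453409 (flp_d L84640) rfl
theorem L453418 : N9897 = N5434 := eqes L453417 L46887
theorem L453419 : N9897 = N5434 := eqc rfl L453418 rfl
theorem L453422 : sm gg N3755 = N9899 := trfs L453409 L84651 rfl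
theorem L453423 : N9899 = N5433 := eqes L453422 (flp_g L46885)
theorem L453424 : N9899 = N5433 := eqc rfl L453423 rfl
theorem L453426 : sm gi N3755 = N4727 := trfs L453409 L58608 rfl
theorem L453427 : N4727 = N5435 := eqes L453426 L46892
theorem L453428 : N5435 = N4727 := (eqc rfl L453427 rfl).symm
theorem L453439 : sm gg N4727 = N7872 := trfs L453428 (flp_g L67651) rfl
theorem L453440 : N7872 = N6840 := eqes L453439 L58710
theorem L453441 : N7872 = N6840 := eqc rfl L453440 rfl
theorem L453444 : sm gi N4727 = N3755 := trfs L453428 (flp_i L46892) rfl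
theorem L453451 : sm gd N6840 = N11425 := trfs L453441 (flp_d L97793) rfl
theorem L453452 : N11425 = N9916 := eqes L453451 (flp_d L84800)
theorem L453453 : N11425 = N9916 := eqc rfl L453452 rfl
theorem L453455 : sm gf N6840 = N5464 := trfs L453441 L67649 rfl
theorem L453456 : N5464 = N4758 := eqes L453455 L58718
theorem L453457 : N5464 = N4758 := eqc rfl L453456 rfl
theorem L453458 : sm gj N6840 = N11423 := trfs L453441 (flp_j L97782) rfl
theorem L453459 : N11423 = N9919 := eqes L453458 L84820
theorem L453460 : N11423 = N9919 := eqc rfl L453459 rfl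
theorem L453469 : sm gd N9919 = N16603 := trfs L453460 (flp_d L141606) rfl
theorem L453470 : N16603 = N14404 := eqes L453469 (flp_d L122790)
theorem L453471 : N16603 = N14404 := eqc rfl L453470 rfl
theorem L453473 : sm gf N9919 = N7908 := trfs L453460 L97780 rfl
theorem L453474 : N7908 = N6887 := eqes L453473 L84827
theorem L453475 : N7908 = N6887 := eqc rfl L453474 rfl
theorem L453484 : sm gc N6887 = N5470 := trfs L453475 L67938 rfl
theorem L453485 : N5470 = N5209 := eqes L453484 L59106
theorem L453486 : N5470 = N5209 := eqc rfl L453485 rfl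
theorem L453487 : sm gd N6887 = N11469 := trfs L453475 (flp_d L98140) rfl
theorem L453488 : N11469 = N9987 := eqes L453487 (flp_d L85396)
theorem L453489 : N11469 = N9987 := eqc rfl L453488 rfl
theorem L453494 : sm gi N6887 = N5462 := trfs L453475 (flp_i L67935) rfl
theorem L453495 : N5462 = N9960 := eqes L453494 (flp_i L85171)
theorem L453496 : N9960 = N5462 := (eqc rfl L453495 rfl).symm
theorem L453497 : sm ga N5462 = N6874 := trfs L453496 L85165 rfl
theorem L453498 : N6874 = N7898 := eqes L453497 (flp_a L67857)
theorem L453499 : N7898 = N6874 := (eqc rfl L453498 rfl).symm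
theorem L453501 : sm gc N5462 = N7522 := trfs L453496 L85168 rfl
theorem L453502 : N7522 = N3784 := eqes L453501 L47130
theorem L453503 : N7522 = N3784 := eqc rfl L453502 rfl
theorem L453504 : sm gd N5462 = N14465 := trfs L453496 (flp_d L123306) rfl
theorem L453505 : N14465 = N7907 := eqes L453504 L67929
theorem L453506 : N14465 = N7907 := eqc rfl L453505 rfl
theorem L453510 : sm gj N5462 = N6867 := trfs L453496 (flp_j L85163) rfl
theorem L453511 : N6867 = N3779 := eqes L453510 L47134
theorem L453512 : N6867 = N3779 := eqc rfl L453511 rfl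
theorem L453513 : sm gh N5462 = N14438 := trfs L453496 (flp_h L123074) rfl
theorem L453514 : N14438 = N3778 := eqes L453513 (flp_h L47127)
theorem L453515 : N14438 = N3778 := eqc rfl L453514 rfl
theorem L453516 : sm gi N5462 = N6887 := trfs L453496 L85171 rfl
theorem L453518 : sm ga N3778 = N9947 := trfs L453515 L123068 rfl
theorem L453519 : N9947 = N5454 := eqes L453518 (flp_a L47059)
theorem L453520 : N9947 = N5454 := eqc rfl L453519 rfl
theorem L453531 : sm gj N3778 = N9940 := trfs L453515 (flp_j L123066) rfl
theorem L453532 : N9940 = N2618 := eqes L453531 (flp_j L32756)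
theorem L453533 : N9940 = N2618 := eqc rfl L453532 rfl
theorem L453535 : sm ga N2618 = N6858 := trfs L453533 L84990 rfl
theorem L453536 : N6858 = N3771 := eqes L453535 (flp_a L32694)
theorem L453537 : N6858 = N3771 := eqc rfl L453536 rfl
theorem L453549 : sm gg N2618 = N6854 := trfs L453533 (flp_g L84988) rfl
theorem L453550 : N6854 = N1816 := eqes L453549 (flp_g L22820)
theorem L453551 : N6854 = N1816 := eqc rfl L453550 rfl
theorem L453554 : sm ga N1816 = N4739 := trfs L453551 L58822 rfl
theorem L453555 : N4739 = N2612 := eqes L453554 (flp_a L22764)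
theorem L453556 : N4739 = N2612 := eqc rfl L453555 rfl
theorem L453569 : sm gh N1816 = N4745 := trfs L453551 L58828 rfl
theorem L453570 : N4745 = N2619 := eqes L453569 L22827
theorem L453571 : N4745 = N2619 := eqc rfl L453570 rfl
theorem L453573 : sm ga N2619 = N3286 := trfs L453571 L40894 rfl
theorem L453574 : N3286 = N3772 := eqes L453573 (flp_a L32702)
theorem L453575 : N3772 = N3286 := (eqc rfl L453574 rfl).symm
theorem L453577 : sm gc N2619 = N3587 := trfs L453571 L40897 rfl
theorem L453578 : N3587 = N1819 := eqes L453577 L22830
theorem L453579 : N3587 = N1819 := eqc rfl L453578 rfl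
theorem L453580 : sm gd N2619 = N6865 := trfs L453571 (flp_d L58923) rfl
theorem L453581 : N6865 = N3780 := eqes L453580 L32772
theorem L453582 : N6865 = N3780 := eqc rfl L453581 rfl
theorem L453584 : sm gf N2619 = N3284 := trfs L453571 (flp_f L40892) rfl
theorem L453585 : N3284 = N1817 := eqes L453584 L22833
theorem L453586 : N3284 = N1817 := eqc rfl L453585 rfl
theorem L453589 : sm gi N2619 = N3292 := trfs L453571 L40900 rfl
theorem L453590 : N3292 = N3781 := eqes L453589 L32778
theorem L453591 : N3781 = N3292 := (eqc rfl L453590 rfl).symm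
theorem L453596 : sm gc N3292 = N2624 := trfs L453591 L32781 rfl
theorem L453597 : N2624 = N2492 := eqes L453596 L28505
theorem L453598 : N2624 = N2492 := eqc rfl L453597 rfl
theorem L453603 : sm gf N3292 = N2621 := trfs L453591 L32784 rfl
theorem L453604 : N2621 = N2284 := eqes L453603 (flp_f L28500)
theorem L453605 : N2621 = N2284 := eqc rfl L453604 rfl
theorem L453609 : sm gi N3292 = N2619 := trfs L453591 (flp_i L32778) rfl
theorem L453616 : sm gd N2284 = N3783 := trfs L453605 (flp_d L32797) rfl
theorem L453617 : N3783 = N3291 := eqes L453616 L28494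
theorem L453618 : N3783 = N3291 := eqc rfl L453617 rfl
theorem L453619 : sm ge N2284 = N1850 := trfs L453605 L22845 rfl
theorem L453620 : N1850 = N1589 := eqes L453619 (flp_e L19865)
theorem L453621 : N1850 = N1589 := eqc rfl L453620 rfl
theorem L453632 : sm gd N1589 = N2659 := trfs L453621 (flp_d L23179) rfl
theorem L453633 : N2659 = N2182 := eqes L453632 (flp_d L18961)
theorem L453634 : N2659 = N2182 := eqc rfl L453633 rfl
theorem L453636 : sm gg N1589 = N2650 := trfs L453621 (flp_g L23108) rfl
theorem L453637 : N2650 = N2271 := eqes L453636 (flp_g L19754)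
theorem L453638 : N2650 = N2271 := eqc rfl L453637 rfl
theorem L453641 : sm gi N1589 = N1288 := trfs L453621 (flp_i L16207) rfl
theorem L453642 : N1288 = N2279 := eqes L453641 (flp_i L19826)
theorem L453643 : N2279 = N1288 := (eqc rfl L453642 rfl).symm
theorem L453644 : sm ga N1288 = N1586 := trfs L453643 (flp_a L19820) rfl
theorem L453645 : N1586 = N1847 := eqes L453644 (flp_a L16184)
theorem L453646 : N1847 = N1586 := (eqc rfl L453645 rfl).symm
theorem L453649 : sm gd N1288 = N3131 := trfs L453643 (flp_d L27078) rfl
theorem L453650 : N3131 = N1849 := eqes L453649 L16200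
theorem L453651 : N3131 = N1849 := eqc rfl L453650 rfl
theorem L453654 : sm gg N1288 = N3267 := trfs L453643 (flp_g L28286) rfl
theorem L453655 : N3267 = N1840 := eqes L453654 (flp_g L16130)
theorem L453656 : N3267 = N1840 := eqc rfl L453655 rfl
theorem L453658 : sm gh N1288 = N3279 := trfs L453643 (flp_h L28391) rfl
theorem L453659 : N3279 = N896 := eqes L453658 (flp_h L11342)
theorem L453660 : N3279 = N896 := eqc rfl L453659 rfl
theorem L453661 : sm gi N1288 = N1589 := trfs L453643 L19826 rfl
theorem L453663 : sm ga N896 = N2276 := trfs L453660 (flp_a L28384) rfl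
theorem L453664 : N2276 = N1286 := eqes L453663 (flp_a L11327)
theorem L453665 : N2276 = N1286 := eqc rfl L453664 rfl
theorem L453671 : sm gg N896 = N4714 := trfs L453660 (flp_g L40629) rfl
theorem L453672 : N4714 = N1280 := eqes L453671 (flp_g L11279)
theorem L453673 : N4714 = N1280 := eqc rfl L453672 rfl
theorem L453676 : sm ga N1280 = N3264 := trfs L453673 (flp_a L40624) rfl
theorem L453677 : N3264 = N1836 := eqes L453676 (flp_a L16092)
theorem L453678 : N3264 = N1836 := eqc rfl L453677 rfl
theorem L453687 : sm gb N1836 = N2266 := trfs L453678 (flp_b L28253) rfl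
theorem L453688 : N2266 = N2641 := eqes L453687 L23026
theorem L453689 : N2641 = N2266 := (eqc rfl L453688 rfl).symm
theorem L453690 : sm gc N1836 = N2461 := trfs L453678 L28261 rfl
theorem L453691 : N2461 = N1278 := eqes L453690 (flp_c L16090)
theorem L453692 : N2461 = N1278 := eqc rfl L453691 rfl
theorem L453694 : sm ge N1836 = N4715 := trfs L453678 L40635 rfl
theorem L453695 : N4715 = N2595 := eqes L453694 (flp_e L22618)
theorem L453696 : N4715 = N2595 := eqc rfl L453695 rfl
theorem L453697 : sm gf N1836 = N4684 := trfs L453678 (flp_f L40351) rfl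
theorem L453698 : N4684 = N2642 := eqes L453697 L23035
theorem L453699 : N4684 = N2642 := eqc rfl L453698 rfl
theorem L453701 : sm gj N1836 = N4699 := trfs L453678 (flp_j L40482) rfl
theorem L453702 : N4699 = N2627 := eqes L453701 (flp_j L22897)
theorem L453703 : N4699 = N2627 := eqc rfl L453702 rfl
theorem L453704 : sm gh N1836 = N2268 := trfs L453678 L28258 rfl
theorem L453705 : N2268 = N2643 := eqes L453704 L23044
theorem L453706 : N2643 = N2268 := (eqc rfl L453705 rfl).symm
theorem L453716 : sm gd N2268 = N3812 := trfs L453706 L33061 rfl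
theorem L453717 : N3812 = N3123 := eqes L453716 (flp_d L27011)
theorem L453718 : N3812 = N3123 := eqc rfl L453717 rfl
theorem L453726 : sm gj N2268 = N3789 := trfs L453706 (flp_j L32853) rfl
theorem L453727 : N3789 = N3256 := eqes L453726 (flp_j L28182)
theorem L453728 : N3789 = N3256 := eqc rfl L453727 rfl
theorem L453729 : sm gh N2268 = N1836 := trfs L453706 (flp_h L23044) rfl
theorem L453731 : sm gi N2268 = N3813 := trfs L453706 L33069 rfl
theorem L453732 : N3813 = N1581 := eqes L453731 L19728
theorem L453733 : N3813 = N1581 := eqc rfl L453732 rfl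
theorem L453751 : sm gj N1581 = N5477 := trfs L453733 (flp_j L47257) rfl
theorem L453752 : N5477 = N2263 := eqes L453751 (flp_j L19680)
theorem L453753 : N5477 = N2263 := eqc rfl L453752 rfl
theorem L453755 : sm ga N2263 = N3798 := trfs L453753 L47252 rfl
theorem L453756 : N3798 = N3259 := eqes L453755 L28209
theorem L453757 : N3798 = N3259 := eqc rfl L453756 rfl
theorem L453770 : sm gf N2263 = N7927 := trfs L453753 (flp_f L68105) rfl
theorem L453771 : N7927 = N3240 := eqes L453770 (flp_f L28036)
theorem L453772 : N7927 = N3240 := eqc rfl L453771 rfl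
theorem L453790 : sm gi N3240 = N5475 := trfs L453772 (flp_i L68099) rfl
theorem L453791 : N5475 = N4674 := eqes L453790 (flp_i L40261)
theorem L453792 : N5475 = N4674 := eqc rfl L453791 rfl
theorem L453793 : sm ga N4674 = N3796 := trfs L453792 L47233 rfl
theorem L453794 : N3796 = N6758 := eqes L453793 L57982
theorem L453795 : N6758 = N3796 := (eqc rfl L453794 rfl).symm
theorem L453802 : sm gd N4674 = N7926 := trfs L453792 L68089 rfl
theorem L453803 : N7926 = N6468 := eqes L453802 (flp_d L55457)
theorem L453804 : N7926 = N6468 := eqc rfl L453803 rfl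
theorem L453805 : sm ge N4674 = N7924 := trfs L453792 (flp_e L68075) rfl
theorem L453806 : N7924 = N6759 := eqes L453805 L57993
theorem L453807 : N7924 = N6759 := eqc rfl L453806 rfl
theorem L453809 : sm gg N4674 = N7925 := trfs L453792 (flp_g L68086) rfl
theorem L453810 : N7925 = N6745 := eqes L453809 (flp_g L57856)
theorem L453811 : N7925 = N6745 := eqc rfl L453810 rfl
theorem L453813 : sm gh N4674 = N3788 := trfs L453792 (flp_h L47231) rfl
theorem L453814 : N3788 = N6755 := eqes L453813 (flp_h L57955)
theorem L453815 : N6755 = N3788 := (eqc rfl L453814 rfl).symm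
theorem L453817 : sm gb N3788 = N4672 := trfs L453815 (flp_b L57948) rfl
theorem L453818 : N4672 = N5471 := eqes L453817 (flp_b L47194)
theorem L453819 : N5471 = N4672 := (eqc rfl L453818 rfl).symm
theorem L453822 : sm ge N3788 = N9790 := trfs L453815 L83692 rfl
theorem L453823 : N9790 = N5473 := eqes L453822 L47212
theorem L453824 : N9790 = N5473 := eqc rfl L453823 rfl
theorem L453826 : sm gg N3788 = N9771 := trfs L453815 (flp_g L83506) rfl
theorem L453827 : N9771 = N5474 := eqes L453826 L47221
theorem L453828 : N9771 = N5474 := eqc rfl L453827 rfl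
theorem L453830 : sm gh N3788 = N4674 := trfs L453815 L57955 rfl
theorem L453834 : sm gb N5474 = N6743 := trfs L453828 (flp_b L83502) rfl
theorem L453835 : N6743 = N7918 := eqes L453834 (flp_b L68011)
theorem L453836 : N7918 = N6743 := (eqc rfl L453835 rfl).symm
theorem L453846 : sm gb N6743 = N5474 := trfs L453836 L68011 rfl
theorem L453858 : sm gh N6743 = N11483 := trfs L453836 L98241 rfl
theorem L453859 : N11483 = N4666 := eqes L453858 L57838
theorem L453860 : N11483 = N4666 := eqc rfl L453859 rfl
theorem L453876 : sm gi N4666 = N16682 := trfs L453860 L142225 rfl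
theorem L453877 : N16682 = N3234 := eqes L453876 L40184
theorem L453878 : N16682 = N3234 := eqc rfl L453877 rfl
theorem L453887 : sm ge N3234 = N24264 := trfs L453878 (flp_e L206236) rfl
theorem L453888 : N24264 = N4669 := eqes L453887 L40206
theorem L453889 : N24264 = N4669 := eqc rfl L453888 rfl
theorem L453905 : sm gg N4669 = N16680 := trfs L453889 L206238 rfl
theorem L453906 : N16680 = N3241 := eqes L453905 L40211
theorem L453907 : N16680 = N3241 := eqc rfl L453906 rfl
theorem L453927 : sm gi N3241 = N11482 := trfs L453907 (flp_i L142203) rfl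
theorem L453928 : N11482 = N4675 := eqes L453927 (flp_i L40272)
theorem L453929 : N11482 = N4675 := eqc rfl L453928 rfl
theorem L453946 : sm gh N4675 = N7917 := trfs L453929 (flp_h L98230) rfl
theorem L453947 : N7917 = N6756 := eqes L453946 (flp_h L57967)
theorem L453948 : N7917 = N6756 := eqc rfl L453947 rfl
theorem L453955 : sm gd N6756 = N11480 := trfs L453948 L98210 rfl
theorem L453956 : N11480 = N9791 := eqes L453955 L83703
theorem L453957 : N11480 = N9791 := eqc rfl L453956 rfl
theorem L453959 : sm gf N6756 = N11328 := trfs L453948 (flp_f L96920) rfl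
theorem L453960 : N11328 = N9792 := eqes L453959 L83710
theorem L453961 : N11328 = N9792 := eqc rfl L453960 rfl
theorem L453963 : sm gj N6756 = N5500 := trfs L453948 L68005 rfl
theorem L453964 : N5500 = N4685 := eqes L453963 L57965
theorem L453965 : N5500 = N4685 := eqc rfl L453964 rfl
theorem L453973 : sm gd N4685 = N7960 := trfs L453965 L68399 rfl
theorem L453974 : N7960 = N6775 := eqes L453973 L58142
theorem L453975 : N7960 = N6775 := eqc rfl L453974 rfl
theorem L453979 : sm gf N4685 = N7844 := trfs L453965 (flp_f L67399) rfl
theorem L453980 : N7844 = N6776 := eqes L453979 L58148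
theorem L453981 : N7844 = N6776 := eqc rfl L453980 rfl
theorem L453986 : sm gb N6776 = N5419 := trfs L453981 L67394 rfl
theorem L453987 : N5419 = N9819 := eqes L453986 (flp_b L83956)
theorem L453988 : N9819 = N5419 := (eqc rfl L453987 rfl).symm
theorem L453992 : sm gd N6776 = N11382 := trfs L453981 L97422 rfl
theorem L453993 : N11382 = N9820 := eqes L453992 (flp_d L83968)
theorem L453994 : N11382 = N9820 := eqc rfl L453993 rfl
theorem L453995 : sm ge N6776 = N5417 := trfs L453981 (flp_e L67391) rfl
theorem L453996 : N5417 = N4717 := eqes L453995 L58156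
theorem L453997 : N5417 = N4717 := eqc rfl L453996 rfl
theorem L453998 : sm gg N6776 = N11383 := trfs L453981 L97430 rfl
theorem L453999 : N11383 = N9822 := eqes L453998 L83978
theorem L454000 : N11383 = N9822 := eqc rfl L453999 rfl
theorem L454002 : sm gh N6776 = N11384 := trfs L453981 L97441 rfl
theorem L454003 : N11384 = N4690 := eqes L454002 L58153
theorem L454004 : N11384 = N4690 := eqc rfl L454003 rfl
theorem L454024 : sm gi N4690 = N16546 := trfs L454004 L141142 rfl
theorem L454025 : N16546 = N3252 := eqes L454024 L40409
theorem L454026 : N16546 = N3252 := eqc rfl L454025 rfl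
theorem L454041 : sm gg N3252 = N24081 := trfs L454026 (flp_g L204795) rfl
theorem L454042 : N24081 = N4697 := eqes L454041 L40459
theorem L454043 : N24081 = N4697 := eqc rfl L454042 rfl
theorem L454060 : sm gj N4697 = N35081 := trfs L454043 (flp_j L297442) rfl
theorem L454061 : N35081 = N6795 := eqes L454060 L58300
theorem L454062 : N35081 = N6795 := eqc rfl L454061 rfl
theorem L454077 : sm gi N6795 = N24079 := trfs L454062 (flp_i L297432) rfl
theorem L454078 : N24079 = N9834 := eqes L454077 (flp_i L84089)
theorem L454079 : N24079 = N9834 := eqc rfl L454078 rfl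
theorem L454081 : sm gb N9834 = N16562 := trfs L454079 L204768 rfl
theorem L454082 : N16562 = N14271 := eqes L454081 (flp_b L121636)
theorem L454083 : N16562 = N14271 := eqc rfl L454082 rfl
theorem L454098 : sm gh N9834 = N16543 := trfs L454079 (flp_h L204765) rfl
theorem L454099 : N16543 = N14260 := eqes L454098 (flp_h L121550)
theorem L454100 : N16543 = N14260 := eqc rfl L454099 rfl
theorem L454102 : sm gb N14260 = N11394 := trfs L454100 L141115 rfl
theorem L454103 : N11394 = N20734 := eqes L454102 (flp_b L176258)
theorem L454104 : N20734 = N11394 := (eqc rfl L454103 rfl).symm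
theorem L454108 : sm gd N14260 = N24075 := trfs L454100 (flp_d L204736) rfl
theorem L454109 : N24075 = N20737 := eqes L454108 (flp_d L176285)
theorem L454110 : N24075 = N20737 := eqc rfl L454109 rfl
theorem L454111 : sm ge N14260 = N11385 := trfs L454100 L141119 rfl
theorem L454112 : N11385 = N9895 := eqes L454111 L121547
theorem L454113 : N11385 = N9895 := eqc rfl L454112 rfl
theorem L454115 : sm gg N14260 = N23960 := trfs L454100 (flp_g L203697) rfl
theorem L454116 : N23960 = N20671 := eqes L454115 (flp_g L175722)
theorem L454117 : N23960 = N20671 := eqc rfl L454116 rfl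
theorem L454136 : sm gj N20671 = N16462 := trfs L454117 (flp_j L203687) rfl
theorem L454137 : N16462 = N14214 := eqes L454136 (flp_j L175712)
theorem L454138 : N16462 = N14214 := eqc rfl L454137 rfl
theorem L454142 : sm gb N14214 = N11334 := trfs L454138 L140368 rfl
theorem L454143 : N11334 = N20666 := eqes L454142 (flp_b L175670)
theorem L454144 : N20666 = N11334 := (eqc rfl L454143 rfl).symm
theorem L454158 : sm gh N14214 = N23961 := trfs L454138 L203699 rfl
theorem L454159 : N23961 = N9799 := eqes L454158 L121148
theorem L454160 : N23961 = N9799 := eqc rfl L454159 rfl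
theorem L454180 : sm gi N9799 = N34910 := trfs L454160 L295911 rfl
theorem L454181 : N34910 = N6768 := eqes L454180 L83786
theorem L454182 : N34910 = N6768 := eqc rfl L454181 rfl
theorem L454190 : sm ge N6768 = N23966 := trfs L454182 L295918 rfl
theorem L454191 : N23966 = N4712 := eqes L454190 L58079
theorem L454192 : N23966 = N4712 := eqc rfl L454191 rfl
theorem L454209 : sm gj N4712 = N34915 := trfs L454192 (flp_j L295972) rfl
theorem L454210 : N34915 = N6818 := eqes L454209 L58517
theorem L454211 : N34915 = N6818 := eqc rfl L454210 rfl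
theorem L454224 : sm gi N6818 = N23964 := trfs L454211 (flp_i L295962) rfl
theorem L454225 : N23964 = N9868 := eqes L454224 (flp_i L84383)
theorem L454226 : N23964 = N9868 := eqc rfl L454225 rfl
theorem L454232 : sm gd N9868 = N34914 := trfs L454226 L295952 rfl
theorem L454233 : N34914 = N14326 := eqes L454232 (flp_d L122106)
theorem L454234 : N34914 = N14326 := eqc rfl L454233 rfl
theorem L454248 : sm gj N14326 = N23965 := trfs L454234 L295960 rfl
theorem L454249 : N23965 = N9865 := eqes L454248 (flp_j L122101)
theorem L454250 : N23965 = N9865 := eqc rfl L454249 rfl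
theorem L454252 : sm gb N9865 = N16479 := trfs L454250 L203748 rfl
theorem L454253 : N16479 = N14320 := eqes L454252 (flp_b L122048)
theorem L454254 : N16479 = N14320 := eqc rfl L454253 rfl
theorem L454266 : sm gh N9865 = N31811 := trfs L454250 (flp_h L269484) rfl
theorem L454267 : N31811 = N14327 := eqes L454266 L122113
theorem L454268 : N31811 = N14327 := eqc rfl L454267 rfl
theorem L454271 : sm gb N14327 = N21847 := trfs L454268 L269479 rfl
theorem L454272 : N21847 = N20833 := eqes L454271 (flp_b L177104)
theorem L454273 : N21847 = N20833 := eqc rfl L454272 rfl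
theorem L454274 : sm gd N14327 = N21833 := trfs L454268 (flp_d L269476) rfl
theorem L454275 : N21833 = N20815 := eqes L454274 (flp_d L176928)
theorem L454276 : N21833 = N20815 := eqc rfl L454275 rfl
theorem L454278 : sm gg N14327 = N21834 := trfs L454268 L269482 rfl
theorem L454279 : N21834 = N9866 := eqes L454278 L122119
theorem L454280 : N21834 = N9866 := eqc rfl L454279 rfl
theorem L454282 : sm gb N9866 = N15009 := trfs L454280 L185428 rfl
theorem L454283 : N15009 = N14321 := eqes L454282 (flp_b L122057)
theorem L454284 : N15009 = N14321 := eqc rfl L454283 rfl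
theorem L454288 : sm gd N9866 = N15001 := trfs L454280 (flp_d L185425) rfl
theorem L454289 : N15001 = N14310 := eqes L454288 (flp_d L121953)
theorem L454290 : N15001 = N14310 := eqc rfl L454289 rfl
theorem L454301 : sm gi N9866 = N31815 := trfs L454280 L269515 rfl
theorem L454302 : N31815 = N14328 := eqes L454301 L122121
theorem L454303 : N31815 = N14328 := eqc rfl L454302 rfl
theorem L454305 : sm gb N14328 = N21850 := trfs L454303 L269518 rfl
theorem L454306 : N21850 = N20834 := eqes L454305 (flp_b L177111)
theorem L454307 : N21850 = N20834 := eqc rfl L454306 rfl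
theorem L454308 : sm gd N14328 = N21835 := trfs L454303 L269520 rfl
theorem L454309 : N21835 = N20816 := eqes L454308 (flp_d L176934)
theorem L454310 : N21835 = N20816 := eqc rfl L454309 rfl
theorem L454314 : sm gj N14328 = N21923 := trfs L454303 L269524 rfl
theorem L454315 : N21923 = N9911 := eqes L454314 L122128
theorem L454316 : N21923 = N9911 := eqc rfl L454315 rfl
theorem L454318 : sm gb N9911 = N15075 := trfs L454316 L186227 rfl
theorem L454319 : N15075 = N14387 := eqes L454318 (flp_b L122647)
theorem L454320 : N15075 = N14387 := eqc rfl L454319 rfl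
theorem L454324 : sm gd N9911 = N15060 := trfs L454316 L186229 rfl
theorem L454325 : N15060 = N14369 := eqes L454324 (flp_d L122488)
theorem L454326 : N15060 = N14369 := eqc rfl L454325 rfl
theorem L454336 : sm gh N9911 = N31948 := trfs L454316 L270692 rfl
theorem L454337 : N31948 = N6852 := eqes L454336 L84763
theorem L454338 : N31948 = N6852 := eqc rfl L454337 rfl
theorem L454348 : sm gi N6852 = N24094 := trfs L454338 L270700 rfl
theorem L454349 : N24094 = N4734 := eqes L454348 (flp_i L58804)
theorem L454350 : N24094 = N4734 := eqc rfl L454349 rfl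
theorem L454371 : sm gh N4734 = N16552 := trfs L454350 (flp_h L204897) rfl
theorem L454372 : N16552 = N3275 := eqes L454371 (flp_h L40795)
theorem L454373 : N16552 = N3275 := eqc rfl L454372 rfl
theorem L454394 : sm gi N3275 = N11387 := trfs L454373 (flp_i L141198) rfl
theorem L454395 : N11387 = N4722 := eqes L454394 (flp_i L40707)
theorem L454396 : N11387 = N4722 := eqc rfl L454395 rfl
theorem L454411 : sm gg N4722 = N16548 := trfs L454396 (flp_g L141172) rfl
theorem L454412 : N16548 = N6833 := eqes L454411 L58651
theorem L454413 : N16548 = N6833 := eqc rfl L454412 rfl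
theorem L454417 : sm gb N6833 = N11399 := trfs L454413 L141168 rfl
theorem L454418 : N11399 = N9903 := eqes L454417 (flp_b L84688)
theorem L454419 : N11399 = N9903 := eqc rfl L454418 rfl
theorem L454433 : sm gh N6833 = N21919 := trfs L454413 (flp_h L186196) rfl
theorem L454434 : N21919 = N9910 := eqes L454433 L84747
theorem L454435 : N21919 = N9910 := eqc rfl L454434 rfl
theorem L454438 : sm gb N9910 = N15072 := trfs L454435 L186190 rfl
theorem L454439 : N15072 = N14386 := eqes L454438 (flp_b L122639)
theorem L454440 : N15072 = N14386 := eqc rfl L454439 rfl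
theorem L454444 : sm gd N9910 = N15058 := trfs L454435 (flp_d L186187) rfl
theorem L454445 : N15058 = N14368 := eqes L454444 (flp_d L122482)
theorem L454446 : N15058 = N14368 := eqc rfl L454445 rfl
theorem L454454 : sm gj N9910 = N31939 := trfs L454435 (flp_j L270616) rfl
theorem L454455 : N31939 = N14393 := eqes L454454 (flp_j L122699)
theorem L454456 : N31939 = N14393 := eqc rfl L454455 rfl
theorem L454459 : sm gb N14393 = N21942 := trfs L454456 L270612 rfl
theorem L454460 : N21942 = N20929 := eqes L454459 (flp_b L177955)
theorem L454461 : N21942 = N20929 := eqc rfl L454460 rfl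
theorem L454462 : sm gd N14393 = N21918 := trfs L454456 (flp_d L270609) rfl
theorem L454463 : N21918 = N20901 := eqes L454462 (flp_d L177711)
theorem L454464 : N21918 = N20901 := eqc rfl L454463 rfl
theorem L454465 : sm gf N14393 = N22039 := trfs L454456 L270614 rfl
theorem L454466 : N22039 = N9976 := eqes L454465 L122697
theorem L454467 : N22039 = N9976 := eqc rfl L454466 rfl
theorem L454470 : sm gb N9976 = N15159 := trfs L454467 L187163 rfl
theorem L454471 : N15159 = N14482 := eqes L454470 (flp_b L123452)
theorem L454472 : N15159 = N14482 := eqc rfl L454471 rfl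
theorem L454476 : sm gd N9976 = N15140 := trfs L454467 (flp_d L187160) rfl
theorem L454477 : N15140 = N14454 := eqes L454476 (flp_d L123208)
theorem L454478 : N15140 = N14454 := eqc rfl L454477 rfl
theorem L454487 : sm gi N9976 = N32118 := trfs L454467 L272063 rfl
theorem L454488 : N32118 = N14491 := eqes L454487 L123522
theorem L454489 : N32118 = N14491 := eqc rfl L454488 rfl
theorem L454491 : sm gb N14491 = N22072 := trfs L454489 L272066 rfl
theorem L454492 : N22072 = N21073 := eqes L454491 (flp_b L179173)
theorem L454493 : N22072 = N21073 := eqc rfl L454492 rfl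
theorem L454494 : sm gd N14491 = N22040 := trfs L454489 L272068 rfl
theorem L454495 : N22040 = N21029 := eqes L454494 (flp_d L178789)
theorem L454496 : N22040 = N21029 := eqc rfl L454495 rfl
theorem L454498 : sm gj N14491 = N22043 := trfs L454489 L272071 rfl
theorem L454499 : N22043 = N9977 := eqes L454498 L123528
theorem L454500 : N22043 = N9977 := eqc rfl L454499 rfl
theorem L454502 : sm gb N9977 = N15162 := trfs L454500 L187200 rfl
theorem L454503 : N15162 = N14483 := eqes L454502 (flp_b L123459)
theorem L454504 : N15162 = N14483 := eqc rfl L454503 rfl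
theorem L454508 : sm gd N9977 = N15142 := trfs L454500 L187202 rfl
theorem L454509 : N15142 = N14455 := eqes L454508 (flp_d L123214)
theorem L454510 : N15142 = N14455 := eqc rfl L454509 rfl
theorem L454518 : sm gh N9977 = N32123 := trfs L454500 L272106 rfl
theorem L454519 : N32123 = N6904 := eqes L454518 L85316
theorem L454520 : N32123 = N6904 := eqc rfl L454519 rfl
theorem L454530 : sm gi N6904 = N24207 := trfs L454520 L272114 rfl
theorem L454531 : N24207 = N4769 := eqes L454530 (flp_i L59233)
theorem L454532 : N24207 = N4769 := eqc rfl L454531 rfl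
theorem L454551 : sm gh N4769 = N16635 := trfs L454532 (flp_h L205779) rfl
theorem L454552 : N16635 = N3298 := eqes L454551 (flp_h L41084)
theorem L454553 : N16635 = N3298 := eqc rfl L454552 rfl
theorem L454571 : sm gj N3298 = N24202 := trfs L454553 (flp_j L205745) rfl
theorem L454572 : N24202 = N4768 := eqes L454571 L41076
theorem L454573 : N24202 = N4768 := eqc rfl L454572 rfl
theorem L454588 : sm gf N4768 = N35093 := trfs L454573 (flp_f L297543) rfl
theorem L454589 : N35093 = N6850 := eqes L454588 (flp_f L58792)
theorem L454590 : N35093 = N6850 := eqc rfl L454589 rfl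
theorem L454595 : sm gb N6850 = N24120 := trfs L454590 L297539 rfl
theorem L454596 : N24120 = N9927 := eqes L454595 (flp_b L84885)
theorem L454597 : N24120 = N9927 := eqc rfl L454596 rfl
theorem L454619 : sm gi N9927 = N16568 := trfs L454597 (flp_i L205107) rfl
theorem L454620 : N16568 = N14385 := eqes L454619 (flp_i L122635)
theorem L454621 : N16568 = N14385 := eqc rfl L454620 rfl
theorem L454622 : sm ga N14385 = N11422 := trfs L454621 L141336 rfl
theorem L454623 : N11422 = N20912 := eqes L454622 (flp_a L177808)
theorem L454624 : N20912 = N11422 := (eqc rfl L454623 rfl).symm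
theorem L454626 : sm gc N14385 = N23530 := trfs L454621 (flp_c L200193) rfl
theorem L454627 : N23530 = N20918 := eqes L454626 (flp_c L177865)
theorem L454628 : N23530 = N20918 := eqc rfl L454627 rfl
theorem L454629 : sm gd N14385 = N11398 := trfs L454621 (flp_d L141334) rfl
theorem L454630 : N11398 = N9906 := eqes L454629 L122631
theorem L454631 : N11398 = N9906 := eqc rfl L454630 rfl
theorem L454632 : sm ge N14385 = N24119 := trfs L454621 L205101 rfl
theorem L454633 : N24119 = N20925 := eqes L454632 (flp_e L177929)
theorem L454634 : N24119 = N20925 := eqc rfl L454633 rfl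
theorem L454635 : sm gf N14385 = N11458 := trfs L454621 L141338 rfl
theorem L454636 : N11458 = N9968 := eqes L454635 L122633
theorem L454637 : N11458 = N9968 := eqc rfl L454636 rfl
theorem L454644 : sm gc N9968 = N16324 := trfs L454637 (flp_c L139252) rfl
theorem L454645 : N16324 = N14471 := eqes L454644 (flp_c L123361)
theorem L454646 : N16324 = N14471 := eqc rfl L454645 rfl
theorem L454648 : sm ge N9968 = N16648 := trfs L454637 L141957 rfl
theorem L454649 : N16648 = N14478 := eqes L454648 (flp_e L123422)
theorem L454650 : N16648 = N14478 := eqc rfl L454649 rfl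
theorem L454652 : sm gj N9968 = N7899 := trfs L454637 L98056 rfl
theorem L454653 : N7899 = N6871 := eqes L454652 (flp_j L85234)
theorem L454654 : N7899 = N6871 := eqc rfl L454653 rfl
theorem L454657 : sm ga N6871 = N5463 := trfs L454654 L67867 rfl
theorem L454658 : N5463 = N9957 := eqes L454657 (flp_a L85140)
theorem L454659 : N9957 = N5463 := (eqc rfl L454658 rfl).symm
theorem L454661 : sm gc N6871 = N11220 := trfs L454654 (flp_c L96017) rfl
theorem L454662 : N11220 = N9962 := eqes L454661 (flp_c L85187)
theorem L454663 : N11220 = N9962 := eqc rfl L454662 rfl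
theorem L454667 : sm ge N6871 = N11460 := trfs L454654 L98069 rfl
theorem L454668 : N11460 = N9966 := eqes L454667 (flp_e L85223)
theorem L454669 : N11460 = N9966 := eqc rfl L454668 rfl
theorem L454674 : sm gh N6871 = N10428 := trfs L454654 (flp_h L89078) rfl
theorem L454675 : N10428 = N9969 := eqes L454674 L85243
theorem L454676 : N10428 = N9969 := eqc rfl L454675 rfl
theorem L454678 : sm ga N9969 = N7202 := trfs L454676 L89074 rfl
theorem L454679 : N7202 = N14466 := eqes L454678 (flp_a L123313)
theorem L454680 : N14466 = N7202 := (eqc rfl L454679 rfl).symm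
theorem L454682 : sm gc N9969 = N14772 := trfs L454676 (flp_c L125850) rfl
theorem L454683 : N14772 = N14472 := eqes L454682 (flp_c L123372)
theorem L454684 : N14772 = N14472 := eqc rfl L454683 rfl
theorem L454685 : sm gd N9969 = N7184 := trfs L454676 (flp_d L89072) rfl
theorem L454686 : N7184 = N14447 := eqes L454685 (flp_d L123148)
theorem L454687 : N14447 = N7184 := (eqc rfl L454686 rfl).symm
theorem L454688 : sm ge N9969 = N15161 := trfs L454676 L129101 rfl
theorem L454689 : N15161 = N14479 := eqes L454688 (flp_e L123431)
theorem L454690 : N15161 = N14479 := eqc rfl L454689 rfl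
theorem L454692 : sm gg N9969 = N7185 := trfs L454676 L89076 rfl
theorem L454693 : N7185 = N6872 := eqes L454692 L85247
theorem L454694 : N7185 = N6872 := eqc rfl L454693 rfl
theorem L454697 : sm ga N6872 = N4971 := trfs L454694 L61587 rfl
theorem L454698 : N4971 = N9958 := eqes L454697 (flp_a L85149)
theorem L454699 : N9958 = N4971 := (eqc rfl L454698 rfl).symm
theorem L454703 : sm gc N6872 = N10162 := trfs L454694 (flp_c L86841) rfl
theorem L454704 : N10162 = N9963 := eqes L454703 (flp_c L85197)
theorem L454705 : N10162 = N9963 := eqc rfl L454704 rfl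
theorem L454706 : sm gd N6872 = N4959 := trfs L454694 (flp_d L61585) rfl
theorem L454707 : N4959 = N9945 := eqes L454706 (flp_d L85037)
theorem L454708 : N9945 = N4959 := (eqc rfl L454707 rfl).symm
theorem L454709 : sm ge N6872 = N10430 := trfs L454694 L89089 rfl
theorem L454710 : N10430 = N9967 := eqes L454709 (flp_e L85231)
theorem L454711 : N10430 = N9967 := eqc rfl L454710 rfl
theorem L454712 : sm gf N6872 = N4960 := trfs L454694 L61589 rfl
theorem L454713 : N4960 = N4748 := eqes L454712 L58982
theorem L454714 : N4960 = N4748 := eqc rfl L454713 rfl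
theorem L454717 : sm gi N6872 = N10431 := trfs L454694 L89096 rfl
theorem L454718 : N10431 = N9970 := eqes L454717 L85249
theorem L454719 : N10431 = N9970 := eqc rfl L454718 rfl
theorem L454720 : sm ga N9970 = N7205 := trfs L454719 L89098 rfl
theorem L454721 : N7205 = N14467 := eqes L454720 (flp_a L123320)
theorem L454722 : N14467 = N7205 := (eqc rfl L454721 rfl).symm
theorem L454724 : sm gc N9970 = N14775 := trfs L454719 (flp_c L125875) rfl
theorem L454725 : N14775 = N14474 := eqes L454724 (flp_c L123389)
theorem L454726 : N14775 = N14474 := eqc rfl L454725 rfl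
theorem L454727 : sm gd N9970 = N7186 := trfs L454719 L89100 rfl
theorem L454728 : N7186 = N14448 := eqes L454727 (flp_d L123154)
theorem L454729 : N14448 = N7186 := (eqc rfl L454728 rfl).symm
theorem L454730 : sm ge N9970 = N15164 := trfs L454719 (flp_e L129130) rfl
theorem L454731 : N15164 = N14481 := eqes L454730 (flp_e L123445)
theorem L454732 : N15164 = N14481 := eqc rfl L454731 rfl
theorem L454733 : sm gf N9970 = N7188 := trfs L454719 L89102 rfl
theorem L454734 : N7188 = N6873 := eqes L454733 L85253
theorem L454735 : N7188 = N6873 := eqc rfl L454734 rfl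
theorem L454738 : sm gh N9970 = N15165 := trfs L454719 L129133 rfl
theorem L454739 : N15165 = N6897 := eqes L454738 L85256
theorem L454740 : N15165 = N6897 := eqc rfl L454739 rfl
theorem L454757 : sm gi N6897 = N11464 := trfs L454740 L129141 rfl
theorem L454758 : N11464 = N4763 := eqes L454757 (flp_i L59178)
theorem L454759 : N11464 = N4763 := eqc rfl L454758 rfl
theorem L454776 : sm gh N4763 = N7902 := trfs L454759 (flp_h L98100) rfl
theorem L454777 : N7902 = N3294 := eqes L454776 (flp_h L41037)
theorem L454778 : N7902 = N3294 := eqc rfl L454777 rfl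
theorem L454788 : sm gf N3294 = N5459 := trfs L454778 L67893 rfl
theorem L454789 : N5459 = N2285 := eqes L454788 (flp_f L28517)
theorem L454790 : N5459 = N2285 := eqc rfl L454789 rfl
theorem L454810 : sm gi N2285 = N3773 := trfs L454790 (flp_i L47100) rfl
theorem L454811 : N3773 = N3285 := eqes L454810 (flp_i L28447)
theorem L454812 : N3773 = N3285 := eqc rfl L454811 rfl
theorem L454813 : sm ga N3285 = N2620 := trfs L454812 L32712 rfl
theorem L454814 : N2620 = N4744 := eqes L454813 (flp_a L40886)
theorem L454815 : N4744 = N2620 := (eqc rfl L454814 rfl).symm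
theorem L454819 : sm gc N3285 = N5325 := trfs L454812 (flp_c L45914) rfl
theorem L454820 : N5325 = N4746 := eqes L454819 L40903
theorem L454821 : N5325 = N4746 := eqc rfl L454820 rfl
theorem L454822 : sm gd N3285 = N2613 := trfs L454812 (flp_d L32710) rfl
theorem L454823 : N2613 = N2280 := eqes L454822 (flp_d L28442)
theorem L454824 : N2613 = N2280 := eqc rfl L454823 rfl
theorem L454825 : sm ge N3285 = N5458 := trfs L454812 L47093 rfl
theorem L454826 : N5458 = N4515 := eqes L454825 (flp_e L38882)
theorem L454827 : N5458 = N4515 := eqc rfl L454826 rfl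
theorem L454829 : sm gg N3285 = N5422 := trfs L454812 (flp_g L46781) rfl
theorem L454830 : N5422 = N4720 := eqes L454829 (flp_g L40688)
theorem L454831 : N5422 = N4720 := eqc rfl L454830 rfl
theorem L454834 : sm ga N4720 = N3756 := trfs L454831 L46779 rfl
theorem L454835 : N3756 = N6826 := eqes L454834 (flp_a L58594)
theorem L454836 : N6826 = N3756 := (eqc rfl L454835 rfl).symm
theorem L454838 : sm gc N4720 = N7646 := trfs L454831 (flp_c L65687) rfl
theorem L454839 : N7646 = N6828 := eqes L454838 L58610
theorem L454840 : N7646 = N6828 := eqc rfl L454839 rfl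
theorem L454842 : sm ge N4720 = N7856 := trfs L454831 L67501 rfl
theorem L454843 : N7856 = N6501 := eqes L454842 (flp_e L55764)
theorem L454844 : N7856 = N6501 := eqc rfl L454843 rfl
theorem L454846 : sm gj N4720 = N7813 := trfs L454831 (flp_j L67101) rfl
theorem L454847 : N7813 = N6802 := eqes L454846 (flp_j L58379)
theorem L454848 : N7813 = N6802 := eqc rfl L454847 rfl
theorem L454849 : sm gh N4720 = N7145 := trfs L454831 (flp_h L61254) rfl
theorem L454850 : N7145 = N6830 := eqes L454849 L58628
theorem L454851 : N7145 = N6830 := eqc rfl L454850 rfl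
theorem L454853 : sm ga N6830 = N4941 := trfs L454851 L61250 rfl
theorem L454854 : N4941 = N9898 := eqes L454853 (flp_a L84646)
theorem L454855 : N9898 = N4941 := (eqc rfl L454854 rfl).symm
theorem L454859 : sm gc N6830 = N10085 := trfs L454851 (flp_c L86224) rfl
theorem L454860 : N10085 = N9901 := eqes L454859 (flp_c L84676)
theorem L454861 : N10085 = N9901 := eqc rfl L454860 rfl
theorem L454862 : sm gd N6830 = N4932 := trfs L454851 (flp_d L61248) rfl
theorem L454863 : N4932 = N9889 := eqes L454862 (flp_d L84569)
theorem L454864 : N9889 = N4932 := (eqc rfl L454863 rfl).symm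
theorem L454865 : sm ge N6830 = N10370 := trfs L454851 L88590 rfl
theorem L454866 : N10370 = N9412 := eqes L454865 (flp_e L80429)
theorem L454867 : N10370 = N9412 := eqc rfl L454866 rfl
theorem L454868 : sm gf N6830 = N10368 := trfs L454851 (flp_f L88577) rfl
theorem L454869 : N10368 = N9904 := eqes L454868 (flp_f L84700)
theorem L454870 : N10368 = N9904 := eqc rfl L454869 rfl
theorem L454872 : sm gj N6830 = N10327 := trfs L454851 (flp_j L88204) rfl
theorem L454873 : N10327 = N9862 := eqes L454872 (flp_j L84328)
theorem L454874 : N10327 = N9862 := eqc rfl L454873 rfl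
theorem L454875 : sm gi N6830 = N10371 := trfs L454851 L88599 rfl
theorem L454876 : N10371 = N9905 := eqes L454875 L84702
theorem L454877 : N10371 = N9905 := eqc rfl L454876 rfl
theorem L454878 : sm ga N9905 = N7160 := trfs L454877 L88601 rfl
theorem L454879 : N7160 = N14376 := eqes L454878 (flp_a L122549)
theorem L454880 : N14376 = N7160 := (eqc rfl L454879 rfl).symm
theorem L454882 : sm gc N9905 = N14657 := trfs L454877 (flp_c L124932) rfl
theorem L454883 : N14657 = N14382 := eqes L454882 (flp_c L122607)
theorem L454884 : N14657 = N14382 := eqc rfl L454883 rfl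
theorem L454885 : sm gd N9905 = N7146 := trfs L454877 L88603 rfl
theorem L454886 : N7146 = N14363 := eqes L454885 (flp_d L122434)
theorem L454887 : N14363 = N7146 := (eqc rfl L454886 rfl).symm
theorem L454888 : sm ge N9905 = N15077 := trfs L454877 (flp_e L128412) rfl
theorem L454889 : N15077 = N13648 := eqes L454888 (flp_e L116247)
theorem L454890 : N15077 = N13648 := eqc rfl L454889 rfl
theorem L454893 : sm gj N9905 = N15012 := trfs L454877 (flp_j L127839) rfl
theorem L454894 : N15012 = N14322 := eqes L454893 (flp_j L122068)
theorem L454895 : N15012 = N14322 := eqc rfl L454894 rfl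
theorem L454896 : sm gh N9905 = N15078 := trfs L454877 L128416 rfl
theorem L454897 : N15078 = N6846 := eqes L454896 L84708
theorem L454898 : N15078 = N6846 := eqc rfl L454897 rfl
theorem L454915 : sm gi N6846 = N11405 := trfs L454898 L128423 rfl
theorem L454916 : N11405 = N4730 := eqes L454915 (flp_i L58755)
theorem L454917 : N11405 = N4730 := eqc rfl L454916 rfl
theorem L454931 : sm gj N4730 = N16485 := trfs L454917 (flp_j L140595) rfl
theorem L454932 : N16485 = N6812 := eqes L454931 (flp_j L58472)
theorem L454933 : N16485 = N6812 := eqc rfl L454932 rfl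
theorem L454952 : sm gh N6812 = N11341 := trfs L454933 (flp_h L140590) rfl
theorem L454953 : N11341 = N4708 := eqes L454952 (flp_h L58467)
theorem L454954 : N11341 = N4708 := eqc rfl L454953 rfl
theorem L454956 : sm ga N4708 = N7828 := trfs L454954 L97043 rfl
theorem L454957 : N7828 = N6808 := eqes L454956 (flp_a L58434)
theorem L454958 : N7828 = N6808 := eqc rfl L454957 rfl
theorem L454969 : sm gf N4708 = N16482 := trfs L454954 (flp_f L140567) rfl
theorem L454970 : N16482 = N6811 := eqes L454969 L58459
theorem L454971 : N16482 = N6811 := eqc rfl L454970 rfl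
theorem L454993 : sm gi N6811 = N11338 := trfs L454971 (flp_i L140561) rfl
theorem L454994 : N11338 = N9861 := eqes L454993 (flp_i L84321)
theorem L454995 : N11338 = N9861 := eqc rfl L454994 rfl
theorem L454999 : sm gc N9861 = N16035 := trfs L454995 (flp_c L136825) rfl
theorem L455000 : N16035 = N14317 := eqes L454999 (flp_c L122021)
theorem L455001 : N16035 = N14317 := eqc rfl L455000 rfl
theorem L455003 : sm ge N9861 = N16481 := trfs L454995 L140555 rfl
theorem L455004 : N16481 = N14319 := eqes L455003 L122038
theorem L455005 : N16481 = N14319 := eqc rfl L455004 rfl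
theorem L455010 : sm ga N14319 = N11359 := trfs L455005 L140557 rfl
theorem L455011 : N11359 = N20820 := eqes L455010 (flp_a L176976)
theorem L455012 : N20820 = N11359 := (eqc rfl L455011 rfl).symm
theorem L455016 : sm gc N14319 = N23356 := trfs L455005 (flp_c L198731) rfl
theorem L455017 : N23356 = N20825 := eqes L455016 (flp_c L177028)
theorem L455018 : N23356 = N20825 := eqc rfl L455017 rfl
theorem L455019 : sm gd N14319 = N23986 := trfs L455005 (flp_d L203953) rfl
theorem L455020 : N23986 = N20678 := eqes L455019 (flp_d L175789)
theorem L455021 : N23986 = N20678 := eqc rfl L455020 rfl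
theorem L455022 : sm gf N14319 = N23992 := trfs L455005 L204001 rfl
theorem L455023 : N23992 = N19780 := eqes L455022 (flp_f L167977)
theorem L455024 : N23992 = N19780 := eqc rfl L455023 rfl
theorem L455025 : sm gg N14319 = N23990 := trfs L455005 (flp_g L203990) rfl
theorem L455026 : N23990 = N20830 := eqes L455025 L177075
theorem L455027 : N23990 = N20830 := eqc rfl L455026 rfl
theorem L455028 : sm gj N14319 = N11401 := trfs L455005 L140559 rfl
theorem L455029 : N11401 = N9902 := eqes L455028 L122042
theorem L455030 : N11401 = N9902 := eqc rfl L455029 rfl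
theorem L455031 : sm gh N14319 = N21849 := trfs L455005 (flp_h L185582) rfl
theorem L455032 : N21849 = N20831 := eqes L455031 L177083
theorem L455033 : N21849 = N20831 := eqc rfl L455032 rfl
theorem L455035 : sm ga N20831 = N15030 := trfs L455033 L185578 rfl
theorem L455036 : N15030 = N30318 := eqes L455035 (flp_a L257093)
theorem L455037 : N30318 = N15030 := (eqc rfl L455036 rfl).symm
theorem L455039 : sm gc N20831 = N30906 := trfs L455033 (flp_c L262158) rfl
theorem L455040 : N30906 = N30324 := eqes L455039 (flp_c L257155)
theorem L455041 : N30906 = N30324 := eqc rfl L455040 rfl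
theorem L455042 : sm gd N20831 = N31832 := trfs L455033 (flp_d L269691) rfl
theorem L455043 : N31832 = N30334 := eqes L455042 L257248
theorem L455044 : N31832 = N30334 := eqc rfl L455043 rfl
theorem L455046 : sm gf N20831 = N31838 := trfs L455033 L269742 rfl
theorem L455047 : N31838 = N28770 := eqes L455046 (flp_f L243714)
theorem L455048 : N31838 = N28770 := eqc rfl L455047 rfl
theorem L455052 : sm gj N20831 = N15074 := trfs L455033 L185580 rfl
theorem L455053 : N15074 = N14384 := eqes L455052 L177089
theorem L455054 : N15074 = N14384 := eqc rfl L455053 rfl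
theorem L455055 : sm gi N20831 = N31839 := trfs L455033 L269752 rfl
theorem L455056 : N31839 = N30335 := eqes L455055 L257254
theorem L455057 : N31839 = N30335 := eqc rfl L455056 rfl
theorem L455058 : sm ga N30335 = N21880 := trfs L455057 L269754 rfl
theorem L455059 : N21880 = N44206 := eqes L455058 (flp_a L373953)
theorem L455060 : N44206 = N21880 := (eqc rfl L455059 rfl).symm
theorem L455061 : sm gc N30335 = N45083 := trfs L455057 (flp_c L381471) rfl
theorem L455062 : N45083 = N44215 := eqes L455061 (flp_c L374041)
theorem L455063 : N45083 = N44215 := eqc rfl L455062 rfl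
theorem L455065 : sm gj N30335 = N21947 := trfs L455057 L269758 rfl
theorem L455066 : N21947 = N20928 := eqes L455065 L257260
theorem L455067 : N21947 = N20928 := eqc rfl L455066 rfl
theorem L455068 : sm ga N20928 = N15105 := trfs L455067 L186441 rfl
theorem L455069 : N15105 = N30455 := eqes L455068 (flp_a L258327)
theorem L455070 : N30455 = N15105 := (eqc rfl L455069 rfl).symm
theorem L455072 : sm gc N20928 = N31085 := trfs L455067 (flp_c L263633) rfl
theorem L455073 : N31085 = N30464 := eqes L455072 (flp_c L258408)
theorem L455074 : N31085 = N30464 := eqc rfl L455073 rfl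
theorem L455075 : sm gd N20928 = N31977 := trfs L455067 (flp_d L270946) rfl
theorem L455076 : N31977 = N30479 := eqes L455075 (flp_d L258532)
theorem L455077 : N31977 = N30479 := eqc rfl L455076 rfl
theorem L455079 : sm gf N20928 = N31985 := trfs L455067 (flp_f L271015) rfl
theorem L455080 : N31985 = N28842 := eqes L455079 (flp_f L244394)
theorem L455081 : N31985 = N28842 := eqc rfl L455080 rfl
theorem L455082 : sm gg N20928 = N31982 := trfs L455067 (flp_g L270988) rfl
theorem L455083 : N31982 = N30477 := eqes L455082 (flp_g L258522)
theorem L455084 : N31982 = N30477 := eqc rfl L455083 rfl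
theorem L455085 : sm gh N20928 = N31986 := trfs L455067 L271017 rfl
theorem L455086 : N31986 = N14420 := eqes L455085 L177951
theorem L455087 : N31986 = N14420 := eqc rfl L455086 rfl
theorem L455096 : sm gi N14420 = N24126 := trfs L455087 L271023 rfl
theorem L455097 : N24126 = N9926 := eqes L455096 (flp_i L122914)
theorem L455098 : N24126 = N9926 := eqc rfl L455097 rfl
theorem L455119 : sm gh N9926 = N16573 := trfs L455098 (flp_h L205154) rfl
theorem L455120 : N16573 = N6843 := eqes L455119 (flp_h L84877)
theorem L455121 : N16573 = N6843 := eqc rfl L455120 rfl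
theorem L455122 : sm ga N6843 = N11427 := trfs L455121 L141377 rfl
theorem L455123 : N11427 = N9915 := eqes L455122 (flp_a L84792)
theorem L455124 : N11427 = N9915 := eqc rfl L455123 rfl
theorem L455136 : sm gg N6843 = N24122 := trfs L455121 (flp_g L205129) rfl
theorem L455137 : N24122 = N9925 := eqes L455136 L84871
theorem L455138 : N24122 = N9925 := eqc rfl L455137 rfl
theorem L455141 : sm ga N9925 = N16605 := trfs L455138 L205125 rfl
theorem L455142 : N16605 = N14402 := eqes L455141 (flp_a L122773)
theorem L455143 : N16605 = N14402 := eqc rfl L455142 rfl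
theorem L455159 : sm gi N9925 = N16570 := trfs L455138 (flp_i L205123) rfl
theorem L455160 : N16570 = N14383 := eqes L455159 (flp_i L122619)
theorem L455161 : N16570 = N14383 := eqc rfl L455160 rfl
theorem L455162 : sm ga N14383 = N11424 := trfs L455161 L141355 rfl
theorem L455163 : N11424 = N20910 := eqes L455162 (flp_a L177792)
theorem L455164 : N20910 = N11424 := (eqc rfl L455163 rfl).symm
theorem L455166 : sm gc N14383 = N23532 := trfs L455161 (flp_c L200209) rfl
theorem L455167 : N23532 = N20916 := eqes L455166 (flp_c L177847)
theorem L455168 : N23532 = N20916 := eqc rfl L455167 rfl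
theorem L455169 : sm gd N14383 = N24111 := trfs L455161 (flp_d L205045) rfl
theorem L455170 : N24111 = N20753 := eqes L455169 (flp_d L176419)
theorem L455171 : N24111 = N20753 := eqc rfl L455170 rfl
theorem L455173 : sm gf N14383 = N24121 := trfs L455161 L205117 rfl
theorem L455174 : N24121 = N20924 := eqes L455173 L177917
theorem L455175 : N24121 = N20924 := eqc rfl L455174 rfl
theorem L455178 : sm gh N14383 = N21944 := trfs L455161 (flp_h L186419) rfl
theorem L455179 : N21944 = N20926 := eqes L455178 L177933
theorem L455180 : N21944 = N20926 := eqc rfl L455179 rfl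
theorem L455181 : sm ga N20926 = N15102 := trfs L455180 L186415 rfl
theorem L455182 : N15102 = N30453 := eqes L455181 (flp_a L258313)
theorem L455183 : N30453 = N15102 := (eqc rfl L455182 rfl).symm
theorem L455185 : sm gc N20926 = N31082 := trfs L455180 (flp_c L263601) rfl
theorem L455186 : N31082 = N30462 := eqes L455185 (flp_c L258394)
theorem L455187 : N31082 = N30462 := eqc rfl L455186 rfl
theorem L455188 : sm gd N20926 = N31971 := trfs L455180 (flp_d L270905) rfl
theorem L455189 : N31971 = N30476 := eqes L455188 L258510
theorem L455190 : N31971 = N30476 := eqc rfl L455189 rfl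
theorem L455192 : sm gf N20926 = N31981 := trfs L455180 L270974 rfl
theorem L455193 : N31981 = N30474 := eqes L455192 (flp_f L258500)
theorem L455194 : N31981 = N30474 := eqc rfl L455193 rfl
theorem L455196 : sm gj N20926 = N31979 := trfs L455180 (flp_j L270960) rfl
theorem L455197 : N31979 = N30475 := eqes L455196 (flp_j L258508)
theorem L455198 : N31979 = N30475 := eqc rfl L455197 rfl
theorem L455203 : sm gc N30475 = N45346 := trfs L455198 (flp_c L383574) rfl
theorem L455204 : N45346 = N44419 := eqes L455203 (flp_c L375859)
theorem L455205 : N45346 = N44419 := eqc rfl L455204 rfl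
theorem L455208 : sm ga N44419 = N31125 := trfs L455205 L383572 rfl
theorem L455210 : sm ge N44419 = N31080 := trfs L455205 (flp_e L383570) rfl
theorem L455211 : N31080 = N30465 := eqes L455210 L375861
theorem L455212 : N31080 = N30465 := eqc rfl L455211 rfl
theorem L455214 : sm gh N44419 = N34315 := trfs L455205 L383578 rfl
theorem L455215 : N34315 = N30461 := eqes L455214 (flp_h L375855)
theorem L455216 : N34315 = N30461 := eqc rfl L455215 rfl
theorem L455217 : sm ga N30461 = N23575 := trfs L455216 L291094 rfl
theorem L455218 : N23575 = N44392 := eqes L455217 (flp_a L375622)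
theorem L455219 : N44392 = N23575 := (eqc rfl L455218 rfl).symm
theorem L455223 : sm ga N23575 = N30461 := trfs L455219 L375622 rfl
theorem L455225 : sm gc N23575 = N30452 := trfs L455219 L375624 rfl
theorem L455226 : N30452 = N16602 := eqes L455225 L200535
theorem L455227 : N30452 = N16602 := eqc rfl L455226 rfl
theorem L455228 : sm ge N23575 = N30445 := trfs L455219 L375626 rfl
theorem L455229 : N30445 = N16181 := eqes L455228 (flp_e L200533)
theorem L455230 : N30445 = N16181 := eqc rfl L455229 rfl
theorem L455231 : sm gj N23575 = N30443 := trfs L455219 (flp_j L375620) rfl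
theorem L455232 : N30443 = N16183 := eqes L455231 L200537
theorem L455233 : N30443 = N16183 := eqc rfl L455232 rfl
theorem L455234 : sm gi N23575 = N30505 := trfs L455219 L375628 rfl
theorem L455235 : N30505 = N34382 := eqes L455234 L291600
theorem L455236 : N34382 = N30505 := (eqc rfl L455235 rfl).symm
theorem L455243 : sm gj N30505 = N23578 := trfs L455236 L291606 rfl
theorem L455244 : N23578 = N20945 := eqes L455243 (flp_j L258745)
theorem L455245 : N23578 = N20945 := eqc rfl L455244 rfl
theorem L455249 : sm gb N20945 = N33486 := trfs L455245 (flp_b L284033) rfl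
theorem L455250 : N33486 = N30493 := eqes L455249 (flp_b L258638)
theorem L455251 : N33486 = N30493 := eqc rfl L455250 rfl
theorem L455253 : sm gd N20945 = N34370 := trfs L455245 (flp_d L291528) rfl
theorem L455254 : N34370 = N30502 := eqes L455253 (flp_d L258727)
theorem L455255 : N34370 = N30502 := eqc rfl L455254 rfl
theorem L455256 : sm ge N20945 = N16184 := trfs L455245 L200559 rfl
theorem L455257 : N16184 = N14398 := eqes L455256 L178095
theorem L455258 : N16184 = N14398 := eqc rfl L455257 rfl
theorem L455259 : sm gf N20945 = N34385 := trfs L455245 (flp_f L291630) rfl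
theorem L455260 : N34385 = N30504 := eqes L455259 L258737
theorem L455261 : N34385 = N30504 := eqc rfl L455260 rfl
theorem L455262 : sm gg N20945 = N16186 := trfs L455245 L200561 rfl
theorem L455263 : N16186 = N14397 := eqes L455262 (flp_g L178089)
theorem L455264 : N16186 = N14397 := eqc rfl L455263 rfl
theorem L455265 : sm gh N20945 = N34386 := trfs L455245 L291632 rfl
theorem L455266 : N34386 = N30506 := eqes L455265 L258753
theorem L455267 : N34386 = N30506 := eqc rfl L455266 rfl
theorem L455279 : sm gi N30506 = N45418 := trfs L455267 (flp_i L384123) rfl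
theorem L455280 : N45418 = N44488 := eqes L455279 L376413
theorem L455281 : N45418 = N44488 := eqc rfl L455280 rfl
theorem L455282 : sm gc N44488 = N32049 := trfs L455281 L384117 rfl
theorem L455283 : N32049 = N30521 := eqes L455282 L376417
theorem L455284 : N32049 = N30521 := eqc rfl L455283 rfl
theorem L455285 : sm ge N44488 = N31129 := trfs L455281 L384119 rfl
theorem L455286 : N31129 = N30511 := eqes L455285 L376419
theorem L455287 : N31129 = N30511 := eqc rfl L455286 rfl
theorem L455288 : sm gg N44488 = N31132 := trfs L455281 L384121 rfl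
theorem L455289 : N31132 = N30508 := eqes L455288 L376421
theorem L455290 : N31132 = N30508 := eqc rfl L455289 rfl
theorem L455291 : sm gh N44488 = N31128 := trfs L455281 (flp_h L384115) rfl
theorem L455294 : sm gb N30508 = N44544 := trfs L455290 (flp_b L376861) rfl
theorem L455295 : N44544 = N44467 := eqes L455294 (flp_b L376227)
theorem L455296 : N44544 = N44467 := eqc rfl L455295 rfl
theorem L455301 : sm ge N30508 = N21364 := trfs L455290 L263978 rfl
theorem L455302 : N21364 = N20950 := eqes L455301 L258773
theorem L455303 : N21364 = N20950 := eqc rfl L455302 rfl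
theorem L455304 : sm gf N30508 = N45421 := trfs L455290 (flp_f L384147) rfl
theorem L455305 : N45421 = N42043 := eqes L455304 (flp_f L355397)
theorem L455306 : N45421 = N42043 := eqc rfl L455305 rfl
theorem L455307 : sm gj N30508 = N45130 := trfs L455290 (flp_j L381858) rfl
theorem L455308 : N45130 = N44259 := eqes L455307 (flp_j L374447)
theorem L455309 : N45130 = N44259 := eqc rfl L455308 rfl
theorem L455310 : sm gh N30508 = N21363 := trfs L455290 (flp_h L263974) rfl
theorem L455311 : N21363 = N44395 := eqes L455310 (flp_h L375652)
theorem L455312 : N44395 = N21363 := (eqc rfl L455311 rfl).symm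
theorem L455317 : sm ge N21363 = N30448 := trfs L455312 L375650 rfl
theorem L455318 : N30448 = N14676 := eqes L455317 L181603
theorem L455319 : N30448 = N14676 := eqc rfl L455318 rfl
theorem L455320 : sm gh N21363 = N30508 := trfs L455312 L375652 rfl
theorem L455322 : sm gi N21363 = N30444 := trfs L455312 (flp_i L375644) rfl
theorem L455323 : N30444 = N14675 := eqes L455322 (flp_i L181599)
theorem L455324 : N30444 = N14675 := eqc rfl L455323 rfl
theorem L455325 : sm ga N14675 = N20917 := trfs L455324 L258231 rfl
theorem L455326 : N20917 = N21332 := eqes L455325 (flp_a L181361)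
theorem L455327 : N21332 = N20917 := (eqc rfl L455326 rfl).symm
theorem L455334 : sm gd N14675 = N44394 := trfs L455324 L375640 rfl
theorem L455335 : N44394 = N21356 := eqes L455334 (flp_d L181549)
theorem L455336 : N44394 = N21356 := eqc rfl L455335 rfl
theorem L455337 : sm ge N14675 = N20907 := trfs L455324 L258235 rfl
theorem L455338 : N20907 = N10097 := eqes L455337 (flp_e L125066)
theorem L455339 : N20907 = N10097 := eqc rfl L455338 rfl
theorem L455340 : sm gf N14675 = N41979 := trfs L455324 (flp_f L354802) rfl
theorem L455341 : N41979 = N21362 := eqes L455340 L181591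
theorem L455342 : N41979 = N21362 := eqc rfl L455341 rfl
theorem L455349 : sm gh N14675 = N20905 := trfs L455324 (flp_h L258229) rfl
theorem L455350 : N20905 = N11124 := eqes L455349 L125070
theorem L455351 : N20905 = N11124 := eqc rfl L455350 rfl
theorem L455352 : sm ga N11124 = N14378 := trfs L455351 L177746 rfl
theorem L455353 : N14378 = N16155 := eqes L455352 (flp_a L137854)
theorem L455354 : N16155 = N14378 := (eqc rfl L455353 rfl).symm
theorem L455355 : sm gb N11124 = N30437 := trfs L455351 (flp_b L258163) rfl
theorem L455356 : N30437 = N15776 := eqes L455355 (flp_b L134545)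
theorem L455357 : N30437 = N15776 := eqc rfl L455356 rfl
theorem L455361 : sm gd N11124 = N30442 := trfs L455351 L258211 rfl
theorem L455362 : N30442 = N16179 := eqes L455361 (flp_d L138047)
theorem L455363 : N30442 = N16179 := eqc rfl L455362 rfl
theorem L455364 : sm ge N11124 = N14371 := trfs L455351 (flp_e L177744) rfl
theorem L455365 : N14371 = N7658 := eqes L455364 (flp_e L95205)
theorem L455366 : N14371 = N7658 := eqc rfl L455365 rfl
theorem L455367 : sm gf N11124 = N28819 := trfs L455351 (flp_f L244178) rfl
theorem L455368 : N28819 = N16185 := eqes L455367 L138086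
theorem L455369 : N28819 = N16185 := eqc rfl L455368 rfl
theorem L455371 : sm gj N11124 = N30312 := trfs L455351 (flp_j L257037) rfl
theorem L455372 : N30312 = N16056 := eqes L455371 (flp_j L137009)
theorem L455373 : N30312 = N16056 := eqc rfl L455372 rfl
theorem L455378 : sm gb N16056 = N44188 := trfs L455373 (flp_b L373771) rfl
theorem L455379 : N44188 = N22782 := eqes L455378 (flp_b L193722)
theorem L455380 : N44188 = N22782 := eqc rfl L455379 rfl
theorem L455385 : sm ge N16056 = N20818 := trfs L455373 (flp_e L257031) rfl
theorem L455386 : N20818 = N11038 := eqes L455385 (flp_e L137005)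
theorem L455387 : N20818 = N11038 := eqc rfl L455386 rfl
theorem L455388 : sm gf N16056 = N41883 := trfs L455373 (flp_f L353877) rfl
theorem L455389 : N41883 = N23386 := eqes L455388 L198987
theorem L455390 : N41883 = N23386 := eqc rfl L455389 rfl
theorem L455391 : sm gg N16056 = N44194 := trfs L455373 L373834 rfl
theorem L455392 : N44194 = N23384 := eqes L455391 (flp_g L198976)
theorem L455393 : N44194 = N23384 := eqc rfl L455392 rfl
theorem L455395 : sm gi N16056 = N20844 := trfs L455373 L257039 rfl
theorem L455396 : N20844 = N23387 := eqes L455395 L198995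
theorem L455397 : N23387 = N20844 := (eqc rfl L455396 rfl).symm
theorem L455420 : sm gh N20844 = N34099 := trfs L455397 L289329 rfl
theorem L455421 : N34099 = N30353 := eqes L455420 L257420
theorem L455422 : N34099 = N30353 := eqc rfl L455421 rfl
theorem L455423 : sm gi N20844 = N16056 := trfs L455397 (flp_i L198995) rfl
theorem L455428 : sm ge N30353 = N23388 := trfs L455422 L289333 rfl
theorem L455429 : N23388 = N20846 := eqes L455428 L257426
theorem L455430 : N23388 = N20846 := eqc rfl L455429 rfl
theorem L455455 : sm gi N20846 = N30938 := trfs L455430 (flp_i L262438) rfl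
theorem L455456 : N30938 = N30357 := eqes L455455 L257461
theorem L455457 : N30938 = N30357 := eqc rfl L455456 rfl
theorem L455461 : sm gb N30357 = N44295 := trfs L455457 (flp_b L374772) rfl
theorem L455462 : N44295 = N44249 := eqes L455461 (flp_b L374350)
theorem L455463 : N44295 = N44249 := eqc rfl L455462 rfl
theorem L455464 : sm gc N30357 = N21881 := trfs L455457 L262432 rfl
theorem L455465 : N21881 = N20853 := eqes L455464 L257465
theorem L455466 : N21881 = N20853 := eqc rfl L455465 rfl
theorem L455467 : sm gd N30357 = N45017 := trfs L455457 (flp_d L380896) rfl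
theorem L455468 : N45017 = N44264 := eqes L455467 (flp_d L374493)
theorem L455469 : N45017 = N44264 := eqc rfl L455468 rfl
theorem L455471 : sm gf N30357 = N21237 := trfs L455457 L262434 rfl
theorem L455472 : N21237 = N20848 := eqes L455471 L257467
theorem L455473 : N21237 = N20848 := eqc rfl L455472 rfl
theorem L455474 : sm gg N30357 = N45127 := trfs L455457 (flp_g L381830) rfl
theorem L455475 : N45127 = N44262 := eqes L455474 (flp_g L374477)
theorem L455476 : N45127 = N44262 := eqc rfl L455475 rfl
theorem L455478 : sm gh N30357 = N21234 := trfs L455457 (flp_h L262430) rfl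
theorem L455479 : N21234 = N44199 := eqes L455478 (flp_h L373896)
theorem L455480 : N44199 = N21234 := (eqc rfl L455479 rfl).symm
theorem L455481 : sm ga N21234 = N30328 := trfs L455480 L373888 rfl
theorem L455482 : N30328 = N30907 := eqes L455481 (flp_a L262166)
theorem L455483 : N30907 = N30328 := (eqc rfl L455482 rfl).symm
theorem L455487 : sm gf N21234 = N30316 := trfs L455480 L373892 rfl
theorem L455488 : N30316 = N14592 := eqes L455487 L180558
theorem L455489 : N30316 = N14592 := eqc rfl L455488 rfl
theorem L455491 : sm gh N21234 = N30357 := trfs L455480 L373896 rfl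
theorem L455493 : sm gi N21234 = N30314 := trfs L455480 (flp_i L373886) rfl
theorem L455494 : N30314 = N14589 := eqes L455493 (flp_i L180552)
theorem L455495 : N30314 = N14589 := eqc rfl L455494 rfl
theorem L455496 : sm ga N14589 = N20827 := trfs L455495 L257054 rfl
theorem L455497 : N20827 = N21212 := eqes L455496 (flp_a L180363)
theorem L455498 : N21212 = N20827 := (eqc rfl L455497 rfl).symm
theorem L455509 : sm gf N14589 = N20819 := trfs L455495 L257058 rfl
theorem L455510 : N20819 = N10041 := eqes L455509 L124363
theorem L455511 : N20819 = N10041 := eqc rfl L455510 rfl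
theorem L455512 : sm gg N14589 = N44197 := trfs L455495 (flp_g L373874) rfl
theorem L455513 : N44197 = N21231 := eqes L455512 (flp_g L180531)
theorem L455514 : N44197 = N21231 := eqc rfl L455513 rfl
theorem L455517 : sm ga N21231 = N30326 := trfs L455514 L373869 rfl
theorem L455518 : N30326 = N30904 := eqes L455517 (flp_a L262136)
theorem L455519 : N30904 = N30326 := (eqc rfl L455518 rfl).symm
theorem L455524 : sm gh N21231 = N30313 := trfs L455514 (flp_h L373867) rfl
theorem L455525 : N30313 = N16054 := eqes L455524 L180535
theorem L455526 : N30313 = N16054 := eqc rfl L455525 rfl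
theorem L455527 : sm ga N16054 = N20826 := trfs L455526 L257043 rfl
theorem L455528 : N20826 = N23354 := eqes L455527 (flp_a L198711)
theorem L455529 : N23354 = N20826 := (eqc rfl L455528 rfl).symm
theorem L455533 : sm gc N16054 = N20821 := trfs L455526 L257045 rfl
theorem L455534 : N20821 = N11357 := eqes L455533 L136996
theorem L455535 : N20821 = N11357 := eqc rfl L455534 rfl
theorem L455536 : sm gd N16054 = N22718 := trfs L455526 L257047 rfl
theorem L455537 : N22718 = N11037 := eqes L455536 (flp_d L136991)
theorem L455538 : N22718 = N11037 := eqc rfl L455537 rfl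
theorem L455545 : sm gi N16054 = N20845 := trfs L455526 L257049 rfl
theorem L455546 : N20845 = N23385 := eqes L455545 L198978
theorem L455547 : N23385 = N20845 := (eqc rfl L455546 rfl).symm
theorem L455563 : sm gj N20845 = N34093 := trfs L455547 (flp_j L289291) rfl
theorem L455564 : N34093 = N30354 := eqes L455563 L257430
theorem L455565 : N34093 = N30354 := eqc rfl L455564 rfl
theorem L455567 : sm gi N20845 = N16054 := trfs L455547 (flp_i L198978) rfl
theorem L455572 : sm gd N30354 = N23383 := trfs L455565 L289286 rfl
theorem L455573 : N23383 = N22759 := eqes L455572 L257436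
theorem L455574 : N23383 = N22759 := eqc rfl L455573 rfl
theorem L455599 : sm gi N22759 = N16053 := trfs L455574 (flp_i L198963) rfl
theorem L455600 : N16053 = N33106 := eqes L455599 (flp_i L280716)
theorem L455601 : N33106 = N16053 := (eqc rfl L455600 rfl).symm
theorem L455610 : sm gg N16053 = N22875 := trfs L455601 L280718 rfl
theorem L455611 : N22875 = N11121 := eqes L455610 L136987
theorem L455612 : N22875 = N11121 := eqc rfl L455611 rfl
theorem L455616 : sm ga N11121 = N15724 := trfs L455612 L194551 rfl
theorem L455617 : N15724 = N16152 := eqes L455616 (flp_a L137824)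
theorem L455618 : N16152 = N15724 := (eqc rfl L455617 rfl).symm
theorem L455622 : sm gc N11121 = N15718 := trfs L455612 L194553 rfl
theorem L455623 : N15718 = N7667 := eqes L455622 L95183
theorem L455624 : N15718 = N7667 := eqc rfl L455623 rfl
theorem L455626 : sm ge N11121 = N33338 := trfs L455612 (flp_e L282813) rfl
theorem L455627 : N33338 = N16175 := eqes L455626 (flp_e L138024)
theorem L455628 : N33338 = N16175 := eqc rfl L455627 rfl
theorem L455629 : sm gf N11121 = N15869 := trfs L455612 L194555 rfl
theorem L455630 : N15869 = N7740 := eqes L455629 L95185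
theorem L455631 : N15869 = N7740 := eqc rfl L455630 rfl
theorem L455632 : sm gj N11121 = N15712 := trfs L455612 (flp_j L194549) rfl
theorem L455633 : N15712 = N7657 := eqes L455632 L95187
theorem L455634 : N15712 = N7657 := eqc rfl L455633 rfl
theorem L455635 : sm gh N11121 = N33342 := trfs L455612 L282843 rfl
theorem L455636 : N33342 = N7656 := eqes L455635 (flp_h L95181)
theorem L455637 : N33342 = N7656 := eqc rfl L455636 rfl
theorem L455649 : sm gj N7656 = N22876 := trfs L455637 L282851 rfl
theorem L455650 : N22876 = N5279 := eqes L455649 (flp_j L65765)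
theorem L455651 : N22876 = N5279 := eqc rfl L455650 rfl
theorem L455652 : sm ga N5279 = N15725 := trfs L455651 L194561 rfl
theorem L455653 : N15725 = N7644 := eqes L455652 (flp_a L65667)
theorem L455654 : N15725 = N7644 := eqc rfl L455653 rfl
theorem L455674 : sm gi N5279 = N16139 := trfs L455651 L282861 L444318
theorem L455675 : N16139 = N7625 := eqes L455674 (flp_i L65512)
theorem L455676 : N16139 = N7625 := eqc rfl L455675 rfl
theorem L455677 : sm ga N7625 = N22926 := trfs L455676 (flp_a L194996) rfl
theorem L455678 : N22926 = N11060 := eqes L455677 (flp_a L94669)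
theorem L455679 : N22926 = N11060 := eqc rfl L455678 rfl
theorem L455701 : sm gh N7625 = N11094 := trfs L455676 (flp_h L137721) rfl
theorem L455702 : N11094 = N11073 := eqes L455701 L94786
theorem L455703 : N11094 = N11073 := eqc rfl L455702 rfl
theorem L455706 : sm ga N11073 = N15746 := trfs L455703 (flp_a L134287) rfl
theorem L455707 : N15746 = N16089 := eqes L455706 (flp_a L137304)
theorem L455708 : N16089 = N15746 := (eqc rfl L455707 rfl).symm
theorem L455714 : sm gd N11073 = N14645 := trfs L455703 (flp_d L124831) rfl
theorem L455715 : N14645 = N16109 := eqes L455714 L137479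
theorem L455716 : N16109 = N14645 := (eqc rfl L455715 rfl).symm
theorem L455717 : sm ge N11073 = N16136 := trfs L455703 (flp_e L137702) rfl
theorem L455718 : N16136 = N16105 := eqes L455717 (flp_e L137455)
theorem L455719 : N16136 = N16105 := eqc rfl L455718 rfl
theorem L455720 : sm gf N11073 = N7714 := trfs L455703 L94968 rfl
theorem L455721 : N7714 = N7693 := eqes L455720 L94790
theorem L455722 : N7714 = N7693 := eqc rfl L455721 rfl
theorem L455723 : sm gg N11073 = N7641 := trfs L455703 (flp_g L94962) rfl
theorem L455724 : N7641 = N7626 := eqes L455723 L94792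
theorem L455725 : N7641 = N7626 := eqc rfl L455724 rfl
theorem L455726 : sm gj N11073 = N16138 := trfs L455703 L137713 rfl
theorem L455727 : N16138 = N16108 := eqes L455726 (flp_j L137477)
theorem L455728 : N16138 = N16108 := eqc rfl L455727 rfl
theorem L455729 : sm gi N11073 = N16081 := trfs L455703 (flp_i L137236) rfl
theorem L455730 : N16081 = N16110 := eqes L455729 L137486
theorem L455731 : N16110 = N16081 := (eqc rfl L455730 rfl).symm
theorem L455732 : sm ga N16081 = N23436 := trfs L455731 (flp_a L199437) rfl
theorem L455733 : N23436 = N22868 := eqes L455732 (flp_a L194482)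
theorem L455734 : N23436 = N22868 := eqc rfl L455733 rfl
theorem L455738 : sm gc N16081 = N11084 := trfs L455731 L137488 rfl
theorem L455739 : N11084 = N12445 := eqes L455738 L137234
theorem L455740 : N11084 = N10841 := eqc rfl L455739 L444258
theorem L455741 : sm gd N16081 = N23466 := trfs L455731 (flp_d L199683) rfl
theorem L455742 : N23466 = N21258 := eqes L455741 (flp_d L180757)
theorem L455743 : N23466 = N21258 := eqc rfl L455742 rfl
theorem L455744 : sm ge N16081 = N23459 := trfs L455731 (flp_e L199638) rfl
theorem L455745 : N23459 = N23418 := eqes L455744 (flp_e L199283)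
theorem L455746 : N23459 = N23418 := eqc rfl L455745 rfl
theorem L455747 : sm gf N16081 = N11178 := trfs L455731 L137490 rfl
theorem L455748 : N11178 = N11149 := eqes L455747 L137238
theorem L455749 : N11178 = N11149 := eqc rfl L455748 rfl
theorem L455756 : sm gh N16081 = N11123 := trfs L455731 L137494 rfl
theorem L455757 : N11123 = N23421 := eqes L455756 L199306
theorem L455758 : N11123 = N10834 := eqc rfl L455757 L444389
theorem L455764 : sm gb N10834 = N15775 := trfs L455758 (flp_b L134535) rfl
theorem L455765 : N15775 = N15746 := eqes L455764 (flp_b L134289)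
theorem L455766 : N15775 = N15746 := eqc rfl L455765 rfl
theorem L455767 : sm gc N10834 = N7668 := trfs L455758 L95199 rfl
theorem L455768 : N7668 = N7467 := eqes L455767 L92675
theorem L455769 : N7668 = N7467 := eqc rfl L455768 rfl
theorem L455774 : sm gf N10834 = N7742 := trfs L455758 L95201 rfl
theorem L455775 : N7742 = N7543 := eqes L455774 L92677
theorem L455776 : N7742 = N7543 := eqc rfl L455775 rfl
theorem L455777 : sm gg N10834 = N7659 := trfs L455758 L95203 rfl
theorem L455778 : N7659 = N7464 := eqes L455777 (flp_g L92671)
theorem L455779 : N7659 = N7464 := eqc rfl L455778 rfl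
theorem L455786 : sm gb N7464 = N10849 := trfs L455779 (flp_b L92799) rfl
theorem L455787 : N10849 = N10831 := eqes L455786 (flp_b L92649)
theorem L455788 : N10849 = N10831 := eqc rfl L455787 rfl
theorem L455789 : sm gc N7464 = N5287 := trfs L455779 L65787 rfl
theorem L455790 : N5287 = N5153 := eqes L455789 L64083
theorem L455791 : N5287 = N5153 := eqc rfl L455790 rfl
theorem L455795 : sm ge N7464 = N11120 := trfs L455779 (flp_e L95178) rfl
theorem L455796 : N11120 = N10833 := eqes L455795 L92664
theorem L455797 : N11120 = N10833 := eqc rfl L455796 rfl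
theorem L455798 : sm gf N7464 = N5282 := trfs L455779 L65789 rfl
theorem L455799 : N5282 = N5152 := eqes L455798 (flp_f L64079)
theorem L455800 : N5282 = N5152 := eqc rfl L455799 rfl
theorem L455801 : sm gj N7464 = N11039 := trfs L455779 (flp_j L94484) rfl
theorem L455802 : N11039 = N10755 := eqes L455801 (flp_j L91960)
theorem L455803 : N11039 = N10755 := eqc rfl L455802 rfl
theorem L455805 : sm gi N7464 = N5280 := trfs L455779 (flp_i L65785) rfl
theorem L455806 : N5280 = N10807 := eqes L455805 (flp_i L92430)
theorem L455807 : N10807 = N5280 := (eqc rfl L455806 rfl).symm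
theorem L455808 : sm ga N5280 = N7451 := trfs L455807 L92426 rfl
theorem L455809 : N7451 = N7645 := eqes L455808 (flp_a L65675)
theorem L455810 : N7645 = N7451 := (eqc rfl L455809 rfl).symm
theorem L455811 : sm gb N5280 = N15709 := trfs L455807 (flp_b L133953) rfl
theorem L455812 : N15709 = N7473 := eqes L455811 (flp_b L64156)
theorem L455813 : N15709 = N7473 := eqc rfl L455812 rfl
theorem L455814 : sm gc N5280 = N7448 := trfs L455807 L92428 rfl
theorem L455815 : N7448 = N3650 := eqes L455814 L45535
theorem L455816 : N7448 = N3650 := eqc rfl L455815 rfl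
theorem L455818 : sm ge N5280 = N15711 := trfs L455807 L133970 rfl
theorem L455819 : N15711 = N7655 := eqes L455818 (flp_e L65762)
theorem L455820 : N15711 = N7655 := eqc rfl L455819 rfl
theorem L455821 : sm gf N5280 = N7447 := trfs L455807 (flp_f L92424) rfl
theorem L455822 : N7447 = N3647 := eqes L455821 L45537
theorem L455823 : N7447 = N3647 := eqc rfl L455822 rfl
theorem L455825 : sm gj N5280 = N15608 := trfs L455807 (flp_j L133019) rfl
theorem L455826 : N15608 = N7601 := eqes L455825 (flp_j L65296)
theorem L455827 : N15608 = N7601 := eqc rfl L455826 rfl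
theorem L455829 : sm gi N5280 = N7464 := trfs L455807 L92430 rfl
theorem L455831 : sm ga N7601 = N10742 := trfs L455827 L133015 rfl
theorem L455832 : N10742 = N11025 := eqes L455831 (flp_a L94354)
theorem L455833 : N11025 = N10742 := (eqc rfl L455832 rfl).symm
theorem L455834 : sm gb N7601 = N22715 := trfs L455827 (flp_b L193072) rfl
theorem L455835 : N22715 = N10764 := eqes L455834 (flp_b L92040)
theorem L455836 : N22715 = N10764 := eqc rfl L455835 rfl
theorem L455837 : sm gc N7601 = N10739 := trfs L455827 L133017 rfl
theorem L455838 : N10739 = N5246 := eqes L455837 L65292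
theorem L455839 : N10739 = N5246 := eqc rfl L455838 rfl
theorem L455841 : sm ge N7601 = N22717 := trfs L455827 L193092 rfl
theorem L455842 : N22717 = N11035 := eqes L455841 (flp_e L94451)
theorem L455843 : N22717 = N11035 := eqc rfl L455842 rfl
theorem L455844 : sm gf N7601 = N10738 := trfs L455827 (flp_f L133013) rfl
theorem L455845 : N10738 = N5243 := eqes L455844 L65294
theorem L455846 : N10738 = N5243 := eqc rfl L455845 rfl
theorem L455848 : sm gh N7601 = N22719 := trfs L455827 L193112 rfl
theorem L455849 : N22719 = N5242 := eqes L455848 (flp_h L65290)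
theorem L455850 : N22719 = N5242 := eqc rfl L455849 rfl
theorem L455853 : sm ga N5242 = N15617 := trfs L455850 L193114 rfl
theorem L455854 : N15617 = N7592 := eqes L455853 (flp_a L65207)
theorem L455855 : N15617 = N7592 := eqc rfl L455854 rfl
theorem L455875 : sm gi N5242 = N16027 := trfs L455850 L280737 L444122
theorem L455876 : N16027 = N7579 := eqes L455875 (flp_i L65089)
theorem L455877 : N16027 = N7579 := eqc rfl L455876 rfl
theorem L455878 : sm ga N7579 = N22753 := trfs L455877 (flp_a L193449) rfl
theorem L455879 : N22753 = N10997 := eqes L455878 (flp_a L94084)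
theorem L455880 : N22753 = N10997 := eqc rfl L455879 rfl
theorem L455898 : sm gh N7579 = N11021 := trfs L455877 (flp_h L136745) rfl
theorem L455899 : N11021 = N11006 := eqes L455898 L94178
theorem L455900 : N11021 = N11006 := eqc rfl L455899 rfl
theorem L455903 : sm ga N11006 = N15632 := trfs L455900 (flp_a L133258) rfl
theorem L455904 : N15632 = N15993 := eqes L455903 (flp_a L136425)
theorem L455905 : N15993 = N15632 := (eqc rfl L455904 rfl).symm
theorem L455908 : sm gc N11006 = N8533 := trfs L455900 L94322 rfl
theorem L455909 : N8533 = N7583 := eqes L455908 L94180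
theorem L455910 : N8533 = N7583 := eqc rfl L455909 rfl
theorem L455911 : sm gd N11006 = N14572 := trfs L455900 (flp_d L124217) rfl
theorem L455912 : N14572 = N16006 := eqes L455911 L136552
theorem L455913 : N16006 = N14572 := (eqc rfl L455912 rfl).symm
theorem L455914 : sm ge N11006 = N16025 := trfs L455900 L136729 rfl
theorem L455915 : N16025 = N16003 := eqes L455914 (flp_e L136531)
theorem L455916 : N16025 = N16003 := eqc rfl L455915 rfl
theorem L455917 : sm gf N11006 = N7591 := trfs L455900 (flp_f L94318) rfl
theorem L455918 : N7591 = N7580 := eqes L455917 L94182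
theorem L455919 : N7591 = N7580 := eqc rfl L455918 rfl
theorem L455920 : sm gg N11006 = N16026 := trfs L455900 L136738 rfl
theorem L455921 : N16026 = N16005 := eqes L455920 (flp_g L136550)
theorem L455922 : N16026 = N16005 := eqc rfl L455921 rfl
theorem L455924 : sm gi N11006 = N15636 := trfs L455900 (flp_i L136391) L444224
theorem L455925 : N15636 = N16007 := eqes L455924 L136559
theorem L455926 : N16007 = N15636 := (eqc rfl L455925 rfl).symm
theorem L455933 : sm gc N15636 = N11013 := trfs L455926 L136561 rfl
theorem L455934 : N11013 = N10759 := eqes L455933 L133298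
theorem L455935 : N11013 = N10759 := eqc rfl L455934 rfl
theorem L455942 : sm gf N15636 = N11008 := trfs L455926 L136563 rfl
theorem L455943 : N11008 = N10756 := eqes L455942 L133300
theorem L455944 : N11008 = N10756 := eqc rfl L455943 rfl
theorem L455945 : sm gg N15636 = N23311 := trfs L455926 (flp_g L198328) rfl
theorem L455946 : N23311 = N22760 := eqes L455945 (flp_g L193522)
theorem L455947 : N23311 = N22760 := eqc rfl L455946 rfl
theorem L455950 : sm gi N15636 = N11006 := trfs L455926 (flp_i L136559) rfl
theorem L455951 : N11006 = N22762 := eqes L455950 L193533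
theorem L455952 : N22762 = N11006 := (eqc rfl L455951 rfl).symm
theorem L455953 : sm ga N11006 = N15650 := trfs L455952 L193535 rfl
theorem L455954 : N15650 = N15993 := eqes L455953 (flp_a L136425)
theorem L455955 : N15650 = N15632 := eqc rfl L455954 L455905
theorem L455959 : N15643 = N7583 := L444135.trans L455910
theorem L455967 : sm gf N11006 = N15638 := trfs L455952 L193539 rfl
theorem L455968 : N15638 = N7580 := eqes L455967 L94182
theorem L455969 : N15638 = N7580 := eqc rfl L455968 rfl
theorem L455972 : N15756 = N7626 := L444271.trans L455725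
theorem L455976 : sm gi N11006 = N15636 := trfs L455952 (flp_i L193533) rfl
theorem L455978 : sm ga N7580 = N10766 := trfs L455969 L133314 rfl
theorem L455979 : N10766 = N10998 := eqes L455978 (flp_a L94094)
theorem L455980 : N10998 = N10766 := (eqc rfl L455979 rfl).symm
theorem L455984 : sm gc N7580 = N10760 := trfs L455969 L133316 rfl
theorem L455985 : N10760 = N5231 := eqes L455984 L65093
theorem L455986 : N10760 = N5231 := eqc rfl L455985 rfl
theorem L455992 : sm gj N7580 = N10837 := trfs L455969 L133320 rfl
theorem L455993 : N10837 = N5259 := eqes L455992 L65097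
theorem L455994 : N10837 = N5259 := eqc rfl L455993 rfl
theorem L455999 : sm ga N5259 = N7475 := trfs L455994 L92696 rfl
theorem L456000 : N7475 = N7618 := eqes L455999 (flp_a L65439)
theorem L456001 : N7618 = N7475 := (eqc rfl L456000 rfl).symm
theorem L456005 : sm gc N5259 = N4099 := trfs L455994 L92698 L444278
theorem L456006 : N4099 = N3635 := eqes L456005 L45356
theorem L456007 : N4099 = N3635 := eqc rfl L456006 rfl
theorem L456013 : sm gg N5259 = N7546 := trfs L455994 L92701 rfl
theorem L456014 : N7546 = N3663 := eqes L456013 L45359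
theorem L456015 : N7546 = N3663 := eqc rfl L456014 rfl
theorem L456019 : sm gi N5259 = N7465 := trfs L455994 (flp_i L92694) rfl
theorem L456020 : N7465 = N7628 := eqes L456019 L65527
theorem L456021 : N7628 = N7465 := (eqc rfl L456020 rfl).symm
theorem L456025 : sm gb N7465 = N10818 := trfs L456021 (flp_b L92526) rfl
theorem L456026 : N10818 = N10832 := eqes L456025 (flp_b L92657)
theorem L456027 : N10832 = N10818 := (eqc rfl L456026 rfl).symm
theorem L456028 : sm gc N7465 = N5263 := trfs L456021 L65529 rfl
theorem L456029 : N5263 = N5154 := eqes L456028 L64089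
theorem L456030 : N5263 = N5154 := eqc rfl L456029 rfl
theorem L456031 : sm gd N7465 = N11077 := trfs L456021 (flp_d L94816) rfl
theorem L456032 : N11077 = N10836 := eqes L456031 L92687
theorem L456033 : N11077 = N10836 := eqc rfl L456032 rfl
theorem L456036 : sm gg N7465 = N5307 := trfs L456021 L65532 rfl
theorem L456037 : N5307 = N5204 := eqes L456036 L64092
theorem L456038 : N5307 = N5204 := eqc rfl L456037 rfl
theorem L456041 : sm gi N7465 = N5259 := trfs L456021 (flp_i L65527) rfl
theorem L456046 : sm gb N5204 = N7527 := trfs L456038 (flp_b L64624) rfl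
theorem L456047 : N7527 = N7541 := eqes L456046 (flp_b L64756)
theorem L456048 : N7541 = N7527 := (eqc rfl L456047 rfl).symm
theorem L456049 : sm gc N5204 = N3667 := trfs L456038 L45757 rfl
theorem L456050 : N3667 = N3599 := eqes L456049 L44863
theorem L456051 : N3667 = N3599 := eqc rfl L456050 rfl
theorem L456056 : sm gf N5204 = N7695 := trfs L456038 (flp_f L66095) rfl
theorem L456057 : N7695 = N7544 := eqes L456056 (flp_f L64782)
theorem L456058 : N7695 = N7544 := eqc rfl L456057 rfl
theorem L456060 : sm gh N5204 = N3686 := trfs L456038 L45761 rfl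
theorem L456061 : N3686 = N3597 := eqes L456060 (flp_h L44859)
theorem L456062 : N3686 = N3597 := eqc rfl L456061 rfl
theorem L456068 : sm gb N3597 = N5214 := trfs L456062 (flp_b L44943) rfl
theorem L456069 : N5214 = N5202 := eqes L456068 L44844
theorem L456070 : N5214 = N5202 := eqc rfl L456069 rfl
theorem L456071 : sm gc N3597 = N2552 := trfs L456062 L31931 rfl
theorem L456072 : N2552 = N2491 := eqes L456071 (flp_c L31164)
theorem L456073 : N2552 = N2491 := eqc rfl L456072 rfl
theorem L456074 : sm gd N3597 = N5340 := trfs L456062 (flp_d L46030) rfl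
theorem L456075 : N5340 = N4755 := eqes L456074 (flp_d L40983)
theorem L456076 : N5340 = N4755 := eqc rfl L456075 rfl
theorem L456078 : sm gf N3597 = N5338 := trfs L456062 (flp_f L46017) rfl
theorem L456079 : N5338 = N5203 := eqes L456078 L44852
theorem L456080 : N5338 = N5203 := eqc rfl L456079 rfl
theorem L456083 : sm gi N3597 = N2548 := trfs L456062 (flp_i L31929) rfl
theorem L456084 : N2548 = N5186 := eqes L456083 (flp_i L44706)
theorem L456085 : N5186 = N2548 := (eqc rfl L456084 rfl).symm
theorem L456086 : sm ga N2548 = N3588 := trfs L456085 L44702 rfl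
theorem L456087 : N3588 = N3676 := eqes L456086 (flp_a L31851)
theorem L456088 : N3676 = N3588 := (eqc rfl L456087 rfl).symm
theorem L456092 : sm gc N2548 = N3586 := trfs L456085 (flp_c L44700) rfl
theorem L456093 : N3586 = N1768 := eqes L456092 L22195
theorem L456094 : N3586 = N1768 := eqc rfl L456093 rfl
theorem L456099 : sm gf N2548 = N7516 := trfs L456085 L64523 rfl
theorem L456100 : N7516 = N3684 := eqes L456099 (flp_f L31921)
theorem L456101 : N7516 = N3684 := eqc rfl L456100 rfl
theorem L456104 : sm gh N2548 = N7517 := trfs L456085 L64532 rfl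
theorem L456105 : N7517 = N1766 := eqes L456104 (flp_h L22193)
theorem L456106 : N7517 = N1766 := eqc rfl L456105 rfl
theorem L456107 : sm gi N2548 = N3597 := trfs L456085 L44706 rfl
theorem L456109 : sm ga N1766 = N5191 := trfs L456106 L64534 rfl
theorem L456110 : N5191 = N2543 := eqes L456109 (flp_a L22155)
theorem L456111 : N5191 = N2543 := eqc rfl L456110 rfl
theorem L456129 : sm gi N1766 = N10914 := trfs L456106 L93355 rfl
theorem L456130 : N10914 = N2534 := eqes L456129 (flp_i L22079)
theorem L456131 : N10914 = N2534 := eqc rfl L456130 rfl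
theorem L456132 : sm ga N2534 = N7527 := trfs L456131 L93357 rfl
theorem L456133 : N7527 = N3658 := eqes L456132 (flp_a L31697)
theorem L456134 : N7527 = N3658 := eqc rfl L456133 rfl
theorem L456145 : sm gf N2534 = N7715 := trfs L456131 (flp_f L135379) L443522
theorem L456146 : N7715 = N3662 := eqes L456145 L31734
theorem L456147 : N7715 = N3662 := eqc rfl L456146 rfl
theorem L456152 : sm ga N3662 = N10946 := trfs L456147 (flp_a L93649) rfl
theorem L456153 : N10946 = N5296 := eqes L456152 (flp_a L45660)
theorem L456154 : N10946 = N5296 := eqc rfl L456153 rfl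
theorem L456155 : sm gb N3662 = N5324 := trfs L456147 L66265 rfl
theorem L456156 : N5324 = N5190 := eqes L456155 (flp_b L44738)
theorem L456157 : N5324 = N5190 := eqc rfl L456156 rfl
theorem L456172 : sm gh N3662 = N5320 := trfs L456147 (flp_h L66263) rfl
theorem L456173 : N5320 = N5305 := eqes L456172 L45744
theorem L456174 : N5320 = N5305 := eqc rfl L456173 rfl
theorem L456175 : sm gi N3662 = N11208 := trfs L456147 L95914 rfl
theorem L456176 : N11208 = N2547 := eqes L456175 L31739
theorem L456177 : N11208 = N2547 := eqc rfl L456176 rfl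
theorem L456199 : sm gh N2547 = N16221 := trfs L456177 (flp_h L138398) rfl
theorem L456200 : N16221 = N3684 := eqes L456199 L31917
theorem L456201 : N16221 = N3684 := eqc rfl L456200 rfl
theorem L456224 : sm gi N3684 = N11150 := trfs L456201 (flp_i L138389) rfl
theorem L456225 : N11150 = N5338 := eqes L456224 L46013
theorem L456226 : N11150 = N5203 := eqc rfl L456225 L456080
theorem L456230 : sm gb N5203 = N7681 := trfs L456226 L95420 rfl
theorem L456231 : N7681 = N7540 := eqes L456230 (flp_b L64747)
theorem L456232 : N7681 = N7540 := eqc rfl L456231 rfl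
theorem L456249 : sm gh N5203 = N7677 := trfs L456226 (flp_h L95418) rfl
theorem L456250 : N7677 = N7544 := eqes L456249 L64776
theorem L456251 : N7677 = N7544 := eqc rfl L456250 rfl
theorem L456252 : sm ga N7544 = N10908 := trfs L456251 (flp_a L93304) rfl
theorem L456253 : N10908 = N5212 := eqes L456252 L64778
theorem L456254 : N10908 = N5212 := eqc rfl L456253 rfl
theorem L456260 : sm gd N7544 = N10116 := trfs L456251 (flp_d L86462) rfl
theorem L456261 : N10116 = N10954 := eqes L456260 L93715
theorem L456262 : N10954 = N10116 := (eqc rfl L456261 rfl).symm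
theorem L456263 : sm ge N7544 = N11148 := trfs L456251 L95400 rfl
theorem L456264 : N11148 = N10951 := eqes L456263 (flp_e L93696)
theorem L456265 : N11148 = N10951 := eqc rfl L456264 rfl
theorem L456266 : sm gf N7544 = N5295 := trfs L456251 (flp_f L65934) rfl
theorem L456267 : N5295 = N5204 := eqes L456266 L64782
theorem L456268 : N5295 = N5204 := eqc rfl L456267 rfl
theorem L456269 : sm gg N7544 = N11149 := trfs L456251 L95410 rfl
theorem L456270 : N11149 = N10953 := eqes L456269 (flp_g L93713)
theorem L456271 : N11149 = N10953 := eqc rfl L456270 rfl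
theorem L456273 : sm gi N7544 = N5305 := trfs L456251 L65941 L456174
theorem L456274 : N5305 = N10955 := eqes L456273 L93723
theorem L456275 : N10955 = N5305 := (eqc rfl L456274 rfl).symm
theorem L456276 : sm ga N5305 = N7558 := trfs L456275 L93725 rfl
theorem L456277 : N7558 = N7681 := eqes L456276 (flp_a L65971)
theorem L456278 : N7558 = N7540 := eqc rfl L456277 L456232
theorem L456282 : sm gc N5305 = N7551 := trfs L456275 L93727 rfl
theorem L456283 : N7551 = N3666 := eqes L456282 L45746
theorem L456284 : N7551 = N3666 := eqc rfl L456283 rfl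
theorem L456285 : sm gd N5305 = N15937 := trfs L456275 (flp_d L135946) rfl
theorem L456286 : N15937 = N7694 := eqes L456285 L66085
theorem L456287 : N15937 = N7694 := eqc rfl L456286 rfl
theorem L456288 : sm ge N5305 = N15932 := trfs L456275 (flp_e L135907) rfl
theorem L456289 : N15932 = N7691 := eqes L456288 (flp_e L66068)
theorem L456290 : N15932 = N7691 := eqc rfl L456289 rfl
theorem L456292 : sm gg N5305 = N15935 := trfs L456275 (flp_g L135933) rfl
theorem L456293 : N15935 = N7693 := eqes L456292 (flp_g L66083)
theorem L456294 : N15935 = N7693 := eqc rfl L456293 rfl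
theorem L456300 : sm ga N7693 = N10974 := trfs L456294 L135929 rfl
theorem L456301 : N10974 = N11157 := eqes L456300 (flp_a L95483)
theorem L456302 : N11157 = N10974 := (eqc rfl L456301 rfl).symm
theorem L456306 : sm gc N7693 = N6007 := trfs L456294 L135931 L444301
theorem L456307 : N6007 = N5311 := eqes L456306 L66081
theorem L456308 : N6007 = N5311 := eqc rfl L456307 rfl
theorem L456312 : sm ge N7693 = N23203 := trfs L456294 (flp_e L197382) rfl
theorem L456313 : N23203 = N11173 := eqes L456312 (flp_e L95635)
theorem L456314 : N23203 = N11173 := eqc rfl L456313 rfl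
theorem L456315 : N22941 = N11073 := L444294.trans L455703
theorem L456317 : sm gj N7693 = N23208 := trfs L456294 (flp_j L197424) rfl
theorem L456318 : N23208 = N11176 := eqes L456317 (flp_j L95658)
theorem L456319 : N23208 = N11176 := eqc rfl L456318 rfl
theorem L456324 : N11178 = N10953 := L455749.trans L456271
theorem L456325 : sm ga N11176 = N15963 := trfs L456319 L197419 rfl
theorem L456326 : N15963 = N16232 := eqes L456325 (flp_a L138487)
theorem L456327 : N16232 = N15963 := (eqc rfl L456326 rfl).symm
theorem L456328 : sm gb N11176 = N33801 := trfs L456319 (flp_b L286754) rfl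
theorem L456329 : N33801 = N15889 := eqes L456328 (flp_b L135535)
theorem L456330 : N33801 = N15889 := eqc rfl L456329 rfl
theorem L456331 : sm gc N11176 = N15948 := trfs L456319 L197421 rfl
theorem L456332 : N15948 = N7703 := eqes L456331 L95655
theorem L456333 : N15948 = N7703 := eqc rfl L456332 rfl
theorem L456334 : sm gd N11176 = N33842 := trfs L456319 (flp_d L287103) rfl
theorem L456335 : N33842 = N16261 := eqes L456334 L138732
theorem L456336 : N33842 = N16261 := eqc rfl L456335 rfl
theorem L456347 : sm gi N11176 = N15933 := trfs L456319 (flp_i L197417) rfl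
theorem L456348 : N15933 = N16262 := eqes L456347 L138738
theorem L456349 : N16262 = N15933 := (eqc rfl L456348 rfl).symm
theorem L456353 : sm gb N15933 = N23141 := trfs L456349 (flp_b L196845) rfl
theorem L456354 : N23141 = N23183 := eqes L456353 (flp_b L197208)
theorem L456355 : N23183 = N23141 := (eqc rfl L456354 rfl).symm
theorem L456368 : sm gh N15933 = N11245 := trfs L456349 L138745 rfl
theorem L456369 : N11245 = N10952 := eqes L456368 (flp_h L135911)
theorem L456370 : N11245 = N10952 := eqc rfl L456369 rfl
theorem L456371 : sm gi N15933 = N11176 := trfs L456349 (flp_i L138738) rfl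
theorem L456376 : sm gb N10952 = N15963 := trfs L456370 (flp_b L136165) rfl
theorem L456377 : N15963 = N15919 := eqes L456376 (flp_b L135795)
theorem L456378 : N15963 = N15919 := eqc rfl L456377 rfl
theorem L456379 : sm gc N10952 = N7752 := trfs L456370 L96214 rfl
theorem L456380 : N7752 = N7549 := eqes L456379 L93704
theorem L456381 : N7752 = N7549 := eqc rfl L456380 rfl
theorem L456382 : sm gd N10952 = N16358 := trfs L456370 (flp_d L139517) rfl
theorem L456383 : N16358 = N14500 := eqes L456382 (flp_d L123607)
theorem L456384 : N16358 = N14500 := eqc rfl L456383 rfl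
theorem L456385 : sm ge N10952 = N16351 := trfs L456370 (flp_e L139467) rfl
theorem L456386 : N16351 = N15929 := eqes L456385 (flp_e L135882)
theorem L456387 : N16351 = N15929 := eqc rfl L456386 rfl
theorem L456399 : sm gc N15929 = N11257 := trfs L456387 L139465 rfl
theorem L456400 : N11257 = N10959 := eqes L456399 L135880
theorem L456401 : N11257 = N10959 := eqc rfl L456400 rfl
theorem L456409 : sm gj N15929 = N11241 := trfs L456387 L139470 rfl
theorem L456410 : N11241 = N10950 := eqes L456409 (flp_j L135876)
theorem L456411 : N11241 = N10950 := eqc rfl L456410 rfl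
theorem L456413 : sm gi N15929 = N11239 := trfs L456387 (flp_i L139463) rfl
theorem L456414 : N11239 = N23107 := eqes L456413 (flp_i L196552)
theorem L456415 : N23107 = N11239 := (eqc rfl L456414 rfl).symm
theorem L456416 : sm ga N11239 = N15885 := trfs L456415 L196546 rfl
theorem L456417 : N15885 = N16319 := eqes L456416 (flp_a L139202)
theorem L456418 : N16319 = N15885 := (eqc rfl L456417 rfl).symm
theorem L456422 : sm gc N11239 = N15876 := trfs L456415 L196548 rfl
theorem L456423 : N15876 = N7750 := eqes L456422 L96172
theorem L456424 : N15876 = N7750 := eqc rfl L456423 rfl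
theorem L456433 : sm gj N11239 = N15867 := trfs L456415 (flp_j L196544) rfl
theorem L456434 : N15867 = N7737 := eqes L456433 L96177
theorem L456435 : N15867 = N7737 := eqc rfl L456434 rfl
theorem L456436 : sm gh N11239 = N33690 := trfs L456415 L285803 rfl
theorem L456437 : N33690 = N7736 := eqes L456436 (flp_h L96170)
theorem L456438 : N33690 = N7736 := eqc rfl L456437 rfl
theorem L456441 : sm ga N7736 = N23134 := trfs L456438 L285805 rfl
theorem L456442 : N23134 = N11215 := eqes L456441 (flp_a L95968)
theorem L456443 : N23134 = N11215 := eqc rfl L456442 rfl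
theorem L456449 : sm gj N7736 = N23108 := trfs L456438 L285812 rfl
theorem L456450 : N23108 = N5333 := eqes L456449 (flp_j L66441)
theorem L456451 : N23108 = N5333 := eqc rfl L456450 rfl
theorem L456452 : sm ga N5333 = N15886 := trfs L456451 L196557 rfl
theorem L456453 : N15886 = N7719 := eqes L456452 (flp_a L66295)
theorem L456454 : N15886 = N7719 := eqc rfl L456453 rfl
theorem L456472 : sm gi N5333 = N33692 := trfs L456451 L285820 rfl
theorem L456473 : N33692 = N7690 := eqes L456472 (flp_i L66062)
theorem L456474 : N33692 = N7690 := eqc rfl L456473 rfl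
theorem L456475 : sm ga N7690 = N23136 := trfs L456474 L285822 rfl
theorem L456476 : N23136 = N11154 := eqes L456475 (flp_a L95454)
theorem L456477 : N23136 = N11154 := eqc rfl L456476 rfl
theorem L456482 : sm gg N7690 = N23110 := trfs L456474 L285828 rfl
theorem L456483 : N23110 = N5303 := eqes L456482 (flp_g L66056)
theorem L456484 : N23110 = N5303 := eqc rfl L456483 rfl
theorem L456489 : sm gb N5303 = N33671 := trfs L456484 (flp_b L285629) rfl
theorem L456490 : N33671 = N7523 := eqes L456489 (flp_b L64592)
theorem L456491 : N33671 = N7523 := eqc rfl L456490 rfl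
theorem L456495 : sm gd N5303 = N29675 := trfs L456484 L419661 rfl
theorem L456496 : N29675 = N7689 := eqes L456495 L66048
theorem L456497 : N29675 = N7689 := eqc rfl L456496 rfl
theorem L456503 : sm ga N7689 = N20409 := trfs L456497 L251600 rfl
theorem L456504 : N20409 = N11153 := eqes L456503 (flp_a L95444)
theorem L456505 : N20409 = N11153 := eqc rfl L456504 rfl
theorem L456512 : sm ge N7689 = N20453 := trfs L456497 L251602 rfl
theorem L456513 : N20453 = N10128 := eqes L456512 (flp_e L86573)
theorem L456514 : N20453 = N10128 := eqc rfl L456513 rfl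
theorem L456523 : sm gi N7689 = N23109 := trfs L456497 L419657 rfl
theorem L456524 : N23109 = N5332 := eqes L456523 L66052
theorem L456525 : N23109 = N5332 := eqc rfl L456524 rfl
theorem L456526 : sm ga N5332 = N15887 := trfs L456525 L196567 rfl
theorem L456527 : N15887 = N7718 := eqes L456526 (flp_a L66287)
theorem L456528 : N15887 = N7718 := eqc rfl L456527 rfl
theorem L456542 : sm gh N5332 = N33686 := trfs L456525 (flp_h L285773) rfl
theorem L456543 : N33686 = N7734 := eqes L456542 L66430
theorem L456544 : N33686 = N7734 := eqc rfl L456543 rfl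
theorem L456545 : sm ga N7734 = N23130 := trfs L456544 L285769 rfl
theorem L456546 : N23130 = N11213 := eqes L456545 (flp_a L95953)
theorem L456547 : N23130 = N11213 := eqc rfl L456546 rfl
theorem L456548 : sm gd N7734 = N23105 := trfs L456544 (flp_d L285767) rfl
theorem L456549 : N23105 = N11235 := eqes L456548 L96144
theorem L456550 : N23105 = N11235 := eqc rfl L456549 rfl
theorem L456553 : sm ga N11235 = N15883 := trfs L456550 L196530 rfl
theorem L456554 : N15883 = N16315 := eqes L456553 (flp_a L139168)
theorem L456555 : N16315 = N15883 := (eqc rfl L456554 rfl).symm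
theorem L456560 : sm ge N11235 = N30639 := trfs L456550 (flp_e L259889) rfl
theorem L456561 : N30639 = N16344 := eqes L456560 L139417
theorem L456562 : N30639 = N16344 := eqc rfl L456561 rfl
theorem L456564 : sm gg N11235 = N33685 := trfs L456550 (flp_g L285765) rfl
theorem L456565 : N33685 = N16342 := eqes L456564 (flp_g L139406)
theorem L456566 : N33685 = N16342 := eqc rfl L456565 rfl
theorem L456568 : sm gh N11235 = N15866 := trfs L456550 (flp_h L196528) rfl
theorem L456569 : N15866 = N7738 := eqes L456568 L96149
theorem L456570 : N15866 = N7738 := eqc rfl L456569 rfl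
theorem L456571 : sm gi N11235 = N33687 := trfs L456550 L285775 rfl
theorem L456572 : N33687 = N16345 := eqes L456571 L139423
theorem L456573 : N33687 = N16345 := eqc rfl L456572 rfl
theorem L456574 : sm ga N16345 = N23131 := trfs L456573 L285777 rfl
theorem L456575 : N23131 = N23769 := eqes L456574 (flp_a L202126)
theorem L456576 : N23769 = N23131 := (eqc rfl L456575 rfl).symm
theorem L456578 : sm ge N16345 = N44686 := trfs L456573 (flp_e L378099) rfl
theorem L456579 : N44686 = N23806 := eqes L456578 (flp_e L202440)
theorem L456580 : N44686 = N23806 := eqc rfl L456579 rfl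
theorem L456583 : sm gh N16345 = N23198 := trfs L456573 L285782 rfl
theorem L456584 : N23198 = N23807 := eqes L456583 L202443
theorem L456585 : N23807 = N23198 := (eqc rfl L456584 rfl).symm
theorem L456589 : sm gb N23198 = N33881 := trfs L456585 (flp_b L287435) rfl
theorem L456590 : N33881 = N33791 := eqes L456589 (flp_b L286656)
theorem L456591 : N33881 = N33791 := eqc rfl L456590 rfl
theorem L456593 : sm gd N23198 = N34524 := trfs L456585 (flp_d L292799) rfl
theorem L456594 : N34524 = N33825 := eqes L456593 (flp_d L286962)
theorem L456595 : N34524 = N33825 := eqc rfl L456594 rfl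
theorem L456600 : sm gg N23198 = N34700 := trfs L456585 (flp_g L294207) rfl
theorem L456601 : N34700 = N33822 := eqes L456600 (flp_g L286940)
theorem L456602 : N34700 = N33822 := eqc rfl L456601 rfl
theorem L456604 : sm gh N23198 = N16345 := trfs L456585 (flp_h L202443) rfl
theorem L456606 : sm gi N23198 = N16356 := trfs L456585 L202448 rfl
theorem L456607 : N16356 = N15927 := eqes L456606 (flp_i L197335)
theorem L456608 : N16356 = N15927 := eqc rfl L456607 rfl
theorem L456612 : sm gb N15927 = N23250 := trfs L456608 (flp_b L197775) rfl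
theorem L456613 : N23250 = N23177 := eqes L456612 (flp_b L197148)
theorem L456614 : N23250 = N23177 := eqc rfl L456613 rfl
theorem L456616 : sm gd N15927 = N23691 := trfs L456608 (flp_d L201505) rfl
theorem L456617 : N23691 = N23197 := eqes L456616 L197327
theorem L456618 : N23691 = N23197 := eqc rfl L456617 rfl
theorem L456623 : sm gg N15927 = N23817 := trfs L456608 (flp_g L202518) rfl
theorem L456624 : N23817 = N23196 := eqes L456623 (flp_g L197325)
theorem L456625 : N23817 = N23196 := eqc rfl L456624 rfl
theorem L456627 : sm gh N15927 = N11243 := trfs L456608 (flp_h L139501) rfl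
theorem L456628 : N11243 = N10949 := eqes L456627 (flp_h L135862)
theorem L456629 : N11243 = N10949 := eqc rfl L456628 rfl
theorem L456633 : sm gb N10949 = N15961 := trfs L456629 (flp_b L136149) rfl
theorem L456634 : N15961 = N15916 := eqes L456633 (flp_b L135765)
theorem L456635 : N15961 = N15916 := eqc rfl L456634 rfl
theorem L456637 : sm gd N10949 = N7739 := trfs L456629 L96201 rfl
theorem L456638 : N7739 = N7542 := eqes L456637 (flp_d L93675)
theorem L456639 : N7739 = N7542 := eqc rfl L456638 rfl
theorem L456640 : sm ge N10949 = N16355 := trfs L456629 (flp_e L139498) rfl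
theorem L456641 : N16355 = N14497 := eqes L456640 (flp_e L123582)
theorem L456642 : N16355 = N14497 := eqc rfl L456641 rfl
theorem L456644 : sm gg N10949 = N16353 := trfs L456629 (flp_g L139484) rfl
theorem L456645 : N16353 = N15926 := eqes L456644 L135855
theorem L456646 : N16353 = N15926 := eqc rfl L456645 rfl
theorem L456653 : sm gb N15926 = N23245 := trfs L456646 (flp_b L197734) rfl
theorem L456654 : N23245 = N23176 := eqes L456653 (flp_b L197140)
theorem L456655 : N23245 = N23176 := eqc rfl L456654 rfl
theorem L456658 : sm ge N15926 = N23816 := trfs L456646 (flp_e L202511) rfl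
theorem L456659 : N23816 = N21095 := eqes L456658 (flp_e L179370)
theorem L456660 : N23816 = N21095 := eqc rfl L456659 rfl
theorem L456661 : sm gf N15926 = N23812 := trfs L456646 (flp_f L202482) rfl
theorem L456662 : N23812 = N23194 := eqes L456661 L197304
theorem L456663 : N23812 = N23194 := eqc rfl L456662 rfl
theorem L456666 : sm gi N15926 = N11240 := trfs L456646 (flp_i L139479) rfl
theorem L456667 : N11240 = N23104 := eqes L456666 (flp_i L196526)
theorem L456668 : N23104 = N11240 := (eqc rfl L456667 rfl).symm
theorem L456669 : sm ga N11240 = N15882 := trfs L456668 L196521 rfl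
theorem L456670 : N15882 = N16320 := eqes L456669 (flp_a L139213)
theorem L456671 : N16320 = N15882 := (eqc rfl L456670 rfl).symm
theorem L456677 : sm ge N11240 = N30638 := trfs L456668 (flp_e L259880) rfl
theorem L456678 : N30638 = N16352 := eqes L456677 L139472
theorem L456679 : N30638 = N16352 := eqc rfl L456678 rfl
theorem L456680 : sm gf N11240 = N33683 := trfs L456668 L285740 rfl
theorem L456681 : N33683 = N16348 := eqes L456680 (flp_f L139446)
theorem L456682 : N33683 = N16348 := eqc rfl L456681 rfl
theorem L456686 : sm gi N11240 = N15926 := trfs L456668 L196526 rfl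
theorem L456688 : sm ga N16348 = N23127 := trfs L456682 L285742 rfl
theorem L456689 : N23127 = N23772 := eqes L456688 (flp_a L202153)
theorem L456690 : N23772 = N23127 := (eqc rfl L456689 rfl).symm
theorem L456692 : sm gd N16348 = N23106 := trfs L456682 L285745 rfl
theorem L456693 : N23106 = N11238 := eqes L456692 (flp_d L139444)
theorem L456694 : N23106 = N11238 := eqc rfl L456693 rfl
theorem L456698 : sm ga N11238 = N15884 := trfs L456694 L196537 rfl
theorem L456699 : N15884 = N16318 := eqes L456698 (flp_a L139193)
theorem L456700 : N16318 = N15884 := (eqc rfl L456699 rfl).symm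
theorem L456704 : sm gc N11238 = N15875 := trfs L456694 L196539 rfl
theorem L456705 : N15875 = N7749 := eqes L456704 L96165
theorem L456706 : N15875 = N7749 := eqc rfl L456705 rfl
theorem L456714 : sm gi N11238 = N15928 := trfs L456694 L196541 rfl
theorem L456715 : N15928 = N16349 := eqes L456714 L139450
theorem L456716 : N16349 = N15928 := (eqc rfl L456715 rfl).symm
theorem L456720 : sm gb N15928 = N23240 := trfs L456716 (flp_b L197692) rfl
theorem L456721 : N23240 = N23178 := eqes L456720 (flp_b L197156)
theorem L456722 : N23240 = N23178 := eqc rfl L456721 rfl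
theorem L456733 : sm gh N15928 = N23680 := trfs L456716 (flp_h L201432) rfl
theorem L456734 : N23680 = N23200 := eqes L456733 L197350
theorem L456735 : N23680 = N23200 := eqc rfl L456734 rfl
theorem L456736 : sm gi N15928 = N11238 := trfs L456716 (flp_i L139450) rfl
theorem L456747 : sm gd N23200 = N34530 := trfs L456735 (flp_d L292839) rfl
theorem L456748 : N34530 = N33828 := eqes L456747 L286984
theorem L456749 : N34530 = N33828 := eqc rfl L456748 rfl
theorem L456760 : sm gi N23200 = N16254 := trfs L456735 (flp_i L201425) rfl
theorem L456761 : N16254 = N33829 := eqes L456760 L286991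
theorem L456762 : N33829 = N16254 := (eqc rfl L456761 rfl).symm
theorem L456766 : sm gc N16254 = N23220 := trfs L456762 L286995 rfl
theorem L456767 : N23220 = N11185 := eqes L456766 L138687
theorem L456768 : N23220 = N11185 := eqc rfl L456767 rfl
theorem L456771 : sm gi N16254 = N23200 := trfs L456762 (flp_i L286991) rfl
theorem L456773 : sm ga N11185 = N15975 := trfs L456768 L197520 rfl
theorem L456774 : N15975 = N16241 := eqes L456773 (flp_a L138565)
theorem L456775 : N16241 = N15975 := (eqc rfl L456774 rfl).symm
theorem L456779 : sm gd N11185 = N33858 := trfs L456768 (flp_d L287237) rfl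
theorem L456780 : N33858 = N16273 := eqes L456779 L138814
theorem L456781 : N33858 = N16273 := eqc rfl L456780 rfl
theorem L456785 : sm gf N11185 = N15945 := trfs L456768 L197524 rfl
theorem L456786 : N15945 = N7700 := eqes L456785 L95717
theorem L456787 : N15945 = N7700 := eqc rfl L456786 rfl
theorem L456792 : sm gh N11185 = N33709 := trfs L456768 (flp_h L285970) rfl
theorem L456793 : N33709 = N7698 := eqes L456792 (flp_h L95713)
theorem L456794 : N33709 = N7698 := eqc rfl L456793 rfl
theorem L456805 : sm gi N7698 = N23120 := trfs L456794 (flp_i L285961) rfl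
theorem L456806 : N23120 = N5341 := eqes L456805 L66117
theorem L456807 : N23120 = N5341 := eqc rfl L456806 rfl
theorem L456808 : sm ga N5341 = N15898 := trfs L456807 L196656 rfl
theorem L456809 : N15898 = N7727 := eqes L456808 (flp_a L66363)
theorem L456810 : N15898 = N7727 := eqc rfl L456809 rfl
theorem L456823 : sm gj N5341 = N33707 := trfs L456807 (flp_j L285949) rfl
theorem L456824 : N33707 = N7748 := eqes L456823 L66521
theorem L456825 : N33707 = N7748 := eqc rfl L456824 rfl
theorem L456834 : sm gh N7748 = N23119 := trfs L456825 (flp_h L285941) rfl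
theorem L456835 : N23119 = N11255 := eqes L456834 L96282
theorem L456836 : N23119 = N11255 := eqc rfl L456835 rfl
theorem L456849 : sm gg N11255 = N33706 := trfs L456836 L285930 rfl
theorem L456850 : N33706 = N16369 := eqes L456849 (flp_g L139591)
theorem L456851 : N33706 = N16369 := eqc rfl L456850 rfl
theorem L456853 : sm gi N11255 = N15941 := trfs L456836 L196652 rfl
theorem L456854 : N15941 = N16370 := eqes L456853 L139595
theorem L456855 : N16370 = N15941 := (eqc rfl L456854 rfl).symm
theorem L456872 : sm gh N15941 = N23706 := trfs L456855 (flp_h L201606) rfl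
theorem L456873 : N23706 = N23218 := eqes L456872 L197498
theorem L456874 : N23706 = N23218 := eqc rfl L456873 rfl
theorem L456884 : sm gd N23218 = N34567 := trfs L456874 (flp_d L293094) rfl
theorem L456885 : N34567 = N33854 := eqes L456884 L287193
theorem L456886 : N34567 = N33854 := eqc rfl L456885 rfl
theorem L456890 : sm gf N23218 = N16276 := trfs L456874 L201602 rfl
theorem L456891 : N16276 = N15943 := eqes L456890 L197504
theorem L456892 : N16276 = N15943 := eqc rfl L456891 rfl
theorem L456893 : sm gg N23218 = N34564 := trfs L456874 (flp_g L293068) rfl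
theorem L456894 : N34564 = N33853 := eqes L456893 (flp_g L287190)
theorem L456895 : N34564 = N33853 := eqc rfl L456894 rfl
theorem L456899 : sm gb N33853 = N23717 := trfs L456895 L293065 rfl
theorem L456900 : N23717 = N26084 := eqes L456899 L287187
theorem L456901 : N26084 = N23717 := (eqc rfl L456900 rfl).symm
theorem L456905 : sm gi N33853 = N23704 := trfs L456895 (flp_i L293063) rfl
theorem L456927 : sm gi N23717 = N38042 := trfs L456901 L321898 rfl
theorem L456928 : N38042 = N16281 := eqes L456927 (flp_i L201698)
theorem L456929 : N38042 = N16281 := eqc rfl L456928 rfl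
theorem L456934 : sm gg N16281 = N12681 := trfs L456929 L321903 L445645
theorem L456935 : N12681 = N11193 := eqes L456934 L138892
theorem L456936 : N12681 = N11193 := eqc rfl L456935 rfl
theorem L456944 : sm gc N11193 = N8739 := trfs L456936 L108063 rfl
theorem L456945 : N8739 = N15906 := eqes L456944 (flp_c L135672)
theorem L456946 : N15906 = N8739 := (eqc rfl L456945 rfl).symm
theorem L456953 : sm gf N11193 = N8727 := trfs L456936 L108065 rfl
theorem L456954 : N8727 = N7707 := eqes L456953 L95789
theorem L456955 : N8727 = N7707 := eqc rfl L456954 rfl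
theorem L456959 : sm gj N11193 = N8726 := trfs L456936 (flp_j L108059) rfl
theorem L456960 : N8726 = N7706 := eqes L456959 L95791
theorem L456961 : N8726 = N7706 := eqc rfl L456960 rfl
theorem L456962 : sm gh N11193 = N18461 := trfs L456936 L156836 rfl
theorem L456963 : N18461 = N7705 := eqes L456962 (flp_h L95785)
theorem L456964 : N18461 = N7705 := eqc rfl L456963 rfl
theorem L456989 : sm gi N7705 = N26892 := trfs L456964 L227848 rfl
theorem L456990 : N26892 = N5347 := eqes L456989 L66183
theorem L456991 : N26892 = N5347 := eqc rfl L456990 rfl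
theorem L457010 : sm gg N5347 = N39216 := trfs L456991 (flp_g L331383) rfl
theorem L457011 : N39216 = N7753 := eqes L457010 L66565
theorem L457012 : N39216 = N7753 := eqc rfl L457011 rfl
theorem L457020 : sm gc N7753 = N26917 := trfs L457012 L331380 rfl
theorem L457021 : N26917 = N10988 := eqes L457020 (flp_c L93999)
theorem L457022 : N26917 = N10988 := eqc rfl L457021 rfl
theorem L457038 : sm gi N10988 = N18483 := trfs L457022 (flp_i L228079) rfl
theorem L457039 : N18483 = N15905 := eqes L457038 (flp_i L135664)
theorem L457040 : N18483 = N15905 := eqc rfl L457039 rfl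
theorem L457051 : sm gh N15905 = N12698 := trfs L457040 (flp_h L157038) rfl
theorem L457052 : N12698 = N23161 := eqes L457051 L196999
theorem L457053 : N23161 = N12698 := (eqc rfl L457052 rfl).symm
theorem L457069 : sm gi N12698 = N33768 := trfs L457053 L286440 rfl
theorem L457070 : N33768 = N18348 := eqes L457069 (flp_i L155959)
theorem L457071 : N33768 = N18348 := eqc rfl L457070 rfl
theorem L457077 : sm gg N18348 = N23163 := trfs L457071 L286447 rfl
theorem L457078 : N23163 = N12604 := eqes L457077 (flp_g L155953)
theorem L457079 : N23163 = N12604 := eqc rfl L457078 rfl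
theorem L457081 : sm gh N18348 = N23275 := trfs L457071 L286450 rfl
theorem L457082 : N23275 = N26727 := eqes L457081 L226541
theorem L457083 : N26727 = N23275 := (eqc rfl L457082 rfl).symm
theorem L457087 : sm gb N23275 = N34496 := trfs L457083 (flp_b L292552) rfl
theorem L457088 : N34496 = N33917 := eqes L457087 (flp_b L287724)
theorem L457089 : N34496 = N33917 := eqc rfl L457088 rfl
theorem L457100 : sm gg N23275 = N18349 := trfs L457083 L226546 rfl
theorem L457101 : N18349 = N15984 := eqes L457100 L197980
theorem L457102 : N18349 = N15984 := eqc rfl L457101 rfl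
theorem L457128 : sm gi N15984 = N26729 := trfs L457102 L226559 rfl
theorem L457129 : N26729 = N10989 := eqes L457128 (flp_i L136335)
theorem L457130 : N26729 = N10989 := eqc rfl L457129 rfl
theorem L457138 : sm gf N10989 = N18353 := trfs L457130 L226563 rfl
theorem L457139 : N18353 = N7570 := eqes L457138 L94010
theorem L457140 : N18353 = N7570 := eqc rfl L457139 rfl
theorem L457142 : sm gj N10989 = N18351 := trfs L457130 L226565 rfl
theorem L457143 : N18351 = N7569 := eqes L457142 L94012
theorem L457144 : N18351 = N7569 := eqc rfl L457143 rfl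
theorem L457165 : sm gh N7569 = N12700 := trfs L457144 L155987 rfl
theorem L457166 : N12700 = N5220 := eqes L457165 (flp_h L64980)
theorem L457167 : N12700 = N5220 := eqc rfl L457166 rfl
theorem L457185 : sm gi N5220 = N8740 := trfs L457167 (flp_i L108233) rfl
theorem L457186 : N8740 = N7533 := eqes L457185 (flp_i L64680)
theorem L457187 : N8740 = N7533 := eqc rfl L457186 rfl
theorem L457188 : sm ga N7533 = N6042 := trfs L457187 L74732 rfl
theorem L457189 : N6042 = N5826 := eqes L457188 L64675
theorem L457190 : N6042 = N5826 := eqc rfl L457189 rfl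
theorem L457199 : sm gf N7533 = N6022 := trfs L457187 L74734 rfl
theorem L457200 : N6022 = N5197 := eqes L457199 (flp_f L64673)
theorem L457201 : N6022 = N5197 := eqc rfl L457200 rfl
theorem L457204 : sm gh N7533 = N6020 := trfs L457187 (flp_h L74730) rfl
theorem L457205 : N6020 = N10937 := eqes L457204 L93562
theorem L457206 : N10937 = N6020 := (eqc rfl L457205 rfl).symm
theorem L457207 : sm ga N6020 = N8449 := trfs L457206 L93564 rfl
theorem L457208 : N8449 = N4170 := eqes L457207 L51675
theorem L457209 : N8449 = N4170 := eqc rfl L457208 rfl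
theorem L457219 : sm gf N6020 = N7535 := trfs L457206 L93568 rfl
theorem L457220 : N7535 = N4156 := eqes L457219 (flp_f L51673)
theorem L457221 : N7535 = N4156 := eqc rfl L457220 rfl
theorem L457224 : sm gh N6020 = N7533 := trfs L457206 (flp_h L93562) rfl
theorem L457226 : sm gi N6020 = N15908 := trfs L457206 L135686 rfl
theorem L457227 : N15908 = N8674 := eqes L457226 (flp_i L74208)
theorem L457228 : N15908 = N8674 := eqc rfl L457227 rfl
theorem L457229 : sm ga N8674 = N12272 := trfs L457228 L135688 rfl
theorem L457230 : N12272 = N5991 := eqes L457229 L74204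
theorem L457231 : N12272 = N5991 := eqc rfl L457230 rfl
theorem L457242 : sm gf N8674 = N10940 := trfs L457228 L135692 rfl
theorem L457243 : N10940 = N5977 := eqes L457242 (flp_f L74202)
theorem L457244 : N10940 = N5977 := eqc rfl L457243 rfl
theorem L457252 : sm gb N5977 = N15901 := trfs L457244 (flp_b L135627) rfl
theorem L457253 : N15901 = N7684 := eqes L457252 (flp_b L65998)
theorem L457254 : N15901 = N7684 := eqc rfl L457253 rfl
theorem L457255 : sm gc N5977 = N7709 := trfs L457244 L93593 rfl
theorem L457256 : N7709 = N8666 := eqes L457255 (flp_c L74132)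
theorem L457257 : N8666 = N7709 := (eqc rfl L457256 rfl).symm
theorem L457261 : sm ge N5977 = N7539 := trfs L457244 L93595 rfl
theorem L457262 : N7539 = N4128 := eqes L457261 L51336
theorem L457263 : N7539 = N4128 := eqc rfl L457262 rfl
theorem L457264 : sm gg N5977 = N7537 := trfs L457244 L93597 rfl
theorem L457265 : N7537 = N4127 := eqes L457264 (flp_g L51330)
theorem L457266 : N7537 = N4127 := eqc rfl L457265 rfl
theorem L457270 : sm gh N5977 = N7572 := trfs L457244 L93599 rfl
theorem L457271 : N7572 = N8676 := eqes L457270 L74222
theorem L457272 : N8676 = N7572 := (eqc rfl L457271 rfl).symm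
theorem L457274 : sm ga N7572 = N5993 := trfs L457272 L74224 rfl
theorem L457275 : N5993 = N5865 := eqes L457274 L65011
theorem L457276 : N5993 = N5865 := eqc rfl L457275 rfl
theorem L457290 : sm gg N7572 = N5978 := trfs L457272 L74228 rfl
theorem L457291 : N5978 = N5224 := eqes L457290 L65017
theorem L457292 : N5978 = N5224 := eqc rfl L457291 rfl
theorem L457294 : sm gh N7572 = N5977 := trfs L457272 (flp_h L74222) rfl
theorem L457297 : sm ga N5224 = N4138 := trfs L457292 L51342 rfl
theorem L457298 : N4138 = N4053 := eqes L457297 L45025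
theorem L457299 : N4138 = N4053 := eqc rfl L457298 rfl
theorem L457300 : sm gb N5224 = N7685 := trfs L457292 (flp_b L66010) rfl
theorem L457301 : N7685 = N7565 := eqes L457300 (flp_b L64950)
theorem L457302 : N7685 = N7565 := eqc rfl L457301 rfl
theorem L457303 : sm gc N5224 = N8667 := trfs L457292 (flp_c L74142) rfl
theorem L457304 : N8667 = N3695 := eqes L457303 L45027
theorem L457305 : N8667 = N3695 := eqc rfl L457304 rfl
theorem L457306 : sm gd N5224 = N8677 := trfs L457292 L74230 rfl
theorem L457307 : N8677 = N7573 := eqes L457306 (flp_d L65024)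
theorem L457308 : N8677 = N7573 := eqc rfl L457307 rfl
theorem L457309 : sm ge N5224 = N4129 := trfs L457292 L51344 rfl
theorem L457310 : N4129 = N3612 := eqes L457309 L45029
theorem L457311 : N4129 = N3612 := eqc rfl L457310 rfl
theorem L457316 : sm gi N5224 = N8678 := trfs L457292 L74239 rfl
theorem L457317 : N8678 = N3609 := eqes L457316 (flp_i L45023)
theorem L457318 : N8678 = N3609 := eqc rfl L457317 rfl
theorem L457337 : sm gh N3609 = N6023 := trfs L457318 L74247 rfl
theorem L457338 : N6023 = N2497 := eqes L457337 (flp_h L31255)
theorem L457339 : N6023 = N2497 := eqc rfl L457338 rfl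
theorem L457356 : sm gi N2497 = N4157 := trfs L457339 (flp_i L51698) rfl
theorem L457357 : N4157 = N3592 := eqes L457356 (flp_i L31121)
theorem L457358 : N4157 = N3592 := eqc rfl L457357 rfl
theorem L457359 : sm ga N3592 = N2882 := trfs L457358 L35832 rfl
theorem L457360 : N2882 = N2786 := eqes L457359 L31116
theorem L457361 : N2882 = N2786 := eqc rfl L457360 rfl
theorem L457362 : sm gb N3592 = N5328 := trfs L457358 (flp_b L45938) rfl
theorem L457363 : N5328 = N5192 := eqes L457362 (flp_b L44755)
theorem L457364 : N5328 = N5192 := eqc rfl L457363 rfl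
theorem L457369 : sm ge N3592 = N2873 := trfs L457358 L35834 rfl
theorem L457370 : N2873 = N2487 := eqes L457369 (flp_e L31114)
theorem L457371 : N2873 = N2487 := eqc rfl L457370 rfl
theorem L457375 : sm gh N3592 = N2871 := trfs L457358 (flp_h L35830) rfl
theorem L457376 : N2871 = N5198 := eqes L457375 L44804
theorem L457377 : N5198 = N2871 := (eqc rfl L457376 rfl).symm
theorem L457378 : sm ga N2871 = N4027 := trfs L457377 L44806 rfl
theorem L457379 : N4027 = N1995 := eqes L457378 L24881
theorem L457380 : N4027 = N1995 := eqc rfl L457379 rfl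
theorem L457384 : sm gc N2871 = N3670 := trfs L457377 L44808 rfl
theorem L457385 : N3670 = N4151 := eqes L457384 (flp_c L35786)
theorem L457386 : N4151 = N3670 := (eqc rfl L457385 rfl).symm
theorem L457390 : sm ge N2871 = N3594 := trfs L457377 L44810 rfl
theorem L457391 : N3594 = N1990 := eqes L457390 (flp_e L24879)
theorem L457392 : N3594 = N1990 := eqc rfl L457391 rfl
theorem L457396 : sm gh N2871 = N3592 := trfs L457377 (flp_h L44804) rfl
theorem L457400 : sm gb N1990 = N5194 := trfs L457392 (flp_b L44772) rfl
theorem L457401 : N5194 = N2544 := eqes L457400 (flp_b L22163)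
theorem L457402 : N5194 = N2544 := eqc rfl L457401 rfl
theorem L457403 : sm gc N1990 = N2540 := trfs L457392 L31139 rfl
theorem L457404 : N2540 = N2869 := eqes L457403 (flp_c L24867)
theorem L457405 : N2869 = N2540 := (eqc rfl L457404 rfl).symm
theorem L457409 : sm gf N1990 = N2488 := trfs L457392 L31141 rfl
theorem L457410 : N2488 = N1380 := eqes L457409 (flp_f L17331)
theorem L457411 : N2488 = N1380 := eqc rfl L457410 rfl
theorem L457412 : sm gg N1990 = N5200 := trfs L457392 (flp_g L44831) rfl
theorem L457413 : N5200 = N2872 := eqes L457412 L24887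
theorem L457414 : N5200 = N2872 := eqc rfl L457413 rfl
theorem L457418 : sm gi N1990 = N5201 := trfs L457392 L44833 rfl
theorem L457419 : N5201 = N2853 := eqes L457418 (flp_i L24745)
theorem L457420 : N5201 = N2853 := eqc rfl L457419 rfl
theorem L457422 : sm gb N2853 = N7532 := trfs L457420 (flp_b L64666) rfl
theorem L457423 : N7532 = N3659 := eqes L457422 (flp_b L31707)
theorem L457424 : N7532 = N3659 := eqc rfl L457423 rfl
theorem L457425 : sm gc N2853 = N3673 := trfs L457420 L44837 rfl
theorem L457426 : N3673 = N4125 := eqes L457425 (flp_c L35581)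
theorem L457427 : N4125 = N3673 := (eqc rfl L457426 rfl).symm
theorem L457432 : sm gf N2853 = N3595 := trfs L457420 L44839 rfl
theorem L457433 : N3595 = N1978 := eqes L457432 (flp_f L24738)
theorem L457434 : N3595 = N1978 := eqc rfl L457433 rfl
theorem L457442 : sm gb N1978 = N5195 := trfs L457434 (flp_b L44779) rfl
theorem L457443 : N5195 = N2532 := eqes L457442 (flp_b L22057)
theorem L457444 : N5195 = N2532 := eqc rfl L457443 rfl
theorem L457445 : sm gc N1978 = N2541 := trfs L457434 L31148 rfl
theorem L457446 : N2541 = N2852 := eqes L457445 L24729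
theorem L457447 : N2852 = N2541 := (eqc rfl L457446 rfl).symm
theorem L457452 : sm gg N1978 = N5150 := trfs L457434 (flp_g L44398) rfl
theorem L457453 : N5150 = N2825 := eqes L457452 (flp_g L24527)
theorem L457454 : N5150 = N2825 := eqc rfl L457453 rfl
theorem L457456 : sm gh N1978 = N2500 := trfs L457434 L31152 rfl
theorem L457457 : N2500 = N2854 := eqes L457456 L24747
theorem L457458 : N2854 = N2500 := (eqc rfl L457457 rfl).symm
theorem L457460 : sm ga N2500 = N1982 := trfs L457458 L24749 rfl
theorem L457461 : N1982 = N1946 := eqes L457460 L21763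
theorem L457462 : N1982 = N1939 := eqc rfl L457461 L447779
theorem L457463 : sm gb N2500 = N3660 := trfs L457458 (flp_b L31718) rfl
theorem L457464 : N3660 = N3606 := eqes L457463 (flp_b L31234)
theorem L457465 : N3660 = N3606 := eqc rfl L457464 rfl
theorem L457476 : sm gh N2500 = N1978 := trfs L457458 (flp_h L24747) rfl
theorem L457478 : sm gi N2500 = N4130 := trfs L457458 L35621 rfl
theorem L457479 : N4130 = N1734 := eqes L457478 (flp_i L21761)
theorem L457480 : N4130 = N1734 := eqc rfl L457479 rfl
theorem L457497 : sm gh N1734 = N2874 := trfs L457480 L35628 rfl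
theorem L457498 : N2874 = N1205 := eqes L457497 (flp_h L15172)
theorem L457499 : N2874 = N1205 := eqc rfl L457498 rfl
theorem L457516 : sm gi N1205 = N1991 := trfs L457499 (flp_i L24902) rfl
theorem L457517 : N1991 = N1727 := eqes L457516 (flp_i L15118)
theorem L457518 : N1991 = N1727 := eqc rfl L457517 rfl
theorem L457520 : sm gb N1727 = N2545 := trfs L457518 (flp_b L22172) rfl
theorem L457521 : N2545 = N2485 := eqes L457520 (flp_b L21639)
theorem L457522 : N2545 = N2485 := eqc rfl L457521 rfl
theorem L457526 : sm gd N1727 = N1430 := trfs L457518 L17344 rfl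
theorem L457527 : N1430 = N1201 := eqes L457526 (flp_d L15113)
theorem L457528 : N1430 = N1201 := eqc rfl L457527 rfl
theorem L457531 : sm gg N1727 = N2838 := trfs L457518 (flp_g L24632) rfl
theorem L457532 : N2838 = N2466 := eqes L457531 (flp_g L21474)
theorem L457533 : N2838 = N2466 := eqc rfl L457532 rfl
theorem L457538 : sm gb N2466 = N3644 := trfs L457533 (flp_b L31586) rfl
theorem L457539 : N3644 = N3557 := eqes L457538 (flp_b L30814)
theorem L457540 : N3644 = N3557 := eqc rfl L457539 rfl
theorem L457544 : sm gd N2466 = N2043 := trfs L457533 L24634 rfl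
theorem L457545 : N2043 = N1713 := eqes L457544 (flp_d L21470)
theorem L457546 : N2043 = N1713 := eqc rfl L457545 rfl
theorem L457548 : sm gf N2466 = N4104 := trfs L457533 (flp_f L35431) rfl
theorem L457549 : N4104 = N3559 := eqes L457548 L30827
theorem L457550 : N4104 = N3559 := eqc rfl L457549 rfl
theorem L457551 : sm gj N2466 = N4069 := trfs L457533 (flp_j L35152) rfl
theorem L457552 : N4069 = N3538 := eqes L457551 (flp_j L30640)
theorem L457553 : N4069 = N3538 := eqc rfl L457552 rfl
theorem L457554 : sm gh N2466 = N1967 := trfs L457533 (flp_h L24627) rfl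
theorem L457555 : N1967 = N3560 := eqes L457554 L30837
theorem L457556 : N3560 = N1967 := (eqc rfl L457555 rfl).symm
theorem L457564 : sm gc N1967 = N2518 := trfs L457556 L30841 rfl
theorem L457565 : N2518 = N2836 := eqes L457564 L24613
theorem L457566 : N2836 = N2518 := (eqc rfl L457565 rfl).symm
theorem L457575 : sm gj N1967 = N5115 := trfs L457556 (flp_j L44078) rfl
theorem L457576 : N5115 = N2814 := eqes L457575 (flp_j L24439)
theorem L457577 : N5115 = N2814 := eqc rfl L457576 rfl
theorem L457578 : sm gh N1967 = N2466 := trfs L457556 (flp_h L30837) rfl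
theorem L457581 : sm ga N2814 = N3936 := trfs L457577 L44072 rfl
theorem L457582 : N3936 = N1954 := eqes L457581 L24436
theorem L457583 : N3936 = N1954 := eqc rfl L457582 rfl
theorem L457584 : sm gb N2814 = N7406 := trfs L457577 (flp_b L63551) rfl
theorem L457585 : N7406 = N3620 := eqes L457584 (flp_b L31370)
theorem L457586 : N7406 = N3620 := eqc rfl L457585 rfl
theorem L457587 : sm gc N2814 = N3617 := trfs L457577 L44074 rfl
theorem L457588 : N3617 = N4067 := eqes L457587 L35129
theorem L457589 : N4067 = N3617 := (eqc rfl L457588 rfl).symm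
theorem L457590 : sm gd N2814 = N7399 := trfs L457577 (flp_d L63484) rfl
theorem L457591 : N7399 = N1953 := eqes L457590 (flp_d L24434)
theorem L457592 : N7399 = N1953 := eqc rfl L457591 rfl
theorem L457594 : sm gf N2814 = N7410 := trfs L457577 (flp_f L63592) rfl
theorem L457595 : N7410 = N4068 := eqes L457594 L35138
theorem L457596 : N7410 = N4068 := eqc rfl L457595 rfl
theorem L457600 : sm gi N2814 = N7411 := trfs L457577 L63596 rfl
theorem L457601 : N7411 = N4056 := eqes L457600 (flp_i L35035)
theorem L457602 : N7411 = N4056 := eqc rfl L457601 rfl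
theorem L457606 : sm gb N4056 = N10747 := trfs L457602 (flp_b L91872) rfl
theorem L457607 : N10747 = N5227 := eqes L457606 (flp_b L45056)
theorem L457608 : N10747 = N5227 := eqc rfl L457607 rfl
theorem L457609 : sm gc N4056 = N5236 := trfs L457602 L63600 rfl
theorem L457610 : N5236 = N5868 := eqes L457609 L50453
theorem L457611 : N5868 = N5236 := (eqc rfl L457610 rfl).symm
theorem L457616 : sm gf N4056 = N10753 := trfs L457602 (flp_f L91938) rfl
theorem L457617 : N10753 = N5869 := eqes L457616 L50464
theorem L457618 : N10753 = N5869 := eqc rfl L457617 rfl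
theorem L457621 : sm gh N4056 = N5127 := trfs L457602 L63606 rfl
theorem L457622 : N5127 = N5870 := eqes L457621 L50474
theorem L457623 : N5870 = N5127 := (eqc rfl L457622 rfl).symm
theorem L457624 : sm ga N5127 = N4060 := trfs L457623 L50476 rfl
theorem L457625 : N4060 = N3948 := eqes L457624 L44181
theorem L457626 : N4060 = N3948 := eqc rfl L457625 rfl
theorem L457640 : sm gh N5127 = N4056 := trfs L457623 (flp_h L50474) rfl
theorem L457642 : sm gi N5127 = N8514 := trfs L457623 L72908 rfl
theorem L457643 : N8514 = N3545 := eqes L457642 (flp_i L44179)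
theorem L457644 : N8514 = N3545 := eqc rfl L457643 rfl
theorem L457661 : sm gh N3545 = N5890 := trfs L457644 L72917 rfl
theorem L457662 : N5890 = N2456 := eqes L457661 (flp_h L30701)
theorem L457663 : N5890 = N2456 := eqc rfl L457662 rfl
theorem L457677 : sm gf N2456 = N8544 := trfs L457663 (flp_f L73177) rfl
theorem L457678 : N8544 = N3544 := eqes L457677 L30691
theorem L457679 : N8544 = N3544 := eqc rfl L457678 rfl
theorem L457700 : sm gi N3544 = N5889 := trfs L457679 (flp_i L73171) rfl
theorem L457701 : N5889 = N5114 := eqes L457700 (flp_i L44068)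
theorem L457702 : N5889 = N5114 := eqc rfl L457701 rfl
theorem L457704 : sm gb N5114 = N7596 := trfs L457702 (flp_b L65246) rfl
theorem L457705 : N7596 = N7405 := eqes L457704 (flp_b L63541)
theorem L457706 : N7596 = N7405 := eqc rfl L457705 rfl
theorem L457710 : sm gd N5114 = N4226 := trfs L457702 L50648 rfl
theorem L457711 : N4226 = N3539 := eqes L457710 L44064
theorem L457712 : N4226 = N3539 := eqc rfl L457711 rfl
theorem L457715 : sm gg N5114 = N8543 := trfs L457702 (flp_g L73167) rfl
theorem L457716 : N8543 = N7409 := eqes L457715 L63575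
theorem L457717 : N8543 = N7409 := eqc rfl L457716 rfl
theorem L457722 : sm gb N7409 = N11031 := trfs L457717 (flp_b L94416) rfl
theorem L457723 : N11031 = N10745 := eqes L457722 (flp_b L91855)
theorem L457724 : N11031 = N10745 := eqc rfl L457723 rfl
theorem L457726 : sm gd N7409 = N6111 := trfs L457717 L73169 rfl
theorem L457727 : N6111 = N5116 := eqes L457726 L63581
theorem L457728 : N6111 = N5116 := eqc rfl L457727 rfl
theorem L457729 : sm ge N7409 = N12405 := trfs L457717 (flp_e L105872) rfl
theorem L457730 : N12405 = N10749 := eqes L457729 (flp_e L91895)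
theorem L457731 : N12405 = N10749 := eqc rfl L457730 rfl
theorem L457736 : sm gh N7409 = N5888 := trfs L457717 (flp_h L73162) rfl
theorem L457737 : N5888 = N10752 := eqes L457736 L91923
theorem L457738 : N10752 = N5888 := (eqc rfl L457737 rfl).symm
theorem L457757 : sm gh N5888 = N7409 := trfs L457738 (flp_h L91923) rfl
theorem L457759 : sm gi N5888 = N15631 := trfs L457738 L133245 rfl
theorem L457760 : N15631 = N8512 := eqes L457759 (flp_i L72896)
theorem L457761 : N15631 = N8512 := eqc rfl L457760 rfl
theorem L457768 : N12356 = N11020 := L445096.trans L447264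
theorem L457780 : sm gh N8512 = N10778 := trfs L457761 L133254 rfl
theorem L457781 : N10778 = N12363 := eqes L457780 L105500
theorem L457782 : N12363 = N10778 := (eqc rfl L457781 rfl).symm
theorem L457799 : sm gh N10778 = N8512 := trfs L457782 (flp_h L105500) rfl
theorem L457801 : sm gi N10778 = N17991 := trfs L457782 L153069 rfl
theorem L457802 : N17991 = N7427 := eqes L457801 (flp_i L92166)
theorem L457803 : N17991 = N7427 := eqc rfl L457802 rfl
theorem L457815 : sm gj N7427 = N26197 := trfs L457803 (flp_j L222291) rfl
theorem L457816 : N26197 = N10777 := eqes L457815 (flp_j L92163)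
theorem L457817 : N26197 = N10777 := eqc rfl L457816 rfl
theorem L457834 : sm gh N10777 = N18058 := trfs L457817 L222293 rfl
theorem L457835 : N18058 = N7426 := eqes L457834 (flp_h L92154)
theorem L457836 : N18058 = N7426 := eqc rfl L457835 rfl
theorem L457851 : sm gg N7426 = N12531 := trfs L457836 L153659 rfl
theorem L457852 : N12531 = N5165 := eqes L457851 L63742
theorem L457853 : N12531 = N5165 := eqc rfl L457852 rfl
theorem L457872 : sm gi N5165 = N8624 := trfs L457853 (flp_i L106889) rfl
theorem L457873 : N8624 = N7460 := eqes L457872 (flp_i L64048)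
theorem L457874 : N8624 = N7460 := eqc rfl L457873 rfl
theorem L457876 : sm gb N7460 = N11112 := trfs L457874 (flp_b L95121) rfl
theorem L457877 : N11112 = N10821 := eqes L457876 (flp_b L92552)
theorem L457878 : N11112 = N10821 := eqc rfl L457877 rfl
theorem L457880 : sm gd N7460 = N6155 := trfs L457874 L73824 rfl
theorem L457881 : N6155 = N5151 := eqes L457880 L64044
theorem L457882 : N6155 = N5151 := eqc rfl L457881 rfl
theorem L457884 : sm gf N7460 = N6024 := trfs L457874 L73820 rfl
theorem L457885 : N6024 = N5199 := eqes L457884 L64046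
theorem L457886 : N6024 = N5199 := eqc rfl L457885 rfl
theorem L457888 : sm gj N7460 = N5944 := trfs L457874 L73822 rfl
theorem L457889 : N5944 = N5148 := eqes L457888 (flp_j L64038)
theorem L457890 : N5944 = N5148 := eqc rfl L457889 rfl
theorem L457891 : sm gh N7460 = N5943 := trfs L457874 (flp_h L73816) rfl
theorem L457892 : N5943 = N10829 := eqes L457891 L92623
theorem L457893 : N10829 = N5943 := (eqc rfl L457892 rfl).symm
theorem L457898 : sm gc N5943 = N7639 := trfs L457893 L92627 rfl
theorem L457899 : N7639 = N8613 := eqes L457898 (flp_c L73726)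
theorem L457900 : N8613 = N7639 := (eqc rfl L457899 rfl).symm
theorem L457909 : sm gj N5943 = N7461 := trfs L457893 L92631 rfl
theorem L457910 : N7461 = N4103 := eqes L457909 (flp_j L51071)
theorem L457911 : N7461 = N4103 := eqc rfl L457910 rfl
theorem L457912 : sm gh N5943 = N7460 := trfs L457893 (flp_h L92623) rfl
theorem L457914 : sm gi N5943 = N15744 := trfs L457893 L134264 rfl
theorem L457915 : N15744 = N8578 := eqes L457914 (flp_i L73460)
theorem L457916 : N15744 = N8578 := eqc rfl L457915 rfl
theorem L457918 : sm gb N8578 = N22910 := trfs L457916 (flp_b L194850) rfl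
theorem L457919 : N22910 = N11066 := eqes L457918 (flp_b L94727)
theorem L457920 : N22910 = N11066 := eqc rfl L457919 rfl
theorem L457928 : sm gf N8578 = N10943 := trfs L457916 L134270 rfl
theorem L457929 : N10943 = N5979 := eqes L457928 L73458
theorem L457930 : N10943 = N5979 := eqc rfl L457929 rfl
theorem L457932 : sm gj N8578 = N10830 := trfs L457916 L134272 rfl
theorem L457933 : N10830 = N5913 := eqes L457932 (flp_j L73452)
theorem L457934 : N10830 = N5913 := eqc rfl L457933 rfl
theorem L457935 : sm gh N8578 = N10866 := trfs L457916 L134274 rfl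
theorem L457936 : N10866 = N12463 := eqes L457935 L106353
theorem L457937 : N12463 = N10866 := (eqc rfl L457936 rfl).symm
theorem L457941 : sm gb N10866 = N16099 := trfs L457937 (flp_b L137403) rfl
theorem L457942 : N16099 = N15788 := eqes L457941 (flp_b L134634)
theorem L457943 : N16099 = N15788 := eqc rfl L457942 rfl
theorem L457953 : sm gj N10866 = N8579 := trfs L457937 L106359 rfl
theorem L457954 : N8579 = N7487 := eqes L457953 L92947
theorem L457955 : N8579 = N7487 := eqc rfl L457954 rfl
theorem L457961 : sm gb N7487 = N11067 := trfs L457955 (flp_b L94739) rfl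
theorem L457962 : N11067 = N10858 := eqes L457961 (flp_b L92867)
theorem L457963 : N11067 = N10858 := eqc rfl L457962 rfl
theorem L457971 : sm gg N7487 = N5914 := trfs L457955 L73468 rfl
theorem L457972 : N5914 = N5167 := eqes L457971 L64277
theorem L457973 : N5914 = N5167 := eqc rfl L457972 rfl
theorem L457976 : sm gi N7487 = N12464 := trfs L457955 L106362 rfl
theorem L457977 : N12464 = N5166 := eqes L457976 (flp_i L64268)
theorem L457978 : N12464 = N5166 := eqc rfl L457977 rfl
theorem L457990 : sm gg N5166 = N8580 := trfs L457978 L106369 rfl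
theorem L457991 : N8580 = N3571 := eqes L457990 L44531
theorem L457992 : N8580 = N3571 := eqc rfl L457991 rfl
theorem L458001 : sm gc N3571 = N5734 := trfs L457992 (flp_c L106286) L444738
theorem L458002 : N5734 = N2529 := eqes L458001 L30931
theorem L458003 : N5734 = N2529 := eqc rfl L458002 rfl
theorem L458024 : sm gi N2529 = N3977 := trfs L458003 L49398 rfl
theorem L458025 : N3977 = N3657 := eqes L458024 L31687
theorem L458026 : N3977 = N3657 := eqc rfl L458025 rfl
theorem L458035 : sm ge N3657 = N5752 := trfs L458026 L49540 rfl
theorem L458036 : N5752 = N5292 := eqes L458035 (flp_e L45627)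
theorem L458037 : N5752 = N5292 := eqc rfl L458036 rfl
theorem L458045 : sm gh N3657 = N5754 := trfs L458026 L49553 rfl
theorem L458046 : N5754 = N5269 := eqes L458045 (flp_h L45448)
theorem L458047 : N5754 = N5269 := eqc rfl L458046 rfl
theorem L458050 : sm gb N5269 = N7468 := trfs L458047 (flp_b L64115) rfl
theorem L458051 : N7468 = N7633 := eqes L458050 (flp_b L65573)
theorem L458052 : N7633 = N7468 := (eqc rfl L458051 rfl).symm
theorem L458057 : sm ge N5269 = N8340 := trfs L458047 (flp_e L71512) rfl
theorem L458058 : N8340 = N7638 := eqes L458057 (flp_e L65618)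
theorem L458059 : N8340 = N7638 := eqc rfl L458058 rfl
theorem L458060 : sm gf N5269 = N3978 := trfs L458047 L49557 rfl
theorem L458061 : N3978 = N3640 := eqes L458060 L45446
theorem L458062 : N3978 = N3640 := eqc rfl L458061 rfl
theorem L458064 : sm gj N5269 = N8253 := trfs L458047 (flp_j L70802) rfl
theorem L458065 : N8253 = N7590 := eqes L458064 (flp_j L65193)
theorem L458066 : N8253 = N7590 := eqc rfl L458065 rfl
theorem L458080 : sm gf N7590 = N5696 := trfs L458066 L70800 rfl
theorem L458081 : N5696 = N5236 := eqes L458080 L65191
theorem L458082 : N5696 = N5236 := eqc rfl L458081 rfl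
theorem L458085 : sm gi N7590 = N5885 := trfs L458066 L102368 L444653
theorem L458086 : N5885 = N5235 := eqes L458085 (flp_i L65186)
theorem L458087 : N5885 = N5235 := eqc rfl L458086 rfl
theorem L458093 : sm ge N5235 = N8535 := trfs L458087 L73090 rfl
theorem L458094 : N8535 = N7587 := eqes L458093 (flp_e L65162)
theorem L458095 : N8535 = N7587 := eqc rfl L458094 rfl
theorem L458100 : N8509 = N7590 := L444221.trans L458066
theorem L458115 : sm gj N7587 = N5936 := trfs L458095 L73096 rfl
theorem L458116 : N5936 = N5266 := eqes L458115 L65165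
theorem L458117 : N5936 = N5266 := eqc rfl L458116 rfl
theorem L458118 : sm gh N7587 = N12396 := trfs L458095 L105779 rfl
theorem L458119 : N12396 = N5233 := eqes L458118 (flp_h L65158)
theorem L458120 : N12396 = N5233 := eqc rfl L458119 rfl
theorem L458137 : sm gi N5233 = N17372 := trfs L458120 L153494 L444602
theorem L458138 : N17372 = N3626 := eqes L458137 L45118
theorem L458139 : N17372 = N3626 := eqc rfl L458138 rfl
theorem L458154 : sm gh N3626 = N11947 := trfs L458139 (flp_h L147931) rfl
theorem L458155 : N11947 = N5250 := eqes L458154 L45270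
theorem L458156 : N11947 = N5250 := eqc rfl L458155 rfl
theorem L458158 : sm gb N5250 = N15610 := trfs L458156 (flp_b L133037) rfl
theorem L458159 : N15610 = N7605 := eqes L458158 (flp_b L65322)
theorem L458160 : N15610 = N7605 := eqc rfl L458159 rfl
theorem L458171 : sm gi N5250 = N8251 := trfs L458156 L102075 rfl
theorem L458172 : N8251 = N7613 := eqes L458171 L65391
theorem L458173 : N8251 = N7613 := eqc rfl L458172 rfl
theorem L458185 : sm gg N7613 = N11976 := trfs L458173 L102336 rfl
theorem L458186 : N11976 = N11053 := eqes L458185 (flp_g L94607)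
theorem L458187 : N11976 = N11053 := eqc rfl L458186 rfl
theorem L458202 : sm gh N11053 = N17416 := trfs L458187 L148334 rfl
theorem L458203 : N17416 = N16021 := eqes L458202 (flp_h L136696)
theorem L458204 : N17416 = N16021 := eqc rfl L458203 rfl
theorem L458215 : sm gf N16021 = N25349 := trfs L458204 (flp_f L215284) rfl
theorem L458216 : N25349 = N23328 := eqes L458215 (flp_f L198477)
theorem L458217 : N25349 = N23328 := eqc rfl L458216 rfl
theorem L458224 : sm gb N23328 = N33179 := trfs L458217 (flp_b L281407) rfl
theorem L458225 : N33179 = N33993 := eqes L458224 (flp_b L288407)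
theorem L458226 : N33993 = N33179 := (eqc rfl L458225 rfl).symm
theorem L458233 : sm gj N23328 = N36945 := trfs L458217 (flp_j L312888) rfl
theorem L458234 : N36945 = N34003 := eqes L458233 (flp_j L288506)
theorem L458235 : N36945 = N34003 := eqc rfl L458234 rfl
theorem L458248 : sm gh N34003 = N25348 := trfs L458235 (flp_h L312881) rfl
theorem L458249 : N25348 = N23405 := eqes L458248 L288508
theorem L458250 : N25348 = N23405 := eqc rfl L458249 rfl
theorem L458268 : sm gi N23405 = N36846 := trfs L458250 (flp_i L312001) rfl
theorem L458269 : N36846 = N16070 := eqes L458268 (flp_i L199155)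
theorem L458270 : N36846 = N16070 := eqc rfl L458269 rfl
theorem L458274 : sm gj N16070 = N25282 := trfs L458270 (flp_j L311994) rfl
theorem L458275 : N25282 = N11050 := eqes L458274 L137134
theorem L458276 : N25282 = N11050 := eqc rfl L458275 rfl
theorem L458278 : sm gb N11050 = N33112 := trfs L458276 (flp_b L280770) rfl
theorem L458279 : N33112 = N16062 := eqes L458278 (flp_b L137055)
theorem L458280 : N33112 = N16062 := eqc rfl L458279 rfl
theorem L458282 : sm gd N11050 = N36123 := trfs L458276 (flp_d L306117) rfl
theorem L458283 : N36123 = N16071 := eqes L458282 L137136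
theorem L458284 : N36123 = N16071 := eqc rfl L458283 rfl
theorem L458299 : sm gi N16071 = N24842 := trfs L458284 L306119 rfl
theorem L458300 : N24842 = N23408 := eqes L458299 L199181
theorem L458301 : N24842 = N23408 := eqc rfl L458300 rfl
theorem L458311 : sm ge N23408 = N35897 := trfs L458301 (flp_e L304196) rfl
theorem L458312 : N35897 = N34126 := eqes L458311 (flp_e L289576)
theorem L458313 : N35897 = N34126 := eqc rfl L458312 rfl
theorem L458328 : sm gf N34126 = N24649 := trfs L458313 (flp_f L304191) rfl
theorem L458329 : N24649 = N24062 := eqes L458328 L289578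
theorem L458330 : N24649 = N24062 := eqc rfl L458329 rfl
theorem L458354 : sm gi N24062 = N35854 := trfs L458330 (flp_i L303822) rfl
theorem L458355 : N35854 = N16530 := eqes L458354 (flp_i L204610)
theorem L458356 : N35854 = N16530 := eqc rfl L458355 rfl
theorem L458364 : sm gg N16530 = N24620 := trfs L458356 (flp_g L303815) rfl
theorem L458365 : N24620 = N11533 := eqes L458364 L141000
theorem L458366 : N24620 = N11533 := eqc rfl L458365 rfl
theorem L458367 : sm ga N11533 = N16934 := trfs L458366 L209238 rfl
theorem L458368 : N16934 = N9045 := eqes L458367 L98693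
theorem L458369 : N16934 = N9045 := eqc rfl L458368 rfl
theorem L458377 : sm ge N11533 = N16929 := trfs L458366 (flp_e L209236) rfl
theorem L458378 : N16929 = N7953 := eqes L458377 (flp_e L98691)
theorem L458379 : N16929 = N7953 := eqc rfl L458378 rfl
theorem L458402 : sm gi N7953 = N11667 := trfs L458379 L144335 rfl
theorem L458403 : N11667 = N11534 := eqes L458402 L98699
theorem L458404 : N11667 = N11534 := eqc rfl L458403 rfl
theorem L458415 : sm gf N11534 = N8047 := trfs L458404 (flp_f L99814) rfl
theorem L458416 : N8047 = N7956 := eqes L458415 L98705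
theorem L458417 : N8047 = N7956 := eqc rfl L458416 rfl
theorem L458420 : sm gh N11534 = N16949 := trfs L458404 L144501 rfl
theorem L458421 : N16949 = N16757 := eqes L458420 L142882
theorem L458422 : N16949 = N16757 := eqc rfl L458421 rfl
theorem L458436 : sm gf N16757 = N11668 := trfs L458422 L144505 rfl
theorem L458437 : N11668 = N11537 := eqes L458436 L142886
theorem L458438 : N11668 = N11537 := eqc rfl L458437 rfl
theorem L458439 : sm gg N16757 = N24652 := trfs L458422 (flp_g L209520) rfl
theorem L458440 : N24652 = N24063 := eqes L458439 (flp_g L204625)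
theorem L458441 : N24652 = N24063 := eqc rfl L458440 rfl
theorem L458458 : sm gj N24063 = N35902 := trfs L458441 (flp_j L304238) rfl
theorem L458459 : N35902 = N35053 := eqes L458458 (flp_j L297185)
theorem L458460 : N35902 = N35053 := eqc rfl L458459 rfl
theorem L458471 : sm gh N35053 = N24651 := trfs L458460 (flp_h L304231) rfl
theorem L458472 : N24651 = N24058 := eqes L458471 (flp_h L297178)
theorem L458473 : N24651 = N24058 := eqc rfl L458472 rfl
theorem L458492 : sm gi N24058 = N35856 := trfs L458473 (flp_i L303840) rfl
theorem L458493 : N35856 = N16527 := eqes L458492 (flp_i L204571)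
theorem L458494 : N35856 = N16527 := eqc rfl L458493 rfl
theorem L458501 : sm gf N16527 = N24801 := trfs L458494 L303838 rfl
theorem L458502 : N24801 = N11375 := eqes L458501 L140968
theorem L458503 : N24801 = N11375 := eqc rfl L458502 rfl
theorem L458520 : sm gj N11375 = N17049 := trfs L458503 (flp_j L210782) rfl
theorem L458521 : N17049 = N7839 := eqes L458520 L97362
theorem L458522 : N17049 = N7839 := eqc rfl L458521 rfl
theorem L458537 : sm gi N7839 = N11752 := trfs L458522 L145354 rfl
theorem L458538 : N11752 = N11378 := eqes L458537 L97385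
theorem L458539 : N11752 = N11378 := eqc rfl L458538 rfl
theorem L458553 : sm gg N11378 = N8103 := trfs L458539 (flp_g L100538) rfl
theorem L458554 : N8103 = N7842 := eqes L458553 L97391
theorem L458555 : N8103 = N7842 := eqc rfl L458554 rfl
theorem L458570 : sm gh N7842 = N11753 := trfs L458555 L100544 rfl
theorem L458571 : N11753 = N11381 := eqes L458570 L97412
theorem L458572 : N11753 = N11381 := eqc rfl L458571 rfl
theorem L458583 : sm ge N11381 = N17078 := trfs L458572 (flp_e L145600) rfl
theorem L458584 : N17078 = N16079 := eqes L458583 (flp_e L137215)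
theorem L458585 : N17078 = N16079 := eqc rfl L458584 rfl
theorem L458601 : sm gj N16079 = N11882 := trfs L458585 L145603 rfl
theorem L458602 : N11882 = N11147 := eqes L458601 L137218
theorem L458603 : N11882 = N11147 := eqc rfl L458602 rfl
theorem L458617 : sm gg N11147 = N17273 := trfs L458603 (flp_g L147112) rfl
theorem L458618 : N17273 = N16211 := eqes L458617 (flp_g L138309)
theorem L458619 : N17273 = N16211 := eqc rfl L458618 rfl
theorem L458638 : sm gh N16211 = N11881 := trfs L458619 (flp_h L147106) rfl
theorem L458639 : N11881 = N11144 := eqes L458638 (flp_h L138303)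
theorem L458640 : N11881 = N11144 := eqc rfl L458639 rfl
theorem L458644 : sm gb N11144 = N15551 := trfs L458640 (flp_b L132507) rfl
theorem L458645 : N15551 = N16198 := eqes L458644 (flp_b L138188)
theorem L458646 : N16198 = N15551 := (eqc rfl L458645 rfl).symm
theorem L458659 : sm gi N11144 = N17228 := trfs L458640 (flp_i L146761) rfl
theorem L458660 : N17228 = N7672 := eqes L458659 (flp_i L95367)
theorem L458661 : N17228 = N7672 := eqc rfl L458660 rfl
theorem L458672 : sm ge N7672 = N11853 := trfs L458661 L146759 rfl
theorem L458673 : N11853 = N5445 := eqes L458672 L65896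
theorem L458674 : N11853 = N5445 := eqc rfl L458673 rfl
theorem L458688 : sm gg N5445 = N8169 := trfs L458674 (flp_g L101307) rfl
theorem L458689 : N8169 = N3765 := eqes L458688 L46980
theorem L458690 : N8169 = N3765 := eqc rfl L458689 rfl
theorem L458696 : sm gc N3765 = N11850 := trfs L458690 (flp_c L101285) rfl
theorem L458697 : N11850 = N5447 := eqes L458696 L46994
theorem L458698 : N11850 = N5447 := eqc rfl L458697 rfl
theorem L458723 : sm gi N5447 = N8185 := trfs L458698 L101288 rfl
theorem L458724 : N8185 = N7889 := eqes L458723 L67776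
theorem L458725 : N8185 = N7889 := eqc rfl L458724 rfl
theorem L458728 : sm gb N7889 = N11874 := trfs L458725 (flp_b L101474) rfl
theorem L458729 : N11874 = N11445 := eqes L458728 (flp_b L97944)
theorem L458730 : N11874 = N11445 := eqc rfl L458729 rfl
theorem L458736 : sm gf N7889 = N5652 := trfs L458725 (flp_f L70234) rfl
theorem L458737 : N5652 = N5523 := eqes L458736 L67783
theorem L458738 : N5652 = N5523 := eqc rfl L458737 rfl
theorem L458743 : sm gh N7889 = N11878 := trfs L458725 L101499 rfl
theorem L458744 : N11878 = N11446 := eqes L458743 L97949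
theorem L458745 : N11878 = N11446 := eqc rfl L458744 rfl
theorem L458752 : sm gd N11446 = N17267 := trfs L458745 L147058 rfl
theorem L458753 : N17267 = N16630 := eqes L458752 L141808
theorem L458754 : N17267 = N16630 := eqc rfl L458753 rfl
theorem L458759 : sm gg N11446 = N17266 := trfs L458745 (flp_g L147056) rfl
theorem L458760 : N17266 = N16627 := eqes L458759 (flp_g L141789)
theorem L458761 : N17266 = N16627 := eqc rfl L458760 rfl
theorem L458776 : sm gj N16627 = N25127 := trfs L458761 (flp_j L213360) rfl
theorem L458777 : N25127 = N24193 := eqes L458776 (flp_j L205665)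
theorem L458778 : N25127 = N24193 := eqc rfl L458777 rfl
theorem L458800 : sm gh N24193 = N17265 := trfs L458778 (flp_h L213353) rfl
theorem L458801 : N17265 = N16623 := eqes L458800 (flp_h L205658)
theorem L458802 : N17265 = N16623 := eqc rfl L458801 rfl
theorem L458804 : sm ga N16623 = N11889 := trfs L458802 L147043 rfl
theorem L458805 : N11889 = N12987 := eqes L458804 L141748
theorem L458806 : N12987 = N11889 := (eqc rfl L458805 rfl).symm
theorem L458822 : sm gi N16623 = N25063 := trfs L458802 (flp_i L212861) rfl
theorem L458823 : N25063 = N11439 := eqes L458822 (flp_i L141746)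
theorem L458824 : N25063 = N11439 := eqc rfl L458823 rfl
theorem L458825 : sm ga N11439 = N17236 := trfs L458824 L212855 rfl
theorem L458826 : N17236 = N8951 := eqes L458825 L97892
theorem L458827 : N17236 = N8951 := eqc rfl L458826 rfl
theorem L458828 : sm gb N11439 = N36505 := trfs L458824 (flp_b L309159) rfl
theorem L458829 : N36505 = N16622 := eqes L458828 L141739
theorem L458830 : N36505 = N16622 := eqc rfl L458829 rfl
theorem L458849 : sm gj N16622 = N25056 := trfs L458830 (flp_j L309156) rfl
theorem L458850 : N25056 = N11441 := eqes L458849 L141743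
theorem L458851 : N25056 = N11441 := eqc rfl L458850 rfl
theorem L458857 : sm gc N11441 = N32902 := trfs L458851 (flp_c L278926) rfl
theorem L458858 : N32902 = N16616 := eqes L458857 (flp_c L141699)
theorem L458859 : N32902 = N16616 := eqc rfl L458858 rfl
theorem L458867 : sm gi N11441 = N17258 := trfs L458851 L212798 rfl
theorem L458868 : N17258 = N16626 := eqes L458867 L141774
theorem L458869 : N17258 = N16626 := eqc rfl L458868 rfl
theorem L458878 : sm ge N16626 = N25111 := trfs L458869 (flp_e L213234) rfl
theorem L458879 : N25111 = N23611 := eqes L458878 (flp_e L200836)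
theorem L458880 : N25111 = N23611 := eqc rfl L458879 rfl
theorem L458904 : sm gh N23611 = N36588 := trfs L458880 L309806 rfl
theorem L458905 : N36588 = N34423 := eqes L458904 L291947
theorem L458906 : N36588 = N34423 := eqc rfl L458905 rfl
theorem L458911 : sm gg N34423 = N25112 := trfs L458906 L309813 rfl
theorem L458912 : N25112 = N23614 := eqes L458911 L291953
theorem L458913 : N25112 = N23614 := eqc rfl L458912 rfl
theorem L458926 : sm gj N23614 = N36166 := trfs L458913 (flp_j L306489) rfl
theorem L458927 : N36166 = N34135 := eqes L458926 (flp_j L289667)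
theorem L458928 : N36166 = N34135 := eqc rfl L458927 rfl
theorem L458937 : sm gh N34135 = N24828 := trfs L458928 (flp_h L306481) rfl
theorem L458938 : N24828 = N23415 := eqes L458937 (flp_h L289660)
theorem L458939 : N24828 = N23415 := eqc rfl L458938 rfl
theorem L458960 : sm gi N23415 = N36109 := trfs L458939 (flp_i L305986) rfl
theorem L458961 : N36109 = N16077 := eqes L458960 (flp_i L199249)
theorem L458962 : N36109 = N16077 := eqc rfl L458961 rfl
theorem L458973 : sm gj N16077 = N25055 := trfs L458962 L305984 rfl
theorem L458974 : N25055 = N11145 := eqes L458973 L137197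
theorem L458975 : N25055 = N11145 := eqc rfl L458974 rfl
theorem L458983 : sm gd N11145 = N36502 := trfs L458975 L309130 rfl
theorem L458984 : N36502 = N15797 := eqes L458983 (flp_d L134717)
theorem L458985 : N36502 = N15797 := eqc rfl L458984 rfl
theorem L458999 : sm gi N15797 = N25110 := trfs L458985 L309136 rfl
theorem L459000 : N25110 = N23001 := eqes L458999 L195614
theorem L459001 : N25110 = N23001 := eqc rfl L459000 rfl
theorem L459008 : sm gc N23001 = N36583 := trfs L459001 L309770 rfl
theorem L459009 : N36583 = N33507 := eqes L459008 (flp_c L284198)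
theorem L459010 : N36583 = N33507 := eqc rfl L459009 rfl
theorem L459026 : sm gb N33507 = N25601 := trfs L459010 L309775 rfl
theorem L459027 : N25601 = N22987 := eqes L459026 L284196
theorem L459028 : N25601 = N22987 := eqc rfl L459027 rfl
theorem L459031 : sm ga N22987 = N18188 := trfs L459028 L217335 rfl
theorem L459032 : N18188 = N33457 := eqes L459031 (flp_a L283816)
theorem L459033 : N33457 = N18188 := (eqc rfl L459032 rfl).symm
theorem L459037 : sm gd N22987 = N33406 := trfs L459028 (flp_d L283376) rfl
theorem L459038 : N33406 = N33479 := eqes L459037 (flp_d L283983)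
theorem L459039 : N33479 = N33406 := (eqc rfl L459038 rfl).symm
theorem L459048 : sm gh N22987 = N37319 := trfs L459028 L315905 rfl
theorem L459049 : N37319 = N22987 := eqes L459048 L438616
theorem L459050 : N37319 = N22987 := eqc rfl L459049 rfl
theorem L459051 : sm gi N22987 = N37196 := trfs L459028 (flp_i L314922) rfl
theorem L459052 : N37196 = N15786 := eqes L459051 (flp_i L195494)
theorem L459053 : N37196 = N15786 := eqc rfl L459052 rfl
theorem L459057 : sm gc N15786 = N25520 := trfs L459053 (flp_c L314916) rfl
theorem L459058 : N25520 = N10855 := eqes L459057 (flp_c L134620)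
theorem L459059 : N25520 = N10855 := eqc rfl L459058 rfl
theorem L459079 : sm gh N10855 = N37198 := trfs L459059 L314935 rfl
theorem L459080 : N37198 = N15568 := eqes L459079 (flp_h L132641)
theorem L459081 : N37198 = N15568 := eqc rfl L459080 rfl
theorem L459086 : sm gb N15568 = N25531 := trfs L459081 L314939 rfl
theorem L459087 : N25531 = N10716 := eqes L459086 L132637
theorem L459088 : N25531 = N10716 := eqc rfl L459087 rfl
theorem L459103 : sm gi N10716 = N37219 := trfs L459088 L315128 rfl
theorem L459104 : N37219 = N10716 := eqes L459103 L438679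
theorem L459105 : N37219 = N10716 := eqc rfl L459104 rfl
theorem L459109 : sm gh N10716 = N25624 := trfs L459105 L315134 rfl
theorem L459110 : N25624 = N7484 := eqes L459109 L91578
theorem L459111 : N25624 = N7484 := eqc rfl L459110 rfl
theorem L459124 : sm gi N7484 = N17598 := trfs L459111 (flp_i L217530) rfl
theorem L459125 : N17598 = N10865 := eqes L459124 L92930
theorem L459126 : N17598 = N10865 := eqc rfl L459125 rfl
theorem L459142 : sm gh N10865 = N12098 := trfs L459126 (flp_h L149833) rfl
theorem L459143 : N12098 = N10865 := eqes L459142 L438621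
theorem L459144 : N12098 = N10865 := eqc rfl L459143 rfl
theorem L459155 : sm gj N10865 = N17405 := trfs L459144 (flp_j L148239) rfl
theorem L459156 : N17405 = N15666 := eqes L459155 (flp_j L133578)
theorem L459157 : N17405 = N15666 := eqc rfl L459156 rfl
theorem L459168 : sm gg N15666 = N25333 := trfs L459157 L215134 rfl
theorem L459169 : N25333 = N22802 := eqes L459168 (flp_g L193906)
theorem L459170 : N25333 = N22802 := eqc rfl L459169 rfl
theorem L459187 : sm gj N22802 = N36922 := trfs L459170 L312669 rfl
theorem L459188 : N36922 = N33227 := eqes L459187 (flp_j L281841)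
theorem L459189 : N36922 = N33227 := eqc rfl L459188 rfl
theorem L459199 : sm ga N33227 = N25357 := trfs L459189 L312671 rfl
theorem L459200 : N25357 = N25397 := eqes L459199 L281834
theorem L459201 : N25397 = N25357 := (eqc rfl L459200 rfl).symm
theorem L459206 : sm gg N33227 = N25621 := trfs L459189 L312676 rfl
theorem L459207 : N25621 = N22996 := eqes L459206 L281839
theorem L459208 : N25621 = N22996 := eqc rfl L459207 rfl
theorem L459223 : sm gi N22996 = N37216 := trfs L459208 (flp_i L315112) rfl
theorem L459224 : N37216 = N15793 := eqes L459223 (flp_i L195572)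
theorem L459225 : N37216 = N15793 := eqc rfl L459224 rfl
theorem L459229 : sm gj N15793 = N25530 := trfs L459225 (flp_j L315105) rfl
theorem L459230 : N25530 = N10862 := eqes L459229 L134684
theorem L459231 : N25530 = N10862 := eqc rfl L459230 rfl
theorem L459239 : sm gf N10862 = N37215 := trfs L459231 L315096 rfl
theorem L459240 : N37215 = N15791 := eqes L459239 (flp_f L134666)
theorem L459241 : N37215 = N15791 := eqc rfl L459240 rfl
theorem L459252 : sm gi N15791 = N25620 := trfs L459241 L315102 rfl
theorem L459253 : N25620 = N22994 := eqes L459252 L195554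
theorem L459254 : N25620 = N22994 := eqc rfl L459253 rfl
theorem L459266 : sm ge N22994 = N37350 := trfs L459254 L316190 rfl
theorem L459267 : N37350 = N33517 := eqes L459266 (flp_e L284288)
theorem L459268 : N37350 = N33517 := eqc rfl L459267 rfl
theorem L459282 : sm gd N33517 = N26048 := trfs L459268 L316195 rfl
theorem L459283 : N26048 = N23278 := eqes L459282 L284286
theorem L459284 : N26048 = N23278 := eqc rfl L459283 rfl
theorem L459305 : sm gi N23278 = N37787 := trfs L459284 (flp_i L319745) rfl
theorem L459306 : N37787 = N15985 := eqes L459305 (flp_i L198003)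
theorem L459307 : N37787 = N15985 := eqc rfl L459306 rfl
theorem L459312 : sm ge N15985 = N25914 := trfs L459307 (flp_e L319739) rfl
theorem L459313 : N25914 = N10990 := eqes L459312 (flp_e L136345)
theorem L459314 : N25914 = N10990 := eqc rfl L459313 rfl
theorem L459317 : sm ga N10990 = N17817 := trfs L459314 L219879 rfl
theorem L459318 : N17817 = N8502 := eqes L459317 L94016
theorem L459319 : N17817 = N8502 := eqc rfl L459318 rfl
theorem L459331 : sm gj N10990 = N37788 := trfs L459314 L319748 rfl
theorem L459332 : N37788 = N15983 := eqes L459331 (flp_j L136331)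
theorem L459333 : N37788 = N15983 := eqc rfl L459332 rfl
theorem L459346 : sm gi N15983 = N26049 := trfs L459333 L319757 rfl
theorem L459347 : N26049 = N23277 := eqes L459346 L197992
theorem L459348 : N26049 = N23277 := eqc rfl L459347 rfl
theorem L459367 : sm gh N23277 = N37990 := trfs L459348 L321454 rfl
theorem L459368 : N37990 = N33932 := eqes L459367 L287851
theorem L459369 : N37990 = N33932 := eqc rfl L459368 rfl
theorem L459370 : sm ga N33932 = N26100 := trfs L459369 L321456 rfl
theorem L459371 : N26100 = N26163 := eqes L459370 L287853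
theorem L459372 : N26163 = N26100 := (eqc rfl L459371 rfl).symm
theorem L459377 : sm gj N33932 = N26050 := trfs L459369 L321461 rfl
theorem L459378 : N26050 = N23279 := eqes L459377 L287858
theorem L459379 : N26050 = N23279 := eqc rfl L459378 rfl
theorem L459387 : sm gd N23279 = N37991 := trfs L459379 L321463 rfl
theorem L459388 : N37991 = N29613 := eqes L459387 (flp_d L442885)
theorem L459389 : N37991 = N29613 := eqc rfl L459388 rfl
theorem L459391 : sm gf N23279 = N17886 := trfs L459379 L221024 rfl
theorem L459392 : N17886 = N15988 := eqes L459391 L198017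
theorem L459393 : N17886 = N15988 := eqc rfl L459392 rfl
theorem L459412 : sm gh N15988 = N12290 := trfs L459393 (flp_h L152174) rfl
theorem L459413 : N12290 = N10994 := eqes L459412 (flp_h L136374)
theorem L459414 : N12290 = N10994 := eqc rfl L459413 rfl
theorem L459416 : sm ga N10994 = N8477 := trfs L459414 L104889 rfl
theorem L459417 : N8477 = N8506 := eqes L459416 L94055
theorem L459418 : N8506 = N8477 := (eqc rfl L459417 rfl).symm
theorem L459423 : sm gd N10994 = N8462 := trfs L459414 L104892 rfl
theorem L459424 : N8462 = N7572 := eqes L459423 L94058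
theorem L459425 : N8462 = N7572 := eqc rfl L459424 rfl
theorem L459428 : sm gg N10994 = N8461 := trfs L459414 (flp_g L104887) rfl
theorem L459429 : N8461 = N7573 := eqes L459428 L94061
theorem L459430 : N8461 = N7573 := eqc rfl L459429 rfl
theorem L459433 : sm ga N7573 = N5845 := trfs L459430 L72475 rfl
theorem L459434 : N5845 = N5866 := eqes L459433 L65021
theorem L459435 : N5866 = N5845 := (eqc rfl L459434 rfl).symm
theorem L459440 : sm gd N7573 = N5835 := trfs L459430 (flp_d L72473) rfl
theorem L459441 : N5835 = N5224 := eqes L459440 L65024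
theorem L459442 : N5835 = N5224 := eqc rfl L459441 rfl
theorem L459447 : sm gi N7573 = N12230 := trfs L459430 (flp_i L104389) rfl
theorem L459448 : N12230 = N5223 := eqes L459447 (flp_i L65019)
theorem L459449 : N12230 = N5223 := eqc rfl L459448 rfl
theorem L459457 : sm gd N5223 = N8422 := trfs L459449 (flp_d L104383) rfl
theorem L459458 : N8422 = N3609 := eqes L459457 (flp_d L45014)
theorem L459459 : N8422 = N3609 := eqc rfl L459458 rfl
theorem L459465 : sm ga N3609 = N5816 := trfs L459459 L72149 rfl
theorem L459466 : N5816 = N2803 := eqes L459465 L31257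
theorem L459467 : N5816 = N2803 := eqc rfl L459466 rfl
theorem L459482 : sm gh N3609 = N12232 := trfs L459459 L104403 rfl
theorem L459483 : N12232 = N2497 := eqes L459482 (flp_h L31255)
theorem L459484 : N12232 = N2497 := eqc rfl L459483 rfl
theorem L459504 : sm gi N2497 = N17800 := trfs L459484 L151458 rfl
theorem L459505 : N17800 = N3592 := eqes L459504 (flp_i L31121)
theorem L459506 : N17800 = N3592 := eqc rfl L459505 rfl
theorem L459525 : sm gh N3592 = N12296 := trfs L459506 L151468 rfl
theorem L459526 : N12296 = N2871 := eqes L459525 (flp_h L457396)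
theorem L459527 : N12296 = N2871 := eqc rfl L459526 rfl
theorem L459548 : sm gi N2871 = N8463 := trfs L459527 (flp_i L104935) rfl
theorem L459549 : N8463 = N4127 := eqes L459548 (flp_i L35600)
theorem L459550 : N8463 = N4127 := eqc rfl L459549 rfl
theorem L459551 : sm ga N4127 = N5847 := trfs L459550 L72491 rfl
theorem L459552 : N5847 = N2858 := eqes L459551 L35597
theorem L459553 : N5847 = N2858 := eqc rfl L459552 rfl
theorem L459567 : sm gg N4127 = N12294 := trfs L459550 (flp_g L104927) rfl
theorem L459568 : N12294 = N5977 := eqes L459567 L51330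
theorem L459569 : N12294 = N5977 := eqc rfl L459568 rfl
theorem L459574 : sm ga N5977 = N8481 := trfs L459569 L104921 rfl
theorem L459575 : N8481 = N4137 := eqes L459574 L51332
theorem L459576 : N8481 = N4137 := eqc rfl L459575 rfl
theorem L459580 : sm gc N5977 = N8472 := trfs L459569 L104923 rfl
theorem L459581 : N8472 = N8666 := eqes L459580 (flp_c L74132)
theorem L459582 : N8472 = N7709 := eqc rfl L459581 L457257
theorem L459592 : sm gj N5977 = N17891 := trfs L459569 (flp_j L152224) rfl
theorem L459593 : N17891 = N8675 := eqes L459592 L74211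
theorem L459594 : N17891 = N8675 := eqc rfl L459593 rfl
theorem L459619 : sm gi N8675 = N26062 := trfs L459594 L221118 rfl
theorem L459620 : N26062 = N6021 := eqes L459619 L74219
theorem L459621 : N26062 = N6021 := eqc rfl L459620 rfl
theorem L459622 : sm ga N6021 = N8450 := trfs L459621 L221120 L445536
theorem L459623 : N8450 = N4171 := eqes L459622 L51682
theorem L459624 : N8450 = N4171 := eqc rfl L459623 rfl
theorem L459642 : sm gh N6021 = N37801 := trfs L459621 (flp_h L319875) rfl
theorem L459643 : N37801 = N8741 := eqes L459642 L74738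
theorem L459644 : N37801 = N8741 := eqc rfl L459643 rfl
theorem L459657 : sm gi N8741 = N25921 := trfs L459644 (flp_i L319864) rfl
theorem L459658 : N25921 = N12701 := eqes L459657 L108241
theorem L459659 : N25921 = N12701 := eqc rfl L459658 rfl
theorem L459677 : sm gh N12701 = N17797 := trfs L459659 (flp_h L219943) rfl
theorem L459678 : N17797 = N18353 := eqes L459677 (flp_h L156008)
theorem L459679 : N17797 = N7570 := eqc rfl L459678 L457140
theorem L459690 : sm ge N7570 = N12233 := trfs L459679 L151437 rfl
theorem L459691 : N12233 = N5225 := eqes L459690 L64995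
theorem L459692 : N12233 = N5225 := eqc rfl L459691 rfl
theorem L459709 : sm gi N5225 = N8464 := trfs L459692 L104420 rfl
theorem L459710 : N8464 = N7574 := eqes L459709 L65029
theorem L459711 : N8464 = N7574 := eqc rfl L459710 rfl
theorem L459714 : sm gb N7574 = N12283 := trfs L459711 (flp_b L104831) rfl
theorem L459715 : N12283 = N10987 := eqes L459714 (flp_b L93989)
theorem L459716 : N12283 = N10987 := eqc rfl L459715 rfl
theorem L459724 : sm gj N7574 = N5836 := trfs L459711 (flp_j L72499) rfl
theorem L459725 : N5836 = N5226 := eqes L459724 L65037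
theorem L459726 : N5836 = N5226 := eqc rfl L459725 rfl
theorem L459729 : sm ga N5226 = N4040 := trfs L459726 L50204 rfl
theorem L459730 : N4040 = N4055 := eqes L459729 L45045
theorem L459731 : N4055 = N4040 := (eqc rfl L459730 rfl).symm
theorem L459732 : sm gb N5226 = N8457 := trfs L459726 (flp_b L72445) rfl
theorem L459733 : N8457 = N7567 := eqes L459732 (flp_b L64966)
theorem L459734 : N8457 = N7567 := eqc rfl L459733 rfl
theorem L459735 : sm gc N5226 = N4035 := trfs L459726 L50206 rfl
theorem L459736 : N4035 = N3697 := eqes L459735 L45047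
theorem L459737 : N4035 = N3697 := eqc rfl L459736 rfl
theorem L459743 : sm gg N5226 = N4032 := trfs L459726 (flp_g L50202) rfl
theorem L459744 : N4032 = N3612 := eqes L459743 L45050
theorem L459745 : N4032 = N3612 := eqc rfl L459744 rfl
theorem L459757 : sm gf N3612 = N2791 := trfs L459745 (flp_f L34848) rfl
theorem L459758 : N2791 = N2500 := eqes L459757 L31290
theorem L459759 : N2791 = N2500 := eqc rfl L459758 rfl
theorem L459773 : sm gg N2500 = N3976 := trfs L459759 (flp_g L34418) rfl
theorem L459774 : N3976 = N3572 := eqes L459773 (flp_g L30944)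
theorem L459775 : N3976 = N3572 := eqc rfl L459774 rfl
theorem L459780 : sm gi N2500 = N4015 := trfs L459759 (flp_i L34715) rfl
theorem L459781 : N4015 = N1734 := eqes L459780 (flp_i L21761)
theorem L459782 : N4015 = N1734 := eqc rfl L459781 rfl
theorem L459795 : sm gh N1734 = N5810 := trfs L459782 L49988 rfl
theorem L459796 : N5810 = N1205 := eqes L459795 (flp_h L15172)
theorem L459797 : N5810 = N1205 := eqc rfl L459796 rfl
theorem L459816 : sm gi N1205 = N8426 := trfs L459797 L72181 rfl
theorem L459817 : N8426 = N1727 := eqes L459816 (flp_i L15118)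
theorem L459818 : N8426 = N1727 := eqc rfl L459817 rfl
theorem L459837 : sm gh N1727 = N5839 := trfs L459818 L72189 rfl
theorem L459838 : N5839 = N2488 := eqes L459837 L21664
theorem L459839 : N5839 = N1380 := eqc rfl L459838 L457411
theorem L459854 : sm gg N1380 = N8338 := trfs L459839 (flp_g L71500) rfl
theorem L459855 : N8338 = N1967 := eqes L459854 (flp_g L17161)
theorem L459856 : N8338 = N1967 := eqc rfl L459855 rfl
theorem L459879 : sm gi N1967 = N5751 := trfs L459856 (flp_i L71493) rfl
theorem L459880 : N5751 = N2825 := eqes L459879 (flp_i L24529)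
theorem L459881 : N5751 = N2825 := eqc rfl L459880 rfl
theorem L459882 : sm ga N2825 = N3981 := trfs L459881 L49533 rfl
theorem L459883 : N3981 = N1961 := eqes L459882 L24525
theorem L459884 : N3981 = N1961 := eqc rfl L459883 rfl
theorem L459899 : sm gj N2825 = N8250 := trfs L459881 (flp_j L70780) rfl
theorem L459900 : N8250 = N4056 := eqes L459899 (flp_j L35033)
theorem L459901 : N8250 = N4056 := eqc rfl L459900 rfl
theorem L459904 : sm ga N4056 = N5699 := trfs L459901 L70774 rfl
theorem L459905 : N5699 = N2808 := eqes L459904 L35030
theorem L459906 : N5699 = N2808 := eqc rfl L459905 rfl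
theorem L459918 : sm gh N4056 = N5694 := trfs L459901 (flp_h L70772) rfl
theorem L459919 : N5694 = N5127 := eqes L459918 (flp_h L457640)
theorem L459920 : N5694 = N5127 := eqc rfl L459919 rfl
theorem L459922 : sm ga N5127 = N3941 := trfs L459920 L49070 rfl
theorem L459923 : N3941 = N3948 := eqes L459922 L44181
theorem L459924 : N3948 = N3941 := (eqc rfl L459923 rfl).symm
theorem L459925 : sm gb N5127 = N8248 := trfs L459920 L70754 rfl
theorem L459926 : N8248 = N7422 := eqes L459925 (flp_b L63699)
theorem L459927 : N8248 = N7422 := eqc rfl L459926 rfl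
theorem L459938 : sm gi N5127 = N8232 := trfs L459920 (flp_i L70613) rfl
theorem L459939 : N8232 = N3545 := eqes L459938 (flp_i L44179)
theorem L459940 : N8232 = N3545 := eqc rfl L459939 rfl
theorem L459955 : sm gh N3545 = N11946 := trfs L459940 L102059 rfl
theorem L459956 : N11946 = N2456 := eqes L459955 (flp_h L30701)
theorem L459957 : N11946 = N2456 := eqc rfl L459956 rfl
theorem L459976 : sm gi N2456 = N17370 := trfs L459957 L147911 rfl
theorem L459977 : N17370 = N3538 := eqes L459976 (flp_i L30642)
theorem L459978 : N17370 = N3538 := eqc rfl L459977 rfl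
theorem L459988 : sm gd N3538 = N25281 := trfs L459978 (flp_d L214668) rfl
theorem L459989 : N25281 = N2452 := eqes L459988 (flp_d L30635)
theorem L459990 : N25281 = N2452 := eqc rfl L459989 rfl
theorem L459992 : sm gf N3538 = N25279 := trfs L459978 (flp_f L214649) rfl
theorem L459993 : N25279 = N5114 := eqes L459992 L44058
theorem L459994 : N25279 = N5114 := eqc rfl L459993 rfl
theorem L460016 : sm gh N5114 = N17411 := trfs L459994 L214653 rfl
theorem L460017 : N17411 = N7410 := eqes L460016 L63586
theorem L460018 : N17411 = N4068 := eqc rfl L460017 L457596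
theorem L460033 : sm gg N4068 = N25342 := trfs L460018 (flp_g L215222) rfl
theorem L460034 : N25342 = N5888 := eqes L460033 L50633
theorem L460035 : N25342 = N5888 := eqc rfl L460034 rfl
theorem L460054 : sm gi N5888 = N17409 := trfs L460035 (flp_i L215215) rfl
theorem L460055 : N17409 = N8512 := eqes L460054 (flp_i L72896)
theorem L460056 : N17409 = N8512 := eqc rfl L460055 rfl
theorem L460072 : sm gh N8512 = N11972 := trfs L460056 (flp_h L148271) rfl
theorem L460073 : N11972 = N10778 := eqes L460072 (flp_h L457799)
theorem L460074 : N11972 = N10778 := eqc rfl L460073 rfl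
theorem L460086 : sm gi N10778 = N17367 := trfs L460074 (flp_i L147890) rfl
theorem L460087 : N17367 = N7427 := eqes L460086 (flp_i L92166)
theorem L460088 : N17367 = N7427 := eqc rfl L460087 rfl
theorem L460101 : sm gh N7427 = N25277 := trfs L460088 L214625 rfl
theorem L460102 : N25277 = N5125 := eqes L460101 (flp_h L63744)
theorem L460103 : N25277 = N5125 := eqc rfl L460102 rfl
theorem L460111 : sm gd N5125 = N36839 := trfs L460103 L311930 rfl
theorem L460112 : N36839 = N3546 := eqes L460111 L44165
theorem L460113 : N36839 = N3546 := eqc rfl L460112 rfl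
theorem L460132 : sm gg N3546 = N25278 := trfs L460113 L311935 rfl
theorem L460133 : N25278 = N2457 := eqes L460132 (flp_g L30712)
theorem L460134 : N25278 = N2457 := eqc rfl L460133 rfl
theorem L460150 : sm gj N2457 = N17542 := trfs L460134 L214640 rfl
theorem L460151 : N17542 = N1718 := eqes L460150 L21396
theorem L460152 : N17542 = N1718 := eqc rfl L460151 rfl
theorem L460177 : sm gi N1718 = N25541 := trfs L460152 L216866 rfl
theorem L460178 : N25541 = N2467 := eqes L460177 (flp_i L21487)
theorem L460179 : N25541 = N2467 := eqc rfl L460178 rfl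
theorem L460200 : sm gh N2467 = N37234 := trfs L460179 L315258 rfl
theorem L460201 : N37234 = N3554 := eqes L460200 (flp_h L30789)
theorem L460202 : N37234 = N3554 := eqc rfl L460201 rfl
theorem L460209 : sm gf N3554 = N25544 := trfs L460202 L315262 rfl
theorem L460210 : N25544 = N2462 := eqes L460209 (flp_f L30783)
theorem L460211 : N25544 = N2462 := eqc rfl L460210 rfl
theorem L460231 : sm gj N2462 = N36845 := trfs L460211 (flp_j L311989) rfl
theorem L460232 : N36845 = N3534 := eqes L460231 (flp_j L30601)
theorem L460233 : N36845 = N3534 := eqc rfl L460232 rfl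
theorem L460236 : sm ga N3534 = N25303 := trfs L460233 L311986 rfl
theorem L460237 : N25303 = N2723 := eqes L460236 L30596
theorem L460238 : N25303 = N2723 := eqc rfl L460237 rfl
theorem L460239 : sm gd N3534 = N25347 := trfs L460233 L311991 rfl
theorem L460240 : N25347 = N5108 := eqes L460239 L44000
theorem L460241 : N25347 = N5108 := eqc rfl L460240 rfl
theorem L460258 : sm gh N5108 = N17413 := trfs L460241 (flp_h L215263) rfl
theorem L460259 : N17413 = N7399 := eqes L460258 L63476
theorem L460260 : N17413 = N1953 := eqc rfl L460259 L457592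
theorem L460270 : sm ge N1953 = N25346 := trfs L460260 (flp_e L215258) rfl
theorem L460271 : N25346 = N1356 := eqes L460270 (flp_e L17039)
theorem L460272 : N25346 = N1356 := eqc rfl L460271 rfl
theorem L460295 : sm gi N1356 = N17412 := trfs L460272 (flp_i L215252) rfl
theorem L460296 : N17412 = N1948 := eqes L460295 (flp_i L17000)
theorem L460297 : N17412 = N1948 := eqc rfl L460296 rfl
theorem L460311 : sm gj N1948 = N12105 := trfs L460297 L148306 rfl
theorem L460312 : N12105 = N1361 := eqes L460311 L16997
theorem L460313 : N12105 = N1361 := eqc rfl L460312 rfl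
theorem L460327 : sm gg N1361 = N8468 := trfs L460313 L103401 rfl
theorem L460328 : N8468 = N954 := eqes L460327 L11938
theorem L460329 : N8468 = N954 := eqc rfl L460328 rfl
theorem L460348 : sm gi N954 = N12303 := trfs L460329 L104995 rfl
theorem L460349 : N12303 = N662 := eqes L460348 L8403
theorem L460350 : N12303 = N662 := eqc rfl L460349 rfl
theorem L460365 : sm gh N662 = N17906 := trfs L460350 L152342 rfl
theorem L460366 : N17906 = N471 := eqes L460365 L5847
theorem L460367 : N17906 = N471 := eqc rfl L460366 rfl
theorem L460384 : sm gg N471 = N25642 := trfs L460367 (flp_g L217689) rfl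
theorem L460385 : N25642 = N681 := eqes L460384 (flp_g L5999)
theorem L460386 : N25642 = N681 := eqc rfl L460385 rfl
theorem L460402 : sm gf N681 = N37384 := trfs L460386 (flp_f L316471) rfl
theorem L460403 : N37384 = N681 := eqes L460402 L5998
theorem L460404 : N37384 = N681 := eqc rfl L460403 rfl
theorem L460413 : sm gh N681 = N25641 := trfs L460404 (flp_h L316466) rfl
theorem L460414 : N25641 = N949 := eqes L460413 (flp_h L8364)
theorem L460415 : N25641 = N949 := eqc rfl L460414 rfl
theorem L460429 : sm gg N949 = N37383 := trfs L460415 (flp_g L316464) rfl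
theorem L460430 : N37383 = N662 := eqes L460429 L8362
theorem L460431 : N37383 = N662 := eqc rfl L460430 rfl
theorem L460442 : sm gi N662 = N25640 := trfs L460431 (flp_i L316456) rfl
theorem L460443 : N25640 = N954 := eqes L460442 (flp_i L8403)
theorem L460444 : N25640 = N954 := eqc rfl L460443 rfl
theorem L460460 : sm gj N954 = N37382 := trfs L460444 L316447 rfl
theorem L460461 : N37382 = N954 := eqes L460460 L8401
theorem L460462 : N37382 = N954 := eqc rfl L460461 rfl
theorem L460469 : sm gf N954 = N26080 := trfs L460462 L316453 rfl
theorem L460470 : N26080 = N667 := eqes L460469 L8399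
theorem L460471 : N26080 = N667 := eqc rfl L460470 rfl
theorem L460487 : sm gi N667 = N38037 := trfs L460471 L321855 rfl
theorem L460488 : N38037 = N461 := eqes L460487 L5884
theorem L460489 : N38037 = N461 := eqc rfl L460488 rfl
theorem L460490 : sm ga N461 = N26143 := trfs L460489 L321857 rfl
theorem L460491 : N26143 = N314 := eqes L460490 (flp_a L4071)
theorem L460492 : N26143 = N314 := eqc rfl L460491 rfl
theorem L460512 : sm gh N314 = N38123 := trfs L460492 L322576 rfl
theorem L460513 : N38123 = N221 := eqes L460512 L2788
theorem L460514 : N38123 = N221 := eqc rfl L460513 rfl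
theorem L460521 : sm gj N221 = N26144 := trfs L460514 L322582 rfl
theorem L460522 : N26144 = N221 := eqes L460521 L1970
theorem L460523 : N26144 = N221 := eqc rfl L460522 rfl
theorem L460541 : sm gg N221 = N17951 := trfs L460523 L221812 rfl
theorem L460542 : N17951 = N221 := eqes L460541 L1969
theorem L460543 : N17951 = N221 := eqc rfl L460542 rfl
theorem L460559 : sm gh N221 = N12334 := trfs L460543 (flp_h L152712) rfl
theorem L460560 : N12334 = N314 := eqes L460559 (flp_h L2788)
theorem L460561 : N12334 = N314 := eqc rfl L460560 rfl
theorem L460575 : sm gi N314 = N8489 := trfs L460561 (flp_i L105250) rfl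
theorem L460576 : N8489 = N458 := eqes L460575 (flp_i L4051)
theorem L460577 : N8489 = N458 := eqc rfl L460576 rfl
theorem L460588 : sm gg N458 = N12333 := trfs L460577 L105243 rfl
theorem L460589 : N12333 = N458 := eqes L460588 L4048
theorem L460590 : N12333 = N458 := eqc rfl L460589 rfl
theorem L460599 : sm ge N458 = N17946 := trfs L460590 (flp_e L152674) rfl
theorem L460600 : N17946 = N668 := eqes L460599 L5886
theorem L460601 : N17946 = N668 := eqc rfl L460600 rfl
theorem L460624 : sm gi N668 = N26140 := trfs L460601 L221772 rfl
theorem L460625 : N26140 = N462 := eqes L460624 L5894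
theorem L460626 : N26140 = N462 := eqc rfl L460625 rfl
theorem L460634 : sm gd N462 = N38109 := trfs L460626 (flp_d L322464) rfl
theorem L460635 : N38109 = N673 := eqes L460634 L5929
theorem L460636 : N38109 = N673 := eqc rfl L460635 rfl
theorem L460652 : sm gg N673 = N26131 := trfs L460636 L322467 rfl
theorem L460653 : N26131 = N673 := eqes L460652 L5933
theorem L460654 : N26131 = N673 := eqc rfl L460653 rfl
theorem L460672 : sm gi N673 = N17938 := trfs L460654 (flp_i L221694) rfl
theorem L460673 : N17938 = N967 := eqes L460672 (flp_i L8505)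
theorem L460674 : N17938 = N967 := eqc rfl L460673 rfl
theorem L460691 : sm gh N967 = N26110 := trfs L460674 (flp_h L221529) rfl
theorem L460692 : N26110 = N1395 := eqes L460691 L12200
theorem L460693 : N26110 = N1395 := eqc rfl L460692 rfl
theorem L460708 : sm gg N1395 = N38080 := trfs L460693 L322223 rfl
theorem L460709 : N38080 = N1395 := eqes L460708 L12205
theorem L460710 : N38080 = N1395 := eqc rfl L460709 rfl
theorem L460713 : sm gb N1395 = N26932 := trfs L460710 L322225 rfl
theorem L460714 : N26932 = N970 := eqes L460713 L12202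
theorem L460715 : N26932 = N970 := eqc rfl L460714 rfl
theorem L460732 : sm gh N970 = N18508 := trfs L460715 L228198 rfl
theorem L460733 : N18508 = N669 := eqes L460732 (flp_h L8525)
theorem L460734 : N18508 = N669 := eqc rfl L460733 rfl
theorem L460747 : sm gj N669 = N26948 := trfs L460734 L228306 rfl
theorem L460748 : N26948 = N669 := eqes L460747 L5899
theorem L460749 : N26948 = N669 := eqc rfl L460748 rfl
theorem L460767 : sm gi N669 = N39287 := trfs L460749 L331948 rfl
theorem L460768 : N39287 = N463 := eqes L460767 L5900
theorem L460769 : N39287 = N463 := eqc rfl L460768 rfl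
theorem L460771 : sm gd N463 = N26959 := trfs L460769 L331951 rfl
theorem L460772 : N26959 = N315 := eqes L460771 (flp_d L4088)
theorem L460773 : N26959 = N315 := eqc rfl L460772 rfl
theorem L460790 : sm gh N315 = N39299 := trfs L460773 L332035 rfl
theorem L460791 : N39299 = N222 := eqes L460790 L2797
theorem L460792 : N39299 = N222 := eqc rfl L460791 rfl
theorem L460799 : sm gj N222 = N26960 := trfs L460792 L332042 rfl
theorem L460800 : N26960 = N222 := eqes L460799 L1978
theorem L460801 : N26960 = N222 := eqc rfl L460800 rfl
theorem L460813 : sm gg N222 = N18519 := trfs L460801 L228399 rfl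
theorem L460814 : N18519 = N222 := eqes L460813 L1977
theorem L460815 : N18519 = N222 := eqc rfl L460814 rfl
theorem L460831 : sm gh N222 = N12727 := trfs L460815 (flp_h L157308) rfl
theorem L460832 : N12727 = N315 := eqes L460831 (flp_h L2797)
theorem L460833 : N12727 = N315 := eqc rfl L460832 rfl
theorem L460849 : sm gi N315 = N8760 := trfs L460833 (flp_i L108428) rfl
theorem L460850 : N8760 = N459 := eqes L460849 (flp_i L4061)
theorem L460851 : N8760 = N459 := eqc rfl L460850 rfl
theorem L460861 : sm gf N459 = N6036 := trfs L460851 (flp_f L74880) rfl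
theorem L460862 : N6036 = N670 := eqes L460861 L5904
theorem L460863 : N6036 = N670 := eqc rfl L460862 rfl
theorem L460879 : sm ge N670 = N4166 := trfs L460863 (flp_e L51791) rfl
theorem L460880 : N4166 = N957 := eqes L460879 (flp_e L8428)
theorem L460881 : N4166 = N957 := eqc rfl L460880 rfl
theorem L460902 : sm gi N957 = N6037 := trfs L460881 L51797 rfl
theorem L460903 : N6037 = N665 := eqes L460902 L8426
theorem L460904 : N6037 = N665 := eqc rfl L460903 rfl
theorem L460925 : sm gh N665 = N8762 := trfs L460904 L74895 rfl
theorem L460926 : N8762 = N474 := eqes L460925 L5866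
theorem L460927 : N8762 = N474 := eqc rfl L460926 rfl
theorem L460944 : sm gg N474 = N12725 := trfs L460927 (flp_g L108418) rfl
theorem L460945 : N12725 = N691 := eqes L460944 L6070
theorem L460946 : N12725 = N691 := eqc rfl L460945 rfl
theorem L460962 : sm gf N691 = N18269 := trfs L460946 (flp_f L155307) rfl
theorem L460963 : N18269 = N991 := eqes L460962 (flp_f L8697)
theorem L460964 : N18269 = N991 := eqc rfl L460963 rfl
theorem L460985 : sm gh N991 = N12048 := trfs L460964 (flp_h L155303) L445353
theorem L460986 : N12048 = N1371 := eqes L460985 (flp_h L12017)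
theorem L460987 : N12048 = N1371 := eqc rfl L460986 rfl
theorem L461000 : sm gi N1371 = N8634 := trfs L460987 L149212 L445334
theorem L461001 : N8634 = N1965 := eqes L461000 (flp_i L17144)
theorem L461002 : N8634 = N1965 := eqc rfl L461001 rfl
theorem L461007 : sm gc N1965 = N6164 := trfs L461002 L73892 rfl
theorem L461008 : N6164 = N1365 := eqes L461007 L17140
theorem L461009 : N6164 = N1365 := eqc rfl L461008 rfl
theorem L461032 : sm gi N1365 = N8937 := trfs L461009 L76391 rfl
theorem L461033 : N8937 = N953 := eqes L461032 L11973
theorem L461034 : N8937 = N953 := eqc rfl L461033 rfl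
theorem L461052 : sm gj N953 = N12967 := trfs L461034 (flp_j L110460) rfl
theorem L461053 : N12967 = N1372 := eqes L461052 L12021
theorem L461054 : N12967 = N1372 := eqc rfl L461053 rfl
theorem L461071 : sm gh N1372 = N18860 := trfs L461054 L160174 rfl
theorem L461072 : N18860 = N992 := eqes L461071 L12027
theorem L461073 : N18860 = N992 := eqc rfl L461072 rfl
theorem L461082 : sm gf N992 = N13026 := trfs L461073 L160177 rfl
theorem L461083 : N13026 = N692 := eqes L461082 L8704
theorem L461084 : N13026 = N692 := eqc rfl L461083 rfl
theorem L461088 : sm ga N692 = N18918 := trfs L461084 (flp_a L160641) rfl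
theorem L461089 : N18918 = N881 := eqes L461088 (flp_a L7792)
theorem L461090 : N18918 = N881 := eqc rfl L461089 rfl
theorem L461114 : sm gh N881 = N13013 := trfs L461090 (flp_h L160639) rfl
theorem L461115 : N13013 = N1232 := eqes L461114 (flp_h L10846)
theorem L461116 : N13013 = N1232 := eqc rfl L461115 rfl
theorem L461136 : sm gi N1232 = N8970 := trfs L461116 (flp_i L110813) rfl
theorem L461137 : N8970 = N1763 := eqes L461136 (flp_i L15447)
theorem L461138 : N8970 = N1763 := eqc rfl L461137 rfl
theorem L461154 : sm gj N1763 = N6192 := trfs L461138 L76647 rfl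
theorem L461155 : N6192 = N1225 := eqes L461154 (flp_j L15440)
theorem L461156 : N6192 = N1225 := eqc rfl L461155 rfl
theorem L461172 : sm gg N1225 = N4285 := trfs L461156 L53106 rfl
theorem L461173 : N4285 = N850 := eqes L461172 (flp_g L10782)
theorem L461174 : N4285 = N850 := eqc rfl L461173 rfl
theorem L461193 : sm gi N850 = N6195 := trfs L461174 L53126 rfl
theorem L461194 : N6195 = N590 := eqes L461193 L7521
theorem L461195 : N6195 = N590 := eqc rfl L461194 rfl
theorem L461212 : sm gh N590 = N8976 := trfs L461195 L76694 rfl
theorem L461213 : N8976 = N415 := eqes L461212 L5229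
theorem L461214 : N8976 = N415 := eqc rfl L461213 rfl
theorem L461224 : sm gf N415 = N6198 := trfs L461214 L76698 rfl
theorem L461225 : N6198 = N282 := eqes L461224 (flp_f L3682)
theorem L461226 : N6198 = N282 := eqc rfl L461225 rfl
theorem L461243 : sm gg N282 = N8917 := trfs L461226 (flp_g L76235) rfl
theorem L461244 : N8917 = N412 := eqes L461243 (flp_g L3662)
theorem L461245 : N8917 = N412 := eqc rfl L461244 rfl
theorem L461267 : sm gh N412 = N6150 := trfs L461245 (flp_h L76231) rfl
theorem L461268 : N6150 = N585 := eqes L461267 (flp_h L5186)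
theorem L461269 : N6150 = N585 := eqc rfl L461268 rfl
theorem L461292 : sm gi N585 = N4251 := trfs L461269 (flp_i L52768) rfl
theorem L461293 : N4251 = N844 := eqes L461292 (flp_i L7469)
theorem L461294 : N4251 = N844 := eqc rfl L461293 rfl
theorem L461314 : sm gj N844 = N6106 := trfs L461294 (flp_j L52383) rfl
theorem L461315 : N6106 = N1209 := eqes L461314 (flp_j L10638)
theorem L461316 : N6106 = N1209 := eqc rfl L461315 rfl
theorem L461333 : sm gf N1209 = N8850 := trfs L461316 (flp_f L75648) rfl
theorem L461334 : N8850 = N1739 := eqes L461333 L15220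
theorem L461335 : N8850 = N1739 := eqc rfl L461334 rfl
theorem L461355 : sm gi N1739 = N12846 := trfs L461335 L109440 rfl
theorem L461356 : N12846 = N1212 := eqes L461355 L15227
theorem L461357 : N12846 = N1212 := eqc rfl L461356 rfl
theorem L461374 : sm gh N1212 = N18684 := trfs L461357 L158726 rfl
theorem L461375 : N18684 = N869 := eqes L461374 L10669
theorem L461376 : N18684 = N869 := eqc rfl L461375 rfl
theorem L461387 : sm gg N869 = N27189 := trfs L461376 (flp_g L230365) rfl
theorem L461388 : N27189 = N1252 := eqes L461387 L11025
theorem L461389 : N27189 = N1252 := eqc rfl L461388 rfl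
theorem L461402 : sm gj N1252 = N39629 := trfs L461389 (flp_j L334889) rfl
theorem L461403 : N39629 = N1800 := eqes L461402 L15765
theorem L461404 : N39629 = N1800 := eqc rfl L461403 rfl
theorem L461411 : sm gh N1800 = N27186 := trfs L461404 (flp_h L334882) rfl
theorem L461412 : N27186 = N2513 := eqes L461411 (flp_h L21894)
theorem L461413 : N27186 = N2513 := eqc rfl L461412 rfl
theorem L461429 : sm gi N2513 = N18678 := trfs L461413 (flp_i L230335) rfl
theorem L461430 : N18678 = N3619 := eqes L461429 (flp_i L31362)
theorem L461431 : N18678 = N3619 := eqc rfl L461430 rfl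
theorem L461437 : sm gd N3619 = N12842 := trfs L461431 (flp_d L158671) rfl
theorem L461438 : N12842 = N5117 := eqes L461437 (flp_d L44093)
theorem L461439 : N12842 = N5117 := eqc rfl L461438 rfl
theorem L461449 : sm gc N5117 = N8859 := trfs L461439 L109408 rfl
theorem L461450 : N8859 = N7412 := eqes L461449 (flp_c L63612)
theorem L461451 : N8859 = N7412 := eqc rfl L461450 rfl
theorem L461462 : sm gh N5117 = N8848 := trfs L461439 (flp_h L109404) rfl
theorem L461463 : N8848 = N7401 := eqes L461462 (flp_h L63502)
theorem L461464 : N8848 = N7401 := eqc rfl L461463 rfl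
theorem L461466 : sm ga N7401 = N6116 := trfs L461464 L75626 rfl
theorem L461467 : N6116 = N5682 := eqes L461466 L63498
theorem L461468 : N6116 = N5682 := eqc rfl L461467 rfl
theorem L461472 : sm gc N7401 = N6110 := trfs L461464 L75628 rfl
theorem L461473 : N6110 = N10737 := eqes L461472 (flp_c L91775)
theorem L461474 : N10737 = N6110 := (eqc rfl L461473 rfl).symm
theorem L461480 : sm gg N7401 = N6145 := trfs L461464 L75633 rfl
theorem L461481 : N6145 = N5140 := eqes L461480 L63505
theorem L461482 : N6145 = N5140 := eqc rfl L461481 rfl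
theorem L461483 : sm gj N7401 = N6104 := trfs L461464 (flp_j L75624) rfl
theorem L461484 : N6104 = N5110 := eqes L461483 (flp_j L63496)
theorem L461485 : N6104 = N5110 := eqc rfl L461484 rfl
theorem L461487 : sm ga N5110 = N4230 := trfs L461485 L52361 rfl
theorem L461488 : N4230 = N3931 := eqes L461487 L44022
theorem L461489 : N4230 = N3931 := eqc rfl L461488 rfl
theorem L461493 : sm gc N5110 = N4225 := trfs L461485 L52363 rfl
theorem L461494 : N4225 = N7400 := eqes L461493 (flp_c L63490)
theorem L461495 : N7400 = N4225 := (eqc rfl L461494 rfl).symm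
theorem L461497 : sm ge N5110 = N8846 := trfs L461485 (flp_e L75609) rfl
theorem L461498 : N8846 = N7321 := eqes L461497 (flp_e L62791)
theorem L461499 : N8846 = N7321 := eqc rfl L461498 rfl
theorem L461501 : sm gg N5110 = N4222 := trfs L461485 (flp_g L52359) rfl
theorem L461502 : N4222 = N3535 := eqes L461501 (flp_g L44020)
theorem L461503 : N4222 = N3535 := eqc rfl L461502 rfl
theorem L461506 : sm ga N3535 = N2927 := trfs L461503 L36363 rfl
theorem L461507 : N2927 = N2724 := eqes L461506 L30608
theorem L461508 : N2927 = N2724 := eqc rfl L461507 rfl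
theorem L461512 : sm gc N3535 = N2924 := trfs L461503 L36365 rfl
theorem L461513 : N2924 = N5109 := eqes L461512 (flp_c L44013)
theorem L461514 : N5109 = N2924 := (eqc rfl L461513 rfl).symm
theorem L461516 : sm ge N3535 = N6103 := trfs L461503 L52348 rfl
theorem L461517 : N6103 = N5057 := eqes L461516 (flp_e L43553)
theorem L461518 : N6103 = N5057 := eqc rfl L461517 rfl
theorem L461519 : sm gf N3535 = N2923 := trfs L461503 (flp_f L36361) rfl
theorem L461520 : N2923 = N2450 := eqes L461519 (flp_f L30606)
theorem L461521 : N2923 = N2450 := eqc rfl L461520 rfl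
theorem L461522 : sm gj N3535 = N2940 := trfs L461503 L36368 rfl
theorem L461523 : N2940 = N2463 := eqes L461522 L30611
theorem L461524 : N2940 = N2463 := eqc rfl L461523 rfl
theorem L461527 : sm ga N2463 = N2045 := trfs L461524 L25443 rfl
theorem L461528 : N2045 = N1907 := eqes L461527 L21447
theorem L461529 : N2045 = N1907 := eqc rfl L461528 rfl
theorem L461533 : sm gc N2463 = N2042 := trfs L461524 L25445 rfl
theorem L461534 : N2042 = N3554 := eqes L461533 (flp_c L30787)
theorem L461535 : N3554 = N2042 := (eqc rfl L461534 rfl).symm
theorem L461537 : sm ge N2463 = N4248 := trfs L461524 L36589 rfl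
theorem L461538 : N4248 = N3518 := eqes L461537 (flp_e L30461)
theorem L461539 : N4248 = N3518 := eqc rfl L461538 rfl
theorem L461540 : sm gf N2463 = N2041 := trfs L461524 (flp_f L25441) rfl
theorem L461541 : N2041 = N1711 := eqes L461540 (flp_f L21445)
theorem L461542 : N2041 = N1711 := eqc rfl L461541 rfl
theorem L461543 : sm gg N2463 = N4249 := trfs L461524 L36598 rfl
theorem L461544 : N4249 = N3555 := eqes L461543 L30792
theorem L461545 : N4249 = N3555 := eqc rfl L461544 rfl
theorem L461546 : sm gh N2463 = N4250 := trfs L461524 L36608 rfl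
theorem L461547 : N4250 = N1714 := eqes L461546 L21450
theorem L461548 : N4250 = N1714 := eqc rfl L461547 rfl
theorem L461568 : sm gi N1714 = N6148 := trfs L461548 L52750 rfl
theorem L461569 : N6148 = N1196 := eqes L461568 L15009
theorem L461570 : N6148 = N1196 := eqc rfl L461569 rfl
theorem L461585 : sm gg N1196 = N8912 := trfs L461570 (flp_g L76198) rfl
theorem L461586 : N8912 = N1719 := eqes L461585 L15042
theorem L461587 : N8912 = N1719 := eqc rfl L461586 rfl
theorem L461604 : sm gj N1719 = N12933 := trfs L461587 (flp_j L110201) rfl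
theorem L461605 : N12933 = N2475 := eqes L461604 L21547
theorem L461606 : N12933 = N2475 := eqc rfl L461605 rfl
theorem L461615 : sm ge N2475 = N18799 := trfs L461606 (flp_e L159708) rfl
theorem L461616 : N18799 = N3530 := eqes L461615 (flp_e L30560)
theorem L461617 : N18799 = N3530 := eqc rfl L461616 rfl
theorem L461638 : sm gi N3530 = N12926 := trfs L461617 (flp_i L159702) rfl
theorem L461639 : N12926 = N5091 := eqes L461638 (flp_i L43862)
theorem L461640 : N12926 = N5091 := eqc rfl L461639 rfl
theorem L461645 : sm gc N5091 = N8918 := trfs L461640 L110136 rfl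
theorem L461646 : N8918 = N7373 := eqes L461645 (flp_c L63255)
theorem L461647 : N8918 = N7373 := eqc rfl L461646 rfl
theorem L461657 : sm gh N5091 = N8906 := trfs L461640 (flp_h L110132) rfl
theorem L461658 : N8906 = N7362 := eqes L461657 (flp_h L63162)
theorem L461659 : N8906 = N7362 := eqc rfl L461658 rfl
theorem L461660 : sm ga N7362 = N6159 := trfs L461659 L76135 rfl
theorem L461661 : N6159 = N5640 := eqes L461660 L63157
theorem L461662 : N6159 = N5640 := eqc rfl L461661 rfl
theorem L461664 : sm gc N7362 = N6151 := trfs L461659 L76137 rfl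
theorem L461665 : N6151 = N10678 := eqes L461664 (flp_c L91264)
theorem L461666 : N10678 = N6151 := (eqc rfl L461665 rfl).symm
theorem L461673 : sm gj N7362 = N6143 := trfs L461659 (flp_j L76133) rfl
theorem L461674 : N6143 = N5084 := eqes L461673 (flp_j L63155)
theorem L461675 : N6143 = N5084 := eqc rfl L461674 rfl
theorem L461683 : sm gc N5084 = N4253 := trfs L461675 L52707 rfl
theorem L461684 : N4253 = N7361 := eqes L461683 (flp_c L63147)
theorem L461685 : N7361 = N4253 := (eqc rfl L461684 rfl).symm
theorem L461686 : sm gd N5084 = N8904 := trfs L461675 (flp_d L76120) rfl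
theorem L461687 : N8904 = N7355 := eqes L461686 (flp_d L63098)
theorem L461688 : N8904 = N7355 := eqc rfl L461687 rfl
theorem L461707 : sm gh N7355 = N12923 := trfs L461688 L110106 rfl
theorem L461708 : N12923 = N7355 := eqes L461707 L63101
theorem L461709 : N12923 = N7355 := eqc rfl L461708 rfl
theorem L461729 : sm gi N7355 = N18794 := trfs L461709 L159661 rfl
theorem L461730 : N18794 = N7355 := eqes L461729 L63102
theorem L461731 : N18794 = N7355 := eqc rfl L461730 rfl
theorem L461747 : sm gj N7355 = N27349 := trfs L461731 (flp_j L231724) rfl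
theorem L461748 : N27349 = N10667 := eqes L461747 L91172
theorem L461749 : N27349 = N10667 := eqc rfl L461748 rfl
theorem L461763 : sm gg N10667 = N39594 := trfs L461749 (flp_g L334562) rfl
theorem L461764 : N39594 = N15413 := eqes L461763 (flp_g L131308)
theorem L461765 : N39594 = N15413 := eqc rfl L461764 rfl
theorem L461777 : sm gi N15413 = N27165 := trfs L461765 (flp_i L334556) rfl
theorem L461778 : N27165 = N15413 := eqes L461777 L131307
theorem L461779 : N27165 = N15413 := eqc rfl L461778 rfl
theorem L461798 : sm gh N15413 = N18666 := trfs L461779 (flp_h L230135) rfl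
theorem L461799 : N18666 = N15413 := eqes L461798 L131306
theorem L461800 : N18666 = N15413 := eqc rfl L461799 rfl
theorem L461814 : sm gj N15413 = N12835 := trfs L461800 (flp_j L158552) rfl
theorem L461815 : N12835 = N10609 := eqes L461814 (flp_j L131299)
theorem L461816 : N12835 = N10609 := eqc rfl L461815 rfl
theorem L461830 : sm gg N10609 = N8845 := trfs L461816 (flp_g L109333) rfl
theorem L461831 : N8845 = N7316 := eqes L461830 (flp_g L90646)
theorem L461832 : N8845 = N7316 := eqc rfl L461831 rfl
theorem L461848 : sm gh N7316 = N12836 := trfs L461832 L109342 rfl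
theorem L461849 : N12836 = N7316 := eqes L461848 L62744
theorem L461850 : N12836 = N7316 := eqc rfl L461849 rfl
theorem L461868 : sm gi N7316 = N18669 := trfs L461850 L158581 rfl
theorem L461869 : N18669 = N7316 := eqes L461868 L62745
theorem L461870 : N18669 = N7316 := eqc rfl L461869 rfl
theorem L461882 : sm gf N7316 = N13058 := trfs L461870 L158587 rfl
theorem L461883 : N13058 = N5054 := eqes L461882 (flp_f L62736)
theorem L461884 : N13058 = N5054 := eqc rfl L461883 rfl
theorem L461904 : sm gj N5054 = N9066 := trfs L461884 L111210 rfl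
theorem L461905 : N9066 = N3515 := eqes L461904 L43518
theorem L461906 : N9066 = N3515 := eqc rfl L461905 rfl
theorem L461925 : sm gi N3515 = N6260 := trfs L461906 (flp_i L77463) rfl
theorem L461926 : N6260 = N3515 := eqes L461925 L30433
theorem L461927 : N6260 = N3515 := eqc rfl L461926 rfl
theorem L461944 : sm gh N3515 = N4333 := trfs L461927 (flp_h L53687) rfl
theorem L461945 : N4333 = N3515 := eqes L461944 L30432
theorem L461946 : N4333 = N3515 := eqc rfl L461945 rfl
theorem L461954 : sm gd N3515 = N3004 := trfs L461946 (flp_d L37303) rfl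
theorem L461955 : N3004 = N2439 := eqes L461954 L30434
theorem L461956 : N3004 = N2439 := eqc rfl L461955 rfl
theorem L461957 : sm ge N3515 = N3060 := trfs L461946 L37310 rfl
theorem L461958 : N3060 = N2437 := eqes L461957 (flp_e L30427)
theorem L461959 : N3060 = N2437 := eqc rfl L461958 rfl
theorem L461971 : sm gd N2437 = N2129 := trfs L461959 (flp_d L26464) rfl
theorem L461972 : N2129 = N1695 := eqes L461971 (flp_d L21211)
theorem L461973 : N2129 = N1695 := eqc rfl L461972 rfl
theorem L461976 : sm gj N2437 = N4368 := trfs L461959 (flp_j L37594) rfl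
theorem L461977 : N4368 = N3498 := eqes L461976 (flp_j L30275)
theorem L461978 : N4368 = N3498 := eqc rfl L461977 rfl
theorem L461988 : sm gd N3498 = N3029 := trfs L461978 (flp_d L37589) rfl
theorem L461989 : N3029 = N2426 := eqes L461988 (flp_d L30270)
theorem L461990 : N3029 = N2426 := eqc rfl L461989 rfl
theorem L461996 : sm gh N3498 = N6309 := trfs L461978 L54089 rfl
theorem L461997 : N6309 = N3498 := eqes L461996 L30278
theorem L461998 : N6309 = N3498 := eqc rfl L461997 rfl
theorem L462012 : sm gg N3498 = N9134 := trfs L461998 (flp_g L78031) rfl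
theorem L462013 : N9134 = N5037 := eqes L462012 (flp_g L43354)
theorem L462014 : N9134 = N5037 := eqc rfl L462013 rfl
theorem L462035 : sm gi N5037 = N13244 := trfs L462014 L112770 rfl
theorem L462036 : N13244 = N5037 := eqes L462035 L43357
theorem L462037 : N13244 = N5037 := eqc rfl L462036 rfl
theorem L462049 : sm gf N5037 = N19242 := trfs L462037 (flp_f L163390) rfl
theorem L462050 : N19242 = N7289 := eqes L462049 (flp_f L62475)
theorem L462051 : N19242 = N7289 := eqc rfl L462050 rfl
theorem L462065 : sm ge N7289 = N27983 := trfs L462051 (flp_e L237011) rfl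
theorem L462066 : N27983 = N10567 := eqes L462065 L90244
theorem L462067 : N27983 = N10567 := eqc rfl L462066 rfl
theorem L462088 : sm gi N10567 = N19240 := trfs L462067 (flp_i L237006) rfl
theorem L462089 : N19240 = N10567 := eqes L462088 L90251
theorem L462090 : N19240 = N10567 := eqc rfl L462089 rfl
theorem L462107 : sm gh N10567 = N13241 := trfs L462090 (flp_h L163366) rfl
theorem L462108 : N13241 = N10567 := eqes L462107 L90250
theorem L462109 : N13241 = N10567 := eqc rfl L462108 rfl
theorem L462121 : sm gf N10567 = N18973 := trfs L462109 (flp_f L161133) rfl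
theorem L462122 : N18973 = N15350 := eqes L462121 L130698
theorem L462123 : N18973 = N15350 := eqc rfl L462122 rfl
theorem L462138 : sm gg N15350 = N27162 := trfs L462123 (flp_g L230110) rfl
theorem L462139 : N27162 = N22329 := eqes L462138 L189630
theorem L462140 : N27162 = N22329 := eqc rfl L462139 rfl
theorem L462157 : sm gh N22329 = N39589 := trfs L462140 L334506 rfl
theorem L462158 : N39589 = N22329 := eqes L462157 L189637
theorem L462159 : N39589 = N22329 := eqc rfl L462158 rfl
theorem L462165 : sm ge N22329 = N27164 := trfs L462159 L334511 rfl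
theorem L462166 : N27164 = N15355 := eqes L462165 L189635
theorem L462167 : N27164 = N15355 := eqc rfl L462166 rfl
theorem L462186 : sm gi N15355 = N39592 := trfs L462167 L334536 rfl
theorem L462187 : N39592 = N15355 := eqes L462186 L130752
theorem L462188 : N39592 = N15355 := eqc rfl L462187 rfl
theorem L462194 : sm gg N15355 = N27602 := trfs L462188 L334543 rfl
theorem L462195 : N27602 = N10570 := eqes L462194 (flp_g L130745)
theorem L462196 : N27602 = N10570 := eqc rfl L462195 rfl
theorem L462205 : sm gd N10570 = N40214 := trfs L462196 (flp_d L339770) rfl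
theorem L462206 : N40214 = N7294 := eqes L462205 L90275
theorem L462207 : N40214 = N7294 := eqc rfl L462206 rfl
theorem L462220 : sm gi N7294 = N27601 := trfs L462207 (flp_i L339766) rfl
theorem L462221 : N27601 = N7294 := eqes L462220 L62529
theorem L462222 : N27601 = N7294 := eqc rfl L462221 rfl
theorem L462241 : sm gh N7294 = N18980 := trfs L462222 L233806 rfl
theorem L462242 : N18980 = N5042 := eqes L462241 L62527
theorem L462243 : N18980 = N5042 := eqc rfl L462242 rfl
theorem L462266 : sm gi N5042 = N27614 := trfs L462243 L233917 rfl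
theorem L462267 : N27614 = N3493 := eqes L462266 L43406
theorem L462268 : N27614 = N3493 := eqc rfl L462267 rfl
theorem L462291 : sm gh N3493 = N40236 := trfs L462268 L339967 rfl
theorem L462292 : N40236 = N3493 := eqes L462291 L30221
theorem L462293 : N40236 = N3493 := eqc rfl L462292 rfl
theorem L462298 : sm gf N3493 = N27620 := trfs L462293 L339971 rfl
theorem L462299 : N27620 = N2422 := eqes L462298 (flp_f L30215)
theorem L462300 : N27620 = N2422 := eqc rfl L462299 rfl
theorem L462320 : sm gi N2422 = N40220 := trfs L462300 (flp_i L339832) rfl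
theorem L462321 : N40220 = N3490 := eqes L462320 (flp_i L30194)
theorem L462322 : N40220 = N3490 := eqc rfl L462321 rfl
theorem L462327 : sm gg N3490 = N27611 := trfs L462322 L339828 rfl
theorem L462328 : N27611 = N2429 := eqes L462327 L30191
theorem L462329 : N27611 = N2429 := eqc rfl L462328 rfl
theorem L462348 : sm gj N2429 = N19109 := trfs L462329 L233897 rfl
theorem L462349 : N19109 = N1698 := eqes L462348 L21136
theorem L462350 : N19109 = N1698 := eqc rfl L462349 rfl
theorem L462371 : sm gi N1698 = N13154 := trfs L462350 L162282 rfl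
theorem L462372 : N13154 = N1184 := eqes L462371 L14863
theorem L462373 : N13154 = N1184 := eqc rfl L462372 rfl
theorem L462392 : sm gh N1184 = N9069 := trfs L462373 (flp_h L112013) rfl
theorem L462393 : N9069 = N1184 := eqes L462392 L10417
theorem L462394 : N9069 = N1184 := eqc rfl L462393 rfl
theorem L462417 : sm gi N1184 = N6261 := trfs L462394 (flp_i L77486) rfl
theorem L462418 : N6261 = N1698 := eqes L462417 (flp_i L14863)
theorem L462419 : N6261 = N1698 := eqc rfl L462418 rfl
theorem L462439 : sm gj N1698 = N9005 := trfs L462419 (flp_j L76946) rfl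
theorem L462440 : N9005 = N2429 := eqes L462439 (flp_j L21136)
theorem L462441 : N9005 = N2429 := eqc rfl L462440 rfl
theorem L462462 : sm gh N2429 = N13057 := trfs L462441 (flp_h L111201) rfl
theorem L462463 : N13057 = N3500 := eqes L462462 (flp_h L30296)
theorem L462464 : N13057 = N3500 := eqc rfl L462463 rfl
theorem L462472 : sm gc N3500 = N18977 := trfs L462464 L161163 rfl
theorem L462473 : N18977 = N5056 := eqes L462472 (flp_c L43537)
theorem L462474 : N18977 = N5056 := eqc rfl L462473 rfl
theorem L462476 : sm ge N3500 = N18978 := trfs L462464 L161172 rfl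
theorem L462477 : N18978 = N2427 := eqes L462476 (flp_e L30290)
theorem L462478 : N18978 = N2427 := eqc rfl L462477 rfl
theorem L462505 : sm gi N2427 = N27610 := trfs L462478 L233883 rfl
theorem L462506 : N27610 = N2427 := eqes L462505 L21118
theorem L462507 : N27610 = N2427 := eqc rfl L462506 rfl
theorem L462527 : sm gj N2427 = N19108 := trfs L462507 L233891 rfl
theorem L462528 : N19108 = N1696 := eqes L462527 L21116
theorem L462529 : N19108 = N1696 := eqc rfl L462528 rfl
theorem L462544 : sm gf N1696 = N27797 := trfs L462529 (flp_f L235457) rfl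
theorem L462545 : N27797 = N1191 := eqes L462544 L14842
theorem L462546 : N27797 = N1191 := eqc rfl L462545 rfl
theorem L462572 : sm gi N1191 = N19107 := trfs L462546 (flp_i L235451) rfl
theorem L462573 : N19107 = N1191 := eqes L462572 L10485
theorem L462574 : N19107 = N1191 := eqc rfl L462573 rfl
theorem L462595 : sm gh N1191 = N13152 := trfs L462574 L162265 rfl
theorem L462596 : N13152 = N830 := eqes L462595 L10486
theorem L462597 : N13152 = N830 := eqc rfl L462596 rfl
theorem L462620 : sm gi N830 = N19117 := trfs L462597 L162335 rfl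
theorem L462621 : N19117 = N575 := eqes L462620 L7340
theorem L462622 : N19117 = N575 := eqc rfl L462621 rfl
theorem L462645 : sm gh N575 = N27810 := trfs L462622 L235553 rfl
theorem L462646 : N27810 = N575 := eqes L462645 L5095
theorem L462647 : N27810 = N575 := eqc rfl L462646 rfl
theorem L462667 : sm gj N575 = N40257 := trfs L462647 (flp_j L340156) rfl
theorem L462668 : N40257 = N827 := eqes L462667 (flp_j L7312)
theorem L462669 : N40257 = N827 := eqc rfl L462668 rfl
theorem L462674 : sm gf N827 = N27629 := trfs L462669 L340154 rfl
theorem L462675 : N27629 = N1177 := eqes L462674 (flp_f L10351)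
theorem L462676 : N27629 = N1177 := eqc rfl L462675 rfl
theorem L462693 : sm gh N1177 = N18989 := trfs L462676 (flp_h L234047) rfl
theorem L462694 : N18989 = N1177 := eqes L462693 L10355
theorem L462695 : N18989 = N1177 := eqc rfl L462694 rfl
theorem L462711 : sm gg N1177 = N27619 := trfs L462695 (flp_g L233969) rfl
theorem L462712 : N27619 = N1684 := eqes L462711 (flp_g L14724)
theorem L462713 : N27619 = N1684 := eqc rfl L462712 rfl
theorem L462734 : sm gi N1684 = N18983 := trfs L462713 (flp_i L233961) rfl
theorem L462735 : N18983 = N2420 := eqes L462734 (flp_i L21045)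
theorem L462736 : N18983 = N2420 := eqc rfl L462735 rfl
theorem L462750 : sm gf N2420 = N27618 := trfs L462736 L233954 rfl
theorem L462751 : N27618 = N2420 := eqes L462750 L21041
theorem L462752 : N27618 = N2420 := eqc rfl L462751 rfl
theorem L462775 : sm gh N2420 = N40218 := trfs L462752 (flp_h L339811) rfl
theorem L462776 : N40218 = N3488 := eqes L462775 (flp_h L30174)
theorem L462777 : N40218 = N3488 := eqc rfl L462776 rfl
theorem L462782 : sm gd N3488 = N27990 := trfs L462777 L339808 rfl
theorem L462783 : N27990 = N2419 := eqes L462782 (flp_d L30165)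
theorem L462784 : N27990 = N2419 := eqc rfl L462783 rfl
theorem L462809 : sm gi N2419 = N40779 := trfs L462784 L344518 rfl
theorem L462810 : N40779 = N2419 := eqes L462809 L21036
theorem L462811 : N40779 = N2419 := eqc rfl L462810 rfl
theorem L462815 : sm gf N2419 = N27991 := trfs L462811 L344522 rfl
theorem L462816 : N27991 = N2419 := eqes L462815 L21032
theorem L462817 : N27991 = N2419 := eqc rfl L462816 rfl
theorem L462832 : sm gh N2419 = N40780 := trfs L462817 L344525 rfl
theorem L462833 : N40780 = N1682 := eqes L462832 (flp_h L21028)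
theorem L462834 : N40780 = N1682 := eqc rfl L462833 rfl
theorem L462846 : sm gi N1682 = N28017 := trfs L462834 L344534 rfl
theorem L462847 : N28017 = N1170 := eqes L462846 (flp_i L14697)
theorem L462848 : N28017 = N1170 := eqc rfl L462847 rfl
theorem L462871 : sm gh N1170 = N19259 := trfs L462848 (flp_h L237318) rfl
theorem L462872 : N19259 = N1170 := eqes L462871 L10284
theorem L462873 : N19259 = N1170 := eqc rfl L462872 rfl
theorem L462896 : sm gi N1170 = N13251 := trfs L462873 (flp_i L163540) rfl
theorem L462897 : N13251 = N1682 := eqes L462896 L14697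
theorem L462898 : N13251 = N1682 := eqc rfl L462897 rfl
theorem L462915 : sm gg N1682 = N9141 := trfs L462898 L112839 rfl
theorem L462916 : N9141 = N1175 := eqes L462915 L14704
theorem L462917 : N9141 = N1175 := eqc rfl L462916 rfl
theorem L462938 : sm gj N1175 = N6375 := trfs L462917 L78095 rfl
theorem L462939 : N6375 = N821 := eqes L462938 L10333
theorem L462940 : N6375 = N821 := eqc rfl L462939 rfl
theorem L462965 : sm gi N821 = N9231 := trfs L462940 L78859 rfl
theorem L462966 : N9231 = N566 := eqes L462965 (flp_i L7246)
theorem L462967 : N9231 = N566 := eqc rfl L462966 rfl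
theorem L462988 : sm gh N566 = N13386 := trfs L462967 L113988 rfl
theorem L462989 : N13386 = N566 := eqes L462988 L5011
theorem L462990 : N13386 = N566 := eqc rfl L462989 rfl
theorem L463011 : sm gi N566 = N19438 := trfs L462990 (flp_i L165074) rfl
theorem L463012 : N19438 = N821 := eqes L463011 L7246
theorem L463013 : N19438 = N821 := eqc rfl L463012 rfl
theorem L463029 : sm gf N821 = N28268 := trfs L463013 (flp_f L239445) rfl
theorem L463030 : N28268 = N573 := eqes L463029 L7252
theorem L463031 : N28268 = N573 := eqc rfl L463030 rfl
theorem L463051 : sm gj N573 = N40795 := trfs L463031 (flp_j L344674) rfl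
theorem L463052 : N40795 = N825 := eqes L463051 (flp_j L7293)
theorem L463053 : N40795 = N825 := eqc rfl L463052 rfl
theorem L463064 : sm gi N825 = N28029 := trfs L463053 L344676 rfl
theorem L463065 : N28029 = N569 := eqes L463064 (flp_i L7285)
theorem L463066 : N28029 = N569 := eqc rfl L463065 rfl
theorem L463085 : sm gh N569 = N19268 := trfs L463066 (flp_h L237429) rfl
theorem L463086 : N19268 = N569 := eqes L463085 L5038
theorem L463087 : N19268 = N569 := eqc rfl L463086 rfl
theorem L463102 : sm gg N569 = N28028 := trfs L463087 (flp_g L237427) rfl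
theorem L463103 : N28028 = N569 := eqes L463102 L5034
theorem L463104 : N28028 = N569 := eqc rfl L463103 rfl
theorem L463127 : sm gi N569 = N19267 := trfs L463104 (flp_i L237420) rfl
theorem L463128 : N19267 = N825 := eqes L463127 L7285
theorem L463129 : N19267 = N825 := eqc rfl L463128 rfl
theorem L463150 : sm gh N825 = N28000 := trfs L463129 (flp_h L237171) rfl
theorem L463151 : N28000 = N1186 := eqes L463150 L10431
theorem L463152 : N28000 = N1186 := eqc rfl L463151 rfl
theorem L463173 : sm gi N1186 = N40794 := trfs L463152 L344660 rfl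
theorem L463174 : N40794 = N1186 := eqes L463173 L10439
theorem L463175 : N40794 = N1186 := eqc rfl L463174 rfl
theorem L463176 : sm ga N1186 = N28089 := trfs L463175 L344662 rfl
theorem L463177 : N28089 = N917 := eqes L463176 L10433
theorem L463178 : N28089 = N917 := eqc rfl L463177 rfl
theorem L463198 : sm gh N917 = N40921 := trfs L463178 L345786 rfl
theorem L463199 : N40921 = N634 := eqes L463198 (flp_h L8102)
theorem L463200 : N40921 = N634 := eqc rfl L463199 rfl
theorem L463205 : sm gi N634 = N28128 := trfs L463200 L345792 rfl
theorem L463206 : N28128 = N435 := eqes L463205 (flp_i L5612)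
theorem L463207 : N28128 = N435 := eqc rfl L463206 rfl
theorem L463221 : sm gj N435 = N40973 := trfs L463207 (flp_j L346223) rfl
theorem L463222 : N40973 = N298 := eqes L463221 L3865
theorem L463223 : N40973 = N298 := eqc rfl L463222 rfl
theorem L463230 : sm gh N298 = N28127 := trfs L463223 (flp_h L346217) rfl
theorem L463231 : N28127 = N298 := eqes L463230 L2661
theorem L463232 : N28127 = N298 := eqc rfl L463231 rfl
theorem L463249 : sm gi N298 = N19337 := trfs L463232 (flp_i L238272) rfl
theorem L463250 : N19337 = N439 := eqes L463249 L3894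
theorem L463251 : N19337 = N439 := eqc rfl L463250 rfl
theorem L463268 : sm gh N439 = N28088 := trfs L463251 (flp_h L237955) rfl
theorem L463269 : N28088 = N639 := eqes L463268 L5656
theorem L463270 : N28088 = N639 := eqc rfl L463269 rfl
theorem L463283 : sm gg N639 = N19476 := trfs L463270 L237957 rfl
theorem L463284 : N19476 = N444 := eqes L463283 L5660
theorem L463285 : N19476 = N444 := eqc rfl L463284 rfl
theorem L463292 : sm gc N444 = N28316 := trfs L463285 (flp_c L239819) rfl
theorem L463293 : N28316 = N644 := eqes L463292 (flp_c L5696)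
theorem L463294 : N28316 = N644 := eqc rfl L463293 rfl
theorem L463304 : sm gi N444 = N28321 := trfs L463285 L239854 rfl
theorem L463305 : N28321 = N444 := eqes L463304 L3941
theorem L463306 : N28321 = N444 := eqc rfl L463305 rfl
theorem L463323 : sm gh N444 = N41248 := trfs L463306 L348429 rfl
theorem L463324 : N41248 = N302 := eqes L463323 (flp_h L3935)
theorem L463325 : N41248 = N302 := eqc rfl L463324 rfl
theorem L463329 : sm gj N302 = N28322 := trfs L463325 L348434 rfl
theorem L463330 : N28322 = N302 := eqes L463329 L2692
theorem L463331 : N28322 = N302 := eqc rfl L463330 rfl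
theorem L463345 : sm gi N302 = N19493 := trfs L463331 L239868 rfl
theorem L463346 : N19493 = N205 := eqes L463345 (flp_i L2685)
theorem L463347 : N19493 = N205 := eqc rfl L463346 rfl
theorem L463364 : sm gh N205 = N13418 := trfs L463347 (flp_h L165500) rfl
theorem L463365 : N13418 = N205 := eqes L463364 L1842
theorem L463366 : N13418 = N205 := eqc rfl L463365 rfl
theorem L463383 : sm gi N205 = N9255 := trfs L463366 (flp_i L114237) rfl
theorem L463384 : N9255 = N302 := eqes L463383 L2685
theorem L463385 : N9255 = N302 := eqc rfl L463384 rfl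
theorem L463398 : sm gg N302 = N6392 := trfs L463385 (flp_g L79045) rfl
theorem L463399 : N6392 = N439 := eqes L463398 (flp_g L3900)
theorem L463400 : N6392 = N439 := eqc rfl L463399 rfl
theorem L463416 : sm gh N439 = N9246 := trfs L463400 (flp_h L78985) rfl
theorem L463417 : N9246 = N639 := eqes L463416 L5656
theorem L463418 : N9246 = N639 := eqc rfl L463417 rfl
theorem L463434 : sm gi N639 = N13406 := trfs L463418 L114148 rfl
theorem L463435 : N13406 = N639 := eqes L463434 L5662
theorem L463436 : N13406 = N639 := eqc rfl L463435 rfl
theorem L463444 : sm gf N639 = N9247 := trfs L463436 L114152 rfl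
theorem L463445 : N9247 = N911 := eqes L463444 (flp_f L8058)
theorem L463446 : N9247 = N911 := eqc rfl L463445 rfl
theorem L463460 : sm gj N911 = N13288 := trfs L463446 (flp_j L113174) rfl
theorem L463461 : N13288 = N1299 := eqes L463460 (flp_j L11442)
theorem L463462 : N13288 = N1299 := eqc rfl L463461 rfl
theorem L463479 : sm gi N1299 = N9163 := trfs L463462 (flp_i L113169) rfl
theorem L463480 : N9163 = N1299 := eqes L463479 L11444
theorem L463481 : N9163 = N1299 := eqc rfl L463480 rfl
theorem L463492 : sm gg N1299 = N13282 := trfs L463481 (flp_g L113123) rfl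
theorem L463493 : N13282 = N1856 := eqes L463492 (flp_g L16263)
theorem L463494 : N13282 = N1856 := eqc rfl L463493 rfl
theorem L463505 : sm ge N1856 = N9160 := trfs L463494 (flp_e L113120) rfl
theorem L463506 : N9160 = N2667 := eqes L463505 (flp_e L23249)
theorem L463507 : N9160 = N2667 := eqc rfl L463506 rfl
theorem L463526 : sm gi N2667 = N13283 := trfs L463507 L113128 rfl
theorem L463527 : N13283 = N2667 := eqes L463526 L23254
theorem L463528 : N13283 = N2667 := eqc rfl L463527 rfl
theorem L463531 : sm gc N2667 = N19299 := trfs L463528 (flp_c L163911) rfl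
theorem L463532 : N19299 = N3841 := eqes L463531 (flp_c L33308)
theorem L463533 : N19299 = N3841 := eqc rfl L463532 rfl
theorem L463541 : sm gh N2667 = N19302 := trfs L463528 L163931 rfl
theorem L463542 : N19302 = N1855 := eqes L463541 (flp_h L23246)
theorem L463543 : N19302 = N1855 := eqc rfl L463542 rfl
theorem L463558 : sm gi N1855 = N13298 := trfs L463543 L163938 rfl
theorem L463559 : N13298 = N1291 := eqes L463558 (flp_i L16250)
theorem L463560 : N13298 = N1291 := eqc rfl L463559 rfl
theorem L463575 : sm gh N1291 = N9169 := trfs L463560 (flp_h L113249) rfl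
theorem L463576 : N9169 = N1291 := eqes L463575 L11371
theorem L463577 : N9169 = N1291 := eqc rfl L463576 rfl
theorem L463590 : sm gg N1291 = N6335 := trfs L463577 L78345 rfl
theorem L463591 : N6335 = N903 := eqes L463590 L11368
theorem L463592 : N6335 = N903 := eqc rfl L463591 rfl
theorem L463613 : sm gi N903 = N4385 := trfs L463592 (flp_i L54327) rfl
theorem L463614 : N4385 = N1298 := eqes L463613 L11428
theorem L463615 : N4385 = N1298 := eqc rfl L463614 rfl
theorem L463627 : sm gj N1298 = N3069 := trfs L463615 L37758 rfl
theorem L463628 : N3069 = N910 := eqes L463627 L11435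
theorem L463629 : N3069 = N910 := eqc rfl L463628 rfl
theorem L463642 : sm gh N910 = N4423 := trfs L463629 (flp_h L38085) rfl
theorem L463643 : N4423 = N1308 := eqes L463642 L11510
theorem L463644 : N4423 = N1308 := eqc rfl L463643 rfl
theorem L463650 : sm gc N1308 = N6386 := trfs L463644 L54757 rfl
theorem L463651 : N6386 = N1877 := eqes L463650 (flp_c L16444)
theorem L463652 : N6386 = N1877 := eqc rfl L463651 rfl
theorem L463708 : sm gi N1877 = N9245 := trfs L463652 L78975 rfl
theorem L463709 : N9245 = N1877 := eqes L463708 L16450
theorem L463710 : N9245 = N1877 := eqc rfl L463709 rfl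
theorem L463725 : sm gh N1877 = N13404 := trfs L463710 L114133 rfl
theorem L463726 : N13404 = N1306 := eqes L463725 (flp_h L16442)
theorem L463727 : N13404 = N1306 := eqc rfl L463726 rfl
theorem L463748 : sm gi N1306 = N9254 := trfs L463727 L114139 rfl
theorem L463749 : N9254 = N908 := eqes L463748 (flp_i L11494)
theorem L463750 : N9254 = N908 := eqc rfl L463749 rfl
theorem L463771 : sm gh N908 = N6391 := trfs L463750 (flp_h L79039) rfl
theorem L463772 : N6391 = N908 := eqes L463771 L8037
theorem L463773 : N6391 = N908 := eqc rfl L463772 rfl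
theorem L463784 : sm ge N908 = N9253 := trfs L463773 (flp_e L79036) rfl
theorem L463785 : N9253 = N628 := eqes L463784 (flp_e L8032)
theorem L463786 : N9253 = N628 := eqc rfl L463785 rfl
theorem L463805 : sm gi N628 = N6390 := trfs L463786 (flp_i L79031) rfl
theorem L463806 : N6390 = N909 := eqes L463805 L8039
theorem L463807 : N6390 = N909 := eqc rfl L463806 rfl
theorem L463817 : sm gj N909 = N9171 := trfs L463807 (flp_j L78360) rfl
theorem L463818 : N9171 = N1297 := eqes L463817 (flp_j L11426)
theorem L463819 : N9171 = N1297 := eqc rfl L463818 rfl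
theorem L463831 : sm gg N1297 = N13294 := trfs L463819 (flp_g L113220) rfl
theorem L463832 : N13294 = N1853 := eqes L463831 (flp_g L16239)
theorem L463833 : N13294 = N1853 := eqc rfl L463832 rfl
theorem L463837 : sm gb N1853 = N19320 := trfs L463833 (flp_b L164080) rfl
theorem L463838 : N19320 = N2661 := eqes L463837 (flp_b L23196)
theorem L463839 : N19320 = N2661 := eqc rfl L463838 rfl
theorem L463842 : sm ge N1853 = N9167 := trfs L463833 (flp_e L113216) rfl
theorem L463843 : N9167 = N2664 := eqes L463842 (flp_e L23223)
theorem L463844 : N9167 = N2664 := eqc rfl L463843 rfl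
theorem L463850 : sm gi N1853 = N19323 := trfs L463833 L164103 rfl
theorem L463851 : N19323 = N1290 := eqes L463850 (flp_i L16233)
theorem L463852 : N19323 = N1290 := eqc rfl L463851 rfl
theorem L463865 : sm gh N1290 = N28109 := trfs L463852 L238123 rfl
theorem L463866 : N28109 = N1290 := eqes L463865 L11363
theorem L463867 : N28109 = N1290 := eqc rfl L463866 rfl
theorem L463884 : sm gi N1290 = N40894 := trfs L463867 (flp_i L345567) rfl
theorem L463885 : N40894 = N1853 := eqes L463884 L16233
theorem L463886 : N40894 = N1853 := eqc rfl L463885 rfl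
theorem L463893 : sm gh N1853 = N28071 := trfs L463886 (flp_h L345558) rfl
theorem L463894 : N28071 = N2665 := eqes L463893 L23228
theorem L463895 : N28071 = N2665 := eqc rfl L463894 rfl
theorem L463905 : sm gf N2665 = N40893 := trfs L463895 (flp_f L345555) rfl
theorem L463906 : N40893 = N2665 := eqes L463905 L23232
theorem L463907 : N40893 = N2665 := eqc rfl L463906 rfl
theorem L463913 : sm gi N2665 = N28070 := trfs L463907 (flp_i L345551) rfl
theorem L463914 : N28070 = N2665 := eqes L463913 L23236
theorem L463915 : N28070 = N2665 := eqc rfl L463914 rfl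
theorem L463928 : sm gg N2665 = N40892 := trfs L463915 L345543 rfl
theorem L463929 : N40892 = N1864 := eqes L463928 L23233
theorem L463930 : N40892 = N1864 := eqc rfl L463929 rfl
theorem L463939 : sm gh N1864 = N28107 := trfs L463930 L345547 rfl
theorem L463940 : N28107 = N1297 := eqes L463939 (flp_h L16329)
theorem L463941 : N28107 = N1297 := eqc rfl L463940 rfl
theorem L463962 : sm gi N1297 = N40949 := trfs L463941 L346020 rfl
theorem L463963 : N40949 = N902 := eqes L463962 (flp_i L11419)
theorem L463964 : N40949 = N902 := eqc rfl L463963 rfl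
theorem L463969 : sm gf N902 = N28123 := trfs L463964 L346025 rfl
theorem L463970 : N28123 = N633 := eqes L463969 L7981
theorem L463971 : N28123 = N633 := eqc rfl L463970 rfl
theorem L463980 : sm gg N633 = N19334 := trfs L463971 L238249 rfl
theorem L463981 : N19334 = N633 := eqes L463980 L5607
theorem L463982 : N19334 = N633 := eqc rfl L463981 rfl
theorem L463995 : sm gh N633 = N28124 := trfs L463982 L238251 rfl
theorem L463996 : N28124 = N633 := eqes L463995 L5610
theorem L463997 : N28124 = N633 := eqc rfl L463996 rfl
theorem L464013 : sm gi N633 = N40917 := trfs L463997 (flp_i L345762) rfl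
theorem L464014 : N40917 = N916 := eqes L464013 L8093
theorem L464015 : N40917 = N916 := eqc rfl L464014 rfl
theorem L464022 : sm gh N916 = N28085 := trfs L464015 (flp_h L345753) rfl
theorem L464023 : N28085 = N1316 := eqes L464022 L11574
theorem L464024 : N28085 = N1316 := eqc rfl L464023 rfl
theorem L464039 : sm gi N1316 = N19307 := trfs L464024 (flp_i L237923) rfl
theorem L464040 : N19307 = N1316 := eqes L464039 L11582
theorem L464041 : N19307 = N1316 := eqc rfl L464040 rfl
theorem L464049 : sm gd N1316 = N28082 := trfs L464041 (flp_d L237904) rfl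
theorem L464050 : N28082 = N1891 := eqes L464049 L16550
theorem L464051 : N28082 = N1891 := eqc rfl L464050 rfl
theorem L464075 : sm gj N1891 = N19470 := trfs L464051 L237906 rfl
theorem L464076 : N19470 = N1324 := eqes L464075 L16553
theorem L464077 : N19470 = N1324 := eqc rfl L464076 rfl
theorem L464100 : sm gi N1324 = N28314 := trfs L464077 L239806 rfl
theorem L464101 : N28314 = N1324 := eqes L464100 L11648

end Cfsg.Agent.Helper28.FicA
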