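import Cfsg.Agent.Helper28.FicB27

/-! # The Fi₂₃ presentation, cosets of the subgroup generated by a, …, i: the coset enumeration, part 28 (helper28; generated) -/

set_option autoImplicit false

noncomputable section

namespace Cfsg.Agent.Helper28.FicA

open Cfsg.Agent.Helper28.CosetTable

theorem L464102 : N28314 = N1324 := eqc rfl L464101 rfl
theorem L464123 : sm gh N1324 = N41240 := trfs L464102 L348373 rfl
theorem L464124 : N41240 = N1324 := eqes L464123 L11649
theorem L464125 : N41240 = N1324 := eqc rfl L464124 rfl
theorem L464126 : sm gf N1324 = N28315 := trfs L464125 L348375 rfl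
theorem L464127 : N28315 = N1878 := eqes L464126 (flp_f L16453)
theorem L464128 : N28315 = N1878 := eqc rfl L464127 rfl
theorem L464144 : sm gj N1878 = N40914 := trfs L464128 (flp_j L345734) rfl
theorem L464145 : N40914 = N2680 := eqes L464144 (flp_j L23369)
theorem L464146 : N40914 = N2680 := eqc rfl L464145 rfl
theorem L464150 : sm gh N2680 = N28083 := trfs L464146 (flp_h L345731) rfl
theorem L464151 : N28083 = N2680 := eqes L464150 L23372
theorem L464152 : N28083 = N2680 := eqc rfl L464151 rfl
theorem L464160 : sm gc N2680 = N40311 := trfs L464152 (flp_c L340634) rfl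
theorem L464161 : N40311 = N3863 := eqes L464160 L33500
theorem L464162 : N40311 = N3863 := eqc rfl L464161 rfl
theorem L464176 : sm gi N3863 = N27666 := trfs L464162 (flp_i L340632) rfl
theorem L464177 : N27666 = N3863 := eqes L464176 L33507
theorem L464178 : N27666 = N3863 := eqc rfl L464177 rfl
theorem L464194 : sm gj N3863 = N19133 := trfs L464178 L234383 rfl
theorem L464195 : N19133 = N2700 := eqes L464194 L33504
theorem L464196 : N19133 = N2700 := eqc rfl L464195 rfl
theorem L464205 : sm gd N2700 = N13166 := trfs L464196 (flp_d L162471) rfl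
theorem L464206 : N13166 = N1880 := eqes L464205 L23538
theorem L464207 : N13166 = N1880 := eqc rfl L464206 rfl
theorem L464234 : sm gi N1880 = N19135 := trfs L464207 L162484 rfl
theorem L464235 : N19135 = N1880 := eqes L464234 L16472
theorem L464236 : N19135 = N1880 := eqc rfl L464235 rfl
theorem L464252 : sm gh N1880 = N27834 := trfs L464236 L235747 rfl
theorem L464253 : N27834 = N1310 := eqes L464252 L16470
theorem L464254 : N27834 = N1310 := eqc rfl L464253 rfl
theorem L464277 : sm gi N1310 = N19147 := trfs L464254 L235754 rfl
theorem L464278 : N19147 = N913 := eqes L464277 L11532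
theorem L464279 : N19147 = N913 := eqc rfl L464278 rfl
theorem L464302 : sm gh N913 = N13175 := trfs L464279 (flp_h L162570) rfl
theorem L464303 : N13175 = N913 := eqes L464302 L8075
theorem L464304 : N13175 = N913 := eqc rfl L464303 rfl
theorem L464322 : sm gj N913 = N19035 := trfs L464304 (flp_j L161669) rfl
theorem L464323 : N19035 = N1301 := eqes L464322 (flp_j L11458)
theorem L464324 : N19035 = N1301 := eqc rfl L464323 rfl
theorem L464342 : sm gi N1301 = N13093 := trfs L464324 (flp_i L161662) rfl
theorem L464343 : N13093 = N1867 := eqes L464342 (flp_i L16363)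
theorem L464344 : N13093 = N1867 := eqc rfl L464343 rfl
theorem L464360 : sm gg N1867 = N19026 := trfs L464344 (flp_g L161595) rfl
theorem L464361 : N19026 = N2669 := eqes L464360 (flp_g L23268)
theorem L464362 : N19026 = N2669 := eqc rfl L464361 rfl
theorem L464379 : sm gh N2669 = N27658 := trfs L464362 (flp_h L234319) rfl
theorem L464380 : N27658 = N3845 := eqes L464379 (flp_h L33347)
theorem L464381 : N27658 = N2080 := eqc rfl L464380 L448285
theorem L464403 : sm gi N2080 = N40299 := trfs L464381 L340526 rfl
theorem L464404 : N40299 = N2080 := eqes L464403 L18071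
theorem L464405 : N40299 = N2080 := eqc rfl L464404 rfl
theorem L464409 : sm ge N2080 = N27659 := trfs L464405 L340530 rfl
theorem L464410 : N27659 = N2993 := eqes L464409 (flp_e L25887)
theorem L464411 : N27659 = N2993 := eqc rfl L464410 rfl
theorem L464424 : sm gf N2993 = N40290 := trfs L464411 (flp_f L340456) rfl
theorem L464425 : N40290 = N4319 := eqes L464424 L37190
theorem L464426 : N40290 = N4319 := eqc rfl L464425 rfl
theorem L464431 : sm gh N2993 = N40300 := trfs L464411 L340535 rfl
theorem L464432 : N40300 = N4320 := eqes L464431 L37198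
theorem L464433 : N40300 = N3848 := eqc rfl L464432 L448249
theorem L464440 : sm gi N3848 = N27684 := trfs L464433 L340542 rfl
theorem L464441 : N27684 = N2672 := eqes L464440 L33376
theorem L464442 : N27684 = N2672 := eqc rfl L464441 rfl
theorem L464461 : sm gh N2672 = N19027 := trfs L464442 (flp_h L234524) rfl
theorem L464462 : N19027 = N2672 := eqes L464461 L23299
theorem L464463 : N19027 = N2672 := eqc rfl L464462 rfl
theorem L464477 : sm gf N2672 = N27675 := trfs L464463 (flp_f L234457) rfl
theorem L464478 : N27675 = N3853 := eqes L464477 L33411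
theorem L464479 : N27675 = N3853 := eqc rfl L464478 rfl
theorem L464499 : sm gi N3853 = N19022 := trfs L464479 (flp_i L234451) rfl
theorem L464500 : N19022 = N5559 := eqes L464499 (flp_i L47971)
theorem L464501 : N19022 = N5559 := eqc rfl L464500 rfl
theorem L464518 : sm gh N5559 = N27654 := trfs L464501 (flp_h L234286) rfl
theorem L464519 : N27654 = N8038 := eqes L464518 (flp_h L69049)
theorem L464520 : N27654 = N8038 := eqc rfl L464519 rfl
theorem L464536 : sm gi N8038 = N4319 := trfs L464520 L340451 L464426
theorem L464537 : N4319 = N8038 := eqes L464536 L69051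
theorem L464538 : N8038 = N4319 := (eqc rfl L464537 rfl).symm
theorem L464539 : sm ga N4319 = N10574 := trfs L464538 (flp_a L90311) rfl
theorem L464540 : N10574 = N6223 := eqes L464539 (flp_a L53373)
theorem L464541 : N10574 = N6223 := eqc rfl L464540 rfl
theorem L464543 : sm gc N4319 = N5555 := trfs L464538 L69046 rfl
theorem L464544 : N5555 = N6230 := eqes L464543 (flp_c L53436)
theorem L464545 : N6230 = N5555 := (eqc rfl L464544 rfl).symm
theorem L464551 : sm gh N4319 = N5559 := trfs L464538 L69049 rfl
theorem L464552 : N5559 = N6241 := eqes L464551 L53531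
theorem L464553 : N6241 = N5559 := (eqc rfl L464552 rfl).symm
theorem L464563 : sm gd N5559 = N9037 := trfs L464553 L77228 rfl
theorem L464564 : N9037 = N8043 := eqes L464563 (flp_d L69094)
theorem L464565 : N9037 = N8043 := eqc rfl L464564 rfl
theorem L464570 : sm gh N5559 = N4319 := trfs L464553 (flp_h L53531) rfl
theorem L464590 : sm gi N8043 = N13110 := trfs L464565 L111653 rfl
theorem L464591 : N13110 = N5564 := eqes L464590 L69097
theorem L464592 : N13110 = N5564 := eqc rfl L464591 rfl
theorem L464609 : sm gh N5564 = N19055 := trfs L464592 L161831 rfl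
theorem L464610 : N19055 = N8055 := eqes L464609 L69187
theorem L464611 : N19055 = N8055 := eqc rfl L464610 rfl
theorem L464626 : sm gg N8055 = N27270 := trfs L464611 (flp_g L231060) rfl
theorem L464627 : N27270 = N11680 := eqes L464626 (flp_g L99923)
theorem L464628 : N27270 = N11680 := eqc rfl L464627 rfl
theorem L464645 : sm gj N11680 = N39742 := trfs L464628 (flp_j L335858) rfl
theorem L464646 : N39742 = N16967 := eqes L464645 (flp_j L144649)
theorem L464647 : N39742 = N16967 := eqc rfl L464646 rfl
theorem L464656 : sm gh N16967 = N27265 := trfs L464647 (flp_h L335851) rfl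
theorem L464657 : N27265 = N11679 := eqes L464656 (flp_h L144643)
theorem L464658 : N27265 = N11679 := eqc rfl L464657 rfl
theorem L464678 : sm gi N11679 = N18733 := trfs L464658 (flp_i L231010) rfl
theorem L464679 : N18733 = N16941 := eqes L464678 (flp_i L144442)
theorem L464680 : N18733 = N16941 := eqc rfl L464679 rfl
theorem L464695 : sm gf N16941 = N12884 := trfs L464680 L159151 rfl
theorem L464696 : N12884 = N11745 := eqes L464695 L144440
theorem L464697 : N12884 = N11745 := eqc rfl L464696 rfl
theorem L464716 : sm gj N11745 = N8879 := trfs L464697 L109786 rfl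
theorem L464717 : N8879 = N8098 := eqes L464716 (flp_j L100481)
theorem L464718 : N8879 = N8098 := eqc rfl L464717 rfl
theorem L464729 : sm gd N8098 = N6124 := trfs L464718 (flp_d L75907) rfl
theorem L464730 : N6124 = N5595 := eqes L464729 L69567
theorem L464731 : N6124 = N5595 := eqc rfl L464730 rfl
theorem L464738 : sm gi N8098 = N12887 := trfs L464718 L109805 rfl
theorem L464739 : N12887 = N5604 := eqes L464738 L69569
theorem L464740 : N12887 = N5604 := eqc rfl L464739 rfl
theorem L464753 : sm gg N5604 = N8882 := trfs L464740 L109811 rfl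
theorem L464754 : N8882 = N3878 := eqes L464753 (flp_g L48352)
theorem L464755 : N8882 = N3878 := eqc rfl L464754 rfl
theorem L464769 : sm gh N3878 = N12890 := trfs L464755 L109830 rfl
theorem L464770 : N12890 = N5605 := eqes L464769 L48357
theorem L464771 : N12890 = N5605 := eqc rfl L464770 rfl
theorem L464781 : sm ge N5605 = N18092 := trfs L464771 (flp_e L153936) rfl
theorem L464782 : N18092 = N8114 := eqes L464781 (flp_e L69696)
theorem L464783 : N18092 = N8114 := eqc rfl L464782 rfl
theorem L464798 : sm gj N8114 = N12565 := trfs L464783 L153939 rfl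
theorem L464799 : N12565 = N5664 := eqes L464798 L69699
theorem L464800 : N12565 = N5664 := eqc rfl L464799 rfl
theorem L464813 : sm gg N5664 = N18286 := trfs L464800 (flp_g L155450) rfl
theorem L464814 : N18286 = N8204 := eqes L464813 (flp_g L70375)
theorem L464815 : N18286 = N8204 := eqc rfl L464814 rfl
theorem L464828 : sm ge N8204 = N12982 := trfs L464815 L155448 rfl
theorem L464829 : N12982 = N5666 := eqes L464828 L70373
theorem L464830 : N12982 = N5666 := eqc rfl L464829 rfl
theorem L464848 : sm gh N5666 = N8947 := trfs L464830 (flp_h L110565) rfl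
theorem L464849 : N8947 = N3918 := eqes L464848 (flp_h L48820)
theorem L464850 : N8947 = N3918 := eqc rfl L464849 rfl
theorem L464866 : sm gi N3918 = N6172 := trfs L464850 (flp_i L76465) rfl
theorem L464867 : N6172 = N5648 := eqes L464866 (flp_i L48698)
theorem L464868 : N6172 = N5648 := eqc rfl L464867 rfl
theorem L464882 : sm gg N5648 = N4269 := trfs L464868 L52951 rfl
theorem L464883 : N4269 = N3907 := eqes L464882 (flp_g L48693)
theorem L464884 : N4269 = N3907 := eqc rfl L464883 rfl
theorem L464895 : sm gd N3907 = N2953 := trfs L464884 (flp_d L36766) rfl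
theorem L464896 : N2953 = N2710 := eqes L464895 L33861
theorem L464897 : N2953 = N2710 := eqc rfl L464896 rfl
theorem L464903 : sm ga N2710 = N4254 := trfs L464897 (flp_a L36645) rfl
theorem L464904 : N4254 = N3522 := eqes L464903 (flp_a L30491)
theorem L464905 : N4254 = N3522 := eqc rfl L464904 rfl
theorem L464911 : sm ge N2710 = N2049 := trfs L464897 L25553 rfl
theorem L464912 : N2049 = N1911 := eqes L464911 L23614
theorem L464913 : N2049 = N1911 := eqc rfl L464912 rfl
theorem L464919 : sm gi N2710 = N4270 := trfs L464897 L36773 rfl
theorem L464920 : N4270 = N1888 := eqes L464919 L23612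
theorem L464921 : N4270 = N1888 := eqc rfl L464920 rfl
theorem L464930 : sm ge N1888 = N2956 := trfs L464921 L36777 rfl
theorem L464931 : N2956 = N1333 := eqes L464930 L16529
theorem L464932 : N2956 = N1333 := eqc rfl L464931 rfl
theorem L464944 : sm gg N1333 = N4272 := trfs L464932 (flp_g L36796) rfl
theorem L464945 : N4272 = N1918 := eqes L464944 L16765
theorem L464946 : N4272 = N1918 := eqc rfl L464945 rfl
theorem L464955 : sm gf N1918 = N2979 := trfs L464946 L36794 rfl
theorem L464956 : N2979 = N1351 := eqes L464955 L16770
theorem L464957 : N2979 = N1351 := eqc rfl L464956 rfl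
theorem L464962 : sm gi N1918 = N2955 := trfs L464946 (flp_i L36790) rfl
theorem L464963 : N2955 = N2752 := eqes L464962 (flp_i L23953)
theorem L464964 : N2955 = N2752 := eqc rfl L464963 rfl
theorem L464965 : sm ga N2752 = N4256 := trfs L464964 (flp_a L36662) rfl
theorem L464966 : N4256 = N3561 := eqes L464965 (flp_a L30848)
theorem L464967 : N4256 = N3561 := eqc rfl L464966 rfl
theorem L464973 : sm gf N2752 = N2069 := trfs L464964 L25570 rfl
theorem L464974 : N2069 = N1935 := eqes L464973 L23955
theorem L464975 : N2069 = N1935 := eqc rfl L464974 rfl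
theorem L464977 : sm gj N2752 = N4271 := trfs L464964 (flp_j L36788) rfl
theorem L464978 : N4271 = N3975 := eqes L464977 L34405
theorem L464979 : N4271 = N3975 := eqc rfl L464978 rfl
theorem L464980 : sm gh N2752 = N2048 := trfs L464964 (flp_h L25566) rfl
theorem L464981 : N2048 = N3963 := eqes L464980 (flp_h L34309)
theorem L464982 : N3963 = N2048 := (eqc rfl L464981 rfl).symm
theorem L464987 : sm gc N2048 = N2746 := trfs L464982 L34307 rfl
theorem L464988 : N2746 = N2948 := eqes L464987 (flp_c L25511)
theorem L464989 : N2948 = N2746 := (eqc rfl L464988 rfl).symm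
theorem L464994 : sm gf N2048 = N2778 := trfs L464982 L34312 rfl
theorem L464995 : N2778 = N1434 := eqes L464994 L17809
theorem L464996 : N2778 = N1434 := eqc rfl L464995 rfl
theorem L465000 : sm gj N2048 = N5732 := trfs L464982 L49373 rfl
theorem L465001 : N5732 = N2954 := eqes L465000 L25557
theorem L465002 : N5732 = N2954 := eqc rfl L465001 rfl
theorem L465003 : sm gh N2048 = N2752 := trfs L464982 L34309 rfl
theorem L465012 : sm gc N2954 = N3964 := trfs L465002 L49375 rfl
theorem L465013 : N3964 = N4261 := eqes L465012 (flp_c L36704)
theorem L465014 : N4261 = N3964 := (eqc rfl L465013 rfl).symm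
theorem L465018 : sm ge N2954 = N8167 := trfs L465002 (flp_e L70096) rfl
theorem L465019 : N8167 = N4267 := eqes L465018 (flp_e L36753)
theorem L465020 : N8167 = N4267 := eqc rfl L465019 rfl
theorem L465021 : sm gf N2954 = N4014 := trfs L465002 L49377 rfl
theorem L465022 : N4014 = N2068 := eqes L465021 L25563
theorem L465023 : N4014 = N2068 := eqc rfl L465022 rfl
theorem L465024 : sm gg N2954 = N8231 := trfs L465002 (flp_g L70603) rfl
theorem L465025 : N8231 = N4236 := eqes L465024 (flp_g L36499)
theorem L465026 : N8231 = N4236 := eqc rfl L465025 rfl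
theorem L465039 : sm gj N4236 = N5681 := trfs L465026 (flp_j L70595) rfl
theorem L465040 : N5681 = N2930 := eqes L465039 (flp_j L36491)
theorem L465041 : N5681 = N2930 := eqc rfl L465040 rfl
theorem L465042 : sm gh N4236 = N5693 := trfs L465026 L70600 rfl
theorem L465043 : N5693 = N6127 := eqes L465042 L52571
theorem L465044 : N6127 = N5693 := (eqc rfl L465043 rfl).symm
theorem L465057 : sm gh N5693 = N4236 := trfs L465044 (flp_h L52571) rfl
theorem L465059 : sm gi N5693 = N8883 := trfs L465044 L75940 rfl
theorem L465060 : N8883 = N3949 := eqes L465059 L49064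
theorem L465061 : N8883 = N3949 := eqc rfl L465060 rfl
theorem L465071 : sm gj N3949 = N6128 := trfs L465061 L75947 rfl
theorem L465072 : N6128 = N2735 := eqes L465071 (flp_j L34196)
theorem L465073 : N6128 = N2735 := eqc rfl L465072 rfl
theorem L465079 : sm gc N2735 = N8870 := trfs L465073 (flp_c L75831) rfl
theorem L465080 : N8870 = N1901 := eqes L465079 L23817
theorem L465081 : N8870 = N1901 := eqc rfl L465080 rfl
theorem L465104 : sm gi N1901 = N6117 := trfs L465081 (flp_i L75828) rfl
theorem L465105 : N6117 = N2729 := eqes L465104 (flp_i L23770)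
theorem L465106 : N6117 = N2729 := eqc rfl L465105 rfl
theorem L465117 : sm gg N2729 = N4231 := trfs L465106 L52487 rfl
theorem L465118 : N4231 = N1896 := eqes L465117 (flp_g L23765)
theorem L465119 : N4231 = N1896 := eqc rfl L465118 rfl
theorem L465124 : sm gc N1896 = N2931 := trfs L465119 L36449 rfl
theorem L465125 : N2931 = N2728 := eqes L465124 (flp_c L23759)
theorem L465126 : N2931 = N2728 := eqc rfl L465125 rfl
theorem L465131 : sm gf N1896 = N2928 := trfs L465119 L36451 rfl
theorem L465132 : N2928 = N1319 := eqes L465131 (flp_f L16593)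
theorem L465133 : N2928 = N1319 := eqc rfl L465132 rfl
theorem L465139 : sm gc N1319 = N2034 := trfs L465133 L25340 rfl
theorem L465140 : N2034 = N1895 := eqes L465139 (flp_c L16586)
theorem L465141 : N2034 = N1895 := eqc rfl L465140 rfl
theorem L465150 : sm gh N1319 = N2032 := trfs L465133 (flp_h L25337) rfl
theorem L465151 : N2032 = N1893 := eqes L465150 (flp_h L16571)
theorem L465152 : N2032 = N1893 := eqc rfl L465151 rfl
theorem L465153 : sm gi N1319 = N4233 := trfs L465133 L36462 rfl
theorem L465154 : N4233 = N920 := eqes L465153 L11606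
theorem L465155 : N4233 = N920 := eqc rfl L465154 rfl
theorem L465169 : sm gj N920 = N2951 := trfs L465155 L36470 rfl
theorem L465170 : N2951 = N642 := eqes L465169 L8129
theorem L465171 : N2951 = N642 := eqc rfl L465170 rfl
theorem L465181 : sm gg N642 = N2067 := trfs L465171 L25537 rfl
theorem L465182 : N2067 = N447 := eqes L465181 L5679
theorem L465183 : N2067 = N447 := eqc rfl L465182 rfl
theorem L465204 : sm gi N447 = N1433 := trfs L465183 (flp_i L17953) rfl
theorem L465205 : N1433 = N647 := eqes L465204 (flp_i L5721)
theorem L465206 : N1433 = N647 := eqc rfl L465205 rfl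
theorem L465211 : sm gc N647 = N997 := trfs L465206 L12511 rfl
theorem L465212 : N997 = N934 := eqes L465211 (flp_c L8237)
theorem L465213 : N997 = N934 := eqc rfl L465212 rfl
theorem L465225 : sm gh N647 = N995 := trfs L465206 (flp_h L12508) rfl
theorem L465226 : N995 = N932 := eqes L465225 (flp_h L8223)
theorem L465227 : N995 = N932 := eqc rfl L465226 rfl
theorem L465228 : sm ga N932 = N1428 := trfs L465227 (flp_a L12468) rfl
theorem L465229 : N1428 = N1199 := eqes L465228 (flp_a L10549)
theorem L465230 : N1428 = N1199 := eqc rfl L465229 rfl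
theorem L465232 : sm gc N932 = N687 := trfs L465227 (flp_c L8724) rfl
theorem L465233 : N687 = N1339 := eqes L465232 (flp_c L11757)
theorem L465234 : N1339 = N687 := (eqc rfl L465233 rfl).symm
theorem L465236 : sm ge N932 = N707 := trfs L465227 L8726 rfl
theorem L465237 : N707 = N645 := eqes L465236 (flp_e L8219)
theorem L465238 : N707 = N645 := eqc rfl L465237 rfl
theorem L465239 : sm gf N932 = N1432 := trfs L465227 L12499 rfl
theorem L465240 : N1432 = N1340 := eqes L465239 L11763
theorem L465241 : N1432 = N1340 := eqc rfl L465240 rfl
theorem L465242 : sm gg N932 = N1419 := trfs L465227 (flp_g L12401) rfl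
theorem L465243 : N1419 = N1326 := eqes L465242 (flp_g L11660)
theorem L465244 : N1419 = N1326 := eqc rfl L465243 rfl
theorem L465249 : sm gc N1326 = N987 := trfs L465244 (flp_c L12397) rfl
theorem L465250 : N987 = N1906 := eqes L465249 (flp_c L16675)
theorem L465251 : N1906 = N987 := (eqc rfl L465250 rfl).symm
theorem L465253 : sm ge N1326 = N1013 := trfs L465244 L12399 rfl
theorem L465254 : N1013 = N923 := eqes L465253 (flp_e L11657)
theorem L465255 : N1013 = N923 := eqc rfl L465254 rfl
theorem L465260 : sm ga N923 = N1452 := trfs L465255 (flp_a L12669) rfl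
theorem L465261 : N1452 = N1191 := eqes L465260 (flp_a L10481)
theorem L465262 : N1452 = N1191 := eqc rfl L465261 rfl
theorem L465264 : sm gc N923 = N702 := trfs L465255 (flp_c L8873) rfl
theorem L465265 : N702 = N1325 := eqes L465264 L11650
theorem L465266 : N1325 = N702 := (eqc rfl L465265 rfl).symm
theorem L465267 : sm gd N923 = N718 := trfs L465255 L8879 rfl
theorem L465268 : N718 = N639 := eqes L465267 (flp_d L8152)
theorem L465269 : N718 = N639 := eqc rfl L465268 rfl
theorem L465270 : sm gf N923 = N1455 := trfs L465255 L12691 rfl
theorem L465271 : N1455 = N1309 := eqes L465270 (flp_f L11521)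
theorem L465272 : N1455 = N1309 := eqc rfl L465271 rfl
theorem L465274 : sm gj N923 = N1444 := trfs L465255 (flp_j L12602) rfl
theorem L465275 : N1444 = N1317 := eqes L465274 (flp_j L11587)
theorem L465276 : N1444 = N1317 := eqc rfl L465275 rfl
theorem L465277 : sm gh N923 = N1456 := trfs L465255 L12700 rfl
theorem L465278 : N1456 = N640 := eqes L465277 L8158
theorem L465279 : N1456 = N640 := eqc rfl L465278 rfl
theorem L465292 : sm gf N640 = N2094 := trfs L465279 (flp_f L18185) rfl
theorem L465293 : N2094 = N912 := eqes L465292 (flp_f L8065)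
theorem L465294 : N2094 = N912 := eqc rfl L465293 rfl
theorem L465302 : sm gc N912 = N1458 := trfs L465294 L18183 rfl
theorem L465303 : N1458 = N1310 := eqes L465302 L11527
theorem L465304 : N1458 = N1310 := eqc rfl L465303 rfl
theorem L465316 : sm gi N912 = N3013 := trfs L465294 L26048 rfl
theorem L465317 : N3013 = N632 := eqes L465316 L8068
theorem L465318 : N3013 = N632 := eqc rfl L465317 rfl
theorem L465332 : sm gj N632 = N4316 := trfs L465318 (flp_j L37169) rfl
theorem L465333 : N4316 = N906 := eqes L465332 (flp_j L8020)
theorem L465334 : N4316 = N906 := eqc rfl L465333 rfl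
theorem L465348 : sm gg N906 = N6235 := trfs L465334 (flp_g L53482) rfl
theorem L465349 : N6235 = N1294 := eqes L465348 (flp_g L11397)
theorem L465350 : N6235 = N1294 := eqc rfl L465349 rfl
theorem L465369 : sm gi N1294 = N4314 := trfs L465350 (flp_i L53476) rfl
theorem L465370 : N4314 = N1857 := eqes L465369 (flp_i L16274)
theorem L465371 : N4314 = N1857 := eqc rfl L465370 rfl
theorem L465382 : sm ge N1857 = N6231 := trfs L465371 (flp_e L53446) rfl
theorem L465383 : N6231 = N2670 := eqes L465382 L23274
theorem L465384 : N6231 = N2670 := eqc rfl L465383 rfl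
theorem L465402 : sm gh N2670 = N4312 := trfs L465384 (flp_h L53441) rfl
theorem L465403 : N4312 = N3846 := eqes L465402 (flp_h L33356)
theorem L465404 : N4312 = N3846 := eqc rfl L465403 rfl
theorem L465406 : sm ga N3846 = N6216 := trfs L465404 (flp_a L53301) rfl
theorem L465407 : N6216 = N5039 := eqes L465406 (flp_a L43372)
theorem L465408 : N6216 = N5039 := eqc rfl L465407 rfl
theorem L465417 : sm gg N3846 = N2988 := trfs L465404 (flp_g L37125) rfl
theorem L465418 : N2988 = N2683 := eqes L465417 L33353
theorem L465419 : N2988 = N2683 := eqc rfl L465418 rfl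
theorem L465422 : sm ga N2683 = N4302 := trfs L465419 (flp_a L37032) rfl
theorem L465423 : N4302 = N3500 := eqes L465422 (flp_a L30292)
theorem L465424 : N4302 = N3500 := eqc rfl L465423 rfl
theorem L465426 : sm gc N2683 = N2079 := trfs L465419 L25840 rfl
theorem L465427 : N2079 = N3868 := eqes L465426 (flp_c L33544)
theorem L465428 : N3868 = N2079 := (eqc rfl L465427 rfl).symm
theorem L465438 : sm gj N2683 = N2093 := trfs L465419 L25842 rfl
theorem L465439 : N2093 = N1881 := eqes L465438 L23393
theorem L465440 : N2093 = N1881 := eqc rfl L465439 rfl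
theorem L465445 : sm gc N1881 = N1457 := trfs L465440 L18176 rfl
theorem L465446 : N1457 = N2705 := eqes L465445 (flp_c L23570)
theorem L465447 : N2705 = N1457 := (eqc rfl L465446 rfl).symm
theorem L465450 : sm gf N1881 = N2947 := trfs L465440 (flp_f L25506) rfl
theorem L465451 : N2947 = N2706 := eqes L465450 L23576
theorem L465452 : N2947 = N2706 := eqc rfl L465451 rfl
theorem L465460 : sm gd N2706 = N4258 := trfs L465452 L36675 rfl
theorem L465461 : N4258 = N3898 := eqes L465460 (flp_d L33788)
theorem L465462 : N4258 = N3898 := eqc rfl L465461 rfl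
theorem L465475 : sm gh N3898 = N6158 := trfs L465462 L52836 rfl
theorem L465476 : N6158 = N3898 := eqes L465475 L33790
theorem L465477 : N6158 = N3898 := eqc rfl L465476 rfl
theorem L465489 : sm gi N3898 = N8927 := trfs L465477 L76314 rfl
theorem L465490 : N8927 = N3898 := eqes L465489 L33791
theorem L465491 : N8927 = N3898 := eqc rfl L465490 rfl
theorem L465495 : sm gd N3898 = N12954 := trfs L465491 (flp_d L110365) rfl
theorem L465496 : N12954 = N2706 := eqes L465495 L33788
theorem L465497 : N12954 = N2706 := eqc rfl L465496 rfl
theorem L465522 : sm gh N2706 = N18839 := trfs L465497 L160024 rfl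
theorem L465523 : N18839 = N1884 := eqes L465522 L23579
theorem L465524 : N18839 = N1884 := eqc rfl L465523 rfl
theorem L465542 : sm gi N1884 = N12965 := trfs L465524 L160030 rfl
theorem L465543 : N12965 = N1314 := eqes L465542 L16500
theorem L465544 : N12965 = N1314 := eqc rfl L465543 rfl
theorem L465561 : sm gh N1314 = N8933 := trfs L465544 (flp_h L110441) rfl
theorem L465562 : N8933 = N1314 := eqes L465561 L11560
theorem L465563 : N8933 = N1314 := eqc rfl L465562 rfl
theorem L465580 : sm gi N1314 = N6161 := trfs L465563 (flp_i L76360) rfl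
theorem L465581 : N6161 = N1884 := eqes L465580 (flp_i L16500)
theorem L465582 : N6161 = N1884 := eqc rfl L465581 rfl
theorem L465594 : sm gj N1884 = N8866 := trfs L465582 (flp_j L75797) rfl
theorem L465595 : N8866 = N2686 := eqes L465594 (flp_j L23420)
theorem L465596 : N8866 = N2686 := eqc rfl L465595 rfl
theorem L465600 : sm gc N2686 = N12868 := trfs L465596 L109644 rfl
theorem L465601 : N12868 = N3873 := eqes L465600 (flp_c L33590)
theorem L465602 : N12868 = N3873 := eqc rfl L465601 rfl
theorem L465609 : sm gh N2686 = N12861 := trfs L465596 (flp_h L109586) rfl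
theorem L465610 : N12861 = N3869 := eqes L465609 (flp_h L33556)
theorem L465611 : N12861 = N3869 := eqc rfl L465610 rfl
theorem L465623 : sm gg N3869 = N18702 := trfs L465611 (flp_g L158894) rfl
theorem L465624 : N18702 = N5589 := eqes L465623 L48226
theorem L465625 : N18702 = N5589 := eqc rfl L465624 rfl
theorem L465648 : sm gi N5589 = N27219 := trfs L465625 L230630 rfl
theorem L465649 : N27219 = N5589 := eqes L465648 L48233
theorem L465650 : N27219 = N5589 := eqc rfl L465649 rfl
theorem L465655 : sm gc N5589 = N39671 := trfs L465650 (flp_c L335265) rfl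
theorem L465656 : N39671 = N8089 := eqes L465655 (flp_c L69482)
theorem L465657 : N39671 = N8089 := eqc rfl L465656 rfl
theorem L465671 : sm gh N5589 = N39674 := trfs L465650 L335284 rfl
theorem L465672 : N39674 = N3874 := eqes L465671 L48231
theorem L465673 : N39674 = N3874 := eqc rfl L465672 rfl
theorem L465677 : sm gi N3874 = N27239 := trfs L465673 L335290 rfl
theorem L465678 : N27239 = N2691 := eqes L465677 L33604
theorem L465679 : N27239 = N2691 := eqc rfl L465678 rfl
theorem L465698 : sm gh N2691 = N18714 := trfs L465679 (flp_h L230796) rfl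
theorem L465699 : N18714 = N2691 := eqes L465698 L23464
theorem L465700 : N18714 = N2691 := eqc rfl L465699 rfl
theorem L465716 : sm gj N2691 = N27233 := trfs L465700 (flp_j L230759) rfl
theorem L465717 : N27233 = N3881 := eqes L465716 L33652
theorem L465718 : N27233 = N3881 := eqc rfl L465717 rfl
theorem L465738 : sm gi N3881 = N18710 := trfs L465718 (flp_i L230752) rfl
theorem L465739 : N18710 = N5596 := eqes L465738 (flp_i L48292)
theorem L465740 : N18710 = N5596 := eqc rfl L465739 rfl
theorem L465755 : sm gg N5596 = N12955 := trfs L465740 L158964 rfl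
theorem L465756 : N12955 = N3910 := eqes L465755 L48294
theorem L465757 : N12955 = N3910 := eqc rfl L465756 rfl
theorem L465769 : sm gh N3910 = N18829 := trfs L465757 (flp_h L159954) rfl
theorem L465770 : N18829 = N5640 := eqes L465769 (flp_h L48633)
theorem L465771 : N18829 = N5640 := eqc rfl L465770 rfl
theorem L465791 : sm gi N5640 = N27402 := trfs L465771 L232158 rfl
theorem L465792 : N27402 = N5640 := eqes L465791 L48635
theorem L465793 : N27402 = N5640 := eqc rfl L465792 rfl
theorem L465806 : sm gh N5640 = N39937 := trfs L465793 L337479 rfl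
theorem L465807 : N39937 = N3910 := eqes L465806 L48633
theorem L465808 : N39937 = N3910 := eqc rfl L465807 rfl
theorem L465813 : sm gi N3910 = N27424 := trfs L465808 L337486 rfl
theorem L465814 : N27424 = N2718 := eqes L465813 L33886
theorem L465815 : N27424 = N2718 := eqc rfl L465814 rfl
theorem L465824 : sm ge N2718 = N39972 := trfs L465815 (flp_e L337756) rfl
theorem L465825 : N39972 = N1919 := eqes L465824 L23669
theorem L465826 : N39972 = N1919 := eqc rfl L465825 rfl
theorem L465835 : sm gh N1919 = N27423 := trfs L465826 (flp_h L337753) rfl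
theorem L465836 : N27423 = N1919 := eqes L465835 L16779
theorem L465837 : N27423 = N1919 := eqc rfl L465836 rfl
theorem L465849 : sm gj N1919 = N18847 := trfs L465837 L232325 rfl
theorem L465850 : N18847 = N1334 := eqes L465849 (flp_j L16772)
theorem L465851 : N18847 = N1334 := eqc rfl L465850 rfl
theorem L465867 : sm gi N1334 = N12958 := trfs L465851 (flp_i L160083) rfl
theorem L465868 : N12958 = N1912 := eqes L465867 (flp_i L16726)
theorem L465869 : N12958 = N1912 := eqc rfl L465868 rfl
theorem L465884 : sm gh N1912 = N18832 := trfs L465869 (flp_h L159978) rfl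
theorem L465885 : N18832 = N2746 := eqes L465884 (flp_h L23904)
theorem L465886 : N18832 = N2746 := eqc rfl L465885 rfl
theorem L465891 : sm gc N2746 = N27404 := trfs L465886 (flp_c L232177) rfl
theorem L465902 : sm gi N2746 = N27407 := trfs L465886 L232198 rfl
theorem L465903 : N27407 = N2746 := eqes L465902 L23906
theorem L465904 : N27407 = N2746 := eqc rfl L465903 rfl
theorem L465909 : sm gc N2746 = N39943 := trfs L465904 (flp_c L337530) rfl
theorem L465910 : N39943 = N27404 := eqes L465909 L465891
theorem L465911 : N39943 = N27404 := eqc rfl L465910 rfl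
theorem L465933 : sm gg N27404 = N27414 := trfs L465911 L337534 rfl
theorem L465934 : N27414 = N18835 := eqes L465933 L232179
theorem L465935 : N27414 = N18835 := eqc rfl L465934 rfl
theorem L465957 : sm gh N18835 = N39958 := trfs L465935 L337642 rfl
theorem L465958 : N39958 = N12961 := eqes L465957 L160001
theorem L465959 : N39958 = N12961 := eqc rfl L465958 rfl
theorem L465965 : sm gi N12961 = N27441 := trfs L465959 L337648 rfl
theorem L465966 : N27441 = N18853 := eqes L465965 L160126
theorem L465967 : N27441 = N18853 := eqc rfl L465966 rfl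
theorem L465987 : sm gj N18853 = N39716 := trfs L465967 (flp_j L335637) rfl
theorem L465988 : N39716 = N27244 := eqes L465987 (flp_j L230843)
theorem L465989 : N39716 = N27244 := eqc rfl L465988 rfl
theorem L465994 : sm ge N27244 = N27245 := trfs L465989 L335635 rfl
theorem L465995 : N27245 = N18717 := eqes L465994 L230841
theorem L465996 : N27245 = N18717 := eqc rfl L465995 rfl
theorem L466001 : sm gb N18717 = N39713 := trfs L465996 (flp_b L335608) rfl
theorem L466002 : N39713 = N27242 := eqes L466001 (flp_b L230820)
theorem L466003 : N39713 = N27242 := eqc rfl L466002 rfl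
theorem L466016 : sm gi N18717 = N39681 := trfs L465996 (flp_i L335353) rfl
theorem L466017 : N39681 = N12868 := eqes L466016 (flp_i L159015)
theorem L466018 : N39681 = N3873 := eqc rfl L466017 L465602
theorem L466022 : sm gh N3873 = N27222 := trfs L466018 (flp_h L335345) rfl
theorem L466023 : N27222 = N5588 := eqes L466022 (flp_h L48221)
theorem L466024 : N27222 = N2929 := eqc rfl L466023 L447964
theorem L466025 : sm ga N2929 = N39600 := trfs L466024 (flp_a L334614) rfl
theorem L466026 : N39600 = N4224 := eqes L466025 (flp_a L36384)
theorem L466027 : N39600 = N4224 := eqc rfl L466026 rfl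
theorem L466038 : sm gg N2929 = N8089 := trfs L466024 (flp_g L335268) L465657
theorem L466039 : N8089 = N4234 := eqes L466038 L36473
theorem L466040 : N8089 = N4234 := eqc rfl L466039 rfl
theorem L466043 : sm ga N4234 = N10615 := trfs L466040 (flp_a L90703) rfl
theorem L466044 : N10615 = N6108 := eqes L466043 (flp_a L52400)
theorem L466045 : N10615 = N6108 := eqc rfl L466044 rfl
theorem L466047 : sm gc N4234 = N5589 := trfs L466040 L69482 rfl
theorem L466048 : N5589 = N6114 := eqes L466047 (flp_c L52455)
theorem L466049 : N6114 = N5589 := (eqc rfl L466048 rfl).symm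
theorem L466060 : sm gc N5589 = N4234 := trfs L466049 L52455 rfl
theorem L466068 : sm gj N5589 = N8864 := trfs L466049 L75773 rfl
theorem L466069 : N8864 = N8090 := eqes L466068 L69489
theorem L466070 : N8864 = N8090 := eqc rfl L466069 rfl
theorem L466079 : sm gf N8090 = N12863 := trfs L466070 (flp_f L109604) rfl
theorem L466080 : N12863 = N11654 := eqes L466079 (flp_f L99701)
theorem L466081 : N12863 = N11654 := eqc rfl L466080 rfl
theorem L466097 : sm gh N11654 = N18707 := trfs L466081 L158932 rfl
theorem L466098 : N18707 = N8046 := eqes L466097 L99703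
theorem L466099 : N18707 = N8046 := eqc rfl L466098 rfl
theorem L466113 : sm gi N8046 = N27227 := trfs L466099 L230700 rfl
theorem L466114 : N27227 = N5567 := eqes L466113 L69122
theorem L466115 : N27227 = N5567 := eqc rfl L466114 rfl
theorem L466125 : sm gj N5567 = N18709 := trfs L466115 L230709 rfl
theorem L466126 : N18709 = N3854 := eqes L466125 (flp_j L48030)
theorem L466127 : N18709 = N3854 := eqc rfl L466126 rfl
theorem L466129 : sm ga N3854 = N27173 := trfs L466127 (flp_a L230214) rfl
theorem L466130 : N27173 = N5047 := eqes L466129 (flp_a L43447)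
theorem L466131 : N27173 = N5047 := eqc rfl L466130 rfl
theorem L466165 : sm gi N5047 = N18671 := trfs L466131 (flp_i L230212) rfl
theorem L466166 : N18671 = N7299 := eqes L466165 (flp_i L62578)
theorem L466167 : N18671 = N7299 := eqc rfl L466166 rfl
theorem L466182 : sm gh N7299 = N12837 := trfs L466167 (flp_h L158603) rfl
theorem L466183 : N12837 = N10575 := eqes L466182 (flp_h L90325)
theorem L466184 : N12837 = N10575 := eqc rfl L466183 rfl
theorem L466195 : sm gg N10575 = N9003 := trfs L466184 L109360 rfl
theorem L466196 : N9003 = N7294 := eqes L466195 (flp_g L90320)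
theorem L466197 : N9003 = N7294 := eqc rfl L466196 rfl
theorem L466201 : sm gb N7294 = N13041 := trfs L466197 (flp_b L111043) rfl
theorem L466202 : N13041 = N9773 := eqes L466201 (flp_b L83528)
theorem L466203 : N13041 = N9773 := eqc rfl L466202 rfl
theorem L466225 : sm gh N9773 = N18952 := trfs L466203 L160923 rfl
theorem L466226 : N18952 = N6747 := eqes L466225 L83531
theorem L466227 : N18952 = N6747 := eqc rfl L466226 rfl
theorem L466236 : sm gf N6747 = N13042 := trfs L466227 L160929 rfl
theorem L466237 : N13042 = N4667 := eqes L466236 (flp_f L57873)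
theorem L466238 : N13042 = N4667 := eqc rfl L466237 rfl
theorem L466256 : sm gd N4667 = N18953 := trfs L466238 L160932 rfl
theorem L466257 : N18953 = N4667 := eqes L466256 L40196
theorem L466258 : N18953 = N4667 := eqc rfl L466257 rfl
theorem L466276 : sm gi N4667 = N27570 := trfs L466258 L233500 rfl
theorem L466277 : N27570 = N3235 := eqes L466276 L40194
theorem L466278 : N27570 = N3235 := eqc rfl L466277 rfl
theorem L466287 : sm gg N3235 = N18957 := trfs L466278 L233507 rfl
theorem L466288 : N18957 = N2252 := eqes L466287 L27986
theorem L466289 : N18957 = N2252 := eqc rfl L466288 rfl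
theorem L466303 : sm gh N2252 = N27576 := trfs L466289 L233550 rfl
theorem L466304 : N27576 = N2252 := eqes L466303 L19581
theorem L466305 : N27576 = N2252 := eqc rfl L466304 rfl
theorem L466314 : sm gf N2252 = N39561 := trfs L466305 (flp_f L334248) rfl
theorem L466315 : N39561 = N3242 := eqes L466314 L28051
theorem L466316 : N39561 = N3242 := eqc rfl L466315 rfl
theorem L466325 : sm gj N3242 = N27321 := trfs L466316 L334250 rfl
theorem L466326 : N27321 = N2259 := eqes L466325 L28057
theorem L466327 : N27321 = N2259 := eqc rfl L466326 rfl
theorem L466345 : sm gi N2259 = N39802 := trfs L466327 (flp_i L336368) rfl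
theorem L466346 : N39802 = N3248 := eqes L466345 (flp_i L28113)
theorem L466347 : N39802 = N3248 := eqc rfl L466346 rfl
theorem L466352 : sm gh N3248 = N27310 := trfs L466347 (flp_h L336360) rfl
theorem L466353 : N27310 = N4686 := eqes L466352 (flp_h L40373)
theorem L466354 : N27310 = N4686 := eqc rfl L466353 rfl
theorem L466375 : sm gi N4686 = N18767 := trfs L466354 (flp_i L231392) rfl
theorem L466376 : N18767 = N4686 := eqes L466375 L40375
theorem L466377 : N18767 = N4686 := eqc rfl L466376 rfl
theorem L466400 : sm gh N4686 = N12909 := trfs L466377 L159439 rfl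
theorem L466401 : N12909 = N3248 := eqes L466400 L40373
theorem L466402 : N12909 = N3248 := eqc rfl L466401 rfl
theorem L466416 : sm gj N3248 = N18652 := trfs L466402 (flp_j L158424) rfl
theorem L466417 : N18652 = N4676 := eqes L466416 (flp_j L40280)
theorem L466418 : N18652 = N4676 := eqc rfl L466417 rfl
theorem L466432 : sm gg N4676 = N27140 := trfs L466418 (flp_g L229906) rfl
theorem L466433 : N27140 = N6762 := eqes L466432 L58022
theorem L466434 : N27140 = N6762 := eqc rfl L466433 rfl
theorem L466454 : sm gh N6762 = N39543 := trfs L466434 (flp_h L334081) rfl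
theorem L466455 : N39543 = N9793 := eqes L466454 (flp_h L83729)
theorem L466456 : N39543 = N9793 := eqc rfl L466455 rfl
theorem L466466 : sm gd N9793 = N27134 := trfs L466456 (flp_d L334074) rfl
theorem L466467 : N27134 = N14208 := eqes L466466 (flp_d L121087)
theorem L466468 : N27134 = N14208 := eqc rfl L466467 rfl
theorem L466472 : sm gc N14208 = N39536 := trfs L466468 (flp_c L334009) rfl
theorem L466473 : N39536 = N20659 := eqes L466472 (flp_c L175602)
theorem L466474 : N39536 = N20659 := eqc rfl L466473 rfl
theorem L466494 : sm gh N20659 = N27130 := trfs L466474 (flp_h L334005) rfl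
theorem L466495 : N27130 = N20659 := eqes L466494 L175605
theorem L466496 : N27130 = N20659 := eqc rfl L466495 rfl
theorem L466510 : sm gj N20659 = N39535 := trfs L466496 L333995 rfl
theorem L466511 : N39535 = N30075 := eqes L466510 L255012
theorem L466512 : N39535 = N30075 := eqc rfl L466511 rfl
theorem L466518 : sm gg N30075 = N27301 := trfs L466512 L334003 rfl
theorem L466519 : N27301 = N20723 := eqes L466518 L255020
theorem L466520 : N27301 = N20723 := eqc rfl L466519 rfl
theorem L466535 : sm gh N20723 = N39786 := trfs L466520 L336224 rfl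
theorem L466536 : N39786 = N20723 := eqes L466535 L176169
theorem L466537 : N39786 = N20723 := eqc rfl L466536 rfl
theorem L466546 : sm gj N20723 = N27302 := trfs L466537 L336232 rfl
theorem L466547 : N27302 = N14248 := eqes L466546 (flp_j L176162)
theorem L466548 : N27302 = N14248 := eqc rfl L466547 rfl
theorem L466561 : sm gi N14248 = N39788 := trfs L466548 L336241 rfl
theorem L466562 : N39788 = N14248 := eqes L466561 L121446
theorem L466563 : N39788 = N14248 := eqc rfl L466562 rfl
theorem L466569 : sm gg N14248 = N27304 := trfs L466563 L336249 rfl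
theorem L466570 : N27304 = N9815 := eqes L466569 (flp_g L121439)
theorem L466571 : N27304 = N9815 := eqc rfl L466570 rfl
theorem L466583 : sm gj N9815 = N39538 := trfs L466571 (flp_j L334031) rfl
theorem L466584 : N39538 = N14207 := eqes L466583 (flp_j L121077)
theorem L466585 : N39538 = N14207 := eqc rfl L466584 rfl
theorem L466592 : sm gf N14207 = N27558 := trfs L466585 L334029 rfl
theorem L466593 : N27558 = N9787 := eqes L466592 (flp_f L121072)
theorem L466594 : N27558 = N9787 := eqc rfl L466593 rfl
theorem L466611 : sm gi N9787 = N18947 := trfs L466594 (flp_i L233389) rfl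
theorem L466612 : N18947 = N9787 := eqes L466611 L83666
theorem L466613 : N18947 = N9787 := eqc rfl L466612 rfl
theorem L466632 : sm gh N9787 = N13038 := trfs L466613 (flp_h L160875) rfl
theorem L466633 : N13038 = N9787 := eqes L466632 L83665
theorem L466634 : N13038 = N9787 := eqc rfl L466633 rfl
theorem L466650 : sm gj N9787 = N9053 := trfs L466634 L111016 rfl
theorem L466651 : N9053 = N6771 := eqes L466650 L83663
theorem L466652 : N9053 = N6771 := eqc rfl L466651 rfl
theorem L466663 : sm gf N6771 = N12904 := trfs L466652 (flp_f L109945) rfl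
theorem L466664 : N12904 = N9815 := eqes L466663 L83917
theorem L466665 : N12904 = N9815 := eqc rfl L466664 rfl
theorem L466674 : sm gd N9815 = N16540 := trfs L466665 (flp_d L141094) rfl
theorem L466675 : N16540 = N14246 := eqes L466674 (flp_d L121428)
theorem L466676 : N16540 = N14246 := eqc rfl L466675 rfl
theorem L466695 : sm gh N14246 = N24074 := trfs L466676 L204723 rfl
theorem L466696 : N24074 = N20721 := eqes L466695 L176145
theorem L466697 : N24074 = N20721 := eqc rfl L466696 rfl
theorem L466701 : sm gc N20721 = N16542 := trfs L466697 L204727 rfl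
theorem L466702 : N16542 = N14258 := eqes L466701 L176148
theorem L466703 : N16542 = N14258 := eqc rfl L466702 rfl
theorem L466719 : sm gi N20721 = N35073 := trfs L466697 L297365 rfl
theorem L466720 : N35073 = N30168 := eqes L466719 L255833
theorem L466721 : N35073 = N30168 := eqc rfl L466720 rfl
theorem L466724 : sm gc N30168 = N24078 := trfs L466721 L297369 rfl
theorem L466725 : N24078 = N20739 := eqes L466724 L255836
theorem L466726 : N24078 = N20739 := eqc rfl L466725 rfl
theorem L466727 : sm gf N30168 = N24386 := trfs L466721 L297371 rfl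
theorem L466728 : N24386 = N20722 := eqes L466727 L255839
theorem L466729 : N24386 = N20722 := eqc rfl L466728 rfl
theorem L466733 : sm gc N20722 = N16766 := trfs L466729 L207303 rfl
theorem L466734 : N16766 = N14259 := eqes L466733 L176156
theorem L466735 : N16766 = N14259 := eqc rfl L466734 rfl
theorem L466741 : sm gj N20722 = N35327 := trfs L466729 (flp_j L299382) rfl
theorem L466742 : N35327 = N30074 := eqes L466741 (flp_j L255009)
theorem L466743 : N35327 = N30074 := eqc rfl L466742 rfl
theorem L466748 : sm gc N30074 = N24261 := trfs L466743 L299379 rfl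
theorem L466749 : N24261 = N20670 := eqes L466748 L255005
theorem L466750 : N24261 = N20670 := eqc rfl L466749 rfl
theorem L466753 : sm gi N30074 = N24257 := trfs L466743 (flp_i L299375) rfl
theorem L466754 : N24257 = N20658 := eqes L466753 (flp_i L255002)
theorem L466755 : N24257 = N20658 := eqc rfl L466754 rfl
theorem L466758 : sm gc N20658 = N16676 := trfs L466755 L206169 rfl
theorem L466759 : N16676 = N14213 := eqes L466758 L175593
theorem L466760 : N16676 = N14213 := eqc rfl L466759 rfl
theorem L466766 : sm gg N20658 = N35325 := trfs L466755 (flp_g L299364) rfl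
theorem L466767 : N35325 = N30010 := eqes L466766 (flp_g L254429)
theorem L466768 : N35325 = N30010 := eqc rfl L466767 rfl
theorem L466773 : sm gc N30010 = N24259 := trfs L466768 L299361 rfl
theorem L466774 : N24259 = N20624 := eqes L466773 L254426
theorem L466775 : N24259 = N20624 := eqc rfl L466774 rfl
theorem L466778 : sm gh N30010 = N24256 := trfs L466768 (flp_h L299357) rfl
theorem L466779 : N24256 = N20617 := eqes L466778 (flp_h L254423)
theorem L466780 : N24256 = N20617 := eqc rfl L466779 rfl
theorem L466783 : sm gc N20617 = N16675 := trfs L466780 L206158 rfl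
theorem L466784 : N16675 = N14183 := eqes L466783 L175219
theorem L466785 : N16675 = N14183 := eqc rfl L466784 rfl
theorem L466788 : sm gf N20617 = N35324 := trfs L466780 L299347 rfl
theorem L466789 : N35324 = N30009 := eqes L466788 L254414
theorem L466790 : N35324 = N30009 := eqc rfl L466789 rfl
theorem L466796 : sm gc N30009 = N24258 := trfs L466790 L299351 rfl
theorem L466797 : N24258 = N20623 := eqes L466796 L254417
theorem L466798 : N24258 = N20623 := eqc rfl L466797 rfl
theorem L466799 : sm gd N30009 = N27555 := trfs L466790 L299353 rfl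
theorem L466800 : N27555 = N20618 := eqes L466799 L254419
theorem L466801 : N27555 = N20618 := eqc rfl L466800 rfl
theorem L466813 : sm gh N20618 = N40140 := trfs L466801 L339086 rfl
theorem L466814 : N40140 = N20618 := eqes L466813 L175228
theorem L466815 : N40140 = N20618 := eqc rfl L466814 rfl
theorem L466819 : sm gc N20618 = N27560 := trfs L466815 L339090 rfl
theorem L466820 : N27560 = N14180 := eqes L466819 L175225
theorem L466821 : N27560 = N14180 := eqc rfl L466820 rfl
theorem L466830 : sm gf N14180 = N18949 := trfs L466821 L233415 rfl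
theorem L466831 : N18949 = N9770 := eqes L466830 (flp_f L120818)
theorem L466832 : N18949 = N9770 := eqc rfl L466831 rfl
theorem L466847 : sm gi N9770 = N27562 := trfs L466832 L233428 rfl
theorem L466848 : N27562 = N9770 := eqes L466847 L83499
theorem L466849 : N27562 = N9770 := eqc rfl L466848 rfl
theorem L466853 : sm gd N9770 = N40151 := trfs L466849 (flp_d L339191) rfl
theorem L466854 : N40151 = N6744 := eqes L466853 L83500
theorem L466855 : N40151 = N6744 := eqc rfl L466854 rfl
theorem L466863 : sm gg N6744 = N27565 := trfs L466855 L339193 rfl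
theorem L466864 : N27565 = N4673 := eqes L466863 L57847
theorem L466865 : N27565 = N4673 := eqc rfl L466864 rfl
theorem L466870 : sm gc N4673 = N40154 := trfs L466865 (flp_c L339216) rfl
theorem L466871 : N40154 = N6756 := eqes L466870 (flp_c L57963)
theorem L466872 : N40154 = N6756 := eqc rfl L466871 rfl
theorem L466883 : sm gi N6756 = N27563 := trfs L466872 (flp_i L339213) rfl
theorem L466884 : N27563 = N6756 := eqes L466883 L57969
theorem L466885 : N27563 = N6756 := eqc rfl L466884 rfl
theorem L466906 : sm gh N6756 = N18955 := trfs L466885 L233444 rfl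
theorem L466907 : N18955 = N4675 := eqes L466906 L57967
theorem L466908 : N18955 = N4675 := eqc rfl L466907 rfl
theorem L466922 : sm gj N4675 = N13131 := trfs L466908 L160954 rfl
theorem L466923 : N13131 = N3247 := eqes L466922 L40270
theorem L466924 : N13131 = N3247 := eqc rfl L466923 rfl
theorem L466940 : sm gi N3247 = N19082 := trfs L466924 L162044 rfl
theorem L466941 : N19082 = N2258 := eqes L466940 L28105
theorem L466942 : N19082 = N2258 := eqc rfl L466941 rfl
theorem L466959 : sm gh N2258 = N27759 := trfs L466942 L235127 rfl
theorem L466960 : N27759 = N2258 := eqes L466959 L19636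
theorem L466961 : N27759 = N2258 := eqc rfl L466960 rfl
theorem L466970 : sm ge N2258 = N40440 := trfs L466961 (flp_e L341665) rfl
theorem L466971 : N40440 = N1572 := eqes L466970 (flp_e L19630)
theorem L466972 : N40440 = N1572 := eqc rfl L466971 rfl
theorem L466984 : sm gc N1572 = N27762 := trfs L466972 L341663 rfl
theorem L466985 : N27762 = N1098 := eqes L466984 (flp_c L13736)
theorem L466986 : N27762 = N1098 := eqc rfl L466985 rfl
theorem L466998 : sm gh N1098 = N19084 := trfs L466986 (flp_h L235150) rfl
theorem L466999 : N19084 = N1098 := eqes L466998 L9642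
theorem L467000 : N19084 = N1098 := eqc rfl L466999 rfl
theorem L467019 : sm gi N1098 = N13132 := trfs L467000 (flp_i L162057) rfl
theorem L467020 : N13132 = N1571 := eqes L467019 (flp_i L13734)
theorem L467021 : N13132 = N1571 := eqc rfl L467020 rfl
theorem L467034 : sm gh N1571 = N19078 := trfs L467021 (flp_h L162021) rfl
theorem L467035 : N19078 = N2254 := eqes L467034 (flp_h L19603)
theorem L467036 : N19078 = N2254 := eqc rfl L467035 rfl
theorem L467042 : sm gd N2254 = N13346 := trfs L467036 L162023 rfl
theorem L467043 : N13346 = N1570 := eqes L467042 (flp_d L19594)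
theorem L467044 : N13346 = N1570 := eqc rfl L467043 rfl
theorem L467066 : sm gi N1570 = N19391 := trfs L467044 L164685 rfl
theorem L467067 : N19391 = N1570 := eqes L467066 L13725
theorem L467068 : N19391 = N1570 := eqc rfl L467067 rfl
theorem L467082 : sm gj N1570 = N27928 := trfs L467068 (flp_j L236516) rfl
theorem L467083 : N27928 = N2249 := eqes L467082 (flp_j L19552)
theorem L467084 : N27928 = N2249 := eqc rfl L467083 rfl
theorem L467099 : sm gh N2249 = N40681 := trfs L467084 L343627 rfl
theorem L467100 : N40681 = N1566 := eqes L467099 (flp_h L19544)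
theorem L467101 : N40681 = N1566 := eqc rfl L467100 rfl
theorem L467109 : sm gi N1566 = N27948 := trfs L467101 L343636 rfl
theorem L467110 : N27948 = N1092 := eqes L467109 (flp_i L13671)
theorem L467111 : N27948 = N1092 := eqc rfl L467110 rfl
theorem L467126 : sm gh N1092 = N19215 := trfs L467111 (flp_h L236690) rfl
theorem L467127 : N19215 = N1092 := eqes L467126 L9581
theorem L467128 : N19215 = N1092 := eqc rfl L467127 rfl
theorem L467137 : sm ge N1092 = N13225 := trfs L467128 L163139 rfl
theorem L467138 : N13225 = N1565 := eqes L467137 L13660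
theorem L467139 : N13225 = N1565 := eqc rfl L467138 rfl
theorem L467160 : sm gi N1565 = N9121 := trfs L467139 (flp_i L112594) rfl
theorem L467161 : N9121 = N2248 := eqes L467160 L19532
theorem L467162 : N9121 = N2248 := eqc rfl L467161 rfl
theorem L467179 : sm gh N2248 = N13218 := trfs L467162 (flp_h L112536) rfl
theorem L467180 : N13218 = N3236 := eqes L467179 L27991
theorem L467181 : N13218 = N3236 := eqc rfl L467180 rfl
theorem L467190 : sm gg N3236 = N19201 := trfs L467181 (flp_g L163009) rfl
theorem L467191 : N19201 = N4664 := eqes L467190 (flp_g L40161)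
theorem L467192 : N19201 = N4664 := eqc rfl L467191 rfl
theorem L467209 : sm gi N4664 = N27923 := trfs L467192 L236463 rfl
theorem L467210 : N27923 = N4664 := eqes L467209 L40164
theorem L467211 : N27923 = N4664 := eqc rfl L467210 rfl
theorem L467224 : sm gh N4664 = N40671 := trfs L467211 L343535 rfl
theorem L467225 : N40671 = N3231 := eqes L467224 (flp_h L40153)
theorem L467226 : N40671 = N3231 := eqc rfl L467225 rfl
theorem L467232 : sm gi N3231 = N27938 := trfs L467226 L343544 rfl
theorem L467233 : N27938 = N2244 := eqes L467232 (flp_i L27939)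
theorem L467234 : N27938 = N2244 := eqc rfl L467233 rfl
theorem L467242 : sm gf N2244 = N40687 := trfs L467234 (flp_f L343688) rfl
theorem L467243 : N40687 = N3230 := eqes L467242 L27928
theorem L467244 : N40687 = N3230 := eqc rfl L467243 rfl
theorem L467255 : sm gh N3230 = N27932 := trfs L467244 (flp_h L343683) rfl
theorem L467256 : N27932 = N3230 := eqes L467255 L27936
theorem L467257 : N27932 = N3230 := eqc rfl L467256 rfl
theorem L467274 : sm gi N3230 = N19206 := trfs L467257 (flp_i L236545) rfl
theorem L467275 : N19206 = N4663 := eqes L467274 L40141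
theorem L467276 : N19206 = N4663 := eqc rfl L467275 rfl
theorem L467287 : sm ge N4663 = N27931 := trfs L467276 L236537 rfl
theorem L467288 : N27931 = N4663 := eqes L467287 L40148
theorem L467289 : N27931 = N4663 := eqc rfl L467288 rfl
theorem L467307 : sm gh N4663 = N40664 := trfs L467289 (flp_h L343477) rfl
theorem L467308 : N40664 = N6741 := eqes L467307 L57809
theorem L467309 : N40664 = N6741 := eqc rfl L467308 rfl
theorem L467312 : sm gb N6741 = N27985 := trfs L467309 L343473 rfl
theorem L467313 : N27985 = N5036 := eqes L467312 L57812
theorem L467314 : N27985 = N5036 := eqc rfl L467313 rfl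
theorem L467334 : sm gi N5036 = N40769 := trfs L467314 L344424 rfl
theorem L467335 : N40769 = N5036 := eqes L467334 L43349
theorem L467336 : N40769 = N5036 := eqc rfl L467335 rfl
theorem L467337 : sm ga N5036 = N28064 := trfs L467336 L344426 rfl
theorem L467338 : N28064 = N3843 := eqes L467337 L43342
theorem L467339 : N28064 = N3843 := eqc rfl L467338 rfl
theorem L467356 : sm gh N3843 = N40883 := trfs L467339 L345464 rfl
theorem L467357 : N40883 = N2666 := eqes L467356 (flp_h L33324)
theorem L467358 : N40883 = N2666 := eqc rfl L467357 rfl
theorem L467364 : sm gi N2666 = N28101 := trfs L467358 L345471 rfl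
theorem L467365 : N28101 = N1854 := eqes L467364 (flp_i L23237)
theorem L467366 : N28101 = N1854 := eqc rfl L467365 rfl
theorem L467383 : sm gh N1854 = N19317 := trfs L467366 (flp_h L238056) rfl
theorem L467384 : N19317 = N1854 := eqes L467383 L16247
theorem L467385 : N19317 = N1854 := eqc rfl L467384 rfl
theorem L467390 : sm gc N1854 = N28097 := trfs L467385 (flp_c L238026) rfl
theorem L467391 : N28097 = N2663 := eqes L467390 (flp_c L23213)
theorem L467392 : N28097 = N2663 := eqc rfl L467391 rfl
theorem L467400 : sm gi N1854 = N13291 := trfs L467385 (flp_i L164054) rfl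
theorem L467401 : N13291 = N2666 := eqes L467400 L23237
theorem L467402 : N13291 = N2666 := eqc rfl L467401 rfl
theorem L467405 : sm gc N2666 = N19314 := trfs L467402 (flp_c L164033) rfl
theorem L467406 : N19314 = N3840 := eqes L467405 (flp_c L33299)
theorem L467407 : N19314 = N3840 := eqc rfl L467406 rfl
theorem L467412 : sm gf N2666 = N19316 := trfs L467402 L164047 rfl
theorem L467413 : N19316 = N1855 := eqes L467412 L23242
theorem L467414 : N19316 = N1855 := eqc rfl L467413 rfl
theorem L467433 : sm gh N1855 = N28063 := trfs L467414 (flp_h L237743) rfl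
theorem L467434 : N28063 = N2667 := eqes L467433 L23246
theorem L467435 : N28063 = N2667 := eqc rfl L467434 rfl
theorem L467440 : sm gd N2667 = N40871 := trfs L467435 (flp_d L345367) rfl
theorem L467441 : N40871 = N3844 := eqes L467440 L33333
theorem L467442 : N40871 = N3844 := eqc rfl L467441 rfl
theorem L467455 : sm gf N3844 = N28058 := trfs L467442 (flp_f L345364) rfl
theorem L467456 : N28058 = N5550 := eqes L467455 (flp_f L47886)
theorem L467457 : N28058 = N5550 := eqc rfl L467456 rfl
theorem L467466 : sm ge N5550 = N19292 := trfs L467457 (flp_e L237697) rfl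
theorem L467467 : N19292 = N8031 := eqes L467466 L68984
theorem L467468 : N19292 = N8031 := eqc rfl L467467 rfl
theorem L467479 : sm gf N8031 = N27652 := trfs L467468 (flp_f L234267) rfl
theorem L467480 : N27652 = N11642 := eqes L467479 L99594
theorem L467481 : N27652 = N11642 := eqc rfl L467480 rfl
theorem L467632 : sm ge N11642 = N40286 := trfs L467481 L340420 rfl
theorem L467633 : N40286 = N8034 := eqes L467632 L99601
theorem L467634 : N40286 = N8034 := eqc rfl L467633 rfl
theorem L467645 : sm gd N8034 = N27655 := trfs L467634 L340425 rfl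
theorem L467646 : N27655 = N5555 := eqes L467645 L69012
theorem L467647 : N27655 = N5555 := eqc rfl L467646 rfl
theorem L467664 : sm gh N5555 = N19023 := trfs L467647 L234293 rfl
theorem L467665 : N19023 = N3849 := eqes L467664 L47933
theorem L467666 : N19023 = N3849 := eqc rfl L467665 rfl
theorem L467685 : sm gi N3849 = N27677 := trfs L467666 L234467 rfl
theorem L467686 : N27677 = N2673 := eqes L467685 L33383
theorem L467687 : N27677 = N2673 := eqc rfl L467686 rfl
theorem L467693 : sm gf N2673 = N40328 := trfs L467687 (flp_f L340771) rfl
theorem L467694 : N40328 = N1859 := eqes L467693 (flp_f L23300)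
theorem L467695 : N40328 = N1859 := eqc rfl L467694 rfl
theorem L467712 : sm ge N1859 = N27686 := trfs L467695 L340769 rfl
theorem L467713 : N27686 = N1294 := eqes L467712 (flp_e L16284)
theorem L467714 : N27686 = N1294 := eqc rfl L467713 rfl
theorem L467730 : sm gh N1294 = N40341 := trfs L467714 L340874 rfl
theorem L467731 : N40341 = N1294 := eqes L467730 L11400
theorem L467732 : N40341 = N1294 := eqc rfl L467731 rfl
theorem L467735 : sm gf N1294 = N27687 := trfs L467732 L340877 rfl
theorem L467736 : N27687 = N1294 := eqes L467735 L11396
theorem L467737 : N27687 = N1294 := eqc rfl L467736 rfl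
theorem L467749 : sm gi N1294 = N40303 := trfs L467737 (flp_i L340569) rfl
theorem L467750 : N40303 = N1857 := eqes L467749 (flp_i L16274)
theorem L467751 : N40303 = N1857 := eqc rfl L467750 rfl
theorem L467754 : sm gg N1857 = N27672 := trfs L467751 L340566 rfl
theorem L467755 : N27672 = N1300 := eqes L467754 L16271
theorem L467756 : N27672 = N1300 := eqc rfl L467755 rfl
theorem L467766 : sm gf N1300 = N40318 := trfs L467756 (flp_f L340692) rfl
theorem L467767 : N40318 = N918 := eqes L467766 L11448
theorem L467768 : N40318 = N918 := eqc rfl L467767 rfl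
theorem L467776 : sm gh N918 = N27671 := trfs L467768 (flp_h L340689) rfl
theorem L467777 : N27671 = N1317 := eqes L467776 (flp_h L11590)
theorem L467778 : N27671 = N1317 := eqc rfl L467777 rfl
theorem L467792 : sm gi N1317 = N19019 := trfs L467778 (flp_i L234420) rfl
theorem L467793 : N19019 = N1317 := eqes L467792 L11589
theorem L467794 : N19019 = N1317 := eqc rfl L467793 rfl
theorem L467797 : sm gc N1317 = N27667 := trfs L467794 (flp_c L234391) rfl
theorem L467798 : N27667 = N1892 := eqes L467797 L16557
theorem L467799 : N27667 = N1892 := eqc rfl L467798 rfl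
theorem L467809 : sm gh N1317 = N13095 := trfs L467794 L161544 rfl
theorem L467810 : N13095 = N918 := eqes L467809 L11590
theorem L467811 : N13095 = N918 := eqc rfl L467810 rfl
theorem L467826 : sm gi N918 = N19038 := trfs L467811 L161682 rfl
theorem L467827 : N19038 = N636 := eqes L467826 L8116
theorem L467828 : N19038 = N636 := eqc rfl L467827 rfl
theorem L467839 : sm gg N636 = N27698 := trfs L467828 (flp_g L234637) rfl
theorem L467840 : N27698 = N636 := eqes L467839 L5635
theorem L467841 : N27698 = N636 := eqc rfl L467840 rfl
theorem L467858 : sm gj N636 = N40355 := trfs L467841 (flp_j L340988) rfl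
theorem L467859 : N40355 = N441 := eqes L467858 L5636
theorem L467860 : N40355 = N441 := eqc rfl L467859 rfl
theorem L467874 : sm gi N441 = N27697 := trfs L467860 (flp_i L340981) rfl
theorem L467875 : N27697 = N640 := eqes L467874 (flp_i L5668)
theorem L467876 : N27697 = N640 := eqc rfl L467875 rfl
theorem L467893 : sm gg N640 = N19149 := trfs L467876 L234630 rfl
theorem L467894 : N19149 = N445 := eqes L467893 L5666
theorem L467895 : N19149 = N445 := eqc rfl L467894 rfl
theorem L467912 : sm gj N445 = N13177 := trfs L467895 (flp_j L162583) rfl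
theorem L467913 : N13177 = N445 := eqes L467912 L3946
theorem L467914 : N13177 = N445 := eqc rfl L467913 rfl
theorem L467933 : sm gi N445 = N19150 := trfs L467914 L162589 rfl
theorem L467934 : N19150 = N304 := eqes L467933 L3947
theorem L467935 : N19150 = N304 := eqc rfl L467934 rfl
theorem L467950 : sm gh N304 = N27853 := trfs L467935 L235884 rfl
theorem L467951 : N27853 = N304 := eqes L467950 L2708
theorem L467952 : N27853 = N304 := eqc rfl L467951 rfl
theorem L467969 : sm gi N304 = N40550 := trfs L467952 (flp_i L342563) rfl
theorem L467970 : N40550 = N445 := eqes L467969 (flp_i L3947)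
theorem L467971 : N40550 = N445 := eqc rfl L467970 rfl
theorem L467975 : sm gh N445 = N27837 := trfs L467971 (flp_h L342557) rfl
theorem L467976 : N27837 = N645 := eqes L467975 (flp_h L5708)
theorem L467977 : N27837 = N645 := eqc rfl L467976 rfl
theorem L467984 : sm ge N645 = N39961 := trfs L467977 (flp_e L337670) rfl
theorem L467985 : N39961 = N932 := eqes L467984 L8219
theorem L467986 : N39961 = N932 := eqc rfl L467985 rfl
theorem L467996 : sm gi N932 = N27416 := trfs L467986 (flp_i L337666) rfl
theorem L467997 : N27416 = N932 := eqes L467996 L8225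
theorem L467998 : N27416 = N932 := eqc rfl L467997 rfl
theorem L468011 : sm gg N932 = N18837 := trfs L467998 (flp_g L232264) rfl
theorem L468012 : N18837 = N1326 := eqes L468011 (flp_g L11660)
theorem L468013 : N18837 = N1326 := eqc rfl L468012 rfl
theorem L468031 : sm gh N1326 = N12963 := trfs L468013 L160014 rfl
theorem L468032 : N12963 = N925 := eqes L468031 L11662
theorem L468033 : N12963 = N925 := eqc rfl L468032 rfl
theorem L468045 : sm gi N925 = N18856 := trfs L468033 L160145 rfl
theorem L468046 : N18856 = N642 := eqes L468045 L8172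
theorem L468047 : N18856 = N642 := eqc rfl L468046 rfl
theorem L468060 : sm gh N642 = N27445 := trfs L468047 L232480 rfl
theorem L468061 : N27445 = N642 := eqes L468060 L5681
theorem L468062 : N27445 = N642 := eqc rfl L468061 rfl
theorem L468067 : sm gd N642 = N40000 := trfs L468062 L337959 rfl
theorem L468068 : N40000 = N452 := eqes L468067 L5682
theorem L468069 : N40000 = N452 := eqc rfl L468068 rfl
theorem L468091 : sm gh N452 = N27456 := trfs L468069 L337964 rfl
theorem L468092 : N27456 = N319 := eqes L468091 L4003
theorem L468093 : N27456 = N319 := eqc rfl L468092 rfl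
theorem L468105 : sm gf N319 = N18867 := trfs L468093 L232566 rfl
theorem L468106 : N18867 = N470 := eqes L468105 L4142
theorem L468107 : N18867 = N470 := eqc rfl L468106 rfl
theorem L468131 : sm gg N470 = N27453 := trfs L468107 (flp_g L232544) rfl
theorem L468132 : N27453 = N685 := eqes L468131 L6024
theorem L468133 : N27453 = N685 := eqc rfl L468132 rfl
theorem L468137 : sm ga N685 = N39913 := trfs L468133 (flp_a L337283) rfl
theorem L468138 : N39913 = N874 := eqes L468137 (flp_a L7732)
theorem L468139 : N39913 = N874 := eqc rfl L468138 rfl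
theorem L468165 : sm gd N874 = N27382 := trfs L468139 (flp_d L337281) rfl
theorem L468166 : N27382 = N874 := eqes L468165 L7734
theorem L468167 : N27382 = N874 := eqc rfl L468166 rfl
theorem L468188 : sm gh N874 = N18812 := trfs L468167 (flp_h L231993) rfl
theorem L468189 : N18812 = N1220 := eqes L468188 (flp_h L10739)
theorem L468190 : N18812 = N1220 := eqc rfl L468189 rfl
theorem L468210 : sm gi N1220 = N12934 := trfs L468190 (flp_i L159809) rfl
theorem L468211 : N12934 = N1749 := eqes L468210 (flp_i L15322)
theorem L468212 : N12934 = N1749 := eqc rfl L468211 rfl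
theorem L468222 : sm gf N1749 = N18811 := trfs L468212 L159802 rfl
theorem L468223 : N18811 = N1225 := eqes L468222 L15324
theorem L468224 : N18811 = N1225 := eqc rfl L468223 rfl
theorem L468238 : sm ge N1225 = N13014 := trfs L468224 L159807 rfl
theorem L468239 : N13014 = N860 := eqes L468238 L10786
theorem L468240 : N13014 = N860 := eqc rfl L468239 rfl
theorem L468259 : sm gi N860 = N18920 := trfs L468240 L160656 rfl
theorem L468260 : N18920 = N598 := eqes L468259 L7612
theorem L468261 : N18920 = N598 := eqc rfl L468260 rfl
theorem L468278 : sm gh N598 = N27525 := trfs L468261 L233118 rfl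
theorem L468279 : N27525 = N419 := eqes L468278 L5301
theorem L468280 : N27525 = N419 := eqc rfl L468279 rfl
theorem L468293 : sm gg N419 = N40102 := trfs L468280 (flp_g L338776) rfl
theorem L468294 : N40102 = N285 := eqes L468293 (flp_g L3717)
theorem L468295 : N40102 = N285 := eqc rfl L468294 rfl
theorem L468305 : sm gf N285 = N27528 := trfs L468295 L338774 rfl
theorem L468306 : N27528 = N194 := eqes L468305 (flp_f L2536)
theorem L468307 : N27528 = N194 := eqc rfl L468306 rfl
theorem L468327 : sm gh N194 = N18923 := trfs L468307 (flp_h L233144) rfl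
theorem L468328 : N18923 = N278 := eqes L468327 (flp_h L2479)
theorem L468329 : N18923 = N278 := eqc rfl L468328 rfl
theorem L468351 : sm gi N278 = N13017 := trfs L468329 (flp_i L160681) rfl
theorem L468352 : N13017 = N406 := eqes L468351 (flp_i L3611)
theorem L468353 : N13017 = N406 := eqc rfl L468352 rfl
theorem L468371 : sm gj N406 = N18922 := trfs L468353 L160672 rfl
theorem L468372 : N18922 = N406 := eqes L468371 L3609
theorem L468373 : N18922 = N406 := eqc rfl L468372 rfl
theorem L468388 : sm gf N406 = N27523 := trfs L468373 (flp_f L233106) rfl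
theorem L468389 : N27523 = N593 := eqes L468388 L5252
theorem L468390 : N27523 = N593 := eqc rfl L468389 rfl
theorem L468398 : sm gc N593 = N39235 := trfs L468390 (flp_c L331552) rfl
theorem L468399 : N39235 = N859 := eqes L468398 (flp_c L7600)
theorem L468400 : N39235 = N859 := eqc rfl L468399 rfl
theorem L468417 : sm gj N859 = N26906 := trfs L468400 (flp_j L331548) rfl
theorem L468418 : N26906 = N859 := eqes L468417 L7602
theorem L468419 : N26906 = N859 := eqc rfl L468418 rfl
theorem L468426 : sm gd N859 = N39225 := trfs L468419 (flp_d L331461) rfl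
theorem L468427 : N39225 = N1236 := eqes L468426 (flp_d L10882)
theorem L468428 : N39225 = N1236 := eqc rfl L468427 rfl
theorem L468450 : sm gg N1236 = N26897 := trfs L468428 (flp_g L331456) rfl
theorem L468451 : N26897 = N1782 := eqes L468450 L15602
theorem L468452 : N26897 = N1782 := eqc rfl L468451 rfl
theorem L468471 : sm gi N1782 = N39226 := trfs L468452 L331465 rfl
theorem L468472 : N39226 = N1246 := eqes L468471 L15609
theorem L468473 : N39226 = N1246 := eqc rfl L468472 rfl
theorem L468477 : sm gf N1246 = N26898 := trfs L468473 L331472 rfl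
theorem L468478 : N26898 = N1246 := eqes L468477 L10974
theorem L468479 : N26898 = N1246 := eqc rfl L468478 rfl
theorem L468496 : sm gj N1246 = N39223 := trfs L468479 (flp_j L331446) rfl
theorem L468497 : N39223 = N1793 := eqes L468496 L15698
theorem L468498 : N39223 = N1793 := eqc rfl L468497 rfl
theorem L468508 : sm gi N1793 = N26895 := trfs L468498 (flp_i L331436) rfl
theorem L468509 : N26895 = N2571 := eqes L468508 (flp_i L22400)
theorem L468510 : N26895 = N2571 := eqc rfl L468509 rfl
theorem L468527 : sm gh N2571 = N39207 := trfs L468510 (flp_h L331298) rfl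
theorem L468528 : N39207 = N3717 := eqes L468527 L32205
theorem L468529 : N39207 = N3717 := eqc rfl L468528 rfl
theorem L468539 : sm gj N3717 = N26885 := trfs L468529 L331296 rfl
theorem L468540 : N26885 = N2572 := eqes L468539 L32212
theorem L468541 : N26885 = N2572 := eqc rfl L468540 rfl
theorem L468554 : sm gg N2572 = N18458 := trfs L468541 L227787 rfl
theorem L468555 : N18458 = N1783 := eqes L468554 L22409
theorem L468556 : N18458 = N1783 := eqc rfl L468555 rfl
theorem L468574 : sm gh N1783 = N12686 := trfs L468556 L156816 rfl
theorem L468575 : N12686 = N1236 := eqes L468574 (flp_h L15612)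
theorem L468576 : N12686 = N1236 := eqc rfl L468575 rfl
theorem L468587 : sm gf N1236 = N18468 := trfs L468576 L156900 rfl
theorem L468588 : N18468 = N858 := eqes L468587 (flp_f L10877)
theorem L468589 : N18468 = N858 := eqc rfl L468588 rfl
theorem L468603 : sm gi N858 = N26901 := trfs L468589 L227927 rfl
theorem L468604 : N26901 = N596 := eqes L468603 L7592
theorem L468605 : N26901 = N596 := eqc rfl L468604 rfl
theorem L468607 : sm gb N596 = N39158 := trfs L468605 (flp_b L330891) rfl
theorem L468608 : N39158 = N862 := eqes L468607 (flp_b L7627)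
theorem L468609 : N39158 = N862 := eqc rfl L468608 rfl
theorem L468628 : sm gf N862 = N26849 := trfs L468609 L330896 rfl
theorem L468629 : N26849 = N1243 := eqes L468628 L10943
theorem L468630 : N26849 = N1243 := eqc rfl L468629 rfl
theorem L468643 : sm ge N1243 = N18434 := trfs L468630 L227491 rfl
theorem L468644 : N18434 = N1789 := eqes L468643 L15667
theorem L468645 : N18434 = N1789 := eqc rfl L468644 rfl
theorem L468668 : sm gi N1789 = N12663 := trfs L468645 (flp_i L156617) rfl
theorem L468669 : N12663 = N2565 := eqes L468668 (flp_i L22343)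
theorem L468670 : N12663 = N2565 := eqc rfl L468669 rfl
theorem L468687 : sm gh N2565 = N18425 := trfs L468670 (flp_h L156560) rfl
theorem L468688 : N18425 = N3710 := eqes L468687 L32140
theorem L468689 : N18425 = N3710 := eqc rfl L468688 rfl
theorem L468702 : sm gg N3710 = N26832 := trfs L468689 (flp_g L227365) rfl
theorem L468703 : N26832 = N5371 := eqes L468702 (flp_g L46313)
theorem L468704 : N26832 = N5371 := eqc rfl L468703 rfl
theorem L468721 : sm gj N5371 = N39129 := trfs L468704 (flp_j L330674) rfl
theorem L468722 : N39129 = N7785 := eqes L468721 (flp_j L66864)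
theorem L468723 : N39129 = N7785 := eqc rfl L468722 rfl
theorem L468731 : sm gh N7785 = N26841 := trfs L468723 L330676 rfl
theorem L468732 : N26841 = N5370 := eqes L468731 (flp_h L66857)
theorem L468733 : N26841 = N5370 := eqc rfl L468732 rfl
theorem L468741 : sm gd N5370 = N18429 := trfs L468733 (flp_d L227427) rfl
theorem L468742 : N18429 = N7699 := eqes L468741 (flp_d L66124)
theorem L468743 : N18429 = N7699 := eqc rfl L468742 rfl
theorem L468750 : sm gi N5370 = N39147 := trfs L468733 L330809 rfl
theorem L468751 : N39147 = N3727 := eqes L468750 L46304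
theorem L468752 : N39147 = N3727 := eqc rfl L468751 rfl
theorem L468754 : sm gd N3727 = N26842 := trfs L468752 L330813 rfl
theorem L468755 : N26842 = N5342 := eqes L468754 (flp_d L46044)
theorem L468756 : N26842 = N5342 := eqc rfl L468755 rfl
theorem L468772 : sm gh N5342 = N38894 := trfs L468756 (flp_h L328795) rfl
theorem L468773 : N38894 = N7750 := eqes L468772 L66537
theorem L468774 : N38894 = N7750 := eqc rfl L468773 rfl
theorem L468785 : sm gi N7750 = N26668 := trfs L468774 (flp_i L328786) rfl
theorem L468786 : N26668 = N11257 := eqes L468785 L96299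
theorem L468787 : N26668 = N10959 := eqc rfl L468786 L456401
theorem L468806 : sm gh N10959 = N18310 := trfs L468787 (flp_h L226048) rfl
theorem L468807 : N18310 = N15943 := eqes L468806 L135991
theorem L468808 : N18310 = N15943 := eqc rfl L468807 rfl
theorem L468811 : sm gc N15943 = N23620 := trfs L468808 (flp_c L200911) rfl
theorem L468812 : N23620 = N23201 := eqes L468811 (flp_c L197363)
theorem L468813 : N23620 = N23201 := eqc rfl L468812 rfl
theorem L468825 : sm gi N15943 = N12661 := trfs L468808 L155634 rfl
theorem L468826 : N12661 = N23222 := eqes L468825 L197538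
theorem L468827 : N23222 = N12661 := (eqc rfl L468826 rfl).symm
theorem L468848 : sm gh N12661 = N33711 := trfs L468827 (flp_h L285993) rfl
theorem L468849 : N33711 = N18429 := eqes L468848 L156582
theorem L468850 : N33711 = N7699 := eqc rfl L468849 L468743
theorem L468853 : sm ga N7699 = N23155 := trfs L468850 L285984 rfl
theorem L468854 : N23155 = N11163 := eqes L468853 (flp_a L95536)
theorem L468855 : N23155 = N11163 := eqc rfl L468854 rfl
theorem L468857 : sm ge N7699 = N23126 := trfs L468850 L285988 rfl
theorem L468858 : N23126 = N5310 := eqes L468857 L66126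
theorem L468859 : N23126 = N5310 := eqc rfl L468858 rfl
theorem L468863 : sm ga N5310 = N15904 := trfs L468859 L196714 rfl
theorem L468864 : N15904 = N7686 := eqes L468863 (flp_a L66018)
theorem L468865 : N15904 = N7686 := eqc rfl L468864 rfl
theorem L468877 : sm gi N5310 = N15880 := trfs L468859 (flp_i L196712) rfl
theorem L468878 : N15880 = N3689 := eqes L468877 L45787
theorem L468879 : N15880 = N3689 := eqc rfl L468878 rfl
theorem L468880 : sm ga N3689 = N10934 := trfs L468879 L135452 rfl
theorem L468881 : N10934 = N5329 := eqes L468880 (flp_a L45947)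
theorem L468882 : N10934 = N5329 := eqc rfl L468881 rfl
theorem L468896 : sm gh N3689 = N10917 := trfs L468879 (flp_h L135450) rfl
theorem L468897 : N10917 = N5345 := eqes L468896 L46067
theorem L468898 : N10917 = N5345 := eqc rfl L468897 rfl
theorem L468899 : sm ga N5345 = N7530 := trfs L468898 L93388 rfl
theorem L468900 : N7530 = N7731 := eqes L468899 (flp_a L66405)
theorem L468901 : N7731 = N7530 := (eqc rfl L468900 rfl).symm
theorem L468908 : sm gj N5345 = N7519 := trfs L468898 (flp_j L93386) rfl
theorem L468909 : N7519 = N3690 := eqes L468908 L46072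
theorem L468910 : N7519 = N3690 := eqc rfl L468909 rfl
theorem L468913 : sm ga N3690 = N5193 := trfs L468910 L64553 rfl
theorem L468914 : N5193 = N5330 := eqes L468913 (flp_a L45956)
theorem L468915 : N5330 = N5193 := (eqc rfl L468914 rfl).symm
theorem L468919 : sm gc N3690 = N10911 := trfs L468910 (flp_c L93337) rfl
theorem L468920 : N10911 = N5336 := eqes L468919 (flp_c L46002)
theorem L468921 : N10911 = N5336 := eqc rfl L468920 rfl
theorem L468922 : sm gd N3690 = N5189 := trfs L468910 L64557 rfl
theorem L468923 : N5189 = N2623 := eqes L468922 L31965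
theorem L468924 : N5189 = N2623 := eqc rfl L468923 rfl
theorem L468925 : sm ge N3690 = N10915 := trfs L468910 (flp_e L93372) rfl
theorem L468926 : N10915 = N5343 := eqes L468925 (flp_e L46053)
theorem L468927 : N10915 = N5343 := eqc rfl L468926 rfl
theorem L468928 : sm gf N3690 = N10810 := trfs L468910 (flp_f L92460) rfl
theorem L468929 : N10810 = N5286 := eqes L468928 (flp_f L45578)
theorem L468930 : N10810 = N5286 := eqc rfl L468929 rfl
theorem L468931 : sm gg N3690 = N5187 := trfs L468910 (flp_g L64551) rfl
theorem L468932 : N5187 = N2551 := eqes L468931 L31963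
theorem L468933 : N5187 = N2551 := eqc rfl L468932 rfl
theorem L468935 : sm gi N3690 = N5206 := trfs L468910 L64559 rfl
theorem L468936 : N5206 = N5346 := eqes L468935 L46076
theorem L468937 : N5346 = N5206 := (eqc rfl L468936 rfl).symm
theorem L468947 : sm ge N5206 = N7751 := trfs L468937 (flp_e L66552) rfl
theorem L468948 : N7751 = N7547 := eqes L468947 (flp_e L64806)
theorem L468949 : N7751 = N7547 := eqc rfl L468948 rfl
theorem L468955 : sm gh N5206 = N7704 := trfs L468937 (flp_h L66173) rfl
theorem L468956 : N7704 = N7550 := eqes L468955 L64827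
theorem L468957 : N7704 = N7550 := eqc rfl L468956 rfl
theorem L468958 : sm gi N5206 = N3690 := trfs L468937 (flp_i L46076) rfl
theorem L468963 : sm gb N7550 = N5319 := trfs L468957 L66168 rfl
theorem L468964 : N5319 = N5843 := eqes L468963 L64831
theorem L468965 : N5843 = N5319 := (eqc rfl L468964 rfl).symm
theorem L468972 : sm gg N7550 = N5312 := trfs L468957 L66171 rfl
theorem L468973 : N5312 = N5207 := eqes L468972 L64833
theorem L468974 : N5312 = N5207 := eqc rfl L468973 rfl
theorem L468978 : N10964 = N5311 := L444301.trans L456308
theorem L468986 : sm ge N5207 = N7702 := trfs L468974 (flp_e L66152) rfl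
theorem L468987 : N7702 = N7548 := eqes L468986 (flp_e L64814)
theorem L468988 : N7702 = N7548 := eqc rfl L468987 rfl
theorem L468995 : sm gb N7548 = N5317 := trfs L468988 L66150 rfl
theorem L468996 : N5317 = N5841 := eqes L468995 L64812
theorem L468997 : N5841 = N5317 := (eqc rfl L468996 rfl).symm
theorem L469001 : sm gd N7548 = N11190 := trfs L468988 (flp_d L95759) rfl
theorem L469002 : N11190 = N10961 := eqes L469001 L93775
theorem L469003 : N11190 = N10961 := eqc rfl L469002 rfl
theorem L469007 : sm gh N7548 = N5344 := trfs L468988 L66156 rfl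
theorem L469008 : N5344 = N5205 := eqes L469007 (flp_h L64808)
theorem L469009 : N5344 = N5205 := eqc rfl L469008 rfl
theorem L469010 : sm gi N7548 = N5309 := trfs L468988 (flp_i L66148) rfl
theorem L469011 : N5309 = N10962 := eqes L469010 L93785
theorem L469012 : N10962 = N5309 := (eqc rfl L469011 rfl).symm
theorem L469017 : sm gd N5309 = N15947 := trfs L469012 (flp_d L136036) rfl
theorem L469018 : N15947 = N7701 := eqes L469017 L66139
theorem L469019 : N15947 = N7701 := eqc rfl L469018 rfl
theorem L469025 : sm gi N5309 = N7548 := trfs L469012 (flp_i L93785) rfl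
theorem L469027 : sm ga N7701 = N10986 := trfs L469019 L136032 rfl
theorem L469028 : N10986 = N11165 := eqes L469027 (flp_a L95559)
theorem L469029 : N11165 = N10986 := (eqc rfl L469028 rfl).symm
theorem L469033 : sm gc N7701 = N23226 := trfs L469019 (flp_c L197581) rfl
theorem L469034 : N23226 = N11189 := eqes L469033 L95748
theorem L469035 : N23226 = N11189 := eqc rfl L469034 rfl
theorem L469038 : sm gg N7701 = N23224 := trfs L469019 (flp_g L197566) rfl
theorem L469039 : N23224 = N11187 := eqes L469038 (flp_g L95733)
theorem L469040 : N23224 = N11187 := eqc rfl L469039 rfl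
theorem L469042 : sm gh N7701 = N20373 := trfs L469019 (flp_h L427982) rfl
theorem L469043 : N20373 = N5372 := eqes L469042 L66146
theorem L469044 : N20373 = N5372 := eqc rfl L469043 rfl
theorem L469053 : sm gc N5372 = N29337 := trfs L469044 (flp_c L248699) rfl
theorem L469054 : N29337 = N7787 := eqes L469053 L66875
theorem L469055 : N29337 = N7787 := eqc rfl L469054 rfl
theorem L469061 : sm gg N5372 = N29655 := trfs L469044 L251411 rfl
theorem L469062 : N29655 = N7786 := eqes L469061 (flp_g L66871)
theorem L469063 : N29655 = N7786 := eqc rfl L469062 rfl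
theorem L469066 : sm ga N7786 = N20389 := trfs L469063 L251413 rfl
theorem L469067 : N20389 = N11281 := eqes L469066 (flp_a L96532)
theorem L469068 : N20389 = N11281 := eqc rfl L469067 rfl
theorem L469082 : sm gj N7786 = N43225 := trfs L469063 L365555 rfl
theorem L469083 : N43225 = N11301 := eqes L469082 (flp_j L96697)
theorem L469084 : N43225 = N11301 := eqc rfl L469083 rfl
theorem L469090 : sm gd N11301 = N29658 := trfs L469084 L365559 rfl
theorem L469091 : N29658 = N7785 := eqes L469090 (flp_d L96692)
theorem L469092 : N29658 = N7785 := eqc rfl L469091 rfl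
theorem L469096 : sm ga N7785 = N20392 := trfs L469092 L251437 rfl
theorem L469097 : N20392 = N11280 := eqes L469096 (flp_a L96520)
theorem L469098 : N20392 = N11280 := eqc rfl L469097 rfl
theorem L469102 : sm gc N7785 = N20383 := trfs L469092 L251439 rfl
theorem L469103 : N20383 = N11290 := eqes L469102 (flp_c L96606)
theorem L469104 : N20383 = N11290 := eqc rfl L469103 rfl
theorem L469113 : sm gh N7785 = N43231 := trfs L469092 L365607 rfl
theorem L469114 : N43231 = N5370 := eqes L469113 (flp_h L66857)
theorem L469115 : N43231 = N5370 := eqc rfl L469114 rfl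
theorem L469127 : sm gj N5370 = N29659 := trfs L469115 L365616 rfl
theorem L469128 : N29659 = N3709 := eqes L469127 (flp_j L46298)
theorem L469129 : N29659 = N3709 := eqc rfl L469128 rfl
theorem L469150 : sm gi N3709 = N23122 := trfs L469129 (flp_i L442736) rfl
theorem L469151 : N23122 = N2580 := eqes L469150 L32138
theorem L469152 : N23122 = N2580 := eqc rfl L469151 rfl
theorem L469170 : sm gj N2580 = N33710 := trfs L469152 (flp_j L285979) rfl
theorem L469171 : N33710 = N3727 := eqes L469170 L32290
theorem L469172 : N33710 = N3727 := eqc rfl L469171 rfl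
theorem L469177 : sm gb N3727 = N25941 := trfs L469172 L285976 rfl
theorem L469178 : N25941 = N2583 := eqes L469177 L32292
theorem L469179 : N25941 = N2583 := eqc rfl L469178 rfl
theorem L469197 : sm gi N2583 = N37830 := trfs L469179 L320101 rfl
theorem L469198 : N37830 = N3714 := eqes L469197 (flp_i L32184)
theorem L469199 : N37830 = N3714 := eqc rfl L469198 rfl
theorem L469200 : sm ga N3714 = N25991 := trfs L469199 L320103 rfl
theorem L469201 : N25991 = N2908 := eqes L469200 L32179
theorem L469202 : N25991 = N2908 := eqc rfl L469201 rfl
theorem L469222 : sm gh N2908 = N37904 := trfs L469202 L320705 rfl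
theorem L469223 : N37904 = N4205 := eqes L469222 L36227
theorem L469224 : N37904 = N4205 := eqc rfl L469223 rfl
theorem L469233 : sm gj N4205 = N25994 := trfs L469224 L320710 rfl
theorem L469234 : N25994 = N2909 := eqes L469233 L36233
theorem L469235 : N25994 = N2909 := eqc rfl L469234 rfl
theorem L469253 : sm gg N2909 = N17850 := trfs L469235 L220544 rfl
theorem L469254 : N17850 = N2016 := eqes L469253 L25186
theorem L469255 : N17850 = N2016 := eqc rfl L469254 rfl
theorem L469273 : sm gh N2016 = N12267 := trfs L469255 (flp_h L151876) rfl
theorem L469274 : N12267 = N1397 := eqes L469273 (flp_h L17537)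
theorem L469275 : N12267 = N1397 := eqc rfl L469274 rfl
theorem L469291 : sm gi N1397 = N8444 := trfs L469275 (flp_i L104699) rfl
theorem L469292 : N8444 = N978 := eqes L469291 L12222
theorem L469293 : N8444 = N978 := eqc rfl L469292 rfl
theorem L469306 : sm gg N978 = N12264 := trfs L469293 (flp_g L104681) rfl
theorem L469307 : N12264 = N1408 := eqes L469306 L12307
theorem L469308 : N12264 = N1408 := eqc rfl L469307 rfl
theorem L469320 : sm gf N1408 = N17842 := trfs L469308 (flp_f L151818) rfl
theorem L469321 : N17842 = N2028 := eqes L469320 L17635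
theorem L469322 : N17842 = N2028 := eqc rfl L469321 rfl
theorem L469342 : sm gi N2028 = N12712 := trfs L469322 L220503 L445705
theorem L469343 : N12712 = N2907 := eqes L469342 (flp_i L25169)
theorem L469344 : N12712 = N2907 := eqc rfl L469343 rfl
theorem L469363 : sm gh N2907 = N18489 := trfs L469344 (flp_h L157093) rfl
theorem L469364 : N18489 = N4204 := eqes L469363 L36219
theorem L469365 : N18489 = N4204 := eqc rfl L469364 rfl
theorem L469385 : sm gj N4204 = N26923 := trfs L469365 (flp_j L228128) rfl
theorem L469386 : N26923 = N6082 := eqes L469385 (flp_j L52188)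
theorem L469387 : N26923 = N6082 := eqc rfl L469386 rfl
theorem L469405 : sm gg N6082 = N39255 := trfs L469387 (flp_g L331714) rfl
theorem L469406 : N39255 = N8816 := eqes L469405 (flp_g L75366)
theorem L469407 : N39255 = N8816 := eqc rfl L469406 rfl
theorem L469416 : sm gh N8816 = N26935 := trfs L469407 L331718 rfl
theorem L469417 : N26935 = N6081 := eqes L469416 (flp_h L75361)
theorem L469418 : N26935 = N6081 := eqc rfl L469417 rfl
theorem L469435 : sm gi N6081 = N39273 := trfs L469418 L331849 rfl
theorem L469436 : N39273 = N4220 := eqes L469435 L52178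
theorem L469437 : N39273 = N4220 := eqc rfl L469436 rfl
theorem L469441 : sm gg N4220 = N26938 := trfs L469437 L331855 rfl
theorem L469442 : N26938 = N2922 := eqes L469441 (flp_g L36344)
theorem L469443 : N26938 = N2922 := eqc rfl L469442 rfl
theorem L469452 : sm ge N2922 = N39275 := trfs L469443 (flp_e L331868) rfl
theorem L469453 : N39275 = N2922 := eqes L469452 L25287
theorem L469454 : N39275 = N2922 := eqc rfl L469453 rfl
theorem L469464 : sm gi N2922 = N26937 := trfs L469454 (flp_i L331865) rfl
theorem L469465 : N26937 = N4203 := eqes L469464 (flp_i L36217)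
theorem L469466 : N26937 = N4203 := eqc rfl L469465 rfl
theorem L469478 : sm gf N4203 = N39274 := trfs L469466 L331858 rfl
theorem L469479 : N39274 = N2908 := eqes L469478 L36215
theorem L469480 : N39274 = N2908 := eqc rfl L469479 rfl
theorem L469486 : sm gj N2908 = N26939 := trfs L469480 L331861 rfl
theorem L469487 : N26939 = N2015 := eqes L469486 (flp_j L25173)
theorem L469488 : N26939 = N2015 := eqc rfl L469487 rfl
theorem L469502 : sm gh N2015 = N39259 := trfs L469488 (flp_h L331747) rfl
theorem L469503 : N39259 = N2909 := eqes L469502 L25181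
theorem L469504 : N39259 = N2909 := eqc rfl L469503 rfl
theorem L469512 : sm ge N2909 = N26929 := trfs L469504 L331749 rfl
theorem L469513 : N26929 = N2018 := eqes L469512 L25184
theorem L469514 : N26929 = N2018 := eqc rfl L469513 rfl
theorem L469517 : sm gb N2018 = N38073 := trfs L469514 (flp_b L322168) rfl
theorem L469518 : N38073 = N2906 := eqes L469517 (flp_b L25159)
theorem L469519 : N38073 = N2906 := eqc rfl L469518 rfl
theorem L469537 : sm gh N2906 = N26124 := trfs L469519 L322171 rfl
theorem L469538 : N26124 = N2012 := eqes L469537 (flp_h L25157)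
theorem L469539 : N26124 = N2012 := eqc rfl L469538 rfl
theorem L469558 : sm gi N2012 = N38102 := trfs L469539 L322404 rfl
theorem L469559 : N38102 = N1406 := eqes L469558 L17508
theorem L469560 : N38102 = N1406 := eqc rfl L469559 rfl
theorem L469563 : sm gf N1406 = N26125 := trfs L469560 L322410 rfl
theorem L469564 : N26125 = N1406 := eqes L469563 L12297
theorem L469565 : N26125 = N1406 := eqc rfl L469564 rfl
theorem L469580 : sm gj N1406 = N38096 := trfs L469565 (flp_j L322364) rfl
theorem L469581 : N38096 = N2027 := eqes L469580 L17626
theorem L469582 : N38096 = N2027 := eqc rfl L469581 rfl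
theorem L469591 : sm gi N2027 = N26120 := trfs L469582 (flp_i L322355) rfl
theorem L469592 : N26120 = N2905 := eqes L469591 (flp_i L25154)
theorem L469593 : N26120 = N2905 := eqc rfl L469592 rfl
theorem L469610 : sm gh N2905 = N38069 := trfs L469593 (flp_h L322137) rfl
theorem L469611 : N38069 = N4202 := eqes L469610 L36201
theorem L469612 : N38069 = N4202 := eqc rfl L469611 rfl
theorem L469615 : sm ge N4202 = N26103 := trfs L469612 (flp_e L322130) rfl
theorem L469616 : N26103 = N6078 := eqes L469615 (flp_e L52154)
theorem L469617 : N26103 = N6078 := eqc rfl L469616 rfl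
theorem L469632 : sm gj N6078 = N17922 := trfs L469617 L221469 rfl
theorem L469633 : N17922 = N4200 := eqes L469632 L52157
theorem L469634 : N17922 = N4200 := eqc rfl L469633 rfl
theorem L469644 : sm gd N4200 = N12315 := trfs L469634 (flp_d L152473) rfl
theorem L469645 : N12315 = N6079 := eqes L469644 L52160
theorem L469646 : N12315 = N6079 := eqc rfl L469645 rfl
theorem L469652 : sm gh N4200 = N12321 := trfs L469634 L152479 rfl
theorem L469653 : N12321 = N2903 := eqes L469652 (flp_h L36184)
theorem L469654 : N12321 = N2903 := eqc rfl L469653 rfl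
theorem L469664 : sm gg N2903 = N8482 := trfs L469654 L105148 rfl
theorem L469665 : N8482 = N2011 := eqes L469664 (flp_g L25130)
theorem L469666 : N8482 = N2011 := eqc rfl L469665 rfl
theorem L469681 : sm gi N2011 = N12325 := trfs L469666 L105174 rfl
theorem L469682 : N12325 = N1405 := eqes L469681 L17499
theorem L469683 : N12325 = N1405 := eqc rfl L469682 rfl
theorem L469688 : sm gc N1405 = N17937 := trfs L469683 (flp_c L152598) rfl
theorem L469689 : N17937 = N2024 := eqes L469688 (flp_c L17606)
theorem L469690 : N17937 = N2024 := eqc rfl L469689 rfl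
theorem L469708 : sm gg N2024 = N26123 := trfs L469690 (flp_g L221639) rfl
theorem L469709 : N26123 = N2918 := eqes L469708 L25252
theorem L469710 : N26123 = N2918 := eqc rfl L469709 rfl
theorem L469726 : sm gj N2918 = N38094 := trfs L469710 (flp_j L322345) rfl
theorem L469727 : N38094 = N4218 := eqes L469726 L36327
theorem L469728 : N38094 = N4218 := eqc rfl L469727 rfl
theorem L469737 : sm gi N4218 = N26119 := trfs L469728 (flp_i L322337) rfl
theorem L469738 : N26119 = N6069 := eqes L469737 (flp_i L52079)
theorem L469739 : N26119 = N6069 := eqc rfl L469738 rfl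
theorem L469745 : sm gd N6069 = N17959 := trfs L469739 L221604 rfl
theorem L469746 : N17959 = N8796 := eqes L469745 (flp_d L75198)
theorem L469747 : N17959 = N8796 := eqc rfl L469746 rfl
theorem L469749 : sm gf N6069 = N38085 := trfs L469739 (flp_f L322269) rfl
theorem L469750 : N38085 = N8800 := eqes L469749 (flp_f L75231)
theorem L469751 : N38085 = N8800 := eqc rfl L469750 rfl
theorem L469762 : sm gj N8800 = N26116 := trfs L469751 L322271 rfl
theorem L469763 : N26116 = N6068 := eqes L469762 (flp_j L75225)
theorem L469764 : N26116 = N6068 := eqc rfl L469763 rfl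
theorem L469773 : sm ge N6068 = N38088 := trfs L469764 L322292 rfl
theorem L469774 : N38088 = N6068 := eqes L469773 L52070
theorem L469775 : N38088 = N6068 := eqc rfl L469774 rfl
theorem L469788 : sm gc N6068 = N26117 := trfs L469775 L322295 rfl
theorem L469789 : N26117 = N4198 := eqes L469788 L52066
theorem L469790 : N26117 = N4198 := eqc rfl L469789 rfl
theorem L469806 : sm gi N4198 = N38091 := trfs L469790 L322314 rfl
theorem L469807 : N38091 = N2920 := eqes L469806 L36171
theorem L469808 : N38091 = N2920 := eqc rfl L469807 rfl
theorem L469810 : sm ge N2920 = N26118 := trfs L469808 L322318 rfl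
theorem L469811 : N26118 = N2920 := eqes L469810 L25274
theorem L469812 : N26118 = N2920 := eqc rfl L469811 rfl
theorem L469814 : sm ga N2920 = N38009 := trfs L469812 (flp_a L321619) rfl
theorem L469815 : N38009 = N4213 := eqes L469814 (flp_a L36293)
theorem L469816 : N38009 = N4213 := eqc rfl L469815 rfl
theorem L469833 : sm gi N4213 = N26059 := trfs L469816 (flp_i L321617) rfl
theorem L469834 : N26059 = N6061 := eqes L469833 (flp_i L52009)
theorem L469835 : N26059 = N6061 := eqc rfl L469834 rfl
theorem L469848 : sm gh N6061 = N29613 := trfs L469835 (flp_h L321470) L459389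
theorem L469849 : N29613 = N8791 := eqes L469848 L75152
theorem L469850 : N29613 = N8791 := eqc rfl L469849 rfl
theorem L469854 : sm gb N8791 = N20391 := trfs L469850 L251044 rfl
theorem L469855 : N20391 = N11279 := eqes L469854 (flp_b L96511)
theorem L469856 : N20391 = N11279 := eqc rfl L469855 rfl
theorem L469857 : sm gc N8791 = N20353 := trfs L469850 L251046 rfl
theorem L469858 : N20353 = N12755 := eqes L469857 (flp_c L108674)
theorem L469859 : N20353 = N12755 := eqc rfl L469858 rfl
theorem L469866 : sm gj N8791 = N43162 := trfs L469850 L365011 rfl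
theorem L469867 : N43162 = N12765 := eqes L469866 (flp_j L108772)
theorem L469868 : N43162 = N12765 := eqc rfl L469867 rfl
theorem L469878 : sm gf N12765 = N29614 := trfs L469868 L365018 rfl
theorem L469879 : N29614 = N8792 := eqes L469878 L108770
theorem L469880 : N29614 = N8792 := eqc rfl L469879 rfl
theorem L469884 : sm gc N8792 = N20354 := trfs L469880 L251055 rfl
theorem L469885 : N20354 = N12756 := eqes L469884 (flp_c L108685)
theorem L469886 : N20354 = N12756 := eqc rfl L469885 rfl
theorem L469887 : sm gd N8792 = N23280 := trfs L469880 (flp_d L394367) rfl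
theorem L469888 : N23280 = N12767 := eqes L469887 L108783
theorem L469889 : N23280 = N12767 := eqc rfl L469888 rfl
theorem L469895 : sm gh N8792 = N23168 := trfs L469880 (flp_h L442988) rfl
theorem L469896 : N23168 = N6062 := eqes L469895 (flp_h L75161)
theorem L469897 : N23168 = N6062 := eqc rfl L469896 rfl
theorem L469913 : sm gi N6062 = N15909 := trfs L469897 (flp_i L197065) rfl
theorem L469914 : N15909 = N4214 := eqes L469913 L52019
theorem L469915 : N15909 = N4214 := eqc rfl L469914 rfl
theorem L469923 : sm gd N4214 = N10938 := trfs L469915 (flp_d L135697) rfl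
theorem L469924 : N10938 = N6021 := eqes L469923 (flp_d L51684)
theorem L469925 : N10938 = N6021 := eqc rfl L469924 rfl
theorem L469933 : sm gj N4214 = N10939 := trfs L469915 L135702 rfl
theorem L469934 : N10939 = N2915 := eqes L469933 (flp_j L36298)
theorem L469935 : N10939 = N2915 := eqc rfl L469934 rfl
theorem L469943 : sm ge N2915 = N15856 := trfs L469935 (flp_e L135226) rfl
theorem L469944 : N15856 = N2022 := eqes L469943 L25234
theorem L469945 : N15856 = N2022 := eqc rfl L469944 rfl
theorem L469968 : sm gi N2022 = N20348 := trfs L469945 L443041 rfl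
theorem L469969 : N20348 = N2896 := eqes L469968 (flp_i L25073)
theorem L469970 : N20348 = N2896 := eqc rfl L469969 rfl
theorem L469989 : sm gh N2896 = N13995 := trfs L469970 (flp_h L172912) rfl
theorem L469990 : N13995 = N4190 := eqes L469989 L36094
theorem L469991 : N13995 = N4190 := eqc rfl L469990 rfl
theorem L469995 : sm gb N4190 = N9664 := trfs L469991 L119224 rfl
theorem L469996 : N9664 = N5361 := eqes L469995 (flp_b L46223)
theorem L469997 : N9664 = N5361 := eqc rfl L469996 rfl
theorem L469998 : sm gc N4190 = N9646 := trfs L469991 L119226 rfl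
theorem L469999 : N9646 = N6058 := eqes L469998 (flp_c L51979)
theorem L470000 : N9646 = N6058 := eqc rfl L469999 rfl
theorem L470004 : sm gg N4190 = N9643 := trfs L469991 (flp_g L119222) rfl
theorem L470005 : N9643 = N2897 := eqes L470004 L36099
theorem L470006 : N9643 = N2897 := eqc rfl L470005 rfl
theorem L470012 : sm gb N2897 = N6669 := trfs L470006 L82397 rfl
theorem L470013 : N6669 = N3703 := eqes L470012 (flp_b L32081)
theorem L470014 : N6669 = N3703 := eqc rfl L470013 rfl
theorem L470015 : sm gc N2897 = N6657 := trfs L470006 L82399 rfl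
theorem L470016 : N6657 = N4185 := eqes L470015 (flp_c L36052)
theorem L470017 : N6657 = N4185 := eqc rfl L470016 rfl
theorem L470022 : sm gf N2897 = N6656 := trfs L470006 (flp_f L82395) rfl
theorem L470023 : N6656 = N2007 := eqes L470022 L25080
theorem L470024 : N6656 = N2007 := eqc rfl L470023 rfl
theorem L470031 : sm gb N2007 = N4613 := trfs L470024 L57080 rfl
theorem L470032 : N4613 = N2561 := eqes L470031 (flp_b L22304)
theorem L470033 : N4613 = N2561 := eqc rfl L470032 rfl
theorem L470034 : sm gc N2007 = N4605 := trfs L470024 (flp_c L57074) rfl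
theorem L470035 : N4605 = N2894 := eqes L470034 (flp_c L25053)
theorem L470036 : N4605 = N2894 := eqc rfl L470035 rfl
theorem L470041 : sm gh N2007 = N9644 := trfs L470024 L82404 rfl
theorem L470042 : N9644 = N1391 := eqes L470041 (flp_h L17458)
theorem L470043 : N9644 = N1391 := eqc rfl L470042 rfl
theorem L470061 : sm gi N1391 = N13998 := trfs L470043 L119248 rfl
theorem L470062 : N13998 = N973 := eqes L470061 L12170
theorem L470063 : N13998 = N973 := eqc rfl L470062 rfl
theorem L470073 : sm gd N973 = N10879 := trfs L470063 (flp_d L430692) rfl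
theorem L470074 : N10879 = N672 := eqes L470073 (flp_d L8550)
theorem L470075 : N10879 = N672 := eqc rfl L470074 rfl
theorem L470096 : sm gh N672 = N7494 := trfs L470075 (flp_h L93055) rfl
theorem L470097 : N7494 = N476 := eqes L470096 L5927
theorem L470098 : N7494 = N476 := eqc rfl L470097 rfl
theorem L470111 : sm gf N476 = N5181 := trfs L470098 L64340 rfl
theorem L470112 : N5181 = N693 := eqes L470111 L6085
theorem L470113 : N5181 = N693 := eqc rfl L470112 rfl
theorem L470128 : sm gg N693 = N7510 := trfs L470113 L64467 rfl
theorem L470129 : N7510 = N1003 := eqes L470128 L8785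
theorem L470130 : N7510 = N1003 := eqc rfl L470129 rfl
theorem L470146 : sm gj N1003 = N10902 := trfs L470130 L93246 rfl
theorem L470147 : N10902 = N1441 := eqes L470146 L12571
theorem L470148 : N10902 = N1441 := eqc rfl L470147 rfl
theorem L470164 : sm gh N1441 = N15855 := trfs L470148 L135210 rfl
theorem L470165 : N15855 = N2023 := eqes L470164 (flp_h L17600)
theorem L470166 : N15855 = N2023 := eqc rfl L470165 rfl
theorem L470182 : sm gi N2023 = N23088 := trfs L470166 L196361 rfl
theorem L470183 : N23088 = N2898 := eqes L470182 (flp_i L25092)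
theorem L470184 : N23088 = N2898 := eqc rfl L470183 rfl
theorem L470193 : sm ge N2898 = N15860 := trfs L470184 L196366 rfl
theorem L470194 : N15860 = N4131 := eqes L470193 (flp_e L35635)
theorem L470195 : N15860 = N4131 := eqc rfl L470194 rfl
theorem L470210 : sm gj N4131 = N10907 := trfs L470195 L135265 rfl
theorem L470211 : N10907 = N2855 := eqes L470210 (flp_j L35630)
theorem L470212 : N10907 = N2855 := eqc rfl L470211 rfl
theorem L470229 : sm gi N2855 = N7513 := trfs L470212 (flp_i L93292) rfl
theorem L470230 : N7513 = N1992 := eqes L470229 L24762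
theorem L470231 : N7513 = N1992 := eqc rfl L470230 rfl
theorem L470241 : sm gf N1992 = N10804 := trfs L470231 (flp_f L92397) rfl
theorem L470242 : N10804 = N2839 := eqes L470241 (flp_f L24644)
theorem L470243 : N10804 = N2839 := eqc rfl L470242 rfl
theorem L470258 : sm gh N2839 = N7443 := trfs L470243 (flp_h L92392) rfl
theorem L470259 : N7443 = N2044 := eqes L470258 L24642
theorem L470260 : N7443 = N2044 := eqc rfl L470259 rfl
theorem L470273 : sm gj N2044 = N10803 := trfs L470260 L92382 rfl
theorem L470274 : N10803 = N2946 := eqes L470273 L25491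
theorem L470275 : N10803 = N2946 := eqc rfl L470274 rfl
theorem L470285 : sm gg N2946 = N15604 := trfs L470275 (flp_g L132977) rfl
theorem L470286 : N15604 = N4228 := eqes L470285 (flp_g L36426)
theorem L470287 : N15604 = N4228 := eqc rfl L470286 rfl
theorem L470301 : sm gh N4228 = N22713 := trfs L470287 L193045 rfl
theorem L470302 : N22713 = N5891 := eqes L470301 (flp_h L50667)
theorem L470303 : N22713 = N5891 := eqc rfl L470302 rfl
theorem L470317 : sm gi N5891 = N33097 := trfs L470303 L280607 rfl
theorem L470318 : N33097 = N8515 := eqes L470317 (flp_i L72927)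
theorem L470319 : N33097 = N8515 := eqc rfl L470318 rfl
theorem L470320 : sm ga N8515 = N25267 := trfs L470319 L280609 rfl
theorem L470321 : N25267 = N5878 := eqes L470320 L72921
theorem L470322 : N25267 = N5878 := eqc rfl L470321 rfl
theorem L470338 : sm gj N5878 = N17363 := trfs L470322 L214526 rfl
theorem L470339 : N17363 = N4061 := eqes L470338 (flp_j L50549)
theorem L470340 : N17363 = N4061 := eqc rfl L470339 rfl
theorem L470353 : sm gi N4061 = N11942 := trfs L470340 (flp_i L147842) rfl
theorem L470354 : N11942 = N2819 := eqes L470353 L35084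
theorem L470355 : N11942 = N2819 := eqc rfl L470354 rfl
theorem L470362 : sm gg N2819 = N8229 := trfs L470355 L102023 rfl
theorem L470363 : N8229 = N1955 := eqes L470362 (flp_g L24477)
theorem L470364 : N8229 = N1955 := eqc rfl L470363 rfl
theorem L470386 : sm gj N1955 = N5730 := trfs L470364 L70582 rfl
theorem L470387 : N5730 = N1368 := eqes L470386 L17062
theorem L470388 : N5730 = N1368 := eqc rfl L470387 rfl
theorem L470401 : sm gi N1368 = N8306 := trfs L470388 L71226 rfl
theorem L470402 : N8306 = N1962 := eqes L470401 (flp_i L17123)
theorem L470403 : N8306 = N1962 := eqc rfl L470402 rfl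
theorem L470409 : sm gd N1962 = N5748 := trfs L470403 L71229 rfl
theorem L470410 : N5748 = N2828 := eqes L470409 (flp_d L24553)
theorem L470411 : N5748 = N2828 := eqc rfl L470410 rfl
theorem L470436 : sm gf N2828 = N3974 := trfs L470411 L49512 rfl
theorem L470437 : N3974 = N1961 := eqes L470436 (flp_f L24549)
theorem L470438 : N3974 = N1961 := eqc rfl L470437 rfl
theorem L470446 : sm gc N1961 = N2834 := trfs L470438 L34398 rfl
theorem L470447 : N2834 = N2827 := eqes L470446 L24541
theorem L470448 : N2834 = N2758 := eqc rfl L470447 L445276
theorem L470453 : sm gh N1961 = N2763 := trfs L470438 L34403 rfl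
theorem L470454 : N2763 = N2829 := eqes L470453 L24557
theorem L470455 : N2829 = N2763 := (eqc rfl L470454 rfl).symm
theorem L470458 : sm gb N2763 = N1964 := trfs L470455 L24559 rfl
theorem L470459 : N1964 = N3985 := eqes L470458 (flp_b L34481)
theorem L470460 : N3985 = N1964 := (eqc rfl L470459 rfl).symm
theorem L470469 : N4060 = N3941 := L457626.trans L459924
theorem L470474 : sm gi N2763 = N4092 := trfs L470455 L35336 rfl
theorem L470475 : N4092 = N1917 := eqes L470474 (flp_i L24029)
theorem L470476 : N4092 = N1917 := eqc rfl L470475 rfl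
theorem L470487 : sm gh N1917 = N2845 := trfs L470476 L35344 rfl
theorem L470488 : N2845 = N1332 := eqes L470487 (flp_h L16757)
theorem L470489 : N2845 = N1332 := eqc rfl L470488 rfl
theorem L470492 : sm gc N1332 = N4111 := trfs L470489 (flp_c L35481) rfl
theorem L470493 : N4111 = N951 := eqes L470492 L11708
theorem L470494 : N4111 = N951 := eqc rfl L470493 rfl
theorem L470510 : sm gg N951 = N2880 := trfs L470494 L35484 rfl
theorem L470511 : N2880 = N664 := eqes L470510 L8377
theorem L470512 : N2880 = N664 := eqc rfl L470511 rfl
theorem L470527 : sm gi N664 = N1994 := trfs L470512 (flp_i L24944) rfl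
theorem L470528 : N1994 = N956 := eqes L470527 (flp_i L8417)
theorem L470529 : N1994 = N956 := eqc rfl L470528 rfl
theorem L470531 : sm gb N956 = N2796 := trfs L470529 (flp_b L24289) rfl
theorem L470532 : N2796 = N1374 := eqes L470531 (flp_b L12040)
theorem L470533 : N2796 = N1374 := eqc rfl L470532 rfl
theorem L470540 : sm gh N956 = N1382 := trfs L470529 (flp_h L17361) rfl
theorem L470541 : N1382 = N1377 := eqes L470540 L12064
theorem L470542 : N1382 = N1377 := eqc rfl L470541 rfl
theorem L470548 : sm gc N1377 = N960 := trfs L470542 (flp_c L12103) rfl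
theorem L470549 : N960 = N1934 := eqes L470548 (flp_c L16894)
theorem L470550 : N1934 = N960 := (eqc rfl L470549 rfl).symm
theorem L470558 : sm gi N1377 = N1980 := trfs L470542 (flp_i L17258) rfl
theorem L470559 : N1980 = N1987 := eqes L470558 L17307
theorem L470560 : N1980 = N1941 := eqc rfl L470559 L447741
theorem L470574 : sm gh N1941 = N2857 := trfs L470560 L24772 rfl
theorem L470575 : N2857 = N1347 := eqes L470574 (flp_h L16942)
theorem L470576 : N2857 = N1347 := eqc rfl L470575 rfl
theorem L470581 : sm gd N1347 = N4135 := trfs L470576 L35663 rfl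
theorem L470582 : N4135 = N937 := eqes L470581 (flp_d L11819)
theorem L470583 : N4135 = N937 := eqc rfl L470582 rfl
theorem L470607 : sm gi N937 = N5990 := trfs L470583 L51435 rfl
theorem L470608 : N5990 = N1342 := eqes L470607 (flp_i L11786)
theorem L470609 : N5990 = N690 := eqc rfl L470608 L447803
theorem L470621 : sm gf N690 = N8692 := trfs L470609 (flp_f L74351) rfl
theorem L470622 : N8692 = N1000 := eqes L470621 (flp_f L8767)
theorem L470623 : N8692 = N1000 := eqc rfl L470622 rfl
theorem L470628 : sm gh N690 = N8695 := trfs L470609 L74367 rfl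
theorem L470629 : N8695 = N473 := eqes L470628 (flp_h L6064)
theorem L470630 : N8695 = N473 := eqc rfl L470629 rfl
theorem L470643 : sm gg N473 = N12479 := trfs L470630 (flp_g L106476) rfl
theorem L470644 : N12479 = N683 := eqes L470643 (flp_g L6012)
theorem L470645 : N12479 = N683 := eqc rfl L470644 rfl
theorem L470663 : sm gj N683 = N18006 := trfs L470645 (flp_j L153196) rfl
theorem L470664 : N18006 = N983 := eqes L470663 (flp_j L8633)
theorem L470665 : N18006 = N983 := eqc rfl L470664 rfl
theorem L470671 : sm gb N983 = N2723 := trfs L470665 (flp_b L214871) L460238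
theorem L470672 : N2723 = N1411 := eqes L470671 (flp_b L12332)
theorem L470673 : N2723 = N1411 := eqc rfl L470672 rfl
theorem L470685 : sm gh N983 = N12373 := trfs L470665 (flp_h L153192) rfl
theorem L470686 : N12373 = N1414 := eqes L470685 L12357
theorem L470687 : N12373 = N1414 := eqc rfl L470686 rfl
theorem L470698 : sm ge N1414 = N18005 := trfs L470687 (flp_e L153187) rfl
theorem L470699 : N18005 = N1009 := eqes L470698 L12360
theorem L470700 : N18005 = N1009 := eqc rfl L470699 rfl
theorem L470723 : sm gi N1009 = N12372 := trfs L470700 (flp_i L153183) rfl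
theorem L470724 : N12372 = N1451 := eqes L470723 L12659
theorem L470725 : N12372 = N1320 := eqc rfl L470724 L447887
theorem L470740 : sm gj N1320 = N8588 := trfs L470725 L105584 rfl
theorem L470741 : N8588 = N926 := eqes L470740 L11614
theorem L470742 : N8588 = N926 := eqc rfl L470741 rfl
theorem L470752 : sm gf N926 = N12477 := trfs L470742 L106460 rfl
theorem L470753 : N12477 = N1312 := eqes L470752 (flp_f L11545)
theorem L470754 : N12477 = N1312 := eqc rfl L470753 rfl
theorem L470773 : sm gi N1312 = N18161 := trfs L470754 L154487 rfl
theorem L470774 : N18161 = N1882 := eqes L470773 (flp_i L16486)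
theorem L470775 : N18161 = N1017 := eqc rfl L470774 L448333
theorem L470790 : sm gh N1017 = N26455 := trfs L470775 L224401 rfl
theorem L470791 : N26455 = N704 := eqes L470790 (flp_h L8902)
theorem L470792 : N26455 = N704 := eqc rfl L470791 rfl
theorem L470803 : sm ge N704 = N38580 := trfs L470792 (flp_e L326367) rfl
theorem L470804 : N38580 = N1016 := eqes L470803 L8896
theorem L470805 : N38580 = N1016 := eqc rfl L470804 rfl
theorem L470817 : sm gf N1016 = N26452 := trfs L470805 L326369 rfl
theorem L470818 : N26452 = N1423 := eqes L470817 (flp_f L12435)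
theorem L470819 : N26452 = N1423 := eqc rfl L470818 rfl
theorem L470839 : sm gh N1423 = N18158 := trfs L470819 (flp_h L224380) rfl
theorem L470840 : N18158 = N2053 := eqes L470839 L17843
theorem L470841 : N18158 = N2053 := eqc rfl L470840 rfl
theorem L470862 : sm gi N2053 = N12475 := trfs L470841 (flp_i L154467) rfl
theorem L470863 : N12475 = N2960 := eqes L470862 L25602
theorem L470864 : N12475 = N2714 := eqc rfl L470863 L447929
theorem L470880 : sm gj N2714 = N18002 := trfs L470864 (flp_j L153164) rfl
theorem L470881 : N18002 = N3877 := eqes L470880 (flp_j L33626)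
theorem L470882 : N18002 = N3877 := eqc rfl L470881 rfl
theorem L470898 : sm gg N3877 = N26213 := trfs L470882 (flp_g L222419) rfl
theorem L470899 : N26213 = N5602 := eqes L470898 L48336
theorem L470900 : N26213 = N5602 := eqc rfl L470899 rfl
theorem L470923 : sm gi N5602 = N38227 := trfs L470900 L323474 rfl
theorem L470924 : N38227 = N8096 := eqes L470923 (flp_i L69552)
theorem L470925 : N38227 = N4241 := eqc rfl L470924 L447950
theorem L470927 : sm ge N4241 = N26214 := trfs L470925 L323477 rfl
theorem L470928 : N26214 = N2937 := eqes L470927 L36537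
theorem L470929 : N26214 = N2937 := eqc rfl L470928 rfl
theorem L470944 : sm gh N2937 = N38228 := trfs L470929 L323481 rfl
theorem L470945 : N38228 = N2037 := eqes L470944 (flp_h L25418)
theorem L470946 : N38228 = N2037 := eqc rfl L470945 rfl
theorem L470950 : sm gd N2037 = N26327 := trfs L470946 L323487 rfl
theorem L470951 : N26327 = N1415 := eqes L470950 L17715
theorem L470952 : N26327 = N1415 := eqc rfl L470951 rfl
theorem L470969 : sm gh N1415 = N18075 := trfs L470952 (flp_h L223371) rfl
theorem L470970 : N18075 = N1958 := eqes L470969 (flp_h L17086)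
theorem L470971 : N18075 = N1958 := eqc rfl L470970 rfl
theorem L470981 : sm ge N1958 = N26326 := trfs L470971 (flp_e L223367) rfl
theorem L470982 : N26326 = N1958 := eqes L470981 L17085
theorem L470983 : N26326 = N1958 := eqc rfl L470982 rfl
theorem L471004 : sm gi N1958 = N18074 := trfs L470983 (flp_i L223363) rfl
theorem L471005 : N18074 = N2812 := eqes L471004 (flp_i L24421)
theorem L471006 : N18074 = N2812 := eqc rfl L471005 rfl
theorem L471016 : sm gf N2812 = N26325 := trfs L471006 L223357 rfl
theorem L471017 : N26325 = N2812 := eqes L471016 L24423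
theorem L471018 : N26325 = N2812 := eqc rfl L471017 rfl
theorem L471028 : sm gc N2812 = N18723 := trfs L471018 L223359 rfl
theorem L471029 : N18723 = N1952 := eqes L471028 L24417
theorem L471030 : N18723 = N1952 := eqc rfl L471029 rfl
theorem L471060 : sm gi N1952 = N27253 := trfs L471030 L230911 rfl
theorem L471061 : N27253 = N1360 := eqes L471060 L17036
theorem L471062 : N27253 = N1360 := eqc rfl L471061 rfl
theorem L471063 : sm ga N1360 = N39631 := trfs L471062 (flp_a L334903) rfl
theorem L471064 : N39631 = N1744 := eqes L471063 (flp_a L15271)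
theorem L471065 : N39631 = N1744 := eqc rfl L471064 rfl
theorem L471086 : sm gf N1744 = N27188 := trfs L471065 L334906 rfl
theorem L471087 : N27188 = N1744 := eqes L471086 L15276
theorem L471088 : N27188 = N1744 := eqc rfl L471087 rfl
theorem L471102 : sm gi N1744 = N18680 := trfs L471088 (flp_i L230352) rfl
theorem L471103 : N18680 = N2506 := eqes L471102 (flp_i L21829)
theorem L471104 : N18680 = N2506 := eqc rfl L471103 rfl
theorem L471110 : sm gd N2506 = N27177 := trfs L471104 (flp_d L230259) rfl
theorem L471111 : N27177 = N3540 := eqes L471110 (flp_d L30661)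
theorem L471112 : N27177 = N3540 := eqc rfl L471111 rfl
theorem L471135 : sm gh N3540 = N39596 := trfs L471112 (flp_h L334582) rfl
theorem L471136 : N39596 = N5110 := eqes L471135 (flp_h L44025)
theorem L471137 : N39596 = N5110 := eqc rfl L471136 rfl
theorem L471142 : sm gg N5110 = N27169 := trfs L471137 L334580 rfl
theorem L471143 : N27169 = N3535 := eqes L471142 (flp_g L44020)
theorem L471144 : N27169 = N3535 := eqc rfl L471143 rfl
theorem L471161 : sm gi N3535 = N39602 := trfs L471144 L334634 rfl
theorem L471162 : N39602 = N3535 := eqes L471161 L30615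
theorem L471163 : N39602 = N3535 := eqc rfl L471162 rfl
theorem L471169 : sm gj N3535 = N27357 := trfs L471163 L334641 rfl
theorem L471170 : N27357 = N2463 := eqes L471169 L30611
theorem L471171 : N27357 = N2463 := eqc rfl L471170 rfl
theorem L471181 : sm gh N2463 = N39878 := trfs L471171 L336988 rfl
theorem L471182 : N39878 = N1714 := eqes L471181 L21450
theorem L471183 : N39878 = N1714 := eqc rfl L471182 rfl
theorem L471187 : sm gi N1714 = N27376 := trfs L471183 L336994 rfl
theorem L471188 : N27376 = N1196 := eqes L471187 L15009
theorem L471189 : N27376 = N1196 := eqc rfl L471188 rfl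
theorem L471206 : sm gh N1196 = N18807 := trfs L471189 (flp_h L231943) rfl
theorem L471207 : N18807 = N1196 := eqes L471206 L10528
theorem L471208 : N18807 = N1196 := eqc rfl L471207 rfl
theorem L471221 : sm gi N1196 = N12930 := trfs L471208 (flp_i L159770) rfl
theorem L471222 : N12930 = N1714 := eqes L471221 (flp_i L15009)
theorem L471223 : N12930 = N1714 := eqc rfl L471222 rfl
theorem L471226 : sm gc N1714 = N18804 := trfs L471223 (flp_c L159750) rfl
theorem L471227 : N18804 = N2467 := eqes L471226 (flp_c L21485)
theorem L471228 : N18804 = N2467 := eqc rfl L471227 rfl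
theorem L471253 : sm gj N2467 = N27180 := trfs L471228 (flp_j L230283) rfl
theorem L471254 : N27180 = N3539 := eqes L471253 (flp_j L30653)
theorem L471255 : N27180 = N3539 := eqc rfl L471254 rfl
theorem L471269 : sm ge N3539 = N18675 := trfs L471255 (flp_e L230277) rfl
theorem L471270 : N18675 = N5061 := eqes L471269 (flp_e L43594)
theorem L471271 : N18675 = N5061 := eqc rfl L471270 rfl
theorem L471278 : sm gi N3539 = N39622 := trfs L471255 L334816 rfl
theorem L471279 : N39622 = N2457 := eqes L471278 L30655
theorem L471280 : N39622 = N2457 := eqc rfl L471279 rfl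
theorem L471285 : sm ge N2457 = N27181 := trfs L471280 L334822 rfl
theorem L471286 : N27181 = N3507 := eqes L471285 (flp_e L30363)
theorem L471287 : N27181 = N3507 := eqc rfl L471286 rfl
theorem L471307 : sm gj N3507 = N18805 := trfs L471287 L230295 rfl
theorem L471308 : N18805 = N2446 := eqes L471307 L30360
theorem L471309 : N18805 = N2446 := eqc rfl L471308 rfl
theorem L471326 : sm gh N2446 = N27373 := trfs L471309 L231917 rfl
theorem L471327 : N27373 = N2446 := eqes L471326 L21291
theorem L471328 : N27373 = N2446 := eqc rfl L471327 rfl
theorem L471345 : sm gi N2446 = N39875 := trfs L471328 (flp_i L336968) rfl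
theorem L471346 : N39875 = N3522 := eqes L471345 (flp_i L30495)
theorem L471347 : N39875 = N3522 := eqc rfl L471346 rfl
theorem L471351 : sm gh N3522 = N27355 := trfs L471347 (flp_h L336960) rfl
theorem L471352 : N27355 = N5083 := eqes L471351 (flp_h L43787)
theorem L471353 : N27355 = N5083 := eqc rfl L471352 rfl
theorem L471370 : sm gj N5083 = N4224 := trfs L471353 (flp_j L334621) L466027
theorem L471371 : N4224 = N7320 := eqes L471370 (flp_j L62780)
theorem L471372 : N7320 = N4224 := (eqc rfl L471371 rfl).symm
theorem L471373 : sm gi N5083 = N18795 := trfs L471353 (flp_i L231770) rfl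
theorem L471374 : N18795 = N5083 := eqes L471373 L43789
theorem L471375 : N18795 = N5083 := eqc rfl L471374 rfl
theorem L471391 : sm gj N5083 = N27168 := trfs L471375 (flp_j L230168) rfl
theorem L471392 : N27168 = N7320 := eqes L471391 (flp_j L62780)
theorem L471393 : N27168 = N4224 := eqc rfl L471392 L471372
theorem L471403 : sm gf N4224 = N5056 := trfs L471393 L230166 L462474
theorem L471404 : N5056 = N2984 := eqes L471403 L36390
theorem L471405 : N5056 = N2984 := eqc rfl L471404 rfl
theorem L471409 : sm gh N4224 = N5061 := trfs L471393 L230170 L471271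
theorem L471410 : N5061 = N6109 := eqes L471409 L52406
theorem L471411 : N6109 = N5061 := (eqc rfl L471410 rfl).symm
theorem L471414 : sm gb N5061 = N7816 := trfs L471411 (flp_b L67129) rfl
theorem L471415 : N7816 = N7324 := eqes L471414 (flp_b L62817)
theorem L471416 : N7816 = N7324 := eqc rfl L471415 rfl
theorem L471433 : sm gi N5061 = N8858 := trfs L471411 L75719 rfl
theorem L471434 : N8858 = N3507 := eqes L471433 L43592
theorem L471435 : N8858 = N3507 := eqc rfl L471434 rfl
theorem L471448 : sm gg N3507 = N12854 := trfs L471435 (flp_g L109521) rfl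
theorem L471449 : N12854 = N5068 := eqes L471448 L43648
theorem L471450 : N12854 = N5068 := eqc rfl L471449 rfl
theorem L471461 : sm gj N5068 = N18692 := trfs L471450 (flp_j L158810) rfl
theorem L471462 : N18692 = N7339 := eqes L471461 L62950
theorem L471463 : N18692 = N7339 := eqc rfl L471462 rfl
theorem L471480 : sm gi N7339 = N12852 := trfs L471463 (flp_i L158802) rfl
theorem L471481 : N12852 = N10627 := eqes L471480 (flp_i L90827)
theorem L471482 : N12852 = N10627 := eqc rfl L471481 rfl
theorem L471495 : sm gh N10627 = N8855 := trfs L471482 (flp_h L109498) rfl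
theorem L471496 : N8855 = N15424 := eqes L471495 (flp_h L131406)
theorem L471497 : N15424 = N8855 := (eqc rfl L471496 rfl).symm
theorem L471504 : sm gf N8855 = N22347 := trfs L471497 (flp_f L189803) rfl
theorem L471505 : N22347 = N12850 := eqes L471504 (flp_f L109485)
theorem L471506 : N22347 = N12850 := eqc rfl L471505 rfl
theorem L471509 : sm gh N8855 = N10627 := trfs L471497 L131406 rfl
theorem L471513 : sm gb N12850 = N32543 := trfs L471506 (flp_b L275705) rfl
theorem L471514 : N32543 = N16486 := eqes L471513 (flp_b L140602)
theorem L471515 : N32543 = N16486 := eqc rfl L471514 rfl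
theorem L471534 : sm gh N16486 = N22358 := trfs L471515 L275710 rfl
theorem L471535 : N22358 = N23998 := eqes L471534 L204052
theorem L471536 : N23998 = N22358 := (eqc rfl L471535 rfl).symm
theorem L471554 : sm gh N22358 = N16486 := trfs L471536 (flp_h L204052) rfl
theorem L471556 : sm gi N22358 = N34967 := trfs L471536 L296439 rfl
theorem L471557 : N34967 = N15384 := eqes L471556 L189911
theorem L471558 : N34967 = N15384 := eqc rfl L471557 rfl
theorem L471564 : sm gj N15384 = N24000 := trfs L471558 L296449 rfl
theorem L471565 : N24000 = N10588 := eqes L471564 (flp_j L131018)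
theorem L471566 : N24000 = N10588 := eqc rfl L471565 rfl
theorem L471576 : sm gg N10588 = N16710 := trfs L471566 L204084 rfl
theorem L471577 : N16710 = N7302 := eqes L471576 (flp_g L90442)
theorem L471578 : N16710 = N7302 := eqc rfl L471577 rfl
theorem L471599 : sm gi N7302 = N11502 := trfs L471578 (flp_i L142491) rfl
theorem L471600 : N11502 = N10578 := eqes L471599 (flp_i L90356)
theorem L471601 : N11502 = N10578 := eqc rfl L471600 rfl
theorem L471602 : sm ga N10578 = N7948 := trfs L471601 L98428 rfl
theorem L471603 : N7948 = N15364 := eqes L471602 (flp_a L130838)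
theorem L471604 : N15364 = N7948 := (eqc rfl L471603 rfl).symm
theorem L471609 : sm gd N10578 = N16709 := trfs L471601 L142481 rfl
theorem L471610 : N16709 = N15366 := eqes L471609 (flp_d L130859)
theorem L471611 : N16709 = N15366 := eqc rfl L471610 rfl
theorem L471613 : sm gf N10578 = N7931 := trfs L471601 L98433 rfl
theorem L471614 : N7931 = N7296 := eqes L471613 (flp_f L90351)
theorem L471615 : N7931 = N7296 := eqc rfl L471614 rfl
theorem L471618 : sm gh N10578 = N7930 := trfs L471601 (flp_h L98426) rfl
theorem L471619 : N7930 = N15358 := eqes L471618 (flp_h L130780)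
theorem L471620 : N15358 = N7930 := (eqc rfl L471619 rfl).symm
theorem L471626 : sm gf N7930 = N10572 := trfs L471620 (flp_f L130775) rfl
theorem L471627 : N10572 = N5478 := eqes L471626 (flp_f L68129)
theorem L471628 : N10572 = N5478 := eqc rfl L471627 rfl
theorem L471631 : sm gh N7930 = N10578 := trfs L471620 L130780 rfl
theorem L471635 : sm gb N5478 = N7293 := trfs L471628 L90293 rfl
theorem L471636 : N7293 = N4307 := eqes L471635 L47264
theorem L471637 : N7293 = N4307 := eqc rfl L471636 rfl
theorem L471641 : sm gg N5478 = N7318 := trfs L471628 L90295 rfl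
theorem L471642 : N7318 = N3790 := eqes L471641 (flp_g L47260)
theorem L471643 : N7318 = N3790 := eqc rfl L471642 rfl
theorem L471657 : sm gh N3790 = N5059 := trfs L471643 L62764 rfl
theorem L471658 : N5059 = N5479 := eqes L471657 L47271
theorem L471659 : N5479 = N5059 := (eqc rfl L471658 rfl).symm
theorem L471661 : sm ga N5059 = N3800 := trfs L471659 L47273 rfl
theorem L471662 : N3800 = N7322 := eqes L471661 (flp_a L62798)
theorem L471663 : N7322 = N3800 := (eqc rfl L471662 rfl).symm
theorem L471666 : sm gd N5059 = N7932 := trfs L471659 L68150 rfl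
theorem L471667 : N7932 = N7323 := eqes L471666 L62806
theorem L471668 : N7932 = N7323 := eqc rfl L471667 rfl
theorem L471675 : sm gh N5059 = N3790 := trfs L471659 (flp_h L47271) rfl
theorem L471677 : sm gi N5059 = N7933 := trfs L471659 L68160 rfl
theorem L471678 : N7933 = N3505 := eqes L471677 L43572
theorem L471679 : N7933 = N3505 := eqc rfl L471678 rfl
theorem L471689 : sm gj N3505 = N5511 := trfs L471679 L68168 rfl
theorem L471690 : N5511 = N2444 := eqes L471689 L30343
theorem L471691 : N5511 = N2444 := eqc rfl L471690 rfl
theorem L471698 : sm gd N2444 = N7976 := trfs L471691 (flp_d L68539) rfl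
theorem L471699 : N7976 = N3525 := eqes L471698 L30517
theorem L471700 : N7976 = N3525 := eqc rfl L471699 rfl
theorem L471706 : sm ga N3525 = N5521 := trfs L471700 L68535 rfl
theorem L471707 : N5521 = N5092 := eqes L471706 (flp_a L43866)
theorem L471708 : N5521 = N5092 := eqc rfl L471707 rfl
theorem L471724 : sm gi N3525 = N5510 := trfs L471700 (flp_i L68533) rfl
theorem L471725 : N5510 = N5086 := eqes L471724 (flp_i L43816)
theorem L471726 : N5510 = N5086 := eqc rfl L471725 rfl
theorem L471727 : sm ga N5086 = N3822 := trfs L471726 L47558 rfl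
theorem L471728 : N3822 = N7363 := eqes L471727 (flp_a L63167)
theorem L471729 : N7363 = N3822 := (eqc rfl L471728 rfl).symm
theorem L471733 : sm gc N5086 = N7975 := trfs L471726 L68526 rfl
theorem L471734 : N7975 = N7365 := eqes L471733 L63185
theorem L471735 : N7975 = N7365 := eqc rfl L471734 rfl
theorem L471738 : sm gf N5086 = N7860 := trfs L471726 (flp_f L67545) rfl
theorem L471739 : N7860 = N7366 := eqes L471738 L63192
theorem L471740 : N7860 = N7366 := eqc rfl L471739 rfl
theorem L471747 : sm gc N7366 = N11409 := trfs L471740 L97666 rfl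
theorem L471748 : N11409 = N10683 := eqes L471747 (flp_c L91312)
theorem L471749 : N11409 = N10683 := eqc rfl L471748 rfl
theorem L471757 : sm gj N7366 = N11345 := trfs L471740 (flp_j L97091) rfl
theorem L471758 : N11345 = N10620 := eqes L471757 (flp_j L90760)
theorem L471759 : N11345 = N10620 := eqc rfl L471758 rfl
theorem L471762 : sm ga N10620 = N7832 := trfs L471759 L97085 rfl
theorem L471763 : N7832 = N15426 := eqes L471762 (flp_a L131422)
theorem L471764 : N15426 = N7832 := (eqc rfl L471763 rfl).symm
theorem L471778 : sm gi N10620 = N16492 := trfs L471759 L140662 rfl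
theorem L471779 : N16492 = N7332 := eqes L471778 L90762
theorem L471780 : N16492 = N7332 := eqc rfl L471779 rfl
theorem L471795 : sm gh N7332 = N24007 := trfs L471780 L204147 rfl
theorem L471796 : N24007 = N10636 := eqes L471795 L90897
theorem L471797 : N24007 = N10636 := eqc rfl L471796 rfl
theorem L471813 : sm gj N10636 = N16584 := trfs L471797 L204155 rfl
theorem L471814 : N16584 = N7382 := eqes L471813 L90903
theorem L471815 : N16584 = N7382 := eqc rfl L471814 rfl
theorem L471831 : sm gg N7382 = N24135 := trfs L471815 (flp_g L205236) rfl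
theorem L471832 : N24135 = N10711 := eqes L471831 (flp_g L91535)
theorem L471833 : N24135 = N10711 := eqc rfl L471832 rfl
theorem L471851 : sm gh N10711 = N16581 := trfs L471833 (flp_h L205229) rfl
theorem L471852 : N16581 = N7381 := eqes L471851 (flp_h L91530)
theorem L471853 : N16581 = N7381 := eqc rfl L471852 rfl
theorem L471866 : sm gj N7381 = N24132 := trfs L471853 (flp_j L205210) rfl
theorem L471867 : N24132 = N10710 := eqes L471866 L91523
theorem L471868 : N24132 = N10710 := eqc rfl L471867 rfl
theorem L471886 : sm gi N10710 = N16578 := trfs L471868 (flp_i L205201) rfl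
theorem L471887 : N16578 = N15534 := eqes L471886 (flp_i L132368)
theorem L471888 : N16578 = N15534 := eqc rfl L471887 rfl
theorem L471902 : sm gg N15534 = N24001 := trfs L471888 (flp_g L204093) rfl
theorem L471903 : N24001 = N22457 := eqes L471902 (flp_g L190839)
theorem L471904 : N24001 = N22457 := eqc rfl L471903 rfl
theorem L471914 : sm ge N22457 = N34061 := trfs L471904 (flp_e L289040) rfl
theorem L471915 : N34061 = N32712 := eqes L471914 (flp_e L277284)
theorem L471916 : N34061 = N32712 := eqc rfl L471915 rfl
theorem L471930 : sm gj N32712 = N23364 := trfs L471916 L289038 rfl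
theorem L471931 : N23364 = N22455 := eqes L471930 (flp_j L277278)
theorem L471932 : N23364 = N22455 := eqc rfl L471931 rfl
theorem L471952 : sm gi N22455 = N34064 := trfs L471932 L289064 rfl
theorem L471953 : N34064 = N15454 := eqes L471952 L190820
theorem L471954 : N34064 = N15454 := eqc rfl L471953 rfl
theorem L471961 : sm gd N15454 = N23365 := trfs L471954 L289070 rfl
theorem L471962 : N23365 = N10767 := eqes L471961 L131680
theorem L471963 : N23365 = N10767 := eqc rfl L471962 rfl
theorem L471983 : sm gh N10767 = N33963 := trfs L471963 (flp_h L288166) rfl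
theorem L471984 : N33963 = N15655 := eqes L471983 L133469
theorem L471985 : N33963 = N15655 := eqc rfl L471984 rfl
theorem L471993 : sm gi N15655 = N23297 := trfs L471985 (flp_i L288156) rfl
theorem L471994 : N23297 = N22791 := eqes L471993 L193797
theorem L471995 : N23297 = N22791 := eqc rfl L471994 rfl
theorem L472016 : sm gh N22791 = N15996 := trfs L471995 (flp_h L198195) rfl
theorem L472017 : N15996 = N33138 := eqes L472016 (flp_h L281021)
theorem L472018 : N33138 = N15996 := (eqc rfl L472017 rfl).symm
theorem L472024 : sm gh N15996 = N22791 := trfs L472018 L281021 rfl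
theorem L472026 : sm gi N15996 = N22738 := trfs L472018 (flp_i L281013) rfl
theorem L472027 : N22738 = N11028 := eqes L472026 L136462
theorem L472028 : N22738 = N11028 := eqc rfl L472027 rfl
theorem L472041 : sm gg N11028 = N15621 := trfs L472028 L193307 rfl
theorem L472042 : N15621 = N7594 := eqes L472041 (flp_g L94381)
theorem L472043 : N15621 = N7594 := eqc rfl L472042 rfl
theorem L472044 : sm gj N11028 = N33136 := trfs L472028 (flp_j L281005) rfl
theorem L472045 : N33136 = N16040 := eqes L472044 L136867
theorem L472046 : N33136 = N16040 := eqc rfl L472045 rfl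
theorem L472055 : sm gg N16040 = N22905 := trfs L472046 L281003 rfl
theorem L472056 : N22905 = N11108 := eqes L472055 L136876
theorem L472057 : N22905 = N11108 := eqc rfl L472056 rfl
theorem L472064 : sm gc N11108 = N33365 := trfs L472057 (flp_c L283050) rfl
theorem L472065 : N33365 = N16148 := eqes L472064 (flp_c L137794)
theorem L472066 : N33365 = N16148 := eqc rfl L472065 rfl
theorem L472072 : sm gj N11108 = N15732 := trfs L472057 L194820 rfl
theorem L472073 : N15732 = N7648 := eqes L472072 (flp_j L95079)
theorem L472074 : N15732 = N7648 := eqc rfl L472073 rfl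
theorem L472078 : sm gi N11108 = N33386 := trfs L472057 L283213 rfl
theorem L472079 : N33386 = N16095 := eqes L472078 (flp_i L137367)
theorem L472080 : N33386 = N16095 := eqc rfl L472079 rfl
theorem L472083 : sm gj N16095 = N22907 := trfs L472080 L283219 rfl
theorem L472084 : N22907 = N11064 := eqes L472083 (flp_j L137358)
theorem L472085 : N22907 = N11064 := eqc rfl L472084 rfl
theorem L472086 : sm gh N16095 = N22983 := trfs L472080 L283221 rfl
theorem L472087 : N22983 = N23444 := eqes L472086 L199510
theorem L472088 : N23444 = N22983 := (eqc rfl L472087 rfl).symm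
theorem L472100 : sm gf N22983 = N34180 := trfs L472088 (flp_f L290052) rfl
theorem L472101 : N34180 = N33497 := eqes L472100 (flp_f L284127)
theorem L472102 : N34180 = N33497 := eqc rfl L472101 rfl
theorem L472109 : sm gi N22983 = N34184 := trfs L472088 L290089 rfl
theorem L472110 : N34184 = N15783 := eqes L472109 (flp_i L195466)
theorem L472111 : N34184 = N15783 := eqc rfl L472110 rfl
theorem L472123 : sm gh N15783 = N23545 := trfs L472111 L290099 rfl
theorem L472124 : N23545 = N10853 := eqes L472123 (flp_h L134597)
theorem L472125 : N23545 = N10853 := eqc rfl L472124 rfl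
theorem L472139 : sm gj N10853 = N16164 := trfs L472125 L200340 rfl
theorem L472140 : N16164 = N7476 := eqes L472139 (flp_j L92829)
theorem L472141 : N16164 = N7476 := eqc rfl L472140 rfl
theorem L472161 : sm gi N7476 = N11109 := trfs L472141 (flp_i L137937) rfl
theorem L472162 : N11109 = N10819 := eqes L472161 (flp_i L92541)
theorem L472163 : N11109 = N10819 := eqc rfl L472162 rfl
theorem L472167 : sm gb N10819 = N8621 := trfs L472163 L95092 rfl
theorem L472168 : N8621 = N7458 := eqes L472167 L92537
theorem L472169 : N8621 = N7458 := eqc rfl L472168 rfl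
theorem L472170 : sm gc N10819 = N16149 := trfs L472163 (flp_c L137802) rfl
theorem L472171 : N16149 = N15722 := eqes L472170 (flp_c L134076)
theorem L472172 : N16149 = N15722 := eqc rfl L472171 rfl
theorem L472176 : sm ge N10819 = N7651 := trfs L472163 L95094 rfl
theorem L472177 : N7651 = N7454 := eqes L472176 L92539
theorem L472178 : N7651 = N7454 := eqc rfl L472177 rfl
theorem L472182 : sm gg N10819 = N7649 := trfs L472163 L95096 rfl
theorem L472183 : N7649 = N7453 := eqes L472182 (flp_g L92535)
theorem L472184 : N7649 = N7453 := eqc rfl L472183 rfl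
theorem L472188 : sm ga N7453 = N5284 := trfs L472184 L65709 rfl
theorem L472189 : N5284 = N10809 := eqes L472188 (flp_a L92443)
theorem L472190 : N10809 = N5284 := (eqc rfl L472189 rfl).symm
theorem L472191 : sm gb N7453 = N5942 := trfs L472184 L65711 rfl
theorem L472192 : N5942 = N5147 := eqes L472191 L63981
theorem L472193 : N5942 = N5147 := eqc rfl L472192 rfl
theorem L472194 : sm gc N7453 = N11100 := trfs L472184 (flp_c L95011) rfl
theorem L472195 : N11100 = N10814 := eqes L472194 (flp_c L92495)
theorem L472196 : N11100 = N10814 := eqc rfl L472195 rfl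
theorem L472198 : sm ge N7453 = N5275 := trfs L472184 L65713 rfl
theorem L472199 : N5275 = N5144 := eqes L472198 (flp_e L63979)
theorem L472200 : N5275 = N5144 := eqc rfl L472199 rfl
theorem L472205 : sm gh N7453 = N5273 := trfs L472184 (flp_h L65707) rfl
theorem L472206 : N5273 = N10820 := eqes L472205 L92543
theorem L472207 : N10820 = N5273 := (eqc rfl L472206 rfl).symm
theorem L472215 : sm gc N5273 = N15723 := trfs L472207 (flp_c L134086) rfl
theorem L472216 : N15723 = N7643 := eqes L472215 (flp_c L65662)
theorem L472217 : N15723 = N7643 := eqc rfl L472216 rfl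
theorem L472225 : sm gh N5273 = N7453 := trfs L472207 (flp_h L92543) rfl
theorem L472227 : sm gi N5273 = N15734 := trfs L472207 L134172 rfl
theorem L472228 : N15734 = N7619 := eqes L472227 (flp_i L65452)
theorem L472229 : N15734 = N7619 := eqc rfl L472228 rfl
theorem L472233 : sm gb N7619 = N10828 := trfs L472229 L134174 rfl
theorem L472234 : N10828 = N5912 := eqes L472233 L65450
theorem L472235 : N10828 = N5912 := eqc rfl L472234 rfl
theorem L472240 : sm ge N7619 = N10823 := trfs L472229 L134176 rfl
theorem L472241 : N10823 = N5255 := eqes L472240 (flp_e L65446)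
theorem L472242 : N10823 = N5255 := eqc rfl L472241 rfl
theorem L472246 : sm gh N7619 = N10856 := trfs L472229 L134179 rfl
theorem L472247 : N10856 = N11065 := eqes L472246 L94714
theorem L472248 : N11065 = N10856 := (eqc rfl L472247 rfl).symm
theorem L472249 : sm ga N10856 = N7630 := trfs L472248 L94716 rfl
theorem L472250 : N7630 = N15763 := eqes L472249 (flp_a L134433)
theorem L472251 : N8605 = N7630 := (eqc rfl L472250 L444275).symm
theorem L472252 : N8577 = N7485 := L444709.trans L446588
theorem L472254 : sm gc N10856 = N16087 := trfs L472248 (flp_c L137287) rfl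
theorem L472255 : N16087 = N15772 := eqes L472254 (flp_c L134509)
theorem L472256 : N16087 = N15772 := eqc rfl L472255 rfl
theorem L472260 : sm ge N10856 = N7621 := trfs L472248 L94720 rfl
theorem L472261 : N7621 = N7480 := eqes L472260 L92853
theorem L472262 : N7621 = N7480 := eqc rfl L472261 rfl
theorem L472266 : sm gh N10856 = N7619 := trfs L472248 (flp_h L94714) rfl
theorem L472268 : sm gi N10856 = N16098 := trfs L472248 L137388 rfl
theorem L472269 : N16098 = N7477 := eqes L472268 (flp_i L92849)
theorem L472270 : N16098 = N7477 := eqc rfl L472269 rfl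
theorem L472278 : sm gd N7477 = N23448 := trfs L472270 (flp_d L199555) rfl
theorem L472279 : N23448 = N10855 := eqes L472278 L92843
theorem L472280 : N23448 = N10855 := eqc rfl L472279 rfl
theorem L472303 : sm gh N10855 = N34189 := trfs L472280 L290135 rfl
theorem L472304 : N34189 = N15568 := eqes L472303 (flp_h L132641)
theorem L472305 : N34189 = N15568 := eqc rfl L472304 rfl
theorem L472310 : sm gb N15568 = N26420 := trfs L472305 L290139 rfl
theorem L472311 : N26420 = N10716 := eqes L472310 L132637
theorem L472312 : N26420 = N10716 := eqc rfl L472311 rfl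
theorem L472327 : sm gj N10716 = N38199 := trfs L472312 (flp_j L323264) rfl
theorem L472328 : N38199 = N15462 := eqes L472327 (flp_j L131750)
theorem L472329 : N38199 = N15462 := eqc rfl L472328 rfl
theorem L472336 : sm gh N15462 = N26196 := trfs L472329 (flp_h L323258) rfl
theorem L472337 : N26196 = N10775 := eqes L472336 L131753
theorem L472338 : N26196 = N10775 := eqc rfl L472337 rfl
theorem L472352 : sm gi N10775 = N17988 := trfs L472338 (flp_i L222273) rfl
theorem L472353 : N17988 = N15666 := eqes L472352 L133570
theorem L472354 : N17988 = N15666 := eqc rfl L472353 rfl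
theorem L472372 : sm gj N15666 = N12461 := trfs L472354 L153044 rfl
theorem L472373 : N12461 = N10865 := eqes L472372 L133578
theorem L472374 : N12461 = N10865 := eqc rfl L472373 rfl
theorem L472385 : sm gg N10865 = N18135 := trfs L472374 (flp_g L154299) rfl
theorem L472386 : N18135 = N15796 := eqes L472385 (flp_g L134713)
theorem L472387 : N18135 = N15796 := eqc rfl L472386 rfl
theorem L472404 : sm gj N15796 = N26414 := trfs L472387 (flp_j L224116) rfl
theorem L472405 : N26414 = N22996 := eqes L472404 (flp_j L195579)
theorem L472406 : N26414 = N22996 := eqc rfl L472405 rfl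
theorem L472408 : sm gi N15796 = N26417 := trfs L472387 L224138 rfl
theorem L472409 : N26417 = N10862 := eqes L472408 (flp_i L134706)
theorem L472410 : N26417 = N10862 := eqc rfl L472409 rfl
theorem L472422 : sm gj N10862 = N38524 := trfs L472410 (flp_j L325983) rfl
theorem L472423 : N38524 = N15793 := eqes L472422 (flp_j L134684)
theorem L472424 : N38524 = N15793 := eqc rfl L472423 rfl
theorem L472426 : sm ga N15793 = N26464 := trfs L472424 L325978 rfl
theorem L472427 : N26464 = N12141 := eqes L472426 L134682
theorem L472428 : N26464 = N12141 := eqc rfl L472427 rfl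
theorem L472439 : sm gg N12141 = N38243 := trfs L472428 (flp_g L323613) rfl
theorem L472440 : N38243 = N17448 := eqes L472439 (flp_g L148613)
theorem L472441 : N38243 = N17448 := eqc rfl L472440 rfl
theorem L472446 : sm gi N12141 = N18167 := trfs L472428 (flp_i L224475) rfl
theorem L472447 : N18167 = N17661 := eqes L472446 L150333
theorem L472448 : N18167 = N17621 := eqc rfl L472447 L446296
theorem L472460 : sm gg N17621 = N26225 := trfs L472448 (flp_g L222520) rfl
theorem L472461 : N26225 = N25357 := eqes L472460 (flp_g L215354)
theorem L472462 : N26225 = N25357 := eqc rfl L472461 rfl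
theorem L472479 : sm gi N25357 = N17448 := trfs L472462 L323606 L472441
theorem L472480 : N17448 = N36855 := eqes L472479 (flp_i L312080)
theorem L472481 : N36855 = N17448 := (eqc rfl L472480 rfl).symm
theorem L472482 : sm gb N17448 = N26199 := trfs L472481 L312075 rfl
theorem L472483 : N26199 = N25383 := eqes L472482 (flp_b L215583)
theorem L472484 : N26199 = N25383 := eqc rfl L472483 rfl
theorem L472504 : sm gh N25383 = N38203 := trfs L472484 L323292 rfl
theorem L472505 : N38203 = N36224 := eqes L472504 (flp_h L306987)
theorem L472506 : N38203 = N36224 := eqc rfl L472505 rfl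
theorem L472512 : sm gj N36224 = N26200 := trfs L472506 L323298 rfl
theorem L472513 : N26200 = N24867 := eqes L472512 L306984
theorem L472514 : N26200 = N24867 := eqc rfl L472513 rfl
theorem L472525 : sm gf N24867 = N38202 := trfs L472514 (flp_f L323289) rfl
theorem L472526 : N38202 = N36222 := eqes L472525 (flp_f L306966)
theorem L472527 : N38202 = N36222 := eqc rfl L472526 rfl
theorem L472540 : sm gh N36222 = N26198 := trfs L472527 (flp_h L323286) rfl
theorem L472541 : N26198 = N25381 := eqes L472540 L306969
theorem L472542 : N26198 = N25381 := eqc rfl L472541 rfl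
theorem L472543 : sm ga N25381 = N38166 := trfs L472542 (flp_a L322937) rfl
theorem L472544 : N38166 = N36946 := eqes L472543 (flp_a L312892)
theorem L472545 : N38166 = N34006 := eqc rfl L472544 L449140
theorem L472571 : sm gi N34006 = N26265 := trfs L472545 L322942 rfl
theorem L472572 : N26265 = N23327 := eqes L472571 (flp_i L288526)
theorem L472573 : N26265 = N23327 := eqc rfl L472572 rfl
theorem L472592 : sm gh N23327 = N38303 := trfs L472573 L324103 rfl
theorem L472593 : N38303 = N23327 := eqes L472592 L198471
theorem L472594 : N38303 = N23327 := eqc rfl L472593 rfl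
theorem L472597 : sm gf N23327 = N26267 := trfs L472594 L324108 rfl
theorem L472598 : N26267 = N16020 := eqes L472597 L198468
theorem L472599 : N26267 = N16020 := eqc rfl L472598 rfl
theorem L472616 : sm gi N16020 = N38306 := trfs L472599 L324129 rfl
theorem L472617 : N38306 = N23332 := eqes L472616 L198512
theorem L472618 : N38306 = N23332 := eqc rfl L472617 rfl
theorem L472624 : sm gg N23332 = N26269 := trfs L472618 L324135 rfl
theorem L472625 : N26269 = N16023 := eqes L472624 L198519
theorem L472626 : N26269 = N16023 := eqc rfl L472625 rfl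
theorem L472640 : sm gh N16023 = N38170 := trfs L472626 (flp_h L322983) rfl
theorem L472641 : N38170 = N23335 := eqes L472640 L198538
theorem L472642 : N38170 = N23335 := eqc rfl L472641 rfl
theorem L472653 : sm gi N23335 = N26176 := trfs L472642 (flp_i L322974) rfl
theorem L472654 : N26176 = N23335 := eqes L472653 L198548
theorem L472655 : N26176 = N23335 := eqc rfl L472654 rfl
theorem L472674 : sm gh N23335 = N17417 := trfs L472655 (flp_h L222076) L444671
theorem L472675 : N17417 = N16023 := eqes L472674 (flp_h L198538)
theorem L472676 : N17417 = N16023 := eqc rfl L472675 rfl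
theorem L472679 : sm gb N16023 = N22768 := trfs L472676 (flp_b L193594) rfl
theorem L472680 : N22768 = N23323 := eqes L472679 (flp_b L198424)
theorem L472681 : N23323 = N22768 := (eqc rfl L472680 rfl).symm
theorem L472710 : sm gi N22768 = N16013 := trfs L472681 (flp_i L198422) rfl
theorem L472711 : N16013 = N33184 := eqes L472710 L281452
theorem L472712 : N33184 = N16013 := (eqc rfl L472711 rfl).symm
theorem L472720 : sm gj N16013 = N22953 := trfs L472712 L281462 rfl
theorem L472721 : N22953 = N11081 := eqes L472720 L136617
theorem L472722 : N22953 = N11081 := eqc rfl L472721 rfl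
theorem L472728 : sm gc N11081 = N18188 := trfs L472722 (flp_c L283818) L459033
theorem L472729 : N18188 = N16121 := eqes L472728 L137571
theorem L472730 : N18188 = N16121 := eqc rfl L472729 rfl
theorem L472731 : N15763 = N7630 := L444275.trans L472251
theorem L472735 : sm gg N11081 = N33455 := trfs L472722 (flp_g L283806) rfl
theorem L472736 : N33455 = N16119 := eqes L472735 (flp_g L137557)
theorem L472737 : N33455 = N16119 := eqc rfl L472736 rfl
theorem L472745 : sm gd N16119 = N12500 := trfs L472737 L283803 L444298
theorem L472746 : N12500 = N11080 := eqes L472745 (flp_d L137553)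
theorem L472747 : N12500 = N11080 := eqc rfl L472746 rfl
theorem L472749 : sm gi N16119 = N22950 := trfs L472737 (flp_i L283797) rfl
theorem L472750 : N22950 = N23480 := eqes L472749 L199788
theorem L472751 : N23480 = N22950 := (eqc rfl L472750 rfl).symm
theorem L472767 : sm gj N22950 = N34233 := trfs L472751 (flp_j L290447) rfl
theorem L472768 : N34233 = N33452 := eqes L472767 (flp_j L283777)
theorem L472769 : N34233 = N33452 := eqc rfl L472768 rfl
theorem L472773 : sm gi N22950 = N16119 := trfs L472751 (flp_i L199788) rfl
theorem L472781 : sm gb N33452 = N23491 := trfs L472769 L290442 rfl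
theorem L472782 : N23491 = N25647 := eqes L472781 L283775
theorem L472783 : N25647 = N23491 := (eqc rfl L472782 rfl).symm
theorem L472807 : sm gi N23491 = N18208 := trfs L472783 L316540 L444844
theorem L472808 : N18208 = N16128 := eqes L472807 (flp_i L199883)
theorem L472809 : N18208 = N16128 := eqc rfl L472808 rfl
theorem L472824 : sm gh N16128 = N26525 := trfs L472809 L224929 rfl
theorem L472825 : N26525 = N16128 := eqes L472824 L137641
theorem L472826 : N26525 = N16128 := eqc rfl L472825 rfl
theorem L472843 : sm gi N16128 = N38691 := trfs L472826 L327212 rfl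
theorem L472844 : N38691 = N23491 := eqes L472843 L199883
theorem L472845 : N38691 = N23491 := eqc rfl L472844 rfl
theorem L472850 : sm gj N23491 = N26527 := trfs L472845 L327218 rfl
theorem L472851 : N26527 = N16131 := eqes L472850 L199890
theorem L472852 : N26527 = N16131 := eqc rfl L472851 rfl
theorem L472865 : sm gh N16131 = N38486 := trfs L472852 (flp_h L325650) rfl
theorem L472866 : N38486 = N23494 := eqes L472865 L199907
theorem L472867 : N38486 = N23494 := eqc rfl L472866 rfl
theorem L472874 : sm gi N23494 = N26389 := trfs L472867 (flp_i L325642) rfl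
theorem L472875 : N26389 = N23494 := eqes L472874 L199916
theorem L472876 : N26389 = N23494 := eqc rfl L472875 rfl
theorem L472882 : sm gd N23494 = N38485 := trfs L472876 L325634 rfl
theorem L472883 : N38485 = N16211 := eqes L472882 L199914
theorem L472884 : N38485 = N16211 := eqc rfl L472883 rfl
theorem L472905 : sm gh N16211 = N26395 := trfs L472884 L325640 rfl
theorem L472906 : N26395 = N11144 := eqes L472905 (flp_h L138303)
theorem L472907 : N26395 = N11144 := eqc rfl L472906 rfl
theorem L472929 : sm gi N11144 = N38498 := trfs L472907 L325751 rfl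
theorem L472930 : N38498 = N7672 := eqes L472929 (flp_i L95367)
theorem L472931 : N38498 = N7672 := eqc rfl L472930 rfl
theorem L472932 : sm ga N7672 = N26438 := trfs L472931 L325753 rfl
theorem L472933 : N26438 = N5965 := eqes L472932 L65892
theorem L472934 : N26438 = N5965 := eqc rfl L472933 rfl
theorem L472958 : sm gh N5965 = N38562 := trfs L472934 L326246 rfl
theorem L472959 : N38562 = N5965 := eqes L472958 L51243
theorem L472960 : N38562 = N5965 := eqc rfl L472959 rfl
theorem L472964 : sm gg N5965 = N26444 := trfs L472960 L326248 rfl
theorem L472965 : N26444 = N4120 := eqes L472964 L51239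
theorem L472966 : N26444 = N4120 := eqc rfl L472965 rfl
theorem L472980 : sm gj N4120 = N38223 := trfs L472966 (flp_j L323447) rfl
theorem L472981 : N38223 = N5905 := eqes L472980 (flp_j L50773)
theorem L472982 : N38223 = N5905 := eqc rfl L472981 rfl
theorem L472987 : sm gh N5905 = N26210 := trfs L472982 (flp_h L323444) rfl
theorem L472988 : N26210 = N5905 := eqes L472987 L50777
theorem L472989 : N26210 = N5905 := eqc rfl L472988 rfl
theorem L473008 : sm gi N5905 = N17997 := trfs L472989 (flp_i L222389) rfl
theorem L473009 : N17997 = N8567 := eqes L473008 L73357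
theorem L473010 : N17997 = N8108 := eqc rfl L473009 L448553
theorem L473029 : sm gh N8108 = N26201 := trfs L473010 (flp_h L222324) rfl
theorem L473030 : N26201 = N11762 := eqes L473029 L100617
theorem L473031 : N26201 = N11762 := eqc rfl L473030 rfl
theorem L473048 : sm gi N11762 = N38208 := trfs L473031 L323329 rfl
theorem L473049 : N38208 = N11762 := eqes L473048 L441027
theorem L473050 : N38208 = N11762 := eqc rfl L473049 rfl
theorem L473053 : sm gj N11762 = N26429 := trfs L473050 L323334 rfl
theorem L473054 : N26429 = N8198 := eqes L473053 L100624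
theorem L473055 : N26429 = N8198 := eqc rfl L473054 rfl
theorem L473067 : sm ge N8198 = N38546 := trfs L473055 (flp_e L326140) rfl
theorem L473068 : N38546 = N5660 := eqes L473067 L70331
theorem L473069 : N38546 = N5660 := eqc rfl L473068 rfl
theorem L473079 : sm gi N5660 = N26428 := trfs L473069 (flp_i L326137) rfl
theorem L473080 : N26428 = N5660 := eqes L473079 L440823
theorem L473081 : N26428 = N5660 := eqc rfl L473080 rfl
theorem L473096 : sm gg N5660 = N38540 := trfs L473081 (flp_g L326102) rfl
theorem L473097 : N38540 = N8200 := eqes L473096 (flp_g L70346)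
theorem L473098 : N38540 = N8200 := eqc rfl L473097 rfl
theorem L473103 : sm gh N8200 = N26437 := trfs L473098 L326104 rfl
theorem L473104 : N26437 = N5659 := eqes L473103 (flp_h L70341)
theorem L473105 : N26437 = N5659 := eqc rfl L473104 rfl
theorem L473118 : sm gj N5659 = N38555 := trfs L473105 (flp_j L326203) rfl
theorem L473119 : N38555 = N8199 := eqes L473118 L70334
theorem L473120 : N38555 = N8199 := eqc rfl L473119 rfl
theorem L473126 : sm ge N8199 = N26434 := trfs L473120 (flp_e L326201) rfl
theorem L473127 : N26434 = N11896 := eqes L473126 (flp_e L101638)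
theorem L473128 : N26434 = N11896 := eqc rfl L473127 rfl
theorem L473133 : sm gc N11896 = N38554 := trfs L473128 L326195 rfl
theorem L473134 : N38554 = N17281 := eqes L473133 (flp_c L147170)
theorem L473135 : N38554 = N17281 := eqc rfl L473134 rfl
theorem L473155 : sm gj N17281 = N26436 := trfs L473135 L326197 rfl
theorem L473156 : N26436 = N11887 := eqes L473155 (flp_j L147167)
theorem L473157 : N26436 = N11887 := eqc rfl L473156 rfl
theorem L473172 : sm gh N11887 = N38539 := trfs L473157 (flp_h L326097) rfl
theorem L473173 : N38539 = N17282 := eqes L473172 L147174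
theorem L473174 : N38539 = N17282 := eqc rfl L473173 rfl
theorem L473181 : sm gg N17282 = N26427 := trfs L473174 L326095 rfl
theorem L473182 : N26427 = N11888 := eqes L473181 L147181
theorem L473183 : N26427 = N11888 := eqc rfl L473182 rfl
theorem L473189 : sm gd N11888 = N11888 := trfs L473183 L224218 L473183
theorem L473190 : N11888 = N17283 := eqes L473189 L147183
theorem L473191 : N17283 = N11888 := (eqc rfl L473190 rfl).symm
theorem L473210 : sm gj N11888 = N24854 := trfs L473191 (flp_j L211244) rfl
theorem L473211 : N24854 = N17084 := eqes L473210 (flp_j L145653)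
theorem L473212 : N24854 = N17084 := eqc rfl L473211 rfl
theorem L473221 : sm ge N17084 = N36208 := trfs L473212 L306847 rfl
theorem L473222 : N36208 = N11758 := eqes L473221 L145650
theorem L473223 : N36208 = N11758 := eqc rfl L473222 rfl
theorem L473233 : sm gd N11758 = N24859 := trfs L473223 L306852 rfl
theorem L473234 : N24859 = N17087 := eqes L473233 L145670
theorem L473235 : N24859 = N17087 := eqc rfl L473234 rfl
theorem L473237 : sm ga N17087 = N36184 := trfs L473235 (flp_a L306642) rfl
theorem L473238 : N36184 = N24838 := eqes L473237 (flp_a L211103)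
theorem L473239 : N36184 = N24838 := eqc rfl L473238 rfl
theorem L473249 : sm gj N17087 = N17288 := trfs L473235 L211283 rfl
theorem L473250 : N17288 = N11891 := eqes L473249 L145675
theorem L473251 : N17288 = N11891 := eqc rfl L473250 rfl
theorem L473254 : sm ga N11891 = N25130 := trfs L473251 (flp_a L213382) rfl
theorem L473255 : N25130 = N17267 := eqes L473254 (flp_a L147060)
theorem L473256 : N25130 = N16630 := eqc rfl L473255 L458754
theorem L473410 : sm gj N16630 = N24838 := trfs L473256 (flp_j L306645) L473239
theorem L473411 : N24838 = N24072 := eqes L473410 (flp_j L204708)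
theorem L473412 : N24838 = N24072 := eqc rfl L473411 rfl
theorem L473428 : sm gg N24072 = N36182 := trfs L473412 (flp_g L306628) rfl
theorem L473429 : N36182 = N35066 := eqes L473428 (flp_g L297303)
theorem L473430 : N36182 = N35066 := eqc rfl L473429 rfl
theorem L473438 : sm gd N35066 = N24837 := trfs L473430 (flp_d L306624) rfl
theorem L473439 : N24837 = N24069 := eqes L473438 (flp_d L297299)
theorem L473440 : N24837 = N24069 := eqc rfl L473439 rfl
theorem L473449 : sm ge N24069 = N36178 := trfs L473440 (flp_e L306592) rfl
theorem L473450 : N36178 = N34133 := eqes L473449 (flp_e L289644)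
theorem L473451 : N36178 = N34133 := eqc rfl L473450 rfl
theorem L473461 : sm gh N34133 = N24834 := trfs L473451 (flp_h L306586) rfl
theorem L473462 : N24834 = N23412 := eqes L473461 (flp_h L289638)
theorem L473463 : N24834 = N23412 := eqc rfl L473462 rfl
theorem L473472 : sm gj N23412 = N36177 := trfs L473463 L306576 rfl
theorem L473473 : N36177 = N34129 := eqes L473472 (flp_j L289608)
theorem L473474 : N36177 = N34129 := eqc rfl L473473 rfl
theorem L473485 : sm gc N34129 = N24843 := trfs L473474 L306580 rfl
theorem L473486 : N24843 = N23410 := eqes L473485 L289602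
theorem L473487 : N24843 = N23410 := eqc rfl L473486 rfl
theorem L473492 : sm gb N23410 = N32741 := trfs L473487 (flp_b L277551) rfl
theorem L473493 : N32741 = N34111 := eqes L473492 (flp_b L289430)
theorem L473494 : N34111 = N32741 := (eqc rfl L473493 rfl).symm
theorem L473510 : sm gg N32741 = N23593 := trfs L473494 L289436 rfl
theorem L473511 : N23593 = N22634 := eqes L473510 L277557
theorem L473512 : N23593 = N22634 := eqc rfl L473511 rfl
theorem L473514 : sm gi N32741 = N23396 := trfs L473494 (flp_i L289428) rfl
theorem L473531 : sm gi N22634 = N16195 := trfs L473512 (flp_i L200671) rfl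
theorem L473532 : N16195 = N32916 := eqes L473531 (flp_i L279054)
theorem L473533 : N32916 = N16195 := (eqc rfl L473532 rfl).symm
theorem L473537 : sm gd N16195 = N22882 := trfs L473533 L279050 rfl
theorem L473538 : N22882 = N11131 := eqes L473537 (flp_d L138162)
theorem L473539 : N22882 = N11131 := eqc rfl L473538 rfl
theorem L473552 : sm gg N11131 = N33113 := trfs L473539 (flp_g L280786) rfl
theorem L473553 : N33113 = N16063 := eqes L473552 (flp_g L137067)
theorem L473554 : N33113 = N16063 := eqc rfl L473553 rfl
theorem L473563 : sm gj N16063 = N22722 := trfs L473554 (flp_j L280776) rfl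
theorem L473564 : N22722 = N11044 := eqes L473563 L137069
theorem L473565 : N22722 = N11044 := eqc rfl L473564 rfl
theorem L473571 : sm gc N11044 = N33104 := trfs L473565 (flp_c L280692) rfl
theorem L473572 : N33104 = N16050 := eqes L473571 (flp_c L136962)
theorem L473573 : N33104 = N16050 := eqc rfl L473572 rfl
theorem L473586 : sm gi N16050 = N22757 := trfs L473573 L280696 rfl
theorem L473587 : N22757 = N23378 := eqes L473586 L198926
theorem L473588 : N23378 = N22757 := (eqc rfl L473587 rfl).symm
theorem L473601 : sm gg N22757 = N16052 := trfs L473588 L198932 rfl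
theorem L473602 : N16052 = N15634 := eqes L473601 (flp_g L193487)
theorem L473603 : N16052 = N15634 := eqc rfl L473602 rfl
theorem L473622 : sm gd N15634 = N23381 := trfs L473603 (flp_d L198949) rfl
theorem L473623 : N23381 = N22756 := eqes L473622 L193480
theorem L473624 : N23381 = N22756 := eqc rfl L473623 rfl
theorem L473637 : sm gc N22756 = N34088 := trfs L473624 (flp_c L289247) rfl
theorem L473638 : N34088 = N32731 := eqes L473637 (flp_c L277465)
theorem L473639 : N34088 = N32731 := eqc rfl L473638 rfl
theorem L473643 : sm gj N22756 = N16180 := trfs L473624 L198952 rfl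
theorem L473644 : N16180 = N15750 := eqes L473643 L193485
theorem L473645 : N16180 = N15750 := eqc rfl L473644 rfl
theorem L473649 : sm gi N22756 = N16051 := trfs L473624 (flp_i L198947) rfl
theorem L473650 : N16051 = N33103 := eqes L473649 (flp_i L280686)
theorem L473651 : N33103 = N16051 := (eqc rfl L473650 rfl).symm
theorem L473658 : sm gj N16051 = N22872 := trfs L473651 L280684 rfl
theorem L473659 : N22872 = N11119 := eqes L473658 L136971
theorem L473660 : N22872 = N11119 := eqc rfl L473659 rfl
theorem L473663 : sm ga N11119 = N15721 := trfs L473660 L194525 rfl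
theorem L473664 : N15721 = N16150 := eqes L473663 (flp_a L137810)
theorem L473665 : N16150 = N15721 := (eqc rfl L473664 rfl).symm
theorem L473669 : sm gc N11119 = N32906 := trfs L473660 (flp_c L278964) rfl
theorem L473670 : N32906 = N16178 := eqes L473669 L138040
theorem L473671 : N32906 = N16178 := eqc rfl L473670 rfl
theorem L473678 : sm gh N11119 = N33336 := trfs L473660 L282791 rfl
theorem L473679 : N33336 = N16171 := eqes L473678 (flp_h L137997)
theorem L473680 : N33336 = N16171 := eqc rfl L473679 rfl
theorem L473683 : sm ga N16171 = N22889 := trfs L473680 L282793 rfl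
theorem L473684 : N22889 = N23520 := eqes L473683 (flp_a L200107)
theorem L473685 : N23520 = N22889 := (eqc rfl L473684 rfl).symm
theorem L473686 : sm ge N16171 = N44390 := trfs L473680 (flp_e L375608) rfl
theorem L473687 : N44390 = N23558 := eqes L473686 L200431
theorem L473688 : N44390 = N23558 := eqc rfl L473687 rfl
theorem L473690 : sm ga N23558 = N30459 := trfs L473688 L375606 rfl
theorem L473691 : N30459 = N34298 := eqes L473690 (flp_a L290960)
theorem L473692 : N34298 = N30459 := (eqc rfl L473691 rfl).symm
theorem L473694 : sm ga N30459 = N23558 := trfs L473692 L290960 rfl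
theorem L473696 : sm gd N30459 = N45329 := trfs L473692 (flp_d L383448) rfl
theorem L473697 : N45329 = N44415 := eqes L473696 L375819
theorem L473698 : N45329 = N44415 := eqc rfl L473697 rfl
theorem L473700 : sm gh N30459 = N23528 := trfs L473692 L290962 rfl
theorem L473701 : N23528 = N20915 := eqes L473700 (flp_h L258364)
theorem L473702 : N23528 = N20915 := eqc rfl L473701 rfl
theorem L473713 : sm gf N20915 = N34312 := trfs L473702 L291072 rfl
theorem L473714 : N34312 = N28829 := eqes L473713 (flp_f L244272)
theorem L473715 : N34312 = N28829 := eqc rfl L473714 rfl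
theorem L473716 : sm gg N20915 = N34307 := trfs L473702 (flp_g L291038) rfl
theorem L473717 : N34307 = N30458 := eqes L473716 L258354
theorem L473718 : N34307 = N30458 := eqc rfl L473717 rfl
theorem L473722 : sm gi N20915 = N34313 := trfs L473702 L291079 rfl
theorem L473723 : N34313 = N14407 := eqes L473722 L177839
theorem L473724 : N34313 = N14407 := eqc rfl L473723 rfl
theorem L473729 : sm ge N14407 = N23529 := trfs L473724 L291085 rfl
theorem L473730 : N23529 = N10843 := eqes L473729 L122816
theorem L473731 : N23529 = N10843 := eqc rfl L473730 rfl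
theorem L473747 : sm gh N10843 = N34314 := trfs L473731 L291087 rfl
theorem L473748 : N34314 = N15767 := eqes L473747 L134468
theorem L473749 : N34314 = N15767 := eqc rfl L473748 rfl
theorem L473751 : sm ga N15767 = N23574 := trfs L473749 L291089 rfl
theorem L473752 : N23574 = N22933 := eqes L473751 (flp_a L195060)
theorem L473753 : N23574 = N22933 := eqc rfl L473752 rfl
theorem L473768 : sm gg N22933 = N34371 := trfs L473753 (flp_g L291536) rfl
theorem L473769 : N34371 = N33427 := eqes L473768 (flp_g L283566)
theorem L473770 : N34371 = N33427 := eqc rfl L473769 rfl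
theorem L473773 : sm gi N22933 = N34356 := trfs L473753 (flp_i L291436) rfl
theorem L473774 : N34356 = N33429 := eqes L473773 L283575
theorem L473775 : N34356 = N33429 := eqc rfl L473774 rfl
theorem L473777 : sm gh N33429 = N23559 := trfs L473775 (flp_h L291433) rfl
theorem L473779 : sm gh N33427 = N23568 := trfs L473770 (flp_h L291534) rfl
theorem L473780 : N23568 = N22932 := eqes L473779 (flp_h L283562)
theorem L473781 : N23568 = N22932 := eqc rfl L473780 rfl
theorem L473783 : sm gb N22932 = N33476 := trfs L473781 (flp_b L283961) rfl
theorem L473784 : N33476 = N33407 := eqes L473783 (flp_b L283382)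
theorem L473785 : N33476 = N33407 := eqc rfl L473784 rfl
theorem L473795 : sm gj N22932 = N34365 := trfs L473781 (flp_j L291498) rfl
theorem L473796 : N34365 = N33426 := eqes L473795 L283556
theorem L473797 : N34365 = N33426 := eqc rfl L473796 rfl
theorem L473800 : sm gd N33426 = N23565 := trfs L473797 L291496 rfl
theorem L473801 : N23565 = N22935 := eqes L473800 L283560
theorem L473802 : N23565 = N22935 := eqc rfl L473801 rfl
theorem L473816 : sm gh N22935 = N34204 := trfs L473802 (flp_h L290249) rfl
theorem L473817 : N34204 = N33432 := eqes L473816 L283601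
theorem L473818 : N34204 = N33432 := eqc rfl L473817 rfl
theorem L473823 : sm gj N33432 = N23418 := trfs L473818 L290247 L455746
theorem L473824 : N23418 = N22936 := eqes L473823 L283609
theorem L473825 : N23418 = N22936 := eqc rfl L473824 rfl
theorem L473826 : sm gi N33432 = N23457 := trfs L473818 (flp_i L290241) rfl
theorem L473831 : sm gb N22936 = N16086 := trfs L473825 L199279 rfl
theorem L473832 : N16086 = N33411 := eqes L473831 (flp_b L283418)
theorem L473833 : N33411 = N16086 := (eqc rfl L473832 rfl).symm
theorem L473840 : sm ge N22936 = N16081 := trfs L473825 L199283 rfl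
theorem L473841 : N16081 = N15754 := eqes L473840 L195086
theorem L473842 : N16081 = N15754 := eqc rfl L473841 rfl
theorem L473846 : sm gg N22936 = N16080 := trfs L473825 (flp_g L199277) rfl
theorem L473847 : N16080 = N15752 := eqes L473846 L195088
theorem L473848 : N16080 = N15752 := eqc rfl L473847 rfl
theorem L473855 : sm gi N22936 = N16105 := trfs L473825 L199285 L455719
theorem L473856 : N16105 = N33434 := eqes L473855 L283617
theorem L473857 : N33434 = N16105 := (eqc rfl L473856 rfl).symm
theorem L473861 : N22951 = N11080 := L444298.trans L472747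
theorem L473864 : sm gg N16105 = N22938 := trfs L473857 L283625 rfl
theorem L473865 : N22938 = N11071 := eqes L473864 L137457
theorem L473866 : N22938 = N11071 := eqc rfl L473865 rfl
theorem L473885 : sm gi N11071 = N15752 := trfs L473866 (flp_i L195095) rfl
theorem L473886 : N15752 = N16107 := eqes L473885 L137462
theorem L473887 : N16107 = N15752 := (eqc rfl L473886 rfl).symm
theorem L473893 : sm gd N15752 = N23462 := trfs L473887 (flp_d L199655) rfl
theorem L473894 : N23462 = N22937 := eqes L473893 L195090
theorem L473895 : N23462 = N22937 := eqc rfl L473894 rfl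
theorem L473901 : sm gi N15752 = N11071 := trfs L473887 (flp_i L137462) rfl
theorem L473906 : sm gb N22937 = N33370 := trfs L473895 (flp_b L283087) rfl
theorem L473907 : N33370 = N33412 := eqes L473906 (flp_b L283430)
theorem L473908 : N33412 = N33370 := (eqc rfl L473907 rfl).symm
theorem L473912 : sm ge N22937 = N34212 := trfs L473895 (flp_e L290295) rfl
theorem L473913 : N34212 = N33436 := eqes L473912 L283634
theorem L473914 : N34212 = N33436 := eqc rfl L473913 rfl
theorem L473932 : sm gd N33436 = N23468 := trfs L473914 L290293 rfl
theorem L473933 : N23468 = N22942 := eqes L473932 L283638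
theorem L473934 : N23468 = N22942 := eqc rfl L473933 rfl
theorem L473959 : sm gi N22942 = N16111 := trfs L473934 (flp_i L199694) rfl
theorem L473960 : N16111 = N33443 := eqes L473959 L283691
theorem L473961 : N33443 = N16111 := (eqc rfl L473960 rfl).symm
theorem L473966 : sm ge N16111 = N22943 := trfs L473961 L283696 rfl
theorem L473967 : N22943 = N11074 := eqes L473966 (flp_e L137496)
theorem L473968 : N22943 = N11074 := eqc rfl L473967 rfl
theorem L473971 : sm ga N11074 = N15777 := trfs L473968 L195140 rfl
theorem L473972 : N15777 = N16090 := eqes L473971 (flp_a L137314)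
theorem L473973 : N16090 = N15777 := (eqc rfl L473972 rfl).symm
theorem L473983 : sm gh N11074 = N33444 := trfs L473968 L283698 rfl
theorem L473984 : N33444 = N14625 := eqes L473983 (flp_h L124676)
theorem L473985 : N33444 = N14625 := eqc rfl L473984 rfl
theorem L473992 : sm gf N14625 = N10081 := trfs L473985 L283703 L443373
theorem L473993 : N10081 = N10066 := eqes L473992 L124673
theorem L473994 : N10081 = N10066 := eqc rfl L473993 rfl
theorem L473995 : sm gi N14625 = N44498 := trfs L473985 (flp_i L376505) rfl
theorem L473996 : N44498 = N21289 := eqes L473995 L181020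
theorem L473997 : N44498 = N21289 := eqc rfl L473996 rfl
theorem L473998 : sm ga N21289 = N30544 := trfs L473997 L376500 rfl
theorem L473999 : N30544 = N30988 := eqes L473998 (flp_a L262865)
theorem L474000 : N30988 = N30544 := (eqc rfl L473999 rfl).symm
theorem L474002 : sm gf N21289 = N14648 := trfs L473997 L376503 L443361
theorem L474003 : N14648 = N14628 := eqes L474002 L181025
theorem L474004 : N14648 = N14628 := eqc rfl L474003 rfl
theorem L474005 : sm gh N21289 = N30513 := trfs L473997 (flp_h L376498) rfl
theorem L474006 : N30513 = N31019 := eqes L474005 L263108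
theorem L474007 : N31019 = N30513 := (eqc rfl L474006 rfl).symm
theorem L474011 : sm gb N30513 = N44431 := trfs L474007 (flp_b L375955) rfl
theorem L474012 : N44431 = N44473 := eqes L474011 (flp_b L376288)
theorem L474013 : N44473 = N44431 := (eqc rfl L474012 rfl).symm
theorem L474016 : sm ge N30513 = N45252 := trfs L474007 (flp_e L382850) rfl
theorem L474017 : N45252 = N44497 := eqes L474016 (flp_e L376496)
theorem L474018 : N45252 = N44497 := eqc rfl L474017 rfl
theorem L474022 : sm gg N30513 = N45249 := trfs L474007 (flp_g L382827) rfl
theorem L474023 : N45249 = N44495 := eqes L474022 (flp_g L376480)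
theorem L474024 : N45249 = N44495 := eqc rfl L474023 rfl
theorem L474026 : sm gh N30513 = N21289 := trfs L474007 (flp_h L263108) rfl
theorem L474028 : sm gi N30513 = N23469 := trfs L474007 L263115 rfl
theorem L474029 : N23469 = N20949 := eqes L474028 (flp_i L258813)
theorem L474030 : N23469 = N20949 := eqc rfl L474029 rfl
theorem L474043 : sm gg N20949 = N34218 := trfs L474030 (flp_g L290333) rfl
theorem L474044 : N34218 = N30510 := eqes L474043 (flp_g L258791)
theorem L474045 : N34218 = N30510 := eqc rfl L474044 rfl
theorem L474053 : sm gh N30510 = N21258 := trfs L474045 (flp_h L290328) L455743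
theorem L474054 : N21258 = N22940 := eqes L474053 L258794
theorem L474055 : N22940 = N21258 := (eqc rfl L474054 rfl).symm
theorem L474057 : sm ga N21258 = N15774 := trfs L474055 L195116 rfl
theorem L474058 : N15774 = N30438 := eqes L474057 (flp_a L258170)
theorem L474059 : N30438 = N15774 := (eqc rfl L474058 rfl).symm
theorem L474066 : sm ge N21258 = N33440 := trfs L474055 L283666 rfl
theorem L474067 : N33440 = N30968 := eqes L474066 (flp_e L262689)
theorem L474068 : N33440 = N30968 := eqc rfl L474067 rfl
theorem L474069 : sm gf N21258 = N15934 := trfs L474055 L195118 rfl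
theorem L474070 : N15934 = N14700 := eqes L474069 L180761
theorem L474071 : N15934 = N14700 := eqc rfl L474070 rfl
theorem L474072 : sm gg N21258 = N15755 := trfs L474055 L195120 rfl
theorem L474073 : N15755 = N14608 := eqes L474072 (flp_g L180752)
theorem L474074 : N15755 = N14608 := eqc rfl L474073 rfl
theorem L474075 : sm gj N21258 = N33438 := trfs L474055 (flp_j L283653) rfl
theorem L474076 : N33438 = N30970 := eqes L474075 L262700
theorem L474077 : N33438 = N30970 := eqc rfl L474076 rfl
theorem L474078 : sm gh N21258 = N30510 := trfs L474055 (flp_h L258794) rfl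
theorem L474079 : N30510 = N30971 := eqes L474078 L262711
theorem L474080 : N30971 = N30510 := (eqc rfl L474079 rfl).symm
theorem L474085 : sm gb N30510 = N21266 := trfs L474080 L262713 rfl
theorem L474086 : N21266 = N44469 := eqes L474085 (flp_b L376247)
theorem L474087 : N44469 = N21266 := (eqc rfl L474086 rfl).symm
theorem L474092 : sm ge N30510 = N45173 := trfs L474080 (flp_e L382221) rfl
theorem L474093 : N45173 = N44494 := eqes L474092 L376462
theorem L474094 : N45173 = N44494 := eqc rfl L474093 rfl
theorem L474095 : sm gf N30510 = N21397 := trfs L474080 L262716 rfl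
theorem L474096 : N21397 = N21103 := eqes L474095 L258789
theorem L474097 : N21397 = N21103 := eqc rfl L474096 rfl
theorem L474098 : sm gg N30510 = N21259 := trfs L474080 L262718 rfl
theorem L474099 : N21259 = N20949 := eqes L474098 L258791
theorem L474100 : N21259 = N20949 := eqc rfl L474099 rfl
theorem L474104 : sm gh N30510 = N21258 := trfs L474080 (flp_h L262711) rfl
theorem L474106 : sm gi N30510 = N45178 := trfs L474080 L382257 rfl
theorem L474107 : N45178 = N44495 := eqes L474106 L376471
theorem L474108 : N45178 = N44495 := eqc rfl L474107 rfl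
theorem L474109 : sm gb N44495 = N30986 := trfs L474108 L382259 rfl
theorem L474112 : sm gf N44495 = N31180 := trfs L474108 L382262 rfl
theorem L474113 : N31180 = N30744 := eqes L474112 L376478
theorem L474114 : N31180 = N30744 := eqc rfl L474113 rfl
theorem L474115 : sm gg N44495 = N30973 := trfs L474108 L382264 rfl
theorem L474116 : N30973 = N30513 := eqes L474115 L376480
theorem L474117 : N30973 = N30513 := eqc rfl L474116 rfl
theorem L474120 : sm ga N30513 = N44385 := trfs L474117 (flp_a L375556) rfl
theorem L474121 : N44385 = N20971 := eqes L474120 L258815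
theorem L474122 : N44385 = N20971 := eqc rfl L474121 rfl
theorem L474123 : sm gb N30513 = N21268 := trfs L474117 L262730 rfl
theorem L474124 : N21268 = N44473 := eqes L474123 (flp_b L376288)
theorem L474125 : N44431 = N21268 := (eqc rfl L474124 L474013).symm
theorem L474130 : sm ge N30513 = N45175 := trfs L474117 (flp_e L382234) rfl
theorem L474131 : N45175 = N44497 := eqes L474130 (flp_e L376496)
theorem L474132 : N45175 = N44497 := eqc rfl L474131 rfl
theorem L474133 : sm gf N30513 = N21261 := trfs L474117 L262733 rfl
theorem L474134 : N21261 = N20952 := eqes L474133 L258820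
theorem L474135 : N21261 = N20952 := eqc rfl L474134 rfl
theorem L474136 : sm gj N30513 = N44971 := trfs L474117 (flp_j L380475) rfl
theorem L474137 : N44971 = N44264 := eqes L474136 (flp_j L374497)
theorem L474138 : N44971 = N44264 := eqc rfl L474137 rfl
theorem L474139 : sm gh N30513 = N21318 := trfs L474117 L262735 rfl
theorem L474140 : N21318 = N21289 := eqes L474139 L474026
theorem L474141 : N21318 = N21289 := eqc rfl L474140 rfl
theorem L474143 : sm ga N21289 = N30498 := trfs L474141 (flp_a L258686) rfl
theorem L474144 : N30498 = N30988 := eqes L474143 (flp_a L262865)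
theorem L474145 : N30544 = N30498 := (eqc rfl L474144 L474000).symm
theorem L474146 : sm gb N21289 = N14655 := trfs L474141 L181243 rfl
theorem L474147 : N14655 = N30469 := eqes L474146 (flp_b L258454)
theorem L474148 : N30469 = N14655 := (eqc rfl L474147 rfl).symm
theorem L474153 : sm ge N21289 = N31055 := trfs L474141 (flp_e L263379) rfl
theorem L474154 : N31055 = N31018 := eqes L474153 (flp_e L263106)
theorem L474155 : N31055 = N31018 := eqc rfl L474154 rfl
theorem L474157 : sm gg N21289 = N31058 := trfs L474141 (flp_g L263407) rfl
theorem L474158 : N31058 = N31016 := eqes L474157 (flp_g L263094)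
theorem L474159 : N31058 = N31016 := eqc rfl L474158 rfl
theorem L474160 : sm gj N21289 = N30892 := trfs L474141 (flp_j L262032) rfl
theorem L474161 : N30892 = N30863 := eqes L474160 (flp_j L261785)
theorem L474162 : N30892 = N30863 := eqc rfl L474161 rfl
theorem L474163 : sm gi N21289 = N14646 := trfs L474141 (flp_i L181241) rfl
theorem L474164 : N14646 = N14625 := eqes L474163 (flp_i L181020)
theorem L474165 : N14646 = N14625 := eqc rfl L474164 rfl
theorem L474166 : sm ga N14625 = N20941 := trfs L474165 (flp_a L178057) rfl
theorem L474167 : N20941 = N21267 := eqes L474166 (flp_a L180838)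
theorem L474168 : N21267 = N20941 := (eqc rfl L474167 rfl).symm
theorem L474169 : sm gb N14625 = N10084 := trfs L474165 L124837 rfl
theorem L474170 : N10084 = N20920 := eqes L474169 (flp_b L177885)
theorem L474171 : N20920 = N10084 := (eqc rfl L474170 rfl).symm
theorem L474176 : sm ge N14625 = N21314 := trfs L474165 (flp_e L181213) rfl
theorem L474177 : N21314 = N21288 := eqes L474176 L181015
theorem L474178 : N21314 = N21288 := eqc rfl L474177 rfl
theorem L474180 : sm gg N14625 = N21316 := trfs L474165 (flp_g L181231) rfl
theorem L474181 : N21316 = N21286 := eqes L474180 (flp_g L181000)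
theorem L474182 : N21316 = N21286 := eqc rfl L474181 rfl
theorem L474183 : sm gj N14625 = N21204 := trfs L474165 (flp_j L180295) rfl
theorem L474184 : N21204 = N21183 := eqes L474183 (flp_j L180111)
theorem L474185 : N21204 = N21183 := eqc rfl L474184 rfl
theorem L474186 : sm gh N14625 = N10080 := trfs L474165 (flp_h L124835) rfl
theorem L474187 : N10080 = N11074 := eqes L474186 L124676
theorem L474188 : N11074 = N10080 := (eqc rfl L474187 rfl).symm
theorem L474189 : sm ga N10080 = N15777 := trfs L474188 (flp_a L137314) L473973
theorem L474190 : N15777 = N14395 := eqes L474189 (flp_a L122714)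
theorem L474191 : N15777 = N14395 := eqc rfl L474190 rfl
theorem L474201 : sm gf N10080 = N7627 := trfs L474188 L94796 rfl
theorem L474202 : N7627 = N6948 := eqes L474201 (flp_f L86180)
theorem L474203 : N7627 = N6948 := eqc rfl L474202 rfl
theorem L474206 : sm gh N10080 = N14625 := trfs L474188 (flp_h L124676) rfl
theorem L474217 : sm gd N6948 = N5259 := trfs L474203 (flp_d L65522) rfl
theorem L474218 : N5259 = N5270 := eqes L474217 L59623
theorem L474219 : N5270 = N5259 := (eqc rfl L474218 rfl).symm
theorem L474223 : sm gg N6948 = N5306 := trfs L474203 L65524 rfl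
theorem L474224 : N5306 = N4832 := eqes L474223 L59625
theorem L474225 : N5306 = N4832 := eqc rfl L474224 rfl
theorem L474226 : sm gj N6948 = N11007 := trfs L474203 (flp_j L94189) rfl
theorem L474227 : N11007 = N10030 := eqes L474226 (flp_j L85765)
theorem L474228 : N11007 = N10030 := eqc rfl L474227 rfl
theorem L474231 : sm gi N6948 = N10836 := trfs L474203 L94813 L456033
theorem L474232 : N10836 = N10055 := eqes L474231 (flp_i L85976)
theorem L474233 : N10836 = N10055 := eqc rfl L474232 rfl
theorem L474234 : sm ga N10055 = N7474 := trfs L474233 L92689 rfl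
theorem L474235 : N7474 = N14370 := eqes L474234 (flp_a L122501)
theorem L474236 : N14370 = N7474 := (eqc rfl L474235 rfl).symm
theorem L474241 : sm gd N10055 = N7465 := trfs L474233 (flp_d L92687) rfl
theorem L474242 : N7465 = N7616 := eqes L474241 L85972
theorem L474243 : N7616 = N7465 := (eqc rfl L474242 rfl).symm
theorem L474244 : sm ge N10055 = N15757 := trfs L474233 L134379 rfl
theorem L474245 : N15757 = N13809 := eqes L474244 (flp_e L117675)
theorem L474246 : N15757 = N13809 := eqc rfl L474245 rfl
theorem L474248 : sm gg N10055 = N7545 := trfs L474233 L92691 rfl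
theorem L474249 : N7545 = N6973 := eqes L474248 L85974
theorem L474250 : N7545 = N6973 := eqc rfl L474249 rfl
theorem L474251 : sm gj N10055 = N15637 := trfs L474233 (flp_j L133309) rfl
theorem L474252 : N15637 = N14547 := eqes L474251 (flp_j L123984)
theorem L474253 : N15637 = N14547 := eqc rfl L474252 rfl
theorem L474254 : sm gh N10055 = N14400 := trfs L474233 (flp_h L122761) rfl
theorem L474255 : N14400 = N14609 := eqes L474254 L124530
theorem L474256 : N14609 = N14400 := (eqc rfl L474255 rfl).symm
theorem L474262 : sm gb N14400 = N10057 := trfs L474256 L124532 rfl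
theorem L474263 : N10057 = N20942 := eqes L474262 (flp_b L178068)
theorem L474264 : N20942 = N10057 := (eqc rfl L474263 rfl).symm
theorem L474269 : sm ge N14400 = N20070 := trfs L474256 (flp_e L170585) rfl
theorem L474270 : N20070 = N20951 := eqes L474269 L178142
theorem L474271 : N20951 = N20070 := (eqc rfl L474270 rfl).symm
theorem L474273 : sm gg N14400 = N10117 := trfs L474256 L124535 rfl
theorem L474274 : N10117 = N9983 := eqes L474273 L122758
theorem L474275 : N10117 = N9983 := eqc rfl L474274 rfl
theorem L474276 : sm gj N14400 = N21167 := trfs L474256 (flp_j L179958) rfl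
theorem L474277 : N21167 = N20847 := eqes L474276 (flp_j L177236)
theorem L474278 : N21167 = N20847 := eqc rfl L474277 rfl
theorem L474279 : sm gh N14400 = N10055 := trfs L474256 (flp_h L124530) rfl
theorem L474285 : sm gb N20847 = N14549 := trfs L474278 L179954 rfl
theorem L474286 : N14549 = N30349 := eqes L474285 (flp_b L257387)
theorem L474287 : N30349 = N14549 := (eqc rfl L474286 rfl).symm
theorem L474292 : sm ge N20847 = N29070 := trfs L474278 (flp_e L246418) rfl
theorem L474293 : N29070 = N30358 := eqes L474292 L257471
theorem L474294 : N30358 = N29070 := (eqc rfl L474293 rfl).symm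
theorem L474295 : sm gf N20847 = N30833 := trfs L474278 (flp_f L261499) rfl
theorem L474296 : N30833 = N30356 := eqes L474295 (flp_f L257454)
theorem L474297 : N30833 = N30356 := eqc rfl L474296 rfl
theorem L474301 : sm gi N20847 = N30835 := trfs L474278 L261512 rfl
theorem L474302 : N30835 = N30359 := eqes L474301 L257481
theorem L474303 : N30835 = N30359 := eqc rfl L474302 rfl
theorem L474304 : sm ga N30359 = N44192 := trfs L474303 (flp_a L373814) rfl
theorem L474305 : N44192 = N20862 := eqes L474304 L257483
theorem L474306 : N44192 = N20862 := eqc rfl L474305 rfl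
theorem L474307 : sm gb N30359 = N21172 := trfs L474303 L261514 rfl
theorem L474308 : N21172 = N44252 := eqes L474307 (flp_b L374383)
theorem L474309 : N44252 = N21172 := (eqc rfl L474308 rfl).symm
theorem L474314 : sm ge N30359 = N42351 := trfs L474303 (flp_e L358112) rfl
theorem L474315 : N42351 = N44266 := eqes L474314 (flp_e L374513)
theorem L474316 : N44266 = N42351 := (eqc rfl L474315 rfl).symm
theorem L474320 : sm gh N30359 = N21206 := trfs L474303 L261520 rfl
theorem L474321 : N21206 = N44267 := eqes L474320 L374518
theorem L474322 : N44267 = N21206 := (eqc rfl L474321 rfl).symm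
theorem L474328 : N30516 = N14628 := L443361.trans L474004
theorem L474331 : sm gh N21206 = N30359 := trfs L474322 (flp_h L374518) rfl
theorem L474333 : sm gi N21206 = N33177 := trfs L474322 L374526 rfl
theorem L474334 : N33177 = N14573 := eqes L474333 (flp_i L180306)
theorem L474335 : N33177 = N14573 := eqc rfl L474334 rfl
theorem L474336 : sm ga N14573 = N22786 := trfs L474335 L281388 rfl
theorem L474337 : N22786 = N20843 := eqes L474336 (flp_a L177196)
theorem L474338 : N22786 = N20843 := eqc rfl L474337 rfl
theorem L474356 : sm gj N20843 = N15780 := trfs L474338 L193763 rfl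
theorem L474357 : N15780 = N14396 := eqes L474356 L177202
theorem L474358 : N15780 = N14396 := eqc rfl L474357 rfl
theorem L474359 : sm gh N20843 = N15652 := trfs L474338 (flp_h L193757) rfl
theorem L474360 : N15652 = N14329 := eqes L474359 (flp_h L177194)
theorem L474361 : N15652 = N14329 := eqc rfl L474360 rfl
theorem L474364 : sm gb N14329 = N11041 := trfs L474361 L133447 rfl
theorem L474365 : N11041 = N9869 := eqes L474364 (flp_b L122132)
theorem L474366 : N11041 = N9869 := eqc rfl L474365 rfl
theorem L474368 : sm gd N14329 = N10766 := trfs L474361 L133450 rfl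
theorem L474369 : N10766 = N10754 := eqes L474368 L122134
theorem L474370 : N10766 = N10754 := eqc rfl L474369 rfl
theorem L474371 : sm ge N14329 = N22785 := trfs L474361 (flp_e L193752) rfl
theorem L474372 : N22785 = N19790 := eqes L474371 (flp_e L168076)
theorem L474373 : N22785 = N19790 := eqc rfl L474372 rfl
theorem L474374 : sm gf N14329 = N22783 := trfs L474361 (flp_f L193734) rfl
theorem L474375 : N22783 = N20842 := eqes L474374 L177183
theorem L474376 : N22783 = N20842 := eqc rfl L474375 rfl
theorem L474381 : sm gi N14329 = N10765 := trfs L474361 (flp_i L133445) rfl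
theorem L474382 : N10765 = N20817 := eqes L474381 (flp_i L176948)
theorem L474383 : N20817 = N10765 := (eqc rfl L474382 rfl).symm
theorem L474386 : sm gb N10765 = N14313 := trfs L474383 (flp_b L176941) rfl
theorem L474387 : N14313 = N7602 := eqes L474386 L92050
theorem L474388 : N14313 = N7602 := eqc rfl L474387 rfl
theorem L474393 : sm ge N10765 = N28756 := trfs L474383 (flp_e L243558) rfl
theorem L474394 : N28756 = N15651 := eqes L474393 L133436
theorem L474395 : N28756 = N15651 := eqc rfl L474394 rfl
theorem L474396 : sm gf N10765 = N30310 := trfs L474383 L257008 rfl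
theorem L474397 : N30310 = N15649 := eqes L474396 (flp_f L133421)
theorem L474398 : N30310 = N15649 := eqc rfl L474397 rfl
theorem L474402 : sm gi N10765 = N14329 := trfs L474383 L176948 rfl
theorem L474404 : sm ga N15649 = N21166 := trfs L474398 L257010 rfl
theorem L474405 : N21166 = N22761 := eqes L474404 (flp_a L193526)
theorem L474406 : N22761 = N21166 := (eqc rfl L474405 rfl).symm
theorem L474412 : sm gj N15649 = N20903 := trfs L474398 L257017 rfl
theorem L474413 : N20903 = N10848 := eqes L474412 L133423
theorem L474414 : N20903 = N10848 := eqc rfl L474413 rfl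
theorem L474426 : sm gh N10848 = N30439 := trfs L474414 L258181 rfl
theorem L474427 : N30439 = N14412 := eqes L474426 (flp_h L122861)
theorem L474428 : N30439 = N14412 := eqc rfl L474427 rfl
theorem L474434 : sm gd N14412 = N44384 := trfs L474428 L375544 rfl
theorem L474435 : N44384 = N9922 := eqes L474434 (flp_d L122854)
theorem L474436 : N44384 = N9922 := eqc rfl L474435 rfl
theorem L474450 : sm gh N9922 = N16156 := trfs L474436 L375552 L443446
theorem L474451 : N16156 = N6841 := eqes L474450 (flp_h L84846)
theorem L474452 : N16156 = N6841 := eqc rfl L474451 rfl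
theorem L474467 : sm gi N6841 = N11103 := trfs L474452 (flp_i L137858) rfl
theorem L474468 : N11103 = N9900 := eqes L474467 (flp_i L84670)
theorem L474469 : N11103 = N9900 := eqc rfl L474468 rfl
theorem L474479 : sm gg N9900 = N16153 := trfs L474469 (flp_g L137838) rfl
theorem L474480 : N16153 = N14379 := eqes L474479 L122575
theorem L474481 : N16153 = N14379 := eqc rfl L474480 rfl
theorem L474483 : sm gh N9900 = N14654 := trfs L474469 (flp_h L124908) rfl
theorem L474484 : N14654 = N14380 := eqes L474483 L122587
theorem L474485 : N14654 = N14380 := eqc rfl L474484 rfl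
theorem L474494 : sm gg N14380 = N21330 := trfs L474485 (flp_g L181343) rfl
theorem L474495 : N21330 = N20919 := eqes L474494 (flp_g L177881)
theorem L474496 : N21330 = N20919 := eqc rfl L474495 rfl
theorem L474498 : sm gi N14380 = N21333 := trfs L474485 L181367 rfl
theorem L474499 : N21333 = N20921 := eqes L474498 L177891
theorem L474500 : N21333 = N20921 := eqc rfl L474499 rfl
theorem L474509 : sm gg N20921 = N31083 := trfs L474500 (flp_g L263617) rfl
theorem L474510 : N31083 = N30467 := eqes L474509 (flp_g L258442)
theorem L474511 : N31083 = N30467 := eqc rfl L474510 rfl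
theorem L474513 : sm gh N20921 = N31086 := trfs L474500 L263637 rfl
theorem L474514 : N31086 = N14413 := eqes L474513 L177899
theorem L474515 : N31086 = N14413 := eqc rfl L474514 rfl
theorem L474524 : sm gg N14413 = N45350 := trfs L474515 (flp_g L383620) rfl
theorem L474525 : N45350 = N20969 := eqes L474524 (flp_g L178297)
theorem L474526 : N45350 = N20969 := eqc rfl L474525 rfl
theorem L474537 : sm gi N20969 = N34319 := trfs L474526 L383622 rfl
theorem L474538 : N34319 = N14411 := eqes L474537 (flp_i L178289)
theorem L474539 : N34319 = N14411 := eqc rfl L474538 rfl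
theorem L474544 : sm gf N14411 = N23785 := trfs L474539 L291136 rfl
theorem L474545 : N23785 = N9994 := eqes L474544 L122850
theorem L474546 : N23785 = N9994 := eqc rfl L474545 rfl
theorem L474566 : sm gh N9994 = N16327 := trfs L474546 (flp_h L202267) rfl
theorem L474567 : N16327 = N6889 := eqes L474566 (flp_h L85450)
theorem L474568 : N16327 = N6889 := eqc rfl L474567 rfl
theorem L474570 : sm ga N6889 = N11247 := trfs L474568 L139273 rfl
theorem L474571 : N11247 = N9981 := eqes L474570 (flp_a L85345)
theorem L474572 : N11247 = N9981 := eqc rfl L474571 rfl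
theorem L474582 : sm gj N6889 = N23782 := trfs L474568 (flp_j L202249) rfl
theorem L474583 : N23782 = N9993 := eqes L474582 L85441
theorem L474584 : N23782 = N9993 := eqc rfl L474583 rfl
theorem L474592 : sm ge N9993 = N34673 := trfs L474584 (flp_e L293992) rfl
theorem L474593 : N34673 = N14516 := eqes L474592 (flp_e L123739)
theorem L474594 : N34673 = N14516 := eqc rfl L474593 rfl
theorem L474599 : sm ga N14516 = N23822 := trfs L474594 L293988 rfl
theorem L474600 : N23822 = N21098 := eqes L474599 (flp_a L179388)
theorem L474601 : N23822 = N21098 := eqc rfl L474600 rfl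
theorem L474607 : sm gi N14516 = N23781 := trfs L474594 (flp_i L293986) rfl
theorem L474608 : N23781 = N21054 := eqes L474607 (flp_i L179024)
theorem L474609 : N23781 = N21054 := eqc rfl L474608 rfl
theorem L474610 : sm ga N21054 = N16357 := trfs L474609 L202233 rfl
theorem L474611 : N16357 = N30641 := eqes L474610 (flp_a L259902)
theorem L474612 : N30641 = N16357 := (eqc rfl L474611 rfl).symm
theorem L474617 : sm gd N21054 = N34664 := trfs L474609 (flp_d L293914) rfl
theorem L474618 : N34664 = N30662 := eqes L474617 (flp_d L260087)
theorem L474619 : N34664 = N30662 := eqc rfl L474618 rfl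
theorem L474621 : sm gf N21054 = N34672 := trfs L474609 L293978 rfl
theorem L474622 : N34672 = N30666 := eqes L474621 (flp_f L260126)
theorem L474623 : N34672 = N30666 := eqc rfl L474622 rfl
theorem L474625 : sm gj N21054 = N16326 := trfs L474609 L202238 rfl
theorem L474626 : N16326 = N14469 := eqes L474625 (flp_j L179016)
theorem L474627 : N16326 = N14469 := eqc rfl L474626 rfl
theorem L474628 : sm gh N21054 = N31348 := trfs L474609 (flp_h L265723) rfl
theorem L474629 : N31348 = N30668 := eqes L474628 L260138
theorem L474630 : N31348 = N30668 := eqc rfl L474629 rfl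
theorem L474631 : sm ga N30668 = N21551 := trfs L474630 L265716 rfl
theorem L474632 : N21551 = N44689 := eqes L474631 (flp_a L378124)
theorem L474633 : N44689 = N21551 := (eqc rfl L474632 rfl).symm
theorem L474637 : sm gc N30668 = N22071 := trfs L474630 L265718 rfl
theorem L474638 : N22071 = N21068 := eqes L474637 L260142
theorem L474639 : N22071 = N21068 := eqc rfl L474638 rfl
theorem L474640 : sm gd N30668 = N45729 := trfs L474630 (flp_d L386638) rfl
theorem L474641 : N45729 = N44729 := eqes L474640 L378463
theorem L474642 : N45729 = N44729 := eqc rfl L474641 rfl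
theorem L474643 : sm ge N30668 = N21506 := trfs L474630 (flp_e L265714) rfl
theorem L474644 : N21506 = N21058 := eqes L474643 L260144
theorem L474645 : N21506 = N21058 := eqc rfl L474644 rfl
theorem L474646 : sm gf N30668 = N45746 := trfs L474630 L386767 rfl
theorem L474647 : N45746 = N44726 := eqes L474646 (flp_f L378443)
theorem L474648 : N45746 = N44726 := eqc rfl L474647 rfl
theorem L474650 : sm gj N30668 = N21508 := trfs L474630 L265721 rfl
theorem L474651 : N21508 = N21055 := eqes L474650 L260147
theorem L474652 : N21508 = N21055 := eqc rfl L474651 rfl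
theorem L474653 : sm gi N30668 = N45747 := trfs L474630 L386777 rfl
theorem L474654 : N45747 = N44730 := eqes L474653 L378470
theorem L474655 : N45747 = N44730 := eqc rfl L474654 rfl
theorem L474656 : sm ga N44730 = N31416 := trfs L474655 L386779 rfl
theorem L474658 : sm gc N44730 = N32167 := trfs L474655 L386781 rfl
theorem L474659 : N32167 = N30689 := eqes L474658 L378474
theorem L474660 : N32167 = N30689 := eqc rfl L474659 rfl
theorem L474661 : sm ge N44730 = N31349 := trfs L474655 L386783 rfl
theorem L474662 : N31349 = N30675 := eqes L474661 L378476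
theorem L474663 : N31349 = N30675 := eqc rfl L474662 rfl
theorem L474665 : sm gj N44730 = N31351 := trfs L474655 L386786 rfl
theorem L474666 : N31351 = N30670 := eqes L474665 L378479
theorem L474667 : N31351 = N30670 := eqc rfl L474666 rfl
theorem L474668 : sm ga N30670 = N21554 := trfs L474667 L265746 rfl
theorem L474669 : N21554 = N44691 := eqes L474668 (flp_a L378141)
theorem L474670 : N44691 = N21554 := (eqc rfl L474669 rfl).symm
theorem L474674 : sm gc N30670 = N22074 := trfs L474667 L265748 rfl
theorem L474675 : N22074 = N21070 := eqes L474674 L260159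
theorem L474676 : N22074 = N21070 := eqc rfl L474675 rfl
theorem L474677 : sm gd N30670 = N45735 := trfs L474667 (flp_d L386685) rfl
theorem L474678 : N45735 = N44733 := eqes L474677 (flp_d L378501)
theorem L474679 : N45735 = N44733 := eqc rfl L474678 rfl
theorem L474680 : sm ge N30670 = N21509 := trfs L474667 L265750 rfl
theorem L474681 : N21509 = N21060 := eqes L474680 L260161
theorem L474682 : N21509 = N21060 := eqc rfl L474681 rfl
theorem L474683 : sm gf N30670 = N45750 := trfs L474667 (flp_f L386815) rfl
theorem L474684 : N45750 = N44728 := eqes L474683 (flp_f L378459)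
theorem L474685 : N45750 = N44728 := eqc rfl L474684 rfl
theorem L474686 : sm gg N30670 = N21511 := trfs L474667 L265752 rfl
theorem L474687 : N21511 = N21057 := eqes L474686 L260163
theorem L474688 : N21511 = N21057 := eqc rfl L474687 rfl
theorem L474689 : sm gh N30670 = N45751 := trfs L474667 L386817 rfl
theorem L474690 : N45751 = N21127 := eqes L474689 L260165
theorem L474691 : N45751 = N21127 := eqc rfl L474690 rfl
theorem L474700 : sm gg N21127 = N31355 := trfs L474691 L386825 rfl
theorem L474701 : N31355 = N14519 := eqes L474700 L179637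
theorem L474702 : N31355 = N14519 := eqc rfl L474701 rfl
theorem L474704 : sm ga N14519 = N21558 := trfs L474702 L265787 rfl
theorem L474705 : N21558 = N21101 := eqes L474704 (flp_a L179412)
theorem L474706 : N21558 = N21101 := eqc rfl L474705 rfl
theorem L474720 : sm gi N14519 = N23788 := trfs L474702 L265794 rfl
theorem L474721 : N23788 = N9992 := eqes L474720 (flp_i L123757)
theorem L474722 : N23788 = N9992 := eqc rfl L474721 rfl
theorem L474736 : sm gh N9992 = N16329 := trfs L474722 (flp_h L202294) rfl
theorem L474737 : N16329 = N6888 := eqes L474736 (flp_h L85432)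
theorem L474738 : N16329 = N6888 := eqc rfl L474737 rfl
theorem L474739 : sm ga N6888 = N11249 := trfs L474738 L139292 rfl
theorem L474740 : N11249 = N9980 := eqes L474739 (flp_a L85338)
theorem L474741 : N11249 = N9980 := eqc rfl L474740 rfl
theorem L474752 : sm gi N6888 = N11222 := trfs L474738 (flp_i L139290) rfl
theorem L474753 : N11222 = N9961 := eqes L474752 (flp_i L85181)
theorem L474754 : N11222 = N9961 := eqc rfl L474753 rfl
theorem L474755 : sm ga N9961 = N7743 := trfs L474754 L96029 rfl
theorem L474756 : N7743 = N14458 := eqes L474755 (flp_a L123241)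
theorem L474757 : N14458 = N7743 := (eqc rfl L474756 rfl).symm
theorem L474761 : sm gc N9961 = N7901 := trfs L474754 L96031 rfl
theorem L474762 : N7901 = N6870 := eqes L474761 L85178
theorem L474763 : N7901 = N6870 := eqc rfl L474762 rfl
theorem L474764 : sm gd N9961 = N16322 := trfs L474754 (flp_d L139234) rfl
theorem L474765 : N16322 = N14468 := eqes L474764 L123328
theorem L474766 : N16322 = N14468 := eqc rfl L474765 rfl
theorem L474767 : sm ge N9961 = N7723 := trfs L474754 (flp_e L96027) rfl
theorem L474768 : N7723 = N6868 := eqes L474767 (flp_e L85174)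
theorem L474769 : N7723 = N6868 := eqc rfl L474768 rfl
theorem L474770 : sm gf N9961 = N16328 := trfs L474754 L139281 rfl
theorem L474771 : N16328 = N13688 := eqes L474770 (flp_f L116604)
theorem L474772 : N16328 = N13688 := eqc rfl L474771 rfl
theorem L474775 : sm gh N9961 = N14774 := trfs L474754 (flp_h L125869) rfl
theorem L474776 : N14774 = N14470 := eqes L474775 L123348
theorem L474777 : N14774 = N14470 := eqc rfl L474776 rfl
theorem L474778 : sm ga N14470 = N10183 := trfs L474777 L125864 rfl
theorem L474779 : N10183 = N21037 := eqes L474778 (flp_a L178867)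
theorem L474780 : N21037 = N10183 := (eqc rfl L474779 rfl).symm
theorem L474785 : sm gd N14470 = N21504 := trfs L474777 (flp_d L182742) rfl
theorem L474786 : N21504 = N21056 := eqes L474785 L179037
theorem L474787 : N21504 = N21056 := eqc rfl L474786 rfl
theorem L474789 : sm gf N14470 = N21510 := trfs L474777 L182791 rfl
theorem L474790 : N21510 = N19890 := eqes L474789 (flp_f L168983)
theorem L474791 : N21510 = N19890 := eqc rfl L474790 rfl
theorem L474795 : sm ga N19890 = N14804 := trfs L474791 L182793 rfl
theorem L474796 : N14804 = N28915 := eqes L474795 (flp_a L245022)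
theorem L474797 : N28915 = N14804 := (eqc rfl L474796 rfl).symm
theorem L474801 : sm gc N19890 = N15163 := trfs L474791 L182795 rfl
theorem L474802 : N15163 = N13694 := eqes L474801 L168979
theorem L474803 : N15163 = N13694 := eqc rfl L474802 rfl
theorem L474804 : sm gd N19890 = N31345 := trfs L474791 (flp_d L265697) rfl
theorem L474805 : N31345 = N28934 := eqes L474804 L245207
theorem L474806 : N31345 = N28934 := eqc rfl L474805 rfl
theorem L474807 : sm ge N19890 = N14776 := trfs L474791 L182800 rfl
theorem L474808 : N14776 = N13690 := eqes L474807 L168981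
theorem L474809 : N14776 = N13690 := eqc rfl L474808 rfl
theorem L474810 : sm gg N19890 = N31353 := trfs L474791 L265764 rfl
theorem L474811 : N31353 = N28933 := eqes L474810 (flp_g L245205)
theorem L474812 : N31353 = N28933 := eqc rfl L474811 rfl
theorem L474815 : sm gi N19890 = N31354 := trfs L474791 L265774 rfl
theorem L474816 : N31354 = N28935 := eqes L474815 L245214
theorem L474817 : N31354 = N28935 := eqc rfl L474816 rfl
theorem L474818 : sm ga N28935 = N21557 := trfs L474817 L265776 rfl
theorem L474819 : N21557 = N42124 := eqes L474818 (flp_a L356074)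
theorem L474820 : N42124 = N21557 := (eqc rfl L474819 rfl).symm
theorem L474824 : sm gc N28935 = N22077 := trfs L474817 L265778 rfl
theorem L474825 : N22077 = N19901 := eqes L474824 L245218
theorem L474826 : N22077 = N19901 := eqc rfl L474825 rfl
theorem L474827 : sm gd N28935 = N45744 := trfs L474817 (flp_d L386755) rfl
theorem L474828 : N45744 = N42153 := eqes L474827 (flp_d L356354)
theorem L474829 : N45744 = N42153 := eqc rfl L474828 rfl
theorem L474830 : sm ge N28935 = N21514 := trfs L474817 L265780 rfl
theorem L474831 : N21514 = N19894 := eqes L474830 L245220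
theorem L474832 : N21514 = N19894 := eqc rfl L474831 rfl
theorem L474834 : sm gg N28935 = N45753 := trfs L474817 (flp_g L386848) rfl
theorem L474835 : N45753 = N42150 := eqes L474834 (flp_g L356332)
theorem L474836 : N45753 = N42150 := eqc rfl L474835 rfl
theorem L474839 : sm ga N42150 = N31422 := trfs L474836 L386842 rfl
theorem L474841 : sm gc N42150 = N32173 := trfs L474836 L386844 rfl
theorem L474842 : N32173 = N28948 := eqes L474841 L356328
theorem L474843 : N32173 = N28948 := eqc rfl L474842 rfl
theorem L474844 : sm ge N42150 = N31357 := trfs L474836 L386846 rfl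
theorem L474845 : N31357 = N28938 := eqes L474844 L356330
theorem L474846 : N31357 = N28938 := eqc rfl L474845 rfl
theorem L474848 : sm ga N28938 = N21560 := trfs L474846 L265807 rfl
theorem L474849 : N21560 = N42127 := eqes L474848 (flp_a L356104)
theorem L474850 : N42127 = N21560 := (eqc rfl L474849 rfl).symm
theorem L474854 : sm gc N28938 = N22080 := trfs L474846 L265809 rfl
theorem L474855 : N22080 = N19903 := eqes L474854 L245248
theorem L474856 : N22080 = N19903 := eqc rfl L474855 rfl
theorem L474857 : sm gd N28938 = N43009 := trfs L474846 (flp_d L363705) rfl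
theorem L474858 : N43009 = N42157 := eqes L474857 (flp_d L356392)
theorem L474859 : N43009 = N42157 := eqc rfl L474858 rfl
theorem L474860 : sm gf N28938 = N45355 := trfs L474846 (flp_f L383670) rfl
theorem L474861 : N45355 = N42002 := eqes L474860 (flp_f L355024)
theorem L474862 : N45355 = N42002 := eqc rfl L474861 rfl
theorem L474864 : sm gj N28938 = N45756 := trfs L474846 (flp_j L386877) rfl
theorem L474865 : N45756 = N42155 := eqes L474864 (flp_j L356375)
theorem L474866 : N45756 = N42155 := eqc rfl L474865 rfl
theorem L474870 : sm gi N28938 = N21513 := trfs L474846 (flp_i L265805) rfl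
theorem L474871 : N21513 = N19892 := eqes L474870 (flp_i L245244)
theorem L474872 : N21513 = N19892 := eqc rfl L474871 rfl
theorem L474873 : sm ga N19892 = N14807 := trfs L474872 L182824 rfl
theorem L474874 : N14807 = N28917 := eqes L474873 (flp_a L245043)
theorem L474875 : N28917 = N14807 := (eqc rfl L474874 rfl).symm
theorem L474879 : sm gc N19892 = N15166 := trfs L474872 L182826 rfl
theorem L474880 : N15166 = N13696 := eqes L474879 L169000
theorem L474881 : N15166 = N13696 := eqc rfl L474880 rfl
theorem L474882 : sm gd N19892 = N29507 := trfs L474872 (flp_d L250152) rfl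
theorem L474883 : N29507 = N28937 := eqes L474882 L245236
theorem L474884 : N29507 = N28937 := eqc rfl L474883 rfl
theorem L474886 : sm gf N19892 = N31087 := trfs L474872 (flp_f L263655) rfl
theorem L474887 : N31087 = N28833 := eqes L474886 (flp_f L244314)
theorem L474888 : N31087 = N28833 := eqc rfl L474887 rfl
theorem L474890 : sm gj N19892 = N31356 := trfs L474872 L265796 rfl
theorem L474891 : N31356 = N28936 := eqes L474890 (flp_j L245234)
theorem L474892 : N31356 = N28936 := eqc rfl L474891 rfl
theorem L474893 : sm gh N19892 = N16331 := trfs L474872 L182828 rfl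
theorem L474894 : N16331 = N13689 := eqes L474893 (flp_h L168996)
theorem L474895 : N16331 = N13689 := eqc rfl L474894 rfl
theorem L474896 : sm ga N13689 = N11251 := trfs L474895 L139310 rfl
theorem L474897 : N11251 = N19879 := eqes L474896 (flp_a L168871)
theorem L474898 : N19879 = N11251 := (eqc rfl L474897 rfl).symm
theorem L474902 : sm gc N13689 = N11465 := trfs L474895 L139312 rfl
theorem L474903 : N11465 = N9442 := eqes L474902 L116610
theorem L474904 : N11465 = N9442 := eqc rfl L474903 rfl
theorem L474906 : sm ge N13689 = N23786 := trfs L474895 (flp_e L202281) rfl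
theorem L474907 : N23786 = N19889 := eqes L474906 (flp_e L168971)
theorem L474908 : N23786 = N19889 := eqc rfl L474907 rfl
theorem L474909 : sm gf N13689 = N23537 := trfs L474895 (flp_f L200256) rfl
theorem L474910 : N23537 = N19824 := eqes L474909 (flp_f L168399)
theorem L474911 : N23537 = N19824 := eqc rfl L474910 rfl
theorem L474912 : sm gg N13689 = N11224 := trfs L474895 (flp_g L139308) rfl
theorem L474913 : N11224 = N9439 := eqes L474912 (flp_g L116606)
theorem L474914 : N11224 = N9439 := eqc rfl L474913 rfl
theorem L474915 : sm gj N13689 = N23789 := trfs L474895 L202303 rfl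
theorem L474916 : N23789 = N19891 := eqes L474915 L168986
theorem L474917 : N23789 = N19891 := eqc rfl L474916 rfl
theorem L474918 : sm gi N13689 = N23790 := trfs L474895 L202311 rfl
theorem L474919 : N23790 = N9460 := eqes L474918 L116613
theorem L474920 : N23790 = N9460 := eqc rfl L474919 rfl
theorem L474943 : sm gh N9460 = N34683 := trfs L474920 L294077 rfl
theorem L474944 : N34683 = N13721 := eqes L474943 L116891
theorem L474945 : N34683 = N13721 := eqc rfl L474944 rfl
theorem L474952 : sm gg N13721 = N23791 := trfs L474945 L294083 rfl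
theorem L474953 : N23791 = N9461 := eqes L474952 L116897
theorem L474954 : N23791 = N9461 := eqc rfl L474953 rfl
theorem L474971 : sm gi N9461 = N31358 := trfs L474954 (flp_i L265822) rfl
theorem L474972 : N31358 = N13723 := eqes L474971 L116907
theorem L474973 : N31358 = N13723 := eqc rfl L474972 rfl
theorem L474974 : sm ga N13723 = N21561 := trfs L474973 L265815 rfl
theorem L474975 : N21561 = N19923 := eqes L474974 (flp_a L169282)
theorem L474976 : N21561 = N19923 := eqc rfl L474975 rfl
theorem L474987 : sm gf N13723 = N21515 := trfs L474973 L265819 rfl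
theorem L474988 : N21515 = N9463 := eqes L474987 L116913
theorem L474989 : N21515 = N9463 := eqc rfl L474988 rfl
theorem L474993 : sm ga N9463 = N14809 := trfs L474989 L182841 rfl
theorem L474994 : N14809 = N13711 := eqes L474993 (flp_a L116807)
theorem L474995 : N14809 = N13711 := eqc rfl L474994 rfl
theorem L475009 : sm gh N9463 = N14777 := trfs L474989 (flp_h L182839) rfl
theorem L475010 : N14777 = N13692 := eqes L475009 (flp_h L116640)
theorem L475011 : N14777 = N13692 := eqc rfl L475010 rfl
theorem L475013 : sm ga N13692 = N10186 := trfs L475011 L125893 rfl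
theorem L475014 : N10186 = N19882 := eqes L475013 (flp_a L168896)
theorem L475015 : N19882 = N10186 := (eqc rfl L475014 rfl).symm
theorem L475019 : sm gc N13692 = N10433 := trfs L475011 L125895 rfl
theorem L475020 : N10433 = N9444 := eqes L475019 L116635
theorem L475021 : N10433 = N9444 := eqc rfl L475020 rfl
theorem L475022 : sm gd N13692 = N20274 := trfs L475011 (flp_d L172296) rfl
theorem L475023 : N20274 = N19896 := eqes L475022 (flp_d L169038)
theorem L475024 : N20274 = N19896 := eqc rfl L475023 rfl
theorem L475025 : sm ge N13692 = N10165 := trfs L475011 L125897 rfl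
theorem L475026 : N10165 = N9965 := eqes L475025 L116637
theorem L475027 : N10165 = N9965 := eqc rfl L475026 rfl
theorem L475029 : sm gg N13692 = N21335 := trfs L475011 (flp_g L181393) rfl
theorem L475030 : N21335 = N19827 := eqes L475029 (flp_g L168425)
theorem L475031 : N21335 = N19827 := eqc rfl L475030 rfl
theorem L475033 : sm gi N13692 = N10164 := trfs L475011 (flp_i L125891) rfl
theorem L475034 : N10164 = N9440 := eqes L475033 (flp_i L116631)
theorem L475035 : N10164 = N9440 := eqc rfl L475034 rfl
theorem L475036 : sm ga N9440 = N7017 := trfs L475035 L86856 rfl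
theorem L475037 : N7017 = N13682 := eqes L475036 (flp_a L116537)
theorem L475038 : N13682 = N7017 := (eqc rfl L475037 rfl).symm
theorem L475042 : sm gc N9440 = N7187 := trfs L475035 L86858 rfl
theorem L475043 : N7187 = N6522 := eqes L475042 L80673
theorem L475044 : N7187 = N6522 := eqc rfl L475043 rfl
theorem L475045 : sm gd N9440 = N13943 := trfs L475035 (flp_d L118801) rfl
theorem L475046 : N13943 = N13691 := eqes L475045 L116624
theorem L475047 : N13943 = N13691 := eqc rfl L475046 rfl
theorem L475048 : sm ge N9440 = N7003 := trfs L475035 (flp_e L86854) rfl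
theorem L475049 : N7003 = N6869 := eqes L475048 L80675
theorem L475050 : N7003 = N6869 := eqc rfl L475049 rfl
theorem L475052 : sm gg N9440 = N14656 := trfs L475035 (flp_g L124924) rfl
theorem L475053 : N14656 = N13644 := eqes L475052 (flp_g L116215)
theorem L475054 : N14656 = N13644 := eqc rfl L475053 rfl
theorem L475056 : sm gh N9440 = N7725 := trfs L475035 L86861 rfl
theorem L475057 : N7725 = N6520 := eqes L475056 (flp_h L80669)
theorem L475058 : N7725 = N6520 := eqc rfl L475057 rfl
theorem L475059 : sm ga N6520 = N5339 := trfs L475058 L66346 rfl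
theorem L475060 : N5339 = N9435 := eqes L475059 (flp_a L80622)
theorem L475061 : N9435 = N5339 := (eqc rfl L475060 rfl).symm
theorem L475069 : sm gg N6520 = N11105 := trfs L475058 (flp_g L95056) rfl
theorem L475070 : N11105 = N9410 := eqes L475069 (flp_g L80410)
theorem L475071 : N11105 = N9410 := eqc rfl L475070 rfl
theorem L475073 : sm gi N6520 = N11225 := trfs L475058 L96053 rfl
theorem L475074 : N11225 = N4523 := eqes L475073 L55924
theorem L475075 : N11225 = N4523 := eqc rfl L475074 rfl
theorem L475083 : sm gg N4523 = N16158 := trfs L475075 (flp_g L137884) rfl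
theorem L475084 : N16158 = N6509 := eqes L475083 (flp_g L55833)
theorem L475085 : N16158 = N6509 := eqc rfl L475084 rfl
theorem L475088 : sm ga N6509 = N11127 := trfs L475085 L137877 rfl
theorem L475089 : N11127 = N9419 := eqes L475088 (flp_a L80496)
theorem L475090 : N11127 = N9419 := eqc rfl L475089 rfl
theorem L475102 : sm gh N6509 = N23539 := trfs L475085 L200267 rfl
theorem L475103 : N23539 = N9424 := eqes L475102 L80534
theorem L475104 : N23539 = N9424 := eqc rfl L475103 rfl
theorem L475118 : sm gj N9424 = N34056 := trfs L475104 (flp_j L288986) rfl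
theorem L475119 : N34056 = N13628 := eqes L475118 (flp_j L116070)
theorem L475120 : N34056 = N13628 := eqc rfl L475119 rfl
theorem L475129 : sm gi N13628 = N45087 := trfs L475120 (flp_i L381519) rfl
theorem L475130 : N45087 = N19802 := eqes L475129 L168185
theorem L475131 : N45087 = N19802 := eqc rfl L475130 rfl
theorem L475132 : sm ga N19802 = N30941 := trfs L475131 L381510 rfl
theorem L475133 : N30941 = N28787 := eqes L475132 (flp_a L243881)
theorem L475134 : N30941 = N28787 := eqc rfl L475133 rfl
theorem L475143 : sm gh N19802 = N30909 := trfs L475131 (flp_h L381508) rfl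
theorem L475144 : N30909 = N28768 := eqes L475143 (flp_h L243698)
theorem L475145 : N30909 = N28768 := eqc rfl L475144 rfl
theorem L475146 : sm ga N28768 = N21236 := trfs L475145 L262188 rfl
theorem L475147 : N21236 = N41887 := eqes L475146 (flp_a L353910)
theorem L475148 : N41887 = N21236 := (eqc rfl L475147 rfl).symm
theorem L475152 : sm gc N28768 = N21852 := trfs L475145 L262190 rfl
theorem L475153 : N21852 = N19783 := eqes L475152 L243691
theorem L475154 : N21852 = N19783 := eqc rfl L475153 rfl
theorem L475155 : sm gd N28768 = N42425 := trfs L475145 (flp_d L358799) rfl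
theorem L475156 : N42425 = N41901 := eqes L475155 (flp_d L354066)
theorem L475157 : N42425 = N41901 := eqc rfl L475156 rfl
theorem L475158 : sm ge N28768 = N21215 := trfs L475145 L262192 rfl
theorem L475159 : N21215 = N20829 := eqes L475158 L243693
theorem L475160 : N21215 = N20829 := eqc rfl L475159 rfl
theorem L475161 : sm gf N28768 = N45086 := trfs L475145 (flp_f L381504) rfl
theorem L475162 : N45086 = N41899 := eqes L475161 (flp_f L354044)
theorem L475163 : N45086 = N41899 := eqc rfl L475162 rfl
theorem L475166 : sm gi N28768 = N21214 := trfs L475145 (flp_i L262186) rfl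
theorem L475167 : N21214 = N19779 := eqes L475166 (flp_i L243687)
theorem L475168 : N21214 = N19779 := eqc rfl L475167 rfl
theorem L475169 : sm ga N19779 = N14591 := trfs L475168 L180385 rfl
theorem L475170 : N14591 = N28758 := eqes L475169 (flp_a L243581)
theorem L475171 : N28758 = N14591 := (eqc rfl L475170 rfl).symm
theorem L475175 : sm gc N19779 = N15011 := trfs L475168 L180387 rfl
theorem L475176 : N15011 = N13616 := eqes L475175 L167962
theorem L475177 : N15011 = N13616 := eqc rfl L475176 rfl
theorem L475178 : sm gd N19779 = N29117 := trfs L475168 (flp_d L246862) rfl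
theorem L475179 : N29117 = N28767 := eqes L475178 L243678
theorem L475180 : N29117 = N28767 := eqc rfl L475179 rfl
theorem L475181 : sm ge N19779 = N14577 := trfs L475168 (flp_e L180383) rfl
theorem L475182 : N14577 = N14318 := eqes L475181 L167964
theorem L475183 : N14577 = N14318 := eqc rfl L475182 rfl
theorem L475184 : sm gf N19779 = N30908 := trfs L475168 L262176 rfl
theorem L475185 : N30908 = N28766 := eqes L475184 (flp_f L243674)
theorem L475186 : N30908 = N28766 := eqc rfl L475185 rfl
theorem L475189 : sm gh N19779 = N16037 := trfs L475168 L180392 rfl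
theorem L475190 : N16037 = N13614 := eqes L475189 (flp_h L167958)
theorem L475191 : N16037 = N13614 := eqc rfl L475190 rfl
theorem L475192 : sm ga N13614 = N11040 := trfs L475191 L136839 rfl
theorem L475193 : N11040 = N19774 := eqes L475192 (flp_a L167905)
theorem L475194 : N19774 = N11040 := (eqc rfl L475193 rfl).symm
theorem L475198 : sm gc N13614 = N11340 := trfs L475191 L136841 rfl
theorem L475199 : N11340 = N9391 := eqes L475198 (flp_c L115920)
theorem L475200 : N11340 = N9391 := eqc rfl L475199 rfl
theorem L475205 : sm gf N13614 = N23358 := trfs L475191 L198747 rfl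
theorem L475206 : N23358 = N19778 := eqes L475205 L167947
theorem L475207 : N23358 = N19778 := eqc rfl L475206 rfl
theorem L475211 : sm ga N19778 = N16058 := trfs L475207 L198749 rfl
theorem L475212 : N16058 = N28757 := eqes L475211 (flp_a L243570)
theorem L475213 : N28757 = N16058 := (eqc rfl L475212 rfl).symm
theorem L475217 : sm gc N19778 = N16483 := trfs L475207 L198751 rfl
theorem L475218 : N16483 = N13615 := eqes L475217 L167951
theorem L475219 : N16483 = N13615 := eqc rfl L475218 rfl
theorem L475224 : sm gg N19778 = N34054 := trfs L475207 L288958 rfl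
theorem L475225 : N34054 = N28765 := eqes L475224 L243658
theorem L475226 : N34054 = N28765 := eqc rfl L475225 rfl
theorem L475227 : sm gj N19778 = N16157 := trfs L475207 L198754 rfl
theorem L475228 : N16157 = N13643 := eqes L475227 L167954
theorem L475229 : N16157 = N13643 := eqc rfl L475228 rfl
theorem L475231 : sm gi N19778 = N34055 := trfs L475207 L288966 rfl
theorem L475232 : N34055 = N13627 := eqes L475231 L167956
theorem L475233 : N34055 = N13627 := eqc rfl L475232 rfl
theorem L475237 : sm gc N13627 = N23996 := trfs L475233 L288970 rfl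
theorem L475238 : N23996 = N9400 := eqes L475237 L116056
theorem L475239 : N23996 = N9400 := eqc rfl L475238 rfl
theorem L475243 : sm ga N9400 = N16515 := trfs L475239 L204035 rfl
theorem L475244 : N16515 = N13624 := eqes L475243 (flp_a L116028)
theorem L475245 : N16515 = N13624 := eqc rfl L475244 rfl
theorem L475262 : sm gh N9400 = N34964 := trfs L475239 L296409 rfl
theorem L475263 : N34964 = N13631 := eqes L475262 L116087
theorem L475264 : N34964 = N13631 := eqc rfl L475263 rfl
theorem L475270 : sm gj N13631 = N24129 := trfs L475264 L296415 rfl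
theorem L475271 : N24129 = N9427 := eqes L475270 L116093
theorem L475272 : N24129 = N9427 := eqc rfl L475271 rfl
theorem L475289 : sm gi N9427 = N31989 := trfs L475272 (flp_i L271049) rfl
theorem L475290 : N31989 = N13672 := eqes L475289 L116451
theorem L475291 : N31989 = N13672 := eqc rfl L475290 rfl
theorem L475292 : sm ga N13672 = N21996 := trfs L475291 L271045 rfl
theorem L475293 : N21996 = N19851 := eqes L475292 (flp_a L168638)
theorem L475294 : N21996 = N19851 := eqc rfl L475293 rfl
theorem L475299 : sm gh N13672 = N21950 := trfs L475291 (flp_h L271043) rfl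
theorem L475300 : N21950 = N19832 := eqes L475299 (flp_h L168471)
theorem L475301 : N21950 = N19832 := eqc rfl L475300 rfl
theorem L475302 : sm ga N19832 = N15108 := trfs L475301 L186465 rfl
theorem L475303 : N15108 = N28828 := eqes L475302 (flp_a L244260)
theorem L475304 : N28828 = N15108 := (eqc rfl L475303 rfl).symm
theorem L475308 : sm gc N19832 = N31088 := trfs L475301 (flp_c L263661) rfl
theorem L475309 : N31088 = N28835 := eqes L475308 (flp_c L244330)
theorem L475310 : N31088 = N28835 := eqc rfl L475309 rfl
theorem L475314 : sm gg N19832 = N31988 := trfs L475301 (flp_g L271041) rfl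
theorem L475315 : N31988 = N28844 := eqes L475314 (flp_g L244414)
theorem L475316 : N31988 = N28844 := eqc rfl L475315 rfl
theorem L475317 : sm gj N19832 = N31842 := trfs L475301 (flp_j L269786) rfl
theorem L475318 : N31842 = N28773 := eqes L475317 (flp_j L243744)
theorem L475319 : N31842 = N28773 := eqc rfl L475318 rfl
theorem L475320 : sm gi N19832 = N15076 := trfs L475301 (flp_i L186463) rfl
theorem L475321 : N15076 = N13647 := eqes L475320 (flp_i L168464)
theorem L475322 : N15076 = N13647 := eqc rfl L475321 rfl
theorem L475323 : sm ga N13647 = N10391 := trfs L475322 L128402 rfl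
theorem L475324 : N10391 = N19820 := eqes L475323 (flp_a L168351)
theorem L475325 : N19820 = N10391 := (eqc rfl L475324 rfl).symm
theorem L475329 : sm gc N13647 = N21334 := trfs L475322 (flp_c L181381) rfl
theorem L475330 : N21334 = N19825 := eqes L475329 (flp_c L168405)
theorem L475331 : N21334 = N19825 := eqc rfl L475330 rfl
theorem L475333 : sm ge N13647 = N21946 := trfs L475322 (flp_e L186437) rfl
theorem L475334 : N21946 = N19829 := eqes L475333 (flp_e L168441)
theorem L475335 : N21946 = N19829 := eqc rfl L475334 rfl
theorem L475337 : sm gg N13647 = N21949 := trfs L475322 L186454 rfl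
theorem L475338 : N21949 = N19831 := eqes L475337 (flp_g L168461)
theorem L475339 : N21949 = N19831 := eqc rfl L475338 rfl
theorem L475340 : sm gj N13647 = N21851 := trfs L475322 (flp_j L185599) rfl
theorem L475341 : N21851 = N19782 := eqes L475340 (flp_j L167994)
theorem L475342 : N21851 = N19782 := eqc rfl L475341 rfl
theorem L475343 : sm gh N13647 = N11403 := trfs L475322 L128405 rfl
theorem L475344 : N11403 = N9411 := eqes L475343 (flp_h L116235)
theorem L475345 : N11403 = N9411 := eqc rfl L475344 rfl
theorem L475346 : sm ga N9411 = N7875 := trfs L475345 L97612 rfl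
theorem L475347 : N7875 = N13640 := eqes L475346 (flp_a L116170)
theorem L475348 : N13640 = N7875 := (eqc rfl L475347 rfl).symm
theorem L475353 : sm gd N9411 = N7972 := trfs L475345 L97614 rfl
theorem L475354 : N7972 = N6502 := eqes L475353 L80421
theorem L475355 : N7972 = N6502 := eqc rfl L475354 rfl
theorem L475356 : sm ge N9411 = N16572 := trfs L475345 (flp_e L141373) rfl
theorem L475357 : N16572 = N13645 := eqes L475356 L116217
theorem L475358 : N16572 = N13645 := eqc rfl L475357 rfl
theorem L475360 : sm gg N9411 = N16575 := trfs L475345 L141388 rfl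
theorem L475361 : N16575 = N13646 := eqes L475360 L116225
theorem L475362 : N16575 = N13646 := eqc rfl L475361 rfl
theorem L475365 : sm ga N13646 = N11429 := trfs L475362 L141390 rfl
theorem L475366 : N11429 = N19819 := eqes L475365 (flp_a L168340)
theorem L475367 : N19819 = N11429 := (eqc rfl L475366 rfl).symm
theorem L475372 : sm gd N13646 = N11561 := trfs L475362 L141392 rfl
theorem L475373 : N11561 = N9413 := eqes L475372 L116229
theorem L475374 : N11561 = N9413 := eqc rfl L475373 rfl
theorem L475375 : sm ge N13646 = N24124 := trfs L475362 (flp_e L205144) rfl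
theorem L475376 : N24124 = N19828 := eqes L475375 (flp_e L168433)
theorem L475377 : N24124 = N19828 := eqc rfl L475376 rfl
theorem L475379 : sm gj N13646 = N24127 := trfs L475362 L205160 rfl
theorem L475380 : N24127 = N19830 := eqes L475379 L168445
theorem L475381 : N24127 = N19830 := eqc rfl L475380 rfl
theorem L475383 : sm gi N13646 = N24128 := trfs L475362 L205168 rfl
theorem L475384 : N24128 = N9426 := eqes L475383 L116231
theorem L475385 : N24128 = N9426 := eqc rfl L475384 rfl
theorem L475401 : sm gj N9426 = N35156 := trfs L475385 (flp_j L298056) rfl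
theorem L475402 : N35156 = N13670 := eqes L475401 L116435
theorem L475403 : N35156 = N13670 := eqc rfl L475402 rfl
theorem L475405 : sm ga N13670 = N24178 := trfs L475403 L298050 rfl
theorem L475406 : N24178 = N19849 := eqes L475405 (flp_a L168620)
theorem L475407 : N24178 = N19849 := eqc rfl L475406 rfl
theorem L475411 : sm gf N13670 = N24236 := trfs L475403 L298054 rfl
theorem L475412 : N24236 = N9466 := eqes L475411 L116441
theorem L475413 : N24236 = N9466 := eqc rfl L475412 rfl
theorem L475415 : sm ga N9466 = N16670 := trfs L475413 L206015 rfl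
theorem L475416 : N16670 = N13714 := eqes L475415 (flp_a L116834)
theorem L475417 : N16670 = N13714 := eqc rfl L475416 rfl
theorem L475433 : sm gi N9466 = N16656 := trfs L475413 (flp_i L206013) rfl
theorem L475434 : N16656 = N13695 := eqes L475433 (flp_i L116666)
theorem L475435 : N16656 = N13695 := eqc rfl L475434 rfl
theorem L475436 : sm ga N13695 = N11476 := trfs L475435 L142021 rfl
theorem L475437 : N11476 = N19885 := eqes L475436 (flp_a L168927)
theorem L475438 : N19885 = N11476 := (eqc rfl L475437 rfl).symm
theorem L475443 : sm gd N13695 = N11596 := trfs L475435 L142023 rfl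
theorem L475444 : N11596 = N9445 := eqes L475443 L116664
theorem L475445 : N11596 = N9445 := eqc rfl L475444 rfl
theorem L475446 : sm ge N13695 = N24232 := trfs L475435 (flp_e L205985) rfl
theorem L475447 : N24232 = N19898 := eqes L475446 (flp_e L169055)
theorem L475448 : N24232 = N19898 := eqc rfl L475447 rfl
theorem L475452 : sm gh N13695 = N22079 := trfs L475435 (flp_h L187516) rfl
theorem L475453 : N22079 = N19902 := eqes L475452 L169088
theorem L475454 : N22079 = N19902 := eqc rfl L475453 rfl
theorem L475455 : sm ga N19902 = N15203 := trfs L475454 L187513 rfl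
theorem L475456 : N15203 = N28927 := eqes L475455 (flp_a L245140)
theorem L475457 : N28927 = N15203 := (eqc rfl L475456 rfl).symm
theorem L475463 : sm ge N19902 = N32172 := trfs L475454 (flp_e L272537) rfl
theorem L475464 : N32172 = N28946 := eqes L475463 (flp_e L245320)
theorem L475465 : N32172 = N28946 := eqc rfl L475464 rfl
theorem L475466 : sm gf N19902 = N31987 := trfs L475454 (flp_f L271030) rfl
theorem L475467 : N31987 = N28843 := eqes L475466 (flp_f L244402)
theorem L475468 : N31987 = N28843 := eqc rfl L475467 rfl
theorem L475471 : sm gi N19902 = N32176 := trfs L475454 L272569 rfl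
theorem L475472 : N32176 = N28951 := eqes L475471 L245360
theorem L475473 : N32176 = N28951 := eqc rfl L475472 rfl
theorem L475474 : sm ga N28951 = N22131 := trfs L475473 L272571 rfl
theorem L475475 : N22131 = N42140 := eqes L475474 (flp_a L356228)
theorem L475476 : N42140 = N22131 := (eqc rfl L475475 rfl).symm
theorem L475481 : sm ga N22131 = N28951 := trfs L475476 L356228 rfl
theorem L475486 : sm gj N22131 = N28928 := trfs L475476 L356233 rfl
theorem L475487 : N28928 = N15204 := eqes L475486 L187939
theorem L475488 : N28928 = N15204 := eqc rfl L475487 rfl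
theorem L475489 : sm gh N22131 = N28995 := trfs L475476 L356235 rfl
theorem L475490 : N28995 = N32249 := eqes L475489 L273172
theorem L475491 : N32249 = N28995 := (eqc rfl L475490 rfl).symm
theorem L475494 : sm gc N28995 = N45857 := trfs L475491 (flp_c L387639) rfl
theorem L475495 : N45857 = N42222 := eqes L475494 (flp_c L356989)
theorem L475496 : N45857 = N42222 := eqc rfl L475495 rfl
theorem L475501 : sm gh N28995 = N22131 := trfs L475491 (flp_h L273172) rfl
theorem L475503 : sm gi N28995 = N24251 := trfs L475491 L273178 rfl
theorem L475504 : N24251 = N19931 := eqes L475503 (flp_i L245757)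
theorem L475505 : N24251 = N19931 := eqc rfl L475504 rfl
theorem L475521 : sm gj N19931 = N16671 := trfs L475505 L206124 rfl
theorem L475522 : N16671 = N13715 := eqes L475521 L169355
theorem L475523 : N16671 = N13715 := eqc rfl L475522 rfl
theorem L475540 : sm gh N13715 = N11477 := trfs L475523 (flp_h L142127) rfl
theorem L475541 : N11477 = N9455 := eqes L475540 (flp_h L116840)
theorem L475542 : N11477 = N9455 := eqc rfl L475541 rfl
theorem L475547 : sm gd N9455 = N8003 := trfs L475542 L98193 rfl
theorem L475548 : N8003 = N6532 := eqes L475547 L80813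
theorem L475549 : N8003 = N6532 := eqc rfl L475548 rfl
theorem L475550 : sm ge N9455 = N16667 := trfs L475542 (flp_e L142101) rfl
theorem L475551 : N16667 = N13712 := eqes L475550 (flp_e L116820)
theorem L475552 : N16667 = N13712 := eqc rfl L475551 rfl
theorem L475554 : sm gg N9455 = N7915 := trfs L475542 L98195 rfl
theorem L475555 : N7915 = N6530 := eqes L475554 (flp_g L80808)
theorem L475556 : N7915 = N6530 := eqc rfl L475555 rfl
theorem L475558 : sm gi N9455 = N7914 := trfs L475542 (flp_i L98190) rfl
theorem L475559 : N7914 = N13684 := eqes L475558 (flp_i L116562)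
theorem L475560 : N13684 = N7914 := (eqc rfl L475559 rfl).symm
theorem L475565 : sm gd N7914 = N9438 := trfs L475560 L116560 rfl
theorem L475566 : N9438 = N5531 := eqes L475565 L67982
theorem L475567 : N9438 = N5531 := eqc rfl L475566 rfl
theorem L475568 : sm ge N7914 = N19883 := trfs L475560 (flp_e L168911) rfl
theorem L475569 : N19883 = N11473 := eqes L475568 (flp_e L98167)
theorem L475570 : N19883 = N11473 := eqc rfl L475569 rfl
theorem L475572 : sm gg N7914 = N9436 := trfs L475560 (flp_g L116555) rfl
theorem L475573 : N9436 = N5467 := eqes L475572 (flp_g L67979)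
theorem L475574 : N9436 = N5467 := eqc rfl L475573 rfl
theorem L475576 : sm gh N7914 = N19886 := trfs L475560 L168935 rfl
theorem L475577 : N19886 = N10458 := eqes L475576 (flp_h L89324)
theorem L475578 : N19886 = N10458 := eqc rfl L475577 rfl
theorem L475579 : sm gi N7914 = N9455 := trfs L475560 L116562 rfl
theorem L475586 : sm ge N10458 = N28924 := trfs L475578 (flp_e L245112) rfl
theorem L475587 : N28924 = N15200 := eqes L475586 (flp_e L129426)
theorem L475588 : N28924 = N15200 := eqc rfl L475587 rfl
theorem L475592 : sm gg N10458 = N13685 := trfs L475578 L168940 rfl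
theorem L475593 : N13685 = N7206 := eqes L475592 (flp_g L89320)
theorem L475594 : N13685 = N7206 := eqc rfl L475593 rfl
theorem L475597 : sm ga N7206 = N9443 := trfs L475594 L116566 rfl
theorem L475598 : N9443 = N10432 := eqes L475597 (flp_a L89107)
theorem L475599 : N10432 = N9443 := (eqc rfl L475598 rfl).symm
theorem L475613 : sm gi N7206 = N19887 := trfs L475594 L168943 rfl
theorem L475614 : N19887 = N10459 := eqes L475613 L89326
theorem L475615 : N19887 = N10459 := eqc rfl L475614 rfl
theorem L475616 : sm ga N10459 = N13697 := trfs L475615 L168945 rfl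
theorem L475617 : N13697 = N15167 := eqes L475616 (flp_a L129152)
theorem L475618 : N15167 = N13697 := (eqc rfl L475617 rfl).symm
theorem L475624 : sm ge N10459 = N28926 := trfs L475615 (flp_e L245131) rfl
theorem L475625 : N28926 = N15201 := eqes L475624 (flp_e L129433)
theorem L475626 : N28926 = N15201 := eqc rfl L475625 rfl
theorem L475627 : sm gf N10459 = N13686 := trfs L475615 L168949 rfl
theorem L475628 : N13686 = N7207 := eqes L475627 L89330
theorem L475629 : N13686 = N7207 := eqc rfl L475628 rfl
theorem L475632 : sm gh N10459 = N13716 := trfs L475615 L168952 rfl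
theorem L475633 : N13716 = N15205 := eqes L475632 L129459
theorem L475634 : N15205 = N13716 := (eqc rfl L475633 rfl).symm
theorem L475644 : sm gf N13716 = N10460 := trfs L475634 L129462 rfl
theorem L475645 : N10460 = N9457 := eqes L475644 L116852
theorem L475646 : N10460 = N9457 := eqc rfl L475645 rfl
theorem L475649 : sm gh N13716 = N10459 := trfs L475634 (flp_h L129459) rfl
theorem L475658 : sm ge N9457 = N7208 := trfs L475646 L89336 rfl
theorem L475659 : N7208 = N6886 := eqes L475658 L80828
theorem L475660 : N7208 = N6886 := eqc rfl L475659 rfl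
theorem L475661 : sm gg N9457 = N15109 := trfs L475646 (flp_g L128671) rfl
theorem L475662 : N15109 = N13661 := eqes L475661 (flp_g L116369)
theorem L475663 : N15109 = N13661 := eqc rfl L475662 rfl
theorem L475667 : sm gi N9457 = N7916 := trfs L475646 L89339 rfl
theorem L475668 : N7916 = N6531 := eqes L475667 (flp_i L80823)
theorem L475669 : N7916 = N6531 := eqc rfl L475668 rfl
theorem L475688 : sm gh N6531 = N5468 := trfs L475669 (flp_h L67992) rfl
theorem L475689 : N5468 = N4521 := eqes L475688 (flp_h L56021)
theorem L475690 : N5468 = N4521 := eqc rfl L475689 rfl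
theorem L475694 : sm gd N4521 = N3831 := trfs L475690 L47172 rfl
theorem L475695 : N3831 = N3136 := eqes L475694 (flp_d L38933)
theorem L475696 : N3831 = N3136 := eqc rfl L475695 rfl
theorem L475699 : sm gg N4521 = N7876 := trfs L475690 (flp_g L67676) rfl
theorem L475700 : N7876 = N6507 := eqes L475699 (flp_g L55819)
theorem L475701 : N7876 = N6507 := eqc rfl L475700 rfl
theorem L475703 : sm gi N4521 = N3782 := trfs L475690 (flp_i L47169) rfl
theorem L475704 : N3782 = N6518 := eqes L475703 (flp_i L55904)
theorem L475705 : N6518 = N3782 := (eqc rfl L475704 rfl).symm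
theorem L475710 : sm gd N3782 = N4514 := trfs L475705 (flp_d L55898) rfl
theorem L475711 : N4514 = N2658 := eqes L475710 L32792
theorem L475712 : N4514 = N2658 := eqc rfl L475711 rfl
theorem L475715 : sm gg N3782 = N9408 := trfs L475705 (flp_g L80391) rfl
theorem L475716 : N9408 = N5436 := eqes L475715 (flp_g L46903)
theorem L475717 : N9408 = N5436 := eqc rfl L475716 rfl
theorem L475720 : sm gi N3782 = N4521 := trfs L475705 L55904 rfl
theorem L475728 : sm gd N5436 = N6500 := trfs L475717 (flp_d L80386) rfl
theorem L475729 : N6500 = N3820 := eqes L475728 L46905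
theorem L475730 : N6500 = N3820 := eqc rfl L475729 rfl
theorem L475733 : sm gj N5436 = N13612 := trfs L475717 (flp_j L115903) rfl
theorem L475734 : N13612 = N7827 := eqes L475733 (flp_j L67235)
theorem L475735 : N13612 = N7827 := eqc rfl L475734 rfl
theorem L475736 : sm gh N5436 = N13641 := trfs L475717 L116177 rfl
theorem L475737 : N13641 = N7159 := eqes L475736 (flp_h L61373)
theorem L475738 : N13641 = N7159 := eqc rfl L475737 rfl
theorem L475754 : sm gi N7159 = N19821 := trfs L475738 L168357 rfl
theorem L475755 : N19821 = N10392 := eqes L475754 L88771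
theorem L475756 : N19821 = N10392 := eqc rfl L475755 rfl
theorem L475760 : sm gc N10392 = N28823 := trfs L475756 (flp_c L244211) rfl
theorem L475761 : N28823 = N14678 := eqes L475760 (flp_c L125088)
theorem L475762 : N28823 = N14678 := eqc rfl L475761 rfl
theorem L475767 : sm gj N10392 = N28762 := trfs L475756 (flp_j L243630) rfl
theorem L475768 : N28762 = N15033 := eqes L475767 (flp_j L128029)
theorem L475769 : N28762 = N15033 := eqc rfl L475768 rfl
theorem L475777 : sm ge N15033 = N20823 := trfs L475769 L243627 rfl
theorem L475778 : N20823 = N10342 := eqes L475777 L128026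
theorem L475779 : N20823 = N10342 := eqc rfl L475778 rfl
theorem L475780 : sm gf N15033 = N41892 := trfs L475769 (flp_f L353968) rfl
theorem L475781 : N41892 = N21883 := eqes L475780 (flp_f L185884)
theorem L475782 : N41892 = N21883 := eqc rfl L475781 rfl
theorem L475784 : sm gh N15033 = N19796 := trfs L475769 L243632 rfl
theorem L475785 : N19796 = N21884 := eqes L475784 L185888
theorem L475786 : N21884 = N19796 := (eqc rfl L475785 rfl).symm
theorem L475802 : sm gh N19796 = N15033 := trfs L475786 (flp_h L185888) rfl
theorem L475804 : sm gi N19796 = N16516 := trfs L475786 L185896 rfl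
theorem L475805 : N16516 = N13625 := eqes L475804 (flp_i L168130)
theorem L475806 : N16516 = N13625 := eqc rfl L475805 rfl
theorem L475817 : sm gh N13625 = N11362 := trfs L475806 (flp_h L140867) rfl
theorem L475818 : N11362 = N9397 := eqes L475817 (flp_h L116035)
theorem L475819 : N11362 = N9397 := eqc rfl L475818 rfl
theorem L475825 : sm gd N9397 = N7946 := trfs L475819 L97239 rfl
theorem L475826 : N7946 = N6493 := eqes L475825 (flp_d L80291)
theorem L475827 : N7946 = N6493 := eqc rfl L475826 rfl
theorem L475839 : sm ge N6493 = N5489 := trfs L475827 L68279 rfl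
theorem L475840 : N5489 = N4497 := eqes L475839 (flp_e L55686)
theorem L475841 : N5489 = N4497 := eqc rfl L475840 rfl
theorem L475842 : sm gf N6493 = N11523 := trfs L475827 (flp_f L98610) rfl
theorem L475843 : N11523 = N9398 := eqes L475842 L80301
theorem L475844 : N11523 = N9398 := eqc rfl L475843 rfl
theorem L475852 : sm gi N6493 = N5488 := trfs L475827 (flp_i L68275) rfl
theorem L475853 : N5488 = N9390 := eqes L475852 (flp_i L80225)
theorem L475854 : N9390 = N5488 := (eqc rfl L475853 rfl).symm
theorem L475855 : sm ga N5488 = N6489 := trfs L475854 L80217 rfl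
theorem L475856 : N6489 = N7928 := eqes L475855 (flp_a L68112)
theorem L475857 : N7928 = N6489 := (eqc rfl L475856 rfl).symm
theorem L475861 : sm ge N5488 = N6488 := trfs L475854 (flp_e L80215) rfl
theorem L475862 : N6488 = N3797 := eqes L475861 (flp_e L47358)
theorem L475863 : N6488 = N3797 := eqc rfl L475862 rfl
theorem L475864 : sm gf N5488 = N13613 := trfs L475854 L115909 rfl
theorem L475865 : N13613 = N7945 := eqes L475864 L68268
theorem L475866 : N13613 = N7945 := eqc rfl L475865 rfl
theorem L475870 : sm gi N5488 = N6493 := trfs L475854 L80225 rfl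
theorem L475872 : sm ga N7945 = N9392 := trfs L475866 L115911 rfl
theorem L475873 : N9392 = N11499 := eqes L475872 (flp_a L98400)
theorem L475874 : N11499 = N9392 := (eqc rfl L475873 rfl).symm
theorem L475880 : sm ge N7945 = N19707 := trfs L475866 (flp_e L167341) rfl
theorem L475881 : N19707 = N11519 := eqes L475880 (flp_e L98580)
theorem L475882 : N19707 = N11519 := eqc rfl L475881 rfl
theorem L475883 : sm gg N7945 = N19777 := trfs L475866 L167937 rfl
theorem L475884 : N19777 = N11522 := eqes L475883 L98600
theorem L475885 : N19777 = N11522 := eqc rfl L475884 rfl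
theorem L475886 : sm gj N7945 = N9409 := trfs L475866 L115915 rfl
theorem L475887 : N9409 = N5517 := eqes L475886 L68272
theorem L475888 : N9409 = N5517 := eqc rfl L475887 rfl
theorem L475897 : sm ge N5517 = N13586 := trfs L475888 (flp_e L115694) rfl
theorem L475898 : N13586 = N7982 := eqes L475897 (flp_e L68578)
theorem L475899 : N13586 = N7982 := eqc rfl L475898 rfl
theorem L475901 : sm gg N5517 = N13642 := trfs L475888 L116187 rfl
theorem L475902 : N13642 = N7985 := eqes L475901 L68596
theorem L475903 : N13642 = N7985 := eqc rfl L475902 rfl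
theorem L475905 : sm gi N5517 = N6508 := trfs L475888 L80404 rfl
theorem L475906 : N6508 = N7986 := eqes L475905 L68603
theorem L475907 : N7986 = N6508 := (eqc rfl L475906 rfl).symm
theorem L475924 : sm gh N6508 = N11581 := trfs L475907 L99074 rfl
theorem L475925 : N11581 = N9326 := eqes L475924 (flp_h L79665)
theorem L475926 : N11581 = N9326 := eqc rfl L475925 rfl
theorem L475927 : sm gi N6508 = N5517 := trfs L475907 (flp_i L68603) rfl
theorem L475946 : sm gj N9326 = N16742 := trfs L475926 (flp_j L142761) rfl
theorem L475947 : N16742 = N13504 := eqes L475946 (flp_j L114956)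
theorem L475948 : N16742 = N13504 := eqc rfl L475947 rfl
theorem L475962 : sm gg N13504 = N24358 := trfs L475948 (flp_g L207061) rfl
theorem L475963 : N24358 = N19614 := eqes L475962 L166506
theorem L475964 : N24358 = N19614 := eqc rfl L475963 rfl
theorem L475982 : sm gh N19614 = N16741 := trfs L475964 (flp_h L207056) rfl
theorem L475983 : N16741 = N13626 := eqes L475982 L166512
theorem L475984 : N16741 = N13626 := eqc rfl L475983 rfl
theorem L475991 : sm gd N13626 = N24040 := trfs L475984 (flp_d L204418) rfl
theorem L475992 : N24040 = N19794 := eqes L475991 (flp_d L168118)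
theorem L475993 : N24040 = N19794 := eqc rfl L475992 rfl
theorem L475999 : sm gj N13626 = N24357 := trfs L475984 (flp_j L207054) rfl
theorem L476000 : N24357 = N19797 := eqes L475999 L168140
theorem L476001 : N24357 = N19797 := eqc rfl L476000 rfl
theorem L476012 : sm ge N19797 = N35474 := trfs L476001 (flp_e L300674) rfl
theorem L476013 : N35474 = N28677 := eqes L476012 (flp_e L242904)
theorem L476014 : N35474 = N28677 := eqc rfl L476013 rfl
theorem L476016 : sm gg N19797 = N16820 := trfs L476001 L207052 rfl
theorem L476017 : N16820 = N13662 := eqes L476016 L168147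
theorem L476018 : N16820 = N13662 := eqc rfl L476017 rfl
theorem L476020 : sm gi N19797 = N16740 := trfs L476001 (flp_i L207047) rfl
theorem L476021 : N16740 = N28763 := eqes L476020 (flp_i L243642)
theorem L476022 : N28763 = N16740 := (eqc rfl L476021 rfl).symm
theorem L476028 : sm gd N16740 = N41890 := trfs L476022 (flp_d L353946) rfl
theorem L476029 : N41890 = N24039 := eqes L476028 (flp_d L204410)
theorem L476030 : N41890 = N24039 := eqc rfl L476029 rfl
theorem L476031 : sm ge N16740 = N41736 := trfs L476022 (flp_e L352599) rfl
theorem L476032 : N41736 = N24353 := eqes L476031 (flp_e L207016)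
theorem L476033 : N41736 = N24353 := eqc rfl L476032 rfl
theorem L476035 : sm gg N16740 = N19822 := trfs L476022 L243644 rfl
theorem L476036 : N19822 = N11579 := eqes L476035 L142746
theorem L476037 : N19822 = N11579 := eqc rfl L476036 rfl
theorem L476042 : sm ga N11579 = N13649 := trfs L476037 L168371 rfl
theorem L476043 : N13649 = N16794 := eqes L476042 (flp_a L143193)
theorem L476044 : N16794 = N13649 := (eqc rfl L476043 rfl).symm
theorem L476050 : sm ge N11579 = N28702 := trfs L476037 (flp_e L243120) rfl
theorem L476051 : N28702 = N16816 := eqes L476050 (flp_e L143352)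
theorem L476052 : N28702 = N16816 := eqc rfl L476051 rfl
theorem L476053 : sm gf N11579 = N13687 := trfs L476037 L168375 rfl
theorem L476054 : N13687 = N8002 := eqes L476053 L99063
theorem L476055 : N13687 = N8002 := eqc rfl L476054 rfl
theorem L476069 : sm gi N8002 = N9458 := trfs L476055 L116592 rfl
theorem L476070 : N9458 = N11600 := eqes L476069 L99226
theorem L476071 : N11600 = N9458 := (eqc rfl L476070 rfl).symm
theorem L476080 : sm gh N9458 = N16845 := trfs L476071 L143587 rfl
theorem L476081 : N16845 = N13537 := eqes L476080 (flp_h L115253)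
theorem L476082 : N16845 = N13537 := eqc rfl L476081 rfl
theorem L476083 : sm gi N9458 = N8002 := trfs L476071 (flp_i L99226) rfl
theorem L476098 : sm gj N13537 = N11601 := trfs L476082 L143593 rfl
theorem L476099 : N11601 = N9339 := eqes L476098 (flp_j L115246)
theorem L476100 : N11601 = N9339 := eqc rfl L476099 rfl
theorem L476112 : sm gg N9339 = N8004 := trfs L476100 L99239 rfl
theorem L476113 : N8004 = N6453 := eqes L476112 (flp_g L79771)
theorem L476114 : N8004 = N6453 := eqc rfl L476113 rfl
theorem L476130 : sm gh N6453 = N5532 := trfs L476114 (flp_h L68745) rfl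
theorem L476131 : N5532 = N4522 := eqes L476130 L55329
theorem L476132 : N5532 = N4522 := eqc rfl L476131 rfl
theorem L476144 : sm gi N4522 = N3830 := trfs L476132 (flp_i L47722) rfl
theorem L476145 : N3830 = N6519 := eqes L476144 (flp_i L55916)
theorem L476146 : N6519 = N3830 := (eqc rfl L476145 rfl).symm
theorem L476147 : sm ga N3830 = N4516 := trfs L476146 L55910 rfl
theorem L476148 : N4516 = N5528 := eqes L476147 (flp_a L47693)
theorem L476149 : N5528 = N4516 := (eqc rfl L476148 rfl).symm
theorem L476158 : sm gi N3830 = N4522 := trfs L476146 L55916 rfl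
theorem L476160 : sm ga N4516 = N3830 := trfs L476149 L47693 rfl
theorem L476173 : sm gg N4516 = N7999 := trfs L476149 L68706 rfl
theorem L476174 : N7999 = N6523 := eqes L476173 L55946
theorem L476175 : N7999 = N6523 := eqc rfl L476174 rfl
theorem L476190 : sm gi N6523 = N11597 := trfs L476175 L99201 rfl
theorem L476191 : N11597 = N4526 := eqes L476190 L55953
theorem L476192 : N11597 = N4526 := eqc rfl L476191 rfl
theorem L476194 : sm gb N4526 = N16838 := trfs L476192 (flp_b L143530) rfl
theorem L476195 : N16838 = N3141 := eqes L476194 L38973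
theorem L476196 : N16838 = N3141 := eqc rfl L476195 rfl
theorem L476221 : sm gh N3141 = N24491 := trfs L476196 L208119 rfl
theorem L476222 : N24491 = N4476 := eqes L476221 (flp_h L38533)
theorem L476223 : N24491 = N4476 := eqc rfl L476222 rfl
theorem L476237 : sm gg N4476 = N16839 := trfs L476223 L208125 rfl
theorem L476238 : N16839 = N3106 := eqes L476237 (flp_g L38527)
theorem L476239 : N16839 = N3106 := eqc rfl L476238 rfl
theorem L476259 : sm gf N3106 = N11595 := trfs L476239 L143541 rfl
theorem L476260 : N11595 = N2162 := eqes L476259 (flp_f L26854)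
theorem L476261 : N11595 = N2162 := eqc rfl L476260 rfl
theorem L476282 : sm gh N2162 = N7997 := trfs L476261 (flp_h L99184) rfl
theorem L476283 : N7997 = N1523 := eqes L476282 L18779
theorem L476284 : N7997 = N1523 := eqc rfl L476283 rfl
theorem L476304 : sm gi N1523 = N5526 := trfs L476284 (flp_i L68689) rfl
theorem L476305 : N5526 = N2180 := eqes L476304 (flp_i L18945)
theorem L476306 : N5526 = N2180 := eqc rfl L476305 rfl
theorem L476319 : sm gg N2180 = N7965 := trfs L476306 (flp_g L68451) rfl
theorem L476320 : N7965 = N3124 := eqes L476319 (flp_g L27024)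
theorem L476321 : N7965 = N3124 := eqc rfl L476320 rfl
theorem L476340 : sm gj N3124 = N11487 := trfs L476321 (flp_j L98290) rfl
theorem L476341 : N11487 = N4495 := eqes L476340 (flp_j L38705)
theorem L476342 : N11487 = N4495 := eqc rfl L476341 rfl
theorem L476361 : sm gi N4495 = N16689 := trfs L476342 L142296 rfl
theorem L476362 : N16689 = N3121 := eqes L476361 L38708
theorem L476363 : N16689 = N3121 := eqc rfl L476362 rfl
theorem L476380 : sm gh N3121 = N24282 := trfs L476363 L206404 rfl
theorem L476381 : N24282 = N4464 := eqes L476380 (flp_h L38425)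
theorem L476382 : N24282 = N4464 := eqc rfl L476381 rfl
theorem L476396 : sm gf N4464 = N35367 := trfs L476382 (flp_f L299760) rfl
theorem L476397 : N35367 = N6443 := eqes L476396 L55232
theorem L476398 : N35367 = N6443 := eqc rfl L476397 rfl
theorem L476404 : sm gj N6443 = N24412 := trfs L476398 L299762 rfl
theorem L476405 : N24412 = N4469 := eqes L476404 L55237
theorem L476406 : N24412 = N4469 := eqc rfl L476405 rfl
theorem L476422 : sm gh N4469 = N16780 := trfs L476406 (flp_h L207518) rfl
theorem L476423 : N16780 = N3129 := eqes L476422 L38471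
theorem L476424 : N16780 = N3129 := eqc rfl L476423 rfl
theorem L476434 : sm ge N3129 = N24401 := trfs L476424 (flp_e L207425) rfl
theorem L476435 : N24401 = N4492 := eqes L476434 (flp_e L38678)
theorem L476436 : N24401 = N4492 := eqc rfl L476435 rfl
theorem L476461 : sm gi N4492 = N16772 := trfs L476436 (flp_i L207420) rfl
theorem L476462 : N16772 = N6479 := eqes L476461 (flp_i L55566)
theorem L476463 : N16772 = N6479 := eqc rfl L476462 rfl
theorem L476481 : sm gj N6479 = N24273 := trfs L476463 (flp_j L206324) rfl
theorem L476482 : N24273 = N9363 := eqes L476481 (flp_j L79994)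
theorem L476483 : N24273 = N9363 := eqc rfl L476482 rfl
theorem L476499 : sm gg N9363 = N35355 := trfs L476483 L299639 rfl
theorem L476500 : N35355 = N13572 := eqes L476499 L115562
theorem L476501 : N35355 = N13572 := eqc rfl L476500 rfl
theorem L476505 : sm gb N13572 = N24304 := trfs L476501 L299642 rfl
theorem L476506 : N24304 = N19711 := eqes L476505 (flp_b L167374)
theorem L476507 : N24304 = N19711 := eqc rfl L476506 rfl
theorem L476508 : sm ge N13572 = N24280 := trfs L476501 L299644 rfl
theorem L476509 : N24280 = N9395 := eqes L476508 L115567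
theorem L476510 : N24280 = N9395 := eqc rfl L476509 rfl
theorem L476524 : sm gj N9395 = N35365 := trfs L476510 L299738 rfl
theorem L476525 : N35365 = N13622 := eqes L476524 L116005
theorem L476526 : N35365 = N13622 := eqc rfl L476525 rfl
theorem L476538 : sm gg N13622 = N24410 := trfs L476526 L299745 rfl
theorem L476539 : N24410 = N9418 := eqes L476538 L116014
theorem L476540 : N24410 = N9418 := eqc rfl L476539 rfl
theorem L476556 : sm gj N9418 = N16779 := trfs L476540 (flp_j L207501) rfl
theorem L476557 : N16779 = N6505 := eqes L476556 (flp_j L80484)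
theorem L476558 : N16779 = N6505 := eqc rfl L476557 rfl
theorem L476569 : sm gc N6505 = N24406 := trfs L476558 (flp_c L207467) rfl
theorem L476570 : N24406 = N4506 := eqes L476569 L55796
theorem L476571 : N24406 = N4506 := eqc rfl L476570 rfl
theorem L476589 : sm gg N4506 = N16776 := trfs L476571 (flp_g L207463) rfl
theorem L476590 : N16776 = N3125 := eqes L476589 (flp_g L38802)
theorem L476591 : N16776 = N3125 := eqc rfl L476590 rfl
theorem L476610 : sm gj N3125 = N24277 := trfs L476591 (flp_j L206364) rfl
theorem L476611 : N24277 = N4496 := eqes L476610 (flp_j L38716)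
theorem L476612 : N24277 = N4496 := eqc rfl L476611 rfl
theorem L476618 : sm gd N4496 = N35358 := trfs L476612 (flp_d L299672) rfl
theorem L476619 : N35358 = N3147 := eqes L476618 L38714
theorem L476620 : N35358 = N3147 := eqc rfl L476619 rfl
theorem L476635 : sm gf N3147 = N24276 := trfs L476620 (flp_f L299668) rfl
theorem L476636 : N24276 = N2189 := eqes L476635 (flp_f L27219)
theorem L476637 : N24276 = N2189 := eqc rfl L476636 rfl
theorem L476655 : sm gi N2189 = N35360 := trfs L476637 L299686 rfl
theorem L476656 : N35360 = N1528 := eqes L476655 L19023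
theorem L476657 : N35360 = N1528 := eqc rfl L476656 rfl
theorem L476665 : sm gj N1528 = N24405 := trfs L476657 L299695 rfl
theorem L476666 : N24405 = N1072 := eqes L476665 L13344
theorem L476667 : N24405 = N1072 := eqc rfl L476666 rfl
theorem L476682 : sm gg N1072 = N16832 := trfs L476667 L207461 rfl
theorem L476683 : N16832 = N750 := eqes L476682 L9404
theorem L476684 : N16832 = N750 := eqc rfl L476683 rfl
theorem L476701 : sm gi N750 = N11589 := trfs L476684 (flp_i L143472) rfl
theorem L476702 : N11589 = N1075 := eqes L476701 (flp_i L9432)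
theorem L476703 : N11589 = N1075 := eqc rfl L476702 rfl
theorem L476718 : sm gh N1075 = N16831 := trfs L476703 L143464 rfl
theorem L476719 : N16831 = N1536 := eqes L476718 (flp_h L13413)
theorem L476720 : N16831 = N1536 := eqc rfl L476719 rfl
theorem L476733 : sm gg N1536 = N24404 := trfs L476720 (flp_g L207450) rfl
theorem L476734 : N24404 = N2194 := eqes L476733 (flp_g L19066)
theorem L476735 : N24404 = N2194 := eqc rfl L476734 rfl
theorem L476744 : sm ge N2194 = N19094 := trfs L476735 L207448 rfl
theorem L476745 : N19094 = N1529 := eqes L476744 (flp_e L19062)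
theorem L476746 : N19094 = N1529 := eqc rfl L476745 rfl
theorem L476772 : sm gh N1529 = N13139 := trfs L476746 (flp_h L162144) rfl
theorem L476773 : N13139 = N1070 := eqes L476772 L13355
theorem L476774 : N13139 = N1070 := eqc rfl L476773 rfl
theorem L476785 : sm gf N1070 = N19093 := trfs L476774 L162138 rfl
theorem L476786 : N19093 = N1070 := eqes L476785 L9386
theorem L476787 : N19093 = N1070 := eqc rfl L476786 rfl
theorem L476809 : sm gi N1070 = N27777 := trfs L476787 L235280 rfl
theorem L476810 : N27777 = N746 := eqes L476809 L9389
theorem L476811 : N27777 = N746 := eqc rfl L476810 rfl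
theorem L476827 : sm gj N746 = N40198 := trfs L476811 (flp_j L339621) rfl
theorem L476828 : N40198 = N1068 := eqes L476827 (flp_j L9369)
theorem L476829 : N40198 = N1068 := eqc rfl L476828 rfl
theorem L476833 : sm gd N1068 = N27593 := trfs L476829 L339617 rfl
theorem L476834 : N27593 = N743 := eqes L476833 (flp_d L9363)
theorem L476835 : N27593 = N743 := eqc rfl L476834 rfl
theorem L476856 : sm gi N743 = N18967 := trfs L476835 (flp_i L233716) rfl
theorem L476857 : N18967 = N1067 := eqes L476856 (flp_i L9361)
theorem L476858 : N18967 = N1067 := eqc rfl L476857 rfl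
theorem L476875 : sm gh N1067 = N13235 := trfs L476858 L161072 rfl
theorem L476876 : N13235 = N742 := eqes L476875 (flp_h L9351)
theorem L476877 : N13235 = N742 := eqc rfl L476876 rfl
theorem L476898 : sm gi N742 = N19233 := trfs L476877 L163299 rfl
theorem L476899 : N19233 = N512 := eqes L476898 (flp_i L6522)
theorem L476900 : N19233 = N512 := eqc rfl L476899 rfl
theorem L476921 : sm gh N512 = N27975 := trfs L476900 L236936 rfl
theorem L476922 : N27975 = N350 := eqes L476921 (flp_h L4502)
theorem L476923 : N27975 = N350 := eqc rfl L476922 rfl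
theorem L476939 : sm gj N350 = N19422 := trfs L476923 L236944 rfl
theorem L476940 : N19422 = N240 := eqes L476939 (flp_j L3086)
theorem L476941 : N19422 = N240 := eqc rfl L476940 rfl
theorem L476959 : sm gi N240 = N27782 := trfs L476941 (flp_i L235330) rfl
theorem L476960 : N27782 = N352 := eqes L476959 L3104
theorem L476961 : N27782 = N352 := eqc rfl L476960 rfl
theorem L476974 : sm gg N352 = N40472 := trfs L476961 (flp_g L341929) rfl
theorem L476975 : N40472 = N242 := eqes L476974 L3112
theorem L476976 : N40472 = N242 := eqc rfl L476975 rfl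
theorem L476987 : sm gh N242 = N27781 := trfs L476976 (flp_h L341921) rfl
theorem L476988 : N27781 = N355 := eqes L476987 L3133
theorem L476989 : N27781 = N355 := eqc rfl L476988 rfl
theorem L477007 : sm gi N355 = N19096 := trfs L476989 (flp_i L235312) rfl
theorem L477008 : N19096 = N518 := eqes L477007 (flp_i L4571)
theorem L477009 : N19096 = N518 := eqc rfl L477008 rfl
theorem L477026 : sm gh N518 = N13364 := trfs L477009 L162166 rfl
theorem L477027 : N13364 = N354 := eqes L477026 (flp_h L4562)
theorem L477028 : N13364 = N354 := eqc rfl L477027 rfl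
theorem L477047 : sm gi N354 = N19421 := trfs L477028 L164928 rfl
theorem L477048 : N19421 = N241 := eqes L477047 (flp_i L3124)
theorem L477049 : N19421 = N241 := eqc rfl L477048 rfl
theorem L477065 : sm gj N241 = N28243 := trfs L477049 (flp_j L239243) rfl
theorem L477066 : N28243 = N241 := eqes L477065 L2141
theorem L477067 : N28243 = N241 := eqc rfl L477066 rfl
theorem L477086 : sm gh N241 = N41139 := trfs L477067 L347570 rfl
theorem L477087 : N41139 = N165 := eqes L477086 (flp_h L2133)
theorem L477088 : N41139 = N165 := eqc rfl L477087 rfl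
theorem L477095 : sm gf N165 = N28388 := trfs L477088 L347576 rfl
theorem L477096 : N28388 = N115 := eqes L477095 (flp_f L1472)
theorem L477097 : N28388 = N115 := eqc rfl L477096 rfl
theorem L477111 : sm gi N115 = N40616 := trfs L477097 (flp_i L343055) rfl
theorem L477112 : N40616 = N167 := eqes L477111 L1489
theorem L477113 : N40616 = N167 := eqc rfl L477112 rfl
theorem L477122 : sm gh N167 = N27886 := trfs L477113 (flp_h L343045) rfl
theorem L477123 : N27886 = N245 := eqes L477122 L2169
theorem L477124 : N27886 = N245 := eqc rfl L477123 rfl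
theorem L477137 : sm gi N245 = N19175 := trfs L477124 (flp_i L236131) rfl
theorem L477138 : N19175 = N358 := eqes L477137 (flp_i L3170)
theorem L477139 : N19175 = N358 := eqc rfl L477138 rfl
theorem L477152 : sm gh N358 = N13443 := trfs L477139 L162781 rfl
theorem L477153 : N13443 = N244 := eqes L477152 (flp_h L3161)
theorem L477154 : N13443 = N244 := eqc rfl L477153 rfl
theorem L477160 : sm gd N244 = N19519 := trfs L477154 (flp_d L165697) rfl
theorem L477161 : N19519 = N357 := eqes L477160 (flp_d L3157)
theorem L477162 : N19519 = N357 := eqc rfl L477161 rfl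
theorem L477184 : sm gi N357 = N28380 := trfs L477162 L240292 rfl
theorem L477185 : N28380 = N243 := eqes L477184 (flp_i L3152)
theorem L477186 : N28380 = N243 := eqc rfl L477185 rfl
theorem L477196 : sm gj N243 = N19521 := trfs L477186 L240300 rfl
theorem L477197 : N19521 = N243 := eqes L477196 L2157
theorem L477198 : N19521 = N243 := eqc rfl L477197 rfl
theorem L477208 : sm gg N243 = N13440 := trfs L477198 L165714 rfl
theorem L477209 : N13440 = N243 := eqes L477208 L2156
theorem L477210 : N13440 = N243 := eqc rfl L477209 rfl
theorem L477227 : sm gi N243 = N9272 := trfs L477210 (flp_i L114400) rfl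
theorem L477228 : N9272 = N357 := eqes L477227 L3152
theorem L477229 : N9272 = N357 := eqc rfl L477228 rfl
theorem L477244 : sm gh N357 = N13439 := trfs L477229 L114392 rfl
theorem L477245 : N13439 = N521 := eqes L477244 L4592
theorem L477246 : N13439 = N521 := eqc rfl L477245 rfl
theorem L477259 : sm gg N521 = N19520 := trfs L477246 (flp_g L165705) rfl
theorem L477260 : N19520 = N521 := eqes L477259 L4597
theorem L477261 : N19520 = N521 := eqc rfl L477260 rfl
theorem L477273 : sm gf N521 = N28237 := trfs L477261 (flp_f L239188) rfl
theorem L477274 : N28237 = N747 := eqes L477273 (flp_f L6578)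
theorem L477275 : N28237 = N747 := eqc rfl L477274 rfl
theorem L477288 : sm gg N747 = N19416 := trfs L477275 L239190 rfl
theorem L477289 : N19416 = N1069 := eqes L477288 (flp_g L9379)
theorem L477290 : N19416 = N1069 := eqc rfl L477289 rfl
theorem L477312 : sm gh N1069 = N13361 := trfs L477290 (flp_h L164888) rfl
theorem L477313 : N13361 = N744 := eqes L477312 (flp_h L9372)
theorem L477314 : N13361 = N744 := eqc rfl L477313 rfl
theorem L477328 : sm gi N744 = N19417 := trfs L477314 L164895 rfl
theorem L477329 : N19417 = N514 := eqes L477328 (flp_i L6542)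
theorem L477330 : N19417 = N514 := eqc rfl L477329 rfl
theorem L477338 : sm gf N514 = N13363 := trfs L477330 L164902 rfl
theorem L477339 : N13363 = N514 := eqes L477338 L4527
theorem L477340 : N13363 = N514 := eqc rfl L477339 rfl
theorem L477347 : sm gd N514 = N9219 := trfs L477340 L113802 rfl
theorem L477348 : N9219 = N351 := eqes L477347 (flp_d L4523)
theorem L477349 : N9219 = N351 := eqc rfl L477348 rfl
theorem L477402 : sm gi N351 = N6367 := trfs L477349 (flp_i L78761) rfl
theorem L477403 : N6367 = N515 := eqes L477402 L4533
theorem L477404 : N6367 = N515 := eqc rfl L477403 rfl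
theorem L477415 : sm gg N515 = N4440 := trfs L477404 L54608 rfl
theorem L477416 : N4440 = N354 := eqes L477415 L4540
theorem L477417 : N4440 = N354 := eqc rfl L477416 rfl
theorem L477431 : sm gh N354 = N6287 := trfs L477417 (flp_h L53897) rfl
theorem L477432 : N6287 = N518 := eqes L477431 L4562
theorem L477433 : N6287 = N518 := eqc rfl L477432 rfl
theorem L477449 : sm gi N518 = N9103 := trfs L477433 L77741 rfl
theorem L477450 : N9103 = N355 := eqes L477449 L4571
theorem L477451 : N9103 = N355 := eqc rfl L477450 rfl
theorem L477468 : sm gh N355 = N13199 := trfs L477451 L112357 rfl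
theorem L477469 : N13199 = N242 := eqes L477468 (flp_h L3133)
theorem L477470 : N13199 = N242 := eqc rfl L477469 rfl
theorem L477485 : sm gi N242 = N9277 := trfs L477470 L112366 rfl
theorem L477486 : N9277 = N165 := eqes L477485 (flp_i L2142)
theorem L477487 : N9277 = N165 := eqc rfl L477486 rfl
theorem L477497 : sm gf N165 = N13445 := trfs L477487 (flp_f L114448) rfl
theorem L477498 : N13445 = N115 := eqes L477497 (flp_f L1472)
theorem L477499 : N13445 = N115 := eqc rfl L477498 rfl
theorem L477505 : sm gc N115 = N9281 := trfs L477499 L114445 rfl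
theorem L477506 : N9281 = N80 := eqes L477505 (flp_c L1032)
theorem L477507 : N9281 = N80 := eqc rfl L477506 rfl
theorem L477530 : sm gi N80 = N13203 := trfs L477507 (flp_i L112403) rfl
theorem L477531 : N13203 = N118 := eqes L477530 L1057
theorem L477532 : N13203 = N118 := eqc rfl L477531 rfl
theorem L477547 : sm gh N118 = N9106 := trfs L477532 (flp_h L112394) rfl
theorem L477548 : N9106 = N173 := eqes L477547 L1543
theorem L477549 : N9106 = N173 := eqc rfl L477548 rfl
theorem L477564 : sm gi N173 = N6289 := trfs L477549 (flp_i L77768) rfl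
theorem L477565 : N6289 = N254 := eqes L477564 (flp_i L2258)
theorem L477566 : N6289 = N254 := eqc rfl L477565 rfl
theorem L477581 : sm gh N254 = N4442 := trfs L477566 L53913 rfl
theorem L477582 : N4442 = N172 := eqes L477581 (flp_h L2250)
theorem L477583 : N4442 = N172 := eqc rfl L477582 rfl
theorem L477592 : sm gg N172 = N6412 := trfs L477583 L54951 rfl
theorem L477593 : N6412 = N172 := eqes L477592 L1541
theorem L477594 : N6412 = N172 := eqc rfl L477593 rfl
theorem L477607 : sm gi N172 = N9280 := trfs L477594 L79241 rfl
theorem L477608 : N9280 = N117 := eqes L477607 (flp_i L1534)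
theorem L477609 : N9280 = N117 := eqc rfl L477608 rfl
theorem L477619 : sm gj N117 = N13448 := trfs L477609 (flp_j L114471) rfl
theorem L477620 : N13448 = N117 := eqes L477619 L1055
theorem L477621 : N13448 = N117 := eqc rfl L477620 rfl
theorem L477624 : sm gb N117 = N9283 := trfs L477621 L114466 rfl
theorem L477625 : N9283 = N85 := eqes L477624 L1051
theorem L477626 : N9283 = N85 := eqc rfl L477625 rfl
theorem L477648 : sm gi N85 = N6415 := trfs L477626 (flp_i L79267) rfl
theorem L477649 : N6415 = N127 := eqes L477648 L1142
theorem L477650 : N6415 = N127 := eqc rfl L477649 rfl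
theorem L477663 : sm gh N127 = N9108 := trfs L477650 (flp_h L77793) rfl
theorem L477664 : N9108 = N188 := eqes L477663 L1681
theorem L477665 : N9108 = N188 := eqc rfl L477664 rfl
theorem L477680 : sm gi N188 = N13205 := trfs L477665 L112414 rfl
theorem L477681 : N13205 = N128 := eqes L477680 L1689
theorem L477682 : N13205 = N128 := eqc rfl L477681 rfl
theorem L477699 : sm gh N128 = N19184 := trfs L477682 L162856 rfl
theorem L477700 : N19184 = N86 := eqes L477699 (flp_h L1151)
theorem L477701 : N19184 = N86 := eqc rfl L477700 rfl
theorem L477715 : sm gj N86 = N13206 := trfs L477701 L162863 rfl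
theorem L477716 : N13206 = N86 := eqes L477715 L785
theorem L477717 : N13206 = N86 := eqc rfl L477716 rfl
theorem L477733 : sm gi N86 = N9284 := trfs L477717 L112431 rfl
theorem L477734 : N9284 = N58 := eqes L477733 (flp_i L776)
theorem L477735 : N9284 = N58 := eqc rfl L477734 rfl
theorem L477745 : sm gf N58 = N13392 := trfs L477735 (flp_f L114043) rfl
theorem L477746 : N13392 = N84 := eqes L477745 L759
theorem L477747 : N13392 = N84 := eqc rfl L477746 rfl
theorem L477770 : sm gh N84 = N9237 := trfs L477747 (flp_h L114038) rfl
theorem L477771 : N9237 = N125 := eqes L477770 L1123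
theorem L477772 : N9237 = N125 := eqc rfl L477771 rfl
theorem L477788 : sm gi N125 = N6380 := trfs L477772 (flp_i L78908) rfl
theorem L477789 : N6380 = N186 := eqes L477788 L1664
theorem L477790 : N6380 = N186 := eqc rfl L477789 rfl
theorem L477805 : sm gh N186 = N9073 := trfs L477790 (flp_h L77526) rfl
theorem L477806 : N9073 = N274 := eqes L477805 L2436
theorem L477807 : N9073 = N274 := eqc rfl L477806 rfl
theorem L477824 : sm gi N274 = N13159 := trfs L477807 L112057 rfl
theorem L477825 : N13159 = N187 := eqes L477824 L2444
theorem L477826 : N13159 = N187 := eqc rfl L477825 rfl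
theorem L477839 : sm gg N187 = N9074 := trfs L477826 L112064 rfl
theorem L477840 : N9074 = N273 := eqes L477839 (flp_g L2434)
theorem L477841 : N9074 = N273 := eqc rfl L477840 rfl
theorem L477861 : sm gh N273 = N13160 := trfs L477841 L112066 rfl
theorem L477862 : N13160 = N185 := eqes L477861 (flp_h L2428)
theorem L477863 : N13160 = N185 := eqc rfl L477862 rfl
theorem L477880 : sm gj N185 = N18999 := trfs L477863 (flp_j L161372) rfl
theorem L477881 : N18999 = N271 := eqes L477880 (flp_j L2417)
theorem L477882 : N18999 = N271 := eqc rfl L477881 rfl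
theorem L477904 : sm gi N271 = N13267 := trfs L477882 L161374 rfl
theorem L477905 : N13267 = N183 := eqes L477904 (flp_i L2408)
theorem L477906 : N13267 = N183 := eqc rfl L477905 rfl
theorem L477925 : sm gh N183 = N9149 := trfs L477906 (flp_h L112979) rfl
theorem L477926 : N9149 = N270 := eqes L477925 L2398
theorem L477927 : N9149 = N270 := eqc rfl L477926 rfl
theorem L477942 : sm gi N270 = N6318 := trfs L477927 (flp_i L78162) rfl
theorem L477943 : N6318 = N398 := eqes L477942 L3529
theorem L477944 : N6318 = N398 := eqc rfl L477943 rfl
theorem L477961 : sm gh N398 = N9011 := trfs L477944 (flp_h L77008) rfl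
theorem L477962 : N9011 = N581 := eqes L477961 L5139
theorem L477963 : N9011 = N581 := eqc rfl L477962 rfl
theorem L477978 : sm gg N581 = N13070 := trfs L477963 L111319 rfl
theorem L477979 : N13070 = N581 := eqes L477978 L5145
theorem L477980 : N13070 = N581 := eqc rfl L477979 rfl
theorem L478001 : sm gi N581 = N18998 := trfs L477980 L161357 rfl
theorem L478002 : N18998 = N399 := eqes L478001 L5148
theorem L478003 : N18998 = N399 := eqc rfl L478002 rfl
theorem L478019 : sm gj N399 = N27637 := trfs L478003 (flp_j L234136) rfl
theorem L478020 : N27637 = N273 := eqes L478019 L3546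
theorem L478021 : N27637 = N273 := eqc rfl L478020 rfl
theorem L478038 : sm gh N273 = N40267 := trfs L478021 L340251 rfl
theorem L478039 : N40267 = N185 := eqes L478038 (flp_h L2428)
theorem L478040 : N40267 = N185 := eqc rfl L478039 rfl
theorem L478049 : sm gi N185 = N28039 := trfs L478040 L340261 rfl
theorem L478050 : N28039 = N124 := eqes L478049 (flp_i L1654)
theorem L478051 : N28039 = N124 := eqc rfl L478050 rfl
theorem L478068 : sm gh N124 = N19277 := trfs L478051 (flp_h L237519) rfl
theorem L478069 : N19277 = N184 := eqes L478068 L1645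
theorem L478070 : N19277 = N184 := eqc rfl L478069 rfl
theorem L478085 : sm gi N184 = N13265 := trfs L478070 (flp_i L163703) rfl
theorem L478086 : N13265 = N272 := eqes L478085 L2419
theorem L478087 : N13265 = N272 := eqc rfl L478086 rfl
theorem L478096 : sm ge N272 = N19273 := trfs L478087 (flp_e L163672) rfl
theorem L478097 : N19273 = N392 := eqes L478096 (flp_e L3479)
theorem L478098 : N19273 = N392 := eqc rfl L478097 rfl
theorem L478116 : sm gh N392 = N27633 := trfs L478098 (flp_h L234093) rfl
theorem L478117 : N27633 = N574 := eqes L478116 L5078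
theorem L478118 : N27633 = N574 := eqc rfl L478117 rfl
theorem L478130 : sm gg N574 = N19119 := trfs L478118 L234095 rfl
theorem L478131 : N19119 = N396 := eqes L478130 L5085
theorem L478132 : N19119 = N396 := eqc rfl L478131 rfl
theorem L478145 : sm gi N396 = N27812 := trfs L478132 L235567 rfl
theorem L478146 : N27812 = N269 := eqes L478145 L3520
theorem L478147 : N27812 = N269 := eqc rfl L478146 rfl
theorem L478162 : sm gh N269 = N40514 := trfs L478147 L342272 rfl
theorem L478163 : N40514 = N182 := eqes L478162 (flp_h L2389)
theorem L478164 : N40514 = N182 := eqc rfl L478163 rfl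
theorem L478174 : sm gi N182 = N28286 := trfs L478164 L342282 rfl
theorem L478175 : N28286 = N123 := eqes L478174 (flp_i L1626)
theorem L478176 : N28286 = N123 := eqc rfl L478175 rfl
theorem L478191 : sm gh N123 = N19452 := trfs L478176 (flp_h L239590) rfl
theorem L478192 : N19452 = N181 := eqes L478191 L1617
theorem L478193 : N19452 = N181 := eqc rfl L478192 rfl
theorem L478201 : sm gd N181 = N28282 := trfs L478193 (flp_d L239560) rfl
theorem L478202 : N28282 = N267 := eqes L478201 L2372
theorem L478203 : N28282 = N267 := eqc rfl L478202 rfl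
theorem L478223 : sm gi N267 = N19448 := trfs L478203 (flp_i L239556) rfl
theorem L478224 : N19448 = N395 := eqes L478223 L3502
theorem L478225 : N19448 = N395 := eqc rfl L478224 rfl
theorem L478230 : sm gc N395 = N28277 := trfs L478225 (flp_c L239517) rfl
theorem L478231 : N28277 = N576 := eqes L478230 (flp_c L5101)
theorem L478232 : N28277 = N576 := eqc rfl L478231 rfl
theorem L478254 : sm gh N576 = N41168 := trfs L478232 (flp_h L347805) rfl
theorem L478255 : N41168 = N833 := eqes L478254 L7359
theorem L478256 : N41168 = N833 := eqc rfl L478255 rfl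
theorem L478262 : sm gj N833 = N28262 := trfs L478256 (flp_j L347797) rfl
theorem L478263 : N28262 = N833 := eqes L478262 L7368
theorem L478264 : N28262 = N833 := eqc rfl L478263 rfl
theorem L478283 : sm gi N833 = N41169 := trfs L478264 L347807 rfl
theorem L478284 : N41169 = N833 := eqes L478283 L7369
theorem L478285 : N41169 = N833 := eqc rfl L478284 rfl
theorem L478294 : sm gg N833 = N28263 := trfs L478285 L347815 rfl
theorem L478295 : N28263 = N1190 := eqes L478294 (flp_g L10476)
theorem L478296 : N28263 = N1190 := eqc rfl L478295 rfl
theorem L478304 : sm gf N1190 = N19434 := trfs L478296 L239401 rfl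
theorem L478305 : N19434 = N1694 := eqes L478304 (flp_f L14825)
theorem L478306 : N19434 = N1694 := eqc rfl L478305 rfl
theorem L478324 : sm gi N1694 = N13373 := trfs L478306 (flp_i L165033) rfl
theorem L478325 : N13373 = N1694 := eqes L478324 L14828
theorem L478326 : N13373 = N1694 := eqc rfl L478325 rfl
theorem L478338 : sm gj N1694 = N19247 := trfs L478326 (flp_j L163437) rfl
theorem L478339 : N19247 = N2425 := eqes L478338 (flp_j L21097)
theorem L478340 : N19247 = N2425 := eqc rfl L478339 rfl
theorem L478354 : sm gg N2425 = N27988 := trfs L478340 (flp_g L237059) rfl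
theorem L478355 : N27988 = N3485 := eqes L478354 (flp_g L30141)
theorem L478356 : N27988 = N3485 := eqc rfl L478355 rfl
theorem L478367 : sm ge N3485 = N19243 := trfs L478356 (flp_e L237053) rfl
theorem L478368 : N19243 = N5034 := eqes L478367 (flp_e L43323)
theorem L478369 : N19243 = N5034 := eqc rfl L478368 rfl
theorem L478388 : sm gi N5034 = N27989 := trfs L478369 L237064 rfl
theorem L478389 : N27989 = N5034 := eqes L478388 L43328
theorem L478390 : N27989 = N5034 := eqc rfl L478389 rfl
theorem L478405 : sm gh N5034 = N40777 := trfs L478390 L344499 rfl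
theorem L478406 : N40777 = N3484 := eqes L478405 (flp_h L43316)
theorem L478407 : N40777 = N3484 := eqc rfl L478406 rfl
theorem L478414 : sm gi N3484 = N28014 := trfs L478407 L344508 rfl
theorem L478415 : N28014 = N2415 := eqes L478414 (flp_i L30121)
theorem L478416 : N28014 = N2415 := eqc rfl L478415 rfl
theorem L478433 : sm gh N2415 = N19257 := trfs L478416 (flp_h L237292) rfl
theorem L478434 : N19257 = N2415 := eqes L478433 L20996
theorem L478435 : N19257 = N2415 := eqc rfl L478434 rfl
theorem L478448 : sm gg N2415 = N13255 := trfs L478435 L163530 rfl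
theorem L478449 : N13255 = N1685 := eqes L478448 L20993
theorem L478450 : N13255 = N1685 := eqc rfl L478449 rfl
theorem L478467 : sm gi N1685 = N9140 := trfs L478450 (flp_i L112869) rfl
theorem L478468 : N9140 = N2424 := eqes L478467 L21076
theorem L478469 : N9140 = N2424 := eqc rfl L478468 rfl
theorem L478471 : sm gb N2424 = N13253 := trfs L478469 L112853 rfl
theorem L478472 : N13253 = N2424 := eqes L478471 L21080
theorem L478473 : N13253 = N2424 := eqc rfl L478472 rfl
theorem L478481 : sm gj N2424 = N6374 := trfs L478469 L78087 rfl
theorem L478482 : N6374 = N1693 := eqes L478481 L21086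
theorem L478483 : N6374 = N1693 := eqc rfl L478482 rfl
theorem L478490 : sm gd N1693 = N4421 := trfs L478483 L54665 rfl
theorem L478491 : N4421 = N2434 := eqes L478490 (flp_d L21184)
theorem L478492 : N4421 = N2434 := eqc rfl L478491 rfl
theorem L478512 : sm gi N2434 = N6384 := trfs L478492 L54738 rfl
theorem L478513 : N6384 = N1692 := eqes L478512 (flp_i L21178)
theorem L478514 : N6384 = N1692 := eqc rfl L478513 rfl
theorem L478527 : sm gh N1692 = N9242 := trfs L478514 L78950 rfl
theorem L478528 : N9242 = N2433 := eqes L478527 L21168
theorem L478529 : N9242 = N2433 := eqc rfl L478528 rfl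
theorem L478545 : sm gj N2433 = N13277 := trfs L478529 (flp_j L113083) rfl
theorem L478546 : N13277 = N3494 := eqes L478545 (flp_j L30231)
theorem L478547 : N13277 = N3494 := eqc rfl L478546 rfl
theorem L478563 : sm gg N3494 = N19288 := trfs L478547 (flp_g L163817) rfl
theorem L478564 : N19288 = N5031 := eqes L478563 (flp_g L43288)
theorem L478565 : N19288 = N5031 := eqc rfl L478564 rfl
theorem L478581 : sm gf N5031 = N28049 := trfs L478565 (flp_f L237616) rfl
theorem L478582 : N28049 = N7281 := eqes L478581 (flp_f L62389)
theorem L478583 : N28049 = N7281 := eqc rfl L478582 rfl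
theorem L478604 : sm gh N7281 = N19283 := trfs L478583 (flp_h L237610) rfl
theorem L478605 : N19283 = N5030 := eqes L478604 (flp_h L62383)
theorem L478606 : N19283 = N5030 := eqc rfl L478605 rfl
theorem L478624 : sm gi N5030 = N13269 := trfs L478606 (flp_i L163759) rfl
theorem L478625 : N13269 = N7282 := eqes L478624 L62394
theorem L478626 : N13269 = N7282 := eqc rfl L478625 rfl
theorem L478642 : sm gf N7282 = N9153 := trfs L478626 L113001 rfl
theorem L478643 : N9153 = N5032 := eqes L478642 L62402
theorem L478644 : N9153 = N5032 := eqc rfl L478643 rfl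
theorem L478654 : sm gc N5032 = N6322 := trfs L478644 (flp_c L78203) rfl
theorem L478655 : N6322 = N5032 := eqes L478654 L43297
theorem L478656 : N6322 = N5032 := eqc rfl L478655 rfl
theorem L478663 : sm ga N5032 = N4395 := trfs L478656 L54215 rfl
theorem L478664 : N4395 = N3839 := eqes L478663 L43294
theorem L478665 : N4395 = N3839 := eqc rfl L478664 rfl
theorem L478667 : sm gd N5032 = N4377 := trfs L478656 (flp_d L54213) rfl
theorem L478668 : N4377 = N3484 := eqes L478667 L43298
theorem L478669 : N4377 = N3484 := eqc rfl L478668 rfl
theorem L478677 : sm gi N5032 = N9154 := trfs L478656 L78212 rfl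
theorem L478678 : N9154 = N3482 := eqes L478677 (flp_i L43292)
theorem L478679 : N9154 = N3482 := eqc rfl L478678 rfl
theorem L478690 : sm gg N3482 = N6325 := trfs L478679 L78220 rfl
theorem L478691 : N6325 = N2423 := eqes L478690 L30105
theorem L478692 : N6325 = N2423 := eqc rfl L478691 rfl
theorem L478700 : sm gd N2423 = N4379 := trfs L478692 L54248 rfl
theorem L478701 : N4379 = N1685 := eqes L478700 (flp_d L21066)
theorem L478702 : N4379 = N1685 := eqc rfl L478701 rfl
theorem L478724 : sm gi N1685 = N3035 := trfs L478702 (flp_i L37698) rfl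
theorem L478725 : N3035 = N2424 := eqes L478724 L21076
theorem L478726 : N3035 = N2424 := eqc rfl L478725 rfl
theorem L478727 : sm ga N2424 = N2119 := trfs L478726 L26237 rfl
theorem L478728 : N2119 = N1863 := eqes L478727 L21078
theorem L478729 : N2119 = N1863 := eqc rfl L478728 rfl
theorem L478735 : sm ge N2424 = N2111 := trfs L478726 L26240 rfl
theorem L478736 : N2111 = N1686 := eqes L478735 L21083
theorem L478737 : N2111 = N1686 := eqc rfl L478736 rfl
theorem L478740 : sm gj N2424 = N2133 := trfs L478726 L26243 rfl
theorem L478741 : N2133 = N1693 := eqes L478740 L21086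
theorem L478742 : N2133 = N1693 := eqc rfl L478741 rfl
theorem L478743 : sm gh N2424 = N2109 := trfs L478726 (flp_h L26235) rfl
theorem L478744 : N2109 = N3496 := eqes L478743 L30246
theorem L478745 : N3496 = N2109 := (eqc rfl L478744 rfl).symm
theorem L478746 : sm ga N2109 = N2679 := trfs L478745 L30248 rfl
theorem L478747 : N2679 = N1473 := eqes L478746 L18302
theorem L478748 : N2679 = N1473 := eqc rfl L478747 rfl
theorem L478753 : sm ge N2109 = N2425 := trfs L478745 L30253 rfl
theorem L478754 : N2425 = N1468 := eqes L478753 (flp_e L18300)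
theorem L478755 : N2425 = N1468 := eqc rfl L478754 rfl
theorem L478757 : sm gg N2109 = N5034 := trfs L478745 (flp_g L43325) rfl
theorem L478758 : N5034 = N3034 := eqes L478757 L26225
theorem L478759 : N5034 = N3034 := eqc rfl L478758 rfl
theorem L478760 : sm gj N2109 = N2435 := trfs L478745 L30256 rfl
theorem L478761 : N2435 = N1484 := eqes L478760 L18305
theorem L478762 : N2435 = N1484 := eqc rfl L478761 rfl
theorem L478763 : sm gh N2109 = N2424 := trfs L478745 (flp_h L30246) rfl
theorem L478766 : sm ga N1484 = N1877 := trfs L478762 L21191 rfl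
theorem L478767 : N1877 = N1038 := eqes L478766 L12941
theorem L478768 : N1877 = N1038 := eqc rfl L478767 rfl
theorem L478773 : sm ge N1484 = N1694 := trfs L478762 L21196 rfl
theorem L478774 : N1694 = N1034 := eqes L478773 (flp_e L12939)
theorem L478775 : N1694 = N1034 := eqc rfl L478774 rfl
theorem L478781 : sm ga N1034 = N1307 := trfs L478775 L14820 rfl
theorem L478782 : N1307 = N719 := eqes L478781 L9049
theorem L478783 : N1307 = N719 := eqc rfl L478782 rfl
theorem L478785 : sm gc N1034 = N1181 := trfs L478775 L14823 rfl
theorem L478786 : N1181 = N1482 := eqes L478785 (flp_c L12926)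
theorem L478787 : N1482 = N1181 := (eqc rfl L478786 rfl).symm
theorem L478791 : sm gf N1034 = N1190 := trfs L478775 L14825 rfl
theorem L478792 : N1190 = N716 := eqes L478791 (flp_f L9047)
theorem L478793 : N1190 = N716 := eqc rfl L478792 rfl
theorem L478796 : sm gh N1034 = N1179 := trfs L478775 (flp_h L14818) rfl
theorem L478797 : N1179 = N1485 := eqes L478796 L12948
theorem L478798 : N1485 = N1179 := (eqc rfl L478797 rfl).symm
theorem L478800 : sm ga N1179 = N1039 := trfs L478798 L12950 rfl
theorem L478801 : N1039 = N909 := eqes L478800 L10368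
theorem L478802 : N1039 = N909 := eqc rfl L478801 rfl
theorem L478814 : sm gh N1179 = N1034 := trfs L478798 (flp_h L12948) rfl
theorem L478816 : sm gi N1179 = N2134 := trfs L478798 L18528 rfl
theorem L478817 : N2134 = N819 := eqes L478816 (flp_i L10366)
theorem L478818 : N2134 = N819 := eqc rfl L478817 rfl
theorem L478828 : sm gf N819 = N1486 := trfs L478818 L18534 rfl
theorem L478829 : N1486 = N572 := eqes L478828 L7232
theorem L478830 : N1486 = N572 := eqc rfl L478829 rfl
theorem L478846 : sm gj N572 = N2112 := trfs L478830 (flp_j L18338) rfl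
theorem L478847 : N2112 = N824 := eqes L478846 (flp_j L7280)
theorem L478848 : N2112 = N824 := eqc rfl L478847 rfl
theorem L478863 : sm gi N824 = N1469 := trfs L478848 (flp_i L18330) rfl
theorem L478864 : N1469 = N1185 := eqes L478863 L10419
theorem L478865 : N1469 = N1185 := eqc rfl L478864 rfl
theorem L478866 : sm ga N1185 = N1027 := trfs L478865 L12805 rfl
theorem L478867 : N1027 = N916 := eqes L478866 L10421
theorem L478868 : N1027 = N916 := eqc rfl L478867 rfl
theorem L478878 : sm gh N1185 = N1023 := trfs L478865 (flp_h L12803) rfl
theorem L478879 : N1023 = N1702 := eqes L478878 L14889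
theorem L478880 : N1702 = N1023 := (eqc rfl L478879 rfl).symm
theorem L478881 : sm ga N1023 = N1316 := trfs L478880 L14891 rfl
theorem L478882 : N1316 = N711 := eqes L478881 L8949
theorem L478883 : N1316 = N711 := eqc rfl L478882 rfl
theorem L478885 : sm gc N1023 = N1186 := trfs L478880 L14894 rfl
theorem L478886 : N1186 = N1467 := eqes L478885 L12784
theorem L478887 : N1467 = N1186 := (eqc rfl L478886 rfl).symm
theorem L478888 : sm gd N1023 = N2448 := trfs L478880 L21303 rfl
theorem L478889 : N2448 = N710 := eqes L478888 (flp_d L8947)
theorem L478890 : N2448 = N710 := eqc rfl L478889 rfl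
theorem L478895 : sm gh N1023 = N1185 := trfs L478880 (flp_h L14889) rfl
theorem L478912 : sm gj N710 = N1709 := trfs L478890 L21309 rfl
theorem L478913 : N1709 = N495 := eqes L478912 L6231
theorem L478914 : N1709 = N495 := eqc rfl L478913 rfl
theorem L478929 : sm gg N495 = N1197 := trfs L478914 L14963 rfl
theorem L478930 : N1197 = N343 := eqes L478929 L4355
theorem L478931 : N1197 = N343 := eqc rfl L478930 rfl
theorem L478941 : sm gd N343 = N833 := trfs L478931 (flp_d L10529) rfl
theorem L478942 : N833 = N500 := eqes L478941 L4391
theorem L478943 : N833 = N500 := eqc rfl L478942 rfl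
theorem L478944 : sm ge N343 = N1721 := trfs L478931 L15061 rfl
theorem L478945 : N1721 = N236 := eqes L478944 (flp_e L3023)
theorem L478946 : N1721 = N236 := eqc rfl L478945 rfl
theorem L478959 : sm gf N236 = N2478 := trfs L478946 L21574 rfl
theorem L478960 : N2478 = N164 := eqes L478959 L2095
theorem L478961 : N2478 = N164 := eqc rfl L478960 rfl
theorem L478970 : sm gc N164 = N3577 := trfs L478961 (flp_c L30987) rfl
theorem L478971 : N3577 = N230 := eqes L478970 (flp_c L2041)
theorem L478972 : N3577 = N230 := eqc rfl L478971 rfl
theorem L478982 : sm gb N230 = N5170 := trfs L478972 (flp_b L44563) rfl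
theorem L478983 : N5170 = N292 := eqes L478982 (flp_b L2609)
theorem L478984 : N5170 = N292 := eqc rfl L478983 rfl
theorem L479000 : sm gf N292 = N3575 := trfs L478984 (flp_f L44561) rfl
theorem L479001 : N3575 = N426 := eqes L479000 (flp_f L3787)
theorem L479002 : N3575 = N426 := eqc rfl L479001 rfl
theorem L479018 : sm gg N426 = N5130 := trfs L479002 (flp_g L44216) rfl
theorem L479019 : N5130 = N616 := eqes L479018 (flp_g L5461)
theorem L479020 : N5130 = N616 := eqc rfl L479019 rfl
theorem L479038 : sm gj N616 = N7391 := trfs L479020 (flp_j L63403) rfl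
theorem L479039 : N7391 = N885 := eqes L479038 (flp_j L7830)
theorem L479040 : N7391 = N885 := eqc rfl L479039 rfl
theorem L479053 : sm ge N885 = N5103 := trfs L479040 (flp_e L63397) rfl
theorem L479054 : N5103 = N1272 := eqes L479053 L11197
theorem L479055 : N5103 = N1272 := eqc rfl L479054 rfl
theorem L479064 : sm gf N1272 = N7311 := trfs L479055 (flp_f L62691) rfl
theorem L479065 : N7311 = N1827 := eqes L479064 L16004
theorem L479066 : N7311 = N1827 := eqc rfl L479065 rfl
theorem L479081 : sm gj N1827 = N5074 := trfs L479066 L62693 rfl
theorem L479082 : N5074 = N1279 := eqes L479081 L16011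
theorem L479083 : N5074 = N1279 := eqc rfl L479082 rfl
theorem L479093 : sm gd N1279 = N3516 := trfs L479083 L43707 rfl
theorem L479094 : N3516 = N1837 := eqes L479093 (flp_d L16104)
theorem L479095 : N3516 = N1837 := eqc rfl L479094 rfl
theorem L479102 : sm gb N1837 = N2438 := trfs L479095 (flp_b L30436) rfl
theorem L479103 : N2438 = N1453 := eqes L479102 L16102
theorem L479104 : N2438 = N1453 := eqc rfl L479103 rfl
theorem L479116 : sm gc N1453 = N1696 := trfs L479104 (flp_c L21219) rfl
theorem L479117 : N1696 = N2088 := eqes L479116 (flp_c L18136)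
theorem L479118 : N2088 = N1696 := (eqc rfl L479117 rfl).symm
theorem L479120 : sm ge N1453 = N3517 := trfs L479104 L30444 rfl
theorem L479121 : N3517 = N2090 := eqes L479120 L18150
theorem L479122 : N3517 = N2090 := eqc rfl L479121 rfl
theorem L479123 : sm gf N1453 = N1710 := trfs L479104 L21223 rfl
theorem L479124 : N1710 = N1011 := eqes L479123 (flp_f L12676)
theorem L479125 : N1710 = N1011 := eqc rfl L479124 rfl
theorem L479127 : sm gj N1453 = N3499 := trfs L479104 (flp_j L30285) rfl
theorem L479128 : N3499 = N2074 := eqes L479127 (flp_j L18017)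
theorem L479129 : N3499 = N2074 := eqc rfl L479128 rfl
theorem L479130 : sm gh N1453 = N1697 := trfs L479104 L21226 rfl
theorem L479131 : N1697 = N2091 := eqes L479130 L18157
theorem L479132 : N2091 = N1697 := (eqc rfl L479131 rfl).symm
theorem L479148 : sm gh N1697 = N1453 := trfs L479132 (flp_h L18157) rfl
theorem L479150 : sm gi N1697 = N3009 := trfs L479132 L26014 rfl
theorem L479151 : N3009 = N1183 := eqes L479150 L14855
theorem L479152 : N3009 = N1183 := eqc rfl L479151 rfl
theorem L479162 : sm gj N1183 = N4310 := trfs L479152 (flp_j L37113) rfl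
theorem L479163 : N4310 = N1690 := eqes L479162 (flp_j L14786)
theorem L479164 : N4310 = N1690 := eqc rfl L479163 rfl
theorem L479174 : sm gg N1690 = N6227 := trfs L479164 (flp_g L53411) rfl
theorem L479175 : N6227 = N2421 := eqes L479174 (flp_g L21052)
theorem L479176 : N6227 = N2421 := eqc rfl L479175 rfl
theorem L479189 : sm gi N2421 = N4309 := trfs L479176 (flp_i L53405) rfl
theorem L479190 : N4309 = N3489 := eqes L479189 (flp_i L30184)
theorem L479191 : N4309 = N3489 := eqc rfl L479190 rfl
theorem L479202 : sm gh N3489 = N2985 := trfs L479191 (flp_h L37097) rfl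
theorem L479203 : N2985 = N5038 := eqes L479202 (flp_h L43367)
theorem L479204 : N5038 = N2985 := (eqc rfl L479203 rfl).symm
theorem L479207 : sm gc N2985 = N3488 := trfs L479204 (flp_c L43359) rfl
theorem L479208 : N3488 = N4303 := eqes L479207 (flp_c L37043)
theorem L479209 : N4303 = N3488 := (eqc rfl L479208 rfl).symm
theorem L479210 : sm gd N2985 = N7287 := trfs L479204 (flp_d L62459) rfl
theorem L479211 : N7287 = N2076 := eqes L479210 L25814
theorem L479212 : N7287 = N2076 := eqc rfl L479211 rfl
theorem L479217 : sm gh N2985 = N3489 := trfs L479204 L43367 rfl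
theorem L479222 : sm gc N2076 = N5035 := trfs L479212 (flp_c L62449) rfl
theorem L479223 : N5035 = N1470 := eqes L479222 L18032
theorem L479224 : N5035 = N1470 := eqc rfl L479223 rfl
theorem L479235 : sm gd N1470 = N3485 := trfs L479224 (flp_d L43329) rfl
theorem L479236 : N3485 = N2110 := eqes L479235 (flp_d L18315)
theorem L479237 : N3485 = N2110 := eqc rfl L479236 rfl
theorem L479244 : sm ga N2110 = N2665 := trfs L479237 L30135 rfl
theorem L479245 : N2665 = N1474 := eqes L479244 L18312
theorem L479246 : N2665 = N1474 := eqc rfl L479245 rfl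
theorem L479248 : sm gc N2110 = N2419 := trfs L479237 L30138 rfl
theorem L479249 : N2419 = N3030 := eqes L479248 (flp_c L26191)
theorem L479250 : N3030 = N2419 := (eqc rfl L479249 rfl).symm
theorem L479255 : sm gh N2110 = N2416 := trfs L479237 (flp_h L30133) rfl
theorem L479256 : N2416 = N3036 := eqes L479255 L26245
theorem L479257 : N3036 = N2416 := (eqc rfl L479256 rfl).symm
theorem L479259 : sm ga N2416 = N2120 := trfs L479257 L26247 rfl
theorem L479260 : N2120 = N1853 := eqes L479259 L20999
theorem L479261 : N2120 = N1853 := eqc rfl L479260 rfl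
theorem L479271 : sm gh N2416 = N2110 := trfs L479257 (flp_h L26245) rfl
theorem L479273 : sm gi N2416 = N4380 := trfs L479257 L37709 rfl
theorem L479274 : N4380 = N1680 := eqes L479273 (flp_i L20997)
theorem L479275 : N4380 = N1680 := eqc rfl L479274 rfl
theorem L479280 : sm gc N1680 = N6315 := trfs L479275 (flp_c L54150) rfl
theorem L479281 : N6315 = N1170 := eqes L479280 (flp_c L14677)
theorem L479282 : N6315 = N1170 := eqc rfl L479281 rfl
theorem L479302 : sm gg N1170 = N4373 := trfs L479282 L54153 rfl
theorem L479303 : N4373 = N816 := eqes L479302 L10281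
theorem L479304 : N4373 = N816 := eqc rfl L479303 rfl
theorem L479322 : sm gi N816 = N3031 := trfs L479304 (flp_i L37638) rfl
theorem L479323 : N3031 = N1175 := eqes L479322 L10325
theorem L479324 : N3031 = N1175 := eqc rfl L479323 rfl
theorem L479339 : sm gh N1175 = N2107 := trfs L479324 (flp_h L26196) rfl
theorem L479340 : N2107 = N1688 := eqes L479339 L14761
theorem L479341 : N2107 = N1688 := eqc rfl L479340 rfl
theorem L479342 : sm ga N1688 = N1471 := trfs L479341 L18283 rfl
theorem L479343 : N1471 = N1299 := eqes L479342 L14763
theorem L479344 : N1471 = N1299 := eqc rfl L479343 rfl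
theorem L479350 : sm gd N1688 = N2982 := trfs L479341 (flp_d L25788) rfl
theorem L479351 : N2982 = N2427 := eqes L479350 L21110
theorem L479352 : N2982 = N2427 := eqc rfl L479351 rfl
theorem L479365 : sm gf N2427 = N2073 := trfs L479352 (flp_f L25782) rfl
theorem L479366 : N2073 = N1703 := eqes L479365 L21114
theorem L479367 : N2073 = N1703 := eqc rfl L479366 rfl
theorem L479370 : sm gh N2427 = N4304 := trfs L479352 L37050 rfl
theorem L479371 : N4304 = N1689 := eqes L479370 L21119
theorem L479372 : N4304 = N1689 := eqc rfl L479371 rfl
theorem L479383 : sm gf N1689 = N2983 := trfs L479372 L37056 rfl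
theorem L479384 : N2983 = N1187 := eqes L479383 L14774
theorem L479385 : N2983 = N1187 := eqc rfl L479384 rfl
theorem L479393 : sm gc N1187 = N2075 := trfs L479385 L25797 rfl
theorem L479394 : N2075 = N1704 := eqes L479393 L14911
theorem L479395 : N2075 = N1704 := eqc rfl L479394 rfl
theorem L479403 : sm gi N1187 = N4306 := trfs L479385 L37070 rfl
theorem L479404 : N4306 = N827 := eqes L479403 L10447
theorem L479405 : N4306 = N827 := eqc rfl L479404 rfl
theorem L479417 : sm gj N827 = N3007 := trfs L479405 L37077 rfl
theorem L479418 : N3007 = N575 := eqes L479417 L7312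
theorem L479419 : N3007 = N575 := eqc rfl L479418 rfl
theorem L479431 : sm gg N575 = N2103 := trfs L479419 L26004 rfl
theorem L479432 : N2103 = N397 := eqes L479431 L5093
theorem L479433 : N2103 = N397 := eqc rfl L479432 rfl
theorem L479450 : sm gi N397 = N1463 := trfs L479433 (flp_i L18248) rfl
theorem L479451 : N1463 = N578 := eqes L479450 (flp_i L5121)
theorem L479452 : N1463 = N578 := eqc rfl L479451 rfl
theorem L479457 : sm gc N578 = N1020 := trfs L479452 L12756 rfl
theorem L479458 : N1020 = N835 := eqes L479457 L7379
theorem L479459 : N1020 = N835 := eqc rfl L479458 rfl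
theorem L479467 : sm gh N578 = N1019 := trfs L479452 (flp_h L12752) rfl
theorem L479468 : N1019 = N834 := eqes L479467 (flp_h L7377)
theorem L479469 : N1019 = N834 := eqc rfl L479468 rfl
theorem L479474 : sm gc N834 = N706 := trfs L479469 (flp_c L8916) rfl
theorem L479475 : N706 = N1198 := eqes L479474 L10538
theorem L479476 : N1198 = N706 := (eqc rfl L479475 rfl).symm
theorem L479477 : sm gd N834 = N724 := trfs L479469 L8923 rfl
theorem L479478 : N724 = N577 := eqes L479477 (flp_d L7370)
theorem L479479 : N724 = N577 := eqc rfl L479478 rfl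
theorem L479485 : sm ga N577 = N501 := trfs L479479 L6349 rfl
theorem L479486 : N501 = N444 := eqes L479485 L5109
theorem L479487 : N501 = N444 := eqc rfl L479486 rfl
theorem L479499 : sm gh N577 = N1044 := trfs L479479 L9130 rfl
theorem L479500 : N1044 = N395 := eqes L479499 (flp_h L5107)
theorem L479501 : N1044 = N395 := eqc rfl L479500 rfl
theorem L479521 : sm gi N395 = N1497 := trfs L479501 L13047 rfl
theorem L479522 : N1497 = N267 := eqes L479521 (flp_i L3502)
theorem L479523 : N1497 = N267 := eqc rfl L479522 rfl
theorem L479531 : sm gd N267 = N2148 := trfs L479523 (flp_d L18647) rfl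
theorem L479532 : N2148 = N181 := eqes L479531 (flp_d L2372)
theorem L479533 : N2148 = N181 := eqc rfl L479532 rfl
theorem L479554 : sm gh N181 = N3086 := trfs L479533 L26671 rfl
theorem L479555 : N3086 = N123 := eqes L479554 (flp_h L1617)
theorem L479556 : N3086 = N123 := eqc rfl L479555 rfl
theorem L479574 : sm gi N123 = N4359 := trfs L479556 (flp_i L37515) rfl
theorem L479575 : N4359 = N182 := eqes L479574 L1626
theorem L479576 : N4359 = N182 := eqc rfl L479575 rfl
theorem L479589 : sm gg N182 = N6267 := trfs L479576 (flp_g L53749) rfl
theorem L479590 : N6267 = N266 := eqes L479589 (flp_g L2370)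
theorem L479591 : N6267 = N266 := eqc rfl L479590 rfl
theorem L479606 : sm gj N266 = N9013 := trfs L479591 (flp_j L77026) rfl
theorem L479607 : N9013 = N390 := eqes L479606 (flp_j L3464)
theorem L479608 : N9013 = N390 := eqc rfl L479607 rfl
theorem L479625 : sm gi N390 = N6320 := trfs L479608 L77029 rfl
theorem L479626 : N6320 = N264 := eqes L479625 (flp_i L3455)
theorem L479627 : N6320 = N264 := eqc rfl L479626 rfl
theorem L479642 : sm gh N264 = N4375 := trfs L479627 (flp_h L54194) rfl
theorem L479643 : N4375 = N389 := eqes L479642 L3445
theorem L479644 : N4375 = N389 := eqc rfl L479643 rfl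
theorem L479657 : sm gi N389 = N3032 := trfs L479644 (flp_i L37658) rfl
theorem L479658 : N3032 = N570 := eqes L479657 L5039
theorem L479659 : N3032 = N570 := eqc rfl L479658 rfl
theorem L479671 : sm gj N570 = N2131 := trfs L479659 L26211 rfl
theorem L479672 : N2131 = N392 := eqes L479671 L5047
theorem L479673 : N2131 = N392 := eqc rfl L479672 rfl
theorem L479690 : sm gh N392 = N3006 := trfs L479673 (flp_h L25996) rfl
theorem L479691 : N3006 = N574 := eqes L479690 L5078
theorem L479692 : N3006 = N574 := eqc rfl L479691 rfl
theorem L479703 : sm gf N574 = N4335 := trfs L479692 (flp_f L37325) rfl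
theorem L479704 : N4335 = N822 := eqes L479703 (flp_f L7261)
theorem L479705 : N4335 = N822 := eqc rfl L479704 rfl
theorem L479721 : sm gi N822 = N6264 := trfs L479705 L53718 rfl
theorem L479722 : N6264 = N568 := eqes L479721 L7264
theorem L479723 : N6264 = N568 := eqc rfl L479722 rfl
theorem L479735 : sm gj N568 = N9010 := trfs L479723 (flp_j L76999) rfl
theorem L479736 : N9010 = N818 := eqes L479735 (flp_j L7226)
theorem L479737 : N9010 = N818 := eqc rfl L479736 rfl
theorem L479747 : sm gg N818 = N13066 := trfs L479737 (flp_g L111284) rfl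
theorem L479748 : N13066 = N1172 := eqes L479747 (flp_g L10302)
theorem L479749 : N13066 = N1172 := eqc rfl L479748 rfl
theorem L479764 : sm gi N1172 = N9007 := trfs L479749 (flp_i L111276) rfl
theorem L479765 : N9007 = N1683 := eqes L479764 (flp_i L14717)
theorem L479766 : N9007 = N1683 := eqc rfl L479765 rfl
theorem L479777 : sm gh N1683 = N6314 := trfs L479766 L76968 rfl
theorem L479778 : N6314 = N1171 := eqes L479777 (flp_h L14707)
theorem L479779 : N6314 = N1171 := eqc rfl L479778 rfl
theorem L479783 : sm gb N1171 = N9123 := trfs L479779 (flp_b L77925) rfl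
theorem L479784 : N9123 = N1563 := eqes L479783 (flp_b L13643)
theorem L479785 : N9123 = N1563 := eqc rfl L479784 rfl
theorem L479809 : sm gi N1563 = N13228 := trfs L479785 L112621 rfl
theorem L479810 : N13228 = N1090 := eqes L479809 (flp_i L13640)
theorem L479811 : N13228 = N1090 := eqc rfl L479810 rfl
theorem L479826 : sm gh N1090 = N19221 := trfs L479811 L163189 rfl
theorem L479827 : N19221 = N758 := eqes L479826 (flp_h L9550)
theorem L479828 : N19221 = N758 := eqc rfl L479827 rfl
theorem L479845 : sm gi N758 = N27581 := trfs L479828 (flp_i L233608) rfl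
theorem L479846 : N27581 = N1091 := eqes L479845 L9560
theorem L479847 : N27581 = N1091 := eqc rfl L479846 rfl
theorem L479858 : sm gg N1091 = N18965 := trfs L479847 L233604 rfl
theorem L479859 : N18965 = N760 := eqes L479858 L9568
theorem L479860 : N18965 = N760 := eqc rfl L479859 rfl
theorem L479873 : sm gj N760 = N13138 := trfs L479860 L161052 rfl
theorem L479874 : N13138 = N527 := eqes L479873 L6695
theorem L479875 : N13138 = N527 := eqc rfl L479874 rfl
theorem L479890 : sm gi N527 = N9216 := trfs L479875 L111889 rfl
theorem L479891 : N9216 = N360 := eqes L479890 (flp_i L4642)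
theorem L479892 : N9216 = N360 := eqc rfl L479891 rfl
theorem L479909 : sm gh N360 = N6366 := trfs L479892 (flp_h L78738) rfl
theorem L479910 : N6366 = N526 := eqes L479909 L4633
theorem L479911 : N6366 = N526 := eqc rfl L479910 rfl
theorem L479930 : sm gi N526 = N4408 := trfs L479911 (flp_i L54592) rfl
theorem L479931 : N4408 = N762 := eqes L479930 L6707
theorem L479932 : N4408 = N762 := eqc rfl L479931 rfl
theorem L479941 : sm ge N762 = N6365 := trfs L479932 L54586 rfl
theorem L479942 : N6365 = N762 := eqes L479941 L6712
theorem L479943 : N6365 = N762 := eqc rfl L479942 rfl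
theorem L479958 : sm gj N762 = N9126 := trfs L479943 (flp_j L77956) rfl
theorem L479959 : N9126 = N1093 := eqes L479958 (flp_j L9590)
theorem L479960 : N9126 = N1093 := eqc rfl L479959 rfl
theorem L479974 : sm gh N1093 = N13048 := trfs L479960 (flp_h L111113) rfl
theorem L479975 : N13048 = N1567 := eqes L479974 L13683
theorem L479976 : N13048 = N1567 := eqc rfl L479975 rfl
theorem L479996 : sm gi N1567 = N18964 := trfs L479976 L161036 rfl
theorem L479997 : N18964 = N1094 := eqes L479996 L13693
theorem L479998 : N18964 = N1094 := eqc rfl L479997 rfl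
theorem L480009 : sm gg N1094 = N27580 := trfs L479998 (flp_g L233595) rfl
theorem L480010 : N27580 = N1564 := eqes L480009 (flp_g L13657)
theorem L480011 : N27580 = N1564 := eqc rfl L480010 rfl
theorem L480021 : sm gf N1564 = N40182 := trfs L480011 (flp_f L339463) rfl
theorem L480022 : N40182 = N1564 := eqes L480021 L13656
theorem L480023 : N40182 = N1564 := eqc rfl L480022 rfl
theorem L480033 : sm gi N1564 = N27579 := trfs L480023 (flp_i L339457) rfl
theorem L480034 : N27579 = N2246 := eqes L480033 (flp_i L19520)
theorem L480035 : N27579 = N2246 := eqc rfl L480034 rfl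
theorem L480048 : sm gh N2246 = N19219 := trfs L480035 L233585 rfl
theorem L480049 : N19219 = N1563 := eqes L480048 (flp_h L19510)
theorem L480050 : N19219 = N1563 := eqc rfl L480049 rfl
theorem L480067 : sm gi N1563 = N27954 := trfs L480050 L236744 rfl
theorem L480068 : N27954 = N1090 := eqes L480067 (flp_i L13640)
theorem L480069 : N27954 = N1090 := eqc rfl L480068 rfl
theorem L480086 : sm gh N1090 = N40724 := trfs L480069 L344023 rfl
theorem L480087 : N40724 = N758 := eqes L480086 (flp_h L9550)
theorem L480088 : N40724 = N758 := eqc rfl L480087 rfl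
theorem L480090 : sm gb N758 = N28033 := trfs L480088 L344026 rfl
theorem L480091 : N28033 = N563 := eqes L480090 L6670
theorem L480092 : N28033 = N563 := eqc rfl L480091 rfl
theorem L480112 : sm gi N563 = N40261 := trfs L480092 (flp_i L340197) rfl
theorem L480113 : N40261 = N815 := eqes L480112 L7188
theorem L480114 : N40261 = N815 := eqc rfl L480113 rfl
theorem L480120 : sm gf N815 = N27632 := trfs L480114 L340194 rfl
theorem L480121 : N27632 = N815 := eqes L480120 L7195
theorem L480122 : N27632 = N815 := eqc rfl L480121 rfl
theorem L480134 : sm gg N815 = N18996 := trfs L480122 L234081 rfl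
theorem L480135 : N18996 = N565 := eqes L480134 L7196
theorem L480136 : N18996 = N565 := eqc rfl L480135 rfl
theorem L480154 : sm gi N565 = N13264 := trfs L480136 L161345 rfl
theorem L480155 : N13264 = N386 := eqes L480154 (flp_i L4993)
theorem L480156 : N13264 = N386 := eqc rfl L480155 rfl
theorem L480173 : sm gh N386 = N9146 := trfs L480156 (flp_h L112952) rfl
theorem L480174 : N9146 = N564 := eqes L480173 L4983
theorem L480175 : N9146 = N564 := eqc rfl L480174 rfl
theorem L480176 : sm ga N564 = N6339 := trfs L480175 L78138 rfl
theorem L480177 : N6339 = N430 := eqes L480176 L4985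
theorem L480178 : N6339 = N430 := eqc rfl L480177 rfl
theorem L480203 : sm gi N430 = N4389 := trfs L480178 (flp_i L54360) rfl
theorem L480204 : N4389 = N626 := eqes L480203 L5547
theorem L480205 : N4389 = N626 := eqc rfl L480204 rfl
theorem L480222 : sm gh N626 = N6236 := trfs L480205 (flp_h L53492) rfl
theorem L480223 : N6236 = N905 := eqes L480222 L8004
theorem L480224 : N6236 = N905 := eqc rfl L480223 rfl
theorem L480239 : sm gi N905 = N9032 := trfs L480224 L77183 rfl
theorem L480240 : N9032 = N627 := eqes L480239 L8013
theorem L480241 : N9032 = N627 := eqc rfl L480240 rfl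
theorem L480251 : sm gj N627 = N6276 := trfs L480241 L77189 rfl
theorem L480252 : N6276 = N434 := eqes L480251 L5563
theorem L480253 : N6276 = N434 := eqc rfl L480252 rfl
theorem L480264 : sm gh N434 = N9090 := trfs L480253 L77643 rfl
theorem L480265 : N9090 = N295 := eqes L480264 (flp_h L3853)
theorem L480266 : N9090 = N295 := eqc rfl L480265 rfl
theorem L480282 : sm gi N295 = N6397 := trfs L480266 L77650 rfl
theorem L480283 : N6397 = N201 := eqes L480282 (flp_i L2627)
theorem L480284 : N6397 = N201 := eqc rfl L480283 rfl
theorem L480294 : sm gf N201 = N9260 := trfs L480284 (flp_f L79088) rfl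
theorem L480295 : N9260 = N138 := eqes L480294 (flp_f L1804)
theorem L480296 : N9260 = N138 := eqc rfl L480295 rfl
theorem L480317 : sm gh N138 = N6396 := trfs L480296 (flp_h L79082) rfl
theorem L480318 : N6396 = N203 := eqes L480317 L1819
theorem L480319 : N6396 = N203 := eqc rfl L480318 rfl
theorem L480327 : sm ge N203 = N4432 := trfs L480319 L54829 rfl
theorem L480328 : N4432 = N142 := eqes L480327 L1823
theorem L480329 : N4432 = N142 := eqc rfl L480328 rfl
theorem L480344 : sm gi N142 = N3073 := trfs L480329 (flp_i L38141) rfl
theorem L480345 : N3073 = N210 := eqes L480344 L1878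
theorem L480346 : N3073 = N210 := eqc rfl L480345 rfl
theorem L480357 : sm gh N210 = N4346 := trfs L480346 (flp_h L37414) rfl
theorem L480358 : N4346 = N307 := eqes L480357 L2726
theorem L480359 : N4346 = N307 := eqc rfl L480358 rfl
theorem L480369 : sm gf N307 = N3014 := trfs L480359 (flp_f L37410) rfl
theorem L480370 : N3014 = N307 := eqes L480369 L2730
theorem L480371 : N3014 = N307 := eqc rfl L480370 rfl
theorem L480389 : sm gi N307 = N4347 := trfs L480371 L37416 rfl
theorem L480390 : N4347 = N211 := eqes L480389 L2733
theorem L480391 : N4347 = N211 := eqc rfl L480390 rfl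
theorem L480408 : sm gh N211 = N6280 := trfs L480391 L53839 rfl
theorem L480409 : N6280 = N143 := eqes L480408 (flp_h L1886)
theorem L480410 : N6280 = N143 := eqc rfl L480409 rfl
theorem L480425 : sm gi N143 = N4433 := trfs L480410 L53847 rfl
theorem L480426 : N4433 = N96 := eqes L480425 (flp_i L1286)
theorem L480427 : N4433 = N96 := eqc rfl L480426 rfl
theorem L480443 : sm gj N96 = N6343 := trfs L480427 (flp_j L54399) rfl
theorem L480444 : N6343 = N141 := eqes L480443 L1270
theorem L480445 : N6343 = N141 := eqc rfl L480444 rfl
theorem L480450 : sm gd N141 = N9185 := trfs L480445 L78468 rfl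
theorem L480451 : N9185 = N101 := eqes L480450 L1274
theorem L480452 : N9185 = N101 := eqc rfl L480451 rfl
theorem L480494 : sm gi N101 = N13107 := trfs L480452 (flp_i L111636) rfl
theorem L480495 : N13107 = N148 := eqes L480494 L1326
theorem L480496 : N13107 = N148 := eqc rfl L480495 rfl
theorem L480511 : sm gh N148 = N18732 := trfs L480496 (flp_h L159145) rfl
theorem L480512 : N18732 = N217 := eqes L480511 L1933
theorem L480513 : N18732 = N217 := eqc rfl L480512 rfl
theorem L480529 : sm gj N217 = N12977 := trfs L480513 L159141 rfl
theorem L480530 : N12977 = N149 := eqes L480529 L1941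
theorem L480531 : N12977 = N149 := eqc rfl L480530 rfl
theorem L480547 : sm gg N149 = N8991 := trfs L480531 L110529 rfl
theorem L480548 : N8991 = N103 := eqes L480547 L1343
theorem L480549 : N8991 = N103 := eqc rfl L480548 rfl
theorem L480567 : sm gh N103 = N6298 := trfs L480549 L76813 rfl
theorem L480568 : N6298 = N69 := eqes L480567 (flp_h L930)
theorem L480569 : N6298 = N69 := eqc rfl L480568 rfl
theorem L480585 : sm gi N69 = N4451 := trfs L480569 L53990 rfl
theorem L480586 : N4451 = N46 := eqes L480585 (flp_i L622)
theorem L480587 : N4451 = N46 := eqc rfl L480586 rfl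
theorem L480597 : sm gf N46 = N6421 := trfs L480587 (flp_f L55028) rfl
theorem L480598 : N6421 = N31 := eqes L480597 (flp_f L418)
theorem L480599 : N6421 = N31 := eqc rfl L480598 rfl
theorem L480616 : sm gg N31 = N9288 := trfs L480599 (flp_g L79312) rfl
theorem L480617 : N9288 = N31 := eqes L480616 L290
theorem L480618 : N9288 = N31 := eqc rfl L480617 rfl
theorem L480638 : sm gi N31 = N13210 := trfs L480618 (flp_i L112466) rfl
theorem L480639 : N13210 = N47 := eqes L480638 L426
theorem L480640 : N13210 = N47 := eqc rfl L480639 rfl
theorem L480657 : sm gh N47 = N18942 := trfs L480640 (flp_h L160839) rfl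
theorem L480658 : N18942 = N70 := eqes L480657 L631
theorem L480659 : N18942 = N70 := eqc rfl L480658 rfl
theorem L480677 : sm gj N70 = N27549 := trfs L480659 (flp_j L233318) rfl
theorem L480678 : N27549 = N70 := eqes L480677 L639
theorem L480679 : N27549 = N70 := eqc rfl L480678 rfl
theorem L480694 : sm gf N70 = N40015 := trfs L480679 (flp_f L338068) rfl
theorem L480695 : N40015 = N103 := eqes L480694 (flp_f L936)
theorem L480696 : N40015 = N103 := eqc rfl L480695 rfl
theorem L480705 : sm gh N103 = N27861 := trfs L480696 L338073 rfl
theorem L480706 : N27861 = N69 := eqes L480705 (flp_h L930)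
theorem L480707 : N27861 = N69 := eqc rfl L480706 rfl
theorem L480727 : sm gi N69 = N19501 := trfs L480707 L235952 rfl
theorem L480728 : N19501 = N46 := eqes L480727 (flp_i L622)
theorem L480729 : N19501 = N46 := eqc rfl L480728 rfl
theorem L480744 : sm gg N46 = N28140 := trfs L480729 (flp_g L238377) rfl
theorem L480745 : N28140 = N68 := eqes L480744 L614
theorem L480746 : N28140 = N68 := eqc rfl L480745 rfl
theorem L480759 : sm gj N68 = N19350 := trfs L480746 L238379 rfl
theorem L480760 : N19350 = N101 := eqes L480759 L912
theorem L480761 : N19350 = N101 := eqc rfl L480760 rfl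
theorem L480780 : sm gi N101 = N27710 := trfs L480761 (flp_i L234746) rfl
theorem L480781 : N27710 = N148 := eqes L480780 L1326
theorem L480782 : N27710 = N148 := eqc rfl L480781 rfl
theorem L480799 : sm gh N148 = N39734 := trfs L480782 (flp_h L335784) rfl
theorem L480800 : N39734 = N217 := eqes L480799 L1933
theorem L480801 : N39734 = N217 := eqc rfl L480800 rfl
theorem L480803 : sm gd N217 = N27260 := trfs L480801 (flp_d L335777) rfl
theorem L480804 : N27260 = N317 := eqes L480803 L2806
theorem L480805 : N27260 = N317 := eqc rfl L480804 rfl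
theorem L480826 : sm gh N317 = N18730 := trfs L480805 (flp_h L230967) rfl
theorem L480827 : N18730 = N449 := eqes L480826 (flp_h L3979)
theorem L480828 : N18730 = N449 := eqc rfl L480827 rfl
theorem L480842 : sm gi N449 = N12878 := trfs L480828 (flp_i L159121) rfl
theorem L480843 : N12878 = N651 := eqes L480842 (flp_i L5753)
theorem L480844 : N12878 = N651 := eqc rfl L480843 rfl
theorem L480854 : sm gj N651 = N18729 := trfs L480844 L159112 rfl
theorem L480855 : N18729 = N450 := eqes L480854 L5751
theorem L480856 : N18729 = N450 := eqc rfl L480855 rfl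
theorem L480868 : sm gg N450 = N12974 := trfs L480856 L159119 rfl
theorem L480869 : N12974 = N309 := eqes L480868 L3985
theorem L480870 : N12974 = N309 := eqc rfl L480869 rfl
theorem L480889 : sm gi N309 = N18868 := trfs L480870 L160232 rfl
theorem L480890 : N18868 = N213 := eqes L480889 L2749
theorem L480891 : N18868 = N213 := eqc rfl L480890 rfl
theorem L480909 : sm gj N213 = N12975 := trfs L480891 L160239 rfl
theorem L480910 : N12975 = N213 := eqes L480909 L1907
theorem L480911 : N12975 = N213 := eqc rfl L480910 rfl
theorem L480924 : sm gh N213 = N18869 := trfs L480911 L160241 rfl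
theorem L480925 : N18869 = N150 := eqes L480924 L1908
theorem L480926 : N18869 = N150 := eqc rfl L480925 rfl
theorem L480938 : sm gg N150 = N12976 := trfs L480926 L160246 rfl
theorem L480939 : N12976 = N218 := eqes L480938 (flp_g L1948)
theorem L480940 : N12976 = N218 := eqc rfl L480939 rfl
theorem L480943 : sm ga N218 = N18819 := trfs L480940 (flp_a L159870) rfl
theorem L480944 : N18819 = N280 := eqes L480943 (flp_a L2496)
theorem L480945 : N18819 = N280 := eqc rfl L480944 rfl
theorem L480968 : sm gj N280 = N27195 := trfs L480945 (flp_j L230420) rfl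
theorem L480969 : N27195 = N410 := eqes L480968 (flp_j L3645)
theorem L480970 : N27195 = N410 := eqc rfl L480969 rfl
theorem L480990 : sm gh N410 = N18686 := trfs L480970 (flp_h L230414) rfl
theorem L480991 : N18686 = N582 := eqes L480990 (flp_h L5158)
theorem L480992 : N18686 = N582 := eqc rfl L480991 rfl
theorem L481005 : sm gf N582 = N12848 := trfs L480992 L158750 rfl
theorem L481006 : N12848 = N582 := eqes L481005 L5154
theorem L481007 : N12848 = N582 := eqc rfl L481006 rfl
theorem L481020 : sm gd N582 = N9012 := trfs L481007 L109463 rfl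
theorem L481021 : N9012 = N399 := eqes L481020 (flp_d L5150)
theorem L481022 : N9012 = N399 := eqc rfl L481021 rfl
theorem L481029 : sm gb N399 = N13053 := trfs L481022 (flp_b L111158) rfl
theorem L481030 : N13053 = N537 := eqes L481029 (flp_b L4744)
theorem L481031 : N13053 = N537 := eqc rfl L481030 rfl
theorem L481053 : sm gi N537 = N8999 := trfs L481031 (flp_i L111155) rfl
theorem L481054 : N8999 = N774 := eqes L481053 (flp_i L6829)
theorem L481055 : N8999 = N774 := eqc rfl L481054 rfl
theorem L481070 : sm gh N774 = N6306 := trfs L481055 L76890 rfl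
theorem L481071 : N6306 = N536 := eqes L481070 (flp_h L6820)
theorem L481072 : N6306 = N536 := eqc rfl L481071 rfl
theorem L481081 : sm gi N536 = N9131 := trfs L481072 L77996 rfl
theorem L481082 : N9131 = N367 := eqes L481081 (flp_i L4731)
theorem L481083 : N9131 = N367 := eqc rfl L481082 rfl
theorem L481092 : sm gh N367 = N13240 := trfs L481083 L112733 rfl
theorem L481093 : N13240 = N249 := eqes L481092 (flp_h L3243)
theorem L481094 : N13240 = N249 := eqc rfl L481093 rfl
theorem L481104 : sm gj N249 = N9223 := trfs L481094 L112741 rfl
theorem L481105 : N9223 = N169 := eqes L481104 (flp_j L2205)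
theorem L481106 : N9223 = N169 := eqc rfl L481105 rfl
theorem L481118 : sm gi N169 = N13145 := trfs L481106 (flp_i L111950) rfl
theorem L481119 : N13145 = N251 := eqes L481118 L2223
theorem L481120 : N13145 = N251 := eqc rfl L481119 rfl
theorem L481124 : sm gd N251 = N19103 := trfs L481120 L162226 rfl
theorem L481125 : N19103 = N175 := eqes L481124 L2228
theorem L481126 : N19103 = N175 := eqc rfl L481125 rfl
theorem L481147 : sm gh N175 = N27347 := trfs L481126 (flp_h L231706) rfl
theorem L481148 : N27347 = N257 := eqes L481147 L2280
theorem L481149 : N27347 = N257 := eqc rfl L481148 rfl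
theorem L481164 : sm gj N257 = N39587 := trfs L481149 (flp_j L334489) rfl
theorem L481165 : N39587 = N376 := eqes L481164 (flp_j L3337)
theorem L481166 : N39587 = N376 := eqc rfl L481165 rfl
theorem L481170 : sm gd N376 = N27161 := trfs L481166 (flp_d L334483) rfl
theorem L481171 : N27161 = N548 := eqes L481170 L4842
theorem L481172 : N27161 = N548 := eqc rfl L481171 rfl
theorem L481182 : sm ge N548 = N18664 := trfs L481172 L230099 rfl
theorem L481183 : N18664 = N793 := eqes L481182 L6995
theorem L481184 : N18664 = N793 := eqc rfl L481183 rfl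
theorem L481198 : sm gh N793 = N12834 := trfs L481184 (flp_h L158532) rfl
theorem L481199 : N12834 = N1114 := eqes L481198 (flp_h L9791)
theorem L481200 : N12834 = N1114 := eqc rfl L481199 rfl
theorem L481205 : sm gd N1114 = N8844 := trfs L481200 L109328 rfl
theorem L481206 : N8844 = N1577 := eqes L481205 (flp_d L13788)
theorem L481207 : N8844 = N1577 := eqc rfl L481206 rfl
theorem L481227 : sm gi N1577 = N6102 := trfs L481207 (flp_i L75581) rfl
theorem L481228 : N6102 = N2262 := eqes L481227 (flp_i L19673)
theorem L481229 : N6102 = N2262 := eqc rfl L481228 rfl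
theorem L481244 : sm gh N2262 = N4221 := trfs L481229 (flp_h L52338) rfl
theorem L481245 : N4221 = N3255 := eqes L481244 (flp_h L28175)
theorem L481246 : N4221 = N3255 := eqc rfl L481245 rfl
theorem L481249 : sm gc N3255 = N5392 := trfs L481246 (flp_c L46498) rfl
theorem L481250 : N5392 = N4700 := eqes L481249 (flp_c L40492)
theorem L481251 : N5392 = N4700 := eqc rfl L481250 rfl
theorem L481258 : sm gj N3255 = N2939 := trfs L481246 L36357 rfl
theorem L481259 : N2939 = N2267 := eqes L481258 L28173
theorem L481260 : N2939 = N2267 := eqc rfl L481259 rfl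
theorem L481272 : sm gg N2267 = N2057 := trfs L481260 L25437 rfl
theorem L481273 : N2057 = N1585 := eqes L481272 L19718
theorem L481274 : N2057 = N1585 := eqc rfl L481273 rfl
theorem L481279 : sm gc N1585 = N2611 := trfs L481274 (flp_c L22760) rfl
theorem L481280 : N2611 = N2277 := eqes L481279 (flp_c L19803)
theorem L481281 : N2611 = N2277 := eqc rfl L481280 rfl
theorem L481288 : sm gh N1585 = N2964 := trfs L481274 L25634 rfl
theorem L481289 : N2964 = N1108 := eqes L481288 L13856
theorem L481290 : N2964 = N1108 := eqc rfl L481289 rfl
theorem L481306 : sm gi N1108 = N4282 := trfs L481290 L36866 rfl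
theorem L481307 : N4282 = N773 := eqes L481306 L9734
theorem L481308 : N4282 = N773 := eqc rfl L481307 rfl
theorem L481318 : sm gf N773 = N6187 := trfs L481308 (flp_f L53066) rfl
theorem L481319 : N6187 = N1111 := eqes L481318 L9752
theorem L481320 : N6187 = N1111 := eqc rfl L481319 rfl
theorem L481331 : sm gg N1111 = N8961 := trfs L481320 (flp_g L76574) rfl
theorem L481332 : N8961 = N1593 := eqes L481331 L13917
theorem L481333 : N8961 = N1593 := eqc rfl L481332 rfl
theorem L481349 : sm gi N1593 = N6185 := trfs L481333 (flp_i L76568) rfl
theorem L481350 : N6185 = N2283 := eqes L481349 (flp_i L19863)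
theorem L481351 : N6185 = N2283 := eqc rfl L481350 rfl
theorem L481366 : sm gh N2283 = N4279 := trfs L481351 (flp_h L53043) rfl
theorem L481367 : N4279 = N3283 := eqes L481366 (flp_h L28429)
theorem L481368 : N4279 = N3283 := eqc rfl L481367 rfl
theorem L481370 : sm gb N3283 = N2965 := trfs L481368 L36845 rfl
theorem L481371 : N2965 = N2483 := eqes L481370 L28425
theorem L481372 : N2965 = N2483 := eqc rfl L481371 rfl
theorem L481382 : sm gj N3283 = N6184 := trfs L481368 L53034 rfl
theorem L481383 : N6184 = N4743 := eqes L481382 L40873
theorem L481384 : N6184 = N4743 := eqc rfl L481383 rfl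
theorem L481387 : sm gb N4743 = N4283 := trfs L481384 L53037 rfl
theorem L481388 : N4283 = N3585 := eqes L481387 L40876
theorem L481389 : N4283 = N3585 := eqc rfl L481388 rfl
theorem L481395 : sm gf N4743 = N8897 := trfs L481384 (flp_f L76062) rfl
theorem L481396 : N8897 = N6825 := eqes L481395 (flp_f L58587)
theorem L481397 : N8897 = N6825 := eqc rfl L481396 rfl
theorem L481408 : sm gh N6825 = N12911 := trfs L481397 L110003 rfl
theorem L481409 : N12911 = N4725 := eqes L481408 L58589
theorem L481410 : N12911 = N4725 := eqc rfl L481409 rfl
theorem L481415 : sm gd N4725 = N18775 := trfs L481410 L159500 rfl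
theorem L481416 : N18775 = N3320 := eqes L481415 L40730
theorem L481417 : N18775 = N3320 := eqc rfl L481416 rfl
theorem L481437 : sm gi N3320 = N27324 := trfs L481417 L231505 rfl
theorem L481438 : N27324 = N2310 := eqes L481437 L28757
theorem L481439 : N27324 = N2310 := eqc rfl L481438 rfl
theorem L481454 : sm gh N2310 = N39826 := trfs L481439 L336555 rfl
theorem L481455 : N39826 = N1648 := eqes L481454 L20105
theorem L481456 : N39826 = N1648 := eqc rfl L481455 rfl
theorem L481461 : sm gj N1648 = N27329 := trfs L481456 L336562 rfl
theorem L481462 : N27329 = N1147 := eqes L481461 (flp_j L14403)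
theorem L481463 : N27329 = N1147 := eqc rfl L481462 rfl
theorem L481475 : sm gg N1147 = N18784 := trfs L481463 L231557 rfl
theorem L481476 : N18784 = N796 := eqes L481475 (flp_g L10080)
theorem L481477 : N18784 = N796 := eqc rfl L481476 rfl
theorem L481491 : sm gh N796 = N12916 := trfs L481477 (flp_h L159575) rfl
theorem L481492 : N12916 = N1119 := eqes L481491 (flp_h L9835)
theorem L481493 : N12916 = N1119 := eqc rfl L481492 rfl
theorem L481507 : sm gi N1119 = N8899 := trfs L481493 (flp_i L110044) rfl
theorem L481508 : N8899 = N1601 := eqes L481507 (flp_i L14003)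
theorem L481509 : N8899 = N1601 := eqc rfl L481508 rfl
theorem L481516 : sm ge N1601 = N12915 := trfs L481509 L110038 rfl
theorem L481517 : N12915 = N1601 := eqes L481516 L14005
theorem L481518 : N12915 = N1601 := eqc rfl L481517 rfl
theorem L481533 : sm gj N1601 = N18658 := trfs L481518 (flp_j L158479) rfl
theorem L481534 : N18658 = N2293 := eqes L481533 (flp_j L19947)
theorem L481535 : N18658 = N2293 := eqc rfl L481534 rfl
theorem L481550 : sm gi N2293 = N27153 := trfs L481535 L230019 rfl
theorem L481551 : N27153 = N1598 := eqes L481550 L19950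
theorem L481552 : N27153 = N1598 := eqc rfl L481551 rfl
theorem L481562 : sm gf N1598 = N39575 := trfs L481552 (flp_f L334375) rfl
theorem L481563 : N39575 = N1114 := eqes L481562 (flp_f L13967)
theorem L481564 : N39575 = N1114 := eqc rfl L481563 rfl
theorem L481578 : sm gj N1114 = N27335 := trfs L481564 L334377 rfl
theorem L481579 : N27335 = N778 := eqes L481578 L9789
theorem L481580 : N27335 = N778 := eqc rfl L481579 rfl
theorem L481596 : sm gg N778 = N39842 := trfs L481580 (flp_g L336688) rfl
theorem L481597 : N39842 = N542 := eqes L481596 L6866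
theorem L481598 : N39842 = N542 := eqc rfl L481597 rfl
theorem L481615 : sm gi N542 = N27334 := trfs L481598 (flp_i L336681) rfl
theorem L481616 : N27334 = N780 := eqes L481615 (flp_i L6886)
theorem L481617 : N27334 = N780 := eqc rfl L481616 rfl
theorem L481635 : sm gj N780 = N39841 := trfs L481617 L336673 rfl
theorem L481636 : N39841 = N780 := eqes L481635 L6884
theorem L481637 : N39841 = N780 := eqc rfl L481636 rfl
theorem L481643 : sm ge N780 = N27344 := trfs L481637 L336678 rfl
theorem L481644 : N27344 = N540 := eqes L481643 (flp_e L6879)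
theorem L481645 : N27344 = N540 := eqc rfl L481644 rfl
theorem L481663 : sm gi N540 = N39856 := trfs L481645 L336791 rfl
theorem L481664 : N39856 = N372 := eqes L481663 L4778
theorem L481665 : N39856 = N372 := eqc rfl L481664 rfl
theorem L481671 : sm gf N372 = N27516 := trfs L481665 L336798 rfl
theorem L481672 : N27516 = N255 := eqes L481671 L3296
theorem L481673 : N27516 = N255 := eqc rfl L481672 rfl
theorem L481688 : sm gh N255 = N40092 := trfs L481673 L338678 rfl
theorem L481689 : N40092 = N177 := eqes L481688 L2267
theorem L481690 : N40092 = N177 := eqc rfl L481689 rfl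
theorem L481697 : sm gj N177 = N27517 := trfs L481690 L338684 rfl
theorem L481698 : N27517 = N177 := eqes L481697 L1588
theorem L481699 : N27517 = N177 := eqc rfl L481698 rfl
theorem L481713 : sm gg N177 = N18914 := trfs L481699 L233053 rfl
theorem L481714 : N18914 = N177 := eqes L481713 L1587
theorem L481715 : N18914 = N177 := eqc rfl L481714 rfl
theorem L481731 : sm gf N177 = N13011 := trfs L481715 L160607 rfl
theorem L481732 : N13011 = N258 := eqes L481731 (flp_f L2296)
theorem L481733 : N13011 = N258 := eqc rfl L481732 rfl
theorem L481746 : sm gh N258 = N8968 := trfs L481733 (flp_h L110795) rfl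
theorem L481747 : N8968 = N372 := eqes L481746 (flp_h L3299)
theorem L481748 : N8968 = N372 := eqc rfl L481747 rfl
theorem L481764 : sm gi N372 = N6189 := trfs L481748 (flp_i L76624) rfl
theorem L481765 : N6189 = N540 := eqes L481764 (flp_i L4778)
theorem L481766 : N6189 = N540 := eqc rfl L481765 rfl
theorem L481777 : sm gg N540 = N8902 := trfs L481766 (flp_g L76101) rfl
theorem L481778 : N8902 = N776 := eqes L481777 (flp_g L6848)
theorem L481779 : N8902 = N776 := eqc rfl L481778 rfl
theorem L481789 : sm gf N776 = N12919 := trfs L481779 L110068 rfl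
theorem L481790 : N12919 = N776 := eqes L481789 L6847
theorem L481791 : N12919 = N776 := eqc rfl L481790 rfl
theorem L481807 : sm gj N776 = N18662 := trfs L481791 (flp_j L158517) rfl
theorem L481808 : N18662 = N1112 := eqes L481807 (flp_j L9769)
theorem L481809 : N18662 = N1112 := eqc rfl L481808 rfl
theorem L481820 : sm gg N1112 = N27159 := trfs L481809 L230074 rfl
theorem L481821 : N27159 = N1112 := eqes L481820 L9768
theorem L481822 : N27159 = N1112 := eqc rfl L481821 rfl
theorem L481831 : sm ge N1112 = N39574 := trfs L481822 (flp_e L334365) rfl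
theorem L481832 : N39574 = N1595 := eqes L481831 L13936
theorem L481833 : N39574 = N1595 := eqc rfl L481832 rfl
theorem L481846 : sm gb N1595 = N27190 := trfs L481833 L334363 rfl
theorem L481847 : N27190 = N1209 := eqes L481846 L13939
theorem L481848 : N27190 = N1209 := eqc rfl L481847 rfl
theorem L481860 : sm gg N1209 = N18682 := trfs L481848 (flp_g L230369) rfl
theorem L481861 : N18682 = N1209 := eqes L481860 L10637
theorem L481862 : N18682 = N1209 := eqc rfl L481861 rfl
theorem L481887 : sm gj N1209 = N12936 := trfs L481862 L158713 rfl
theorem L481888 : N12936 = N844 := eqes L481887 L10638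
theorem L481889 : N12936 = N844 := eqc rfl L481888 rfl
theorem L481894 : sm gc N844 = N18224 := trfs L481889 (flp_c L154977) rfl
theorem L481895 : N18224 = N1214 := eqes L481894 (flp_c L10685)
theorem L481896 : N18224 = N1214 := eqc rfl L481895 rfl
theorem L481915 : sm gi N1214 = N26552 := trfs L481896 L225156 rfl
theorem L481916 : N26552 = N846 := eqes L481915 L10690
theorem L481917 : N26552 = N846 := eqc rfl L481916 rfl
theorem L481924 : sm ge N846 = N18228 := trfs L481917 L225162 rfl
theorem L481925 : N18228 = N584 := eqes L481924 (flp_e L7479)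
theorem L481926 : N18228 = N584 := eqc rfl L481925 rfl
theorem L481942 : sm gg N584 = N26555 := trfs L481926 (flp_g L225194) rfl
theorem L481943 : N26555 = N403 := eqes L481942 L5175
theorem L481944 : N26555 = N403 := eqc rfl L481943 rfl
theorem L481964 : sm gi N403 = N18227 := trfs L481944 (flp_i L225185) rfl
theorem L481965 : N18227 = N586 := eqes L481964 (flp_i L5196)
theorem L481966 : N18227 = N586 := eqc rfl L481965 rfl
theorem L481978 : sm gj N586 = N26554 := trfs L481966 L225175 rfl
theorem L481979 : N26554 = N586 := eqes L481978 L5194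
theorem L481980 : N26554 = N586 := eqc rfl L481979 rfl
theorem L481992 : sm gg N586 = N38333 := trfs L481980 (flp_g L324394) rfl
theorem L481993 : N38333 = N843 := eqes L481992 (flp_g L7456)
theorem L481994 : N38333 = N843 := eqc rfl L481993 rfl
theorem L482001 : sm gj N843 = N26285 := trfs L481994 (flp_j L324385) rfl
theorem L482002 : N26285 = N1208 := eqes L482001 (flp_j L10627)
theorem L482003 : N26285 = N1208 := eqc rfl L482002 rfl
theorem L482013 : sm gg N1208 = N18048 := trfs L482003 (flp_g L223033) rfl
theorem L482014 : N18048 = N1208 := eqes L482013 L10626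
theorem L482015 : N18048 = N1208 := eqc rfl L482014 rfl
theorem L482034 : sm gf N1208 = N12401 := trfs L482015 (flp_f L153556) rfl
theorem L482035 : N12401 = N1208 := eqes L482034 L10625
theorem L482036 : N12401 = N1208 := eqc rfl L482035 rfl
theorem L482050 : sm gj N1208 = N8617 := trfs L482036 L105837 rfl
theorem L482051 : N8617 = N843 := eqes L482050 L10627
theorem L482052 : N8617 = N843 := eqc rfl L482051 rfl
theorem L482065 : sm gg N843 = N6018 := trfs L482052 L73764 rfl
theorem L482066 : N6018 = N586 := eqes L482065 L7456
theorem L482067 : N6018 = N586 := eqc rfl L482066 rfl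
theorem L482086 : sm gi N586 = N8737 := trfs L482067 L74704 rfl
theorem L482087 : N8737 = N403 := eqes L482086 L5196
theorem L482088 : N8737 = N403 := eqc rfl L482087 rfl
theorem L482105 : sm gh N403 = N12697 := trfs L482088 L108206 rfl
theorem L482106 : N12697 = N281 := eqes L482105 L3584
theorem L482107 : N12697 = N281 := eqc rfl L482106 rfl
theorem L482122 : sm gg N281 = N18229 := trfs L482107 (flp_g L155026) rfl
theorem L482123 : N18229 = N411 := eqes L482122 (flp_g L3653)
theorem L482124 : N18229 = N411 := eqc rfl L482123 rfl
theorem L482139 : sm gj N411 = N26287 := trfs L482124 (flp_j L223062) rfl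
theorem L482140 : N26287 = N599 := eqes L482139 (flp_j L5310)
theorem L482141 : N26287 = N599 := eqc rfl L482140 rfl
theorem L482151 : sm gd N599 = N38336 := trfs L482141 L324417 rfl
theorem L482152 : N38336 = N421 := eqes L482151 L5313
theorem L482153 : N38336 = N421 := eqc rfl L482152 rfl
theorem L482160 : sm ga N421 = N26334 := trfs L482153 L324419 rfl
theorem L482161 : N26334 = N328 := eqes L482160 L3737
theorem L482162 : N26334 = N328 := eqc rfl L482161 rfl
theorem L482181 : sm gj N328 = N18276 := trfs L482162 L223434 rfl
theorem L482182 : N18276 = N226 := eqes L482181 L2896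
theorem L482183 : N18276 = N226 := eqc rfl L482182 rfl
theorem L482200 : sm gg N226 = N12732 := trfs L482183 L155360 rfl
theorem L482201 : N12732 = N156 := eqes L482200 L2009
theorem L482202 : N12732 = N156 := eqc rfl L482201 rfl
theorem L482216 : sm gf N156 = N18523 := trfs L482202 (flp_f L157339) rfl
theorem L482217 : N18523 = N109 := eqes L482216 L1397
theorem L482218 : N18523 = N109 := eqc rfl L482217 rfl
theorem L482231 : sm gg N109 = N26964 := trfs L482218 (flp_g L228424) rfl
theorem L482232 : N26964 = N109 := eqes L482231 L985
theorem L482233 : N26964 = N109 := eqc rfl L482232 rfl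
theorem L482237 : sm ga N109 = N39244 := trfs L482233 (flp_a L331633) rfl
theorem L482238 : N39244 = N137 := eqes L482237 (flp_a L1239)
theorem L482239 : N39244 = N137 := eqc rfl L482238 rfl
theorem L482266 : sm gd N137 = N26914 := trfs L482239 (flp_d L331631) rfl
theorem L482267 : N26914 = N193 := eqes L482266 (flp_d L1736)
theorem L482268 : N26914 = N193 := eqc rfl L482267 rfl
theorem L482280 : sm gj N193 = N39243 := trfs L482268 (flp_j L331628) rfl
theorem L482281 : N39243 = N193 := eqes L482280 L1734
theorem L482282 : N39243 = N193 := eqc rfl L482281 rfl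
theorem L482288 : sm gh N193 = N26913 := trfs L482282 (flp_h L331621) rfl
theorem L482289 : N26913 = N277 := eqes L482288 (flp_h L2470)
theorem L482290 : N26913 = N277 := eqc rfl L482289 rfl
theorem L482293 : sm gb N277 = N39194 := trfs L482290 (flp_b L331178) rfl
theorem L482294 : N39194 = N407 := eqes L482293 L3614
theorem L482295 : N39194 = N407 := eqc rfl L482294 rfl
theorem L482308 : sm gi N407 = N26873 := trfs L482295 (flp_i L331176) rfl
theorem L482309 : N26873 = N591 := eqes L482308 (flp_i L5239)
theorem L482310 : N26873 = N591 := eqc rfl L482309 rfl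
theorem L482322 : sm gj N591 = N18449 := trfs L482310 (flp_j L227675) rfl
theorem L482323 : N18449 = N591 := eqes L482322 L5237
theorem L482324 : N18449 = N591 := eqc rfl L482323 rfl
theorem L482338 : sm gg N591 = N12673 := trfs L482324 (flp_g L156733) rfl
theorem L482339 : N12673 = N591 := eqes L482338 L5236
theorem L482340 : N12673 = N591 := eqc rfl L482339 rfl
theorem L482357 : sm gi N591 = N18450 := trfs L482340 L156739 rfl
theorem L482358 : N18450 = N407 := eqes L482357 L5239
theorem L482359 : N18450 = N407 := eqc rfl L482358 rfl
theorem L482372 : sm gh N407 = N26875 := trfs L482359 L227689 rfl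
theorem L482373 : N26875 = N283 := eqes L482372 L3619
theorem L482374 : N26875 = N283 := eqc rfl L482373 rfl
theorem L482385 : sm ge N283 = N39181 := trfs L482374 (flp_e L331081) rfl
theorem L482386 : N39181 = N417 := eqes L482385 L3700
theorem L482387 : N39181 = N417 := eqc rfl L482386 rfl
theorem L482393 : sm gf N417 = N26865 := trfs L482387 L331083 rfl
theorem L482394 : N26865 = N610 := eqes L482393 L5401
theorem L482395 : N26865 = N610 := eqc rfl L482394 rfl
theorem L482412 : sm gg N610 = N39171 := trfs L482395 (flp_g L331000) rfl
theorem L482413 : N39171 = N883 := eqes L482412 L7808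
theorem L482414 : N39171 = N883 := eqc rfl L482413 rfl
theorem L482424 : sm gh N883 = N26857 := trfs L482414 (flp_h L330994) rfl
theorem L482425 : N26857 = N1244 := eqes L482424 (flp_h L10955)
theorem L482426 : N26857 = N1244 := eqc rfl L482425 rfl
theorem L482446 : sm gi N1244 = N18438 := trfs L482426 (flp_i L227547) rfl
theorem L482447 : N18438 = N1780 := eqes L482446 (flp_i L15590)
theorem L482448 : N18438 = N1780 := eqc rfl L482447 rfl
theorem L482470 : sm gj N1780 = N26852 := trfs L482448 (flp_j L227513) rfl
theorem L482471 : N26852 = N2568 := eqes L482470 L22364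
theorem L482472 : N26852 = N2568 := eqc rfl L482471 rfl
theorem L482482 : sm ge N2568 = N18435 := trfs L482472 (flp_e L227508) rfl
theorem L482483 : N18435 = N3668 := eqes L482482 (flp_e L31786)
theorem L482484 : N18435 = N3668 := eqc rfl L482483 rfl
theorem L482508 : sm gi N3668 = N26853 := trfs L482484 L227516 rfl
theorem L482509 : N26853 = N2553 := eqes L482508 L31789
theorem L482510 : N26853 = N2553 := eqc rfl L482509 rfl
theorem L482520 : sm gf N2553 = N38660 := trfs L482510 (flp_f L326961) rfl
theorem L482521 : N38660 = N3652 := eqes L482520 (flp_f L31651)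
theorem L482522 : N38660 = N3652 := eqc rfl L482521 rfl
theorem L482538 : sm gj N3652 = N22841 := trfs L482522 L326963 L444070
theorem L482539 : N22841 = N2526 := eqes L482538 (flp_j L31646)
theorem L482540 : N22841 = N2526 := eqc rfl L482539 rfl
theorem L482555 : sm gi N2526 = N18197 := trfs L482540 L282400 L444094
theorem L482556 : N18197 = N3636 := eqes L482555 (flp_i L31516)
theorem L482557 : N18197 = N3636 := eqc rfl L482556 rfl
theorem L482570 : sm gg N3636 = N12504 := trfs L482557 L154756 rfl
theorem L482571 : N12504 = N2516 := eqes L482570 (flp_g L31510)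
theorem L482572 : N12504 = N2516 := eqc rfl L482571 rfl
theorem L482594 : sm gj N2516 = N18031 := trfs L482572 (flp_j L153405) rfl
theorem L482595 : N18031 = N3615 := eqes L482594 (flp_j L31319)
theorem L482596 : N18031 = N3615 := eqc rfl L482595 rfl
theorem L482617 : sm gi N3615 = N22695 := trfs L482596 L222786 L444073
theorem L482618 : N22695 = N2509 := eqes L482617 L31322
theorem L482619 : N22695 = N2509 := eqc rfl L482618 rfl
theorem L482638 : sm gh N2509 = N15592 := trfs L482619 (flp_h L192879) rfl
theorem L482639 : N15592 = N1796 := eqes L482638 L21857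
theorem L482640 : N15592 = N1796 := eqc rfl L482639 rfl
theorem L482654 : sm gj N1796 = N10791 := trfs L482640 L132866 rfl
theorem L482655 : N10791 = N1255 := eqes L482654 L15732
theorem L482656 : N10791 = N1255 := eqc rfl L482655 rfl
theorem L482662 : sm gc N1255 = N15685 := trfs L482656 (flp_c L133749) rfl
theorem L482663 : N15685 = N1644 := eqes L482662 (flp_c L14376)
theorem L482664 : N15685 = N1644 := eqc rfl L482663 rfl
theorem L482688 : sm gh N1644 = N22835 := trfs L482664 L194197 rfl
theorem L482689 : N22835 = N2306 := eqes L482688 (flp_h L20072)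
theorem L482690 : N22835 = N2306 := eqc rfl L482689 rfl
theorem L482703 : sm gf N2306 = N15686 := trfs L482690 L194203 rfl
theorem L482704 : N15686 = N1603 := eqes L482703 (flp_f L20066)
theorem L482705 : N15686 = N1603 := eqc rfl L482704 rfl
theorem L482728 : sm gj N1603 = N22692 := trfs L482705 (flp_j L192858) rfl
theorem L482729 : N22692 = N2295 := eqes L482728 (flp_j L19971)
theorem L482730 : N22692 = N2295 := eqc rfl L482729 rfl
theorem L482749 : sm gi N2295 = N18033 := trfs L482730 L443980 rfl
theorem L482750 : N18033 = N3303 := eqes L482749 (flp_i L28598)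
theorem L482751 : N18033 = N3303 := eqc rfl L482750 rfl
theorem L482767 : sm gj N3303 = N12506 := trfs L482751 L153419 rfl
theorem L482768 : N12506 = N2300 := eqes L482767 L28595
theorem L482769 : N12506 = N2300 := eqc rfl L482768 rfl
theorem L482785 : sm gg N2300 = N8721 := trfs L482769 L106676 rfl
theorem L482786 : N8721 = N1608 := eqes L482785 L20017
theorem L482787 : N8721 = N1608 := eqc rfl L482786 rfl
theorem L482806 : sm gf N1608 = N12668 := trfs L482787 (flp_f L107956) rfl
theorem L482807 : N12668 = N2313 := eqes L482806 L20125
theorem L482808 : N12668 = N2313 := eqc rfl L482807 rfl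
theorem L482832 : sm gi N2313 = N15829 := trfs L482808 L156670 L443817
theorem L482833 : N15829 = N1614 := eqes L482832 L20133
theorem L482834 : N15829 = N1614 := eqc rfl L482833 rfl
theorem L482855 : sm gh N1614 = N10884 := trfs L482834 (flp_h L134995) rfl
theorem L482856 : N10884 = N1150 := eqes L482855 L14119
theorem L482857 : N10884 = N1150 := eqc rfl L482856 rfl
theorem L482874 : sm gg N1150 = N15828 := trfs L482857 L134988 rfl
theorem L482875 : N15828 = N1654 := eqes L482874 L14454
theorem L482876 : N15828 = N1654 := eqc rfl L482875 rfl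
theorem L482893 : sm gj N1654 = N23047 := trfs L482876 L196022 rfl
theorem L482894 : N23047 = N2384 := eqes L482893 L20717
theorem L482895 : N23047 = N2384 := eqc rfl L482894 rfl
theorem L482913 : sm gf N2384 = N33278 := trfs L482895 (flp_f L282295) rfl
theorem L482914 : N33278 = N3420 := eqes L482913 (flp_f L29582)
theorem L482915 : N33278 = N3420 := eqc rfl L482914 rfl
theorem L482923 : sm gd N3420 = N44332 := trfs L482915 (flp_d L375085) rfl
theorem L482924 : N44332 = N4945 := eqes L482923 (flp_d L42565)
theorem L482925 : N44332 = N4945 := eqc rfl L482924 rfl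
theorem L482935 : sm gj N4945 = N30404 := trfs L482925 (flp_j L375079) rfl
theorem L482936 : N30404 = N3417 := eqes L482935 (flp_j L42561)
theorem L482937 : N30404 = N3417 := eqc rfl L482936 rfl
theorem L482954 : sm gh N3417 = N44333 := trfs L482937 L375090 rfl
theorem L482955 : N44333 = N4946 := eqes L482954 L42570
theorem L482956 : N44333 = N4946 := eqc rfl L482955 rfl
theorem L482967 : sm gg N4946 = N30405 := trfs L482956 L375098 rfl
theorem L482968 : N30405 = N3418 := eqes L482967 L42576
theorem L482969 : N30405 = N3418 := eqc rfl L482968 rfl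
theorem L482992 : sm gi N3418 = N44335 := trfs L482969 L375110 rfl
theorem L482993 : N44335 = N4947 := eqes L482992 L42578
theorem L482994 : N44335 = N4947 := eqc rfl L482993 rfl
theorem L483001 : sm gf N4947 = N30407 := trfs L482994 L375116 rfl
theorem L483002 : N30407 = N3419 := eqes L483001 L42582
theorem L483003 : N30407 = N3419 := eqc rfl L483002 rfl
theorem L483021 : sm gj N3419 = N44158 := trfs L483003 (flp_j L373488) rfl
theorem L483022 : N44158 = N4923 := eqes L483021 (flp_j L42376)
theorem L483023 : N44158 = N4923 := eqc rfl L483022 rfl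
theorem L483035 : sm gi N4923 = N30287 := trfs L483023 (flp_i L373480) rfl
theorem L483036 : N30287 = N3403 := eqes L483035 (flp_i L42370)
theorem L483037 : N30287 = N3403 := eqc rfl L483036 rfl
theorem L483054 : sm gh N3403 = N20801 := trfs L483037 (flp_h L256788) rfl
theorem L483055 : N20801 = N2357 := eqes L483054 (flp_h L29431)
theorem L483056 : N20801 = N2357 := eqc rfl L483055 rfl
theorem L483072 : sm gj N2357 = N14354 := trfs L483056 L176790 rfl
theorem L483073 : N14354 = N1643 := eqes L483072 L20496
theorem L483074 : N14354 = N1643 := eqc rfl L483073 rfl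
theorem L483088 : sm gg N1643 = N9937 := trfs L483074 L122356 rfl
theorem L483089 : N9937 = N1149 := eqes L483088 L14368
theorem L483090 : N9937 = N1149 := eqc rfl L483089 rfl
theorem L483106 : sm gh N1149 = N14433 := trfs L483090 L123021 rfl
theorem L483107 : N14433 = N1653 := eqes L483106 L14448
theorem L483108 : N14433 = N1653 := eqc rfl L483107 rfl
theorem L483123 : sm gf N1653 = N20998 := trfs L483108 (flp_f L178520) rfl
theorem L483124 : N20998 = N2382 := eqes L483123 (flp_f L20707)
theorem L483125 : N20998 = N2382 := eqc rfl L483124 rfl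
theorem L483147 : sm gi N2382 = N30584 := trfs L483125 L259384 rfl
theorem L483148 : N30584 = N3443 := eqes L483147 L29766
theorem L483149 : N30584 = N3443 := eqc rfl L483148 rfl
theorem L483166 : sm gg N3443 = N44601 := trfs L483149 (flp_g L377322) rfl
theorem L483167 : N44601 = N4981 := eqes L483166 (flp_g L42864)
theorem L483168 : N44601 = N4981 := eqc rfl L483167 rfl
theorem L483174 : sm gc N4981 = N30593 := trfs L483168 L377320 rfl
theorem L483175 : N30593 = N7203 := eqes L483174 (flp_c L61744)
theorem L483176 : N30593 = N7203 := eqc rfl L483175 rfl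
theorem L483183 : sm gd N7203 = N21050 := trfs L483176 L259475 rfl
theorem L483184 : N21050 = N10454 := eqes L483183 (flp_d L89293)
theorem L483185 : N21050 = N10454 := eqc rfl L483184 rfl
theorem L483197 : sm gi N7203 = N21004 := trfs L483176 (flp_i L259470) rfl
theorem L483198 : N21004 = N4970 := eqes L483197 (flp_i L61741)
theorem L483199 : N21004 = N4970 := eqc rfl L483198 rfl
theorem L483209 : sm gj N4970 = N30592 := trfs L483199 (flp_j L259466) rfl
theorem L483210 : N30592 = N7201 := eqes L483209 (flp_j L61732)
theorem L483211 : N30592 = N7201 := eqc rfl L483210 rfl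
theorem L483226 : sm gf N7201 = N44343 := trfs L483211 (flp_f L375188) rfl
theorem L483227 : N44343 = N10386 := eqes L483226 (flp_f L88730)
theorem L483228 : N44343 = N10386 := eqc rfl L483227 rfl
theorem L483236 : sm gd N10386 = N30456 := trfs L483228 L375192 rfl
theorem L483237 : N30456 = N15100 := eqes L483236 L128597
theorem L483238 : N30456 = N15100 := eqc rfl L483237 rfl
theorem L483249 : sm gg N15100 = N44207 := trfs L483238 (flp_g L373968) rfl
theorem L483250 : N44207 = N21875 := eqes L483249 (flp_g L185815)
theorem L483251 : N44207 = N21875 := eqc rfl L483250 rfl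
theorem L483256 : sm gi N15100 = N44411 := trfs L483238 L375782 rfl
theorem L483257 : N44411 = N21987 := eqes L483256 L186750
theorem L483258 : N44411 = N21987 := eqc rfl L483257 rfl
theorem L483259 : sm ga N21987 = N30480 := trfs L483258 L375784 rfl
theorem L483260 : N30480 = N31980 := eqes L483259 (flp_a L270966)
theorem L483261 : N31980 = N30480 := (eqc rfl L483260 rfl).symm
theorem L483263 : sm gf N21987 = N30660 := trfs L483258 L375787 rfl
theorem L483264 : N30660 = N15196 := eqes L483263 L186755
theorem L483265 : N30660 = N15196 := eqc rfl L483264 rfl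
theorem L483266 : sm gj N21987 = N30457 := trfs L483258 L375789 rfl
theorem L483267 : N30457 = N15103 := eqes L483266 L186757
theorem L483268 : N30457 = N15103 := eqc rfl L483267 rfl
theorem L483269 : sm gh N21987 = N30524 := trfs L483258 L375791 rfl
theorem L483270 : N30524 = N32046 := eqes L483269 L271476
theorem L483271 : N32046 = N30524 := (eqc rfl L483270 rfl).symm
theorem L483273 : sm gc N30524 = N45415 := trfs L483271 (flp_c L384089) rfl
theorem L483274 : N45415 = N44493 := eqes L483273 (flp_c L376456)
theorem L483275 : N45415 = N44493 := eqc rfl L483274 rfl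
theorem L483283 : sm gh N30524 = N21987 := trfs L483271 (flp_h L271476) rfl
theorem L483285 : sm gi N30524 = N24170 := trfs L483271 L271484 rfl
theorem L483286 : N24170 = N20958 := eqes L483285 (flp_i L258904)
theorem L483287 : N24170 = N20958 := eqc rfl L483286 rfl
theorem L483303 : sm gj N20958 = N16606 := trfs L483287 L205492 rfl
theorem L483304 : N16606 = N14405 := eqes L483303 L178203
theorem L483305 : N16606 = N14405 := eqc rfl L483304 rfl
theorem L483312 : sm gf N14405 = N11472 := trfs L483305 L141627 rfl
theorem L483313 : N11472 = N9988 := eqes L483312 L122799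
theorem L483314 : N11472 = N9988 := eqc rfl L483313 rfl
theorem L483315 : sm gg N14405 = N11428 := trfs L483305 L141629 rfl
theorem L483316 : N11428 = N9917 := eqes L483315 L122801
theorem L483317 : N11428 = N9917 := eqc rfl L483316 rfl
theorem L483328 : sm gi N9917 = N15106 := trfs L483317 (flp_i L128650) rfl
theorem L483329 : N15106 = N14406 := eqes L483328 L122804
theorem L483330 : N15106 = N14406 := eqc rfl L483329 rfl
theorem L483339 : sm gh N14406 = N10390 := trfs L483330 (flp_h L128644) rfl
theorem L483340 : N10390 = N20914 := eqes L483339 (flp_h L177833)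
theorem L483341 : N20914 = N10390 := (eqc rfl L483340 rfl).symm
theorem L483351 : sm gh N10390 = N14406 := trfs L483341 L177833 rfl
theorem L483378 : sm gi N9988 = N15199 := trfs L483314 (flp_i L129421) rfl
theorem L483379 : N15199 = N14512 := eqes L483378 L123702
theorem L483380 : N15199 = N14512 := eqc rfl L483379 rfl
theorem L483383 : sm gc N14512 = N21555 := trfs L483380 (flp_c L183138) rfl
theorem L483384 : N21555 = N21104 := eqes L483383 (flp_c L179441)
theorem L483385 : N21555 = N21104 := eqc rfl L483384 rfl
theorem L483387 : sm ge N14512 = N22126 := trfs L483380 (flp_e L187896) rfl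
theorem L483388 : N22126 = N21114 := eqes L483387 (flp_e L179526)
theorem L483389 : N22126 = N21114 := eqc rfl L483388 rfl
theorem L483401 : sm gf N21114 = N32243 := trfs L483389 (flp_f L273129) rfl
theorem L483402 : N32243 = N30754 := eqes L483401 (flp_f L260864)
theorem L483403 : N32243 = N30754 := eqc rfl L483402 rfl
theorem L483404 : sm gg N21114 = N15202 := trfs L483389 L187898 rfl
theorem L483405 : N15202 = N14510 := eqes L483404 L179528
theorem L483406 : N15202 = N14510 := eqc rfl L483405 rfl
theorem L483407 : sm gj N21114 = N32240 := trfs L483389 (flp_j L273108) rfl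
theorem L483408 : N32240 = N30756 := eqes L483407 (flp_j L260884)
theorem L483409 : N32240 = N30756 := eqc rfl L483408 rfl
theorem L483410 : sm gh N21114 = N15198 := trfs L483389 (flp_h L187893) rfl
theorem L483411 : N15198 = N30657 := eqes L483410 (flp_h L260047)
theorem L483412 : N30657 = N15198 := (eqc rfl L483411 rfl).symm
theorem L483418 : sm gd N15198 = N44712 := trfs L483412 (flp_d L378325) rfl
theorem L483419 : N44712 = N22110 := eqes L483418 (flp_d L187776)
theorem L483420 : N44712 = N22110 := eqc rfl L483419 rfl
theorem L483422 : sm gf N15198 = N44708 := trfs L483412 (flp_f L378288) rfl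
theorem L483423 : N44708 = N22125 := eqes L483422 (flp_f L187891)
theorem L483424 : N44708 = N22125 := eqc rfl L483423 rfl
theorem L483431 : sm gh N15198 = N21114 := trfs L483412 L260047 rfl
theorem L483433 : sm gi N15198 = N21046 := trfs L483412 (flp_i L260038) rfl
theorem L483434 : N21046 = N10453 := eqes L483433 (flp_i L129408)
theorem L483435 : N21046 = N10453 := eqc rfl L483434 rfl
theorem L483442 : sm gd N10453 = N30656 := trfs L483435 L260030 rfl
theorem L483443 : N30656 = N15187 := eqes L483442 (flp_d L129333)
theorem L483444 : N30656 = N15187 := eqc rfl L483443 rfl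
theorem L483446 : sm gf N10453 = N30654 := trfs L483435 (flp_f L260018) rfl
theorem L483447 : N30654 = N15197 := eqes L483446 L129403
theorem L483448 : N30654 = N15197 := eqc rfl L483447 rfl
theorem L483455 : sm gh N10453 = N14463 := trfs L483435 (flp_h L178946) rfl
theorem L483456 : N14463 = N7909 := eqes L483455 L89288
theorem L483457 : N14463 = N7909 := eqc rfl L483456 rfl
theorem L483461 : sm gc N7909 = N21036 := trfs L483457 (flp_c L178859) rfl
theorem L483462 : N21036 = N11246 := eqes L483461 (flp_c L96221)
theorem L483463 : N21036 = N11246 := eqc rfl L483462 rfl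
theorem L483466 : sm gf N7909 = N21044 := trfs L483457 L178927 rfl
theorem L483467 : N21044 = N11470 := eqes L483466 L98145
theorem L483468 : N21044 = N11470 := eqc rfl L483467 rfl
theorem L483469 : sm gg N7909 = N9956 := trfs L483457 (flp_g L123283) rfl
theorem L483470 : N9956 = N5465 := eqes L483469 L67948
theorem L483471 : N9956 = N5465 := eqc rfl L483470 rfl
theorem L483472 : sm gj N7909 = N21045 := trfs L483457 L178935 rfl
theorem L483473 : N21045 = N11468 := eqes L483472 (flp_j L98134)
theorem L483474 : N21045 = N11468 := eqc rfl L483473 rfl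
theorem L483475 : sm gi N7909 = N9985 := trfs L483457 L123291 rfl
theorem L483476 : N9985 = N11471 := eqes L483475 L98149
theorem L483477 : N11471 = N9985 := (eqc rfl L483476 rfl).symm
theorem L483493 : sm gj N9985 = N16661 := trfs L483477 (flp_j L142062) rfl
theorem L483494 : N16661 = N14507 := eqes L483493 L123659
theorem L483495 : N16661 = N14507 := eqc rfl L483494 rfl
theorem L483497 : sm gi N9985 = N7909 := trfs L483477 (flp_i L98149) rfl
theorem L483504 : sm gf N14507 = N24241 := trfs L483495 (flp_f L206054) rfl
theorem L483505 : N24241 = N21110 := eqes L483504 (flp_f L179493)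
theorem L483506 : N24241 = N21110 := eqc rfl L483505 rfl
theorem L483508 : sm gh N14507 = N24242 := trfs L483495 L206058 rfl
theorem L483509 : N24242 = N21112 := eqes L483508 L179502
theorem L483510 : N24242 = N21112 := eqc rfl L483509 rfl
theorem L483524 : sm gf N21112 = N35307 := trfs L483510 (flp_f L299230) rfl
theorem L483525 : N35307 = N30752 := eqes L483524 (flp_f L260847)
theorem L483526 : N35307 = N30752 := eqc rfl L483525 rfl
theorem L483531 : sm gj N30752 = N24245 := trfs L483526 L299232 rfl
theorem L483532 : N24245 = N21111 := eqes L483531 L260849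
theorem L483533 : N24245 = N21111 := eqc rfl L483532 rfl
theorem L483539 : sm gc N21111 = N34726 := trfs L483533 (flp_c L294387) rfl
theorem L483540 : N34726 = N30734 := eqes L483539 (flp_c L260693)
theorem L483541 : N34726 = N30734 := eqc rfl L483540 rfl
theorem L483549 : sm gg N21111 = N35310 := trfs L483533 (flp_g L299255) rfl
theorem L483550 : N35310 = N28989 := eqes L483549 (flp_g L245710)
theorem L483551 : N35310 = N28989 := eqc rfl L483550 rfl
theorem L483556 : sm gh N28989 = N24244 := trfs L483551 (flp_h L299250) rfl
theorem L483557 : N24244 = N19926 := eqes L483556 (flp_h L245703)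
theorem L483558 : N24244 = N19926 := eqc rfl L483557 rfl
theorem L483563 : sm gc N19926 = N34725 := trfs L483558 (flp_c L294379) rfl
theorem L483564 : N34725 = N28975 := eqes L483563 (flp_c L245592)
theorem L483565 : N34725 = N28975 := eqc rfl L483564 rfl
theorem L483567 : sm ge N19926 = N35220 := trfs L483558 (flp_e L298543) rfl
theorem L483568 : N35220 = N28867 := eqes L483567 (flp_e L244623)
theorem L483569 : N35220 = N28867 := eqc rfl L483568 rfl
theorem L483572 : sm gj N19926 = N35309 := trfs L483558 (flp_j L299248) rfl
theorem L483573 : N35309 = N28988 := eqes L483572 L245695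
theorem L483574 : N35309 = N28988 := eqc rfl L483573 rfl
theorem L483575 : sm gi N19926 = N16663 := trfs L483558 (flp_i L206072) rfl
theorem L483576 : N16663 = N28922 := eqes L483575 (flp_i L245092)
theorem L483577 : N28922 = N16663 := (eqc rfl L483576 rfl).symm
theorem L483578 : sm ga N16663 = N19897 := trfs L483577 L245088 rfl
theorem L483579 : N19897 = N24229 := eqes L483578 (flp_a L205960)
theorem L483580 : N24229 = N19897 := (eqc rfl L483579 rfl).symm
theorem L483582 : sm gc N16663 = N42120 := trfs L483577 (flp_c L356038) rfl
theorem L483583 : N42120 = N23824 := eqes L483582 (flp_c L202565)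
theorem L483584 : N42120 = N23824 := eqc rfl L483583 rfl
theorem L483586 : sm ge N16663 = N41986 := trfs L483577 (flp_e L354869) rfl
theorem L483587 : N41986 = N24171 := eqes L483586 (flp_e L205498)
theorem L483588 : N41986 = N24171 := eqc rfl L483587 rfl
theorem L483591 : sm gj N16663 = N42133 := trfs L483577 L356157 rfl
theorem L483592 : N42133 = N24243 := eqes L483591 L206066
theorem L483593 : N42133 = N24243 := eqc rfl L483592 rfl
theorem L483594 : sm gh N16663 = N42134 := trfs L483577 L356167 rfl
theorem L483595 : N42134 = N22124 := eqes L483594 (flp_h L187884)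
theorem L483596 : N42134 = N22124 := eqc rfl L483595 rfl
theorem L483597 : sm gi N16663 = N19926 := trfs L483577 L245092 rfl
theorem L483599 : sm ga N22124 = N28945 := trfs L483596 L356169 rfl
theorem L483600 : N28945 = N32169 := eqes L483599 (flp_a L272511)
theorem L483601 : N32169 = N28945 := (eqc rfl L483600 rfl).symm
theorem L483605 : sm ga N28945 = N22124 := trfs L483601 L272511 rfl
theorem L483607 : sm gc N28945 = N45749 := trfs L483601 (flp_c L386803) rfl
theorem L483608 : N45749 = N42147 := eqes L483607 (flp_c L356301)
theorem L483609 : N45749 = N42147 := eqc rfl L483608 rfl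
theorem L483613 : sm gg N28945 = N22073 := trfs L483601 (flp_g L272509) rfl
theorem L483614 : N22073 = N21067 := eqes L483613 L245314
theorem L483615 : N22073 = N21067 := eqc rfl L483614 rfl
theorem L483622 : sm gc N21067 = N31350 := trfs L483615 (flp_c L265740) rfl
theorem L483623 : N31350 = N30667 := eqes L483622 (flp_c L260134)
theorem L483624 : N31350 = N30667 := eqc rfl L483623 rfl
theorem L483625 : sm gd N21067 = N32154 := trfs L483615 (flp_d L272385) rfl
theorem L483626 : N32154 = N30686 := eqes L483625 L260287
theorem L483627 : N32154 = N30686 := eqc rfl L483626 rfl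
theorem L483630 : sm gj N21067 = N32166 := trfs L483615 (flp_j L272486) rfl
theorem L483631 : N32166 = N30685 := eqes L483630 (flp_j L260285)
theorem L483632 : N32166 = N30685 := eqc rfl L483631 rfl
theorem L483633 : sm gh N21067 = N16650 := trfs L483615 L187466 rfl
theorem L483634 : N16650 = N14477 := eqes L483633 (flp_h L179128)
theorem L483635 : N16650 = N14477 := eqc rfl L483634 rfl
theorem L483648 : sm gc N14477 = N23783 := trfs L483635 (flp_c L202255) rfl
theorem L483649 : N23783 = N21053 := eqes L483648 (flp_c L179012)
theorem L483650 : N23783 = N21053 := eqc rfl L483649 rfl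
theorem L483655 : sm gj N14477 = N24226 := trfs L483635 (flp_j L205938) rfl
theorem L483656 : N24226 = N21066 := eqes L483655 L179119
theorem L483657 : N24226 = N21066 := eqc rfl L483656 rfl
theorem L483658 : sm gi N14477 = N24230 := trfs L483635 L205965 rfl
theorem L483659 : N24230 = N9999 := eqes L483658 L123415
theorem L483660 : N24230 = N9999 := eqc rfl L483659 rfl
theorem L483665 : sm gc N9999 = N34676 := trfs L483660 (flp_c L294018) rfl
theorem L483666 : N34676 = N14515 := eqes L483665 (flp_c L123731)
theorem L483667 : N34676 = N14515 := eqc rfl L483666 rfl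
theorem L483680 : sm ga N14515 = N23825 := trfs L483667 L294016 rfl
theorem L483681 : N23825 = N21097 := eqes L483680 (flp_a L179382)
theorem L483682 : N23825 = N21097 := eqc rfl L483681 rfl
theorem L483685 : sm gb N21097 = N33906 := trfs L483682 (flp_b L287638) rfl
theorem L483686 : N33906 = N30712 := eqes L483685 (flp_b L260493)
theorem L483687 : N33906 = N30712 := eqc rfl L483686 rfl
theorem L483689 : sm gd N21097 = N34715 := trfs L483682 (flp_d L294311) rfl
theorem L483690 : N34715 = N30728 := eqes L483689 (flp_d L260645)
theorem L483691 : N34715 = N30728 := eqc rfl L483690 rfl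
theorem L483695 : sm gj N21097 = N34722 := trfs L483682 (flp_j L294360) rfl
theorem L483696 : N34722 = N30733 := eqes L483695 L260681
theorem L483697 : N34722 = N30733 := eqc rfl L483696 rfl
theorem L483699 : sm gi N21097 = N16359 := trfs L483682 (flp_i L202569) rfl
theorem L483700 : N16359 = N30640 := eqes L483699 (flp_i L259898)
theorem L483701 : N30640 = N16359 := (eqc rfl L483700 rfl).symm
theorem L483704 : sm gb N16359 = N44666 := trfs L483701 (flp_b L377903) rfl
theorem L483705 : N44666 = N23253 := eqes L483704 (flp_b L197799)
theorem L483706 : N44666 = N23253 := eqc rfl L483705 rfl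
theorem L483708 : sm gd N16359 = N44682 := trfs L483701 (flp_d L378062) rfl
theorem L483709 : N44682 = N23815 := eqes L483708 (flp_d L202504)
theorem L483710 : N44682 = N23815 := eqc rfl L483709 rfl
theorem L483711 : sm ge N16359 = N44391 := trfs L483701 (flp_e L375618) rfl
theorem L483712 : N44391 = N23577 := eqes L483711 (flp_e L200553)
theorem L483713 : N44391 = N23577 := eqc rfl L483712 rfl
theorem L483716 : sm gj N16359 = N44687 := trfs L483701 L378104 rfl
theorem L483717 : N44687 = N23821 := eqes L483716 (flp_j L202545)
theorem L483718 : N44687 = N23821 := eqc rfl L483717 rfl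
theorem L483722 : sm gi N16359 = N21097 := trfs L483701 L259898 rfl
theorem L483730 : sm gc N23821 = N30653 := trfs L483718 L378108 rfl
theorem L483731 : N30653 = N16660 := eqes L483730 L202543
theorem L483732 : N30653 = N16660 := eqc rfl L483731 rfl
theorem L483740 : sm ge N16660 = N44404 := trfs L483732 (flp_e L375729) rfl
theorem L483741 : N44404 = N24168 := eqes L483740 (flp_e L205478)
theorem L483742 : N44404 = N24168 := eqc rfl L483741 rfl
theorem L483744 : sm gg N16660 = N44705 := trfs L483732 L378257 rfl
theorem L483745 : N44705 = N24240 := eqes L483744 L206045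
theorem L483746 : N44705 = N24240 := eqc rfl L483745 rfl
theorem L483758 : sm ga N24240 = N30684 := trfs L483746 L378259 rfl
theorem L483759 : N30684 = N35289 := eqes L483758 (flp_a L299090)
theorem L483760 : N35289 = N30684 := (eqc rfl L483759 rfl).symm
theorem L483764 : sm gi N24240 = N30751 := trfs L483746 L378263 rfl
theorem L483765 : N30751 = N35306 := eqes L483764 L299220
theorem L483766 : N35306 = N30751 := (eqc rfl L483765 rfl).symm
theorem L483771 : sm gi N30751 = N24240 := trfs L483766 (flp_i L299220) rfl
theorem L483773 : sm ga N30684 = N24240 := trfs L483760 L299090 rfl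
theorem L483778 : sm ga N24168 = N30473 := trfs L483742 L375726 rfl
theorem L483779 : N30473 = N35146 := eqes L483778 (flp_a L297974)
theorem L483780 : N35146 = N30473 := (eqc rfl L483779 rfl).symm
theorem L483783 : sm gj N24168 = N30451 := trfs L483742 (flp_j L375724) rfl
theorem L483784 : N30451 = N16604 := eqes L483783 L205476
theorem L483785 : N30451 = N16604 := eqc rfl L483784 rfl
theorem L483786 : sm gi N24168 = N30517 := trfs L483742 L375733 rfl
theorem L483787 : N30517 = N35217 := eqes L483786 L298517
theorem L483788 : N35217 = N30517 := (eqc rfl L483787 rfl).symm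
theorem L483792 : sm gj N30517 = N24172 := trfs L483788 L298524 rfl
theorem L483793 : N24172 = N20953 := eqes L483792 (flp_j L258847)
theorem L483794 : N24172 = N20953 := eqc rfl L483793 rfl
theorem L483795 : sm gi N30517 = N24168 := trfs L483788 (flp_i L298517) rfl
theorem L483800 : sm gd N20953 = N35201 := trfs L483794 (flp_d L298409) rfl
theorem L483801 : N35201 = N30244 := eqes L483800 (flp_d L256462)
theorem L483802 : N35201 = N30244 := eqc rfl L483801 rfl
theorem L483811 : sm gf N30244 = N24157 := trfs L483802 L298412 rfl
theorem L483812 : N24157 = N20772 := eqes L483811 (flp_f L256457)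
theorem L483813 : N24157 = N20772 := eqc rfl L483812 rfl
theorem L483814 : sm gi N30244 = N24156 := trfs L483802 (flp_i L298406) rfl
theorem L483815 : N24156 = N44030 := eqes L483814 (flp_i L372466)
theorem L483816 : N44030 = N24156 := (eqc rfl L483815 rfl).symm
theorem L483817 : sm ga N24156 = N30215 := trfs L483816 L372461 rfl
theorem L483818 : N30215 = N35134 := eqes L483817 (flp_a L297881)
theorem L483819 : N35134 = N30215 := (eqc rfl L483818 rfl).symm
theorem L483823 : sm gf N24156 = N30201 := trfs L483816 (flp_f L372459) rfl
theorem L483824 : N30201 = N16594 := eqes L483823 (flp_f L205391)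
theorem L483825 : N30201 = N16594 := eqc rfl L483824 rfl
theorem L483826 : sm gi N24156 = N30244 := trfs L483816 L372466 rfl
theorem L483831 : sm gc N16594 = N44022 := trfs L483825 (flp_c L372393) rfl
theorem L483832 : N44022 = N24154 := eqes L483831 (flp_c L205378)
theorem L483833 : N44022 = N24154 := eqc rfl L483832 rfl
theorem L483835 : sm ge N16594 = N20744 := trfs L483825 L256115 rfl
theorem L483836 : N20744 = N11417 := eqes L483835 (flp_e L141544)
theorem L483837 : N20744 = N11417 := eqc rfl L483836 rfl
theorem L483838 : sm gg N16594 = N20743 := trfs L483825 (flp_g L256108) rfl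
theorem L483839 : N20743 = N11420 := eqes L483838 L141547
theorem L483840 : N20743 = N11420 := eqc rfl L483839 rfl
theorem L483841 : sm gj N16594 = N44031 := trfs L483825 L372469 rfl
theorem L483842 : N44031 = N24151 := eqes L483841 (flp_j L205356)
theorem L483843 : N44031 = N24151 := eqc rfl L483842 rfl
theorem L483844 : sm gh N16594 = N44032 := trfs L483825 L372480 rfl
theorem L483845 : N44032 = N24142 := eqes L483844 (flp_h L205295)
theorem L483846 : N44032 = N24142 := eqc rfl L483845 rfl
theorem L483849 : sm ga N24142 = N30217 := trfs L483846 L372482 rfl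
theorem L483850 : N30217 = N35120 := eqes L483849 (flp_a L297765)
theorem L483851 : N35120 = N30217 := (eqc rfl L483850 rfl).symm
theorem L483853 : sm ge N24142 = N30204 := trfs L483846 L372485 rfl
theorem L483854 : N30204 = N16586 := eqes L483853 (flp_e L205290)
theorem L483855 : N30204 = N16586 := eqc rfl L483854 rfl
theorem L483856 : sm gg N24142 = N30202 := trfs L483846 L372487 rfl
theorem L483857 : N30202 = N16589 := eqes L483856 L205293
theorem L483858 : N30202 = N16589 := eqc rfl L483857 rfl
theorem L483859 : sm ga N16589 = N20754 := trfs L483858 L256121 rfl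
theorem L483860 : N20754 = N24106 := eqes L483859 (flp_a L204999)
theorem L483861 : N24106 = N20754 := (eqc rfl L483860 rfl).symm
theorem L483863 : sm gc N16589 = N44023 := trfs L483858 (flp_c L372403) rfl
theorem L483864 : N44023 = N24145 := eqes L483863 (flp_c L205315)
theorem L483865 : N44023 = N24145 := eqc rfl L483864 rfl
theorem L483866 : sm gd N16589 = N44033 := trfs L483858 L372489 rfl
theorem L483867 : N44033 = N21969 := eqes L483866 (flp_d L186628)
theorem L483868 : N44033 = N21969 := eqc rfl L483867 rfl
theorem L483869 : sm ge N16589 = N20745 := trfs L483858 L256124 rfl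
theorem L483870 : N20745 = N11414 := eqes L483869 (flp_e L141508)
theorem L483871 : N20745 = N11414 := eqc rfl L483870 rfl
theorem L483872 : sm gf N16589 = N41798 := trfs L483858 (flp_f L353163) rfl
theorem L483873 : N41798 = N24147 := eqes L483872 L205326
theorem L483874 : N41798 = N24147 := eqc rfl L483873 rfl
theorem L483879 : sm gi N16589 = N44034 := trfs L483858 L372496 rfl
theorem L483880 : N44034 = N24148 := eqes L483879 L205333
theorem L483881 : N44034 = N24148 := eqc rfl L483880 rfl
theorem L483882 : sm ga N24148 = N30219 := trfs L483881 L372498 rfl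
theorem L483883 : N30219 = N35126 := eqes L483882 (flp_a L297814)
theorem L483884 : N35126 = N30219 := (eqc rfl L483883 rfl).symm
theorem L483886 : sm ge N24148 = N30205 := trfs L483881 L372501 rfl
theorem L483887 : N30205 = N16590 := eqes L483886 L205336
theorem L483888 : N30205 = N16590 := eqc rfl L483887 rfl
theorem L483889 : sm gh N24148 = N30248 := trfs L483881 L372503 rfl
theorem L483890 : N30248 = N35187 := eqes L483889 L298299
theorem L483891 : N35187 = N30248 := (eqc rfl L483890 rfl).symm
theorem L483896 : sm gh N30248 = N24148 := trfs L483891 (flp_h L298299) rfl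
theorem L483898 : sm gi N30248 = N24167 := trfs L483891 L298304 rfl
theorem L483899 : N24167 = N20773 := eqes L483898 (flp_i L256491)
theorem L483900 : N24167 = N20773 := eqc rfl L483899 rfl
theorem L483923 : sm gh N20773 = N16600 := trfs L483900 (flp_h L205468) rfl
theorem L483924 : N16600 = N14280 := eqes L483923 (flp_h L176573)
theorem L483925 : N16600 = N14280 := eqc rfl L483924 rfl
theorem L483928 : sm gc N14280 = N24163 := trfs L483925 (flp_c L205442) rfl
theorem L483929 : N24163 = N20767 := eqes L483928 (flp_c L176530)
theorem L483930 : N24163 = N20767 := eqc rfl L483929 rfl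
theorem L483932 : sm ge N14280 = N11421 := trfs L483925 L141590 rfl
theorem L483933 : N11421 = N9836 := eqes L483932 (flp_e L121707)
theorem L483934 : N11421 = N9836 := eqc rfl L483933 rfl
theorem L483935 : sm gf N14280 = N24166 := trfs L483925 (flp_f L205466) rfl
theorem L483936 : N24166 = N19752 := eqes L483935 (flp_f L167745)
theorem L483937 : N24166 = N19752 := eqc rfl L483936 rfl
theorem L483939 : sm gj N14280 = N24029 := trfs L483925 (flp_j L204341) rfl
theorem L483940 : N24029 = N20691 := eqes L483939 (flp_j L175902)
theorem L483941 : N24029 = N20691 := eqc rfl L483940 rfl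
theorem L483952 : sm ge N20691 = N16506 := trfs L483941 L204339 rfl
theorem L483953 : N16506 = N14228 := eqes L483952 (flp_e L175897)
theorem L483954 : N16506 = N14228 := eqc rfl L483953 rfl
theorem L483955 : sm gf N20691 = N35016 := trfs L483941 (flp_f L296872) rfl
theorem L483956 : N35016 = N28673 := eqes L483955 (flp_f L242871)
theorem L483957 : N35016 = N28673 := eqc rfl L483956 rfl
theorem L483962 : sm gi N20691 = N16505 := trfs L483941 (flp_i L204334) rfl
theorem L483963 : N16505 = N30095 := eqes L483962 (flp_i L255208)
theorem L483964 : N30095 = N16505 := (eqc rfl L483963 rfl).symm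
theorem L483968 : sm gc N16505 = N43866 := trfs L483964 (flp_c L371046) rfl
theorem L483969 : N43866 = N24026 := eqes L483968 (flp_c L204311)
theorem L483970 : N43866 = N24026 := eqc rfl L483969 rfl
theorem L483972 : sm ge N16505 = N20673 := trfs L483964 (flp_e L255201) rfl
theorem L483973 : N20673 = N11354 := eqes L483972 (flp_e L140782)
theorem L483974 : N20673 = N11354 := eqc rfl L483973 rfl
theorem L483975 : sm gf N16505 = N41732 := trfs L483964 (flp_f L352560) rfl
theorem L483976 : N41732 = N24028 := eqes L483975 L204325
theorem L483977 : N41732 = N24028 := eqc rfl L483976 rfl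
theorem L483978 : sm gg N16505 = N43871 := trfs L483964 L371090 rfl
theorem L483979 : N43871 = N24023 := eqes L483978 (flp_g L204289)
theorem L483980 : N43871 = N24023 := eqc rfl L483979 rfl
theorem L483983 : sm gi N16505 = N20691 := trfs L483964 L255208 rfl
theorem L483985 : sm ga N24023 = N30105 := trfs L483980 L371092 rfl
theorem L483986 : N30105 = N34946 := eqes L483985 (flp_a L296256)
theorem L483987 : N34946 = N30105 := (eqc rfl L483986 rfl).symm
theorem L483989 : sm gd N24023 = N30317 := trfs L483980 L371095 rfl
theorem L483990 : N30317 = N16509 := eqes L483989 L204291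
theorem L483991 : N30317 = N16509 := eqc rfl L483990 rfl
theorem L483992 : sm ge N24023 = N30096 := trfs L483980 L371097 rfl
theorem L483993 : N30096 = N16502 := eqes L483992 (flp_e L204286)
theorem L483994 : N30096 = N16502 := eqc rfl L483993 rfl
theorem L484001 : sm gc N16502 = N43867 := trfs L483994 (flp_c L371056) rfl
theorem L484002 : N43867 = N24022 := eqes L484001 L204280
theorem L484003 : N43867 = N24022 := eqc rfl L484002 rfl
theorem L484011 : sm gi N16502 = N20692 := trfs L483994 L255219 rfl
theorem L484012 : N20692 = N24024 := eqes L484011 L204293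
theorem L484013 : N24024 = N20692 := (eqc rfl L484012 rfl).symm
theorem L484026 : sm gh N20692 = N35008 := trfs L484013 L296801 rfl
theorem L484027 : N35008 = N30127 := eqes L484026 L255488
theorem L484028 : N35008 = N30127 := eqc rfl L484027 rfl
theorem L484033 : sm gg N30127 = N24030 := trfs L484028 L296804 rfl
theorem L484034 : N24030 = N20693 := eqes L484033 L255493
theorem L484035 : N24030 = N20693 := eqc rfl L484034 rfl
theorem L484050 : sm gi N20693 = N34994 := trfs L484035 (flp_i L296695) rfl
theorem L484051 : N34994 = N30128 := eqes L484050 L255496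
theorem L484052 : N34994 = N30128 := eqc rfl L484051 rfl
theorem L484055 : sm gf N30128 = N24331 := trfs L484052 L296690 rfl
theorem L484056 : N24331 = N20694 := eqes L484055 L255502
theorem L484057 : N24331 = N20694 := eqc rfl L484056 rfl
theorem L484059 : sm gh N30128 = N24016 := trfs L484052 (flp_h L296687) rfl
theorem L484060 : N24016 = N43875 := eqes L484059 (flp_h L371137)
theorem L484061 : N43875 = N24016 := (eqc rfl L484060 rfl).symm
theorem L484062 : sm ga N24016 = N30109 := trfs L484061 L371130 rfl
theorem L484063 : N30109 = N34939 := eqes L484062 (flp_a L296185)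
theorem L484064 : N34939 = N30109 := (eqc rfl L484063 rfl).symm
theorem L484066 : sm gf N24016 = N30098 := trfs L484061 L371133 rfl
theorem L484067 : N30098 = N16722 := eqes L484066 L204228
theorem L484068 : N30098 = N16722 := eqc rfl L484067 rfl
theorem L484070 : sm gh N24016 = N30128 := trfs L484061 L371137 rfl
theorem L484072 : sm gi N24016 = N30097 := trfs L484061 (flp_i L371128) rfl
theorem L484073 : N30097 = N16497 := eqes L484072 (flp_i L204223)
theorem L484074 : N30097 = N16497 := eqc rfl L484073 rfl
theorem L484075 : sm ga N16497 = N20680 := trfs L484074 L255223 rfl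
theorem L484076 : N20680 = N23978 := eqes L484075 (flp_a L203868)
theorem L484077 : N23978 = N20680 := (eqc rfl L484076 rfl).symm
theorem L484086 : sm gf N16497 = N20674 := trfs L484074 L255226 rfl
theorem L484087 : N20674 = N11509 := eqes L484086 L140713
theorem L484088 : N20674 = N11509 := eqc rfl L484087 rfl
theorem L484092 : sm ga N11509 = N14220 := trfs L484088 L175747 rfl
theorem L484093 : N14220 = N16693 := eqes L484092 (flp_a L142336)
theorem L484094 : N16693 = N14220 := (eqc rfl L484093 rfl).symm
theorem L484096 : sm gc N11509 = N30094 := trfs L484088 (flp_c L255197) rfl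
theorem L484097 : N30094 = N16720 := eqes L484096 L142583
theorem L484098 : N30094 = N16720 := eqc rfl L484097 rfl
theorem L484102 : sm ge N11509 = N28656 := trfs L484088 (flp_e L242699) rfl
theorem L484103 : N28656 = N16721 := eqes L484102 L142590
theorem L484104 : N28656 = N16721 := eqc rfl L484103 rfl
theorem L484105 : sm gg N11509 = N30026 := trfs L484088 (flp_g L254586) rfl
theorem L484106 : N30026 = N16718 := eqes L484105 (flp_g L142569)
theorem L484107 : N30026 = N16718 := eqc rfl L484106 rfl
theorem L484108 : sm gj N11509 = N14263 := trfs L484088 L175750 rfl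
theorem L484109 : N14263 = N7977 := eqes L484108 L98497
theorem L484110 : N14263 = N7977 := eqc rfl L484109 rfl
theorem L484111 : sm gh N11509 = N14216 := trfs L484088 (flp_h L175745) rfl
theorem L484112 : N14216 = N7939 := eqes L484111 L98499
theorem L484113 : N14216 = N7939 := eqc rfl L484112 rfl
theorem L484115 : sm ga N7939 = N9795 := trfs L484113 L121165 rfl
theorem L484116 : N9795 = N11493 := eqes L484115 (flp_a L98343)
theorem L484117 : N11493 = N9795 := (eqc rfl L484116 rfl).symm
theorem L484119 : sm gc N7939 = N20672 := trfs L484113 L175724 rfl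
theorem L484120 : N20672 = N11514 := eqes L484119 L98535
theorem L484121 : N20672 = N11514 := eqc rfl L484120 rfl
theorem L484123 : sm ge N7939 = N19706 := trfs L484113 (flp_e L167328) rfl
theorem L484124 : N19706 = N11515 := eqes L484123 L98541
theorem L484125 : N19706 = N11515 := eqc rfl L484124 rfl
theorem L484131 : sm ga N11515 = N13568 := trfs L484125 L167321 rfl
theorem L484132 : N13568 = N16699 := eqes L484131 (flp_a L142390)
theorem L484133 : N16699 = N13568 := (eqc rfl L484132 rfl).symm
theorem L484138 : sm gd N11515 = N13567 := trfs L484125 (flp_d L167319) rfl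
theorem L484139 : N13567 = N7943 := eqes L484138 L98546
theorem L484140 : N13567 = N7943 := eqc rfl L484139 rfl
theorem L484141 : sm gf N11515 = N28655 := trfs L484125 L242683 rfl
theorem L484142 : N28655 = N16731 := eqes L484141 L142666
theorem L484143 : N28655 = N16731 := eqc rfl L484142 rfl
theorem L484144 : sm gg N11515 = N28627 := trfs L484125 (flp_g L242426) rfl
theorem L484145 : N28627 = N16726 := eqes L484144 (flp_g L142631)
theorem L484146 : N28627 = N16726 := eqc rfl L484145 rfl
theorem L484147 : sm gj N11515 = N13585 := trfs L484125 L167324 rfl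
theorem L484148 : N13585 = N7980 := eqes L484147 L98544
theorem L484149 : N13585 = N7980 := eqc rfl L484148 rfl
theorem L484151 : sm gi N11515 = N13574 := trfs L484125 L167326 rfl
theorem L484152 : N13574 = N16732 := eqes L484151 L142673
theorem L484153 : N16732 = N13574 := (eqc rfl L484152 rfl).symm
theorem L484174 : sm gh N13574 = N24349 := trfs L484153 L206979 rfl
theorem L484175 : N24349 = N19719 := eqes L484174 L167452
theorem L484176 : N24349 = N19719 := eqc rfl L484175 rfl
theorem L484177 : sm gi N13574 = N11515 := trfs L484153 (flp_i L142673) rfl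
theorem L484199 : sm gi N19719 = N35441 := trfs L484176 (flp_i L300417) rfl
theorem L484200 : N35441 = N28676 := eqes L484199 L242889
theorem L484201 : N35441 = N28676 := eqc rfl L484200 rfl
theorem L484207 : sm gh N28676 = N24330 := trfs L484201 (flp_h L300410) rfl
theorem L484208 : N24330 = N41735 := eqes L484207 (flp_h L352591)
theorem L484209 : N41735 = N24330 := (eqc rfl L484208 rfl).symm
theorem L484216 : sm gj N24330 = N28701 := trfs L484209 L352589 rfl
theorem L484217 : N28701 = N16805 := eqes L484216 L206841
theorem L484218 : N28701 = N16805 := eqc rfl L484217 rfl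
theorem L484230 : sm ge N16805 = N20746 := trfs L484218 L243109 rfl
theorem L484231 : N20746 = N11569 := eqes L484230 L143280
theorem L484232 : N20746 = N11569 := eqc rfl L484231 rfl
theorem L484239 : sm gi N16805 = N19735 := trfs L484218 (flp_i L243103) rfl
theorem L484240 : N19735 = N11568 := eqes L484239 (flp_i L143276)
theorem L484241 : N19735 = N11568 := eqc rfl L484240 rfl
theorem L484242 : sm ga N11568 = N13589 := trfs L484241 L167588 rfl
theorem L484243 : N13589 = N16783 := eqes L484242 (flp_a L143108)
theorem L484244 : N16783 = N13589 := (eqc rfl L484243 rfl).symm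
theorem L484251 : sm gf N11568 = N28700 := trfs L484241 (flp_f L243100) rfl
theorem L484252 : N28700 = N16804 := eqes L484251 L143270
theorem L484253 : N28700 = N16804 := eqc rfl L484252 rfl
theorem L484257 : sm ga N16804 = N19741 := trfs L484253 L243097 rfl
theorem L484258 : N19741 = N24417 := eqes L484257 (flp_a L207560)
theorem L484259 : N24417 = N19741 := (eqc rfl L484258 rfl).symm
theorem L484266 : sm gg N16804 = N41800 := trfs L484253 (flp_g L353181) rfl
theorem L484267 : N41800 = N24447 := eqes L484266 L207792
theorem L484268 : N41800 = N24447 := eqc rfl L484267 rfl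
theorem L484269 : sm gj N16804 = N41734 := trfs L484253 (flp_j L352578) rfl
theorem L484270 : N41734 = N24329 := eqes L484269 (flp_j L206831)
theorem L484271 : N41734 = N24329 := eqc rfl L484270 rfl
theorem L484272 : sm gh N16804 = N19734 := trfs L484253 (flp_h L243095) rfl
theorem L484273 : N19734 = N11573 := eqes L484272 L143274
theorem L484274 : N19734 = N11573 := eqc rfl L484273 rfl
theorem L484276 : sm ga N11573 = N13588 := trfs L484274 L167579 rfl
theorem L484277 : N13588 = N16788 := eqes L484276 (flp_a L143145)
theorem L484278 : N16788 = N13588 := (eqc rfl L484277 rfl).symm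
theorem L484280 : sm gc N11573 = N28696 := trfs L484274 (flp_c L243060) rfl
theorem L484281 : N28696 = N16810 := eqes L484280 (flp_c L143313)
theorem L484282 : N28696 = N16810 := eqc rfl L484281 rfl
theorem L484284 : sm ge N11573 = N28698 := trfs L484274 L243074 rfl
theorem L484285 : N28698 = N16599 := eqes L484284 (flp_e L141583)
theorem L484286 : N28698 = N16599 := eqc rfl L484285 rfl
theorem L484288 : sm gg N11573 = N28699 := trfs L484274 L243085 rfl
theorem L484289 : N28699 = N16813 := eqes L484288 L143329
theorem L484290 : N28699 = N16813 := eqc rfl L484289 rfl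
theorem L484292 : sm gi N11573 = N13597 := trfs L484274 L167584 rfl
theorem L484293 : N13597 = N16814 := eqes L484292 L143335
theorem L484294 : N16814 = N13597 := (eqc rfl L484293 rfl).symm
theorem L484309 : sm gh N13597 = N24461 := trfs L484294 L207889 rfl
theorem L484310 : N24461 = N19754 := eqes L484309 L167755
theorem L484311 : N24461 = N19754 := eqc rfl L484310 rfl
theorem L484312 : sm gi N13597 = N11573 := trfs L484294 (flp_i L143335) rfl
theorem L484321 : sm gd N19754 = N35623 := trfs L484311 L301873 rfl
theorem L484322 : N35623 = N28491 := eqes L484321 (flp_d L241244)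
theorem L484323 : N35623 = N28491 := eqc rfl L484322 rfl
theorem L484344 : sm gh N28491 = N24465 := trfs L484323 L301878 rfl
theorem L484345 : N24465 = N19596 := eqes L484344 (flp_h L241237)
theorem L484346 : N24465 = N19596 := eqc rfl L484345 rfl
theorem L484364 : sm gj N19596 = N35476 := trfs L484346 (flp_j L300694) rfl
theorem L484365 : N35476 = N28471 := eqes L484364 (flp_j L241067)
theorem L484366 : N35476 = N28471 := eqc rfl L484365 rfl
theorem L484370 : sm gf N28471 = N24356 := trfs L484366 L300692 rfl
theorem L484371 : N24356 = N19584 := eqes L484370 (flp_f L241060)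
theorem L484372 : N24356 = N19584 := eqc rfl L484371 rfl
theorem L484385 : sm gg N19584 = N35473 := trfs L484372 (flp_g L300665) rfl
theorem L484386 : N35473 = N28459 := eqes L484385 (flp_g L240953)
theorem L484387 : N35473 = N28459 := eqc rfl L484386 rfl
theorem L484392 : sm gd N28459 = N24352 := trfs L484387 (flp_d L300662) rfl
theorem L484393 : N24352 = N19577 := eqes L484392 (flp_d L240948)
theorem L484394 : N24352 = N19577 := eqc rfl L484393 rfl
theorem L484411 : sm gh N19577 = N16735 := trfs L484394 (flp_h L207002) rfl
theorem L484412 : N16735 = N13560 := eqes L484411 L166183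
theorem L484413 : N16735 = N13560 := eqc rfl L484412 rfl
theorem L484421 : sm ge N13560 = N11518 := trfs L484413 L142699 rfl
theorem L484422 : N11518 = N9355 := eqes L484421 (flp_e L115452)
theorem L484423 : N11518 = N9355 := eqc rfl L484422 rfl
theorem L484429 : sm gi N13560 = N11517 := trfs L484413 (flp_i L142695) rfl
theorem L484430 : N11517 = N19688 := eqes L484429 (flp_i L167162)
theorem L484431 : N19688 = N11517 := (eqc rfl L484430 rfl).symm
theorem L484432 : sm ga N11517 = N13556 := trfs L484431 L167154 rfl
theorem L484433 : N13556 = N16701 := eqes L484432 (flp_a L142406)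
theorem L484434 : N16701 = N13556 := (eqc rfl L484433 rfl).symm
theorem L484438 : sm ge N11517 = N13555 := trfs L484431 (flp_e L167152) rfl
theorem L484439 : N13555 = N7941 := eqes L484438 (flp_e L98555)
theorem L484440 : N13555 = N7941 := eqc rfl L484439 rfl
theorem L484441 : sm gf N11517 = N28628 := trfs L484431 L242433 rfl
theorem L484442 : N28628 = N16734 := eqes L484441 L142688
theorem L484443 : N28628 = N16734 := eqc rfl L484442 rfl
theorem L484447 : sm gi N11517 = N13560 := trfs L484431 L167162 rfl
theorem L484458 : sm gg N16734 = N41691 := trfs L484443 L352172 rfl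
theorem L484459 : N41691 = N24350 := eqes L484458 L206986
theorem L484460 : N41691 = N24350 := eqc rfl L484459 rfl
theorem L484465 : sm ga N24350 = N28632 := trfs L484460 L352174 rfl
theorem L484466 : N28632 = N35399 := eqes L484465 (flp_a L300039)
theorem L484467 : N35399 = N28632 := (eqc rfl L484466 rfl).symm
theorem L484471 : sm gf N24350 = N28657 := trfs L484460 L352182 rfl
theorem L484472 : N28657 = N16737 := eqes L484471 L206992
theorem L484473 : N28657 = N16737 := eqc rfl L484472 rfl
theorem L484475 : sm gi N24350 = N28641 := trfs L484460 L352180 rfl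
theorem L484476 : N28641 = N35471 := eqes L484475 L300644
theorem L484477 : N35471 = N28641 := (eqc rfl L484476 rfl).symm
theorem L484483 : sm gi N28641 = N24350 := trfs L484477 (flp_i L300644) rfl
theorem L484489 : sm gd N16737 = N41733 := trfs L484473 (flp_d L352567) rfl
theorem L484490 : N41733 = N24347 := eqes L484489 (flp_d L206968)
theorem L484491 : N41733 = N24347 := eqc rfl L484490 rfl
theorem L484498 : sm ga N24347 = N28661 := trfs L484491 L352564 rfl
theorem L484499 : N28661 = N35396 := eqes L484498 (flp_a L300015)
theorem L484500 : N35396 = N28661 := (eqc rfl L484499 rfl).symm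
theorem L484503 : sm gi N24347 = N28674 := trfs L484491 L352569 rfl
theorem L484504 : N28674 = N35467 := eqes L484503 L300613
theorem L484505 : N35467 = N28674 := (eqc rfl L484504 rfl).symm
theorem L484509 : sm gi N28674 = N24347 := trfs L484505 (flp_i L300613) rfl
theorem L484514 : sm gg N28661 = N24298 := trfs L484500 (flp_g L300013) rfl
theorem L484515 : N24298 = N19709 := eqes L484514 (flp_g L242746)
theorem L484516 : N24298 = N19709 := eqc rfl L484515 rfl
theorem L484532 : sm gi N19709 = N35397 := trfs L484516 L300019 rfl
theorem L484533 : N35397 = N13577 := eqes L484532 L167361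
theorem L484534 : N35397 = N13577 := eqc rfl L484533 rfl
theorem L484536 : sm gd N13577 = N24305 := trfs L484534 L300023 rfl
theorem L484537 : N24305 = N9367 := eqes L484536 L115615
theorem L484538 : N24305 = N9367 := eqc rfl L484537 rfl
theorem L484554 : sm gh N9367 = N35404 := trfs L484538 L300085 rfl
theorem L484555 : N35404 = N13487 := eqes L484554 (flp_h L114807)
theorem L484556 : N35404 = N13487 := eqc rfl L484555 rfl
theorem L484564 : sm gj N13487 = N24431 := trfs L484556 L300094 rfl
theorem L484565 : N24431 = N9313 := eqes L484564 L114805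
theorem L484566 : N24431 = N9313 := eqc rfl L484565 rfl
theorem L484576 : sm gg N9313 = N35582 := trfs L484566 (flp_g L301579) rfl
theorem L484577 : N35582 = N13497 := eqes L484576 L114889
theorem L484578 : N35582 = N13497 := eqc rfl L484577 rfl
theorem L484589 : sm gh N13497 = N24430 := trfs L484578 (flp_h L301571) rfl
theorem L484590 : N24430 = N9384 := eqes L484589 L114896
theorem L484591 : N24430 = N9384 := eqc rfl L484590 rfl
theorem L484593 : sm ga N9384 = N16817 := trfs L484591 L207658 rfl
theorem L484594 : N16817 = N13599 := eqes L484593 (flp_a L115804)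
theorem L484595 : N16817 = N13599 := eqc rfl L484594 rfl
theorem L484607 : sm gi N9384 = N16791 := trfs L484591 (flp_i L207656) rfl
theorem L484608 : N16791 = N13590 := eqes L484607 (flp_i L115729)
theorem L484609 : N16791 = N13590 := eqc rfl L484608 rfl
theorem L484610 : sm ga N13590 = N11576 := trfs L484609 L143166 rfl
theorem L484611 : N11576 = N19736 := eqes L484610 (flp_a L167597)
theorem L484612 : N19736 = N11576 := (eqc rfl L484611 rfl).symm
theorem L484615 : sm gd N13590 = N24426 := trfs L484609 (flp_d L207629) rfl
theorem L484616 : N24426 = N19740 := eqes L484615 (flp_d L167637)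
theorem L484617 : N24426 = N19740 := eqc rfl L484616 rfl
theorem L484621 : sm gj N13590 = N24429 := trfs L484609 L207647 rfl
theorem L484622 : N24429 = N19743 := eqes L484621 L167659
theorem L484623 : N24429 = N19743 := eqc rfl L484622 rfl
theorem L484629 : sm gd N19743 = N35577 := trfs L484623 (flp_d L301535) rfl
theorem L484630 : N35577 = N28710 := eqes L484629 (flp_d L243189)
theorem L484631 : N35577 = N28710 := eqc rfl L484630 rfl
theorem L484645 : sm ga N28710 = N24459 := trfs L484631 L301533 rfl
theorem L484646 : N24459 = N41799 := eqes L484645 (flp_a L353167)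
theorem L484647 : N41799 = N24459 := (eqc rfl L484646 rfl).symm
theorem L484650 : sm ga N24459 = N28710 := trfs L484647 L353167 rfl
theorem L484690 : sm gc N19740 = N35573 := trfs L484617 (flp_c L301501) rfl
theorem L484691 : N35573 = N28704 := eqes L484690 (flp_c L243138)
theorem L484692 : N35573 = N28704 := eqc rfl L484691 rfl
theorem L484693 : sm ge N19740 = N35143 := trfs L484617 (flp_e L297954) rfl
theorem L484694 : N35143 = N28708 := eqes L484693 (flp_e L243173)
theorem L484695 : N35143 = N28708 := eqc rfl L484694 rfl
theorem L484707 : sm ga N28708 = N24165 := trfs L484695 L297950 rfl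
theorem L484708 : N24165 = N41797 := eqes L484707 (flp_a L353147)
theorem L484709 : N41797 = N24165 := (eqc rfl L484708 rfl).symm
theorem L484711 : sm gg N28708 = N24116 := trfs L484695 (flp_g L297948) rfl
theorem L484712 : N24116 = N19739 := eqes L484711 (flp_g L243167)
theorem L484713 : N24116 = N19739 := eqc rfl L484712 rfl
theorem L484719 : sm gc N19739 = N35140 := trfs L484713 (flp_c L297928) rfl
theorem L484720 : N35140 = N28703 := eqes L484719 (flp_c L243129)
theorem L484721 : N35140 = N28703 := eqc rfl L484720 rfl
theorem L484724 : sm gf N19739 = N16566 := trfs L484713 (flp_f L205078) rfl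
theorem L484725 : N16566 = N14267 := eqes L484724 L167631
theorem L484726 : N16566 = N14267 := eqc rfl L484725 rfl
theorem L484747 : sm gc N14267 = N24114 := trfs L484726 (flp_c L205066) rfl
theorem L484748 : N24114 = N20748 := eqes L484747 (flp_c L176380)
theorem L484749 : N24114 = N20748 := eqc rfl L484748 rfl
theorem L484751 : sm ge N14267 = N11396 := trfs L484726 (flp_e L141320) rfl
theorem L484752 : N11396 = N9827 := eqes L484751 (flp_e L121604)
theorem L484753 : N11396 = N9827 := eqc rfl L484752 rfl
theorem L484758 : sm ga N9827 = N7868 := trfs L484753 L97554 rfl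
theorem L484759 : N7868 = N14262 := eqes L484758 (flp_a L121564)
theorem L484760 : N14262 = N7868 := (eqc rfl L484759 rfl).symm
theorem L484762 : sm gc N9827 = N16565 := trfs L484753 L141312 rfl
theorem L484763 : N16565 = N14265 := eqes L484762 (flp_c L121592)
theorem L484764 : N16565 = N14265 := eqc rfl L484763 rfl
theorem L484775 : sm gh N9827 = N16560 := trfs L484753 (flp_h L141272) rfl
theorem L484776 : N16560 = N14269 := eqes L484775 L121621
theorem L484777 : N16560 = N14269 := eqc rfl L484776 rfl
theorem L484778 : sm gi N9827 = N16567 := trfs L484753 L141326 rfl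
theorem L484779 : N16567 = N6788 := eqes L484778 L84033
theorem L484780 : N16567 = N6788 := eqc rfl L484779 rfl
theorem L484797 : sm gh N6788 = N24118 := trfs L484780 L205094 rfl
theorem L484798 : N24118 = N9843 := eqes L484797 L84149
theorem L484799 : N24118 = N9843 := eqc rfl L484798 rfl
theorem L484816 : sm gi N9843 = N35127 := trfs L484799 (flp_i L297825) rfl
theorem L484817 : N35127 = N14294 := eqes L484816 L121810
theorem L484818 : N35127 = N14294 := eqc rfl L484817 rfl
theorem L484824 : sm gh N14294 = N24107 := trfs L484818 (flp_h L297818) rfl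
theorem L484825 : N24107 = N20757 := eqes L484824 (flp_h L176453)
theorem L484826 : N24107 = N20757 := eqc rfl L484825 rfl
theorem L484835 : sm gd N20757 = N16561 := trfs L484826 L205007 rfl
theorem L484836 : N16561 = N30186 := eqes L484835 (flp_d L255988)
theorem L484837 : N30186 = N16561 := (eqc rfl L484836 rfl).symm
theorem L484839 : sm gf N20757 = N16784 := trfs L484826 L205009 rfl
theorem L484840 : N16784 = N14270 := eqes L484839 L176451
theorem L484841 : N16784 = N14270 := eqc rfl L484840 rfl
theorem L484842 : sm gg N20757 = N35121 := trfs L484826 (flp_g L297778) rfl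
theorem L484843 : N35121 = N30221 := eqes L484842 (flp_g L256277)
theorem L484844 : N35121 = N30221 := eqc rfl L484843 rfl
theorem L484847 : sm ga N30221 = N24143 := trfs L484844 L297773 rfl
theorem L484848 : N24143 = N44036 := eqes L484847 (flp_a L372515)
theorem L484849 : N44036 = N24143 := (eqc rfl L484848 rfl).symm
theorem L484854 : sm gi N30221 = N24103 := trfs L484844 (flp_i L297771) rfl
theorem L484855 : N24103 = N20756 := eqes L484854 (flp_i L256272)
theorem L484856 : N24103 = N20756 := eqc rfl L484855 rfl
theorem L484862 : sm gc N20756 = N35119 := trfs L484856 L297753 rfl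
theorem L484863 : N35119 = N30210 := eqes L484862 (flp_c L256191)
theorem L484864 : N35119 = N30210 := eqc rfl L484863 rfl
theorem L484871 : sm gj N20756 = N35117 := trfs L484856 (flp_j L297740) rfl
theorem L484872 : N35117 = N30220 := eqes L484871 (flp_j L256270)
theorem L484873 : N35117 = N30220 := eqc rfl L484872 rfl
theorem L484875 : sm ga N30220 = N24139 := trfs L484873 L297737 rfl
theorem L484876 : N24139 = N44035 := eqes L484875 (flp_a L372507)
theorem L484877 : N44035 = N24139 := (eqc rfl L484876 rfl).symm
theorem L484882 : sm gh N30220 = N24108 := trfs L484873 L297742 rfl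
theorem L484883 : N24108 = N20755 := eqes L484882 (flp_h L256265)
theorem L484884 : N24108 = N20755 := eqc rfl L484883 rfl
theorem L484885 : sm ga N20755 = N16591 := trfs L484884 L205013 rfl
theorem L484886 : N16591 = N30203 := eqes L484885 (flp_a L256128)
theorem L484887 : N30203 = N16591 := (eqc rfl L484886 rfl).symm
theorem L484901 : sm gi N20755 = N35130 := trfs L484884 L297844 rfl
theorem L484902 : N35130 = N14292 := eqes L484901 L176438
theorem L484903 : N35130 = N14292 := eqc rfl L484902 rfl
theorem L484904 : sm ga N14292 = N24152 := trfs L484903 L297846 rfl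
theorem L484905 : N24152 = N20774 := eqes L484904 (flp_a L176582)
theorem L484906 : N24152 = N20774 := eqc rfl L484905 rfl
theorem L484923 : sm gh N20774 = N35193 := trfs L484906 L298346 rfl
theorem L484924 : N35193 = N30249 := eqes L484923 L256498
theorem L484925 : N35193 = N30249 := eqc rfl L484924 rfl
theorem L484931 : sm gj N30249 = N24158 := trfs L484925 L298350 rfl
theorem L484932 : N24158 = N20775 := eqes L484931 L256504
theorem L484933 : N24158 = N20775 := eqc rfl L484932 rfl
theorem L484936 : sm gc N20775 = N35199 := trfs L484933 (flp_c L298393) rfl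
theorem L484937 : N35199 = N30239 := eqes L484936 (flp_c L256419)
theorem L484938 : N35199 = N30239 := eqc rfl L484937 rfl
theorem L484957 : sm gh N30239 = N24155 := trfs L484938 (flp_h L298391) rfl
theorem L484958 : N24155 = N20768 := eqes L484957 (flp_h L256415)
theorem L484959 : N24155 = N20768 := eqc rfl L484958 rfl
theorem L484978 : sm gi N20768 = N16593 := trfs L484959 (flp_i L205382) rfl
theorem L484979 : N16593 = N30197 := eqes L484978 (flp_i L256081)
theorem L484980 : N30197 = N16593 := (eqc rfl L484979 rfl).symm
theorem L484999 : sm gh N16593 = N44025 := trfs L484980 L372418 rfl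
theorem L485000 : N44025 = N24141 := eqes L484999 (flp_h L205287)
theorem L485001 : N44025 = N24141 := eqc rfl L485000 rfl
theorem L485002 : sm gi N16593 = N20768 := trfs L484980 L256081 rfl
theorem L485008 : sm gg N24141 = N30198 := trfs L485001 L372425 rfl
theorem L485009 : N30198 = N16588 := eqes L485008 L205285
theorem L485010 : N30198 = N16588 := eqc rfl L485009 rfl
theorem L485011 : sm ga N16588 = N20750 := trfs L485010 L256086 rfl
theorem L485012 : N20750 = N24105 := eqes L485011 (flp_a L204990)
theorem L485013 : N24105 = N20750 := (eqc rfl L485012 rfl).symm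
theorem L485020 : sm gf N16588 = N20742 := trfs L485010 L256090 rfl
theorem L485021 : N20742 = N11567 := eqes L485020 L141503
theorem L485022 : N20742 = N11567 := eqc rfl L485021 rfl
theorem L485025 : sm gi N16588 = N44027 := trfs L485010 L372435 rfl
theorem L485026 : N44027 = N24146 := eqes L485025 L205319
theorem L485027 : N44027 = N24146 := eqc rfl L485026 rfl
theorem L485034 : sm gh N24146 = N30241 := trfs L485027 L372443 rfl
theorem L485035 : N30241 = N35184 := eqes L485034 L298277
theorem L485036 : N35184 = N30241 := (eqc rfl L485035 rfl).symm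
theorem L485038 : sm gf N30241 = N24446 := trfs L485036 L298281 rfl
theorem L485039 : N24446 = N20771 := eqes L485038 L256439
theorem L485040 : N24446 = N20771 := eqc rfl L485039 rfl
theorem L485041 : sm gh N30241 = N24146 := trfs L485036 (flp_h L298277) rfl
theorem L485047 : sm gb N20771 = N35598 := trfs L485040 (flp_b L301701) rfl
theorem L485048 : N35598 = N30234 := eqes L485047 (flp_b L256378)
theorem L485049 : N35598 = N30234 := eqc rfl L485048 rfl
theorem L485065 : sm gi N20771 = N16812 := trfs L485040 L207790 rfl
theorem L485066 : N16812 = N14279 := eqes L485065 (flp_i L176557)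
theorem L485067 : N16812 = N14279 := eqc rfl L485066 rfl
theorem L485088 : sm gh N14279 = N11572 := trfs L485067 (flp_h L143324) rfl
theorem L485089 : N11572 = N9835 := eqes L485088 (flp_h L121700)
theorem L485090 : N11572 = N9835 := eqc rfl L485089 rfl
theorem L485094 : sm gb N9835 = N16809 := trfs L485090 (flp_b L143305) rfl
theorem L485095 : N16809 = N14277 := eqes L485094 L121685
theorem L485096 : N16809 = N14277 := eqc rfl L485095 rfl
theorem L485098 : sm gd N9835 = N7989 := trfs L485090 L99014 rfl
theorem L485099 : N7989 = N7374 := eqes L485098 L84096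
theorem L485100 : N7989 = N7374 := eqc rfl L485099 rfl
theorem L485109 : sm gi N9835 = N7979 := trfs L485090 (flp_i L99010) rfl
theorem L485110 : N7979 = N14261 := eqes L485109 (flp_i L121558)
theorem L485111 : N14261 = N7979 := (eqc rfl L485110 rfl).symm
theorem L485112 : sm ga N7979 = N9826 := trfs L485111 L121555 rfl
theorem L485113 : N9826 = N11555 := eqes L485112 (flp_a L98884)
theorem L485114 : N11555 = N9826 := (eqc rfl L485113 rfl).symm
theorem L485122 : sm ge N7979 = N19733 := trfs L485111 (flp_e L167571) rfl
theorem L485123 : N19733 = N11571 := eqes L485122 L99004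
theorem L485124 : N19733 = N11571 := eqc rfl L485123 rfl
theorem L485129 : sm gi N7979 = N9835 := trfs L485111 L121558 rfl
theorem L485131 : sm ga N11571 = N13587 := trfs L485124 L167569 rfl
theorem L485132 : N13587 = N16786 := eqes L485131 (flp_a L143128)
theorem L485133 : N16786 = N13587 := (eqc rfl L485132 rfl).symm
theorem L485134 : sm gb N11571 = N28695 := trfs L485124 L243046 rfl
theorem L485135 : N28695 = N16808 := eqes L485134 (flp_b L143298)
theorem L485136 : N28695 = N16808 := eqc rfl L485135 rfl
theorem L485155 : sm gj N16808 = N41729 := trfs L485136 (flp_j L352522) rfl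
theorem L485156 : N41729 = N24342 := eqes L485155 (flp_j L206931)
theorem L485157 : N41729 = N24342 := eqc rfl L485156 rfl
theorem L485161 : sm gi N16808 = N19749 := trfs L485136 L243052 rfl
theorem L485162 : N19749 = N24453 := eqes L485161 L207834
theorem L485163 : N24453 = N19749 := (eqc rfl L485162 rfl).symm
theorem L485175 : sm gj N19749 = N35460 := trfs L485163 (flp_j L300568) rfl
theorem L485176 : N35460 = N28670 := eqes L485175 (flp_j L242839)
theorem L485177 : N35460 = N28670 := eqc rfl L485176 rfl
theorem L485190 : sm ge N28670 = N24343 := trfs L485177 L300566 rfl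
theorem L485191 : N24343 = N20688 := eqes L485190 L242837
theorem L485192 : N24343 = N20688 := eqc rfl L485191 rfl
theorem L485213 : sm gi N20688 = N16728 := trfs L485192 (flp_i L206934) rfl
theorem L485214 : N16728 = N30092 := eqes L485213 (flp_i L255177)
theorem L485215 : N30092 = N16728 := (eqc rfl L485214 rfl).symm
theorem L485232 : sm gh N16728 = N43865 := trfs L485215 L371034 rfl
theorem L485233 : N43865 = N24326 := eqes L485232 (flp_h L206809)
theorem L485234 : N43865 = N24326 := eqc rfl L485233 rfl
theorem L485242 : sm gj N24326 = N30195 := trfs L485234 L371040 rfl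
theorem L485243 : N30195 = N16801 := eqes L485242 L206807
theorem L485244 : N30195 = N16801 := eqc rfl L485243 rfl
theorem L485245 : sm ga N16801 = N16801 := trfs L485244 L256060 L485244
theorem L485246 : N16801 = N24440 := eqes L485245 L207744
theorem L485247 : N24440 = N16801 := (eqc rfl L485246 rfl).symm
theorem L485285 : sm gh N16801 = N16807 := trfs L485247 L207749 rfl
theorem L485286 : N16807 = N11570 := eqes L485285 L143254
theorem L485287 : N16807 = N11570 := eqc rfl L485286 rfl
theorem L485293 : sm gd N11570 = N11583 := trfs L485287 L143293 rfl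
theorem L485294 : N11583 = N7988 := eqes L485293 L99000
theorem L485295 : N11583 = N7988 := eqc rfl L485294 rfl
theorem L485297 : sm gf N11570 = N24159 := trfs L485287 (flp_f L205418) rfl
theorem L485298 : N24159 = N16596 := eqes L485297 (flp_f L141563)
theorem L485299 : N24159 = N16596 := eqc rfl L485298 rfl
theorem L485302 : sm gi N11570 = N24451 := trfs L485287 L207820 rfl
theorem L485303 : N24451 = N16809 := eqes L485302 L143303
theorem L485304 : N24451 = N14277 := eqc rfl L485303 L485096
theorem L485314 : sm gf N14277 = N35204 := trfs L485304 (flp_f L298433) rfl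
theorem L485315 : N35204 = N20765 := eqes L485314 L176511
theorem L485316 : N35204 = N20765 := eqc rfl L485315 rfl
theorem L485332 : sm gi N20765 = N16596 := trfs L485316 (flp_i L298426) L485299
theorem L485333 : N16596 = N30194 := eqes L485332 (flp_i L256056)
theorem L485334 : N30194 = N16596 := (eqc rfl L485333 rfl).symm
theorem L485342 : sm ge N16596 = N44016 := trfs L485334 L372335 rfl
theorem L485343 : N44016 = N24160 := eqes L485342 L205420
theorem L485344 : N44016 = N24160 := eqc rfl L485343 rfl
theorem L485354 : sm gb N24160 = N30196 := trfs L485344 L372338 rfl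
theorem L485355 : N30196 = N16597 := eqes L485354 L205422
theorem L485356 : N30196 = N16597 := eqc rfl L485355 rfl
theorem L485369 : sm gd N16597 = N44021 := trfs L485356 L372379 rfl
theorem L485370 : N44021 = N23570 := eqes L485369 (flp_d L200510)
theorem L485371 : N44021 = N23570 := eqc rfl L485370 rfl
theorem L485397 : sm gi N23570 = N30235 := trfs L485371 L372383 rfl
theorem L485398 : N30235 = N34376 := eqes L485397 L291563
theorem L485399 : N34376 = N30235 := (eqc rfl L485398 rfl).symm
theorem L485402 : sm ge N30235 = N23571 := trfs L485399 L291569 rfl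
theorem L485403 : N23571 = N22624 := eqes L485402 L256388
theorem L485404 : N23571 = N22624 := eqc rfl L485403 rfl
theorem L485405 : sm gi N30235 = N23570 := trfs L485399 (flp_i L291563) rfl
theorem L485412 : sm gd N22624 = N16200 := trfs L485404 L200516 rfl
theorem L485413 : N16200 = N15546 := eqes L485412 (flp_d L192271)
theorem L485414 : N16200 = N15546 := eqc rfl L485413 rfl
theorem L485427 : sm gc N15546 = N11135 := trfs L485414 L138206 rfl
theorem L485428 : N11135 = N10698 := eqes L485427 L132471
theorem L485429 : N11135 = N10698 := eqc rfl L485428 rfl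
theorem L485430 : sm ge N15546 = N11437 := trfs L485414 L138208 rfl
theorem L485431 : N11437 = N10696 := eqes L485430 (flp_e L132467)
theorem L485432 : N11437 = N10696 := eqc rfl L485431 rfl
theorem L485443 : sm gi N15546 = N11134 := trfs L485414 (flp_i L138204) rfl
theorem L485444 : N11134 = N22585 := eqes L485443 (flp_i L191945)
theorem L485445 : N22585 = N11134 := (eqc rfl L485444 rfl).symm
theorem L485461 : sm gj N11134 = N32692 := trfs L485445 (flp_j L277098) rfl
theorem L485462 : N32692 = N16066 := eqes L485461 (flp_j L137093)
theorem L485463 : N32692 = N16066 := eqc rfl L485462 rfl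
theorem L485473 : sm ge N16066 = N22443 := trfs L485463 (flp_e L277092) rfl
theorem L485474 : N22443 = N11369 := eqes L485473 L137090
theorem L485475 : N22443 = N11369 := eqc rfl L485474 rfl
theorem L485485 : sm gd N11369 = N30093 := trfs L485475 (flp_d L255187) rfl
theorem L485486 : N30093 = N16504 := eqes L485485 (flp_d L140780)
theorem L485487 : N30093 = N16504 := eqc rfl L485486 rfl
theorem L485488 : sm gf N11369 = N15425 := trfs L485475 (flp_f L190696) rfl
theorem L485489 : N15425 = N7951 := eqes L485488 L97300
theorem L485490 : N15425 = N7951 := eqc rfl L485489 rfl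
theorem L485496 : sm gi N11369 = N15442 := trfs L485475 L190704 rfl
theorem L485497 : N15442 = N16525 := eqes L485496 L140946
theorem L485498 : N16525 = N15442 := (eqc rfl L485497 rfl).symm
theorem L485511 : sm gg N15442 = N24051 := trfs L485498 (flp_g L204513) rfl
theorem L485512 : N24051 = N22470 := eqes L485511 L190956
theorem L485513 : N24051 = N22470 := eqc rfl L485512 rfl
theorem L485515 : sm gh N15442 = N24055 := trfs L485498 L204542 rfl
theorem L485516 : N24055 = N22471 := eqes L485515 L190962
theorem L485517 : N24055 = N22471 := eqc rfl L485516 rfl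
theorem L485518 : sm gi N15442 = N11369 := trfs L485498 (flp_i L140946) rfl
theorem L485537 : sm gj N22471 = N16621 := trfs L485517 L204548 rfl
theorem L485538 : N16621 = N15548 := eqes L485537 L190970
theorem L485539 : N16621 = N15548 := eqc rfl L485538 rfl
theorem L485550 : sm gf N15548 = N11585 := trfs L485539 L141736 rfl
theorem L485551 : N11585 = N10697 := eqes L485550 L132487
theorem L485552 : N11585 = N10697 := eqc rfl L485551 rfl
theorem L485676 : sm gd N10697 = N16826 := trfs L485552 L143427 rfl
theorem L485677 : N16826 = N15549 := eqes L485676 L132489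
theorem L485678 : N16826 = N15549 := eqc rfl L485677 rfl
theorem L485696 : sm gj N15549 = N24371 := trfs L485678 (flp_j L207169) rfl
theorem L485697 : N24371 = N22472 := eqes L485696 (flp_j L190976)
theorem L485698 : N24371 = N22472 := eqc rfl L485697 rfl
theorem L485713 : sm gg N22472 = N35492 := trfs L485698 (flp_g L300824) rfl
theorem L485714 : N35492 = N32579 := eqes L485713 (flp_g L276051)
theorem L485715 : N35492 = N32579 := eqc rfl L485714 rfl
theorem L485724 : sm gd N32579 = N24368 := trfs L485715 (flp_d L300822) rfl
theorem L485725 : N24368 = N22366 := eqes L485724 (flp_d L276047)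
theorem L485726 : N24368 = N22366 := eqc rfl L485725 rfl
theorem L485744 : sm gh N22366 = N16748 := trfs L485726 (flp_h L207139) rfl
theorem L485745 : N16748 = N15374 := eqes L485744 (flp_h L189980)
theorem L485746 : N16748 = N15374 := eqc rfl L485745 rfl
theorem L485761 : sm gf N15374 = N24363 := trfs L485746 (flp_f L207099) rfl
theorem L485762 : N24363 = N22365 := eqes L485761 L189973
theorem L485763 : N24363 = N22365 := eqc rfl L485762 rfl
theorem L485766 : sm gi N15374 = N11527 := trfs L485746 (flp_i L142804) rfl
theorem L485767 : N11527 = N22348 := eqes L485766 (flp_i L189817)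
theorem L485768 : N22348 = N11527 := (eqc rfl L485767 rfl).symm
theorem L485778 : sm gd N11527 = N30024 := trfs L485768 (flp_d L254569) rfl
theorem L485779 : N30024 = N16725 := eqes L485778 (flp_d L142626)
theorem L485780 : N30024 = N16725 := eqc rfl L485779 rfl
theorem L485782 : sm gf N11527 = N32550 := trfs L485768 L275770 rfl
theorem L485783 : N32550 = N16744 := eqes L485782 (flp_f L142774)
theorem L485784 : N32550 = N16744 := eqc rfl L485783 rfl
theorem L485794 : sm gd N16744 = N43763 := trfs L485784 (flp_d L370122) rfl
theorem L485795 : N43763 = N24332 := eqes L485794 (flp_d L206856)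
theorem L485796 : N43763 = N24332 := eqc rfl L485795 rfl
theorem L485808 : sm gi N24332 = N30041 := trfs L485796 L370125 rfl
theorem L485809 : N30041 = N35444 := eqes L485808 L300432
theorem L485810 : N35444 = N30041 := (eqc rfl L485809 rfl).symm
theorem L485811 : sm gc N30041 = N24334 := trfs L485810 L300434 rfl
theorem L485812 : N24334 = N20639 := eqes L485811 L254722
theorem L485813 : N24334 = N20639 := eqc rfl L485812 rfl
theorem L485824 : sm ge N20639 = N35446 := trfs L485813 (flp_e L300452) rfl
theorem L485825 : N35446 = N30043 := eqes L485824 L254736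
theorem L485826 : N35446 = N30043 := eqc rfl L485825 rfl
theorem L485830 : sm gh N20639 = N35447 := trfs L485813 L300455 rfl
theorem L485831 : N35447 = N30045 := eqes L485830 L254752
theorem L485832 : N35447 = N30045 := eqc rfl L485831 rfl
theorem L485837 : sm gf N30045 = N24340 := trfs L485832 L300458 rfl
theorem L485838 : N24340 = N20640 := eqes L485837 L254757
theorem L485839 : N24340 = N20640 := eqc rfl L485838 rfl
theorem L485853 : sm gi N20640 = N35431 := trfs L485839 (flp_i L300338) rfl
theorem L485854 : N35431 = N30046 := eqes L485853 L254761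
theorem L485855 : N35431 = N30046 := eqc rfl L485854 rfl
theorem L485860 : sm gh N30046 = N24325 := trfs L485855 (flp_h L300331) rfl
theorem L485861 : N24325 = N43768 := eqes L485860 (flp_h L370172)
theorem L485862 : N43768 = N24325 := (eqc rfl L485861 rfl).symm
theorem L485863 : sm ga N24325 = N30033 := trfs L485862 L370166 rfl
theorem L485864 : N30033 = N35374 := eqes L485863 (flp_a L299824)
theorem L485865 : N35374 = N30033 := (eqc rfl L485864 rfl).symm
theorem L485869 : sm gh N24325 = N30046 := trfs L485862 L370172 rfl
theorem L485872 : sm ga N30033 = N24325 := trfs L485865 L299824 rfl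
theorem L485874 : sm gd N30033 = N24286 := trfs L485865 L299826 rfl
theorem L485875 : N24286 = N43755 := eqes L485874 (flp_d L370044)
theorem L485876 : N43755 = N24286 := (eqc rfl L485875 rfl).symm
theorem L485877 : sm gg N30033 = N24289 := trfs L485865 L299828 rfl
theorem L485878 : N24289 = N20681 := eqes L485877 L254648
theorem L485879 : N24289 = N20681 := eqc rfl L485878 rfl
theorem L485881 : sm gi N30033 = N24285 := trfs L485865 (flp_i L299822) rfl
theorem L485882 : N24285 = N20631 := eqes L485881 (flp_i L254644)
theorem L485883 : N24285 = N20631 := eqc rfl L485882 rfl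
theorem L485889 : sm gc N20631 = N35372 := trfs L485883 L299802 rfl
theorem L485890 : N35372 = N30029 := eqes L485889 (flp_c L254614)
theorem L485891 : N35372 = N30029 := eqc rfl L485890 rfl
theorem L485895 : sm ge N20631 = N35373 := trfs L485883 L299812 rfl
theorem L485896 : N35373 = N28631 := eqes L485895 (flp_e L242468)
theorem L485897 : N35373 = N28631 := eqc rfl L485896 rfl
theorem L485903 : sm gh N20631 = N16696 := trfs L485883 L206439 rfl
theorem L485904 : N16696 = N14187 := eqes L485903 (flp_h L175353)
theorem L485905 : N16696 = N14187 := eqc rfl L485904 rfl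
theorem L485918 : sm gf N14187 = N24290 := trfs L485905 (flp_f L206481) rfl
theorem L485919 : N24290 = N20630 := eqes L485918 L175344
theorem L485920 : N24290 = N20630 := eqc rfl L485919 rfl
theorem L485923 : sm gi N14187 = N24294 := trfs L485905 L206513 rfl
theorem L485924 : N24294 = N9780 := eqes L485923 L120901
theorem L485925 : N24294 = N9780 := eqc rfl L485924 rfl
theorem L485936 : sm gg N9780 = N16700 := trfs L485925 L206519 rfl
theorem L485937 : N16700 = N6764 := eqes L485936 L83601
theorem L485938 : N16700 = N6764 := eqc rfl L485937 rfl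
theorem L485950 : sm gh N6764 = N24300 := trfs L485938 L206565 rfl
theorem L485951 : N24300 = N9805 := eqes L485950 L83834
theorem L485952 : N24300 = N9805 := eqc rfl L485951 rfl
theorem L485955 : sm gb N9805 = N35345 := trfs L485952 (flp_b L299543) rfl
theorem L485956 : N35345 = N6767 := eqes L485955 L83836
theorem L485957 : N35345 = N6767 := eqc rfl L485956 rfl
theorem L485978 : sm gj N6767 = N24395 := trfs L485957 L299545 rfl
theorem L485979 : N24395 = N4696 := eqes L485978 L58071
theorem L485980 : N24395 = N4696 := eqc rfl L485979 rfl
theorem L485996 : sm gi N4696 = N35521 := trfs L485980 (flp_i L301079) rfl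
theorem L485997 : N35521 = N6794 := eqes L485996 L58294
theorem L485998 : N35521 = N6794 := eqc rfl L485997 rfl
theorem L486003 : sm gh N6794 = N24389 := trfs L485998 (flp_h L301072) rfl
theorem L486004 : N24389 = N9833 := eqes L486003 (flp_h L84079)
theorem L486005 : N24389 = N9833 := eqc rfl L486004 rfl
theorem L486020 : sm gi N9833 = N16765 := trfs L486005 (flp_i L207323) rfl
theorem L486021 : N16765 = N6782 := eqes L486020 (flp_i L84074)
theorem L486022 : N16765 = N6782 := eqc rfl L486021 rfl
theorem L486024 : sm gb N6782 = N11553 := trfs L486022 L142959 rfl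
theorem L486025 : N11553 = N9828 := eqes L486024 (flp_b L84037)
theorem L486026 : N11553 = N9828 := eqc rfl L486025 rfl
theorem L486030 : sm gd N6782 = N11542 := trfs L486022 (flp_d L142956) rfl
theorem L486031 : N11542 = N9821 := eqes L486030 (flp_d L83976)
theorem L486032 : N11542 = N9821 := eqc rfl L486031 rfl
theorem L486043 : sm gh N6782 = N11543 := trfs L486022 L142962 rfl
theorem L486044 : N11543 = N4689 := eqes L486043 (flp_h L58204)
theorem L486045 : N11543 = N4689 := eqc rfl L486044 rfl
theorem L486050 : sm ge N4689 = N16768 := trfs L486045 L142978 rfl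
theorem L486051 : N16768 = N6478 := eqes L486050 (flp_e L55558)
theorem L486052 : N16768 = N6478 := eqc rfl L486051 rfl
theorem L486071 : sm gi N6478 = N24394 := trfs L486052 L207359 rfl
theorem L486072 : N24394 = N4491 := eqes L486071 L55555
theorem L486073 : N24394 = N4491 := eqc rfl L486072 rfl
theorem L486085 : sm gj N4491 = N35344 := trfs L486073 (flp_j L299538) rfl
theorem L486086 : N35344 = N6473 := eqes L486085 (flp_j L55509)
theorem L486087 : N35344 = N6473 := eqc rfl L486086 rfl
theorem L486091 : sm gd N6473 = N24274 := trfs L486087 L299534 rfl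
theorem L486092 : N24274 = N4484 := eqes L486091 (flp_d L55506)
theorem L486093 : N24274 = N4484 := eqc rfl L486092 rfl
theorem L486109 : sm gh N4484 = N35357 := trfs L486093 L299658 rfl
theorem L486110 : N35357 = N6433 := eqes L486109 (flp_h L55141)
theorem L486111 : N35357 = N6433 := eqc rfl L486110 rfl
theorem L486118 : sm gj N6433 = N24402 := trfs L486111 L299665 rfl
theorem L486119 : N24402 = N4461 := eqes L486118 L55139
theorem L486120 : N24402 = N4461 := eqc rfl L486119 rfl
theorem L486130 : sm ge N4461 = N16774 := trfs L486120 L207434 rfl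
theorem L486131 : N16774 = N3096 := eqes L486130 (flp_e L38389)
theorem L486132 : N16774 = N3096 := eqc rfl L486131 rfl
theorem L486150 : sm gh N3096 = N11547 := trfs L486132 (flp_h L143029) rfl
theorem L486151 : N11547 = N2169 := eqes L486150 L26768
theorem L486152 : N11547 = N2169 := eqc rfl L486151 rfl
theorem L486170 : sm gi N2169 = N7962 := trfs L486152 (flp_i L98814) rfl
theorem L486171 : N7962 = N3113 := eqes L486170 (flp_i L26928)
theorem L486172 : N7962 = N3113 := eqc rfl L486171 rfl
theorem L486174 : sm gb N3113 = N5506 := trfs L486172 L68420 rfl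
theorem L486175 : N5506 = N4486 := eqes L486174 L38621
theorem L486176 : N5506 = N4486 := eqc rfl L486175 rfl
theorem L486186 : sm gj N3113 = N11484 := trfs L486172 (flp_j L98259) rfl
theorem L486187 : N11484 = N4481 := eqes L486186 (flp_j L38579)
theorem L486188 : N11484 = N4481 := eqc rfl L486187 rfl
theorem L486192 : sm gc N4481 = N16683 := trfs L486188 L142237 rfl
theorem L486193 : N16683 = N3110 := eqes L486192 (flp_c L38574)
theorem L486194 : N16683 = N3110 := eqc rfl L486193 rfl
theorem L486217 : sm gi N3110 = N24272 := trfs L486194 L206307 rfl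
theorem L486218 : N24272 = N2167 := eqes L486217 L26902
theorem L486219 : N24272 = N2167 := eqc rfl L486218 rfl
theorem L486234 : sm gh N2167 = N35354 := trfs L486219 L299628 rfl
theorem L486235 : N35354 = N3095 := eqes L486234 (flp_h L26760)
theorem L486236 : N35354 = N3095 := eqc rfl L486235 rfl
theorem L486240 : sm gf N3095 = N24279 := trfs L486236 L299634 rfl
theorem L486241 : N24279 = N2158 := eqes L486240 L26755
theorem L486242 : N24279 = N2158 := eqc rfl L486241 rfl
theorem L486253 : sm gj N2158 = N16778 := trfs L486242 L206385 rfl
theorem L486254 : N16778 = N1506 := eqes L486253 L18740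
theorem L486255 : N16778 = N1506 := eqc rfl L486254 rfl
theorem L486271 : sm gh N1506 = N11549 := trfs L486255 (flp_h L143064) rfl
theorem L486272 : N11549 = N1062 := eqes L486271 L13138
theorem L486273 : N11549 = N1062 := eqc rfl L486272 rfl
theorem L486287 : sm gi N1062 = N7964 := trfs L486273 (flp_i L98833) rfl
theorem L486288 : N7964 = N1517 := eqes L486287 (flp_i L13249)
theorem L486289 : N7964 = N1517 := eqc rfl L486288 rfl
theorem L486293 : sm gd N1517 = N6257 := trfs L486289 L68444 rfl
theorem L486294 : N6257 = N1061 := eqes L486293 (flp_d L13243)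
theorem L486295 : N6257 = N1061 := eqc rfl L486294 rfl
theorem L486320 : sm gj N1061 = N8998 := trfs L486295 (flp_j L76877) rfl
theorem L486321 : N8998 = N1515 := eqes L486320 (flp_j L13232)
theorem L486322 : N8998 = N1515 := eqc rfl L486321 rfl
theorem L486335 : sm gi N1515 = N13051 := trfs L486322 L111137 rfl
theorem L486336 : N13051 = N1060 := eqes L486335 L13234
theorem L486337 : N13051 = N1060 := eqc rfl L486336 rfl
theorem L486346 : sm gh N1060 = N18969 := trfs L486337 L161085 rfl
theorem L486347 : N18969 = N736 := eqes L486346 (flp_h L9287)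
theorem L486348 : N18969 = N736 := eqc rfl L486347 rfl
theorem L486363 : sm gi N736 = N13237 := trfs L486348 L161094 rfl
theorem L486364 : N13237 = N507 := eqes L486363 (flp_i L6461)
theorem L486365 : N13237 = N507 := eqc rfl L486364 rfl
theorem L486380 : sm gh N507 = N9129 := trfs L486365 (flp_h L112707) rfl
theorem L486381 : N9129 = N735 := eqes L486380 L6449
theorem L486382 : N9129 = N735 := eqc rfl L486381 rfl
theorem L486388 : sm gf N735 = N13230 := trfs L486382 (flp_f L112647) rfl
theorem L486389 : N13230 = N1055 := eqes L486388 (flp_f L9238)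
theorem L486390 : N13230 = N1055 := eqc rfl L486389 rfl
theorem L486398 : sm ge N1055 = N19224 := trfs L486390 (flp_e L163222) rfl
theorem L486399 : N19224 = N1055 := eqes L486398 L9237
theorem L486400 : N19224 = N1055 := eqc rfl L486399 rfl
theorem L486429 : sm gh N1055 = N27961 := trfs L486400 L236807 rfl
theorem L486430 : N27961 = N732 := eqes L486429 (flp_h L9231)
theorem L486431 : N27961 = N732 := eqc rfl L486430 rfl
theorem L486447 : sm gi N732 = N40189 := trfs L486431 (flp_i L339534) rfl
theorem L486448 : N40189 = N1056 := eqes L486447 L9243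
theorem L486449 : N40189 = N1056 := eqc rfl L486448 rfl
theorem L486454 : sm gj N1056 = N27768 := trfs L486449 L339532 rfl
theorem L486455 : N27768 = N734 := eqes L486454 L9252
theorem L486456 : N27768 = N734 := eqc rfl L486455 rfl
theorem L486467 : sm gh N734 = N19088 := trfs L486456 (flp_h L235199) rfl
theorem L486468 : N19088 = N1058 := eqes L486467 L9265
theorem L486469 : N19088 = N1058 := eqc rfl L486468 rfl
theorem L486485 : sm gi N1058 = N13134 := trfs L486469 (flp_i L162089) rfl
theorem L486486 : N13134 = N1513 := eqes L486485 (flp_i L13214)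
theorem L486487 : N13134 = N1513 := eqc rfl L486486 rfl
theorem L486495 : sm gf N1513 = N19087 := trfs L486487 L162079 rfl
theorem L486496 : N19087 = N1061 := eqes L486495 L13211
theorem L486497 : N19087 = N1061 := eqc rfl L486496 rfl
theorem L486512 : sm gh N1061 = N13355 := trfs L486497 L162085 rfl
theorem L486513 : N13355 = N737 := eqes L486512 (flp_h L9298)
theorem L486514 : N13355 = N737 := eqc rfl L486513 rfl
theorem L486526 : sm gi N737 = N19407 := trfs L486514 L164811 rfl
theorem L486527 : N19407 = N508 := eqes L486526 (flp_i L6472)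
theorem L486528 : N19407 = N508 := eqc rfl L486527 rfl
theorem L486534 : sm gd N508 = N28221 := trfs L486528 (flp_d L239061) rfl
theorem L486535 : N28221 = N508 := eqes L486534 L4470
theorem L486536 : N28221 = N508 := eqc rfl L486535 rfl
theorem L486559 : sm gh N508 = N41109 := trfs L486536 L347329 rfl
theorem L486560 : N41109 = N347 := eqes L486559 (flp_h L4460)
theorem L486561 : N41109 = N347 := eqc rfl L486560 rfl
theorem L486565 : sm gf N347 = N28223 := trfs L486561 L347333 rfl
theorem L486566 : N28223 = N506 := eqes L486565 L4443
theorem L486567 : N28223 = N506 := eqc rfl L486566 rfl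
theorem L486582 : sm gi N506 = N41110 := trfs L486567 (flp_i L347341) rfl
theorem L486583 : N41110 = N734 := eqes L486582 L6439
theorem L486584 : N41110 = N734 := eqc rfl L486583 rfl
theorem L486589 : sm gh N734 = N28222 := trfs L486584 (flp_h L347335) rfl
theorem L486590 : N28222 = N1058 := eqes L486589 L9265
theorem L486591 : N28222 = N1058 := eqc rfl L486590 rfl
theorem L486608 : sm gi N1058 = N19404 := trfs L486591 (flp_i L239065) rfl
theorem L486609 : N19404 = N1513 := eqes L486608 (flp_i L13214)
theorem L486610 : N19404 = N1513 := eqc rfl L486609 rfl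
theorem L486627 : sm gh N1513 = N13354 := trfs L486610 (flp_h L164788) rfl
theorem L486628 : N13354 = N1057 := eqes L486627 (flp_h L13204)
theorem L486629 : N13354 = N1057 := eqc rfl L486628 rfl
theorem L486639 : sm gj N1057 = N19222 := trfs L486629 (flp_j L163203) rfl
theorem L486640 : N19222 = N1511 := eqes L486639 (flp_j L13191)
theorem L486641 : N19222 = N1511 := eqc rfl L486640 rfl
theorem L486653 : sm gg N1511 = N27949 := trfs L486641 (flp_g L236703) rfl
theorem L486654 : N27949 = N2164 := eqes L486653 (flp_g L18801)
theorem L486655 : N27949 = N2164 := eqc rfl L486654 rfl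
theorem L486663 : sm gd N2164 = N19217 := trfs L486655 (flp_d L236699) rfl
theorem L486664 : N19217 = N2164 := eqes L486663 L18798
theorem L486665 : N19217 = N2164 := eqc rfl L486664 rfl
theorem L486699 : sm gh N2164 = N27577 := trfs L486665 (flp_h L233567) rfl
theorem L486700 : N27577 = N3108 := eqes L486699 L26873
theorem L486701 : N27577 = N3108 := eqc rfl L486700 rfl
theorem L486706 : sm gd N3108 = N40177 := trfs L486701 L339407 rfl
theorem L486707 : N40177 = N4478 := eqes L486706 L38546
theorem L486708 : N40177 = N4478 := eqc rfl L486707 rfl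
theorem L486738 : sm gg N4478 = N27582 := trfs L486708 L339411 rfl
theorem L486739 : N27582 = N3110 := eqes L486738 L38551
theorem L486740 : N27582 = N3110 := eqc rfl L486739 rfl
theorem L486748 : sm ge N3110 = N35351 := trfs L486740 (flp_e L299605) rfl
theorem L486749 : N35351 = N4482 := eqes L486748 L38586
theorem L486750 : N35351 = N4482 := eqc rfl L486749 rfl
theorem L486776 : sm gj N4482 = N24396 := trfs L486750 L299603 rfl
theorem L486777 : N24396 = N3114 := eqes L486776 L38590
theorem L486778 : N24396 = N3114 := eqc rfl L486777 rfl
theorem L486781 : sm gc N3114 = N35525 := trfs L486778 (flp_c L301109) rfl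
theorem L486782 : N35525 = N4487 := eqes L486781 (flp_c L38635)
theorem L486783 : N35525 = N4487 := eqc rfl L486782 rfl
theorem L486832 : sm ge N4487 = N27756 := trfs L486783 L301111 rfl
theorem L486833 : N27756 = N3113 := eqes L486832 (flp_e L38632)
theorem L486834 : N27756 = N3113 := eqc rfl L486833 rfl
theorem L486842 : sm gf N3113 = N40435 := trfs L486834 L341626 rfl
theorem L486843 : N40435 = N2174 := eqes L486842 L26924
theorem L486844 : N40435 = N2174 := eqc rfl L486843 rfl
theorem L486862 : sm gd N2174 = N27757 := trfs L486844 L341631 rfl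
theorem L486863 : N27757 = N1579 := eqes L486862 L18895
theorem L486864 : N27757 = N1579 := eqc rfl L486863 rfl
theorem L486877 : sm gj N1579 = N40171 := trfs L486864 (flp_j L339362) rfl
theorem L486878 : N40171 = N2261 := eqes L486877 (flp_j L19661)
theorem L486879 : N40171 = N2261 := eqc rfl L486878 rfl
theorem L486893 : sm gc N2261 = N27574 := trfs L486879 L339360 rfl
theorem L486894 : N27574 = N1575 := eqes L486893 (flp_c L19657)
theorem L486895 : N27574 = N1575 := eqc rfl L486894 rfl
theorem L486908 : sm gh N1575 = N40155 := trfs L486895 (flp_h L339229) rfl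
theorem L486909 : N40155 = N2260 := eqes L486908 (flp_h L19655)
theorem L486910 : N40155 = N2260 := eqc rfl L486909 rfl
theorem L486921 : sm gd N2260 = N27927 := trfs L486910 L339225 rfl
theorem L486922 : N27927 = N1574 := eqes L486921 (flp_d L19646)
theorem L486923 : N27927 = N1574 := eqc rfl L486922 rfl
theorem L486935 : sm gh N1574 = N19214 := trfs L486923 L236506 rfl
theorem L486936 : N19214 = N1099 := eqes L486935 (flp_h L13751)
theorem L486937 : N19214 = N1099 := eqc rfl L486936 rfl
theorem L486948 : sm gj N1099 = N13351 := trfs L486937 L163129 rfl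
theorem L486949 : N13351 = N767 := eqes L486948 L9653
theorem L486950 : N13351 = N767 := eqc rfl L486949 rfl
theorem L486964 : sm gi N767 = N19401 := trfs L486950 L164764 rfl
theorem L486965 : N19401 = N530 := eqes L486964 (flp_i L6756)
theorem L486966 : N19401 = N530 := eqc rfl L486965 rfl
theorem L486979 : sm gh N530 = N28216 := trfs L486966 L239020 rfl
theorem L486980 : N28216 = N530 := eqes L486979 L4682
theorem L486981 : N28216 = N530 := eqc rfl L486980 rfl
theorem L486987 : sm gd N530 = N41100 := trfs L486981 L347260 rfl
theorem L486988 : N41100 = N362 := eqes L486987 (flp_d L4673)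
theorem L486989 : N41100 = N362 := eqc rfl L486988 rfl
theorem L487009 : sm gh N362 = N28231 := trfs L486989 L347267 rfl
theorem L487010 : N28231 = N246 := eqes L487009 (flp_h L3196)
theorem L487011 : N28231 = N246 := eqc rfl L487010 rfl
theorem L487034 : sm gi N246 = N40459 := trfs L487011 (flp_i L341826) rfl
theorem L487035 : N40459 = N363 := eqes L487034 L3205
theorem L487036 : N40459 = N363 := eqc rfl L487035 rfl
theorem L487044 : sm gf N363 = N27773 := trfs L487036 L341824 rfl
theorem L487045 : N27773 = N527 := eqes L487044 (flp_f L4649)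
theorem L487046 : N27773 = N527 := eqc rfl L487045 rfl
theorem L487057 : sm gj N527 = N40194 := trfs L487046 (flp_j L339585) rfl
theorem L487058 : N40194 = N760 := eqes L487057 (flp_j L6695)
theorem L487059 : N40194 = N760 := eqc rfl L487058 rfl
theorem L487066 : sm gi N760 = N27966 := trfs L487059 L339587 rfl
theorem L487067 : N27966 = N525 := eqes L487066 (flp_i L6686)
theorem L487068 : N27966 = N525 := eqc rfl L487067 rfl
theorem L487077 : sm gg N525 = N40725 := trfs L487068 (flp_g L344037) rfl
theorem L487078 : N40725 = N758 := eqes L487077 L6667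
theorem L487079 : N40725 = N758 := eqc rfl L487078 rfl
theorem L487083 : sm gb N758 = N28034 := trfs L487079 L344035 rfl
theorem L487084 : N28034 = N563 := eqes L487083 L6670
theorem L487085 : N28034 = N563 := eqc rfl L487084 rfl
theorem L487092 : sm gc N563 = N40839 := trfs L487085 L345072 rfl
theorem L487093 : N40839 = N563 := eqes L487092 L4978
theorem L487094 : N40839 = N563 := eqc rfl L487093 rfl
theorem L487107 : sm gg N563 = N28038 := trfs L487094 L345077 rfl
theorem L487108 : N28038 = N386 := eqes L487107 (flp_g L4974)
theorem L487109 : N28038 = N386 := eqc rfl L487108 rfl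
theorem L487129 : sm gi N386 = N40266 := trfs L487109 (flp_i L340248) rfl
theorem L487130 : N40266 = N565 := eqes L487129 L4993
theorem L487131 : N40266 = N565 := eqc rfl L487130 rfl
theorem L487138 : sm gj N565 = N27815 := trfs L487131 L340246 rfl
theorem L487139 : N27815 = N388 := eqes L487138 L5002
theorem L487140 : N27815 = N388 := eqc rfl L487139 rfl
theorem L487154 : sm gh N388 = N40513 := trfs L487140 (flp_h L342270) rfl
theorem L487155 : N40513 = N568 := eqes L487154 L5021
theorem L487156 : N40513 = N568 := eqc rfl L487155 rfl
theorem L487161 : sm gc N568 = N27811 := trfs L487156 (flp_c L342264) rfl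
theorem L487162 : N27811 = N568 := eqes L487161 L5025
theorem L487163 : N27811 = N568 := eqc rfl L487162 rfl
theorem L487176 : sm gi N568 = N40497 := trfs L487163 (flp_i L342144) rfl
theorem L487177 : N40497 = N822 := eqes L487176 (flp_i L7264)
theorem L487178 : N40497 = N822 := eqc rfl L487177 rfl
theorem L487179 : sm ga N822 = N27839 := trfs L487178 L342141 rfl
theorem L487180 : N27839 = N631 := eqes L487179 L7257
theorem L487181 : N27839 = N631 := eqc rfl L487180 rfl
theorem L487197 : sm gh N631 = N19479 := trfs L487181 L235793 rfl
theorem L487198 : N19479 = N433 := eqes L487197 (flp_h L5587)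
theorem L487199 : N19479 = N433 := eqc rfl L487198 rfl
theorem L487215 : sm gi N433 = N13420 := trfs L487199 L165399 rfl
theorem L487216 : N13420 = N294 := eqes L487215 (flp_i L3845)
theorem L487217 : N13420 = N294 := eqc rfl L487216 rfl
theorem L487229 : sm gj N294 = N19340 := trfs L487217 (flp_j L164247) rfl
theorem L487230 : N19340 = N430 := eqes L487229 (flp_j L3826)
theorem L487231 : N19340 = N430 := eqc rfl L487230 rfl
theorem L487250 : sm gh N430 = N13314 := trfs L487231 L164250 rfl
theorem L487251 : N13314 = N293 := eqes L487250 (flp_h L3819)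
theorem L487252 : N13314 = N293 := eqc rfl L487251 rfl
theorem L487264 : sm gi N293 = N19046 := trfs L487252 (flp_i L161761) rfl
theorem L487265 : N19046 = N431 := eqes L487264 L3828
theorem L487266 : N19046 = N431 := eqc rfl L487265 rfl
theorem L487279 : sm gh N431 = N27700 := trfs L487266 (flp_h L234652) rfl
theorem L487280 : N27700 = N627 := eqes L487279 L5556
theorem L487281 : N27700 = N627 := eqc rfl L487280 rfl
theorem L487289 : sm gf N627 = N40357 := trfs L487281 (flp_f L340998) rfl
theorem L487290 : N40357 = N437 := eqes L487289 L5561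
theorem L487291 : N40357 = N437 := eqc rfl L487290 rfl
theorem L487297 : sm gj N437 = N27854 := trfs L487291 L341000 rfl
theorem L487298 : N27854 = N300 := eqes L487297 L3885
theorem L487299 : N27854 = N300 := eqc rfl L487298 rfl
theorem L487312 : sm gh N300 = N19155 := trfs L487299 L235895 rfl
theorem L487313 : N19155 = N204 := eqes L487312 (flp_h L2670)
theorem L487314 : N19155 = N204 := eqc rfl L487313 rfl
theorem L487326 : sm gg N204 = N27857 := trfs L487314 (flp_g L235918) rfl
theorem L487327 : N27857 = N140 := eqes L487326 L1834
theorem L487328 : N27857 = N140 := eqc rfl L487327 rfl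
theorem L487349 : sm gi N140 = N19497 := trfs L487328 L235920 rfl
theorem L487350 : N19497 = N95 := eqes L487349 (flp_i L1261)
theorem L487351 : N19497 = N95 := eqc rfl L487350 rfl
theorem L487365 : sm gj N95 = N28346 := trfs L487351 (flp_j L240042) rfl
theorem L487366 : N28346 = N95 := eqes L487365 L870
theorem L487367 : N28346 = N95 := eqc rfl L487366 rfl
theorem L487379 : sm gg N95 = N40983 := trfs L487367 (flp_g L346297) rfl
theorem L487380 : N40983 = N138 := eqes L487379 L1246
theorem L487381 : N40983 = N138 := eqc rfl L487380 rfl
theorem L487394 : sm gj N138 = N28136 := trfs L487381 L346299 rfl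
theorem L487395 : N28136 = N202 := eqes L487394 L1811
theorem L487396 : N28136 = N202 := eqc rfl L487395 rfl
theorem L487415 : sm gi N202 = N40364 := trfs L487396 (flp_i L341066) rfl
theorem L487416 : N40364 = N297 := eqes L487415 L2645
theorem L487417 : N40364 = N297 := eqc rfl L487416 rfl
theorem L487419 : sm gd N297 = N27706 := trfs L487417 (flp_d L341061) rfl
theorem L487420 : N27706 = N297 := eqes L487419 L2649
theorem L487421 : N27706 = N297 := eqc rfl L487420 rfl
theorem L487429 : sm gf N297 = N40360 := trfs L487421 (flp_f L341026) rfl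

end Cfsg.Agent.Helper28.FicA
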