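import Cfsg.Agent.Helper28.FicB28

/-! # The Fi₂₃ presentation, cosets of the subgroup generated by a, …, i: the coset enumeration, part 29 (helper28; generated) -/

set_option autoImplicit false

noncomputable section

namespace Cfsg.Agent.Helper28.FicA

open Cfsg.Agent.Helper28.CosetTable

theorem L487430 : N40360 = N431 := eqes L487429 (flp_f L3834)
theorem L487431 : N40360 = N431 := eqc rfl L487430 rfl
theorem L487462 : sm gi N431 = N28132 := trfs L487431 L341030 rfl
theorem L487463 : N28132 = N293 := eqes L487462 (flp_i L3828)
theorem L487464 : N28132 = N293 := eqc rfl L487463 rfl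
theorem L487475 : sm gh N293 = N19342 := trfs L487464 (flp_h L238314) rfl
theorem L487476 : N19342 = N430 := eqes L487475 L3819
theorem L487477 : N19342 = N430 := eqc rfl L487476 rfl
theorem L487494 : sm gi N430 = N13308 := trfs L487477 (flp_i L164260) rfl
theorem L487495 : N13308 = N626 := eqes L487494 L5547
theorem L487496 : N13308 = N626 := eqc rfl L487495 rfl
theorem L487513 : sm gh N626 = N19040 := trfs L487496 (flp_h L161703) rfl
theorem L487514 : N19040 = N905 := eqes L487513 L8004
theorem L487515 : N19040 = N905 := eqc rfl L487514 rfl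
theorem L487521 : sm gd N905 = N27685 := trfs L487515 (flp_d L234534) rfl
theorem L487522 : N27685 = N1300 := eqes L487521 L11445
theorem L487523 : N27685 = N1300 := eqc rfl L487522 rfl
theorem L487572 : sm gc N1300 = N40335 := trfs L487523 (flp_c L340827) rfl
theorem L487573 : N40335 = N1867 := eqes L487572 L16357
theorem L487574 : N40335 = N1867 := eqc rfl L487573 rfl
theorem L487593 : sm gf N1867 = N27693 := trfs L487574 L340830 rfl
theorem L487594 : N27693 = N1318 := eqes L487593 L16359
theorem L487595 : N27693 = N1318 := eqc rfl L487594 rfl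
theorem L487605 : sm ge N1318 = N39714 := trfs L487595 (flp_e L335619) rfl
theorem L487606 : N39714 = N1895 := eqes L487605 L16584
theorem L487607 : N39714 = N1895 := eqc rfl L487606 rfl
theorem L487619 : sm gg N1895 = N27243 := trfs L487607 (flp_g L335615) rfl
theorem L487620 : N27243 = N1895 := eqes L487619 L16588
theorem L487621 : N27243 = N1895 := eqc rfl L487620 rfl
theorem L487633 : sm gh N1895 = N39679 := trfs L487621 (flp_h L335333) rfl
theorem L487634 : N39679 = N2723 := eqes L487633 (flp_h L23716)
theorem L487635 : N39679 = N1411 := eqc rfl L487634 L470673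
theorem L487645 : sm ge N1411 = N1892 := trfs L487635 L335335 L467799
theorem L487646 : N1892 = N1006 := eqes L487645 L12338
theorem L487647 : N1892 = N1006 := eqc rfl L487646 rfl
theorem L487663 : sm gh N1006 = N1318 := trfs L487647 L16562 rfl
theorem L487664 : N1318 = N1446 := eqes L487663 L12617
theorem L487665 : N1446 = N1318 := (eqc rfl L487664 rfl).symm
theorem L487676 : sm gh N1318 = N1006 := trfs L487665 (flp_h L12617) rfl
theorem L487678 : sm gi N1318 = N2082 := trfs L487665 L18083 rfl
theorem L487679 : N2082 = N919 := eqes L487678 L11597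
theorem L487680 : N2082 = N919 := eqc rfl L487679 rfl
theorem L487688 : sm gj N919 = N1459 := trfs L487680 L18089 rfl
theorem L487689 : N1459 = N641 := eqes L487688 L8121
theorem L487690 : N1459 = N641 := eqc rfl L487689 rfl
theorem L487698 : sm gg N641 = N1022 := trfs L487690 L12727 rfl
theorem L487699 : N1022 = N446 := eqes L487698 L5672
theorem L487700 : N1022 = N446 := eqc rfl L487699 rfl
theorem L487711 : sm gi N446 = N708 := trfs L487700 (flp_i L8939) rfl
theorem L487712 : N708 = N646 := eqes L487711 (flp_i L5714)
theorem L487713 : N708 = N646 := eqc rfl L487712 rfl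
theorem L487723 : sm gh N646 = N488 := trfs L487713 (flp_h L6211) rfl
theorem L487724 : N488 = N931 := eqes L487723 (flp_h L8216)
theorem L487725 : N931 = N488 := (eqc rfl L487724 rfl).symm
theorem L487730 : sm gd N488 = N1336 := trfs L487725 (flp_d L11739) rfl
theorem L487731 : N1336 = N334 := eqes L487730 (flp_d L4290)
theorem L487732 : N1336 = N334 := eqc rfl L487731 rfl
theorem L487737 : sm gh N488 = N646 := trfs L487725 L8216 rfl
theorem L487749 : sm gg N334 = N1903 := trfs L487732 (flp_g L16652) rfl
theorem L487750 : N1903 = N484 := eqes L487749 (flp_g L4262)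
theorem L487751 : N1903 = N484 := eqc rfl L487750 rfl
theorem L487764 : sm gf N484 = N2700 := trfs L487751 (flp_f L23533) rfl
theorem L487765 : N2700 = N703 := eqes L487764 L6173
theorem L487766 : N2700 = N703 := eqc rfl L487765 rfl
theorem L487780 : sm gj N703 = N3863 := trfs L487766 (flp_j L33504) rfl
theorem L487781 : N3863 = N1007 := eqes L487780 (flp_j L8827)
theorem L487782 : N3863 = N1007 := eqc rfl L487781 rfl
theorem L487787 : sm gc N1007 = N2680 := trfs L487782 (flp_c L33500) rfl
theorem L487788 : N2680 = N712 := eqes L487787 L8825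
theorem L487789 : N2680 = N712 := eqc rfl L487788 rfl
theorem L487800 : sm gd N712 = N1864 := trfs L487789 (flp_d L23365) rfl
theorem L487801 : N1864 = N1026 := eqes L487800 (flp_d L8979)
theorem L487802 : N1864 = N1026 := eqc rfl L487801 rfl
theorem L487819 : sm gh N1026 = N1297 := trfs L487802 (flp_h L16329) rfl
theorem L487820 : N1297 = N1475 := eqes L487819 L12858
theorem L487821 : N1475 = N1297 := (eqc rfl L487820 rfl).symm
theorem L487824 : sm gb N1297 = N1031 := trfs L487821 L12860 rfl
theorem L487825 : N1031 = N1861 := eqes L487824 (flp_b L16305)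
theorem L487826 : N1861 = N1031 := (eqc rfl L487825 rfl).symm
theorem L487833 : sm gh N1297 = N1026 := trfs L487821 (flp_h L12858) rfl
theorem L487835 : sm gi N1297 = N2121 := trfs L487821 L18411 rfl
theorem L487836 : N2121 = N902 := eqes L487835 (flp_i L11419)
theorem L487837 : N2121 = N902 := eqc rfl L487836 rfl
theorem L487839 : sm gb N902 = N1480 := trfs L487837 L18413 rfl
theorem L487840 : N1480 = N1295 := eqes L487839 L11401
theorem L487841 : N1480 = N1295 := eqc rfl L487840 rfl
theorem L487852 : sm ge N1295 = N2125 := trfs L487841 (flp_e L18451) rfl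
theorem L487853 : N2125 = N1860 := eqes L487852 L16292
theorem L487854 : N2125 = N1860 := eqc rfl L487853 rfl
theorem L487855 : sm gf N1295 = N1032 := trfs L487841 L12909 rfl
theorem L487856 : N1032 = N915 := eqes L487855 L11404
theorem L487857 : N1032 = N915 := eqc rfl L487856 rfl
theorem L487858 : sm gg N1295 = N2126 := trfs L487841 (flp_g L18463) rfl
theorem L487859 : N2126 = N1851 := eqes L487858 (flp_g L16219)
theorem L487860 : N2126 = N1851 := eqc rfl L487859 rfl
theorem L487861 : sm gj N1295 = N1042 := trfs L487841 L12911 rfl
theorem L487862 : N1042 = N907 := eqes L487861 L11406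
theorem L487863 : N1042 = N907 := eqc rfl L487862 rfl
theorem L487871 : sm ge N907 = N1494 := trfs L487863 (flp_e L13026) rfl
theorem L487872 : N1494 = N1303 := eqes L487871 L11469
theorem L487873 : N1494 = N1303 := eqc rfl L487872 rfl
theorem L487874 : sm gf N907 = N723 := trfs L487863 L9118 rfl
theorem L487875 : N723 = N637 := eqes L487874 L8026
theorem L487876 : N723 = N637 := eqc rfl L487875 rfl
theorem L487879 : sm gi N907 = N722 := trfs L487863 (flp_i L9113) rfl
theorem L487880 : N722 = N1304 := eqes L487879 L11478
theorem L487881 : N1304 = N722 := (eqc rfl L487880 rfl).symm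
theorem L487887 : sm ge N722 = N1873 := trfs L487881 (flp_e L16413) rfl
theorem L487888 : N1873 = N1041 := eqes L487887 (flp_e L9109)
theorem L487889 : N1873 = N1041 := eqc rfl L487888 rfl
theorem L487890 : sm gf N722 = N921 := trfs L487881 L11485 rfl
theorem L487891 : N921 = N499 := eqes L487890 L6334
theorem L487892 : N921 = N499 := eqc rfl L487891 rfl
theorem L487895 : sm gh N722 = N1874 := trfs L487881 L16417 rfl
theorem L487896 : N1874 = N498 := eqes L487895 (flp_h L6330)
theorem L487897 : N1874 = N498 := eqc rfl L487896 rfl
theorem L487898 : sm gi N722 = N907 := trfs L487881 (flp_i L11478) rfl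
theorem L487909 : sm gf N498 = N1323 := trfs L487897 L16423 rfl
theorem L487910 : N1323 = N341 := eqes L487909 (flp_f L4375)
theorem L487911 : N1323 = N341 := eqc rfl L487910 rfl
theorem L487916 : sm gb N341 = N922 := trfs L487911 L11637 rfl
theorem L487917 : N922 = N496 := eqes L487916 (flp_b L4361)
theorem L487918 : N922 = N496 := eqc rfl L487917 rfl
theorem L487924 : sm gg N341 = N929 := trfs L487911 L11641 rfl
theorem L487925 : N929 = N238 := eqes L487924 L3009
theorem L487926 : N929 = N238 := eqc rfl L487925 rfl
theorem L487927 : sm gj N341 = N1890 := trfs L487911 (flp_j L16547) rfl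
theorem L487928 : N1890 = N492 := eqes L487927 (flp_j L4326)
theorem L487929 : N1890 = N492 := eqc rfl L487928 rfl
theorem L487935 : sm gd N492 = N2719 := trfs L487929 L23673 rfl
theorem L487936 : N2719 = N337 := eqes L487935 (flp_d L4322)
theorem L487937 : N2719 = N337 := eqc rfl L487936 rfl
theorem L487961 : sm ge N337 = N3923 := trfs L487937 L33971 rfl
theorem L487962 : N3923 = N231 := eqes L487961 (flp_e L2970)
theorem L487963 : N3923 = N231 := eqc rfl L487962 rfl
theorem L487979 : sm gj N231 = N2738 := trfs L487963 L33977 rfl
theorem L487980 : N2738 = N160 := eqes L487979 L2053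
theorem L487981 : N2738 = N160 := eqc rfl L487980 rfl
theorem L487994 : sm gg N160 = N1921 := trfs L487981 L23843 rfl
theorem L487995 : N1921 = N112 := eqes L487994 L1433
theorem L487996 : N1921 = N112 := eqc rfl L487995 rfl
theorem L488008 : sm gf N112 = N2767 := trfs L487996 L24061 rfl
theorem L488009 : N2767 = N79 := eqes L488008 L1010
theorem L488010 : N2767 = N79 := eqc rfl L488009 rfl
theorem L488016 : sm gc N79 = N3995 := trfs L488010 (flp_c L34561) rfl
theorem L488017 : N3995 = N55 := eqes L488016 (flp_c L713)
theorem L488018 : N3995 = N55 := eqc rfl L488017 rfl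
theorem L488029 : sm gd N55 = N5777 := trfs L488018 (flp_d L49735) rfl
theorem L488030 : N5777 = N38 := eqes L488029 (flp_d L497)
theorem L488031 : N5777 = N38 := eqc rfl L488030 rfl
theorem L488051 : sm gh N38 = N8376 := trfs L488031 L71792 rfl
theorem L488052 : N8376 = N26 := eqes L488051 (flp_h L345)
theorem L488053 : N8376 = N26 := eqc rfl L488052 rfl
theorem L488069 : sm gi N26 = N12163 := trfs L488053 L103851 rfl
theorem L488070 : N12163 = N18 := eqes L488069 (flp_i L239)
theorem L488071 : N12163 = N18 := eqc rfl L488070 rfl
theorem L488081 : sm gf N18 = N8377 := trfs L488071 L103856 rfl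
theorem L488082 : N8377 = N25 := eqes L488081 L231
theorem L488083 : N8377 = N25 := eqc rfl L488082 rfl
theorem L488094 : sm gg N25 = N12014 := trfs L488083 (flp_g L102664) rfl
theorem L488095 : N12014 = N36 := eqes L488094 L328
theorem L488096 : N12014 = N36 := eqc rfl L488095 rfl
theorem L488112 : sm gi N36 = N8277 := trfs L488096 (flp_i L102658) rfl
theorem L488113 : N8277 = N53 := eqes L488112 L479
theorem L488114 : N8277 = N53 := eqc rfl L488113 rfl
theorem L488127 : sm gh N53 = N5712 := trfs L488114 (flp_h L70999) rfl
theorem L488128 : N5712 = N77 := eqes L488127 L696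
theorem L488129 : N5712 = N77 := eqc rfl L488128 rfl
theorem L488139 : sm gj N77 = N8211 := trfs L488129 (flp_j L70429) rfl
theorem L488140 : N8211 = N110 := eqes L488139 (flp_j L996)
theorem L488141 : N8211 = N110 := eqc rfl L488140 rfl
theorem L488144 : sm gb N110 = N11911 := trfs L488141 (flp_b L101749) rfl
theorem L488145 : N11911 = N154 := eqes L488144 (flp_b L1378)
theorem L488146 : N11911 = N154 := eqc rfl L488145 rfl
theorem L488167 : sm gh N154 = N17316 := trfs L488146 L147434 rfl
theorem L488168 : N17316 = N106 := eqes L488167 (flp_h L1376)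
theorem L488169 : N17316 = N106 := eqc rfl L488168 rfl
theorem L488181 : sm gi N106 = N25200 := trfs L488169 L213930 rfl
theorem L488182 : N25200 = N72 := eqes L488181 (flp_i L954)
theorem L488183 : N25200 = N72 := eqc rfl L488182 rfl
theorem L488184 : sm ga N72 = N36711 := trfs L488183 (flp_a L310777) rfl
theorem L488185 : N36711 = N91 := eqes L488184 (flp_a L828)
theorem L488186 : N36711 = N91 := eqc rfl L488185 rfl
theorem L488207 : sm gj N91 = N25410 := trfs L488186 L310783 rfl
theorem L488208 : N25410 = N62 := eqes L488207 (flp_j L826)
theorem L488209 : N25410 = N62 := eqc rfl L488208 rfl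
theorem L488224 : sm gi N62 = N17457 := trfs L488209 (flp_i L215800) rfl
theorem L488225 : N17457 = N92 := eqes L488224 L836
theorem L488226 : N17457 = N92 := eqc rfl L488225 rfl
theorem L488239 : sm gh N92 = N12005 := trfs L488226 (flp_h L148684) rfl
theorem L488240 : N12005 = N135 := eqes L488239 L1217
theorem L488241 : N12005 = N135 := eqc rfl L488240 rfl
theorem L488252 : sm gg N135 = N8368 := trfs L488241 L102589 rfl
theorem L488253 : N8368 = N93 := eqes L488252 L1224
theorem L488254 : N8368 = N93 := eqc rfl L488253 rfl
theorem L488268 : sm gf N93 = N12149 := trfs L488254 L103736 rfl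
theorem L488269 : N12149 = N64 := eqes L488268 L852
theorem L488270 : N12149 = N64 := eqc rfl L488269 rfl
theorem L488287 : sm gh N64 = N17673 := trfs L488270 L150425 rfl
theorem L488288 : N17673 = N43 := eqes L488287 (flp_h L580)
theorem L488289 : N17673 = N43 := eqc rfl L488288 rfl
theorem L488301 : sm gi N43 = N25734 := trfs L488289 L218397 rfl
theorem L488302 : N25734 = N29 := eqes L488301 (flp_i L391)
theorem L488303 : N25734 = N29 := eqc rfl L488302 rfl
theorem L488310 : sm ge N29 = N37515 := trfs L488303 (flp_e L317505) rfl
theorem L488311 : N37515 = N20 := eqes L488310 (flp_e L266)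
theorem L488312 : N37515 = N20 := eqc rfl L488311 rfl
theorem L488317 : sm ga N20 = N25748 := trfs L488312 L317502 rfl
theorem L488318 : N25748 = N16 := eqes L488317 L188
theorem L488319 : N25748 = N16 := eqc rfl L488318 rfl
theorem L488337 : sm gi N16 = N17682 := trfs L488319 (flp_i L218514) rfl
theorem L488338 : N17682 = N24 := eqes L488337 L222
theorem L488339 : N17682 = N24 := eqc rfl L488338 rfl
theorem L488352 : sm gh N24 = N12154 := trfs L488339 (flp_h L150501) rfl
theorem L488353 : N12154 = N35 := eqes L488352 L319
theorem L488354 : N12154 = N35 := eqc rfl L488353 rfl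
theorem L488357 : sm gc N35 = N17676 := trfs L488354 (flp_c L150457) rfl
theorem L488358 : N17676 = N48 := eqes L488357 (flp_c L438)
theorem L488359 : N17676 = N48 := eqc rfl L488358 rfl
theorem L488370 : sm gd N48 = N25735 := trfs L488359 L218407 rfl
theorem L488371 : N25735 = N71 := eqes L488370 L641
theorem L488372 : N25735 = N71 := eqc rfl L488371 rfl
theorem L488384 : sm ge N71 = N17705 := trfs L488372 L218414 rfl
theorem L488385 : N17705 = N105 := eqes L488384 L946
theorem L488386 : N17705 = N105 := eqc rfl L488385 rfl
theorem L488398 : sm gf N105 = N12201 := trfs L488386 L150690 rfl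
theorem L488399 : N12201 = N153 := eqes L488398 L1368
theorem L488400 : N12201 = N153 := eqc rfl L488399 rfl
theorem L488412 : sm gg N153 = N17750 := trfs L488400 L151050 rfl
theorem L488413 : N17750 = N224 := eqes L488412 L1988
theorem L488414 : N17750 = N224 := eqc rfl L488413 rfl
theorem L488418 : sm ga N224 = N25824 := trfs L488414 (flp_a L219130) rfl
theorem L488419 : N25824 = N286 := eqes L488418 (flp_a L2546)
theorem L488420 : N25824 = N286 := eqc rfl L488419 rfl
theorem L488469 : sm gb N286 = N37634 := trfs L488420 (flp_b L318473) rfl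
theorem L488470 : N37634 = N385 := eqes L488469 (flp_b L3411)
theorem L488471 : N37634 = N385 := eqc rfl L488470 rfl
theorem L488484 : sm gg N385 = N25814 := trfs L488471 (flp_g L318470) rfl
theorem L488485 : N25814 = N262 := eqes L488484 (flp_g L3408)
theorem L488486 : N25814 = N262 := eqc rfl L488485 rfl
theorem L488497 : sm gf N262 = N37552 := trfs L488486 (flp_f L317808) rfl
theorem L488498 : N37552 = N179 := eqes L488497 (flp_f L2327)
theorem L488499 : N37552 = N179 := eqc rfl L488498 rfl
theorem L488505 : sm gd N179 = N25759 := trfs L488499 (flp_d L317803) rfl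
theorem L488506 : N25759 = N260 := eqes L488505 (flp_d L2315)
theorem L488507 : N25759 = N260 := eqc rfl L488506 rfl
theorem L488523 : sm gh N260 = N29741 := trfs L488507 L426959 rfl
theorem L488524 : N29741 = N375 := eqes L488523 (flp_h L3325)
theorem L488525 : N29741 = N375 := eqc rfl L488524 rfl
theorem L488541 : sm gi N375 = N20430 := trfs L488525 (flp_i L252144) rfl
theorem L488542 : N20430 = N544 := eqes L488541 (flp_i L4813)
theorem L488543 : N20430 = N544 := eqc rfl L488542 rfl
theorem L488551 : sm gf N544 = N29737 := trfs L488543 (flp_f L252114) rfl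
theorem L488552 : N29737 = N786 := eqes L488551 L6934
theorem L488553 : N29737 = N786 := eqc rfl L488552 rfl
theorem L488566 : sm gg N786 = N43344 := trfs L488553 (flp_g L366558) rfl
theorem L488567 : N43344 = N1132 := eqes L488566 L9948
theorem L488568 : N43344 = N1132 := eqc rfl L488567 rfl
theorem L488573 : sm gc N1132 = N29735 := trfs L488568 (flp_c L366554) rfl
theorem L488574 : N29735 = N1624 := eqes L488573 (flp_c L14203)
theorem L488575 : N29735 = N1624 := eqc rfl L488574 rfl
theorem L488593 : sm gi N1624 = N43346 := trfs L488575 L366570 rfl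
theorem L488594 : N43346 = N1138 := eqes L488593 L14206
theorem L488595 : N43346 = N1138 := eqc rfl L488594 rfl
theorem L488602 : sm gg N1138 = N29739 := trfs L488595 L366578 rfl
theorem L488603 : N29739 = N790 := eqes L488602 (flp_g L9999)
theorem L488604 : N29739 = N790 := eqc rfl L488603 rfl
theorem L488614 : sm gh N790 = N23039 := trfs L488604 L426994 rfl
theorem L488615 : N23039 = N557 := eqes L488614 L6975
theorem L488616 : N23039 = N557 := eqc rfl L488615 rfl
theorem L488621 : sm gd N557 = N29870 := trfs L488616 (flp_d L427346) rfl
theorem L488622 : N29870 = N805 := eqes L488621 (flp_d L7105)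
theorem L488623 : N29870 = N805 := eqc rfl L488622 rfl
theorem L488653 : sm gh N805 = N20517 := trfs L488623 (flp_h L253241) rfl
theorem L488654 : N20517 = N1162 := eqes L488653 L10209
theorem L488655 : N20517 = N1162 := eqc rfl L488654 rfl
theorem L488677 : sm gi N1162 = N14107 := trfs L488655 (flp_i L174367) rfl
theorem L488678 : N14107 = N1672 := eqes L488677 L14608
theorem L488679 : N14107 = N1672 := eqc rfl L488678 rfl
theorem L488696 : sm gg N1672 = N20513 := trfs L488679 (flp_g L174338) rfl
theorem L488697 : N20513 = N2406 := eqes L488696 (flp_g L20914)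
theorem L488698 : N20513 = N2406 := eqc rfl L488697 rfl
theorem L488715 : sm gj N2406 = N29862 := trfs L488698 (flp_j L253173) rfl
theorem L488716 : N29862 = N3470 := eqes L488715 (flp_j L30003)
theorem L488717 : N29862 = N3470 := eqc rfl L488716 rfl
theorem L488736 : sm gi N3470 = N43534 := trfs L488717 L368149 rfl
theorem L488737 : N43534 = N2405 := eqes L488736 (flp_i L29996)
theorem L488738 : N43534 = N2405 := eqc rfl L488737 rfl
theorem L488743 : sm gd N2405 = N29863 := trfs L488738 L368154 rfl
theorem L488744 : N29863 = N3397 := eqes L488743 (flp_d L29380)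
theorem L488745 : N29863 = N3397 := eqc rfl L488744 rfl
theorem L488762 : sm gh N3397 = N43343 := trfs L488745 (flp_h L366552) rfl
theorem L488763 : N43343 = N2353 := eqes L488762 (flp_h L29372)
theorem L488764 : N43343 = N2353 := eqc rfl L488763 rfl
theorem L488774 : sm gi N2353 = N29734 := trfs L488764 (flp_i L366542) rfl
theorem L488775 : N29734 = N3372 := eqes L488774 (flp_i L29178)
theorem L488776 : N29734 = N3372 := eqc rfl L488775 rfl
theorem L488789 : sm gh N3372 = N20426 := trfs L488776 (flp_h L252081) rfl
theorem L488790 : N20426 = N4880 := eqes L488789 L42006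
theorem L488791 : N20426 = N4880 := eqc rfl L488790 rfl
theorem L488793 : sm gb N4880 = N14055 := trfs L488791 L173584 rfl
theorem L488794 : N14055 = N7060 := eqes L488793 (flp_b L60529)
theorem L488795 : N14055 = N7060 := eqc rfl L488794 rfl
theorem L488806 : sm gi N4880 = N14105 := trfs L488791 L173589 rfl
theorem L488807 : N14105 = N7069 := eqes L488806 L60600
theorem L488808 : N14105 = N7069 := eqc rfl L488807 rfl
theorem L488810 : sm gb N7069 = N9724 := trfs L488808 L120184 rfl
theorem L488811 : N9724 = N10249 := eqes L488810 (flp_b L87562)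
theorem L488812 : N10249 = N9724 := (eqc rfl L488811 rfl).symm
theorem L488815 : sm ge N7069 = N20508 := trfs L488808 (flp_e L174290) rfl
theorem L488816 : N20508 = N10255 := eqes L488815 (flp_e L87613)
theorem L488817 : N20508 = N10255 := eqc rfl L488816 rfl
theorem L488820 : sm gj N7069 = N9717 := trfs L488808 (flp_j L120181) rfl
theorem L488821 : N9717 = N4881 := eqes L488820 L60607
theorem L488822 : N9717 = N4881 := eqc rfl L488821 rfl
theorem L488825 : sm gb N4881 = N6709 := trfs L488822 L83045 rfl
theorem L488826 : N6709 = N7061 := eqes L488825 (flp_b L60538)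
theorem L488827 : N7061 = N6709 := (eqc rfl L488826 rfl).symm
theorem L488830 : sm ge N4881 = N14103 := trfs L488822 (flp_e L120168) rfl
theorem L488831 : N14103 = N7066 := eqes L488830 (flp_e L60581)
theorem L488832 : N14103 = N7066 := eqc rfl L488831 rfl
theorem L488834 : sm gg N4881 = N6706 := trfs L488822 (flp_g L83042) rfl
theorem L488835 : N6706 = N3374 := eqes L488834 L42021
theorem L488836 : N6706 = N3374 := eqc rfl L488835 rfl
theorem L488840 : sm gb N3374 = N4639 := trfs L488836 L57519 rfl
theorem L488841 : N4639 = N4874 := eqes L488840 (flp_b L41960)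
theorem L488842 : N4874 = N4639 := (eqc rfl L488841 rfl).symm
theorem L488845 : sm ge N3374 = N9716 := trfs L488836 L83033 rfl
theorem L488846 : N9716 = N4879 := eqes L488845 (flp_e L42001)
theorem L488847 : N9716 = N4879 := eqc rfl L488846 rfl
theorem L488848 : sm gf N3374 = N4638 := trfs L488836 (flp_f L57516) rfl
theorem L488849 : N4638 = N2338 := eqes L488848 L29194
theorem L488850 : N4638 = N2338 := eqc rfl L488849 rfl
theorem L488853 : sm gi N3374 = N9680 := trfs L488836 (flp_i L82718) rfl
theorem L488854 : N9680 = N2337 := eqes L488853 (flp_i L29189)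
theorem L488855 : N9680 = N2337 := eqc rfl L488854 rfl
theorem L488857 : sm gb N2337 = N6682 := trfs L488855 L82713 rfl
theorem L488858 : N6682 = N3367 := eqes L488857 (flp_b L29130)
theorem L488859 : N6682 = N3367 := eqc rfl L488858 rfl
theorem L488870 : sm gh N2337 = N14049 := trfs L488855 L119687 rfl
theorem L488871 : N14049 = N1622 := eqes L488870 (flp_h L20324)
theorem L488872 : N14049 = N1622 := eqc rfl L488871 rfl
theorem L488882 : sm gf N1622 = N9681 := trfs L488872 L119693 rfl
theorem L488883 : N9681 = N1130 := eqes L488882 (flp_f L14184)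
theorem L488884 : N9681 = N1130 := eqc rfl L488883 rfl
theorem L488900 : sm gi N1130 = N14051 := trfs L488884 L119704 rfl
theorem L488901 : N14051 = N789 := eqes L488900 L9936
theorem L488902 : N14051 = N789 := eqc rfl L488901 rfl
theorem L488915 : sm gh N789 = N9720 := trfs L488902 L119714 rfl
theorem L488916 : N9720 = N1137 := eqes L488915 L9991
theorem L488917 : N9720 = N1137 := eqc rfl L488916 rfl
theorem L488930 : sm gi N1137 = N6707 := trfs L488917 (flp_i L83068) rfl
theorem L488931 : N6707 = N1635 := eqes L488930 L14289
theorem L488932 : N6707 = N1635 := eqc rfl L488931 rfl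
theorem L488934 : sm gb N1635 = N4640 := trfs L488932 L57527 rfl
theorem L488935 : N4640 = N2349 := eqes L488934 (flp_b L20425)
theorem L488936 : N4640 = N2349 := eqc rfl L488935 rfl
theorem L488939 : sm ge N1635 = N4883 := trfs L488932 L57530 rfl
theorem L488940 : N4883 = N2242 := eqes L488939 (flp_e L19475)
theorem L488941 : N4883 = N2242 := eqc rfl L488940 rfl
theorem L488947 : sm gb N2242 = N3377 := trfs L488941 L42037 rfl
theorem L488948 : N3377 = N3223 := eqes L488947 (flp_b L27874)
theorem L488949 : N3377 = N3223 := eqc rfl L488948 rfl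
theorem L488957 : sm gh N2242 = N3375 := trfs L488941 (flp_h L42034) rfl
theorem L488958 : N3375 = N3212 := eqes L488957 (flp_h L27788)
theorem L488959 : N3375 = N3212 := eqc rfl L488958 rfl
theorem L488962 : sm gb N3212 = N2340 := trfs L488959 (flp_b L29199) rfl
theorem L488963 : N2340 = N4631 := eqes L488962 (flp_b L39876)
theorem L488964 : N4631 = N2340 := (eqc rfl L488963 rfl).symm
theorem L488966 : sm gd N3212 = N2573 := trfs L488959 L29201 rfl
theorem L488967 : N2573 = N4620 := eqes L488966 (flp_d L39776)
theorem L488968 : N4620 = N2573 := (eqc rfl L488967 rfl).symm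
theorem L488970 : sm gf N3212 = N4882 := trfs L488959 L42025 rfl
theorem L488971 : N4882 = N4637 := eqes L488970 (flp_f L39931)
theorem L488972 : N4882 = N4637 := eqc rfl L488971 rfl
theorem L488975 : sm gi N3212 = N4857 := trfs L488959 (flp_i L41810) rfl
theorem L488976 : N4857 = N2230 := eqes L488975 (flp_i L27780)
theorem L488977 : N4857 = N2230 := eqc rfl L488976 rfl
theorem L488979 : sm gb N2230 = N3359 := trfs L488977 (flp_b L41804) rfl
theorem L488980 : N3359 = N3207 := eqes L488979 (flp_b L27741)
theorem L488981 : N3359 = N3207 := eqc rfl L488980 rfl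
theorem L488983 : sm gd N2230 = N3698 := trfs L488977 L41806 rfl
theorem L488984 : N3698 = N3200 := eqes L488983 (flp_d L27680)
theorem L488985 : N3698 = N3200 := eqc rfl L488984 rfl
theorem L488987 : sm gf N2230 = N7034 := trfs L488977 L60293 rfl
theorem L488988 : N7034 = N3211 := eqes L488987 (flp_f L27777)
theorem L488989 : N7034 = N3211 := eqc rfl L488988 rfl
theorem L488994 : sm gb N3211 = N4858 := trfs L488989 L60296 rfl
theorem L488995 : N4858 = N4630 := eqes L488994 (flp_b L39869)
theorem L488996 : N4858 = N4630 := eqc rfl L488995 rfl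
theorem L488998 : sm gd N3211 = N5352 := trfs L488989 L60299 rfl
theorem L488999 : N5352 = N4619 := eqes L488998 (flp_d L39771)
theorem L489000 : N5352 = N4619 := eqc rfl L488999 rfl
theorem L489008 : sm gh N3211 = N10209 := trfs L488989 L87207 rfl
theorem L489009 : N10209 = N2229 := eqes L489008 (flp_h L27773)
theorem L489010 : N10209 = N2229 := eqc rfl L489009 rfl
theorem L489028 : sm gi N2229 = N14841 := trfs L489010 L126412 rfl
theorem L489029 : N14841 = N1558 := eqes L489028 L19373
theorem L489030 : N14841 = N1558 := eqc rfl L489029 rfl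
theorem L489047 : sm gh N1558 = N10266 := trfs L489030 L126421 rfl
theorem L489048 : N10266 = N2241 := eqes L489047 L19462
theorem L489049 : N10266 = N2241 := eqc rfl L489048 rfl
theorem L489060 : sm gg N2241 = N14922 := trfs L489049 (flp_g L127100) rfl
theorem L489061 : N14922 = N3228 := eqes L489060 (flp_g L27917)
theorem L489062 : N14922 = N3228 := eqc rfl L489061 rfl
theorem L489079 : sm gi N3228 = N10265 := trfs L489062 (flp_i L127092) rfl
theorem L489080 : N10265 = N4662 := eqes L489079 L40133
theorem L489081 : N10265 = N4662 := eqc rfl L489080 rfl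
theorem L489083 : sm gb N4662 = N7078 := trfs L489081 L87693 rfl
theorem L489084 : N7078 = N6732 := eqes L489083 (flp_b L57738)
theorem L489085 : N7078 = N6732 := eqc rfl L489084 rfl
theorem L489096 : sm gh N4662 = N7071 := trfs L489081 (flp_h L87690) rfl
theorem L489097 : N7071 = N6705 := eqes L489096 (flp_h L57514)
theorem L489098 : N7071 = N6705 := eqc rfl L489097 rfl
theorem L489100 : sm gb N6705 = N4885 := trfs L489098 L60621 rfl
theorem L489101 : N4885 = N9707 := eqes L489100 (flp_b L82959)
theorem L489102 : N9707 = N4885 := (eqc rfl L489101 rfl).symm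
theorem L489104 : sm gd N6705 = N5380 := trfs L489098 L60624 rfl
theorem L489105 : N5380 = N9679 := eqes L489104 (flp_d L82704)
theorem L489106 : N9679 = N5380 := (eqc rfl L489105 rfl).symm
theorem L489107 : sm ge N6705 = N10262 := trfs L489098 (flp_e L87669) rfl
theorem L489108 : N10262 = N9712 := eqes L489107 (flp_e L83002)
theorem L489109 : N10262 = N9712 := eqc rfl L489108 rfl
theorem L489112 : sm gj N6705 = N10264 := trfs L489098 L87680 rfl
theorem L489113 : N10264 = N9715 := eqes L489112 (flp_j L83029)
theorem L489114 : N10264 = N9715 := eqc rfl L489113 rfl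
theorem L489117 : sm gb N9715 = N7077 := trfs L489114 L87683 rfl
theorem L489118 : N7077 = N14090 := eqes L489117 (flp_b L120055)
theorem L489119 : N14090 = N7077 := (eqc rfl L489118 rfl).symm
theorem L489121 : sm gd N9715 = N7796 := trfs L489114 L87686 rfl
theorem L489122 : N7796 = N14046 := eqes L489121 (flp_d L119659)
theorem L489123 : N14046 = N7796 := (eqc rfl L489122 rfl).symm
theorem L489124 : sm ge N9715 = N14917 := trfs L489114 (flp_e L127052) rfl
theorem L489125 : N14917 = N14096 := eqes L489124 (flp_e L120110)
theorem L489126 : N14917 = N14096 := eqc rfl L489125 rfl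
theorem L489130 : sm gi N9715 = N14838 := trfs L489114 (flp_i L126390) rfl
theorem L489131 : N14838 = N6704 := eqes L489130 (flp_i L83023)
theorem L489132 : N14838 = N6704 := eqc rfl L489131 rfl
theorem L489134 : sm gb N6704 = N10215 := trfs L489132 L126384 rfl
theorem L489135 : N10215 = N9706 := eqes L489134 (flp_b L82951)
theorem L489136 : N10215 = N9706 := eqc rfl L489135 rfl
theorem L489138 : sm gd N6704 = N11263 := trfs L489132 L126387 rfl
theorem L489139 : N11263 = N9678 := eqes L489138 (flp_d L82699)
theorem L489140 : N11263 = N9678 := eqc rfl L489139 rfl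
theorem L489147 : sm gh N6704 = N21604 := trfs L489132 L183551 rfl
theorem L489148 : N21604 = N4635 := eqes L489147 (flp_h L57499)
theorem L489149 : N21604 = N4635 := eqc rfl L489148 rfl
theorem L489164 : sm gi N4635 = N31488 := trfs L489149 L266871 rfl
theorem L489165 : N31488 = N3227 := eqes L489164 L39917
theorem L489166 : N31488 = N3227 := eqc rfl L489165 rfl
theorem L489175 : sm ge N3227 = N45938 := trfs L489166 (flp_e L388343) rfl
theorem L489176 : N45938 = N4657 := eqes L489175 (flp_e L40097)
theorem L489177 : N45938 = N4657 := eqc rfl L489176 rfl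
theorem L489191 : sm gh N4657 = N31656 := trfs L489177 L388348 rfl
theorem L489192 : N31656 = N6735 := eqes L489191 L57760
theorem L489193 : N31656 = N6735 := eqc rfl L489192 rfl
theorem L489209 : sm gi N6735 = N21720 := trfs L489193 (flp_i L268230) rfl
theorem L489210 : N21720 = N9762 := eqes L489209 L83422
theorem L489211 : N21720 = N9762 := eqc rfl L489210 rfl
theorem L489213 : sm gb N9762 = N14930 := trfs L489211 L184510 rfl
theorem L489214 : N14930 = N14156 := eqes L489213 (flp_b L120619)
theorem L489215 : N14930 = N14156 := eqc rfl L489214 rfl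
theorem L489221 : sm gf N9762 = N31652 := trfs L489211 (flp_f L268201) rfl
theorem L489222 : N31652 = N14164 := eqes L489221 (flp_f L120686)
theorem L489223 : N31652 = N14164 := eqc rfl L489222 rfl
theorem L489228 : sm gb N14164 = N21735 := trfs L489223 L268197 rfl
theorem L489229 : N21735 = N20581 := eqes L489228 (flp_b L174910)
theorem L489230 : N21735 = N20581 := eqc rfl L489229 rfl
theorem L489242 : sm gh N14164 = N21718 := trfs L489223 (flp_h L268194) rfl
theorem L489243 : N21718 = N20492 := eqes L489242 (flp_h L174167)
theorem L489244 : N21718 = N20492 := eqc rfl L489243 rfl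
theorem L489247 : sm gb N20492 = N14928 := trfs L489244 L184492 rfl
theorem L489248 : N14928 = N29816 := eqes L489247 (flp_b L252790)
theorem L489249 : N29816 = N14928 := (eqc rfl L489248 rfl).symm
theorem L489251 : sm gd N20492 = N31644 := trfs L489244 (flp_d L268130) rfl
theorem L489252 : N31644 = N29832 := eqes L489251 (flp_d L252916)
theorem L489253 : N31644 = N29832 := eqc rfl L489252 rfl
theorem L489256 : sm gg N20492 = N31651 := trfs L489244 L268186 rfl
theorem L489257 : N31651 = N29829 := eqes L489256 (flp_g L252893)
theorem L489258 : N31651 = N29829 := eqc rfl L489257 rfl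
theorem L489259 : sm gj N20492 = N14916 := trfs L489244 (flp_j L184489) rfl
theorem L489260 : N14916 = N14094 := eqes L489259 L174165
theorem L489261 : N14916 = N14094 := eqc rfl L489260 rfl
theorem L489262 : sm gi N20492 = N31479 := trfs L489244 (flp_i L266798) rfl
theorem L489263 : N31479 = N14092 := eqes L489262 (flp_i L174158)
theorem L489264 : N31479 = N14092 := eqc rfl L489263 rfl
theorem L489266 : sm gb N14092 = N21619 := trfs L489264 L266792 rfl
theorem L489267 : N21619 = N20480 := eqes L489266 (flp_b L174062)
theorem L489268 : N21619 = N20480 := eqc rfl L489267 rfl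
theorem L489281 : sm gh N14092 = N45934 := trfs L489264 L388300 rfl
theorem L489282 : N45934 = N9708 := eqes L489281 (flp_h L120073)
theorem L489283 : N45934 = N9708 := eqc rfl L489282 rfl
theorem L489291 : sm gj N9708 = N31480 := trfs L489283 L388309 rfl
theorem L489292 : N31480 = N6699 := eqes L489291 (flp_j L82966)
theorem L489293 : N31480 = N6699 := eqc rfl L489292 rfl
theorem L489310 : sm gi N6699 = N45936 := trfs L489293 L388318 rfl
theorem L489311 : N45936 = N4656 := eqes L489310 L57460
theorem L489312 : N45936 = N4656 := eqc rfl L489311 rfl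
theorem L489320 : sm gh N4656 = N31654 := trfs L489312 L388327 rfl
theorem L489321 : N31654 = N6734 := eqes L489320 L57751
theorem L489322 : N31654 = N6734 := eqc rfl L489321 rfl
theorem L489333 : sm gg N6734 = N43521 := trfs L489322 (flp_g L368042) rfl
theorem L489334 : N43521 = N4907 := eqes L489333 L57758
theorem L489335 : N43521 = N4907 := eqc rfl L489334 rfl
theorem L489347 : sm gi N4907 = N29855 := trfs L489335 (flp_i L368033) rfl
theorem L489348 : N29855 = N7107 := eqes L489347 L60911
theorem L489349 : N29855 = N7107 := eqc rfl L489348 rfl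
theorem L489351 : sm gb N7107 = N20526 := trfs L489349 L253104 rfl
theorem L489352 : N20526 = N10300 := eqes L489351 (flp_b L87979)
theorem L489353 : N20526 = N10300 := eqc rfl L489352 rfl
theorem L489366 : sm gh N7107 = N20507 := trfs L489349 (flp_h L253101) rfl
theorem L489367 : N20507 = N10253 := eqes L489366 (flp_h L87600)
theorem L489368 : N20507 = N10253 := eqc rfl L489367 rfl
theorem L489370 : sm gb N10253 = N14113 := trfs L489368 L174278 rfl
theorem L489371 : N14113 = N14891 := eqes L489370 (flp_b L126851)
theorem L489372 : N14891 = N14113 := (eqc rfl L489371 rfl).symm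
theorem L489374 : sm gd N10253 = N29849 := trfs L489368 (flp_d L253052) rfl
theorem L489375 : N29849 = N14904 := eqes L489374 (flp_d L126951)
theorem L489376 : N29849 = N14904 := eqc rfl L489375 rfl
theorem L489380 : sm gj N10253 = N29854 := trfs L489368 L253092 rfl
theorem L489381 : N29854 = N14901 := eqes L489380 (flp_j L126933)
theorem L489382 : N29854 = N14901 := eqc rfl L489381 rfl
theorem L489383 : sm gi N10253 = N29729 := trfs L489368 (flp_i L252034) rfl
theorem L489384 : N29729 = N7063 := eqes L489383 (flp_i L87593)
theorem L489385 : N29729 = N7063 := eqc rfl L489384 rfl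
theorem L489387 : sm gb N7063 = N20435 := trfs L489385 L252031 rfl
theorem L489388 : N20435 = N10243 := eqes L489387 (flp_b L87517)
theorem L489389 : N20435 = N10243 := eqc rfl L489388 rfl
theorem L489399 : sm gj N7063 = N43334 := trfs L489385 L366455 rfl
theorem L489400 : N43334 = N10251 := eqes L489399 (flp_j L87586)
theorem L489401 : N43334 = N10251 := eqc rfl L489400 rfl
theorem L489404 : sm gb N10251 = N29750 := trfs L489401 L366458 rfl
theorem L489405 : N29750 = N14889 := eqes L489404 (flp_b L126836)
theorem L489406 : N29750 = N14889 := eqc rfl L489405 rfl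
theorem L489411 : sm ga N14889 = N20461 := trfs L489406 L252230 rfl
theorem L489412 : N20461 = N21636 := eqes L489411 (flp_a L183852)
theorem L489413 : N21636 = N20461 := (eqc rfl L489412 rfl).symm
theorem L489414 : sm gc N14889 = N20448 := trfs L489406 L252232 rfl
theorem L489415 : N20448 = N21656 := eqes L489414 (flp_c L184014)
theorem L489416 : N21656 = N20448 := (eqc rfl L489415 rfl).symm
theorem L489417 : sm gd N14889 = N43360 := trfs L489406 (flp_d L366700) rfl
theorem L489418 : N43360 = N21679 := eqes L489417 L184191
theorem L489419 : N43360 = N21679 := eqc rfl L489418 rfl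
theorem L489421 : sm gf N14889 = N20436 := trfs L489406 L252235 rfl
theorem L489422 : N20436 = N10244 := eqes L489421 L126839
theorem L489423 : N20436 = N10244 := eqc rfl L489422 rfl
theorem L489424 : sm gg N14889 = N43368 := trfs L489406 L366765 rfl
theorem L489425 : N43368 = N21678 := eqes L489424 (flp_g L184189)
theorem L489426 : N43368 = N21678 := eqc rfl L489425 rfl
theorem L489431 : sm gi N14889 = N20525 := trfs L489406 L252237 rfl
theorem L489432 : N20525 = N21680 := eqes L489431 L184199
theorem L489433 : N21680 = N20525 := (eqc rfl L489432 rfl).symm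
theorem L489442 : sm gd N20525 = N31599 := trfs L489433 (flp_d L267791) rfl
theorem L489443 : N31599 = N29873 := eqes L489442 (flp_d L253272)
theorem L489444 : N31599 = N29873 := eqc rfl L489443 rfl
theorem L489446 : sm gf N20525 = N14893 := trfs L489433 L184204 rfl
theorem L489447 : N14893 = N14114 := eqes L489446 L174443
theorem L489448 : N14893 = N14114 := eqc rfl L489447 rfl
theorem L489449 : sm gg N20525 = N31596 := trfs L489433 (flp_g L267769) rfl
theorem L489450 : N31596 = N29881 := eqes L489449 L253334
theorem L489451 : N31596 = N29881 := eqc rfl L489450 rfl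
theorem L489453 : sm gh N20525 = N14968 := trfs L489433 L184208 rfl
theorem L489454 : N14968 = N29882 := eqes L489453 L253344
theorem L489455 : N29882 = N14968 := (eqc rfl L489454 rfl).symm
theorem L489456 : sm gi N20525 = N14889 := trfs L489433 (flp_i L184199) rfl
theorem L489458 : sm ga N14968 = N20560 := trfs L489455 L253346 rfl
theorem L489459 : N20560 = N21747 := eqes L489458 (flp_a L184738)
theorem L489460 : N21747 = N20560 := (eqc rfl L489459 rfl).symm
theorem L489462 : sm gc N14968 = N20540 := trfs L489455 L253348 rfl
theorem L489463 : N20540 = N21774 := eqes L489462 (flp_c L184952)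
theorem L489464 : N21774 = N20540 := (eqc rfl L489463 rfl).symm
theorem L489465 : sm gd N14968 = N43562 := trfs L489455 L368400 rfl
theorem L489466 : N43562 = N21790 := eqes L489465 (flp_d L185073)
theorem L489467 : N43562 = N21790 := eqc rfl L489466 rfl
theorem L489469 : sm gf N14968 = N20527 := trfs L489455 L253351 rfl
theorem L489470 : N20527 = N10302 := eqes L489469 L127464
theorem L489471 : N20527 = N10302 := eqc rfl L489470 rfl
theorem L489472 : sm gg N14968 = N43561 := trfs L489455 (flp_g L368396) rfl
theorem L489473 : N43561 = N21787 := eqes L489472 (flp_g L185052)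
theorem L489474 : N43561 = N21787 := eqc rfl L489473 rfl
theorem L489476 : sm gh N14968 = N20525 := trfs L489455 (flp_h L253344) rfl
theorem L489478 : sm gi N14968 = N43563 := trfs L489455 L368408 rfl
theorem L489479 : N43563 = N10298 := eqes L489478 (flp_i L127459)
theorem L489480 : N43563 = N10298 := eqc rfl L489479 rfl
theorem L489488 : sm gf N10298 = N29886 := trfs L489480 L368415 rfl
theorem L489489 : N29886 = N7098 := eqes L489488 L87967
theorem L489490 : N29886 = N7098 := eqc rfl L489489 rfl
theorem L489492 : sm ga N7098 = N20564 := trfs L489490 L253383 rfl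
theorem L489493 : N20564 = N10278 := eqes L489492 (flp_a L87805)
theorem L489494 : N20564 = N10278 := eqc rfl L489493 rfl
theorem L489496 : sm gc N7098 = N20544 := trfs L489490 L253385 rfl
theorem L489497 : N20544 = N10291 := eqes L489496 (flp_c L87911)
theorem L489498 : N20544 = N10291 := eqc rfl L489497 rfl
theorem L489507 : sm gh N7098 = N43373 := trfs L489490 (flp_h L366827) rfl
theorem L489508 : N43373 = N4900 := eqes L489507 (flp_h L60842)
theorem L489509 : N43373 = N4900 := eqc rfl L489508 rfl
theorem L489522 : sm gi N4900 = N29752 := trfs L489509 (flp_i L366816) rfl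
theorem L489523 : N29752 = N7056 := eqes L489522 (flp_i L60501)
theorem L489524 : N29752 = N7056 := eqc rfl L489523 rfl
theorem L489525 : sm ga N7056 = N20463 := trfs L489524 L252252 rfl
theorem L489526 : N20463 = N10222 := eqes L489525 (flp_a L87334)
theorem L489527 : N20463 = N10222 := eqc rfl L489526 rfl
theorem L489529 : sm gc N7056 = N20450 := trfs L489524 L252254 rfl
theorem L489530 : N20450 = N10231 := eqes L489529 (flp_c L87415)
theorem L489531 : N20450 = N10231 := eqc rfl L489530 rfl
theorem L489538 : sm gj N7056 = N20437 := trfs L489524 L252259 rfl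
theorem L489539 : N20437 = N4870 := eqes L489538 (flp_j L60495)
theorem L489540 : N20437 = N4870 := eqc rfl L489539 rfl
theorem L489542 : sm ga N4870 = N14072 := trfs L489540 L173688 rfl
theorem L489543 : N14072 = N7041 := eqes L489542 (flp_a L60362)
theorem L489544 : N14072 = N7041 := eqc rfl L489543 rfl
theorem L489548 : sm gc N4870 = N14063 := trfs L489540 L173690 rfl
theorem L489549 : N14063 = N7047 := eqes L489548 (flp_c L60419)
theorem L489550 : N14063 = N7047 := eqc rfl L489549 rfl
theorem L489563 : sm gh N4870 = N14053 := trfs L489540 (flp_h L173686) rfl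
theorem L489564 : N14053 = N7057 := eqes L489563 L60504
theorem L489565 : N14053 = N7057 := eqc rfl L489564 rfl
theorem L489567 : sm ga N7057 = N9693 := trfs L489565 L119728 rfl
theorem L489568 : N9693 = N10223 := eqes L489567 (flp_a L87344)
theorem L489569 : N10223 = N9693 := (eqc rfl L489568 rfl).symm
theorem L489571 : sm gc N7057 = N9687 := trfs L489565 L119730 rfl
theorem L489572 : N9687 = N10232 := eqes L489571 (flp_c L87425)
theorem L489573 : N10232 = N9687 := (eqc rfl L489572 rfl).symm
theorem L489574 : sm gd N7057 = N20433 := trfs L489565 (flp_d L173651) rfl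
theorem L489575 : N20433 = N10245 := eqes L489574 L87531
theorem L489576 : N20433 = N10245 := eqc rfl L489575 rfl
theorem L489577 : sm ge N7057 = N9683 := trfs L489565 L119732 rfl
theorem L489578 : N9683 = N4873 := eqes L489577 L60508
theorem L489579 : N9683 = N4873 := eqc rfl L489578 rfl
theorem L489581 : sm gg N7057 = N9682 := trfs L489565 (flp_g L119726) rfl
theorem L489582 : N9682 = N4871 := eqes L489581 L60510
theorem L489583 : N9682 = N4871 := eqc rfl L489582 rfl
theorem L489585 : sm gi N7057 = N9722 := trfs L489565 L119734 rfl
theorem L489586 : N9722 = N10246 := eqes L489585 L87538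
theorem L489587 : N10246 = N9722 := (eqc rfl L489586 rfl).symm
theorem L489596 : sm gd N9722 = N14895 := trfs L489587 (flp_d L126886) rfl
theorem L489597 : N14895 = N14111 := eqes L489596 (flp_d L120240)
theorem L489598 : N14895 = N14111 := eqc rfl L489597 rfl
theorem L489601 : sm gg N9722 = N7059 := trfs L489587 L87544 rfl
theorem L489602 : N7059 = N6708 := eqes L489601 (flp_g L83086)
theorem L489603 : N7059 = N6708 := eqc rfl L489602 rfl
theorem L489605 : sm gh N9722 = N7100 := trfs L489587 L87546 rfl
theorem L489606 : N7100 = N14115 := eqes L489605 L120269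
theorem L489607 : N14115 = N7100 := (eqc rfl L489606 rfl).symm
theorem L489608 : sm gi N9722 = N7057 := trfs L489587 (flp_i L87538) rfl
theorem L489610 : sm ga N7100 = N9740 := trfs L489607 L120271 rfl
theorem L489611 : N9740 = N10280 := eqes L489610 (flp_a L87824)
theorem L489612 : N10280 = N9740 := (eqc rfl L489611 rfl).symm
theorem L489614 : sm gc N7100 = N9731 := trfs L489607 L120273 rfl
theorem L489615 : N9731 = N10293 := eqes L489614 (flp_c L87927)
theorem L489616 : N10293 = N9731 := (eqc rfl L489615 rfl).symm
theorem L489617 : sm gd N7100 = N20528 := trfs L489607 L174467 rfl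
theorem L489618 : N20528 = N10304 := eqes L489617 (flp_d L88012)
theorem L489619 : N20528 = N10304 := eqc rfl L489618 rfl
theorem L489620 : sm ge N7100 = N9725 := trfs L489607 L120275 rfl
theorem L489621 : N9725 = N4905 := eqes L489620 L60863
theorem L489622 : N9725 = N4905 := eqc rfl L489621 rfl
theorem L489624 : sm gg N7100 = N9723 := trfs L489607 L120277 rfl
theorem L489625 : N9723 = N4903 := eqes L489624 L60865
theorem L489626 : N9723 = N4903 := eqc rfl L489625 rfl
theorem L489628 : sm gh N7100 = N9722 := trfs L489607 (flp_h L120269) rfl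
theorem L489631 : sm ga N4903 = N6720 := trfs L489626 L83096 rfl
theorem L489632 : N6720 = N7084 := eqes L489631 (flp_a L60733)
theorem L489633 : N7084 = N6720 := (eqc rfl L489632 rfl).symm
theorem L489637 : sm gc N4903 = N6714 := trfs L489626 L83098 rfl
theorem L489638 : N6714 = N7093 := eqes L489637 (flp_c L60804)
theorem L489639 : N7093 = N6714 := (eqc rfl L489638 rfl).symm
theorem L489640 : sm gd N4903 = N14116 := trfs L489626 L120279 rfl
theorem L489641 : N14116 = N7102 := eqes L489640 (flp_d L60876)
theorem L489642 : N14116 = N7102 := eqc rfl L489641 rfl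
theorem L489643 : sm ge N4903 = N6710 := trfs L489626 L83100 rfl
theorem L489644 : N6710 = N3391 := eqes L489643 L42201
theorem L489645 : N6710 = N3391 := eqc rfl L489644 rfl
theorem L489646 : sm gf N4903 = N7076 := trfs L489626 L83102 rfl
theorem L489647 : N7076 = N6730 := eqes L489646 (flp_f L57724)
theorem L489648 : N7076 = N6730 := eqc rfl L489647 rfl
theorem L489652 : sm gi N4903 = N14117 := trfs L489626 L120286 rfl
theorem L489653 : N14117 = N3388 := eqes L489652 (flp_i L42197)
theorem L489654 : N14117 = N3388 := eqc rfl L489653 rfl
theorem L489675 : sm gh N3388 = N20439 := trfs L489654 (flp_h L173714) rfl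
theorem L489676 : N20439 = N2346 := eqes L489675 (flp_h L29306)
theorem L489677 : N20439 = N2346 := eqc rfl L489676 rfl
theorem L489693 : sm gf N2346 = N14851 := trfs L489677 L173711 rfl
theorem L489694 : N14851 = N3220 := eqes L489693 (flp_f L27855)
theorem L489695 : N14851 = N3220 := eqc rfl L489694 rfl
theorem L489715 : sm gi N3220 = N10214 := trfs L489695 (flp_i L126503) rfl
theorem L489716 : N10214 = N4628 := eqes L489715 (flp_i L39854)
theorem L489717 : N10214 = N4628 := eqc rfl L489716 rfl
theorem L489718 : sm ga N4628 = N7048 := trfs L489717 L87256 rfl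
theorem L489719 : N7048 = N6684 := eqes L489718 (flp_a L57322)
theorem L489720 : N7048 = N6684 := eqc rfl L489719 rfl
theorem L489722 : sm gc N4628 = N7042 := trfs L489717 L87258 rfl
theorem L489723 : N7042 = N6689 := eqes L489722 (flp_c L57372)
theorem L489724 : N7042 = N6689 := eqc rfl L489723 rfl
theorem L489734 : sm gh N4628 = N7036 := trfs L489717 (flp_h L87254) rfl
theorem L489735 : N7036 = N6695 := eqes L489734 L57421
theorem L489736 : N7036 = N6695 := eqc rfl L489735 rfl
theorem L489737 : sm ga N6695 = N4865 := trfs L489736 L60314 rfl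
theorem L489738 : N4865 = N9688 := eqes L489737 (flp_a L82790)
theorem L489739 : N9688 = N4865 := (eqc rfl L489738 rfl).symm
theorem L489741 : sm gc N6695 = N4860 := trfs L489736 L60316 rfl
theorem L489742 : N4860 = N9694 := eqes L489741 (flp_c L82848)
theorem L489743 : N9694 = N4860 := (eqc rfl L489742 rfl).symm
theorem L489744 : sm gd N6695 = N10212 := trfs L489736 L87235 rfl
theorem L489745 : N10212 = N9704 := eqes L489744 L82931
theorem L489746 : N10212 = N9704 := eqc rfl L489745 rfl
theorem L489749 : sm gg N6695 = N10213 := trfs L489736 L87244 rfl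
theorem L489750 : N10213 = N9703 := eqes L489749 (flp_g L82929)
theorem L489751 : N10213 = N9703 := eqc rfl L489750 rfl
theorem L489753 : sm gi N6695 = N4884 := trfs L489736 L60319 rfl
theorem L489754 : N4884 = N9705 := eqes L489753 L82938
theorem L489755 : N9705 = N4884 := (eqc rfl L489754 rfl).symm
theorem L489757 : sm gb N4884 = N6703 := trfs L489755 L82940 rfl
theorem L489758 : N6703 = N7070 := eqes L489757 (flp_b L60614)
theorem L489759 : N7070 = N6703 := (eqc rfl L489758 rfl).symm
theorem L489761 : sm gd N4884 = N14089 := trfs L489755 (flp_d L120048) rfl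
theorem L489762 : N14089 = N7074 := eqes L489761 L60646
theorem L489763 : N14089 = N7074 := eqc rfl L489762 rfl
theorem L489764 : sm ge N4884 = N6698 := trfs L489755 L82942 rfl
theorem L489765 : N6698 = N3376 := eqes L489764 (flp_e L42043)
theorem L489766 : N6698 = N3376 := eqc rfl L489765 rfl
theorem L489768 : sm gg N4884 = N14087 := trfs L489755 (flp_g L120035) rfl
theorem L489769 : N14087 = N7075 := eqes L489768 L60653
theorem L489770 : N14087 = N7075 := eqc rfl L489769 rfl
theorem L489774 : sm gi N4884 = N6695 := trfs L489755 (flp_i L82938) rfl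
theorem L489784 : sm gd N7075 = N20486 := trfs L489770 (flp_d L174114) rfl
theorem L489785 : N20486 = N10267 := eqes L489784 (flp_d L87714)
theorem L489786 : N20486 = N10267 := eqc rfl L489785 rfl
theorem L489788 : sm gf N7075 = N20482 := trfs L489770 (flp_f L174082) rfl
theorem L489789 : N20482 = N10269 := eqes L489788 L87725
theorem L489790 : N20482 = N10269 := eqc rfl L489789 rfl
theorem L489791 : sm gj N7075 = N20484 := trfs L489770 (flp_j L174102) rfl
theorem L489792 : N20484 = N10270 := eqes L489791 L87732
theorem L489793 : N20484 = N10270 := eqc rfl L489792 rfl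
theorem L489794 : sm gh N7075 = N9753 := trfs L489770 L120037 rfl
theorem L489795 : N9753 = N10271 := eqes L489794 L87741
theorem L489796 : N10271 = N9753 := (eqc rfl L489795 rfl).symm
theorem L489799 : sm ga N9753 = N7091 := trfs L489796 L87743 rfl
theorem L489800 : N7091 = N14128 := eqes L489799 (flp_a L120390)
theorem L489801 : N14128 = N7091 := (eqc rfl L489800 rfl).symm
theorem L489803 : sm gc N9753 = N7082 := trfs L489796 L87745 rfl
theorem L489804 : N7082 = N14141 := eqes L489803 (flp_c L120497)
theorem L489805 : N14141 = N7082 := (eqc rfl L489804 rfl).symm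
theorem L489806 : sm gd N9753 = N14931 := trfs L489796 L127169 rfl
theorem L489807 : N14931 = N14158 := eqes L489806 (flp_d L120635)
theorem L489808 : N14931 = N14158 := eqc rfl L489807 rfl
theorem L489810 : sm gf N9753 = N14929 := trfs L489796 (flp_f L127156) rfl
theorem L489811 : N14929 = N14154 := eqes L489810 (flp_f L120605)
theorem L489812 : N14929 = N14154 := eqc rfl L489811 rfl
theorem L489815 : sm gh N9753 = N7075 := trfs L489796 (flp_h L87741) rfl
theorem L489817 : sm gi N9753 = N14932 := trfs L489796 L127176 rfl
theorem L489818 : N14932 = N6728 := eqes L489817 (flp_i L83349)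
theorem L489819 : N14932 = N6728 := eqc rfl L489818 rfl
theorem L489823 : sm gd N6728 = N21741 := trfs L489819 (flp_d L184691) rfl
theorem L489824 : N21741 = N9752 := eqes L489823 L83342
theorem L489825 : N21741 = N9752 := eqc rfl L489824 rfl
theorem L489831 : sm ga N9752 = N14962 := trfs L489825 L184689 rfl
theorem L489832 : N14962 = N14127 := eqes L489831 (flp_a L120382)
theorem L489833 : N14962 = N14127 := eqc rfl L489832 rfl
theorem L489850 : sm gh N9752 = N31685 := trfs L489825 L268474 rfl
theorem L489851 : N31685 = N13970 := eqes L489850 (flp_h L119011)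
theorem L489852 : N31685 = N13970 := eqc rfl L489851 rfl
theorem L489876 : sm gi N13970 = N46213 := trfs L489852 (flp_i L390569) rfl
theorem L489877 : N46213 = N20314 := eqes L489876 L172606
theorem L489878 : N46213 = N20314 := eqc rfl L489877 rfl
theorem L489879 : sm ga N20314 = N31722 := trfs L489878 L390564 rfl
theorem L489880 : N31722 = N29517 := eqes L489879 (flp_a L250245)
theorem L489881 : N31722 = N29517 := eqc rfl L489880 rfl
theorem L489886 : sm gh N20314 = N31671 := trfs L489878 (flp_h L390562) rfl
theorem L489887 : N31671 = N29567 := eqes L489886 L250619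
theorem L489888 : N31671 = N29567 := eqc rfl L489887 rfl
theorem L489889 : sm ga N29567 = N21768 := trfs L489888 L268356 rfl
theorem L489890 : N21768 = N43022 := eqes L489889 (flp_a L363827)
theorem L489891 : N43022 = N21768 := (eqc rfl L489890 rfl).symm
theorem L489895 : sm gc N29567 = N46212 := trfs L489888 (flp_c L390557) rfl
theorem L489896 : N46212 = N43096 := eqes L489895 (flp_c L364401)
theorem L489897 : N46212 = N43096 := eqc rfl L489896 rfl
theorem L489898 : sm gd N29567 = N21731 := trfs L489888 L268358 rfl
theorem L489899 : N21731 = N42921 := eqes L489898 (flp_d L362963)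
theorem L489900 : N42921 = N21731 := (eqc rfl L489899 rfl).symm
theorem L489902 : sm gf N29567 = N46208 := trfs L489888 (flp_f L390524) rfl
theorem L489903 : N46208 = N43090 := eqes L489902 (flp_f L364347)
theorem L489904 : N46208 = N43090 := eqc rfl L489903 rfl
theorem L489905 : sm gg N29567 = N21733 := trfs L489888 L268361 rfl
theorem L489906 : N21733 = N20317 := eqes L489905 L250624
theorem L489907 : N21733 = N20317 := eqc rfl L489906 rfl
theorem L489908 : sm gj N29567 = N46210 := trfs L489888 (flp_j L390544) rfl
theorem L489909 : N46210 = N43093 := eqes L489908 (flp_j L364377)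
theorem L489910 : N46210 = N43093 := eqc rfl L489909 rfl
theorem L489911 : sm gi N29567 = N21730 := trfs L489888 (flp_i L268354) rfl
theorem L489912 : N21730 = N20589 := eqes L489911 L250626
theorem L489913 : N21730 = N20589 := eqc rfl L489912 rfl
theorem L489914 : sm ga N20589 = N14951 := trfs L489913 L184594 rfl
theorem L489915 : N14951 = N29911 := eqes L489914 (flp_a L253610)
theorem L489916 : N29911 = N14951 := (eqc rfl L489915 rfl).symm
theorem L489920 : sm gc N20589 = N31670 := trfs L489913 L268345 rfl
theorem L489921 : N31670 = N29973 := eqes L489920 (flp_c L254105)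
theorem L489922 : N31670 = N29973 := eqc rfl L489921 rfl
theorem L489923 : sm gd N20589 = N14925 := trfs L489913 (flp_d L184592) rfl
theorem L489924 : N14925 = N29824 := eqes L489923 (flp_d L252854)
theorem L489925 : N29824 = N14925 := (eqc rfl L489924 rfl).symm
theorem L489927 : sm gf N20589 = N31666 := trfs L489913 (flp_f L268316) rfl
theorem L489928 : N31666 = N29967 := eqes L489927 (flp_f L254059)
theorem L489929 : N31666 = N29967 := eqc rfl L489928 rfl
theorem L489930 : sm gg N20589 = N14926 := trfs L489913 L184596 rfl
theorem L489931 : N14926 = N14161 := eqes L489930 L174976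
theorem L489932 : N14926 = N14161 := eqc rfl L489931 rfl
theorem L489933 : sm gj N20589 = N31668 := trfs L489913 (flp_j L268331) rfl
theorem L489934 : N31668 = N29970 := eqes L489933 (flp_j L254085)
theorem L489935 : N31668 = N29970 := eqc rfl L489934 rfl
theorem L489937 : sm ga N29970 = N21765 := trfs L489935 L268328 rfl
theorem L489938 : N21765 = N43600 := eqes L489937 (flp_a L368743)
theorem L489939 : N43600 = N21765 := (eqc rfl L489938 rfl).symm
theorem L489943 : sm gc N29970 = N46209 := trfs L489935 L390526 rfl
theorem L489944 : N46209 = N43688 := eqes L489943 (flp_c L369455)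
theorem L489945 : N46209 = N43688 := eqc rfl L489944 rfl
theorem L489946 : sm gd N29970 = N21729 := trfs L489935 (flp_d L268326) rfl
theorem L489947 : N21729 = N43473 := eqes L489946 (flp_d L367644)
theorem L489948 : N43473 = N21729 := (eqc rfl L489947 rfl).symm
theorem L489950 : sm gf N29970 = N46204 := trfs L489935 (flp_f L390489) rfl
theorem L489951 : N46204 = N43678 := eqes L489950 (flp_f L369372)
theorem L489952 : N46204 = N43678 := eqc rfl L489951 rfl
theorem L489954 : sm gh N29970 = N21738 := trfs L489935 L268334 rfl
theorem L489955 : N21738 = N20586 := eqes L489954 (flp_h L254079)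
theorem L489956 : N21738 = N20586 := eqc rfl L489955 rfl
theorem L489958 : sm ga N20586 = N14959 := trfs L489956 L184661 rfl
theorem L489959 : N14959 = N29908 := eqes L489958 (flp_a L253584)
theorem L489960 : N29908 = N14959 := (eqc rfl L489959 rfl).symm
theorem L489962 : sm gc N20586 = N31681 := trfs L489956 L268436 rfl
theorem L489963 : N31681 = N29969 := eqes L489962 (flp_c L254073)
theorem L489964 : N31681 = N29969 := eqc rfl L489963 rfl
theorem L489967 : sm gf N20586 = N31676 := trfs L489956 (flp_f L268399) rfl
theorem L489968 : N31676 = N29962 := eqes L489967 (flp_f L254018)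
theorem L489969 : N31676 = N29962 := eqc rfl L489968 rfl
theorem L489973 : sm ga N29962 = N21773 := trfs L489969 L268397 rfl
theorem L489974 : N21773 = N43592 := eqes L489973 (flp_a L368669)
theorem L489975 : N43592 = N21773 := (eqc rfl L489974 rfl).symm
theorem L489977 : sm gc N29962 = N46219 := trfs L489969 L390612 rfl
theorem L489978 : N46219 = N43676 := eqes L489977 (flp_c L369352)
theorem L489979 : N46219 = N43676 := eqc rfl L489978 rfl
theorem L489981 : sm ge N29962 = N46220 := trfs L489969 L390622 rfl
theorem L489982 : N46220 = N43677 := eqes L489981 (flp_e L369363)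
theorem L489983 : N46220 = N43677 := eqc rfl L489982 rfl
theorem L489984 : sm gg N29962 = N46217 := trfs L489969 (flp_g L390600) rfl
theorem L489985 : N46217 = N43673 := eqes L489984 (flp_g L369331)
theorem L489986 : N46217 = N43673 := eqc rfl L489985 rfl
theorem L489987 : sm gj N29962 = N21736 := trfs L489969 L268401 rfl
theorem L489988 : N21736 = N20584 := eqes L489987 L254020
theorem L489989 : N21736 = N20584 := eqc rfl L489988 rfl
theorem L489991 : sm gi N29962 = N46221 := trfs L489969 L390630 rfl
theorem L489992 : N46221 = N20580 := eqes L489991 (flp_i L254012)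
theorem L489993 : N46221 = N20580 := eqc rfl L489992 rfl
theorem L489997 : sm gd N20580 = N31677 := trfs L489993 L390634 rfl
theorem L489998 : N31677 = N14152 := eqes L489997 (flp_d L174900)
theorem L489999 : N31677 = N14152 := eqc rfl L489998 rfl
theorem L490007 : sm gg N14152 = N46218 := trfs L489999 (flp_g L390610) rfl
theorem L490008 : N46218 = N20579 := eqes L490007 (flp_g L174896)
theorem L490009 : N46218 = N20579 := eqc rfl L490008 rfl
theorem L490021 : sm ga N20579 = N31727 := trfs L490009 L390604 rfl
theorem L490022 : N31727 = N29901 := eqes L490021 (flp_a L253518)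
theorem L490023 : N31727 = N29901 := eqc rfl L490022 rfl
theorem L490024 : sm gc N20579 = N31690 := trfs L490009 L390606 rfl
theorem L490025 : N31690 = N29931 := eqes L490024 (flp_c L253768)
theorem L490026 : N31690 = N29931 := eqc rfl L490025 rfl
theorem L490029 : sm gi N20579 = N31675 := trfs L490009 (flp_i L390602) rfl
theorem L490030 : N31675 = N29959 := eqes L490029 L253988
theorem L490031 : N31675 = N29959 := eqc rfl L490030 rfl
theorem L490032 : sm ga N29959 = N21772 := trfs L490031 L268387 rfl
theorem L490033 : N21772 = N43589 := eqes L490032 (flp_a L368641)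
theorem L490034 : N43589 = N21772 := (eqc rfl L490033 rfl).symm
theorem L490036 : sm gc N29959 = N21745 := trfs L490031 L268389 rfl
theorem L490037 : N21745 = N43634 := eqes L490036 (flp_c L369016)
theorem L490038 : N43634 = N21745 := (eqc rfl L490037 rfl).symm
theorem L490044 : sm gh N29959 = N21734 := trfs L490031 (flp_h L268385) rfl
theorem L490045 : N21734 = N43462 := eqes L490044 (flp_h L367557)
theorem L490046 : N43462 = N21734 := (eqc rfl L490045 rfl).symm
theorem L490053 : sm gh N21734 = N29959 := trfs L490046 L367557 rfl
theorem L490055 : sm gi N21734 = N29814 := trfs L490046 (flp_i L367547) rfl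
theorem L490056 : N29814 = N31510 := eqes L490055 (flp_i L267078)
theorem L490057 : N31510 = N29814 := (eqc rfl L490056 rfl).symm
theorem L490058 : sm ga N29814 = N21655 := trfs L490057 L267073 rfl
theorem L490059 : N21655 = N43394 := eqes L490058 (flp_a L367000)
theorem L490060 : N43394 = N21655 := (eqc rfl L490059 rfl).symm
theorem L490062 : sm gc N29814 = N21635 := trfs L490057 L267075 rfl
theorem L490063 : N21635 = N43425 := eqes L490062 (flp_c L367262)
theorem L490064 : N43425 = N21635 := (eqc rfl L490063 rfl).symm
theorem L490065 : sm gd N29814 = N45969 := trfs L490057 (flp_d L388623) rfl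
theorem L490066 : N45969 = N43461 := eqes L490065 L367538
theorem L490067 : N45969 = N43461 := eqc rfl L490066 rfl
theorem L490072 : sm gh N29814 = N45984 := trfs L490057 L388746 rfl
theorem L490073 : N45984 = N20479 := eqes L490072 (flp_h L252770)
theorem L490074 : N45984 = N20479 := eqc rfl L490073 rfl
theorem L490075 : sm gi N29814 = N21734 := trfs L490057 L267078 rfl
theorem L490080 : sm gc N20479 = N31533 := trfs L490074 L388750 rfl
theorem L490081 : N31533 = N29788 := eqes L490080 (flp_c L252567)
theorem L490082 : N31533 = N29788 := eqc rfl L490081 rfl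
theorem L490089 : sm gd N29788 = N46015 := trfs L490082 L389012 rfl
theorem L490090 : N46015 = N43410 := eqes L490089 (flp_d L367141)
theorem L490091 : N46015 = N43410 := eqc rfl L490090 rfl
theorem L490107 : sm ga N43410 = N31595 := trfs L490091 L389014 rfl
theorem L490111 : sm gg N43410 = N31534 := trfs L490091 L389018 rfl
theorem L490112 : N31534 = N29780 := eqes L490111 (flp_g L367138)
theorem L490113 : N31534 = N29780 := eqc rfl L490112 rfl
theorem L490117 : sm gc N29780 = N46017 := trfs L490113 L389031 rfl
theorem L490118 : N46017 = N42876 := eqes L490117 (flp_c L362629)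
theorem L490119 : N46017 = N42876 := eqc rfl L490118 rfl
theorem L490121 : sm ge N29780 = N46018 := trfs L490113 L389039 rfl
theorem L490122 : N46018 = N43408 := eqes L490121 (flp_e L367125)
theorem L490123 : N46018 = N43408 := eqc rfl L490122 rfl
theorem L490124 : sm gf N29780 = N21639 := trfs L490113 L267290 rfl
theorem L490125 : N21639 = N20457 := eqes L490124 L252509
theorem L490126 : N21639 = N20457 := eqc rfl L490125 rfl
theorem L490127 : sm gj N29780 = N21637 := trfs L490113 L267292 rfl
theorem L490128 : N21637 = N20456 := eqes L490127 (flp_j L252504)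
theorem L490129 : N21637 = N20456 := eqc rfl L490128 rfl
theorem L490130 : sm gh N29780 = N45539 := trfs L490113 (flp_h L385126) rfl
theorem L490131 : N45539 = N43411 := eqes L490130 L367148
theorem L490132 : N45539 = N43411 := eqc rfl L490131 rfl
theorem L490133 : sm gi N29780 = N46019 := trfs L490113 L389048 rfl
theorem L490134 : N46019 = N20551 := eqes L490133 L252511
theorem L490135 : N46019 = N20551 := eqc rfl L490134 rfl
theorem L490142 : sm gj N20551 = N31538 := trfs L490135 L389057 rfl
theorem L490143 : N31538 = N14132 := eqes L490142 (flp_j L174672)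
theorem L490144 : N31538 = N14132 := eqc rfl L490143 rfl
theorem L490145 : sm ga N14132 = N21683 := trfs L490144 L267321 rfl
theorem L490146 : N21683 = N20520 := eqes L490145 (flp_a L174398)
theorem L490147 : N21683 = N20520 := eqc rfl L490146 rfl
theorem L490164 : sm gh N14132 = N46024 := trfs L490144 L389088 rfl
theorem L490165 : N46024 = N20552 := eqes L490164 L174679
theorem L490166 : N46024 = N20552 := eqc rfl L490165 rfl
theorem L490168 : sm ga N20552 = N31604 := trfs L490166 L389090 rfl
theorem L490169 : N31604 = N29874 := eqes L490168 (flp_a L253278)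
theorem L490170 : N31604 = N29874 := eqc rfl L490169 rfl
theorem L490172 : sm gd N20552 = N31698 := trfs L490166 L389095 rfl
theorem L490173 : N31698 = N29919 := eqes L490172 L253674
theorem L490174 : N31698 = N29919 := eqc rfl L490173 rfl
theorem L490175 : sm gf N20552 = N31543 := trfs L490166 L389093 rfl
theorem L490176 : N31543 = N14134 := eqes L490175 L174682
theorem L490177 : N31543 = N14134 := eqc rfl L490176 rfl
theorem L490178 : sm ga N14134 = N21688 := trfs L490177 L267364 rfl
theorem L490179 : N21688 = N20522 := eqes L490178 (flp_a L174414)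
theorem L490180 : N21688 = N20522 := eqc rfl L490179 rfl
theorem L490185 : sm gd N14134 = N21755 := trfs L490177 L267370 rfl
theorem L490186 : N21755 = N20554 := eqes L490185 L174693
theorem L490187 : N21755 = N20554 := eqc rfl L490186 rfl
theorem L490196 : sm gi N14134 = N45548 := trfs L490177 (flp_i L385212) rfl
theorem L490197 : N45548 = N20555 := eqes L490196 L174700
theorem L490198 : N45548 = N20555 := eqc rfl L490197 rfl
theorem L490199 : sm ga N20555 = N31269 := trfs L490198 L385204 rfl
theorem L490200 : N31269 = N29877 := eqes L490199 (flp_a L253302)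
theorem L490201 : N31269 = N29877 := eqc rfl L490200 rfl
theorem L490203 : sm gd N20555 = N31370 := trfs L490198 L385210 rfl
theorem L490204 : N31370 = N29925 := eqes L490203 (flp_d L253722)
theorem L490205 : N31370 = N29925 := eqc rfl L490204 rfl
theorem L490210 : sm gh N20555 = N31219 := trfs L490198 (flp_h L385202) rfl
theorem L490211 : N31219 = N29784 := eqes L490210 (flp_h L252540)
theorem L490212 : N31219 = N29784 := eqc rfl L490211 rfl
theorem L490213 : sm ga N29784 = N21456 := trfs L490212 L264709 rfl
theorem L490214 : N21456 = N43364 := eqes L490213 (flp_a L366732)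
theorem L490215 : N43364 = N21456 := (eqc rfl L490214 rfl).symm
theorem L490217 : sm gc N29784 = N45547 := trfs L490212 (flp_c L385197) rfl
theorem L490218 : N45547 = N42880 := eqes L490217 (flp_c L362661)
theorem L490219 : N45547 = N42880 := eqc rfl L490218 rfl
theorem L490220 : sm gd N29784 = N21422 := trfs L490212 L264712 rfl
theorem L490221 : N21422 = N43418 := eqes L490220 (flp_d L367207)
theorem L490222 : N43418 = N21422 := (eqc rfl L490221 rfl).symm
theorem L490224 : sm gf N29784 = N45543 := trfs L490212 (flp_f L385162) rfl
theorem L490225 : N45543 = N43413 := eqes L490224 (flp_f L367167)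
theorem L490226 : N45543 = N43413 := eqc rfl L490225 rfl
theorem L490227 : sm gg N29784 = N21424 := trfs L490212 L264715 rfl
theorem L490228 : N21424 = N20460 := eqes L490227 L252538
theorem L490229 : N21424 = N20460 := eqc rfl L490228 rfl
theorem L490230 : sm gj N29784 = N45545 := trfs L490212 (flp_j L385183) rfl
theorem L490231 : N45545 = N43415 := eqes L490230 (flp_j L367186)
theorem L490232 : N45545 = N43415 := eqc rfl L490231 rfl
theorem L490233 : sm gi N29784 = N21421 := trfs L490212 (flp_i L264707) rfl
theorem L490234 : N21421 = N20458 := eqes L490233 (flp_i L252534)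
theorem L490235 : N21421 = N20458 := eqc rfl L490234 rfl
theorem L490236 : sm ga N20458 = N14738 := trfs L490235 L182080 rfl
theorem L490237 : N14738 = N29747 := eqes L490236 (flp_a L252204)
theorem L490238 : N29747 = N14738 := (eqc rfl L490237 rfl).symm
theorem L490240 : sm gc N20458 = N31218 := trfs L490235 L264698 rfl
theorem L490241 : N31218 = N29422 := eqes L490240 (flp_c L249464)
theorem L490242 : N31218 = N29422 := eqc rfl L490241 rfl
theorem L490243 : sm gd N20458 = N14715 := trfs L490235 (flp_d L182078) rfl
theorem L490244 : N14715 = N29783 := eqes L490243 L252527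
theorem L490245 : N29783 = N14715 := (eqc rfl L490244 rfl).symm
theorem L490247 : sm gf N20458 = N31214 := trfs L490235 (flp_f L264662) rfl
theorem L490248 : N31214 = N29781 := eqes L490247 (flp_f L252516)
theorem L490249 : N31214 = N29781 := eqc rfl L490248 rfl
theorem L490250 : sm gg N20458 = N14716 := trfs L490235 L182083 rfl
theorem L490251 : N14716 = N14069 := eqes L490250 L173885
theorem L490252 : N14716 = N14069 := eqc rfl L490251 rfl
theorem L490253 : sm gj N20458 = N31216 := trfs L490235 (flp_j L264681) rfl
theorem L490254 : N31216 = N29782 := eqes L490253 (flp_j L252525)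
theorem L490255 : N31216 = N29782 := eqc rfl L490254 rfl
theorem L490256 : sm gh N20458 = N14862 := trfs L490235 L182086 rfl
theorem L490257 : N14862 = N14068 := eqes L490256 (flp_h L173881)
theorem L490258 : N14862 = N14068 := eqc rfl L490257 rfl
theorem L490262 : sm gc N14068 = N21641 := trfs L490258 L183898 rfl
theorem L490263 : N21641 = N20217 := eqes L490262 (flp_c L171832)
theorem L490264 : N21641 = N20217 := eqc rfl L490263 rfl
theorem L490268 : sm gg N14068 = N10224 := trfs L490258 L126615 rfl
theorem L490269 : N10224 = N9692 := eqes L490268 (flp_g L119871)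
theorem L490270 : N10224 = N9692 := eqc rfl L490269 rfl
theorem L490273 : sm ga N9692 = N7058 := trfs L490270 L87353 rfl
theorem L490274 : N7058 = N14052 := eqes L490273 (flp_a L119718)
theorem L490275 : N14052 = N7058 := (eqc rfl L490274 rfl).symm
theorem L490277 : sm gc N9692 = N14864 := trfs L490270 L126629 rfl
theorem L490278 : N14864 = N13907 := eqes L490277 (flp_c L118507)
theorem L490279 : N14864 = N13907 := eqc rfl L490278 rfl
theorem L490287 : sm gi N9692 = N14865 := trfs L490270 L126635 rfl
theorem L490288 : N14865 = N6718 := eqes L490287 L82833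
theorem L490289 : N14865 = N6718 := eqc rfl L490288 rfl
theorem L490290 : sm ga N6718 = N10248 := trfs L490289 L126637 rfl
theorem L490291 : N10248 = N9721 := eqes L490290 (flp_a L83080)
theorem L490292 : N10248 = N9721 := eqc rfl L490291 rfl
theorem L490299 : sm gf N6718 = N20454 := trfs L490289 (flp_f L173849) rfl
theorem L490300 : N20454 = N4893 := eqes L490299 L57626
theorem L490301 : N20454 = N4893 := eqc rfl L490300 rfl
theorem L490314 : sm gh N4893 = N29778 := trfs L490301 L252485 rfl
theorem L490315 : N29778 = N7088 := eqes L490314 L60767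
theorem L490316 : N29778 = N7088 := eqc rfl L490315 rfl
theorem L490318 : sm ga N7088 = N20489 := trfs L490316 L252487 rfl
theorem L490319 : N20489 = N10268 := eqes L490318 (flp_a L87720)
theorem L490320 : N20489 = N10268 := eqc rfl L490319 rfl
theorem L490336 : sm gi N7088 = N42874 := trfs L490316 (flp_i L362616) rfl
theorem L490337 : N42874 = N10288 := eqes L490336 L87886
theorem L490338 : N42874 = N10288 := eqc rfl L490337 rfl
theorem L490339 : sm ga N10288 = N29453 := trfs L490338 L362608 rfl
theorem L490340 : N29453 = N14927 := eqes L490339 (flp_a L127135)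
theorem L490341 : N29453 = N14927 := eqc rfl L490340 rfl
theorem L490343 : sm gd N10288 = N29520 := trfs L490338 L362614 rfl
theorem L490344 : N29520 = N14954 := eqes L490343 (flp_d L127357)
theorem L490345 : N29520 = N14954 := eqc rfl L490344 rfl
theorem L490348 : sm gh N10288 = N29418 := trfs L490338 (flp_h L362606) rfl
theorem L490349 : N29418 = N14871 := eqes L490348 (flp_h L126692)
theorem L490350 : N29418 = N14871 := eqc rfl L490349 rfl
theorem L490351 : sm ga N14871 = N20238 := trfs L490350 L249424 rfl
theorem L490352 : N20238 = N21618 := eqes L490351 (flp_a L183685)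
theorem L490353 : N21618 = N20238 := (eqc rfl L490352 rfl).symm
theorem L490355 : sm gc N14871 = N42873 := trfs L490350 (flp_c L362601) rfl
theorem L490356 : N42873 = N21430 := eqes L490355 (flp_c L182161)
theorem L490357 : N42873 = N21430 := eqc rfl L490356 rfl
theorem L490358 : sm gd N14871 = N20214 := trfs L490350 L249427 rfl
theorem L490359 : N20214 = N21654 := eqes L490358 (flp_d L183999)
theorem L490360 : N21654 = N20214 := (eqc rfl L490359 rfl).symm
theorem L490365 : sm gg N14871 = N42871 := trfs L490350 (flp_g L362587) rfl
theorem L490366 : N42871 = N21651 := eqes L490365 (flp_g L183979)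
theorem L490367 : N42871 = N21651 := eqc rfl L490366 rfl
theorem L490369 : sm gi N14871 = N20213 := trfs L490350 (flp_i L249422) rfl
theorem L490370 : N20213 = N10229 := eqes L490369 (flp_i L126686)
theorem L490371 : N20213 = N10229 := eqc rfl L490370 rfl
theorem L490372 : sm ga N10229 = N13919 := trfs L490371 L171793 rfl
theorem L490373 : N13919 = N14846 := eqes L490372 (flp_a L126463)
theorem L490374 : N14846 = N13919 := (eqc rfl L490373 rfl).symm
theorem L490376 : sm gc N10229 = N29417 := trfs L490371 L249413 rfl
theorem L490377 : N29417 = N14721 := eqes L490376 (flp_c L125451)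
theorem L490378 : N29417 = N14721 := eqc rfl L490377 rfl
theorem L490379 : sm gd N10229 = N13903 := trfs L490371 (flp_d L171791) rfl
theorem L490380 : N13903 = N14870 := eqes L490379 L126680
theorem L490381 : N14870 = N13903 := (eqc rfl L490380 rfl).symm
theorem L490386 : sm gg N10229 = N29415 := trfs L490371 (flp_g L249398) rfl
theorem L490387 : N29415 = N14869 := eqes L490386 (flp_g L126678)
theorem L490388 : N29415 = N14869 := eqc rfl L490387 rfl
theorem L490391 : sm ga N14869 = N20235 := trfs L490388 L249395 rfl
theorem L490392 : N20235 = N21616 := eqes L490391 (flp_a L183670)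
theorem L490393 : N21616 = N20235 := (eqc rfl L490392 rfl).symm
theorem L490395 : sm gc N14869 = N42870 := trfs L490388 L362572 rfl
theorem L490396 : N42870 = N21428 := eqes L490395 (flp_c L182148)
theorem L490397 : N42870 = N21428 := eqc rfl L490396 rfl
theorem L490398 : sm gd N14869 = N20212 := trfs L490388 (flp_d L249393) rfl
theorem L490399 : N20212 = N21650 := eqes L490398 L183967
theorem L490400 : N21650 = N20212 := (eqc rfl L490399 rfl).symm
theorem L490404 : sm gf N14869 = N42866 := trfs L490388 (flp_f L362533) rfl
theorem L490405 : N42866 = N21648 := eqes L490404 (flp_f L183957)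
theorem L490406 : N42866 = N21648 := eqc rfl L490405 rfl
theorem L490407 : sm gj N14869 = N42868 := trfs L490388 (flp_j L362556) rfl
theorem L490408 : N42868 = N21649 := eqes L490407 (flp_j L183965)
theorem L490409 : N42868 = N21649 := eqc rfl L490408 rfl
theorem L490410 : sm gh N14869 = N20451 := trfs L490388 L249400 rfl
theorem L490411 : N20451 = N10228 := eqes L490410 (flp_h L126673)
theorem L490412 : N20451 = N10228 := eqc rfl L490411 rfl
theorem L490414 : sm ga N10228 = N14086 := trfs L490412 L173819 rfl
theorem L490415 : N14086 = N14845 := eqes L490414 (flp_a L126453)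
theorem L490416 : N14845 = N14086 := (eqc rfl L490415 rfl).symm
theorem L490418 : sm gc N10228 = N29774 := trfs L490412 L252455 rfl
theorem L490419 : N29774 = N14720 := eqes L490418 (flp_c L125441)
theorem L490420 : N29774 = N14720 := eqc rfl L490419 rfl
theorem L490425 : sm gf N10228 = N29770 := trfs L490412 (flp_f L252419) rfl
theorem L490426 : N29770 = N14867 := eqes L490425 L126656
theorem L490427 : N29770 = N14867 := eqc rfl L490426 rfl
theorem L490429 : sm gj N10228 = N29772 := trfs L490412 (flp_j L252441) rfl
theorem L490430 : N29772 = N14868 := eqes L490429 L126663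
theorem L490431 : N29772 = N14868 := eqc rfl L490430 rfl
theorem L490433 : sm ga N14868 = N20483 := trfs L490431 L252437 rfl
theorem L490434 : N20483 = N21615 := eqes L490433 (flp_a L183659)
theorem L490435 : N21615 = N20483 := (eqc rfl L490434 rfl).symm
theorem L490437 : sm gc N14868 = N43400 := trfs L490431 L367057 rfl
theorem L490438 : N43400 = N21427 := eqes L490437 (flp_c L182137)
theorem L490439 : N43400 = N21427 := eqc rfl L490438 rfl
theorem L490444 : sm gf N14868 = N43395 := trfs L490431 (flp_f L367014) rfl
theorem L490445 : N43395 = N21647 := eqes L490444 (flp_f L183950)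
theorem L490446 : N43395 = N21647 := eqc rfl L490445 rfl
theorem L490449 : sm gi N14868 = N43401 := trfs L490431 L367064 rfl
theorem L490450 : N43401 = N10285 := eqes L490449 L126670
theorem L490451 : N43401 = N10285 := eqc rfl L490450 rfl
theorem L490452 : sm ga N10285 = N29821 := trfs L490451 L367066 rfl
theorem L490453 : N29821 = N14924 := eqes L490452 (flp_a L127110)
theorem L490454 : N29821 = N14924 := eqc rfl L490453 rfl
theorem L490459 : sm gb N14924 = N20497 := trfs L490454 L252829 rfl
theorem L490460 : N20497 = N21714 := eqes L490459 (flp_b L184456)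
theorem L490461 : N21714 = N20497 := (eqc rfl L490460 rfl).symm
theorem L490462 : sm gc N14924 = N43472 := trfs L490454 (flp_c L367632) rfl
theorem L490463 : N43472 = N21494 := eqes L490462 (flp_c L182654)
theorem L490464 : N43472 = N21494 := eqc rfl L490463 rfl
theorem L490469 : sm gf N14924 = N43465 := trfs L490454 (flp_f L367578) rfl
theorem L490470 : N43465 = N21727 := eqes L490469 (flp_f L184575)
theorem L490471 : N43465 = N21727 := eqc rfl L490470 rfl
theorem L490480 : sm gj N21727 = N29819 := trfs L490471 L367580 rfl
theorem L490481 : N29819 = N14923 := eqes L490480 (flp_j L184569)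
theorem L490482 : N29819 = N14923 := eqc rfl L490481 rfl
theorem L490483 : sm gi N21727 = N29815 := trfs L490471 (flp_i L367572) rfl
theorem L490484 : N29815 = N31502 := eqes L490483 (flp_i L267013)
theorem L490485 : N31502 = N29815 := (eqc rfl L490484 rfl).symm
theorem L490489 : sm gc N29815 = N45503 := trfs L490485 (flp_c L384803) rfl
theorem L490490 : N45503 = N43463 := eqes L490489 L367559
theorem L490491 : N45503 = N43463 := eqc rfl L490490 rfl
theorem L490493 : sm ge N29815 = N45967 := trfs L490485 (flp_e L388605) rfl
theorem L490494 : N45967 = N43464 := eqes L490493 L367565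
theorem L490495 : N45967 = N43464 := eqc rfl L490494 rfl
theorem L490501 : sm gh N29815 = N45970 := trfs L490485 L388628 rfl
theorem L490502 : N45970 = N42912 := eqes L490501 (flp_h L362889)
theorem L490503 : N45970 = N42912 := eqc rfl L490502 rfl
theorem L490504 : sm gi N29815 = N21727 := trfs L490485 L267013 rfl
theorem L490506 : sm ga N42912 = N31550 := trfs L490503 L388630 rfl
theorem L490508 : sm gf N42912 = N31504 := trfs L490503 L388632 rfl
theorem L490509 : N31504 = N29447 := eqes L490508 L362885
theorem L490510 : N31504 = N29447 := eqc rfl L490509 rfl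
theorem L490511 : sm gj N42912 = N31503 := trfs L490503 L388634 rfl
theorem L490512 : N31503 = N29445 := eqes L490511 L362887
theorem L490513 : N31503 = N29445 := eqc rfl L490512 rfl
theorem L490519 : sm gc N29445 = N45504 := trfs L490513 (flp_c L384815) rfl
theorem L490520 : N45504 = N42914 := eqes L490519 L362901
theorem L490521 : N45504 = N42914 := eqc rfl L490520 rfl
theorem L490525 : sm ge N29445 = N45968 := trfs L490513 (flp_e L388615) rfl
theorem L490526 : N45968 = N42915 := eqes L490525 L362909
theorem L490527 : N45968 = N42915 := eqc rfl L490526 rfl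
theorem L490533 : sm gi N29445 = N45972 := trfs L490513 L388644 rfl
theorem L490534 : N45972 = N42916 := eqes L490533 L362917
theorem L490535 : N45972 = N42916 := eqc rfl L490534 rfl
theorem L490536 : sm ga N42916 = N31552 := trfs L490535 L388646 rfl
theorem L490538 : sm gf N42916 = N31506 := trfs L490535 L388648 rfl
theorem L490539 : N31506 = N29450 := eqes L490538 L362923
theorem L490540 : N31506 = N29450 := eqc rfl L490539 rfl
theorem L490541 : sm gh N42916 = N31667 := trfs L490535 L388650 rfl
theorem L490548 : sm gc N29450 = N45507 := trfs L490540 (flp_c L384842) rfl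
theorem L490549 : N45507 = N42920 := eqes L490548 (flp_c L362953)
theorem L490550 : N45507 = N42920 := eqc rfl L490549 rfl
theorem L490554 : sm ge N29450 = N23862 := trfs L490540 L267042 rfl
theorem L490555 : N23862 = N42804 := eqes L490554 (flp_e L361974)
theorem L490556 : N42804 = N23862 := (eqc rfl L490555 rfl).symm
theorem L490558 : sm gj N29450 = N45974 := trfs L490540 (flp_j L388668) rfl
theorem L490559 : N45974 = N42918 := eqes L490558 (flp_j L362941)
theorem L490560 : N45974 = N42918 := eqc rfl L490559 rfl
theorem L490564 : sm ga N42918 = N31554 := trfs L490560 L388663 rfl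
theorem L490566 : sm ge N42918 = N34778 := trfs L490560 L388665 rfl
theorem L490569 : sm gh N42918 = N31669 := trfs L490560 L388670 rfl
theorem L490572 : sm gb N23862 = N29383 := trfs L490556 L361970 rfl
theorem L490573 : N29383 = N34747 := eqes L490572 (flp_b L294543)
theorem L490574 : N34747 = N29383 := (eqc rfl L490573 rfl).symm
theorem L490575 : sm gd N23862 = N29372 := trfs L490556 L361972 rfl
theorem L490576 : N29372 = N34781 := eqes L490575 (flp_d L294848)
theorem L490577 : N34781 = N29372 := (eqc rfl L490576 rfl).symm
theorem L490578 : sm ge N23862 = N29450 := trfs L490556 L361974 rfl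
theorem L490580 : sm gg N23862 = N29374 := trfs L490556 L361976 rfl
theorem L490581 : N29374 = N16389 := eqes L490580 L202883
theorem L490582 : N29374 = N16389 := eqc rfl L490581 rfl
theorem L490583 : sm gi N23862 = N29371 := trfs L490556 (flp_i L361968) rfl
theorem L490584 : N29371 = N16387 := eqes L490583 (flp_i L202879)
theorem L490585 : N29371 = N16387 := eqc rfl L490584 rfl
theorem L490587 : sm gb N16387 = N20191 := trfs L490585 L248996 rfl
theorem L490588 : N20191 = N23840 := eqes L490587 (flp_b L202684)
theorem L490589 : N23840 = N20191 := (eqc rfl L490588 rfl).symm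
theorem L490590 : sm gc N16387 = N42803 := trfs L490585 L361960 rfl
theorem L490591 : N42803 = N23637 := eqes L490590 (flp_c L201054)
theorem L490592 : N42803 = N23637 := eqc rfl L490591 rfl
theorem L490593 : sm gd N16387 = N20183 := trfs L490585 (flp_d L248994) rfl
theorem L490594 : N20183 = N23861 := eqes L490593 L202871
theorem L490595 : N23861 = N20183 := (eqc rfl L490594 rfl).symm
theorem L490598 : sm gf N16387 = N42799 := trfs L490585 (flp_f L361926) rfl
theorem L490599 : N42799 = N23859 := eqes L490598 (flp_f L202861)
theorem L490600 : N42799 = N23859 := eqc rfl L490599 rfl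
theorem L490601 : sm gg N16387 = N20184 := trfs L490585 L248998 rfl
theorem L490602 : N20184 = N11269 := eqes L490601 L139758
theorem L490603 : N20184 = N11269 := eqc rfl L490602 rfl
theorem L490604 : sm gj N16387 = N42801 := trfs L490585 (flp_j L361944) rfl
theorem L490605 : N42801 = N23860 := eqes L490604 (flp_j L202869)
theorem L490606 : N42801 = N23860 := eqc rfl L490605 rfl
theorem L490607 : sm gh N16387 = N20407 := trfs L490585 L249002 rfl
theorem L490608 : N20407 = N11268 := eqes L490607 (flp_h L139754)
theorem L490609 : N20407 = N11268 := eqc rfl L490608 rfl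
theorem L490611 : sm gb N11268 = N14042 := trfs L490609 L173422 rfl
theorem L490612 : N14042 = N16373 := eqes L490611 (flp_b L139625)
theorem L490613 : N16373 = N14042 := (eqc rfl L490612 rfl).symm
theorem L490614 : sm gc N11268 = N29707 := trfs L490609 L251848 rfl
theorem L490615 : N29707 = N16225 := eqes L490614 (flp_c L138423)
theorem L490616 : N29707 = N16225 := eqc rfl L490615 rfl
theorem L490617 : sm gd N11268 = N14034 := trfs L490609 (flp_d L173420) rfl
theorem L490618 : N14034 = N7762 := eqes L490617 L96412
theorem L490619 : N14034 = N7762 := eqc rfl L490618 rfl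
theorem L490622 : sm gf N11268 = N29703 := trfs L490609 (flp_f L251817) rfl
theorem L490623 : N29703 = N16385 := eqes L490622 L139736
theorem L490624 : N29703 = N16385 := eqc rfl L490623 rfl
theorem L490625 : sm gg N11268 = N14035 := trfs L490609 L173424 rfl
theorem L490626 : N14035 = N7761 := eqes L490625 (flp_g L96408)
theorem L490627 : N14035 = N7761 := eqc rfl L490626 rfl
theorem L490628 : sm gj N11268 = N29705 := trfs L490609 (flp_j L251834) rfl
theorem L490629 : N29705 = N16386 := eqes L490628 L139745
theorem L490630 : N29705 = N16386 := eqc rfl L490629 rfl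
theorem L490631 : sm gi N11268 = N29708 := trfs L490609 L251854 rfl
theorem L490632 : N29708 = N7797 := eqes L490631 L96414
theorem L490633 : N29708 = N7797 := eqc rfl L490632 rfl
theorem L490637 : sm gb N7797 = N20419 := trfs L490633 L251856 rfl
theorem L490638 : N20419 = N11312 := eqes L490637 (flp_b L96788)
theorem L490639 : N20419 = N11312 := eqc rfl L490638 rfl
theorem L490640 : sm gc N7797 = N23135 := trfs L490633 (flp_c L427911) rfl
theorem L490641 : N23135 = N11212 := eqes L490640 (flp_c L95947)
theorem L490642 : N23135 = N11212 := eqc rfl L490641 rfl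
theorem L490654 : sm gh N7797 = N43304 := trfs L490633 L366201 rfl
theorem L490655 : N43304 = N11318 := eqes L490654 L96835
theorem L490656 : N43304 = N11318 := eqc rfl L490655 rfl
theorem L490657 : sm gb N11318 = N29722 := trfs L490656 L366203 rfl
theorem L490658 : N29722 = N16446 := eqes L490657 (flp_b L140243)
theorem L490659 : N29722 = N16446 := eqc rfl L490658 rfl
theorem L490662 : sm gg N11318 = N29711 := trfs L490656 L366207 rfl
theorem L490663 : N29711 = N7798 := eqes L490662 L96839
theorem L490664 : N29711 = N7798 := eqc rfl L490663 rfl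
theorem L490666 : sm gb N7798 = N20422 := trfs L490664 L251882 rfl
theorem L490667 : N20422 = N11313 := eqes L490666 (flp_b L96795)
theorem L490668 : N20422 = N11313 := eqc rfl L490667 rfl
theorem L490675 : sm gi N7798 = N42807 := trfs L490664 (flp_i L362005) rfl
theorem L490676 : N42807 = N11319 := eqes L490675 L96842
theorem L490677 : N42807 = N11319 := eqc rfl L490676 rfl
theorem L490678 : sm gb N11319 = N29386 := trfs L490677 L361998 rfl
theorem L490679 : N29386 = N16447 := eqes L490678 (flp_b L140251)
theorem L490680 : N29386 = N16447 := eqc rfl L490679 rfl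
theorem L490687 : sm gc N16447 = N42821 := trfs L490680 (flp_c L362130) rfl
theorem L490688 : N42821 = N23937 := eqes L490687 (flp_c L203502)
theorem L490689 : N42821 = N23937 := eqc rfl L490688 rfl
theorem L490691 : sm ge N16447 = N20250 := trfs L490680 L249135 rfl
theorem L490692 : N20250 = N21717 := eqes L490691 (flp_e L184486)
theorem L490693 : N21717 = N20250 := (eqc rfl L490692 rfl).symm
theorem L490695 : sm gg N16447 = N42818 := trfs L490680 (flp_g L362103) rfl
theorem L490696 : N42818 = N23942 := eqes L490695 (flp_g L203546)
theorem L490697 : N42818 = N23942 := eqc rfl L490696 rfl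
theorem L490699 : sm gh N16447 = N20194 := trfs L490680 (flp_h L249132) rfl
theorem L490700 : N20194 = N23842 := eqes L490699 (flp_h L202704)
theorem L490701 : N23842 = N20194 := (eqc rfl L490700 rfl).symm
theorem L490718 : sm gh N20194 = N16447 := trfs L490701 L202704 rfl
theorem L490720 : sm gi N20194 = N16374 := trfs L490701 (flp_i L202697) rfl
theorem L490721 : N16374 = N13891 := eqes L490720 (flp_i L171613)
theorem L490722 : N16374 = N13891 := eqc rfl L490721 rfl
theorem L490738 : sm gh N13891 = N11260 := trfs L490722 (flp_h L139631) rfl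
theorem L490739 : N11260 = N9676 := eqes L490738 L118360
theorem L490740 : N11260 = N9676 := eqc rfl L490739 rfl
theorem L490744 : sm gc N9676 = N16372 := trfs L490740 L139613 rfl
theorem L490745 : N16372 = N14044 := eqes L490744 L119640
theorem L490746 : N16372 = N14044 := eqc rfl L490745 rfl
theorem L490747 : sm gd N9676 = N7757 := trfs L490740 (flp_d L96327) rfl
theorem L490748 : N7757 = N6677 := eqes L490747 (flp_d L82677)
theorem L490749 : N7757 = N6677 := eqc rfl L490748 rfl
theorem L490756 : sm gi N9676 = N7794 := trfs L490740 L96334 rfl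
theorem L490757 : N7794 = N14045 := eqes L490756 L119647
theorem L490758 : N14045 = N7794 := (eqc rfl L490757 rfl).symm
theorem L490761 : sm gc N7794 = N20421 := trfs L490758 (flp_c L173535) rfl
theorem L490762 : N20421 = N11311 := eqes L490761 L96778
theorem L490763 : N20421 = N11311 := eqc rfl L490762 rfl
theorem L490767 : sm ge N7794 = N9714 := trfs L490758 L119652 rfl
theorem L490768 : N9714 = N10261 := eqes L490767 (flp_e L87661)
theorem L490769 : N10261 = N9714 := (eqc rfl L490768 rfl).symm
theorem L490774 : sm gi N7794 = N9676 := trfs L490758 (flp_i L119647) rfl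
theorem L490783 : sm ge N9714 = N7794 := trfs L490769 L87661 rfl
theorem L490792 : sm gh N9714 = N14915 := trfs L490769 L127031 rfl
theorem L490793 : N14915 = N14101 := eqes L490792 L120145
theorem L490794 : N14915 = N14101 := eqc rfl L490793 rfl
theorem L490799 : sm gc N14101 = N21712 := trfs L490794 (flp_c L184441) rfl
theorem L490800 : N21712 = N20503 := eqes L490799 (flp_c L174245)
theorem L490801 : N21712 = N20503 := eqc rfl L490800 rfl
theorem L490807 : sm gf N14101 = N20506 := trfs L490794 (flp_f L174272) rfl
theorem L490808 : N20506 = N10260 := eqes L490807 L120148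
theorem L490809 : N20506 = N10260 := eqc rfl L490808 rfl
theorem L490810 : sm gg N14101 = N21715 := trfs L490794 (flp_g L184470) rfl
theorem L490811 : N21715 = N20500 := eqes L490810 (flp_g L174223)
theorem L490812 : N21715 = N20500 := eqc rfl L490811 rfl
theorem L490818 : sm gc N20500 = N31640 := trfs L490812 (flp_c L268098) rfl
theorem L490819 : N31640 = N29843 := eqes L490818 (flp_c L253002)
theorem L490820 : N31640 = N29843 := eqc rfl L490819 rfl
theorem L490824 : sm gf N20500 = N31645 := trfs L490812 (flp_f L268139) rfl
theorem L490825 : N31645 = N29837 := eqes L490824 (flp_f L252957)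
theorem L490826 : N31645 = N29837 := eqc rfl L490825 rfl
theorem L490827 : sm gj N20500 = N31646 := trfs L490812 (flp_j L268149) rfl
theorem L490828 : N31646 = N29840 := eqes L490827 (flp_j L252982)
theorem L490829 : N31646 = N29840 := eqc rfl L490828 rfl
theorem L490831 : sm gi N20500 = N31648 := trfs L490812 L268161 rfl
theorem L490832 : N31648 = N29464 := eqes L490831 (flp_i L249794)
theorem L490833 : N31648 = N29464 := eqc rfl L490832 rfl
theorem L490837 : sm gc N29464 = N46168 := trfs L490833 (flp_c L390185) rfl
theorem L490838 : N46168 = N42940 := eqes L490837 (flp_c L363124)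
theorem L490839 : N46168 = N42940 := eqc rfl L490838 rfl
theorem L490843 : sm gf N29464 = N46177 := trfs L490833 (flp_f L390261) rfl
theorem L490844 : N46177 = N42934 := eqes L490843 (flp_f L363075)
theorem L490845 : N46177 = N42934 := eqc rfl L490844 rfl
theorem L490847 : sm gj N29464 = N46179 := trfs L490833 (flp_j L390282) rfl
theorem L490848 : N46179 = N42937 := eqes L490847 (flp_j L363102)
theorem L490849 : N46179 = N42937 := eqc rfl L490848 rfl
theorem L490852 : sm gb N42937 = N31669 := trfs L490849 L390277 rfl
theorem L490854 : sm ge N42937 = N34885 := trfs L490849 L390279 rfl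
theorem L490859 : sm gb N42934 = N31667 := trfs L490845 L390259 rfl
theorem L490863 : sm ge N42940 = N34877 := trfs L490839 L390187 rfl
theorem L490865 : sm gg N42940 = N31642 := trfs L490839 L390189 rfl
theorem L490866 : N31642 = N29467 := eqes L490865 L363126
theorem L490867 : N31642 = N29467 := eqc rfl L490866 rfl
theorem L490870 : sm gb N29467 = N45654 := trfs L490867 (flp_b L386024) rfl
theorem L490871 : N45654 = N42942 := eqes L490870 (flp_b L363140)
theorem L490872 : N45654 = N42942 := eqc rfl L490871 rfl
theorem L490883 : sm gh N29467 = N45923 := trfs L490867 (flp_h L388206) rfl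
theorem L490884 : N45923 = N20249 := eqes L490883 (flp_h L249811)
theorem L490885 : N45923 = N20249 := eqc rfl L490884 rfl
theorem L490891 : sm gi N20249 = N31473 := trfs L490885 (flp_i L388198) rfl
theorem L490892 : N31473 = N13928 := eqes L490891 (flp_i L172082)
theorem L490893 : N31473 = N13928 := eqc rfl L490892 rfl
theorem L490910 : sm gh N13928 = N21596 := trfs L490893 (flp_h L266733) rfl
theorem L490911 : N21596 = N9713 := eqes L490910 L118677
theorem L490912 : N21596 = N9713 := eqc rfl L490911 rfl
theorem L490923 : sm gg N9713 = N31472 := trfs L490912 L266723 rfl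
theorem L490924 : N31472 = N14097 := eqes L490923 (flp_g L120120)
theorem L490925 : N31472 = N14097 := eqc rfl L490924 rfl
theorem L490936 : sm ge N14097 = N23836 := trfs L490925 L266729 rfl
theorem L490937 : N23836 = N20418 := eqes L490936 (flp_e L173513)
theorem L490938 : N23836 = N20418 := eqc rfl L490937 rfl
theorem L490946 : sm gi N14097 = N21711 := trfs L490925 L266731 rfl
theorem L490947 : N21711 = N20499 := eqes L490946 L174212
theorem L490948 : N21711 = N20499 := eqc rfl L490947 rfl
theorem L490950 : sm gb N20499 = N31292 := trfs L490948 (flp_b L265266) rfl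
theorem L490951 : N31292 = N29842 := eqes L490950 (flp_b L252994)
theorem L490952 : N31292 = N29842 := eqc rfl L490951 rfl
theorem L490955 : sm ge N20499 = N16442 := trfs L490948 L184436 rfl
theorem L490956 : N16442 = N29721 := eqes L490955 (flp_e L251963)
theorem L490957 : N29721 = N16442 := (eqc rfl L490956 rfl).symm
theorem L490958 : sm gf N20499 = N31638 := trfs L490948 L268080 rfl
theorem L490959 : N31638 = N29835 := eqes L490958 (flp_f L252942)
theorem L490960 : N31638 = N29835 := eqc rfl L490959 rfl
theorem L490962 : sm gj N20499 = N31639 := trfs L490948 L268086 rfl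
theorem L490963 : N31639 = N29839 := eqes L490962 (flp_j L252976)
theorem L490964 : N31639 = N29839 := eqc rfl L490963 rfl
theorem L490967 : sm gb N29839 = N45651 := trfs L490964 (flp_b L385998) rfl
theorem L490968 : N45651 = N43496 := eqes L490967 (flp_b L367823)
theorem L490969 : N45651 = N43496 := eqc rfl L490968 rfl
theorem L490972 : sm ge N29839 = N23934 := trfs L490964 L268092 rfl
theorem L490973 : N23934 = N43319 := eqes L490972 (flp_e L366325)
theorem L490974 : N43319 = N23934 := (eqc rfl L490973 rfl).symm
theorem L490979 : sm gh N29839 = N46166 := trfs L490964 L390166 rfl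
theorem L490980 : N46166 = N43497 := eqes L490979 L367829
theorem L490981 : N46166 = N43497 := eqc rfl L490980 rfl
theorem L490985 : sm ge N43497 = N34875 := trfs L490981 L390171 rfl
theorem L490994 : sm gc N23934 = N29719 := trfs L490974 L366323 rfl
theorem L490995 : N29719 = N16445 := eqes L490994 L203479
theorem L490996 : N29719 = N16445 := eqc rfl L490995 rfl
theorem L491001 : sm gi N23934 = N29718 := trfs L490974 (flp_i L366320) rfl
theorem L491002 : N29718 = N34738 := eqes L491001 (flp_i L294469)
theorem L491003 : N34738 = N29718 := (eqc rfl L491002 rfl).symm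
theorem L491008 : sm gd N29718 = N26969 := trfs L491003 L294467 rfl
theorem L491009 : N26969 = N43197 := eqes L491008 (flp_d L365327)
theorem L491010 : N43197 = N26969 := (eqc rfl L491009 rfl).symm
theorem L491024 : sm gj N26969 = N29640 := trfs L491010 L365324 rfl
theorem L491025 : N29640 = N18526 := eqes L491024 (flp_j L228457)
theorem L491026 : N29640 = N18526 := eqc rfl L491025 rfl
theorem L491029 : sm gb N18526 = N23713 := trfs L491026 (flp_b L420538) rfl
theorem L491030 : N23713 = N26659 := eqes L491029 (flp_b L225974)
theorem L491031 : N26659 = N23713 := (eqc rfl L491030 rfl).symm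
theorem L491038 : sm gf N18526 = N43194 := trfs L491026 (flp_f L365298) rfl
theorem L491039 : N43194 = N26968 := eqes L491038 L228449
theorem L491040 : N43194 = N26968 := eqc rfl L491039 rfl
theorem L491045 : sm gi N18526 = N23712 := trfs L491026 (flp_i L420022) rfl
theorem L491046 : N23712 = N12806 := eqes L491045 L157366
theorem L491047 : N23712 = N12806 := eqc rfl L491046 rfl
theorem L491049 : sm gb N12806 = N16277 := trfs L491047 (flp_b L201652) rfl
theorem L491050 : N16277 = N18420 := eqes L491049 (flp_b L156518)
theorem L491051 : N18420 = N16277 := (eqc rfl L491050 rfl).symm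
theorem L491052 : sm gc N12806 = N16289 := trfs L491047 L201659 rfl
theorem L491053 : N16289 = N8824 := eqes L491052 L109088
theorem L491054 : N16289 = N8824 := eqc rfl L491053 rfl
theorem L491057 : sm gf N12806 = N34568 := trfs L491047 (flp_f L293103) rfl
theorem L491058 : N34568 = N18623 := eqes L491057 L158176
theorem L491059 : N34568 = N18623 := eqc rfl L491058 rfl
theorem L491060 : sm gg N12806 = N16279 := trfs L491047 L201655 rfl
theorem L491061 : N16279 = N8823 := eqes L491060 (flp_g L109085)
theorem L491062 : N16279 = N8823 := eqc rfl L491061 rfl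
theorem L491066 : sm gh N12806 = N16433 := trfs L491047 L201657 rfl
theorem L491067 : N16433 = N18625 := eqes L491066 L158189
theorem L491068 : N18625 = N16433 := (eqc rfl L491067 rfl).symm
theorem L491086 : sm gj N16433 = N27106 := trfs L491068 (flp_j L229610) rfl
theorem L491087 : N27106 = N23923 := eqes L491086 (flp_j L203383)
theorem L491088 : N27106 = N23923 := eqc rfl L491087 rfl
theorem L491089 : sm gh N16433 = N12806 := trfs L491068 (flp_h L158189) rfl
theorem L491096 : sm gc N23923 = N18631 := trfs L491088 L229606 rfl
theorem L491097 : N18631 = N16440 := eqes L491096 L203386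
theorem L491098 : N18631 = N16440 := eqc rfl L491097 rfl
theorem L491103 : sm gf N23923 = N39503 := trfs L491088 (flp_f L333736) rfl
theorem L491104 : N39503 = N34857 := eqes L491103 (flp_f L295463)
theorem L491105 : N39503 = N34857 := eqc rfl L491104 rfl
theorem L491111 : sm gc N34857 = N27114 := trfs L491105 L333734 rfl
theorem L491112 : N27114 = N23927 := eqes L491111 L295468
theorem L491113 : N27114 = N23927 := eqc rfl L491112 rfl
theorem L491126 : sm gg N23927 = N39517 := trfs L491113 (flp_g L333850) rfl
theorem L491127 : N39517 = N34863 := eqes L491126 (flp_g L295514)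
theorem L491128 : N39517 = N34863 := eqc rfl L491127 rfl
theorem L491132 : sm gh N23927 = N18629 := trfs L491113 (flp_h L229667) rfl
theorem L491133 : N18629 = N34580 := eqes L491132 (flp_h L293219)
theorem L491134 : N34580 = N18629 := (eqc rfl L491133 rfl).symm
theorem L491142 : sm gj N18629 = N23721 := trfs L491134 L293217 rfl
theorem L491143 : N23721 = N12808 := eqes L491142 (flp_j L158219)
theorem L491144 : N23721 = N12808 := eqc rfl L491143 rfl
theorem L491148 : sm gb N12808 = N16284 := trfs L491144 (flp_b L201738) rfl
theorem L491149 : N16284 = N8828 := eqes L491148 L109102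
theorem L491150 : N16284 = N8828 := eqc rfl L491149 rfl
theorem L491162 : sm gi N12808 = N29636 := trfs L491144 (flp_i L419960) rfl
theorem L491163 : N29636 = N18528 := eqes L491162 (flp_i L157383)
theorem L491164 : N29636 = N18528 := eqc rfl L491163 rfl
theorem L491166 : sm gb N18528 = N23723 := trfs L491164 (flp_b L420544) rfl
theorem L491167 : N23723 = N12749 := eqes L491166 L157379
theorem L491168 : N23723 = N12749 := eqc rfl L491167 rfl
theorem L491170 : sm gd N18528 = N20361 := trfs L491164 (flp_d L251249) rfl
theorem L491171 : N20361 = N12739 := eqes L491170 L157381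
theorem L491172 : N20361 = N12739 := eqc rfl L491171 rfl
theorem L491178 : sm gj N18528 = N43192 := trfs L491164 (flp_j L365281) rfl
theorem L491179 : N43192 = N26974 := eqes L491178 L228499
theorem L491180 : N43192 = N26974 := eqc rfl L491179 rfl
theorem L491183 : sm gd N26974 = N29635 := trfs L491180 (flp_d L365276) rfl
theorem L491184 : N29635 = N18533 := eqes L491183 L228504
theorem L491185 : N29635 = N18533 := eqc rfl L491184 rfl
theorem L491192 : sm gc N18533 = N20413 := trfs L491185 L251242 rfl
theorem L491193 : N20413 = N23843 := eqes L491192 (flp_c L202711)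
theorem L491194 : N23843 = N20413 := (eqc rfl L491193 rfl).symm
theorem L491196 : sm gf N18533 = N20362 := trfs L491185 L251245 rfl
theorem L491197 : N20362 = N12740 := eqes L491196 L157430
theorem L491198 : N20362 = N12740 := eqc rfl L491197 rfl
theorem L491206 : sm gi N18533 = N43193 := trfs L491185 L365284 rfl
theorem L491207 : N43193 = N12812 := eqes L491206 L157432
theorem L491208 : N43193 = N12812 := eqc rfl L491207 rfl
theorem L491214 : sm gf N12812 = N29639 := trfs L491208 L365290 rfl
theorem L491215 : N29639 = N8827 := eqes L491214 L109140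
theorem L491216 : N29639 = N8827 := eqc rfl L491215 rfl
theorem L491221 : sm gc N8827 = N20417 := trfs L491216 L251277 rfl
theorem L491222 : N20417 = N11315 := eqes L491221 (flp_c L96815)
theorem L491223 : N20417 = N11315 := eqc rfl L491222 rfl
theorem L491229 : sm gj N8827 = N20364 := trfs L491216 L251282 rfl
theorem L491230 : N20364 = N6088 := eqes L491229 (flp_j L75443)
theorem L491231 : N20364 = N6088 := eqc rfl L491230 rfl
theorem L491236 : sm gc N6088 = N14043 := trfs L491231 L173057 rfl
theorem L491237 : N14043 = N7795 := eqes L491236 (flp_c L66947)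
theorem L491238 : N14043 = N7795 := eqc rfl L491237 rfl
theorem L491248 : sm gi N6088 = N14006 := trfs L491231 (flp_i L173054) rfl
theorem L491249 : N14006 = N8773 := eqes L491248 (flp_i L74991)
theorem L491250 : N14006 = N8773 := eqc rfl L491249 rfl
theorem L491255 : sm gc N8773 = N9675 := trfs L491250 L119322 rfl
theorem L491256 : N9675 = N11261 := eqes L491255 (flp_c L96341)
theorem L491257 : N11261 = N9675 := (eqc rfl L491256 rfl).symm
theorem L491259 : sm ge N8773 = N9653 := trfs L491250 L119324 rfl
theorem L491260 : N9653 = N6051 := eqes L491259 L74989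
theorem L491261 : N9653 = N6051 := eqc rfl L491260 rfl
theorem L491263 : sm gg N8773 = N9651 := trfs L491250 L119326 rfl
theorem L491264 : N9651 = N6050 := eqes L491263 (flp_g L74984)
theorem L491265 : N9651 = N6050 := eqc rfl L491264 rfl
theorem L491267 : sm gh N8773 = N9650 := trfs L491250 (flp_h L119319) rfl
theorem L491268 : N9650 = N12741 := eqes L491267 L108542
theorem L491269 : N12741 = N9650 := (eqc rfl L491268 rfl).symm
theorem L491271 : sm gb N9650 = N8784 := trfs L491269 L108545 rfl
theorem L491272 : N8784 = N13999 := eqes L491271 (flp_b L119260)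
theorem L491273 : N13999 = N8784 := (eqc rfl L491272 rfl).symm
theorem L491284 : sm gg N9650 = N8774 := trfs L491269 L108549 rfl
theorem L491285 : N8774 = N6660 := eqes L491284 (flp_g L82456)
theorem L491286 : N8774 = N6660 := eqc rfl L491285 rfl
theorem L491287 : sm gj N9650 = N18535 := trfs L491269 (flp_j L157452) rfl
theorem L491288 : N18535 = N14005 := eqes L491287 L119309
theorem L491289 : N18535 = N14005 := eqc rfl L491288 rfl
theorem L491290 : sm gh N9650 = N8773 := trfs L491269 (flp_h L108542) rfl
theorem L491300 : sm ge N14005 = N12743 := trfs L491289 L157449 rfl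
theorem L491301 : N12743 = N9652 := eqes L491300 L119315
theorem L491302 : N12743 = N9652 := eqc rfl L491301 rfl
theorem L491309 : sm gb N9652 = N8786 := trfs L491302 L108563 rfl
theorem L491310 : N8786 = N14001 := eqes L491309 (flp_b L119276)
theorem L491311 : N14001 = N8786 := (eqc rfl L491310 rfl).symm
theorem L491321 : sm gh N9652 = N8775 := trfs L491302 (flp_h L108560) rfl
theorem L491322 : N8775 = N14009 := eqes L491321 L119345
theorem L491323 : N14009 = N8775 := (eqc rfl L491322 rfl).symm
theorem L491326 : sm gb N8775 = N20358 := trfs L491323 (flp_b L173002) rfl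
theorem L491327 : N20358 = N6057 := eqes L491326 L75006
theorem L491328 : N20358 = N6057 := eqc rfl L491327 rfl
theorem L491336 : sm gh N8775 = N9652 := trfs L491323 (flp_h L119345) rfl
theorem L491349 : sm gi N6057 = N29633 := trfs L491328 L251219 rfl
theorem L491350 : N29633 = N4212 := eqes L491349 L51972
theorem L491351 : N29633 = N4212 := eqc rfl L491350 rfl
theorem L491352 : sm ga N4212 = N25887 := trfs L491351 (flp_a L443014) rfl
theorem L491353 : N25887 = N2919 := eqes L491352 L36283
theorem L491354 : N25887 = N2919 := eqc rfl L491353 rfl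
theorem L491373 : sm gj N2919 = N17779 := trfs L491354 L219637 rfl
theorem L491374 : N17779 = N2025 := eqes L491373 (flp_j L25260)
theorem L491375 : N17779 = N2025 := eqc rfl L491374 rfl
theorem L491390 : sm gi N2025 = N20342 := trfs L491375 L443053 rfl
theorem L491391 : N20342 = N2900 := eqes L491390 (flp_i L25110)
theorem L491392 : N20342 = N2900 := eqc rfl L491391 rfl
theorem L491405 : sm gh N2900 = N13990 := trfs L491392 (flp_h L172855) rfl
theorem L491406 : N13990 = N4195 := eqes L491405 L36140
theorem L491407 : N13990 = N4195 := eqc rfl L491406 rfl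
theorem L491411 : sm gd N4195 = N9642 := trfs L491407 L119179 rfl
theorem L491412 : N9642 = N6073 := eqes L491411 L52108
theorem L491413 : N9642 = N6073 := eqc rfl L491412 rfl
theorem L491421 : sm gj N4195 = N20341 := trfs L491407 L172845 rfl
theorem L491422 : N20341 = N6072 := eqes L491421 (flp_j L52105)
theorem L491423 : N20341 = N6072 := eqc rfl L491422 rfl
theorem L491430 : sm gd N6072 = N13993 := trfs L491423 L172850 rfl
theorem L491431 : N13993 = N8806 := eqes L491430 L75276
theorem L491432 : N13993 = N8806 := eqc rfl L491431 rfl
theorem L491433 : sm ge N6072 = N29605 := trfs L491423 (flp_e L250973) rfl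
theorem L491434 : N29605 = N8802 := eqes L491433 (flp_e L75250)
theorem L491435 : N29605 = N8802 := eqc rfl L491434 rfl
theorem L491449 : sm gh N8802 = N26009 := trfs L491435 (flp_h L442996) rfl
theorem L491450 : N26009 = N6069 := eqes L491449 (flp_h L75245)
theorem L491451 : N26009 = N6069 := eqc rfl L491450 rfl
theorem L491460 : sm gf N6069 = N37916 := trfs L491451 (flp_f L320806) rfl
theorem L491461 : N37916 = N8800 := eqes L491460 (flp_f L75231)
theorem L491462 : N37916 = N8800 := eqc rfl L491461 rfl
theorem L491475 : sm gi N8800 = N26000 := trfs L491462 (flp_i L320800) rfl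
theorem L491476 : N26000 = N6099 := eqes L491475 L75233
theorem L491477 : N26000 = N6099 := eqc rfl L491476 rfl
theorem L491493 : sm gj N6099 = N17854 := trfs L491477 L220592 rfl
theorem L491494 : N17854 = N4217 := eqes L491493 (flp_j L52312)
theorem L491495 : N17854 = N4217 := eqc rfl L491494 rfl
theorem L491502 : sm gd N4217 = N12648 := trfs L491495 L151916 rfl
theorem L491503 : N12648 = N6095 := eqes L491502 (flp_d L52288)
theorem L491504 : N12648 = N6095 := eqc rfl L491503 rfl
theorem L491512 : sm gc N6095 = N8706 := trfs L491504 (flp_c L107811) rfl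
theorem L491513 : N8706 = N8744 := eqes L491512 (flp_c L74768)
theorem L491514 : N8744 = N8706 := (eqc rfl L491513 rfl).symm
theorem L491518 : sm gf N6095 = N8710 := trfs L491504 L107813 rfl
theorem L491519 : N8710 = N4215 := eqes L491518 (flp_f L52285)
theorem L491520 : N8710 = N4215 := eqc rfl L491519 rfl
theorem L491526 : sm gi N6095 = N18413 := trfs L491504 L156461 rfl
theorem L491527 : N18413 = N8795 := eqes L491526 (flp_i L75192)
theorem L491528 : N18413 = N8795 := eqc rfl L491527 rfl
theorem L491531 : sm gc N8795 = N12650 := trfs L491528 L156463 rfl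
theorem L491532 : N12650 = N12612 := eqes L491531 (flp_c L107534)
theorem L491533 : N12650 = N12612 := eqc rfl L491532 rfl
theorem L491538 : sm gf N8795 = N12654 := trfs L491528 L156465 rfl
theorem L491539 : N12654 = N6066 := eqes L491538 (flp_f L75187)
theorem L491540 : N12654 = N6066 := eqc rfl L491539 rfl
theorem L491544 : sm ga N6066 = N16290 := trfs L491540 (flp_a L138972) rfl
theorem L491545 : N16290 = N8780 := eqes L491544 (flp_a L75052)
theorem L491546 : N16290 = N8780 := eqc rfl L491545 rfl
theorem L491548 : sm gc N6066 = N8711 := trfs L491540 L107858 rfl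
theorem L491549 : N8711 = N8681 := eqes L491548 (flp_c L74268)
theorem L491550 : N8711 = N8681 := eqc rfl L491549 rfl
theorem L491553 : sm gg N6066 = N8713 := trfs L491540 L107861 rfl
theorem L491554 : N8713 = N4191 := eqes L491553 (flp_g L52049)
theorem L491555 : N8713 = N4191 := eqc rfl L491554 rfl
theorem L491559 : sm ga N4191 = N11201 := trfs L491555 (flp_a L95860) rfl
theorem L491560 : N11201 = N6054 := eqes L491559 (flp_a L51936)
theorem L491561 : N11201 = N6054 := eqc rfl L491560 rfl
theorem L491563 : sm gc N4191 = N6004 := trfs L491555 L74515 rfl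
theorem L491564 : N6004 = N5982 := eqes L491563 (flp_c L51380)
theorem L491565 : N6004 = N5982 := eqc rfl L491564 rfl
theorem L491573 : sm gi N4191 = N6003 := trfs L491555 (flp_i L74513) rfl
theorem L491574 : N6003 = N2917 := eqes L491573 L36108
theorem L491575 : N6003 = N2917 := eqc rfl L491574 rfl
theorem L491576 : sm ga N2917 = N7710 := trfs L491575 (flp_a L66222) rfl
theorem L491577 : N7710 = N4210 := eqes L491576 (flp_a L36267)
theorem L491578 : N7710 = N4210 := eqc rfl L491577 rfl
theorem L491580 : sm gc N2917 = N4145 := trfs L491575 (flp_c L51540) rfl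
theorem L491581 : N4145 = N4161 := eqes L491580 (flp_c L35867)
theorem L491582 : N4161 = N4145 := (eqc rfl L491581 rfl).symm
theorem L491590 : sm gh N2917 = N4207 := trfs L491575 L51545 rfl
theorem L491591 : N4207 = N4216 := eqes L491590 L36312
theorem L491592 : N4216 = N4207 := (eqc rfl L491591 rfl).symm
theorem L491593 : sm ga N4207 = N6091 := trfs L491592 (flp_a L52252) rfl
theorem L491594 : N6091 = N5378 := eqes L491593 (flp_a L46375)
theorem L491595 : N6091 = N5378 := eqc rfl L491594 rfl
theorem L491603 : sm gg N4207 = N6097 := trfs L491592 (flp_g L52302) rfl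
theorem L491604 : N6097 = N6085 := eqes L491603 (flp_g L52207)
theorem L491605 : N6097 = N6085 := eqc rfl L491604 rfl
theorem L491607 : sm gh N4207 = N2917 := trfs L491592 (flp_h L36312) rfl
theorem L491610 : sm ga N6085 = N8830 := trfs L491605 (flp_a L75469) rfl
theorem L491611 : N8830 = N7792 := eqes L491610 (flp_a L66921)
theorem L491612 : N8830 = N7792 := eqc rfl L491611 rfl
theorem L491620 : sm gj N6085 = N8837 := trfs L491605 (flp_j L75526) rfl
theorem L491621 : N8837 = N8820 := eqes L491620 (flp_j L75394)
theorem L491622 : N8837 = N8820 := eqc rfl L491621 rfl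
theorem L491626 : sm ga N8820 = N12816 := trfs L491622 (flp_a L109168) rfl
theorem L491627 : N12816 = N11308 := eqes L491626 (flp_a L96754)
theorem L491628 : N12816 = N11308 := eqc rfl L491627 rfl
theorem L491639 : sm gh N8820 = N6096 := trfs L491622 (flp_h L75521) rfl
theorem L491640 : N6096 = N12651 := eqes L491639 (flp_h L107838)
theorem L491641 : N12651 = N6096 := (eqc rfl L491640 rfl).symm
theorem L491643 : sm ga N6096 = N16287 := trfs L491641 (flp_a L138944) rfl
theorem L491644 : N16287 = N8829 := eqes L491643 (flp_a L75461)
theorem L491645 : N16287 = N8829 := eqc rfl L491644 rfl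
theorem L491647 : sm gc N6096 = N8708 := trfs L491641 (flp_c L107832) rfl
theorem L491648 : N8708 = N8745 := eqes L491647 (flp_c L74775)
theorem L491649 : N8745 = N8708 := (eqc rfl L491648 rfl).symm
theorem L491672 : sm gj N8708 = N6026 := trfs L491649 (flp_j L74773) rfl
theorem L491673 : N6026 = N6001 := eqes L491672 L74477
theorem L491674 : N6026 = N6001 := eqc rfl L491673 rfl
theorem L491676 : sm gi N8708 = N12613 := trfs L491649 (flp_i L107548) rfl
theorem L491677 : N12613 = N12652 := eqes L491676 L107840
theorem L491678 : N12652 = N12613 := (eqc rfl L491677 rfl).symm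
theorem L491682 : sm gb N12613 = N18401 := trfs L491678 (flp_b L156361) rfl
theorem L491683 : N18401 = N17818 := eqes L491682 (flp_b L151612)
theorem L491684 : N18401 = N17818 := eqc rfl L491683 rfl
theorem L491689 : sm gf N12613 = N18410 := trfs L491678 (flp_f L156441) rfl
theorem L491690 : N18410 = N18359 := eqes L491689 (flp_f L156060)
theorem L491691 : N18410 = N17954 := eqc rfl L491690 L445629
theorem L491695 : sm gi N12613 = N8708 := trfs L491678 (flp_i L107840) rfl
theorem L491708 : sm ge N17954 = N26814 := trfs L491691 (flp_e L227226) rfl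
theorem L491709 : N26814 = N26150 := eqes L491708 L221855
theorem L491710 : N26814 = N26150 := eqc rfl L491709 rfl
theorem L491714 : sm gj N17954 = N12612 := trfs L491691 L156443 L491533
theorem L491715 : N12612 = N12338 := eqes L491714 L152742
theorem L491716 : N12612 = N12338 := eqc rfl L491715 rfl
theorem L491731 : sm gf N12338 = N8681 := trfs L491716 (flp_f L107532) rfl
theorem L491732 : N8681 = N8495 := eqes L491731 L105287
theorem L491733 : N8681 = N8495 := eqc rfl L491732 rfl
theorem L491737 : sm gi N12338 = N8706 := trfs L491716 L107538 L491514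
theorem L491738 : N8706 = N17958 := eqes L491737 L152767
theorem L491739 : N17958 = N8706 := (eqc rfl L491738 rfl).symm
theorem L491743 : sm gb N8706 = N12350 := trfs L491739 L152769 rfl
theorem L491744 : N12350 = N12637 := eqes L491743 (flp_b L107718)
theorem L491745 : N12637 = N12350 := (eqc rfl L491744 rfl).symm
theorem L491751 : sm ge N8706 = N26154 := trfs L491739 (flp_e L221893) rfl
theorem L491752 : N26154 = N12649 := eqes L491751 L107818
theorem L491753 : N26154 = N12649 := eqc rfl L491752 rfl
theorem L491759 : sm gh N8706 = N26155 := trfs L491739 L221897 rfl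
theorem L491760 : N26155 = N6083 := eqes L491759 L74465
theorem L491761 : N26155 = N6083 := eqc rfl L491760 rfl
theorem L491780 : sm gj N6083 = N38134 := trfs L491761 (flp_j L322675) rfl
theorem L491781 : N38134 = N8817 := eqes L491780 (flp_j L75374)
theorem L491782 : N38134 = N8817 := eqc rfl L491781 rfl
theorem L491784 : sm gb N8817 = N26100 := trfs L491782 L322671 L459372
theorem L491785 : N26100 = N12793 := eqes L491784 (flp_b L108990)
theorem L491786 : N26100 = N12793 := eqc rfl L491785 rfl
theorem L491793 : sm ge N12793 = N38059 := trfs L491786 (flp_e L322048) rfl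
theorem L491794 : N38059 = N18610 := eqes L491793 L158075
theorem L491795 : N38059 = N18610 := eqc rfl L491794 rfl
theorem L491797 : sm gg N12793 = N38062 := trfs L491786 (flp_g L322074) rfl
theorem L491798 : N38062 = N18608 := eqes L491797 (flp_g L158064)
theorem L491799 : N38062 = N18608 := eqc rfl L491798 rfl
theorem L491801 : sm gh N12793 = N17919 := trfs L491786 (flp_h L221438) rfl
theorem L491802 : N17919 = N18395 := eqes L491801 (flp_h L156314)
theorem L491803 : N18395 = N17919 := (eqc rfl L491802 rfl).symm
theorem L491812 : sm ge N17919 = N26797 := trfs L491803 L227072 rfl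
theorem L491813 : N26797 = N26097 := eqes L491812 (flp_e L221417)
theorem L491814 : N26797 = N26097 := eqc rfl L491813 rfl
theorem L491819 : sm gj N17919 = N12350 := trfs L491803 L156312 L491745
theorem L491820 : N12350 = N12313 := eqes L491819 (flp_j L152447)
theorem L491821 : N12350 = N12313 := eqc rfl L491820 rfl
theorem L491829 : sm gd N12313 = N8503 := trfs L491821 L105381 rfl
theorem L491830 : N8503 = N8479 := eqes L491829 L105080
theorem L491831 : N8503 = N8479 := eqc rfl L491830 rfl
theorem L491851 : sm gf N8479 = N5865 := trfs L491831 L72815 rfl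
theorem L491852 : N5865 = N5846 := eqes L491851 (flp_f L72618)
theorem L491853 : N5865 = N5846 := eqc rfl L491852 rfl
theorem L491858 : N12319 = N5991 := L445699.trans L457231
theorem L491859 : sm gi N8479 = N5862 := trfs L491831 (flp_i L72811) rfl
theorem L491860 : N5862 = N12248 := eqes L491859 (flp_i L104546)
theorem L491861 : N12248 = N5862 := (eqc rfl L491860 rfl).symm
theorem L491869 : sm gf N5862 = N8433 := trfs L491861 (flp_f L104540) rfl
theorem L491870 : N8433 = N4051 := eqes L491869 L50410
theorem L491871 : N8433 = N4051 := eqc rfl L491870 rfl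
theorem L491882 : sm gc N4051 = N5821 := trfs L491871 L72246 rfl
theorem L491883 : N5821 = N2888 := eqes L491882 L34992
theorem L491884 : N5821 = N2888 := eqc rfl L491883 rfl
theorem L491893 : sm gh N4051 = N12250 := trfs L491871 L104560 rfl
theorem L491894 : N12250 = N2802 := eqes L491893 (flp_h L34990)
theorem L491895 : N12250 = N2802 := eqc rfl L491894 rfl
theorem L491908 : sm gi N2802 = N17826 := trfs L491895 L151683 rfl
theorem L491909 : N17826 = N4026 := eqes L491908 (flp_i L34807)
theorem L491910 : N17826 = N4026 := eqc rfl L491909 rfl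
theorem L491923 : sm gh N4026 = N12322 := trfs L491910 L151693 rfl
theorem L491924 : N12322 = N5828 := eqes L491923 L50140
theorem L491925 : N12322 = N5828 := eqc rfl L491924 rfl
theorem L491931 : sm gc N5828 = N8496 := trfs L491925 L105154 rfl
theorem L491932 : N8496 = N4144 := eqes L491931 L50142
theorem L491933 : N8496 = N4144 := eqc rfl L491932 rfl
theorem L491936 : sm ge N5828 = N8486 := trfs L491925 L105156 rfl
theorem L491937 : N8486 = N4029 := eqes L491936 L50144
theorem L491938 : N8486 = N1996 := eqc rfl L491937 L447640
theorem L491955 : sm gd N1996 = N12329 := trfs L491938 (flp_d L105213) rfl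
theorem L491956 : N12329 = N1385 := eqes L491955 L17379
theorem L491957 : N12329 = N1385 := eqc rfl L491956 rfl
theorem L491978 : sm gi N1385 = N8485 := trfs L491957 (flp_i L105208) rfl
theorem L491979 : N8485 = N1983 := eqes L491978 (flp_i L17285)
theorem L491980 : N8485 = N1983 := eqc rfl L491979 rfl
theorem L491992 : sm gj N1983 = N12326 := trfs L491980 (flp_j L105187) rfl
theorem L491993 : N12326 = N2862 := eqes L491992 L24813
theorem L491994 : N12326 = N2862 := eqc rfl L491993 rfl
theorem L492003 : sm gf N2862 = N17633 := trfs L491994 (flp_f L150116) rfl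
theorem L492004 : N17633 = N4093 := eqes L492003 (flp_f L35352)
theorem L492005 : N17633 = N4093 := eqc rfl L492004 rfl
theorem L492025 : sm gi N4093 = N25679 := trfs L492005 L217962 rfl
theorem L492026 : N25679 = N2846 := eqes L492025 L35355
theorem L492027 : N25679 = N2846 := eqc rfl L492026 rfl
theorem L492042 : sm gh N2846 = N37443 := trfs L492027 L316919 rfl
theorem L492043 : N37443 = N2051 := eqes L492042 L24697
theorem L492044 : N37443 = N2051 := eqc rfl L492043 rfl
theorem L492047 : sm gf N2051 = N26135 := trfs L492044 L316924 rfl
theorem L492048 : N26135 = N1437 := eqes L492047 L17832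
theorem L492049 : N26135 = N1437 := eqc rfl L492048 rfl
theorem L492057 : sm gd N1437 = N37880 := trfs L492049 (flp_d L320519) rfl
theorem L492058 : N37880 = N2068 := eqes L492057 (flp_d L17966)
theorem L492059 : N37880 = N2068 := eqc rfl L492058 rfl
theorem L492072 : sm gh N2068 = N25973 := trfs L492059 (flp_h L320512) rfl
theorem L492073 : N25973 = N2978 := eqes L492072 L25749
theorem L492074 : N25973 = N2978 := eqc rfl L492073 rfl
theorem L492096 : sm gi N2978 = N17830 := trfs L492074 (flp_i L220378) rfl
theorem L492097 : N17830 = N4299 := eqes L492096 L37003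
theorem L492098 : N17830 = N4299 := eqc rfl L492097 rfl
theorem L492114 : sm gj N4299 = N12254 := trfs L492098 L151721 rfl
theorem L492115 : N12254 = N2979 := eqes L492114 L37009
theorem L492116 : N12254 = N1351 := eqc rfl L492115 L464957
theorem L492128 : sm gg N1351 = N8437 := trfs L492116 L104601 rfl
theorem L492129 : N8437 = N939 := eqes L492128 (flp_g L11847)
theorem L492130 : N8437 = N939 := eqc rfl L492129 rfl
theorem L492143 : sm gi N939 = N12257 := trfs L492130 L104620 rfl
theorem L492144 : N12257 = N1344 := eqes L492143 (flp_i L11801)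
theorem L492145 : N12257 = N1344 := eqc rfl L492144 rfl
theorem L492149 : sm gb N1344 = N1000 := trfs L492145 L104622 L470623
theorem L492150 : N1000 = N1932 := eqes L492149 (flp_b L16876)
theorem L492151 : N1932 = N1000 := (eqc rfl L492150 rfl).symm
theorem L492160 : sm gh N1344 = N17836 := trfs L492145 L151765 rfl
theorem L492161 : N17836 = N1928 := eqes L492160 (flp_h L16846)
theorem L492162 : N17836 = N1928 := eqc rfl L492161 rfl
theorem L492168 : sm gc N1928 = N25866 := trfs L492162 (flp_c L219474) rfl
theorem L492169 : N25866 = N1340 := eqes L492168 L16843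
theorem L492170 : N25866 = N1340 := eqc rfl L492169 rfl
theorem L492186 : sm gf N1340 = N17764 := trfs L492170 L219476 rfl
theorem L492187 : N17764 = N932 := eqes L492186 (flp_f L11763)
theorem L492188 : N17764 = N932 := eqc rfl L492187 rfl
theorem L492215 : sm gh N932 = N12209 := trfs L492188 (flp_h L151157) rfl
theorem L492216 : N12209 = N647 := eqes L492215 L8223
theorem L492217 : N12209 = N647 := eqc rfl L492216 rfl
theorem L492233 : sm gi N647 = N8406 := trfs L492217 (flp_i L104214) rfl
theorem L492234 : N8406 = N447 := eqes L492233 L5721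
theorem L492235 : N8406 = N447 := eqc rfl L492234 rfl
theorem L492244 : sm gg N447 = N12043 := trfs L492235 (flp_g L102890) rfl
theorem L492245 : N12043 = N642 := eqes L492244 (flp_g L5679)
theorem L492246 : N12043 = N642 := eqc rfl L492245 rfl
theorem L492259 : sm gj N642 = N17350 := trfs L492246 (flp_j L147739) rfl
theorem L492260 : N17350 = N920 := eqes L492259 (flp_j L8129)
theorem L492261 : N17350 = N920 := eqc rfl L492260 rfl
theorem L492280 : sm gi N920 = N25252 := trfs L492261 L214396 rfl
theorem L492281 : N25252 = N1319 := eqes L492280 (flp_i L11606)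
theorem L492282 : N25252 = N1319 := eqc rfl L492281 rfl
theorem L492287 : sm ge N1319 = N36800 := trfs L492282 (flp_e L311576) rfl
theorem L492288 : N36800 = N918 := eqes L492287 (flp_e L11600)
theorem L492289 : N36800 = N918 := eqc rfl L492288 rfl
theorem L492308 : sm gj N918 = N25499 := trfs L492289 L311579 rfl
theorem L492309 : N25499 = N640 := eqes L492308 L8114
theorem L492310 : N25499 = N640 := eqc rfl L492309 rfl
theorem L492327 : sm gh N640 = N37170 := trfs L492310 L314726 rfl
theorem L492328 : N37170 = N923 := eqes L492327 (flp_h L8158)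
theorem L492329 : N37170 = N923 := eqc rfl L492328 rfl
theorem L492332 : sm gc N923 = N25575 := trfs L492329 L314729 rfl
theorem L492333 : N25575 = N1325 := eqes L492332 L11650
theorem L492334 : N25575 = N702 := eqc rfl L492333 L465266
theorem L492346 : sm gg N702 = N17839 := trfs L492334 L217153 rfl
theorem L492347 : N17839 = N488 := eqes L492346 L6170
theorem L492348 : N17839 = N488 := eqc rfl L492347 rfl
theorem L492372 : sm gh N488 = N12259 := trfs L492348 (flp_h L151789) rfl
theorem L492373 : N12259 = N646 := eqes L492372 L487737
theorem L492374 : N12259 = N646 := eqc rfl L492373 rfl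
theorem L492387 : sm gi N646 = N8439 := trfs L492374 (flp_i L104636) rfl
theorem L492388 : N8439 = N446 := eqes L492387 L5714
theorem L492389 : N8439 = N446 := eqc rfl L492388 rfl
theorem L492390 : sm ga N446 = N12237 := trfs L492389 (flp_a L104452) rfl
theorem L492391 : N12237 = N579 := eqes L492390 (flp_a L5125)
theorem L492392 : N12237 = N579 := eqc rfl L492391 rfl
theorem L492410 : sm gg N579 = N17544 := trfs L492392 (flp_g L149397) rfl
theorem L492411 : N17544 = N831 := eqes L492410 (flp_g L7346)
theorem L492412 : N17544 = N831 := eqc rfl L492411 rfl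
theorem L492432 : sm gi N831 = N25543 := trfs L492412 L216880 rfl
theorem L492433 : N25543 = N1192 := eqes L492432 (flp_i L10494)
theorem L492434 : N25543 = N1192 := eqc rfl L492433 rfl
theorem L492436 : sm gb N1192 = N37213 := trfs L492434 (flp_b L315078) rfl
theorem L492437 : N37213 = N1712 := eqes L492436 L14986
theorem L492438 : N37213 = N1712 := eqc rfl L492437 rfl
theorem L492466 : sm gg N1712 = N25912 := trfs L492438 L315083 rfl
theorem L492467 : N25912 = N1200 := eqes L492466 L14989
theorem L492468 : N25912 = N1200 := eqc rfl L492467 rfl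
theorem L492483 : sm gh N1200 = N37786 := trfs L492468 L319729 rfl
theorem L492484 : N37786 = N1722 := eqes L492483 (flp_h L15074)
theorem L492485 : N37786 = N1722 := eqc rfl L492484 rfl
theorem L492492 : sm ge N1722 = N25913 := trfs L492485 L319735 rfl
theorem L492493 : N25913 = N2480 := eqes L492492 L21593
theorem L492494 : N25913 = N2480 := eqc rfl L492493 rfl
theorem L492507 : sm gf N2480 = N37779 := trfs L492494 (flp_f L319674) rfl
theorem L492508 : N37779 = N3581 := eqes L492507 L31018
theorem L492509 : N37779 = N3581 := eqc rfl L492508 rfl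
theorem L492523 : sm gh N3581 = N25908 := trfs L492509 (flp_h L319668) rfl
theorem L492524 : N25908 = N2486 := eqes L492523 L31023
theorem L492525 : N25908 = N2486 := eqc rfl L492524 rfl
theorem L492543 : sm gi N2486 = N17789 := trfs L492525 (flp_i L219822) rfl
theorem L492544 : N17789 = N1732 := eqes L492543 L21650
theorem L492545 : N17789 = N1732 := eqc rfl L492544 rfl
theorem L492560 : sm gg N1732 = N25904 := trfs L492545 (flp_g L219793) rfl
theorem L492561 : N25904 = N2496 := eqes L492560 L21728
theorem L492562 : N25904 = N2496 := eqc rfl L492561 rfl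
theorem L492579 : sm gj N2496 = N37770 := trfs L492562 (flp_j L319592) rfl
theorem L492580 : N37770 = N3607 := eqes L492579 L31239
theorem L492581 : N37770 = N3607 := eqc rfl L492580 rfl
theorem L492590 : sm gd N3607 = N25903 := trfs L492581 (flp_d L319585) rfl
theorem L492591 : N25903 = N5217 := eqes L492590 (flp_d L44968)
theorem L492592 : N25903 = N5217 := eqc rfl L492591 rfl
theorem L492606 : sm gi N5217 = N37771 := trfs L492592 L319595 rfl
theorem L492607 : N37771 = N7530 := eqes L492606 (flp_i L64655)
theorem L492608 : N37771 = N7530 := eqc rfl L492607 rfl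
theorem L492617 : sm gh N7530 = N26032 := trfs L492608 L319604 rfl
theorem L492618 : N26032 = N10934 := eqes L492617 L93536
theorem L492619 : N26032 = N5329 := eqc rfl L492618 L468882
theorem L492622 : sm gc N5329 = N15889 := trfs L492619 (flp_c L286756) L456330
theorem L492623 : N15889 = N7721 := eqes L492622 (flp_c L66315)
theorem L492624 : N15889 = N7721 := eqc rfl L492623 rfl
theorem L492634 : sm gi N5329 = N17873 := trfs L492619 (flp_i L220856) rfl
theorem L492635 : N17873 = N7686 := eqes L492634 (flp_i L66024)
theorem L492636 : N17873 = N7686 := eqc rfl L492635 rfl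
theorem L492639 : sm gc N7686 = N23141 := trfs L492636 (flp_c L197210) L456355
theorem L492640 : N23141 = N11156 := eqes L492639 (flp_c L95476)
theorem L492641 : N23141 = N11156 := eqc rfl L492640 rfl
theorem L492651 : sm gh N7686 = N10987 := trfs L492636 (flp_h L152059) L459716
theorem L492652 : N10987 = N11167 := eqes L492651 L95580
theorem L492653 : N11167 = N10987 := (eqc rfl L492652 rfl).symm
theorem L492657 : N16232 = N15919 := L456327.trans L456378
theorem L492661 : sm ge N10987 = N16242 := trfs L492653 (flp_e L138578) rfl
theorem L492662 : N16242 = N15977 := eqes L492661 (flp_e L136278)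
theorem L492663 : N16242 = N15977 := eqc rfl L492662 rfl
theorem L492666 : sm gj N10987 = N7687 := trfs L492653 L95587 rfl
theorem L492667 : N7687 = N7567 := eqes L492666 L93993
theorem L492668 : N7687 = N7567 := eqc rfl L492667 rfl
theorem L492671 : sm gi N10987 = N16247 := trfs L492653 L138627 rfl
theorem L492672 : N16247 = N7566 := eqes L492671 (flp_i L93987)
theorem L492673 : N16247 = N7566 := eqc rfl L492672 rfl
theorem L492686 : sm gh N7566 = N11231 := trfs L492673 L138637 rfl
theorem L492687 : N11231 = N5217 := eqes L492686 (flp_h L64956)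
theorem L492688 : N11231 = N5217 := eqc rfl L492687 rfl
theorem L492692 : sm gd N5217 = N7906 := trfs L492688 L96119 rfl
theorem L492693 : N7906 = N3607 := eqes L492692 L44968
theorem L492694 : N7906 = N3607 := eqc rfl L492693 rfl
theorem L492712 : sm gi N3607 = N5460 := trfs L492694 (flp_i L67918) rfl
theorem L492713 : N5460 = N5196 := eqes L492712 (flp_i L44790)
theorem L492714 : N5460 = N5196 := eqc rfl L492713 rfl
theorem L492717 : sm gb N5196 = N4289 := trfs L492714 L47111 rfl
theorem L492718 : N4289 = N3596 := eqes L492717 L44787
theorem L492719 : N4289 = N3596 := eqc rfl L492718 rfl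
theorem L492723 : sm gf N5196 = N7862 := trfs L492714 (flp_f L67565) rfl
theorem L492724 : N7862 = N7457 := eqes L492723 (flp_f L64015)
theorem L492725 : N7862 = N7457 := eqc rfl L492724 rfl
theorem L492727 : sm gj N5196 = N3776 := trfs L492714 L47115 rfl
theorem L492728 : N3776 = N3591 := eqes L492727 (flp_j L44785)
theorem L492729 : N3776 = N3591 := eqc rfl L492728 rfl
theorem L492730 : sm gh N5196 = N3775 := trfs L492714 (flp_h L47107) rfl
theorem L492731 : N3775 = N7509 := eqes L492730 (flp_h L64463)
theorem L492732 : N7509 = N3775 := (eqc rfl L492731 rfl).symm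
theorem L492746 : sm gj N3775 = N5180 := trfs L492732 (flp_j L64458) rfl
theorem L492747 : N5180 = N2614 := eqes L492746 (flp_j L32725)
theorem L492748 : N5180 = N2614 := eqc rfl L492747 rfl
theorem L492749 : sm gh N3775 = N5196 := trfs L492732 L64463 rfl
theorem L492753 : sm gb N2614 = N3584 := trfs L492748 L44648 rfl
theorem L492754 : N3584 = N2060 := eqes L492753 L22784
theorem L492755 : N3584 = N2060 := eqc rfl L492754 rfl
theorem L492761 : sm gf N2614 = N7441 := trfs L492748 (flp_f L63876) rfl
theorem L492762 : N7441 = N3749 := eqes L492761 (flp_f L32506)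
theorem L492763 : N7441 = N3749 := eqc rfl L492762 rfl
theorem L492764 : sm gg N2614 = N3581 := trfs L492748 (flp_g L44646) rfl
theorem L492765 : N3581 = N1813 := eqes L492764 (flp_g L22780)
theorem L492766 : N3581 = N1813 := eqc rfl L492765 rfl
theorem L492771 : sm gb N1813 = N2482 := trfs L492766 L31020 rfl
theorem L492772 : N2482 = N1429 := eqes L492771 L15883
theorem L492773 : N2482 = N1429 := eqc rfl L492772 rfl
theorem L492779 : sm gf N1813 = N2480 := trfs L492766 (flp_f L31018) rfl
theorem L492780 : N2480 = N1260 := eqes L492779 (flp_f L15879)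
theorem L492781 : N2480 = N1260 := eqc rfl L492780 rfl
theorem L492783 : sm gh N1813 = N2486 := trfs L492766 L31023 rfl
theorem L492784 : N2486 = N2615 := eqes L492783 L22790
theorem L492785 : N2615 = N2486 := (eqc rfl L492784 rfl).symm
theorem L492802 : sm gh N2486 = N1813 := trfs L492785 (flp_h L22790) rfl
theorem L492804 : sm gi N2486 = N3777 := trfs L492785 L32745 rfl
theorem L492805 : N3777 = N1732 := eqes L492804 L21650
theorem L492806 : N3777 = N1732 := eqc rfl L492805 rfl
theorem L492808 : sm gb N1732 = N2971 := trfs L492806 L32749 rfl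
theorem L492809 : N2971 = N1206 := eqes L492808 L15158
theorem L492810 : N2971 = N1206 := eqc rfl L492809 rfl
theorem L492816 : sm gf N1732 = N2616 := trfs L492806 L32752 rfl
theorem L492817 : N2616 = N1204 := eqes L492816 (flp_f L15156)
theorem L492818 : N2616 = N1204 := eqc rfl L492817 rfl
theorem L492826 : sm ge N1204 = N1848 := trfs L492818 L22806 rfl
theorem L492827 : N1848 = N837 := eqes L492826 (flp_e L10590)
theorem L492828 : N1848 = N837 := eqc rfl L492827 rfl
theorem L492841 : sm gi N837 = N1287 := trfs L492828 (flp_i L16190) rfl
theorem L492842 : N1287 = N1200 := eqes L492841 (flp_i L10561)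
theorem L492843 : N1287 = N1200 := eqc rfl L492842 rfl
theorem L492853 : sm gh N1200 = N895 := trfs L492843 (flp_h L11333) rfl
theorem L492854 : N895 = N1722 := eqes L492853 (flp_h L15074)
theorem L492855 : N1722 = N895 := (eqc rfl L492854 rfl).symm
theorem L492864 : sm gh N895 = N1200 := trfs L492855 L15074 rfl
theorem L492876 : sm ga N1206 = N2070 := trfs L492810 L25695 rfl
theorem L492877 : N2070 = N939 := eqes L492876 L10606
theorem L492878 : N2070 = N939 := eqc rfl L492877 rfl
theorem L492883 : sm gg N1206 = N4290 := trfs L492810 (flp_g L36941) rfl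
theorem L492884 : N4290 = N1735 := eqes L492883 L15181
theorem L492885 : N4290 = N1735 := eqc rfl L492884 rfl
theorem L492892 : sm gd N1735 = N6025 := trfs L492885 (flp_d L51720) rfl
theorem L492893 : N6025 = N2498 := eqes L492892 (flp_d L21749)
theorem L492894 : N6025 = N2498 := eqc rfl L492893 rfl
theorem L492928 : sm gc N2498 = N8733 := trfs L492894 (flp_c L74672) rfl
theorem L492929 : N8733 = N1771 := eqes L492928 L21747
theorem L492930 : N8733 = N1771 := eqc rfl L492929 rfl
theorem L492948 : sm gg N1771 = N6017 := trfs L492930 L74674 rfl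
theorem L492949 : N6017 = N1229 := eqes L492948 (flp_g L15504)
theorem L492950 : N6017 = N1229 := eqc rfl L492949 rfl
theorem L492963 : sm gh N1229 = N8671 := trfs L492950 (flp_h L74184) rfl
theorem L492964 : N8671 = N1772 := eqes L492963 L15510
theorem L492965 : N8671 = N1772 := eqc rfl L492964 rfl
theorem L492989 : sm gi N1772 = N5974 := trfs L492965 (flp_i L74175) rfl
theorem L492990 : N5974 = N2558 := eqes L492989 L22271
theorem L492991 : N5974 = N2558 := eqc rfl L492990 rfl
theorem L492998 : sm gd N2558 = N8670 := trfs L492991 L74166 rfl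
theorem L492999 : N8670 = N1824 := eqes L492998 L22275
theorem L493000 : N8670 = N1824 := eqc rfl L492999 rfl
theorem L493014 : sm gg N1824 = N12597 := trfs L493000 (flp_g L107401) rfl
theorem L493015 : N12597 = N2626 := eqes L493014 (flp_g L22889)
theorem L493016 : N12597 = N2626 := eqc rfl L493015 rfl
theorem L493020 : sm ga N2626 = N1942 := trfs L493016 L107399 L445420
theorem L493021 : N1942 = N2072 := eqes L493020 L22885
theorem L493022 : N2072 = N1942 := (eqc rfl L493021 rfl).symm
theorem L493035 : sm gi N2626 = N18341 := trfs L493016 L155891 rfl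
theorem L493036 : N18341 = N1823 := eqes L493035 (flp_i L22883)
theorem L493037 : N18341 = N1823 := eqc rfl L493036 rfl
theorem L493054 : sm gh N1823 = N26719 := trfs L493037 L226470 rfl
theorem L493055 : N26719 = N1266 := eqes L493054 (flp_h L15966)
theorem L493056 : N26719 = N1266 := eqc rfl L493055 rfl
theorem L493064 : sm gf N1266 = N38509 := trfs L493056 (flp_f L325843) rfl
theorem L493065 : N38509 = N1808 := eqes L493064 (flp_f L15842)
theorem L493066 : N38509 = N1808 := eqc rfl L493065 rfl
theorem L493092 : sm gg N1808 = N26406 := trfs L493066 L325845 rfl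
theorem L493093 : N26406 = N1256 := eqes L493092 (flp_g L15834)
theorem L493094 : N26406 = N1256 := eqc rfl L493093 rfl
theorem L493110 : sm gh N1256 = N18128 := trfs L493094 (flp_h L224036) rfl
theorem L493111 : N18128 = N1809 := eqes L493110 L15844
theorem L493112 : N18128 = N1809 := eqc rfl L493111 rfl
theorem L493129 : sm gi N1809 = N12454 := trfs L493112 (flp_i L154231) rfl
theorem L493130 : N12454 = N2610 := eqes L493129 L22745
theorem L493131 : N12454 = N2610 := eqc rfl L493130 rfl
theorem L493145 : sm gj N2610 = N17981 := trfs L493131 (flp_j L152975) rfl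
theorem L493146 : N17981 = N3744 := eqes L493145 (flp_j L32457)
theorem L493147 : N17981 = N3744 := eqc rfl L493146 rfl
theorem L493159 : sm gf N3744 = N12358 := trfs L493147 L152973 rfl
theorem L493160 : N12358 = N2593 := eqes L493159 L32455
theorem L493161 : N12358 = N2593 := eqc rfl L493160 rfl
theorem L493162 : sm gg N3744 = N26183 := trfs L493147 (flp_g L222153) rfl
theorem L493163 : N26183 = N5416 := eqes L493162 (flp_g L46729)
theorem L493164 : N26183 = N5416 := eqc rfl L493163 rfl
theorem L493169 : sm gb N5416 = N38156 := trfs L493164 (flp_b L322850) rfl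
theorem L493289 : sm ge N2593 = N17983 := trfs L493161 L152991 rfl
theorem L493290 : N17983 = N1835 := eqes L493289 L22597
theorem L493291 : N17983 = N1835 := eqc rfl L493290 rfl
theorem L493307 : sm gj N1835 = N12456 := trfs L493291 L152997 rfl
theorem L493308 : N12456 = N1285 := eqes L493307 L16087
theorem L493309 : N12456 = N1285 := eqc rfl L493308 rfl
theorem L493325 : sm gi N1285 = N18130 := trfs L493309 L154247 rfl
theorem L493326 : N18130 = N894 := eqes L493325 (flp_i L11316)
theorem L493327 : N18130 = N894 := eqc rfl L493326 rfl
theorem L493338 : sm gh N894 = N26409 := trfs L493327 L224063 rfl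
theorem L493339 : N26409 = N618 := eqes L493338 (flp_h L7913)
theorem L493340 : N26409 = N618 := eqc rfl L493339 rfl
theorem L493351 : sm gg N618 = N18347 := trfs L493340 L224070 rfl
theorem L493352 : N18347 = N428 := eqes L493351 L5480
theorem L493353 : N18347 = N428 := eqc rfl L493352 rfl
theorem L493367 : sm gd N428 = N26726 := trfs L493353 L226532 rfl
theorem L493368 : N26726 = N291 := eqes L493367 (flp_d L3803)
theorem L493369 : N26726 = N291 := eqc rfl L493368 rfl
theorem L493379 : sm gc N291 = N38984 := trfs L493369 L329540 rfl
theorem L493380 : N38984 = N199 := eqes L493379 L2595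
theorem L493381 : N38984 = N199 := eqc rfl L493380 rfl
theorem L493392 : sm ge N199 = N26916 := trfs L493381 L329544 rfl
theorem L493393 : N26916 = N136 := eqes L493392 (flp_e L1786)
theorem L493394 : N26916 = N136 := eqc rfl L493393 rfl
theorem L493407 : sm gg N136 = N38738 := trfs L493394 (flp_g L327619) rfl
theorem L493408 : N38738 = N197 := eqes L493407 (flp_g L1773)
theorem L493409 : N38738 = N197 := eqc rfl L493408 rfl
theorem L493415 : sm gd N197 = N27390 := trfs L493409 L327623 rfl
theorem L493416 : N27390 = N135 := eqes L493415 (flp_d L1767)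
theorem L493417 : N27390 = N135 := eqc rfl L493416 rfl
theorem L493431 : sm gh N135 = N19126 := trfs L493417 L232067 rfl
theorem L493432 : N19126 = N92 := eqes L493431 (flp_h L1217)
theorem L493433 : N19126 = N92 := eqc rfl L493432 rfl
theorem L493451 : sm gi N92 = N13394 := trfs L493433 L162424 rfl
theorem L493452 : N13394 = N62 := eqes L493451 (flp_i L836)
theorem L493453 : N13394 = N62 := eqc rfl L493452 rfl
theorem L493469 : sm gj N62 = N19280 := trfs L493453 (flp_j L163737) rfl
theorem L493470 : N19280 = N91 := eqes L493469 L826
theorem L493471 : N19280 = N91 := eqc rfl L493470 rfl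
theorem L493478 : sm gf N91 = N28041 := trfs L493471 (flp_f L237541) rfl
theorem L493479 : N28041 = N91 := eqes L493478 L833
theorem L493480 : N28041 = N91 := eqc rfl L493479 rfl
theorem L493498 : sm gi N91 = N40269 := trfs L493480 (flp_i L340280) rfl
theorem L493499 : N40269 = N134 := eqes L493498 L1206
theorem L493500 : N40269 = N134 := eqc rfl L493499 rfl
theorem L493501 : sm ga N134 = N27711 := trfs L493500 L340274 rfl
theorem L493502 : N27711 = N106 := eqes L493501 L1208
theorem L493503 : N27711 = N106 := eqc rfl L493502 rfl
theorem L493521 : sm gh N106 = N39735 := trfs L493503 (flp_h L335792) rfl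
theorem L493522 : N39735 = N154 := eqes L493521 L1376
theorem L493523 : N39735 = N154 := eqc rfl L493522 rfl
theorem L493527 : sm gj N154 = N27460 := trfs L493523 L335790 rfl
theorem L493528 : N27460 = N107 := eqes L493527 L1383
theorem L493529 : N27460 = N107 := eqc rfl L493528 rfl
theorem L493543 : sm gg N107 = N40016 := trfs L493529 (flp_g L338079) rfl
theorem L493544 : N40016 = N74 := eqes L493543 L970
theorem L493545 : N40016 = N74 := eqc rfl L493544 rfl
theorem L493550 : sm gh N74 = N27862 := trfs L493545 L338081 rfl
theorem L493551 : N27862 = N50 := eqes L493550 (flp_h L668)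
theorem L493552 : N27862 = N50 := eqc rfl L493551 rfl
theorem L493568 : sm gi N50 = N19502 := trfs L493552 L235960 rfl
theorem L493569 : N19502 = N33 := eqes L493568 (flp_i L452)
theorem L493570 : N19502 = N33 := eqc rfl L493569 rfl
theorem L493583 : sm gg N33 = N13427 := trfs L493570 L165564 rfl
theorem L493584 : N13427 = N49 := eqes L493583 L444
theorem L493585 : N13427 = N49 := eqc rfl L493584 rfl
theorem L493596 : sm ge N49 = N19505 := trfs L493585 L165581 rfl
theorem L493597 : N19505 = N49 := eqes L493596 L449
theorem L493598 : N19505 = N49 := eqc rfl L493597 rfl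
theorem L493621 : sm gi N49 = N27865 := trfs L493598 (flp_i L235982) rfl
theorem L493622 : N27865 = N73 := eqes L493621 L659
theorem L493623 : N27865 = N73 := eqc rfl L493622 rfl
theorem L493630 : sm gc N73 = N19160 := trfs L493623 L235980 rfl
theorem L493631 : N19160 = N102 := eqes L493630 (flp_c L924)
theorem L493632 : N19160 = N102 := eqc rfl L493631 rfl
theorem L493656 : sm gj N102 = N27712 := trfs L493632 (flp_j L234760) rfl
theorem L493657 : N27712 = N148 := eqes L493656 (flp_j L1334)
theorem L493658 : N27712 = N148 := eqc rfl L493657 rfl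
theorem L493702 : sm gi N148 = N19352 := trfs L493658 L234762 rfl
theorem L493703 : N19352 = N101 := eqes L493702 (flp_i L1326)
theorem L493704 : N19352 = N101 := eqc rfl L493703 rfl
theorem L493710 : sm gd N101 = N28138 := trfs L493704 (flp_d L238363) rfl
theorem L493711 : N28138 = N141 := eqes L493710 (flp_d L1274)
theorem L493712 : N28138 = N141 := eqc rfl L493711 rfl
theorem L493731 : sm gh N141 = N40976 := trfs L493712 (flp_h L346245) rfl
theorem L493732 : N40976 = N208 := eqes L493731 L1859
theorem L493733 : N40976 = N208 := eqc rfl L493732 rfl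
theorem L493739 : sm gj N208 = N28344 := trfs L493733 L346243 rfl
theorem L493740 : N28344 = N142 := eqes L493739 L1865
theorem L493741 : N28344 = N142 := eqc rfl L493740 rfl
theorem L493746 : sm gc N142 = N41278 := trfs L493741 (flp_c L348650) rfl
theorem L493747 : N41278 = N142 := eqes L493746 L1281
theorem L493748 : N41278 = N142 := eqc rfl L493747 rfl
theorem L493771 : sm gh N142 = N28350 := trfs L493748 L348652 rfl
theorem L493772 : N28350 = N96 := eqes L493771 (flp_h L1278)
theorem L493773 : N28350 = N96 := eqc rfl L493772 rfl
theorem L493784 : sm ge N96 = N19498 := trfs L493773 (flp_e L240063) rfl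
theorem L493785 : N19498 = N138 := eqes L493784 (flp_e L1251)
theorem L493786 : N19498 = N138 := eqc rfl L493785 rfl
theorem L493812 : sm gj N138 = N28137 := trfs L493786 (flp_j L238355) rfl
theorem L493813 : N28137 = N202 := eqes L493812 L1811
theorem L493814 : N28137 = N202 := eqc rfl L493813 rfl
theorem L493818 : sm gb N202 = N40986 := trfs L493814 L346313 rfl
theorem L493819 : N40986 = N202 := eqes L493818 L1813
theorem L493820 : N40986 = N202 := eqc rfl L493819 rfl
theorem L493841 : sm gf N202 = N28139 := trfs L493820 L346316 rfl
theorem L493842 : N28139 = N293 := eqes L493841 (flp_f L2617)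
theorem L493843 : N28139 = N293 := eqc rfl L493842 rfl
theorem L493861 : sm gi N293 = N40367 := trfs L493843 (flp_i L341093) rfl
theorem L493862 : N40367 = N431 := eqes L493861 L3828
theorem L493863 : N40367 = N431 := eqc rfl L493862 rfl
theorem L493868 : sm gj N431 = N27860 := trfs L493863 L341091 rfl
theorem L493869 : N27860 = N295 := eqes L493868 L3836
theorem L493870 : N27860 = N295 := eqc rfl L493869 rfl
theorem L493871 : sm ga N295 = N40579 := trfs L493870 L342765 rfl
theorem L493872 : N40579 = N388 := eqes L493871 (flp_a L3437)
theorem L493873 : N40579 = N388 := eqc rfl L493872 rfl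
theorem L493898 : sm gi N388 = N28351 := trfs L493873 L342771 rfl
theorem L493899 : N28351 = N263 := eqes L493898 (flp_i L3435)
theorem L493900 : N28351 = N263 := eqc rfl L493899 rfl
theorem L493913 : sm gh N263 = N41279 := trfs L493900 (flp_h L348660) rfl
theorem L493914 : N41279 = N387 := eqes L493913 L3426
theorem L493915 : N41279 = N387 := eqc rfl L493914 rfl
theorem L493916 : sm ga N387 = N28345 := trfs L493915 (flp_a L348655) rfl
theorem L493917 : N28345 = N294 := eqes L493916 L3428
theorem L493918 : N28345 = N294 := eqc rfl L493917 rfl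
theorem L493924 : sm gd N294 = N41270 := trfs L493918 (flp_d L348595) rfl
theorem L493925 : N41270 = N432 := eqes L493924 L3838
theorem L493926 : N41270 = N432 := eqc rfl L493925 rfl
theorem L493944 : sm gb N432 = N28338 := trfs L493926 (flp_b L348593) rfl
theorem L493945 : N28338 = N432 := eqes L493944 L3840
theorem L493946 : N28338 = N432 := eqc rfl L493945 rfl
theorem L493967 : sm gi N432 = N41245 := trfs L493946 (flp_i L348411) rfl
theorem L493968 : N41245 = N630 := eqes L493967 L5579
theorem L493969 : N41245 = N630 := eqc rfl L493968 rfl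
theorem L493970 : sm gc N630 = N28319 := trfs L493969 (flp_c L348408) rfl
theorem L493971 : N28319 = N909 := eqes L493970 (flp_c L8041)
theorem L493972 : N28319 = N909 := eqc rfl L493971 rfl
theorem L493988 : sm gj N909 = N40918 := trfs L493972 (flp_j L345766) rfl
theorem L493989 : N40918 = N1297 := eqes L493988 (flp_j L11426)
theorem L493990 : N40918 = N1297 := eqc rfl L493989 rfl
theorem L493996 : sm gi N1297 = N28125 := trfs L493990 L345768 rfl
theorem L493997 : N28125 = N902 := eqes L493996 (flp_i L11419)
theorem L493998 : N28125 = N902 := eqc rfl L493997 rfl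
theorem L494007 : sm ge N902 = N40971 := trfs L493998 L346202 rfl
theorem L494008 : N40971 = N1296 := eqes L494007 L11411
theorem L494009 : N40971 = N1296 := eqc rfl L494008 rfl
theorem L494017 : sm gj N1296 = N28339 := trfs L494009 L346204 rfl
theorem L494018 : N28339 = N908 := eqes L494017 L11415
theorem L494019 : N28339 = N908 := eqc rfl L494018 rfl
theorem L494032 : sm gf N908 = N41272 := trfs L494019 L348606 rfl
theorem L494033 : N41272 = N908 := eqes L494032 L8038
theorem L494034 : N41272 = N908 := eqc rfl L494033 rfl
theorem L494038 : sm gd N908 = N28340 := trfs L494034 L348608 rfl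
theorem L494039 : N28340 = N1305 := eqes L494038 L11488
theorem L494040 : N28340 = N1305 := eqc rfl L494039 rfl
theorem L494060 : sm gi N1305 = N41247 := trfs L494040 (flp_i L348426) rfl
theorem L494061 : N41247 = N1876 := eqes L494060 L16434
theorem L494062 : N41247 = N1876 := eqc rfl L494061 rfl
theorem L494065 : sm gf N1876 = N28320 := trfs L494062 (flp_f L348422) rfl
theorem L494066 : N28320 = N1876 := eqes L494065 L16440
theorem L494067 : N28320 = N1876 := eqc rfl L494066 rfl
theorem L494079 : sm gj N1876 = N40919 := trfs L494067 (flp_j L345773) rfl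
theorem L494080 : N40919 = N2678 := eqes L494079 (flp_j L23353)
theorem L494081 : N40919 = N2678 := eqc rfl L494080 rfl
theorem L494085 : sm ge N2678 = N28087 := trfs L494081 (flp_e L345770) rfl
theorem L494086 : N28087 = N2678 := eqes L494085 L23351
theorem L494087 : N28087 = N2678 := eqc rfl L494086 rfl
theorem L494093 : sm gb N2678 = N40910 := trfs L494087 (flp_b L345703) rfl
theorem L494094 : N40910 = N3857 := eqes L494093 (flp_b L33448)
theorem L494095 : N40910 = N3857 := eqc rfl L494094 rfl
theorem L494104 : sm gi N2678 = N19336 := trfs L494087 L237947 rfl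
theorem L494105 : N19336 = N1862 := eqes L494104 (flp_i L23346)
theorem L494106 : N19336 = N1862 := eqc rfl L494105 rfl
theorem L494121 : sm gh N1862 = N13329 := trfs L494106 L164218 rfl
theorem L494122 : N13329 = N2677 := eqes L494121 L23338
theorem L494123 : N13329 = N2677 := eqc rfl L494122 rfl
theorem L494137 : sm gj N2677 = N9268 := trfs L494123 L113515 rfl
theorem L494138 : N9268 = N1875 := eqes L494137 L23343
theorem L494139 : N9268 = N1875 := eqc rfl L494138 rfl
theorem L494147 : sm ge N1875 = N13432 := trfs L494139 L114339 rfl
theorem L494148 : N13432 = N1875 := eqes L494147 L16430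
theorem L494149 : N13432 = N1875 := eqc rfl L494148 rfl
theorem L494157 : sm gb N1875 = N19509 := trfs L494149 (flp_b L165612) rfl
theorem L494158 : N19509 = N2693 := eqes L494157 (flp_b L23476)
theorem L494159 : N19509 = N2693 := eqc rfl L494158 rfl
theorem L494182 : sm gh N2693 = N28334 := trfs L494159 (flp_h L239961) rfl
theorem L494183 : N28334 = N1872 := eqes L494182 (flp_h L23473)
theorem L494184 : N28334 = N1872 := eqc rfl L494183 rfl
theorem L494194 : sm ge N1872 = N19486 := trfs L494184 (flp_e L239956) rfl
theorem L494195 : N19486 = N1872 := eqes L494194 L16406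
theorem L494196 : N19486 = N1872 := eqc rfl L494195 rfl
theorem L494218 : sm gi N1872 = N28311 := trfs L494196 (flp_i L239792) rfl
theorem L494219 : N28311 = N2694 := eqes L494218 L23482
theorem L494220 : N28311 = N2694 := eqc rfl L494219 rfl
theorem L494221 : sm ga N2694 = N41223 := trfs L494220 (flp_a L348246) rfl
theorem L494222 : N41223 = N2694 := eqes L494221 L23484
theorem L494223 : N41223 = N2694 := eqc rfl L494222 rfl
theorem L494242 : sm gd N2694 = N28304 := trfs L494223 (flp_d L348244) rfl
theorem L494243 : N28304 = N1873 := eqes L494242 L23487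
theorem L494244 : N28304 = N1041 := eqc rfl L494243 L487889
theorem L494259 : sm gj N1041 = N40903 := trfs L494244 (flp_j L345643) rfl
theorem L494260 : N40903 = N1478 := eqes L494259 (flp_j L12893)
theorem L494261 : N40903 = N1478 := eqc rfl L494260 rfl
theorem L494265 : sm gi N1041 = N19482 := trfs L494244 L239736 rfl
theorem L494266 : N19482 = N1494 := eqes L494265 L13022
theorem L494267 : N19482 = N1303 := eqc rfl L494266 L487873
theorem L494282 : sm gh N1303 = N13409 := trfs L494267 (flp_h L165418) rfl
theorem L494283 : N13409 = N1303 := eqes L494282 L11476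
theorem L494284 : N13409 = N1303 := eqc rfl L494283 rfl
theorem L494301 : sm gi N1303 = N9249 := trfs L494284 (flp_i L114169) rfl
theorem L494302 : N9249 = N1873 := eqes L494301 L16407
theorem L494303 : N9249 = N1041 := eqc rfl L494302 L487889
theorem L494322 : sm gh N1041 = N13398 := trfs L494303 (flp_h L114096) rfl
theorem L494323 : N13398 = N721 := eqes L494322 (flp_h L9105)
theorem L494324 : N13398 = N721 := eqc rfl L494323 rfl
theorem L494337 : sm gj N721 = N19303 := trfs L494324 (flp_j L163945) rfl
theorem L494338 : N19303 = N1029 := eqes L494337 (flp_j L9006)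
theorem L494339 : N19303 = N1029 := eqc rfl L494338 rfl
theorem L494357 : sm gi N1029 = N28077 := trfs L494339 L237856 rfl
theorem L494358 : N28077 = N1029 := eqes L494357 L9008
theorem L494359 : N28077 = N1029 := eqc rfl L494358 rfl
theorem L494372 : sm gg N1029 = N40885 := trfs L494359 (flp_g L345489) rfl
theorem L494373 : N40885 = N1477 := eqes L494372 L12877
theorem L494374 : N40885 = N1477 := eqc rfl L494373 rfl
theorem L494377 : sm ga N1477 = N28068 := trfs L494374 L345485 rfl
theorem L494378 : N28068 = N1477 := eqes L494377 L12879
theorem L494379 : N28068 = N1477 := eqc rfl L494378 rfl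
theorem L494384 : sm gb N1477 = N3841 := trfs L494379 L237785 L463533
theorem L494385 : N3841 = N2118 := eqes L494384 (flp_b L18386)
theorem L494386 : N3841 = N2118 := eqc rfl L494385 rfl
theorem L494400 : sm gi N1477 = N19297 := trfs L494379 (flp_i L237783) rfl
theorem L494401 : N19297 = N1477 := eqes L494400 L12884
theorem L494402 : N19297 = N1477 := eqc rfl L494401 rfl
theorem L494416 : sm gh N1477 = N13293 := trfs L494402 L163897 rfl
theorem L494417 : N13293 = N2123 := eqes L494416 L18430
theorem L494418 : N13293 = N2123 := eqc rfl L494417 rfl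
theorem L494422 : sm gb N2123 = N2664 := trfs L494418 (flp_b L113208) L463844
theorem L494423 : N2664 = N3047 := eqes L494422 (flp_b L26348)
theorem L494424 : N3047 = N2664 := (eqc rfl L494423 rfl).symm
theorem L494429 : sm ge N2123 = N2661 := trfs L494418 L164078 L463839
theorem L494430 : N2661 = N1479 := eqes L494429 L18434
theorem L494431 : N2661 = N1479 := eqc rfl L494430 rfl
theorem L494439 : sm gi N2123 = N19321 := trfs L494418 L164087 rfl
theorem L494440 : N19321 = N3053 := eqes L494439 L26401
theorem L494441 : N19321 = N3053 := eqc rfl L494440 rfl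
theorem L494442 : sm ga N3053 = N28103 := trfs L494441 (flp_a L238074) rfl
theorem L494443 : N28103 = N3053 := eqes L494442 L26403
theorem L494444 : N28103 = N3053 := eqc rfl L494443 rfl
theorem L494461 : sm gh N3053 = N28106 := trfs L494441 L238100 rfl
theorem L494462 : N28106 = N3053 := eqes L494461 L26410
theorem L494463 : N28106 = N3053 := eqc rfl L494462 rfl
theorem L494478 : sm gg N3053 = N19332 := trfs L494463 L238105 rfl
theorem L494479 : N19332 = N2125 := eqes L494478 L26407
theorem L494480 : N19332 = N1860 := eqc rfl L494479 L487854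
theorem L494493 : sm gi N1860 = N28081 := trfs L494480 (flp_i L237900) rfl
theorem L494494 : N28081 = N2675 := eqes L494493 L23316
theorem L494495 : N28081 = N2675 := eqc rfl L494494 rfl
theorem L494496 : sm ga N2675 = N1478 := trfs L494495 (flp_a L345639) L494261
theorem L494497 : N1478 = N2675 := eqes L494496 L23318
theorem L494498 : N2675 = N1478 := (eqc rfl L494497 rfl).symm
theorem L494499 : N28081 = N1478 := L494495.trans L494498
theorem L494503 : sm gd N1478 = N3857 := trfs L494499 L345701 L494095
theorem L494504 : N3857 = N2124 := eqes L494503 L18439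
theorem L494505 : N3857 = N2124 := eqc rfl L494504 rfl
theorem L494506 : sm ge N1478 = N40909 := trfs L494499 (flp_e L345695) rfl
theorem L494507 : N40909 = N1031 := eqes L494506 L12890
theorem L494508 : N40909 = N1031 := eqc rfl L494507 rfl
theorem L494520 : sm gh N1031 = N28080 := trfs L494508 (flp_h L345690) rfl
theorem L494521 : N28080 = N713 := eqes L494520 (flp_h L9020)
theorem L494522 : N28080 = N713 := eqc rfl L494521 rfl
theorem L494540 : sm gi N713 = N19304 := trfs L494522 (flp_i L237883) rfl
theorem L494541 : N19304 = N713 := eqes L494540 L6261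
theorem L494542 : N19304 = N713 := eqc rfl L494541 rfl
theorem L494554 : sm gj N713 = N13399 := trfs L494542 L163954 rfl
theorem L494555 : N13399 = N498 := eqes L494554 L6259
theorem L494556 : N13399 = N498 := eqc rfl L494555 rfl
theorem L494567 : sm gf N498 = N19467 := trfs L494556 L165305 rfl
theorem L494568 : N19467 = N341 := eqes L494567 (flp_f L4375)
theorem L494569 : N19467 = N341 := eqc rfl L494568 rfl
theorem L494590 : sm gi N341 = N28309 := trfs L494569 L239768 rfl
theorem L494591 : N28309 = N341 := eqes L494590 L3011
theorem L494592 : N28309 = N341 := eqc rfl L494591 rfl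
theorem L494607 : sm gh N341 = N41232 := trfs L494592 L348314 rfl
theorem L494608 : N41232 = N499 := eqes L494607 L4383
theorem L494609 : N41232 = N499 := eqc rfl L494608 rfl
theorem L494616 : sm gi N499 = N28331 := trfs L494609 L348322 rfl
theorem L494617 : N28331 = N723 := eqes L494616 L6338
theorem L494618 : N28331 = N637 := eqc rfl L494617 L487876
theorem L494635 : sm gh N637 = N19484 := trfs L494618 (flp_h L239934) rfl
theorem L494636 : N19484 = N637 := eqes L494635 L5645
theorem L494637 : N19484 = N637 := eqc rfl L494636 rfl
theorem L494646 : sm gg N637 = N28330 := trfs L494637 (flp_g L239932) rfl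
theorem L494647 : N28330 = N442 := eqes L494646 L5643
theorem L494648 : N28330 = N442 := eqc rfl L494647 rfl
theorem L494664 : sm gi N442 = N19483 := trfs L494648 (flp_i L239924) rfl
theorem L494665 : N19483 = N643 := eqes L494664 L5684
theorem L494666 : N19483 = N643 := eqc rfl L494665 rfl
theorem L494677 : sm gj N643 = N28329 := trfs L494666 L239916 rfl
theorem L494678 : N28329 = N643 := eqes L494677 L5693
theorem L494679 : N28329 = N643 := eqc rfl L494678 rfl
theorem L494690 : sm gg N643 = N40961 := trfs L494679 (flp_g L346126) rfl
theorem L494691 : N40961 = N921 := eqes L494690 (flp_g L8142)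
theorem L494692 : N40961 = N499 := eqc rfl L494691 L487892
theorem L494693 : sm gh N643 = N41230 := trfs L494679 (flp_h L348303) rfl
theorem L494694 : N41230 = N929 := eqes L494693 L8196
theorem L494695 : N41230 = N238 := eqc rfl L494694 L487926
theorem L494697 : sm gb N238 = N644 := trfs L494695 L348298 L463294
theorem L494698 : N644 = N344 := eqes L494697 (flp_b L3034)
theorem L494699 : N644 = N344 := eqc rfl L494698 rfl
theorem L494713 : sm gh N344 = N443 := trfs L494699 (flp_h L5694) rfl
theorem L494714 : N443 = N502 := eqes L494713 L4407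
theorem L494715 : N502 = N443 := (eqc rfl L494714 rfl).symm
theorem L494718 : sm gb N443 = N345 := trfs L494715 L4409 rfl
theorem L494719 : N345 = N643 := eqes L494718 (flp_b L5687)
theorem L494720 : N643 = N345 := (eqc rfl L494719 rfl).symm
theorem L494727 : sm gh N443 = N344 := trfs L494715 (flp_h L4407) rfl
theorem L494754 : sm gb N345 = N443 := trfs L494720 L5687 rfl
theorem L494763 : sm gi N345 = N442 := trfs L494720 (flp_i L5684) rfl
theorem L494770 : sm gj N499 = N28118 := trfs L494692 (flp_j L346119) rfl
theorem L494771 : N28118 = N714 := eqes L494770 (flp_j L6268)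
theorem L494772 : N28118 = N714 := eqc rfl L494771 rfl
theorem L494783 : sm gg N714 = N19330 := trfs L494772 (flp_g L238199) rfl
theorem L494784 : N19330 = N714 := eqes L494783 L6267
theorem L494785 : N19330 = N714 := eqc rfl L494784 rfl
theorem L494796 : sm ga N714 = N28115 := trfs L494785 (flp_a L238174) rfl
theorem L494797 : N28115 = N714 := eqes L494796 L6264
theorem L494798 : N28115 = N714 := eqc rfl L494797 rfl
theorem L494825 : sm gi N714 = N40958 := trfs L494798 L346090 rfl
theorem L494826 : N40958 = N1032 := eqes L494825 L9029
theorem L494827 : N40958 = N915 := eqc rfl L494826 L487857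
theorem L494832 : sm gf N915 = N28116 := trfs L494827 L346097 rfl
theorem L494833 : N28116 = N1295 := eqes L494832 (flp_f L11404)
theorem L494834 : N28116 = N1295 := eqc rfl L494833 rfl
theorem L494845 : sm gg N1295 = N40942 := trfs L494834 (flp_g L345965) rfl
theorem L494846 : N40942 = N1851 := eqes L494845 (flp_g L16219)
theorem L494847 : N40942 = N1851 := eqc rfl L494846 rfl
theorem L494861 : sm ge N1851 = N3053 := trfs L494847 L345963 L494444
theorem L494862 : N3053 = N2660 := eqes L494861 L23183
theorem L494863 : N3053 = N2660 := eqc rfl L494862 rfl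
theorem L494865 : sm gi N1851 = N28102 := trfs L494847 (flp_i L345957) rfl
theorem L494866 : N28102 = N2661 := eqes L494865 L23193
theorem L494867 : N28102 = N1479 := eqc rfl L494866 L494431
theorem L494876 : sm gf N1479 = N40941 := trfs L494867 L345950 rfl
theorem L494877 : N40941 = N1479 := eqes L494876 L12899
theorem L494878 : N40941 = N1479 := eqc rfl L494877 rfl
theorem L494889 : sm ga N1479 = N28104 := trfs L494878 L345952 rfl
theorem L494890 : N28104 = N1479 := eqes L494889 L12897
theorem L494891 : N28104 = N1479 := eqc rfl L494890 rfl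
theorem L494899 : sm ge N1479 = N40927 := trfs L494891 (flp_e L345842) rfl
theorem L494900 : N40927 = N2123 := eqes L494899 (flp_e L18434)
theorem L494901 : N40927 = N2123 := eqc rfl L494900 rfl
theorem L494918 : sm gf N2123 = N28093 := trfs L494901 (flp_f L345836) rfl
theorem L494919 : N28093 = N3051 := eqes L494918 (flp_f L26389)
theorem L494920 : N28093 = N3051 := eqc rfl L494919 rfl
theorem L494925 : sm gb N3051 = N3840 := trfs L494920 L237994 L467407
theorem L494926 : N3840 = N4394 := eqes L494925 (flp_b L37832)
theorem L494927 : N4394 = N3840 := (eqc rfl L494926 rfl).symm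
theorem L494938 : sm gi N3051 = N40928 := trfs L494920 L345844 rfl
theorem L494939 : N40928 = N4400 := eqes L494938 L37883
theorem L494940 : N40928 = N4400 := eqc rfl L494939 rfl
theorem L494941 : sm gb N4400 = N2663 := trfs L494940 L345846 L467392
theorem L494942 : N2663 = N6345 := eqes L494941 (flp_b L54412)
theorem L494943 : N6345 = N2663 := (eqc rfl L494942 rfl).symm
theorem L494951 : sm gb N2663 = N4400 := trfs L494943 L54412 rfl
theorem L494952 : N4400 = N3834 := eqes L494951 (flp_b L33244)
theorem L494953 : N4400 = N3834 := eqc rfl L494952 rfl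
theorem L494957 : sm gd N2663 = N9188 := trfs L494943 (flp_d L78496) rfl
theorem L494958 : N9188 = N3837 := eqes L494957 (flp_d L33276)
theorem L494959 : N9188 = N3837 := eqc rfl L494958 rfl
theorem L494967 : sm gb N3837 = N6353 := trfs L494959 L78494 rfl
theorem L494968 : N6353 = N5535 := eqes L494967 (flp_b L47750)
theorem L494969 : N6353 = N5535 := eqc rfl L494968 rfl
theorem L494980 : sm gi N3837 = N6344 := trfs L494959 (flp_i L78492) rfl
theorem L494981 : N6344 = N5543 := eqes L494980 L47826
theorem L494982 : N6344 = N5543 := eqc rfl L494981 rfl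
theorem L494984 : sm gb N5543 = N4399 := trfs L494982 L54403 rfl
theorem L494985 : N4399 = N8011 := eqes L494984 (flp_b L68812)
theorem L494986 : N8011 = N4399 := (eqc rfl L494985 rfl).symm
theorem L494989 : sm ge N5543 = N9187 := trfs L494982 L78483 rfl
theorem L494990 : N9187 = N8019 := eqes L494989 (flp_e L68892)
theorem L494991 : N9187 = N8019 := eqc rfl L494990 rfl
theorem L494999 : sm gb N8019 = N6352 := trfs L494991 L78485 rfl
theorem L495000 : N6352 = N11611 := eqes L494999 (flp_b L99327)
theorem L495001 : N11611 = N6352 := (eqc rfl L495000 rfl).symm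
theorem L495002 : sm gc N8019 = N13320 := trfs L494991 (flp_c L113429) rfl
theorem L495003 : N13320 = N8019 := eqes L495002 L68890
theorem L495004 : N13320 = N8019 := eqc rfl L495003 rfl
theorem L495023 : sm gi N8019 = N19358 := trfs L495004 L164390 rfl
theorem L495024 : N19358 = N5541 := eqes L495023 (flp_i L68888)
theorem L495025 : N19358 = N5541 := eqc rfl L495024 rfl
theorem L495038 : sm gh N5541 = N28153 := trfs L495025 L238485 rfl
theorem L495039 : N28153 = N8018 := eqes L495038 L68880
theorem L495040 : N28153 = N8018 := eqc rfl L495039 rfl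
theorem L495045 : sm gc N8018 = N19360 := trfs L495040 L238487 rfl
theorem L495046 : N19360 = N8018 := eqes L495045 L68882
theorem L495047 : N19360 = N8018 := eqc rfl L495046 rfl
theorem L495066 : sm gd N8018 = N28155 := trfs L495047 L238503 rfl
theorem L495067 : N28155 = N11622 := eqes L495066 L99434
theorem L495068 : N28155 = N11622 := eqc rfl L495067 rfl
theorem L495078 : sm gb N11622 = N19376 := trfs L495068 L238505 rfl
theorem L495079 : N19376 = N16860 := eqes L495078 (flp_b L143731)
theorem L495080 : N19376 = N16860 := eqc rfl L495079 rfl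
theorem L495097 : sm gc N16860 = N28175 := trfs L495080 L238680 rfl
theorem L495098 : N28175 = N16860 := eqes L495097 L143736
theorem L495099 : N28175 = N16860 := eqc rfl L495098 rfl
theorem L495111 : sm gd N16860 = N41033 := trfs L495099 (flp_d L346714) rfl
theorem L495112 : N41033 = N11610 := eqes L495111 (flp_d L143728)
theorem L495113 : N41033 = N11610 := eqc rfl L495112 rfl
theorem L495121 : sm gc N11610 = N28173 := trfs L495113 (flp_c L346707) rfl
theorem L495122 : N28173 = N16851 := eqes L495121 (flp_c L143637)
theorem L495123 : N28173 = N16851 := eqc rfl L495122 rfl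
theorem L495141 : sm gh N16851 = N41032 := trfs L495123 (flp_h L346705) rfl
theorem L495142 : N41032 = N11604 := eqes L495141 (flp_h L143633)
theorem L495143 : N41032 = N11604 := eqc rfl L495142 rfl
theorem L495146 : sm gd N11604 = N28172 := trfs L495143 (flp_d L346699) rfl
theorem L495147 : N28172 = N16850 := eqes L495146 L143623
theorem L495148 : N28172 = N16850 := eqc rfl L495147 rfl
theorem L495161 : sm gh N16850 = N19373 := trfs L495148 (flp_h L238657) rfl
theorem L495162 : N19373 = N16850 := eqes L495161 L143632
theorem L495163 : N19373 = N16850 := eqc rfl L495162 rfl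
theorem L495164 : sm gi N16850 = N41031 := trfs L495148 (flp_i L346697) rfl
theorem L495165 : N41031 = N24505 := eqes L495164 L208225
theorem L495166 : N41031 = N24505 := eqc rfl L495165 rfl
theorem L495173 : sm gh N24505 = N28171 := trfs L495166 (flp_h L346689) rfl
theorem L495174 : N28171 = N35680 := eqes L495173 L302311
theorem L495175 : N35680 = N28171 := (eqc rfl L495174 rfl).symm
theorem L495177 : sm gb N28171 = N28171 := trfs L495175 L302314 L495175
theorem L495178 : N28171 = N41026 := eqes L495177 (flp_b L346649)
theorem L495179 : N41026 = N28171 := (eqc rfl L495178 rfl).symm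
theorem L495185 : sm gh N28171 = N24505 := trfs L495175 (flp_h L302311) rfl
theorem L495187 : sm gi N28171 = N28171 := trfs L495175 L302320 L495175
theorem L495188 : N28171 = N19372 := eqes L495187 (flp_i L238648)
theorem L495189 : N28171 = N19372 := eqc rfl L495188 rfl
theorem L495191 : N41026 = N19372 := L495179.trans L495189
theorem L495192 : sm gb N19372 = N19372 := trfs L495189 (flp_b L346649) L495191
theorem L495193 : N19372 = N28167 := eqes L495192 (flp_b L238611)
theorem L495194 : N28167 = N19372 := (eqc rfl L495193 rfl).symm
theorem L495201 : sm gh N19372 = N24505 := trfs L495189 L495185 rfl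
theorem L495202 : N24505 = N13333 := eqes L495201 (flp_h L164517)
theorem L495203 : N24505 = N13333 := eqc rfl L495202 rfl
theorem L495204 : sm gi N19372 = N19372 := trfs L495189 (flp_i L238648) rfl
theorem L495206 : sm gb N13333 = N13333 := trfs L495203 L208228 L495203
theorem L495207 : N13333 = N19369 := eqes L495206 (flp_b L164493)
theorem L495208 : N19369 = N13333 := (eqc rfl L495207 rfl).symm
theorem L495210 : sm gd N13333 = N16852 := trfs L495203 L208230 rfl
theorem L495211 : N16852 = N9196 := eqes L495210 (flp_d L113545)
theorem L495212 : N16852 = N9196 := eqc rfl L495211 rfl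
theorem L495220 : sm gb N9196 = N9196 := trfs L495212 L143648 L495212
theorem L495221 : N9196 = N13331 := eqes L495220 (flp_b L113530)
theorem L495222 : N13331 = N9196 := (eqc rfl L495221 rfl).symm
theorem L495224 : sm ge N9196 = N11606 := trfs L495212 L143651 rfl
theorem L495225 : N11606 = N6351 := eqes L495224 (flp_e L78565)
theorem L495226 : N11606 = N6351 := eqc rfl L495225 rfl
theorem L495231 : sm gi N9196 = N11604 := trfs L495212 (flp_i L143645) rfl
theorem L495232 : N11604 = N13334 := eqes L495231 L113553
theorem L495233 : N13334 = N11604 := (eqc rfl L495232 rfl).symm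
theorem L495242 : sm ge N11604 = N9197 := trfs L495233 L113558 rfl
theorem L495243 : N9197 = N8006 := eqes L495242 (flp_e L99255)
theorem L495244 : N9197 = N8006 := eqc rfl L495243 rfl
theorem L495249 : sm gi N11604 = N9196 := trfs L495233 (flp_i L113553) rfl
theorem L495257 : sm gf N8006 = N6355 := trfs L495244 L78580 rfl
theorem L495258 : N6355 = N5534 := eqes L495257 (flp_f L68760)
theorem L495259 : N6355 = N5534 := eqc rfl L495258 rfl
theorem L495262 : sm gh N8006 = N13335 := trfs L495244 L113563 rfl
theorem L495263 : N13335 = N11605 := eqes L495262 L99264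
theorem L495264 : N13335 = N11605 := eqc rfl L495263 rfl
theorem L495278 : sm gf N11605 = N9202 := trfs L495264 L113568 rfl
theorem L495279 : N9202 = N8007 := eqes L495278 L99270
theorem L495280 : N9202 = N8007 := eqc rfl L495279 rfl
theorem L495295 : sm gg N8007 = N6359 := trfs L495280 L78626 rfl
theorem L495296 : N6359 = N5568 := eqes L495295 L68776
theorem L495297 : N6359 = N5568 := eqc rfl L495296 rfl
theorem L495316 : sm gh N5568 = N4404 := trfs L495297 (flp_h L54535) rfl
theorem L495317 : N4404 = N3855 := eqes L495316 (flp_h L48039)
theorem L495318 : N4404 = N3855 := eqc rfl L495317 rfl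
theorem L495324 : sm gc N3855 = N3055 := trfs L495318 L37922 rfl
theorem L495325 : N3055 = N2674 := eqes L495324 (flp_c L33426)
theorem L495326 : N3055 = N2674 := eqc rfl L495325 rfl
theorem L495331 : sm gj N3855 = N3079 := trfs L495318 L37927 rfl
theorem L495332 : N3079 = N2692 := eqes L495331 L33431
theorem L495333 : N3079 = N2692 := eqc rfl L495332 rfl
theorem L495334 : sm gi N3855 = N3054 := trfs L495318 (flp_i L37919) rfl
theorem L495335 : N3054 = N5569 := eqes L495334 L48049
theorem L495336 : N5569 = N3054 := (eqc rfl L495335 rfl).symm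
theorem L495338 : sm gb N3054 = N3054 := trfs L495336 L48052 L495336
theorem L495339 : N3054 = N4403 := eqes L495338 L37911
theorem L495340 : N4403 = N3054 := (eqc rfl L495339 rfl).symm
theorem L495348 : sm gj N3054 = N3883 := trfs L495336 L48058 rfl
theorem L495349 : N3883 = N2143 := eqes L495348 L26416
theorem L495350 : N3883 = N2143 := eqc rfl L495349 rfl
theorem L495352 : sm gi N3054 = N3855 := trfs L495336 (flp_i L48049) rfl
theorem L495355 : sm gb N2143 = N2143 := trfs L495350 L33673 L495350
theorem L495356 : N2143 = N3078 := eqes L495355 L26607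
theorem L495357 : N3078 = N2143 := (eqc rfl L495356 rfl).symm
theorem L495358 : sm gc N2143 = N2694 := trfs L495350 L33674 rfl
theorem L495359 : N2694 = N1493 := eqes L495358 (flp_c L18602)
theorem L495360 : N2694 = N1493 := eqc rfl L495359 rfl
theorem L495369 : sm gb N1493 = N1876 := trfs L495360 L23485 rfl
theorem L495370 : N1876 = N2141 := eqes L495369 (flp_b L18587)
theorem L495371 : N2141 = N1876 := (eqc rfl L495370 rfl).symm
theorem L495378 : sm gi N1493 = N1872 := trfs L495360 (flp_i L23482) rfl
theorem L495379 : N1872 = N2144 := eqes L495378 L18610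
theorem L495380 : N2144 = N1872 := (eqc rfl L495379 rfl).symm
theorem L495382 : sm gb N1872 = N3077 := trfs L495380 (flp_b L26600) rfl
theorem L495383 : N3077 = N1305 := eqes L495382 L16402
theorem L495384 : N3077 = N1305 := eqc rfl L495383 rfl
theorem L495394 : sm gi N1872 = N1493 := trfs L495380 (flp_i L18610) rfl
theorem L495440 : sm gd N1305 = N2142 := trfs L495384 L26602 rfl
theorem L495441 : N2142 = N908 := eqes L495440 (flp_d L11488)
theorem L495442 : N2142 = N908 := eqc rfl L495441 rfl
theorem L495450 : sm gc N908 = N3070 := trfs L495442 (flp_c L26550) rfl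
theorem L495451 : N3070 = N629 := eqes L495450 L8034
theorem L495452 : N3070 = N629 := eqc rfl L495451 rfl
theorem L495477 : sm ge N629 = N2138 := trfs L495452 L26552 rfl
theorem L495478 : N2138 = N432 := eqes L495477 (flp_e L5572)
theorem L495479 : N2138 = N432 := eqc rfl L495478 rfl
theorem L495497 : sm gi N432 = N1488 := trfs L495479 (flp_i L18561) rfl
theorem L495498 : N1488 = N630 := eqes L495497 L5579
theorem L495499 : N1488 = N630 := eqc rfl L495498 rfl
theorem L495512 : sm gh N630 = N1036 := trfs L495499 (flp_h L12975) rfl
theorem L495513 : N1036 = N911 := eqes L495512 L8055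
theorem L495514 : N1036 = N911 := eqc rfl L495513 rfl
theorem L495520 : sm ge N911 = N1487 := trfs L495514 L12967 rfl
theorem L495521 : N1487 = N1308 := eqes L495520 (flp_e L11513)
theorem L495522 : N1487 = N1308 := eqc rfl L495521 rfl
theorem L495534 : sm gj N1308 = N2113 := trfs L495522 (flp_j L18346) rfl
theorem L495535 : N2113 = N1865 := eqes L495534 (flp_j L16344)
theorem L495536 : N2113 = N1865 := eqc rfl L495535 rfl
theorem L495546 : sm gg N1865 = N3039 := trfs L495536 L26274 rfl
theorem L495547 : N3039 = N2667 := eqes L495546 (flp_g L23251)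
theorem L495548 : N3039 = N2667 := eqc rfl L495547 rfl
theorem L495563 : sm gf N2667 = N4383 := trfs L495548 L37735 rfl
theorem L495564 : N4383 = N3843 := eqes L495563 (flp_f L33328)
theorem L495565 : N4383 = N3843 := eqc rfl L495564 rfl
theorem L495567 : sm gh N2667 = N4384 := trfs L495548 L37744 rfl
theorem L495568 : N4384 = N1855 := eqes L495567 (flp_h L23246)
theorem L495569 : N4384 = N1855 := eqc rfl L495568 rfl
theorem L495580 : sm gf N1855 = N6330 := trfs L495569 (flp_f L54292) rfl
theorem L495581 : N6330 = N2666 := eqes L495580 (flp_f L23242)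
theorem L495582 : N6330 = N2666 := eqc rfl L495581 rfl
theorem L495586 : sm ga N2666 = N9137 := trfs L495582 (flp_a L78054) rfl
theorem L495587 : N9137 = N3486 := eqes L495586 (flp_a L30147)
theorem L495588 : N9137 = N3486 := eqc rfl L495587 rfl
theorem L495598 : sm gc N3486 = N6321 := trfs L495588 L78056 rfl
theorem L495599 : N6321 = N5033 := eqes L495598 (flp_c L43309)
theorem L495600 : N6321 = N5033 := eqc rfl L495599 rfl
theorem L495606 : sm gh N3486 = N6310 := trfs L495588 (flp_h L78052) rfl
theorem L495607 : N6310 = N5036 := eqes L495606 L43340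
theorem L495608 : N6310 = N5036 := eqc rfl L495607 rfl
theorem L495622 : sm gb N5036 = N9119 := trfs L495608 (flp_b L77884) rfl
theorem L495623 : N9119 = N6741 := eqes L495622 (flp_b L57812)
theorem L495624 : N9119 = N6741 := eqc rfl L495623 rfl
theorem L495625 : sm gc N5036 = N4376 := trfs L495608 L54101 rfl
theorem L495626 : N4376 = N7285 := eqes L495625 (flp_c L62432)
theorem L495627 : N7285 = N4376 := (eqc rfl L495626 rfl).symm
theorem L495634 : sm ga N4376 = N5546 := trfs L495627 L62429 rfl
theorem L495635 : N5546 = N3046 := eqes L495634 L37670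
theorem L495636 : N5546 = N3046 := eqc rfl L495635 rfl
theorem L495638 : sm gc N4376 = N5036 := trfs L495627 L62432 rfl
theorem L495648 : sm gb N3046 = N8014 := trfs L495636 (flp_b L68842) rfl
theorem L495649 : N8014 = N2122 := eqes L495648 L26339
theorem L495650 : N8014 = N2122 := eqc rfl L495649 rfl
theorem L495670 : sm gh N2122 = N5538 := trfs L495650 (flp_h L68839) rfl
theorem L495671 : N5538 = N3051 := eqes L495670 L26384
theorem L495672 : N5538 = N3051 := eqc rfl L495671 rfl
theorem L495680 : sm gf N3051 = N3835 := trfs L495672 L47784 rfl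
theorem L495681 : N3835 = N2123 := eqes L495680 L26389
theorem L495682 : N3835 = N2123 := eqc rfl L495681 rfl
theorem L495691 : sm gd N2123 = N5537 := trfs L495682 (flp_d L47771) rfl
theorem L495692 : N5537 = N3052 := eqes L495691 L26393
theorem L495693 : N5537 = N3052 := eqc rfl L495692 rfl
theorem L495709 : sm gi N3052 = N3833 := trfs L495693 (flp_i L47766) rfl
theorem L495710 : N3833 = N4402 := eqes L495709 L37902
theorem L495711 : N4402 = N3833 := (eqc rfl L495710 rfl).symm
theorem L495721 : sm gi N3833 = N3052 := trfs L495711 (flp_i L37902) rfl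
theorem L495748 : sm gf N6741 = N6300 := trfs L495624 (flp_f L77881) rfl
theorem L495749 : N6300 = N4664 := eqes L495748 L57816
theorem L495750 : N6300 = N4664 := eqc rfl L495749 rfl
theorem L495758 : sm gd N4664 = N9117 := trfs L495750 (flp_d L77869) rfl
theorem L495759 : N9117 = N6742 := eqes L495758 L57821
theorem L495760 : N9117 = N6742 := eqc rfl L495759 rfl
theorem L496007 : sm gc N6742 = N13214 := trfs L495760 (flp_c L112496) rfl
theorem L496008 : N13214 = N9769 := eqes L496007 L83481
theorem L496009 : N13214 = N9769 := eqc rfl L496008 rfl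
theorem L496025 : sm gh N9769 = N19196 := trfs L496009 L162959 rfl
theorem L496026 : N19196 = N9769 := eqes L496025 L83487
theorem L496027 : N19196 = N9769 := eqc rfl L496026 rfl
theorem L496041 : sm gi N9769 = N27914 := trfs L496027 L236380 rfl
theorem L496042 : N27914 = N9769 := eqes L496041 L83488
theorem L496043 : N27914 = N9769 := eqc rfl L496042 rfl
theorem L496047 : sm gd N9769 = N40654 := trfs L496043 (flp_d L343386) rfl
theorem L496048 : N40654 = N9769 := eqes L496047 L83489
theorem L496049 : N40654 = N9769 := eqc rfl L496048 rfl
theorem L496066 : sm gg N9769 = N27917 := trfs L496049 L343388 rfl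
theorem L496067 : N27917 = N6753 := eqes L496066 L83484
theorem L496068 : N27917 = N6753 := eqc rfl L496067 rfl
theorem L496087 : sm gi N6753 = N19197 := trfs L496068 (flp_i L236406) rfl
theorem L496088 : N19197 = N6753 := eqes L496087 L57935
theorem L496089 : N19197 = N6753 := eqc rfl L496088 rfl
theorem L496101 : sm gj N6753 = N13343 := trfs L496089 L162973 rfl
theorem L496102 : N13343 = N4682 := eqes L496101 L57932
theorem L496103 : N13343 = N4682 := eqc rfl L496102 rfl
theorem L496113 : sm ge N4682 = N19385 := trfs L496103 L164640 rfl
theorem L496114 : N19385 = N6771 := eqes L496113 L58102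
theorem L496115 : N19385 = N6771 := eqc rfl L496114 rfl
theorem L496134 : sm gi N6771 = N28189 := trfs L496115 L238801 rfl
theorem L496135 : N28189 = N6771 := eqes L496134 L58109
theorem L496136 : N28189 = N6771 := eqc rfl L496135 rfl
theorem L496151 : sm gh N6771 = N41058 := trfs L496136 L346921 rfl
theorem L496152 : N41058 = N6771 := eqes L496151 L58108
theorem L496153 : N41058 = N6771 := eqc rfl L496152 rfl
theorem L496156 : sm ge N6771 = N28190 := trfs L496153 L346925 rfl
theorem L496157 : N28190 = N4682 := eqes L496156 (flp_e L58102)
theorem L496158 : N28190 = N4682 := eqc rfl L496157 rfl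
theorem L496163 : sm gc N4682 = N41055 := trfs L496158 (flp_c L346902) rfl
theorem L496164 : N41055 = N3243 := eqes L496163 (flp_c L40330)
theorem L496165 : N41055 = N3243 := eqc rfl L496164 rfl
theorem L496175 : sm gh N3243 = N28187 := trfs L496165 (flp_h L346899) rfl
theorem L496176 : N28187 = N3243 := eqes L496175 L28070
theorem L496177 : N28187 = N3243 := eqc rfl L496176 rfl
theorem L496184 : sm gd N3243 = N19389 := trfs L496177 L238791 rfl
theorem L496185 : N19389 = N2253 := eqes L496184 (flp_d L28062)
theorem L496186 : N19389 = N2253 := eqc rfl L496185 rfl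
theorem L496206 : sm gi N2253 = N13345 := trfs L496186 (flp_i L164670) rfl
theorem L496207 : N13345 = N2253 := eqes L496206 L19593
theorem L496208 : N13345 = N2253 := eqc rfl L496207 rfl
theorem L496219 : sm gh N2253 = N9209 := trfs L496208 L113659 rfl
theorem L496220 : N9209 = N1569 := eqes L496219 (flp_h L19583)
theorem L496221 : N9209 = N1569 := eqc rfl L496220 rfl
theorem L496234 : sm gi N1569 = N13350 := trfs L496221 L113691 rfl
theorem L496235 : N13350 = N1095 := eqes L496234 (flp_i L13705)
theorem L496236 : N13350 = N1095 := eqc rfl L496235 rfl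
theorem L496249 : sm gh N1095 = N19399 := trfs L496236 L164748 rfl
theorem L496250 : N19399 = N1095 := eqes L496249 L9609
theorem L496251 : N19399 = N1095 := eqc rfl L496250 rfl
theorem L496267 : sm gj N1095 = N27945 := trfs L496251 (flp_j L236668) rfl
theorem L496268 : N27945 = N1565 := eqes L496267 (flp_j L13666)
theorem L496269 : N27945 = N1565 := eqc rfl L496268 rfl
theorem L496272 : sm gb N1565 = N40703 := trfs L496269 (flp_b L343832) rfl
theorem L496273 : N40703 = N1174 := eqes L496272 L13663
theorem L496274 : N40703 = N1174 := eqc rfl L496273 rfl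
theorem L496301 : sm gh N1174 = N27941 := trfs L496274 (flp_h L343830) rfl
theorem L496302 : N27941 = N1174 := eqes L496301 L10322
theorem L496303 : N27941 = N1174 := eqc rfl L496302 rfl
theorem L496318 : sm gi N1174 = N19211 := trfs L496303 (flp_i L236627) rfl
theorem L496319 : N19211 = N1687 := eqes L496318 L14751
theorem L496320 : N19211 = N1687 := eqc rfl L496319 rfl
theorem L496335 : sm gh N1687 = N27924 := trfs L496320 (flp_h L236478) rfl
theorem L496336 : N27924 = N2426 := eqes L496335 L21100
theorem L496337 : N27924 = N2426 := eqc rfl L496336 rfl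
theorem L496342 : sm gc N2426 = N19246 := trfs L496337 L236480 rfl
theorem L496355 : sm gi N2426 = N40674 := trfs L496337 L343566 rfl
theorem L496356 : N40674 = N2426 := eqes L496355 L21109
theorem L496357 : N40674 = N2426 := eqc rfl L496356 rfl
theorem L496359 : sm gc N2426 = N27995 := trfs L496357 L343570 rfl
theorem L496360 : N27995 = N19246 := eqes L496359 L496342
theorem L496361 : N27995 = N19246 := eqc rfl L496360 rfl
theorem L496383 : sm gh N19246 = N40786 := trfs L496361 L344581 rfl
theorem L496384 : N40786 = N13253 := eqes L496383 L163429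
theorem L496385 : N40786 = N2424 := eqc rfl L496384 L478473
theorem L496389 : sm gj N2424 = N28259 := trfs L496385 L344586 rfl
theorem L496390 : N28259 = N1693 := eqes L496389 L21086
theorem L496391 : N28259 = N1693 := eqc rfl L496390 rfl
theorem L496410 : sm gi N1693 = N19443 := trfs L496391 L239367 rfl
theorem L496411 : N19443 = N1178 := eqes L496410 (flp_i L14807)
theorem L496412 : N19443 = N1178 := eqc rfl L496411 rfl
theorem L496425 : sm gh N1178 = N13380 := trfs L496412 (flp_h L165108) rfl
theorem L496426 : N13380 = N1178 := eqes L496425 L10364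
theorem L496427 : N13380 = N1178 := eqc rfl L496426 rfl
theorem L496432 : sm ge N1178 = N19442 := trfs L496427 (flp_e L165105) rfl
theorem L496433 : N19442 = N819 := eqes L496432 (flp_e L10356)
theorem L496434 : N19442 = N819 := eqc rfl L496433 rfl
theorem L496455 : sm gi N819 = N13379 := trfs L496434 (flp_i L165100) rfl
theorem L496456 : N13379 = N1179 := eqes L496455 L10366
theorem L496457 : N13379 = N1179 := eqc rfl L496456 rfl
theorem L496471 : sm gj N1179 = N19262 := trfs L496457 (flp_j L163572) rfl
theorem L496472 : N19262 = N1686 := eqes L496471 (flp_j L14749)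
theorem L496473 : N19262 = N1686 := eqc rfl L496472 rfl
theorem L496486 : sm gg N1686 = N28010 := trfs L496473 (flp_g L237259) rfl
theorem L496487 : N28010 = N2416 := eqes L496486 (flp_g L21006)
theorem L496488 : N28010 = N2416 := eqc rfl L496487 rfl
theorem L496494 : sm gc N2416 = N40689 := trfs L496488 (flp_c L343706) rfl
theorem L496495 : N40689 = N1682 := eqes L496494 L21002
theorem L496496 : N40689 = N1682 := eqc rfl L496495 rfl
theorem L496501 : sm gf N2416 = N40809 := trfs L496488 L344798 rfl
theorem L496502 : N40809 = N2416 := eqes L496501 L21005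
theorem L496503 : N40809 = N2416 := eqc rfl L496502 rfl
theorem L496515 : sm gb N2416 = N28012 := trfs L496503 L344800 rfl
theorem L496516 : N28012 = N2416 := eqes L496515 L21001
theorem L496517 : N28012 = N2416 := eqc rfl L496516 rfl
theorem L496523 : sm ge N2416 = N40801 := trfs L496517 (flp_e L344729) rfl
theorem L496524 : N40801 = N3484 := eqes L496523 (flp_e L30128)
theorem L496525 : N40801 = N3484 := eqc rfl L496524 rfl
theorem L496541 : sm gf N3484 = N28004 := trfs L496525 (flp_f L344722) rfl
theorem L496542 : N28004 = N5033 := eqes L496541 (flp_f L43312)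
theorem L496543 : N28004 = N5033 := eqc rfl L496542 rfl
theorem L496550 : sm gd N5033 = N40800 := trfs L496543 L344713 rfl
theorem L496551 : N40800 = N7282 := eqes L496550 (flp_d L62400)
theorem L496552 : N40800 = N7282 := eqc rfl L496551 rfl
theorem L496572 : sm ge N7282 = N28047 := trfs L496552 L344720 rfl
theorem L496573 : N28047 = N10555 := eqes L496572 (flp_e L90124)
theorem L496574 : N28047 = N10555 := eqc rfl L496573 rfl
theorem L496586 : sm gh N10555 = N40856 := trfs L496574 L345225 rfl
theorem L496587 : N40856 = N10555 := eqes L496586 L411587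
theorem L496588 : N40856 = N10555 := eqc rfl L496587 rfl
theorem L496598 : sm ga N10555 = N28151 := trfs L496588 L345227 rfl
theorem L496599 : N28151 = N8019 := eqes L496598 L90119
theorem L496600 : N28151 = N8019 := eqc rfl L496599 rfl
theorem L496606 : sm gb N8019 = N41001 := trfs L496600 (flp_b L346436) rfl
theorem L496607 : N41001 = N11611 := eqes L496606 (flp_b L99327)
theorem L496608 : N41001 = N6352 := eqc rfl L496607 L495001
theorem L496634 : sm gh N6352 = N28148 := trfs L496608 (flp_h L346434) rfl
theorem L496635 : N28148 = N6352 := eqes L496634 L54478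
theorem L496636 : N28148 = N6352 := eqc rfl L496635 rfl
theorem L496643 : sm gc N6352 = N41000 := trfs L496636 L346426 rfl
theorem L496644 : N41000 = N9196 := eqes L496643 (flp_c L78568)
theorem L496645 : N41000 = N9196 := eqc rfl L496644 rfl
theorem L496661 : sm gd N9196 = N28166 := trfs L496645 L346432 rfl
theorem L496662 : N28166 = N13333 := eqes L496661 L113545
theorem L496663 : N28166 = N13333 := eqc rfl L496662 rfl
theorem L496680 : sm gi N13333 = N41025 := trfs L496663 L346638 rfl
theorem L496681 : N41025 = N19373 := eqes L496680 L164526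
theorem L496682 : N41025 = N16850 := eqc rfl L496681 L495163
theorem L496684 : sm gc N16850 = N28168 := trfs L496682 L346641 rfl
theorem L496685 : N28168 = N16850 := eqes L496684 L143630
theorem L496686 : N28168 = N16850 := eqc rfl L496685 rfl
theorem L496691 : sm ga N16850 = N41021 := trfs L496686 (flp_a L346598) rfl
theorem L496692 : N41021 = N16850 := eqes L496691 L143625
theorem L496693 : N41021 = N16850 := eqc rfl L496692 rfl
theorem L496705 : sm gd N16850 = N28164 := trfs L496693 L346601 rfl
theorem L496706 : N28164 = N11604 := eqes L496705 (flp_d L143623)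
theorem L496707 : N28164 = N11604 := eqc rfl L496706 rfl
theorem L496728 : sm gi N11604 = N19367 := trfs L496707 (flp_i L238582) rfl
theorem L496729 : N19367 = N9196 := eqes L496728 L495249
theorem L496730 : N19367 = N9196 := eqc rfl L496729 rfl
theorem L496740 : sm ge N9196 = N13330 := trfs L496730 (flp_e L164472) rfl
theorem L496741 : N13330 = N6351 := eqes L496740 (flp_e L78565)
theorem L496742 : N13330 = N6351 := eqc rfl L496741 rfl
theorem L496747 : sm ga N6351 = N9195 := trfs L496742 (flp_a L113519) rfl
theorem L496748 : N9195 = N6351 := eqes L496747 L54466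
theorem L496749 : N9195 = N6351 := eqc rfl L496748 rfl
theorem L496756 : sm gf N6351 = N9200 := trfs L496742 L113522 rfl
theorem L496757 : N9200 = N4401 := eqes L496756 L54467
theorem L496758 : N9200 = N4401 := eqc rfl L496757 rfl
theorem L496765 : sm ga N4401 = N6354 := trfs L496758 (flp_a L78602) rfl
theorem L496766 : N6354 = N4401 := eqes L496765 L37895
theorem L496767 : N6354 = N4401 := eqc rfl L496766 rfl
theorem L496780 : sm gi N4401 = N13337 := trfs L496758 L113582 rfl
theorem L496781 : N13337 = N6355 := eqes L496780 L54498
theorem L496782 : N13337 = N5534 := eqc rfl L496781 L495259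
theorem L496797 : sm gh N5534 = N19377 := trfs L496782 L164566 rfl
theorem L496798 : N19377 = N8007 := eqes L496797 L68769
theorem L496799 : N19377 = N8007 := eqc rfl L496798 rfl
theorem L496812 : sm gg N8007 = N13340 := trfs L496799 L164572 rfl
theorem L496813 : N13340 = N5568 := eqes L496812 L68776
theorem L496814 : N13340 = N5568 := eqc rfl L496813 rfl
theorem L496827 : sm gj N5568 = N9269 := trfs L496814 L113617 rfl
theorem L496828 : N9269 = N3882 := eqes L496827 L48047
theorem L496829 : N9269 = N3882 := eqc rfl L496828 rfl
theorem L496845 : sm gh N3882 = N6405 := trfs L496829 (flp_h L79150) rfl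
theorem L496846 : N6405 = N2692 := eqes L496845 (flp_h L33661)
theorem L496847 : N6405 = N2692 := eqc rfl L496846 rfl
theorem L496849 : sm ga N2692 = N4438 := trfs L496847 L54896 rfl
theorem L496850 : N4438 = N2692 := eqes L496849 L23467
theorem L496851 : N4438 = N2692 := eqc rfl L496850 rfl
theorem L496862 : sm gc N2692 = N6403 := trfs L496851 (flp_c L54881) rfl
theorem L496863 : N6403 = N1872 := eqes L496862 (flp_c L23465)
theorem L496864 : N6403 = N1872 := eqc rfl L496863 rfl
theorem L496898 : sm gi N1872 = N4434 := trfs L496864 (flp_i L54877) rfl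
theorem L496899 : N4434 = N1493 := eqes L496898 L495394
theorem L496900 : N4434 = N1493 := eqc rfl L496899 rfl
theorem L496909 : sm gj N1493 = N6348 := trfs L496900 (flp_j L54441) rfl
theorem L496910 : N6348 = N2124 := eqes L496909 (flp_j L18443)
theorem L496911 : N6348 = N2124 := eqc rfl L496910 rfl
theorem L496913 : sm ga N2124 = N9192 := trfs L496911 L78529 rfl
theorem L496914 : N9192 = N2124 := eqes L496913 L18441
theorem L496915 : N9192 = N2124 := eqc rfl L496914 rfl
theorem L496973 : sm gi N2124 = N13327 := trfs L496915 L113491 rfl
theorem L496974 : N13327 = N3055 := eqes L496973 L26420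
theorem L496975 : N13327 = N2674 := eqc rfl L496974 L495326
theorem L496977 : sm gb N2674 = N19289 := trfs L496975 (flp_b L163825) rfl
theorem L496978 : N19289 = N1862 := eqes L496977 L23310
theorem L496979 : N19289 = N1862 := eqc rfl L496978 rfl
theorem L497002 : sm gh N1862 = N28054 := trfs L496979 L237662 rfl
theorem L497003 : N28054 = N2677 := eqes L497002 L23338
theorem L497004 : N28054 = N2677 := eqc rfl L497003 rfl
theorem L497030 : sm gj N2677 = N19461 := trfs L497004 L237671 rfl
theorem L497031 : N19461 = N1875 := eqes L497030 L23343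
theorem L497032 : N19461 = N1875 := eqc rfl L497031 rfl
theorem L497037 : sm gd N1875 = N28297 := trfs L497032 L239675 rfl
theorem L497038 : N28297 = N1875 := eqes L497037 L16433
theorem L497039 : N28297 = N1875 := eqc rfl L497038 rfl
theorem L497054 : sm ge N1875 = N41213 := trfs L497039 L348162 rfl
theorem L497055 : N41213 = N1875 := eqes L497054 L16430
theorem L497056 : N41213 = N1875 := eqc rfl L497055 rfl
theorem L497069 : sm ga N1875 = N28299 := trfs L497056 L348164 rfl
theorem L497070 : N28299 = N2433 := eqes L497069 (flp_a L21170)
theorem L497071 : N28299 = N2433 := eqc rfl L497070 rfl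
theorem L497089 : sm gh N2433 = N41186 := trfs L497071 (flp_h L347957) rfl
theorem L497090 : N41186 = N1692 := eqes L497089 (flp_h L21168)
theorem L497091 : N41186 = N1692 := eqc rfl L497090 rfl
theorem L497093 : sm gb N1692 = N28281 := trfs L497091 L347954 rfl
theorem L497094 : N28281 = N1692 := eqes L497093 L14802
theorem L497095 : N28281 = N1692 := eqc rfl L497094 rfl
theorem L497106 : sm gj N1692 = N40831 := trfs L497095 (flp_j L345003) rfl
theorem L497107 : N40831 = N2423 := eqes L497106 (flp_j L21072)
theorem L497108 : N40831 = N2423 := eqc rfl L497107 rfl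
theorem L497114 : sm gh N2423 = N28056 := trfs L497108 L345005 rfl
theorem L497115 : N28056 = N3494 := eqes L497114 L30223
theorem L497116 : N28056 = N3494 := eqc rfl L497115 rfl
theorem L497125 : sm gg N3494 = N40863 := trfs L497116 (flp_g L345302) rfl
theorem L497126 : N40863 = N5031 := eqes L497125 (flp_g L43288)
theorem L497127 : N40863 = N5031 := eqc rfl L497126 rfl
theorem L497130 : sm ga N5031 = N28158 := trfs L497127 L345299 rfl
theorem L497131 : N28158 = N3838 := eqes L497130 L43283
theorem L497132 : N28158 = N3838 := eqc rfl L497131 rfl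
theorem L497138 : sm gb N3838 = N41012 := trfs L497132 (flp_b L346524) rfl
theorem L497139 : N41012 = N5536 := eqes L497138 (flp_b L47759)
theorem L497140 : N41012 = N5536 := eqc rfl L497139 rfl
theorem L497162 : sm ge N5536 = N28157 := trfs L497140 (flp_e L346522) rfl
theorem L497163 : N28157 = N5536 := eqes L497162 L47761
theorem L497164 : N28157 = N5536 := eqc rfl L497163 rfl
theorem L497178 : sm gf N5536 = N41004 := trfs L497164 (flp_f L346467) rfl
theorem L497179 : N41004 = N8010 := eqes L497178 (flp_f L68804)
theorem L497180 : N41004 = N8010 := eqc rfl L497179 rfl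
theorem L497189 : sm gd N8010 = N28150 := trfs L497180 (flp_d L346463) rfl
theorem L497190 : N28150 = N8010 := eqes L497189 L68808
theorem L497191 : N28150 = N8010 := eqc rfl L497190 rfl
theorem L497204 : sm gh N8010 = N19356 := trfs L497191 (flp_h L238459) rfl
theorem L497205 : N19356 = N5535 := eqes L497204 (flp_h L68799)
theorem L497206 : N19356 = N5535 := eqc rfl L497205 rfl
theorem L497208 : sm ga N5535 = N28147 := trfs L497206 (flp_a L238433) rfl
theorem L497209 : N28147 = N5535 := eqes L497208 L47749
theorem L497210 : N28147 = N5535 := eqc rfl L497209 rfl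
theorem L497233 : sm gb N5535 = N40852 := trfs L497210 (flp_b L345191) rfl
theorem L497234 : N40852 = N3837 := eqes L497233 L47750
theorem L497235 : N40852 = N3837 := eqc rfl L497234 rfl
theorem L497260 : sm gi N3837 = N28044 := trfs L497235 (flp_i L345187) rfl
theorem L497261 : N28044 = N5543 := eqes L497260 L47826
theorem L497262 : N28044 = N5543 := eqc rfl L497261 rfl
theorem L497267 : sm gd N5543 = N40797 := trfs L497262 (flp_d L344689) rfl
theorem L497268 : N40797 = N3840 := eqes L497267 L47829
theorem L497269 : N40797 = N3840 := eqc rfl L497268 rfl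
theorem L497366 : sm ga N3840 = N28003 := trfs L497269 (flp_a L344687) rfl
theorem L497367 : N28003 = N5033 := eqes L497366 (flp_a L43306)
theorem L497368 : N28003 = N5033 := eqc rfl L497367 rfl
theorem L497382 : sm gh N5033 = N40765 := trfs L497368 (flp_h L344392) rfl
theorem L498524 : sm gb N4401 = N4401 := trfs L496767 (flp_b L54490) rfl
theorem L498536 : sm gb N6351 = N6351 := trfs L496749 (flp_b L78557) rfl
theorem L498649 : sm gb N1682 = N27934 := trfs L496496 L343704 rfl
theorem L498650 : N27934 = N2245 := eqes L498649 (flp_b L19501)
theorem L498651 : N27934 = N2245 := eqc rfl L498650 rfl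
theorem L498668 : sm gh N2245 = N40667 := trfs L498651 (flp_h L343507) rfl
theorem L498669 : N40667 = N3232 := eqes L498668 L27951
theorem L498670 : N40667 = N3232 := eqc rfl L498669 rfl
theorem L498693 : sm gg N3232 = N27925 := trfs L498670 L343504 rfl
theorem L498694 : N27925 = N2249 := eqes L498693 L27958
theorem L498695 : N27925 = N2249 := eqc rfl L498694 rfl
theorem L498700 : sm gd N2249 = N40675 := trfs L498695 L343575 rfl
theorem L498701 : N40675 = N3237 := eqes L498700 L28003
theorem L498702 : N40675 = N3237 := eqc rfl L498701 rfl
theorem L498709 : sm gj N3237 = N28194 := trfs L498702 L343578 rfl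
theorem L498710 : N28194 = N2254 := eqes L498709 L28010
theorem L498711 : N28194 = N2254 := eqc rfl L498710 rfl
theorem L498723 : sm gf N2254 = N41065 := trfs L498711 L346981 rfl
theorem L498724 : N41065 = N1578 := eqes L498723 L19599
theorem L498725 : N41065 = N1578 := eqc rfl L498724 rfl
theorem L498740 : sm gd N1578 = N28195 := trfs L498725 L346984 rfl
theorem L498741 : N28195 = N1102 := eqes L498740 (flp_d L13790)
theorem L498742 : N28195 = N1102 := eqc rfl L498741 rfl
theorem L498750 : sm gg N1102 = N41068 := trfs L498742 L346998 rfl
theorem L498751 : N41068 = N770 := eqes L498750 L9683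
theorem L498752 : N41068 = N770 := eqc rfl L498751 rfl
theorem L498768 : sm gh N770 = N28210 := trfs L498752 L347004 rfl
theorem L498769 : N28210 = N533 := eqes L498768 (flp_h L6786)
theorem L498770 : N28210 = N533 := eqc rfl L498769 rfl
theorem L498776 : sm gd N533 = N41088 := trfs L498770 (flp_d L347173) rfl
theorem L498777 : N41088 = N365 := eqes L498776 L4707
theorem L498778 : N41088 = N365 := eqc rfl L498777 rfl
theorem L498802 : sm gg N365 = N28207 := trfs L498778 (flp_g L347168) rfl
theorem L498803 : N28207 = N531 := eqes L498802 (flp_g L4690)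
theorem L498804 : N28207 = N531 := eqc rfl L498803 rfl
theorem L498811 : sm ge N531 = N41087 := trfs L498804 L347161 rfl
theorem L498812 : N41087 = N369 := eqes L498811 L4688
theorem L498813 : N41087 = N369 := eqc rfl L498812 rfl
theorem L498830 : sm gc N369 = N28218 := trfs L498813 L347164 rfl
theorem L498831 : N28218 = N515 := eqes L498830 (flp_c L4537)
theorem L498832 : N28218 = N515 := eqc rfl L498831 rfl
theorem L498843 : sm gj N515 = N40726 := trfs L498832 (flp_j L344045) rfl
theorem L498844 : N40726 = N742 := eqes L498843 (flp_j L6530)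
theorem L498845 : N40726 = N742 := eqc rfl L498844 rfl
theorem L498856 : sm gd N742 = N27967 := trfs L498845 L344047 rfl
theorem L498857 : N27967 = N1066 := eqes L498856 (flp_d L9344)
theorem L498858 : N27967 = N1066 := eqc rfl L498857 rfl
theorem L498866 : sm gg N1066 = N40741 := trfs L498858 L344169 rfl
theorem L498867 : N40741 = N1066 := eqes L498866 L9348
theorem L498868 : N40741 = N1066 := eqc rfl L498867 rfl
theorem L498891 : sm ge N1066 = N27968 := trfs L498868 L344174 rfl
theorem L498892 : N27968 = N1066 := eqes L498891 L9346
theorem L498893 : N27968 = N1066 := eqc rfl L498892 rfl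
theorem L498900 : sm gj N1066 = N40744 := trfs L498893 L344196 rfl
theorem L498901 : N40744 = N744 := eqes L498900 L9349
theorem L498902 : N40744 = N744 := eqc rfl L498901 rfl
theorem L498923 : sm gd N744 = N27973 := trfs L498902 L344201 rfl
theorem L498924 : N27973 = N515 := eqes L498923 L6547
theorem L498925 : N27973 = N515 := eqc rfl L498924 rfl
theorem L498931 : sm ge N515 = N40732 := trfs L498925 (flp_e L344094) rfl
theorem L498932 : N40732 = N737 := eqes L498931 (flp_e L6479)
theorem L498933 : N40732 = N737 := eqc rfl L498932 rfl
theorem L498964 : sm gj N737 = N27959 := trfs L498933 (flp_j L344088) rfl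
theorem L498965 : N27959 = N1059 := eqes L498964 (flp_j L9285)
theorem L498966 : N27959 = N1059 := eqc rfl L498965 rfl
theorem L498983 : sm gi N1059 = N40733 := trfs L498966 L344098 rfl
theorem L498984 : N40733 = N735 := eqes L498983 (flp_i L9275)
theorem L498985 : N40733 = N735 := eqc rfl L498984 rfl
theorem L498988 : sm gc N735 = N27964 := trfs L498985 L344102 rfl
theorem L498989 : N27964 = N528 := eqes L498988 L6453
theorem L498990 : N27964 = N528 := eqc rfl L498989 rfl
theorem L499006 : sm gh N528 = N40738 := trfs L498990 L344145 rfl
theorem L499007 : N40738 = N361 := eqes L499006 (flp_h L4652)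
theorem L499008 : N40738 = N361 := eqc rfl L499007 rfl
theorem L499014 : sm ge N361 = N27979 := trfs L499008 L344150 rfl
theorem L499015 : N27979 = N249 := eqes L499014 L3193
theorem L499016 : N27979 = N249 := eqc rfl L499015 rfl
theorem L499040 : sm gd N249 = N40758 := trfs L499016 L344325 rfl
theorem L499041 : N40758 = N174 := eqes L499040 L2210
theorem L499042 : N40758 = N174 := eqc rfl L499041 rfl
theorem L499058 : sm gg N174 = N27980 := trfs L499042 L344331 rfl
theorem L499059 : N27980 = N174 := eqes L499058 L1560
theorem L499060 : N27980 = N174 := eqc rfl L499059 rfl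
theorem L499070 : sm gj N174 = N19427 := trfs L499060 L236988 rfl
theorem L499071 : N19427 = N119 := eqes L499070 (flp_j L1551)
theorem L499072 : N19427 = N119 := eqc rfl L499071 rfl
theorem L499092 : sm gg N119 = N28250 := trfs L499072 (flp_g L239298) rfl
theorem L499093 : N28250 = N81 := eqes L499092 (flp_g L1067)
theorem L499094 : N28250 = N81 := eqc rfl L499093 rfl
theorem L499111 : sm gi N81 = N40478 := trfs L499094 (flp_i L341987) rfl
theorem L499112 : N40478 = N120 := eqes L499111 L1076
theorem L499113 : N40478 = N120 := eqc rfl L499112 rfl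
theorem L499119 : sm gf N120 = N27893 := trfs L499113 L341983 rfl
theorem L499120 : N27893 = N82 := eqes L499119 L1083
theorem L499121 : N27893 = N82 := eqc rfl L499120 rfl
theorem L499131 : sm gj N82 = N40624 := trfs L499121 (flp_j L343123) rfl
theorem L499132 : N40624 = N82 := eqes L499131 L748
theorem L499133 : N40624 = N82 := eqc rfl L499132 rfl
theorem L499140 : sm gi N82 = N28396 := trfs L499133 L343125 rfl
theorem L499141 : N28396 = N56 := eqes L499140 (flp_i L739)
theorem L499142 : N28396 = N56 := eqc rfl L499141 rfl
theorem L499149 : sm ge N56 = N41349 := trfs L499142 L349189 rfl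
theorem L499150 : N41349 = N39 := eqes L499149 (flp_e L505)
theorem L499151 : N41349 = N39 := eqc rfl L499150 rfl
theorem L499162 : sm gj N39 = N28398 := trfs L499151 L349195 rfl
theorem L499163 : N28398 = N39 := eqes L499162 L359
theorem L499164 : N28398 = N39 := eqc rfl L499163 rfl
theorem L499176 : sm gg N39 = N19535 := trfs L499164 L240434 rfl
theorem L499177 : N19535 = N39 := eqes L499176 L358
theorem L499178 : N19535 = N39 := eqc rfl L499177 rfl
theorem L499191 : sm gi N39 = N27895 := trfs L499178 (flp_i L236221) rfl
theorem L499192 : N27895 = N57 := eqes L499191 L514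
theorem L499193 : N27895 = N57 := eqc rfl L499192 rfl
theorem L499204 : sm gh N57 = N40095 := trfs L499193 (flp_h L338712) rfl
theorem L499205 : N40095 = N83 := eqes L499204 L749
theorem L499206 : N40095 = N83 := eqc rfl L499205 rfl
theorem L499208 : sm gb N83 = N27534 := trfs L499206 L338709 rfl
theorem L499209 : N27534 = N61 := eqes L499208 L752
theorem L499210 : N27534 = N61 := eqc rfl L499209 rfl
theorem L499221 : sm gd N61 = N40108 := trfs L499210 (flp_d L338830) rfl
theorem L499222 : N40108 = N90 := eqes L499221 L816
theorem L499223 : N40108 = N90 := eqc rfl L499222 rfl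
theorem L500199 : sm ge N90 = N27529 := trfs L499223 (flp_e L338823) rfl
theorem L500200 : N27529 = N133 := eqes L500199 L1197
theorem L500201 : N27529 = N133 := eqc rfl L500200 rfl
theorem L500214 : sm gf N133 = N18925 := trfs L500201 L233157 rfl
theorem L500215 : N18925 = N195 := eqes L500214 L1747
theorem L500216 : N18925 = N195 := eqc rfl L500215 rfl
theorem L500230 : sm gg N195 = N27526 := trfs L500216 (flp_g L233129) rfl
theorem L500231 : N27526 = N286 := eqes L500230 L2544
theorem L500232 : N27526 = N286 := eqc rfl L500231 rfl
theorem L500239 : sm gb N286 = N40060 := trfs L500232 (flp_b L338430) rfl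
theorem L500240 : N40060 = N385 := eqes L500239 (flp_b L3411)
theorem L500241 : N40060 = N385 := eqc rfl L500240 rfl
theorem L500325 : sm gd N385 = N27493 := trfs L500241 (flp_d L338427) rfl
theorem L500326 : N27493 = N558 := eqes L500325 (flp_d L4934)
theorem L500327 : N27493 = N558 := eqc rfl L500326 rfl
theorem L500345 : sm gh N558 = N18896 := trfs L500327 (flp_h L232854) rfl
theorem L500346 : N18896 = N791 := eqes L500345 (flp_h L6983)
theorem L500347 : N18896 = N791 := eqc rfl L500346 rfl
theorem L500363 : sm gi N791 = N12998 := trfs L500347 (flp_i L160453) rfl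
theorem L500364 : N12998 = N1132 := eqes L500363 (flp_i L9955)
theorem L500365 : N12998 = N1132 := eqc rfl L500364 rfl
theorem L500377 : sm gj N1132 = N18891 := trfs L500365 (flp_j L160417) rfl
theorem L500378 : N18891 = N1625 := eqes L500377 L14209
theorem L500379 : N18891 = N1625 := eqc rfl L500378 rfl
theorem L500388 : sm gf N1625 = N27484 := trfs L500379 L232778 rfl
theorem L500389 : N27484 = N1625 := eqes L500388 L14215
theorem L500390 : N27484 = N1625 := eqc rfl L500389 rfl
theorem L500396 : sm gc N1625 = N40044 := trfs L500390 (flp_c L338294) rfl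
theorem L500397 : N40044 = N2339 := eqes L500396 (flp_c L20344)
theorem L500398 : N40044 = N2339 := eqc rfl L500397 rfl
theorem L500444 : sm gj N2339 = N27488 := trfs L500398 L338296 rfl
theorem L500445 : N27488 = N1624 := eqes L500444 (flp_j L20341)
theorem L500446 : N27488 = N1624 := eqc rfl L500445 rfl
theorem L500460 : sm gg N1624 = N40053 := trfs L500446 L338368 rfl
theorem L500461 : N40053 = N1131 := eqes L500460 (flp_g L14200)
theorem L500462 : N40053 = N1131 := eqc rfl L500461 rfl
theorem L500474 : sm gf N1131 = N27497 := trfs L500462 L338374 rfl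
theorem L500475 : N27497 = N785 := eqes L500474 (flp_f L9939)
theorem L500476 : N27497 = N785 := eqc rfl L500475 rfl
theorem L500496 : sm gi N785 = N40068 := trfs L500476 L338487 rfl
theorem L500497 : N40068 = N546 := eqes L500496 L6932
theorem L500498 : N40068 = N546 := eqc rfl L500497 rfl
theorem L500504 : sm gg N546 = N27498 := trfs L500498 L338494 rfl
theorem L500505 : N27498 = N546 := eqes L500504 L4829
theorem L500506 : N27498 = N546 := eqc rfl L500505 rfl
theorem L500520 : sm gf N546 = N18900 := trfs L500506 L232899 rfl
theorem L500521 : N18900 = N790 := eqes L500520 L6969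
theorem L500522 : N18900 = N790 := eqc rfl L500521 rfl
theorem L500565 : sm gi N790 = N13000 := trfs L500522 (flp_i L160486) rfl
theorem L500566 : N13000 = N1131 := eqes L500565 (flp_i L9946)
theorem L500567 : N13000 = N1131 := eqc rfl L500566 rfl
theorem L500571 : sm gd N1131 = N18898 := trfs L500567 L160472 rfl
theorem L500572 : N18898 = N1622 := eqes L500571 (flp_d L14188)
theorem L500573 : N18898 = N1622 := eqc rfl L500572 rfl
theorem L500590 : sm gg N1622 = N27487 := trfs L500573 (flp_g L232811) rfl
theorem L500591 : N27487 = N2336 := eqes L500590 L20315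
theorem L500592 : N27487 = N2336 := eqc rfl L500591 rfl
theorem L500643 : sm ge N2336 = N35256 := trfs L500592 (flp_e L298831) rfl
theorem L500644 : N35256 = N3370 := eqes L500643 (flp_e L29160)
theorem L500645 : N35256 = N3370 := eqc rfl L500644 rfl
theorem L500663 : sm gd N3370 = N24203 := trfs L500645 (flp_d L298825) rfl
theorem L500664 : N24203 = N4827 := eqes L500663 (flp_d L41584)
theorem L500665 : N24203 = N4827 := eqc rfl L500664 rfl
theorem L500686 : sm gi N4827 = N35258 := trfs L500665 L298838 rfl
theorem L500687 : N35258 = N3354 := eqes L500686 L41588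
theorem L500688 : N35258 = N3354 := eqc rfl L500687 rfl
theorem L500692 : sm gg N3354 = N24210 := trfs L500688 L298845 rfl
theorem L500693 : N24210 = N2324 := eqes L500692 (flp_g L29022)
theorem L500694 : N24210 = N2324 := eqc rfl L500693 rfl
theorem L500711 : sm gh N2324 = N35268 := trfs L500694 L298919 rfl
theorem L500712 : N35268 = N3355 := eqes L500711 L29029
theorem L500713 : N35268 = N3355 := eqc rfl L500712 rfl
theorem L500719 : sm ge N3355 = N24211 := trfs L500713 L298924 rfl
theorem L500720 : N24211 = N2326 := eqes L500719 L29032
theorem L500721 : N24211 = N2326 := eqc rfl L500720 rfl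
theorem L500736 : sm gi N2326 = N32127 := trfs L500721 (flp_i L272147) rfl
theorem L500737 : N32127 = N3358 := eqes L500736 L29048
theorem L500738 : N32127 = N3358 := eqc rfl L500737 rfl
theorem L500747 : sm gh N3358 = N22045 := trfs L500738 (flp_h L272139) rfl
theorem L500748 : N22045 = N4831 := eqes L500747 (flp_h L41617)
theorem L500749 : N22045 = N4831 := eqc rfl L500748 rfl
theorem L500764 : sm gi N4831 = N15143 := trfs L500749 (flp_i L187214) rfl
theorem L500765 : N15143 = N3340 := eqes L500764 (flp_i L41610)
theorem L500766 : N15143 = N3340 := eqc rfl L500765 rfl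
theorem L500783 : sm gh N3340 = N11450 := trfs L500766 L128946 rfl
theorem L500784 : N11450 = N2314 := eqes L500783 (flp_h L28911)
theorem L500785 : N11450 = N2314 := eqc rfl L500784 rfl
theorem L500793 : sm gf N2314 = N7895 := trfs L500785 L97990 rfl
theorem L500794 : N7895 = N1609 := eqes L500793 (flp_f L20137)
theorem L500795 : N7895 = N1609 := eqc rfl L500794 rfl
theorem L500811 : sm gi N1609 = N11454 := trfs L500795 L98018 rfl
theorem L500812 : N11454 = N1125 := eqes L500811 L14074
theorem L500813 : N11454 = N1125 := eqc rfl L500812 rfl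
theorem L500826 : sm gg N1125 = N16554 := trfs L500813 (flp_g L141221) rfl
theorem L500827 : N16554 = N1604 := eqes L500826 (flp_g L14029)
theorem L500828 : N16554 = N1604 := eqc rfl L500827 rfl
theorem L500846 : sm gh N1604 = N24098 := trfs L500828 L204928 rfl
theorem L500847 : N24098 = N2308 := eqes L500846 L20080
theorem L500848 : N24098 = N2308 := eqc rfl L500847 rfl
theorem L500866 : sm gi N2308 = N31952 := trfs L500848 (flp_i L270732) rfl
theorem L500867 : N31952 = N3330 := eqes L500866 L28825
theorem L500868 : N31952 = N3330 := eqc rfl L500867 rfl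
theorem L500874 : sm gh N3330 = N21925 := trfs L500868 (flp_h L270725) rfl
theorem L500875 : N21925 = N4798 := eqes L500874 (flp_h L41349)
theorem L500876 : N21925 = N4798 := eqc rfl L500875 rfl
theorem L500891 : sm gi N4798 = N15061 := trfs L500876 (flp_i L186242) rfl
theorem L500892 : N15061 = N3318 := eqes L500891 (flp_i L41343)
theorem L500893 : N15061 = N3318 := eqc rfl L500892 rfl
theorem L500907 : sm gj N3318 = N21836 := trfs L500893 (flp_j L185451) rfl
theorem L500908 : N21836 = N4775 := eqes L500907 (flp_j L41148)
theorem L500909 : N21836 = N4775 := eqc rfl L500908 rfl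
theorem L500922 : sm gh N4775 = N16468 := trfs L500909 L185453 rfl
theorem L500923 : N16468 = N3304 := eqes L500922 (flp_h L41144)
theorem L500924 : N16468 = N3304 := eqc rfl L500923 rfl
theorem L500935 : sm gf N3304 = N23967 := trfs L500924 (flp_f L203767) rfl
theorem L500936 : N23967 = N4774 := eqes L500935 L41135
theorem L500937 : N23967 = N4774 := eqc rfl L500936 rfl
theorem L500949 : sm ge N4774 = N34919 := trfs L500937 L296000 rfl
theorem L500950 : N34919 = N6911 := eqes L500949 L59302
theorem L500951 : N34919 = N6911 := eqc rfl L500950 rfl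
theorem L501052 : sm gj N6911 = N24090 := trfs L500951 L296005 rfl
theorem L501053 : N24090 = N4795 := eqes L501052 L59305
theorem L501054 : N24090 = N4795 := eqc rfl L501053 rfl
theorem L501070 : sm gh N4795 = N31944 := trfs L501054 (flp_h L270666) rfl
theorem L501071 : N31944 = N6944 := eqes L501070 L59591
theorem L501072 : N31944 = N6944 := eqc rfl L501071 rfl
theorem L501083 : sm gc N6944 = N21922 := trfs L501072 L270664 rfl
theorem L501084 : N21922 = N9908 := eqes L501083 (flp_c L84732)
theorem L501085 : N21922 = N9908 := eqc rfl L501084 rfl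
theorem L501093 : sm gf N9908 = N31946 := trfs L501085 L270676 rfl
theorem L501094 : N31946 = N13651 := eqes L501093 (flp_f L116279)
theorem L501095 : N31946 = N13651 := eqc rfl L501094 rfl
theorem L501103 : sm gh N13651 = N24092 := trfs L501095 L270681 rfl
theorem L501104 : N24092 = N9414 := eqes L501103 (flp_h L116272)
theorem L501105 : N24092 = N9414 := eqc rfl L501104 rfl
theorem L501115 : sm gj N9414 = N34921 := trfs L501105 (flp_j L296023) rfl
theorem L501116 : N34921 = N13618 := eqes L501115 (flp_j L115966)
theorem L501117 : N34921 = N13618 := eqc rfl L501116 rfl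
theorem L501127 : sm ge N13618 = N23972 := trfs L501117 L296025 rfl
theorem L501128 : N23972 = N9393 := eqes L501127 (flp_e L115961)
theorem L501129 : N23972 = N9393 := eqc rfl L501128 rfl
theorem L501140 : sm gh N9393 = N31818 := trfs L501129 (flp_h L269553) rfl
theorem L501141 : N31818 = N13620 := eqes L501140 L115982
theorem L501142 : N31818 = N13620 := eqc rfl L501141 rfl
theorem L501147 : sm gf N13620 = N21837 := trfs L501142 (flp_f L269545) rfl
theorem L501148 : N21837 = N9394 := eqes L501147 L115987
theorem L501149 : N21837 = N9394 := eqc rfl L501148 rfl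
theorem L501161 : sm gi N9394 = N31819 := trfs L501149 L269555 rfl
theorem L501162 : N31819 = N13621 := eqes L501161 L115992
theorem L501163 : N31819 = N13621 := eqc rfl L501162 rfl
theorem L501169 : sm gj N13621 = N21927 := trfs L501163 L269564 rfl
theorem L501170 : N21927 = N9417 := eqes L501169 L116001
theorem L501171 : N21927 = N9417 := eqc rfl L501170 rfl
theorem L501181 : sm gh N9417 = N31955 := trfs L501171 L270752 rfl
theorem L501182 : N31955 = N6516 := eqes L501181 L80482
theorem L501183 : N31955 = N6516 := eqc rfl L501182 rfl
theorem L501191 : sm gi N6516 = N24101 := trfs L501183 L270761 rfl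
theorem L501192 : N24101 = N4511 := eqes L501191 (flp_i L55882)
theorem L501193 : N24101 = N4511 := eqc rfl L501192 rfl
theorem L501202 : sm gg N4511 = N16647 := trfs L501193 L204960 rfl
theorem L501203 : N16647 = N3140 := eqes L501202 L38848
theorem L501204 : N16647 = N3140 := eqc rfl L501203 rfl
theorem L501236 : sm gf N3140 = N24224 := trfs L501204 (flp_f L205921) rfl
theorem L501237 : N24224 = N4529 := eqes L501236 (flp_f L38998)
theorem L501238 : N24224 = N4529 := eqc rfl L501237 rfl
theorem L501260 : sm gi N4529 = N32140 := trfs L501238 (flp_i L272259) rfl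
theorem L501261 : N32140 = N6544 := eqes L501260 L56121
theorem L501262 : N32140 = N6544 := eqc rfl L501261 rfl
theorem L501267 : sm gh N6544 = N22054 := trfs L501262 (flp_h L272251) rfl
theorem L501268 : N22054 = N9450 := eqes L501267 (flp_h L80771)
theorem L501269 : N22054 = N9450 := eqc rfl L501268 rfl
theorem L501284 : sm gi N9450 = N15148 := trfs L501269 (flp_i L187290) rfl
theorem L501285 : N15148 = N6526 := eqes L501284 (flp_i L80762)
theorem L501286 : N15148 = N6526 := eqc rfl L501285 rfl
theorem L501303 : sm gh N6526 = N11455 := trfs L501286 L128989 rfl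
theorem L501304 : N11455 = N4517 := eqes L501303 (flp_h L55975)
theorem L501305 : N11455 = N4517 := eqc rfl L501304 rfl
theorem L501316 : sm gg N4517 = N16645 := trfs L501305 L141932 rfl
theorem L501317 : N16645 = N6525 := eqes L501316 L55966
theorem L501318 : N16645 = N6525 := eqc rfl L501317 rfl
theorem L501327 : sm ge N6525 = N24212 := trfs L501318 (flp_e L205824) rfl
theorem L501328 : N24212 = N9446 := eqes L501327 (flp_e L80730)
theorem L501329 : N24212 = N9446 := eqc rfl L501328 rfl
theorem L501352 : sm gi N9446 = N35271 := trfs L501329 L298945 rfl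
theorem L501353 : N35271 = N6540 := eqes L501352 L80732
theorem L501354 : N35271 = N6540 := eqc rfl L501353 rfl
theorem L501361 : sm gg N6540 = N24213 := trfs L501354 L298953 rfl
theorem L501362 : N24213 = N4527 := eqes L501361 (flp_g L56088)
theorem L501363 : N24213 = N4527 := eqc rfl L501362 rfl
theorem L501365 : sm gb N4527 = N16654 := trfs L501363 L205829 rfl
theorem L501366 : N16654 = N6535 := eqes L501365 (flp_b L56055)
theorem L501367 : N16654 = N6535 := eqc rfl L501366 rfl
theorem L501375 : sm ga N6535 = N11474 := trfs L501367 L142004 rfl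
theorem L501376 : N11474 = N9454 := eqes L501375 (flp_a L80801)
theorem L501377 : N11474 = N9454 := eqc rfl L501376 rfl
theorem L501389 : sm gi N6535 = N11462 := trfs L501367 (flp_i L142002) rfl
theorem L501390 : N11462 = N9441 := eqes L501389 (flp_i L80683)
theorem L501391 : N11462 = N9441 := eqc rfl L501390 rfl
theorem L501392 : sm ga N9441 = N7911 := trfs L501391 L98086 rfl
theorem L501393 : N7911 = N13683 := eqes L501392 (flp_a L116546)
theorem L501394 : N13683 = N7911 := (eqc rfl L501393 rfl).symm
theorem L501403 : sm ga N7911 = N9441 := trfs L501394 L116546 rfl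
theorem L501406 : sm gc N7911 = N19878 := trfs L501394 (flp_c L168862) rfl
theorem L501407 : N19878 = N11248 := eqes L501406 (flp_c L96235)
theorem L501408 : N19878 = N11248 := eqc rfl L501407 rfl
theorem L501419 : sm gb N11248 = N28908 := trfs L501408 (flp_b L244951) rfl
theorem L501420 : N28908 = N15966 := eqes L501419 (flp_b L136190)
theorem L501421 : N28908 = N15966 := eqc rfl L501420 rfl
theorem L501422 : sm gd N11248 = N28913 := trfs L501408 L244999 rfl
theorem L501423 : N28913 = N16354 := eqes L501422 (flp_d L139489)
theorem L501424 : N28913 = N16354 := eqc rfl L501423 rfl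
theorem L501425 : sm ge N11248 = N13681 := trfs L501408 (flp_e L168858) rfl
theorem L501426 : N13681 = N7745 := eqes L501425 L96238
theorem L501427 : N13681 = N7745 := eqc rfl L501426 rfl
theorem L501429 : sm gg N11248 = N28914 := trfs L501408 L245010 rfl
theorem L501430 : N28914 = N16362 := eqes L501429 L139540
theorem L501431 : N28914 = N16362 := eqc rfl L501430 rfl
theorem L501434 : sm gi N11248 = N13707 := trfs L501408 L168865 rfl
theorem L501435 : N13707 = N16363 := eqes L501434 L139546
theorem L501436 : N16363 = N13707 := (eqc rfl L501435 rfl).symm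
theorem L501445 : sm ge N13707 = N11252 := trfs L501436 L139550 rfl
theorem L501446 : N11252 = N9452 := eqes L501445 (flp_e L116774)
theorem L501447 : N11252 = N9452 := eqc rfl L501446 rfl
theorem L501453 : sm gh N13707 = N23829 := trfs L501436 L202598 rfl
theorem L501454 : N23829 = N19919 := eqes L501453 L169245
theorem L501455 : N23829 = N19919 := eqc rfl L501454 rfl
theorem L501456 : sm gi N13707 = N11248 := trfs L501436 (flp_i L139546) rfl
theorem L501474 : sm gi N19919 = N31423 := trfs L501455 (flp_i L266315) rfl
theorem L501475 : N31423 = N28979 := eqes L501474 L245622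
theorem L501476 : N31423 = N28979 := eqc rfl L501475 rfl
theorem L501478 : sm gb N28979 = N44916 := trfs L501476 (flp_b L380017) rfl
theorem L501479 : N44916 = N42196 := eqes L501478 (flp_b L356754)
theorem L501480 : N44916 = N42196 := eqc rfl L501479 rfl
theorem L501487 : sm gg N28979 = N45854 := trfs L501476 (flp_g L387619) rfl
theorem L501488 : N45854 = N42217 := eqes L501487 (flp_g L356950)
theorem L501489 : N45854 = N42217 := eqc rfl L501488 rfl
theorem L501493 : sm gc N42217 = N32246 := trfs L501489 L387615 rfl
theorem L501494 : N32246 = N28992 := eqes L501493 L356946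
theorem L501495 : N32246 = N28992 := eqc rfl L501494 rfl
theorem L501496 : sm ge N42217 = N31426 := trfs L501489 L387617 rfl
theorem L501497 : N31426 = N28982 := eqes L501496 L356948
theorem L501498 : N31426 = N28982 := eqc rfl L501497 rfl
theorem L501499 : sm gh N42217 = N31422 := trfs L501489 (flp_h L387613) rfl
theorem L501503 : sm gb N28982 = N44919 := trfs L501498 (flp_b L380044) rfl
theorem L501504 : N44919 = N42199 := eqes L501503 (flp_b L356785)
theorem L501505 : N44919 = N42199 := eqc rfl L501504 rfl
theorem L501510 : sm gf N28982 = N45424 := trfs L501498 (flp_f L384167) rfl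
theorem L501511 : N45424 = N42046 := eqes L501510 (flp_f L355424)
theorem L501512 : N45424 = N42046 := eqc rfl L501511 rfl
theorem L501518 : sm gc N42046 = N32055 := trfs L501512 L384165 rfl
theorem L501519 : N32055 = N28873 := eqes L501518 L355422
theorem L501520 : N32055 = N28873 := eqc rfl L501519 rfl
theorem L501521 : sm gg N42046 = N31135 := trfs L501512 L384169 rfl
theorem L501522 : N31135 = N28864 := eqes L501521 L355426
theorem L501523 : N31135 = N28864 := eqc rfl L501522 rfl
theorem L501524 : sm gh N42046 = N31134 := trfs L501512 (flp_h L384163) rfl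
theorem L501526 : sm gi N42046 = N34392 := trfs L501512 L384171 rfl
theorem L501527 : N34392 = N28862 := eqes L501526 (flp_i L355418)
theorem L501528 : N34392 = N28862 := eqc rfl L501527 rfl
theorem L501531 : sm gg N28862 = N23585 := trfs L501528 L291679 rfl
theorem L501532 : N23585 = N19844 := eqes L501531 L244584
theorem L501533 : N23585 = N19844 := eqc rfl L501532 rfl
theorem L501534 : sm gh N28862 = N23584 := trfs L501528 (flp_h L291673) rfl
theorem L501535 : N23584 = N19843 := eqes L501534 (flp_h L244576)
theorem L501536 : N23584 = N19843 := eqc rfl L501535 rfl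
theorem L501538 : sm gb N19843 = N33492 := trfs L501536 (flp_b L284082) rfl
theorem L501539 : N33492 = N28854 := eqes L501538 (flp_b L244507)
theorem L501540 : N33492 = N28854 := eqc rfl L501539 rfl
theorem L501543 : sm ge N19843 = N34388 := trfs L501536 (flp_e L291650) rfl
theorem L501544 : N34388 = N28859 := eqes L501543 (flp_e L244555)
theorem L501545 : N34388 = N28859 := eqc rfl L501544 rfl
theorem L501547 : sm gg N19843 = N16189 := trfs L501536 L200605 rfl
theorem L501548 : N16189 = N13656 := eqes L501547 (flp_g L168568)
theorem L501549 : N16189 = N13656 := eqc rfl L501548 rfl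
theorem L501550 : sm gj N19843 = N34391 := trfs L501536 (flp_j L291671) rfl
theorem L501551 : N34391 = N28861 := eqes L501550 L244567
theorem L501552 : N34391 = N28861 := eqc rfl L501551 rfl
theorem L501553 : sm gi N19843 = N16188 := trfs L501536 (flp_i L200598) rfl
theorem L501554 : N16188 = N28820 := eqes L501553 (flp_i L244187)
theorem L501555 : N28820 = N16188 := (eqc rfl L501554 rfl).symm
theorem L501558 : sm gb N16188 = N41973 := trfs L501555 (flp_b L354736) rfl
theorem L501559 : N41973 = N22975 := eqes L501558 (flp_b L195403)
theorem L501560 : N41973 = N22975 := eqc rfl L501559 rfl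
theorem L501563 : sm ge N16188 = N41978 := trfs L501555 (flp_e L354790) rfl
theorem L501564 : N41978 = N23580 := eqes L501563 (flp_e L200575)
theorem L501565 : N41978 = N23580 := eqc rfl L501564 rfl
theorem L501570 : sm gj N16188 = N41980 := trfs L501555 L354804 rfl
theorem L501571 : N41980 = N23583 := eqes L501570 L200591
theorem L501572 : N41980 = N23583 := eqc rfl L501571 rfl
theorem L501573 : sm gh N16188 = N41981 := trfs L501555 L354815 rfl
theorem L501574 : N41981 = N21365 := eqes L501573 (flp_h L181617)
theorem L501575 : N41981 = N21365 := eqc rfl L501574 rfl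
theorem L501576 : sm gi N16188 = N19843 := trfs L501555 L244187 rfl
theorem L501582 : sm gg N21365 = N28821 := trfs L501575 L354823 rfl
theorem L501583 : N28821 = N14677 := eqes L501582 (flp_g L181613)
theorem L501584 : N28821 = N14677 := eqc rfl L501583 rfl
theorem L501587 : sm gb N14677 = N41974 := trfs L501584 (flp_b L354748) rfl
theorem L501588 : N41974 = N20972 := eqes L501587 (flp_b L178317)
theorem L501589 : N41974 = N20972 := eqc rfl L501588 rfl
theorem L501591 : sm gd N14677 = N41982 := trfs L501584 L354825 rfl
theorem L501592 : N41982 = N20138 := eqes L501591 (flp_d L171145)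
theorem L501593 : N41982 = N20138 := eqc rfl L501592 rfl
theorem L501596 : sm gj N14677 = N41885 := trfs L501584 (flp_j L353897) rfl
theorem L501597 : N41885 = N21235 := eqes L501596 (flp_j L180566)
theorem L501598 : N41885 = N21235 := eqc rfl L501597 rfl
theorem L501611 : sm gc N21235 = N28761 := trfs L501598 L353893 rfl
theorem L501612 : N28761 = N15032 := eqes L501611 L180564
theorem L501613 : N28761 = N15032 := eqc rfl L501612 rfl
theorem L501624 : sm gg N15032 = N41891 := trfs L501613 (flp_g L353959) rfl
theorem L501625 : N41891 = N21882 := eqes L501624 L185873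
theorem L501626 : N41891 = N21882 := eqc rfl L501625 rfl
theorem L501630 : sm ga N21882 = N28772 := trfs L501626 L353955 rfl
theorem L501631 : N28772 = N31841 := eqes L501630 (flp_a L269773)
theorem L501632 : N31841 = N28772 := (eqc rfl L501631 rfl).symm
theorem L501636 : sm gh N21882 = N28760 := trfs L501626 (flp_h L353953) rfl
theorem L501637 : N28760 = N16514 := eqes L501636 L185877
theorem L501638 : N28760 = N16514 := eqc rfl L501637 rfl
theorem L501639 : sm ga N16514 = N19781 := trfs L501638 L243603 rfl
theorem L501640 : N19781 = N23995 := eqes L501639 (flp_a L204028)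
theorem L501641 : N23995 = N19781 := (eqc rfl L501640 rfl).symm
theorem L501643 : sm gc N16514 = N41884 := trfs L501638 (flp_c L353883) rfl
theorem L501644 : N41884 = N23389 := eqes L501643 (flp_c L199013)
theorem L501645 : N41884 = N23389 := eqc rfl L501644 rfl
theorem L501647 : sm ge N16514 = N41888 := trfs L501638 (flp_e L353926) rfl
theorem L501648 : N41888 = N24036 := eqes L501647 (flp_e L204389)
theorem L501649 : N41888 = N24036 := eqc rfl L501648 rfl
theorem L501655 : sm ga N24036 = N28769 := trfs L501649 L353923 rfl
theorem L501656 : N28769 = N34959 := eqes L501655 (flp_a L296369)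
theorem L501657 : N34959 = N28769 := (eqc rfl L501656 rfl).symm
theorem L501659 : sm gg N24036 = N28759 := trfs L501649 (flp_g L353921) rfl
theorem L501660 : N28759 = N16511 := eqes L501659 (flp_g L204386)
theorem L501661 : N28759 = N16511 := eqc rfl L501660 rfl
theorem L501662 : sm gi N24036 = N28788 := trfs L501649 L353928 rfl
theorem L501663 : N28788 = N35025 := eqes L501662 L296933
theorem L501664 : N35025 = N28788 := (eqc rfl L501663 rfl).symm
theorem L501667 : sm gg N28788 = N24037 := trfs L501664 L296938 rfl
theorem L501668 : N24037 = N19793 := eqes L501667 (flp_g L243890)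
theorem L501669 : N24037 = N19793 := eqc rfl L501668 rfl
theorem L501670 : sm gi N28788 = N24036 := trfs L501664 (flp_i L296933) rfl
theorem L501678 : sm gj N19793 = N16608 := trfs L501669 L204398 rfl
theorem L501679 : N16608 = N13658 := eqes L501678 L168109
theorem L501680 : N16608 = N13658 := eqc rfl L501679 rfl
theorem L501681 : sm gh N19793 = N35026 := trfs L501669 L296940 rfl
theorem L501682 : N35026 = N28789 := eqes L501681 L243897
theorem L501683 : N35026 = N28789 := eqc rfl L501682 rfl
theorem L501689 : sm gj N28789 = N24176 := trfs L501683 L296947 rfl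
theorem L501690 : N24176 = N19848 := eqes L501689 L243906
theorem L501691 : N24176 = N19848 := eqc rfl L501690 rfl
theorem L501706 : sm gi N19848 = N32052 := trfs L501691 (flp_i L271532) rfl
theorem L501707 : N32052 = N28871 := eqes L501706 L244650
theorem L501708 : N32052 = N28871 := eqc rfl L501707 rfl
theorem L501713 : sm gh N28871 = N21992 := trfs L501708 (flp_h L271525) rfl
theorem L501714 : N21992 = N41990 := eqes L501713 (flp_h L354908)
theorem L501715 : N41990 = N21992 := (eqc rfl L501714 rfl).symm
theorem L501721 : sm gh N21992 = N28871 := trfs L501715 L354908 rfl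
theorem L501723 : sm gi N21992 = N28825 := trfs L501715 (flp_i L354899) rfl
theorem L501724 : N28825 = N15104 := eqes L501723 (flp_i L186790)
theorem L501725 : N28825 = N15104 := eqc rfl L501724 rfl
theorem L501730 : sm gd N15104 = N41989 := trfs L501725 L354891 rfl
theorem L501731 : N41989 = N21983 := eqes L501730 (flp_d L186728)
theorem L501732 : N41989 = N21983 := eqc rfl L501731 rfl
theorem L501735 : sm gg N15104 = N41988 := trfs L501725 (flp_g L354889) rfl
theorem L501736 : N41988 = N21991 := eqes L501735 L186783
theorem L501737 : N41988 = N21991 := eqc rfl L501736 rfl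
theorem L501739 : sm gh N15104 = N19818 := trfs L501725 (flp_h L244228) rfl
theorem L501740 : N19818 = N11426 := eqes L501739 L128635
theorem L501741 : N19818 = N11426 := eqc rfl L501740 rfl
theorem L501749 : sm gg N11426 = N28824 := trfs L501741 L244219 rfl
theorem L501750 : N28824 = N16607 := eqes L501749 L141632
theorem L501751 : N28824 = N16607 := eqc rfl L501750 rfl
theorem L501762 : sm gj N16607 = N41987 := trfs L501751 L354873 rfl
theorem L501763 : N41987 = N24174 := eqes L501762 L205516
theorem L501764 : N41987 = N24174 := eqc rfl L501763 rfl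
theorem L501766 : sm gi N16607 = N19847 := trfs L501751 L244226 rfl
theorem L501767 : N19847 = N24175 := eqes L501766 L205521
theorem L501768 : N24175 = N19847 := (eqc rfl L501767 rfl).symm
theorem L501782 : sm gi N19847 = N16607 := trfs L501768 (flp_i L205521) rfl
theorem L501793 : sm ga N24174 = N28839 := trfs L501764 L354875 rfl
theorem L501794 : N28839 = N35152 := eqes L501793 (flp_a L298023)
theorem L501795 : N35152 = N28839 := (eqc rfl L501794 rfl).symm
theorem L501798 : sm gi N24174 = N28868 := trfs L501764 L354880 rfl
theorem L501800 : sm ga N28839 = N24174 := trfs L501795 L298023 rfl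
theorem L501804 : sm ga N21991 = N28840 := trfs L501737 L354884 rfl
theorem L501805 : N28840 = N31984 := eqes L501804 (flp_a L271003)
theorem L501806 : N31984 = N28840 := (eqc rfl L501805 rfl).symm
theorem L501809 : sm ga N28840 = N21991 := trfs L501806 L271003 rfl
theorem L501811 : sm gc N28840 = N45351 := trfs L501806 (flp_c L383628) rfl
theorem L501812 : N45351 = N41997 := eqes L501811 (flp_c L354974)
theorem L501813 : N45351 = N41997 := eqc rfl L501812 rfl
theorem L501817 : sm ga N41997 = N31130 := trfs L501813 L383626 rfl
theorem L501820 : sm gg N41997 = N31084 := trfs L501813 (flp_g L383624) rfl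
theorem L501821 : N31084 = N28831 := eqes L501820 L354978
theorem L501822 : N31084 = N28831 := eqc rfl L501821 rfl
theorem L501823 : sm gh N41997 = N34320 := trfs L501813 L383632 rfl
theorem L501824 : N34320 = N28830 := eqes L501823 (flp_h L354970)
theorem L501825 : N34320 = N28830 := eqc rfl L501824 rfl
theorem L501830 : sm gg N28830 = N23534 := trfs L501825 (flp_g L291140) rfl
theorem L501831 : N23534 = N19823 := eqes L501830 (flp_g L244277)
theorem L501832 : N23534 = N19823 := eqc rfl L501831 rfl
theorem L501844 : sm gi N19823 = N34321 := trfs L501832 L291148 rfl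
theorem L501845 : N34321 = N13663 := eqes L501844 L168386
theorem L501846 : N34321 = N13663 := eqc rfl L501845 rfl
theorem L501847 : sm ga N13663 = N23581 := trfs L501846 L291150 rfl
theorem L501848 : N23581 = N19842 := eqes L501847 (flp_a L168562)
theorem L501849 : N23581 = N19842 := eqc rfl L501848 rfl
theorem L501853 : sm gb N19842 = N33489 := trfs L501849 (flp_b L284058) rfl
theorem L501854 : N33489 = N28853 := eqes L501853 (flp_b L244498)
theorem L501855 : N33489 = N28853 := eqc rfl L501854 rfl
theorem L501857 : sm gd N19842 = N34379 := trfs L501849 (flp_d L291583) rfl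
theorem L501858 : N34379 = N28858 := eqes L501857 L244542
theorem L501859 : N34379 = N28858 := eqc rfl L501858 rfl
theorem L501869 : sm gi N28858 = N23572 := trfs L501859 (flp_i L291581) rfl
theorem L501870 : N23572 = N41977 := eqes L501869 (flp_i L354781)
theorem L501871 : N41977 = N23572 := (eqc rfl L501870 rfl).symm
theorem L501877 : sm gi N23572 = N28858 := trfs L501871 L354781 rfl
theorem L501880 : sm ge N28853 = N22976 := trfs L501855 L284061 rfl
theorem L501881 : N22976 = N19840 := eqes L501880 (flp_e L244494)
theorem L501882 : N22976 = N19840 := eqc rfl L501881 rfl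
theorem L501886 : sm gi N28853 = N22972 := trfs L501855 (flp_i L284056) rfl
theorem L501887 : N22972 = N41972 := eqes L501886 (flp_i L354728)
theorem L501888 : N41972 = N22972 := (eqc rfl L501887 rfl).symm
theorem L501889 : sm ga N22972 = N29196 := trfs L501888 L354723 rfl
theorem L501890 : N29196 = N33442 := eqes L501889 (flp_a L283686)
theorem L501891 : N33442 = N29196 := (eqc rfl L501890 rfl).symm
theorem L501894 : sm ge N22972 = N28817 := trfs L501888 (flp_e L354721) rfl
theorem L501895 : N28817 = N15778 := eqes L501894 L195385
theorem L501896 : N28817 = N15778 := eqc rfl L501895 rfl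
theorem L501898 : sm gi N22972 = N28853 := trfs L501888 L354728 rfl
theorem L501900 : sm ga N15778 = N20069 := trfs L501896 L244151 rfl
theorem L501901 : N20069 = N22944 := eqes L501900 (flp_a L195149)
theorem L501902 : N22944 = N20069 := (eqc rfl L501901 rfl).symm
theorem L501906 : sm gf N15778 = N19815 := trfs L501896 (flp_f L244149) rfl
theorem L501907 : N19815 = N10850 := eqes L501906 (flp_f L134557)
theorem L501908 : N19815 = N10850 := eqc rfl L501907 rfl
theorem L501910 : sm gj N15778 = N41881 := trfs L501896 (flp_j L353851) rfl
theorem L501911 : N41881 = N22784 := eqes L501910 (flp_j L193744)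
theorem L501912 : N41881 = N22784 := eqc rfl L501911 rfl
theorem L501916 : sm ga N22784 = N29069 := trfs L501912 L353845 rfl
theorem L501917 : N29069 = N33175 := eqes L501916 (flp_a L281369)
theorem L501918 : N33175 = N29069 := (eqc rfl L501917 rfl).symm
theorem L501923 : sm gi N22784 = N28781 := trfs L501912 L353853 rfl
theorem L501924 : N28781 = N33207 := eqes L501923 L281656
theorem L501925 : N33207 = N28781 := (eqc rfl L501924 rfl).symm
theorem L501931 : sm gi N28781 = N22784 := trfs L501925 (flp_i L281656) rfl
theorem L501933 : sm ga N29069 = N22784 := trfs L501918 L281369 rfl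
theorem L501941 : sm gh N29069 = N44265 := trfs L501918 (flp_h L374506) rfl
theorem L501942 : N44265 = N42349 := eqes L501941 L358090
theorem L501943 : N44265 = N42349 := eqc rfl L501942 rfl
theorem L501944 : sm ga N42349 = N30379 := trfs L501943 L374501 rfl
theorem L501948 : sm gj N42349 = N30514 := trfs L501943 L374504 rfl
theorem L501949 : N30514 = N29198 := eqes L501948 L358097
theorem L501950 : N30514 = N29198 := eqc rfl L501949 rfl
theorem L501957 : sm gd N29198 = N42049 := trfs L501950 (flp_d L355445) rfl
theorem L501958 : N42049 = N42543 := eqes L501957 L359826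
theorem L501959 : N42543 = N42049 := (eqc rfl L501958 rfl).symm
theorem L501960 : sm ge N29198 = N44496 := trfs L501950 (flp_e L376489) rfl
theorem L501961 : N44496 = N42540 := eqes L501960 (flp_e L359803)
theorem L501962 : N44496 = N42540 := eqc rfl L501961 rfl
theorem L501964 : sm gg N29198 = N44499 := trfs L501950 L376507 rfl
theorem L501965 : N44499 = N42542 := eqes L501964 (flp_g L359824)
theorem L501966 : N44499 = N42542 := eqc rfl L501965 rfl
theorem L501968 : sm gi N29198 = N44500 := trfs L501950 L376516 rfl
theorem L501969 : N44500 = N42544 := eqes L501968 L359833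
theorem L501970 : N44500 = N42544 := eqc rfl L501969 rfl
theorem L501971 : sm ga N42544 = N30546 := trfs L501970 L376518 rfl
theorem L501974 : sm gf N42544 = N30515 := trfs L501970 L376521 rfl
theorem L501975 : N30515 = N29200 := eqes L501974 L359838
theorem L501976 : N30515 = N29200 := eqc rfl L501975 rfl
theorem L501977 : sm ga N29200 = N20973 := trfs L501976 L258831 rfl
theorem L501978 : N20973 = N41976 := eqes L501977 (flp_a L354764)
theorem L501979 : N41976 = N20973 := (eqc rfl L501978 rfl).symm
theorem L501984 : sm gd N29200 = N42050 := trfs L501976 (flp_d L355452) rfl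
theorem L501985 : N42050 = N42547 := eqes L501984 (flp_d L359861)
theorem L501986 : N42547 = N42050 := (eqc rfl L501985 rfl).symm
theorem L501989 : sm gg N29200 = N21108 := trfs L501976 L258836 rfl
theorem L501990 : N21108 = N20200 := eqes L501989 L247583
theorem L501991 : N21108 = N20200 := eqc rfl L501990 rfl
theorem L501993 : sm gh N29200 = N44501 := trfs L501976 L376523 rfl
theorem L501994 : N44501 = N20109 := eqes L501993 L247585
theorem L501995 : N44501 = N20109 := eqc rfl L501994 rfl
theorem L501997 : sm ga N20109 = N30547 := trfs L501995 L376525 rfl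
theorem L501998 : N30547 = N28857 := eqes L501997 (flp_a L244533)
theorem L501999 : N30547 = N28857 := eqc rfl L501998 rfl
theorem L502006 : sm gi N20109 = N33447 := trfs L501995 L376532 rfl
theorem L502007 : N33447 = N13835 := eqes L502006 (flp_i L170907)
theorem L502008 : N33447 = N13835 := eqc rfl L502007 rfl
theorem L502009 : sm ga N13835 = N22977 := trfs L502008 L283723 rfl
theorem L502010 : N22977 = N19841 := eqes L502009 (flp_a L168551)
theorem L502011 : N22977 = N19841 := eqc rfl L502010 rfl
theorem L502018 : sm gh N13835 = N22945 := trfs L502008 (flp_h L283721) rfl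
theorem L502019 : N22945 = N9537 := eqes L502018 (flp_h L117894)
theorem L502020 : N22945 = N9537 := eqc rfl L502019 rfl
theorem L502021 : sm ga N9537 = N15779 := trfs L502020 L195155 rfl
theorem L502022 : N15779 = N13655 := eqes L502021 (flp_a L116319)
theorem L502023 : N15779 = N13655 := eqc rfl L502022 rfl
theorem L502033 : sm gg N9537 = N15939 := trfs L502020 L195161 rfl
theorem L502034 : N15939 = N6629 := eqes L502033 L81533
theorem L502035 : N15939 = N6629 := eqc rfl L502034 rfl
theorem L502046 : sm ga N6629 = N10978 := trfs L502035 L135960 rfl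
theorem L502047 : N10978 = N9451 := eqes L502046 (flp_a L80779)
theorem L502048 : N10978 = N9451 := eqc rfl L502047 rfl
theorem L502062 : sm gi N6629 = N10956 := trfs L502035 (flp_i L135958) rfl
theorem L502063 : N10956 = N9578 := eqes L502062 (flp_i L81867)
theorem L502064 : N10956 = N9578 := eqc rfl L502063 rfl
theorem L502065 : sm ga N9578 = N7559 := trfs L502064 L93734 rfl
theorem L502066 : N7559 = N13680 := eqes L502065 (flp_a L116522)
theorem L502067 : N13680 = N7559 := (eqc rfl L502066 rfl).symm
theorem L502074 : sm gf N9578 = N15938 := trfs L502064 L135951 rfl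
theorem L502075 : N15938 = N13895 := eqes L502074 L118389
theorem L502076 : N15938 = N13895 := eqc rfl L502075 rfl
theorem L502079 : sm gh N9578 = N14504 := trfs L502064 (flp_h L123643) rfl
theorem L502080 : N14504 = N13896 := eqes L502079 L118398
theorem L502081 : N14504 = N13896 := eqc rfl L502080 rfl
theorem L502082 : sm ga N13896 = N9997 := trfs L502081 L123639 rfl
theorem L502083 : N9997 = N19877 := eqes L502082 (flp_a L168850)
theorem L502084 : N19877 = N9997 := (eqc rfl L502083 rfl).symm
theorem L502089 : sm gd N13896 = N19924 := trfs L502081 (flp_d L169295) rfl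
theorem L502090 : N19924 = N20199 := eqes L502089 L171658
theorem L502091 : N20199 = N19924 := (eqc rfl L502090 rfl).symm
theorem L502094 : sm gf N13896 = N21107 := trfs L502081 L179463 rfl
theorem L502095 : N21107 = N20198 := eqes L502094 (flp_f L171655)
theorem L502096 : N21107 = N20198 := eqc rfl L502095 rfl
theorem L502100 : sm ga N20198 = N14525 := trfs L502096 L179465 rfl
theorem L502101 : N14525 = N28910 := eqes L502100 (flp_a L244971)
theorem L502102 : N28910 = N14525 := (eqc rfl L502101 rfl).symm
theorem L502107 : sm gd N20198 = N28985 := trfs L502096 (flp_d L245676) rfl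
theorem L502108 : N28985 = N29392 := eqes L502107 L249187
theorem L502109 : N29392 = N28985 := (eqc rfl L502108 rfl).symm
theorem L502110 : sm ge N20198 = N30745 := trfs L502096 (flp_e L260790) rfl
theorem L502111 : N30745 = N29389 := eqes L502110 (flp_e L249166)
theorem L502112 : N30745 = N29389 := eqc rfl L502111 rfl
theorem L502113 : sm gg N20198 = N30748 := trfs L502096 L260810 rfl
theorem L502114 : N30748 = N29391 := eqes L502113 (flp_g L249185)
theorem L502115 : N30748 = N29391 := eqc rfl L502114 rfl
theorem L502118 : sm gi N20198 = N30749 := trfs L502096 L260817 rfl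
theorem L502119 : N30749 = N29393 := eqes L502118 L249195
theorem L502120 : N30749 = N29393 := eqc rfl L502119 rfl
theorem L502121 : sm ga N29393 = N21139 := trfs L502120 L260819 rfl
theorem L502122 : N21139 = N42114 := eqes L502121 (flp_a L355978)
theorem L502123 : N42114 = N21139 := (eqc rfl L502122 rfl).symm
theorem L502128 : sm gd N29393 = N42229 := trfs L502120 (flp_d L357043) rfl
theorem L502129 : N42229 = N42835 := eqes L502128 (flp_d L362254)
theorem L502130 : N42835 = N42229 := (eqc rfl L502129 rfl).symm
theorem L502131 : sm ge N29393 = N44847 := trfs L502120 (flp_e L379454) rfl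
theorem L502132 : N44847 = N42829 := eqes L502131 (flp_e L362206)
theorem L502133 : N44847 = N42829 := eqc rfl L502132 rfl
theorem L502135 : sm gg N29393 = N44850 := trfs L502120 (flp_g L379482) rfl
theorem L502136 : N44850 = N42832 := eqes L502135 (flp_g L362233)
theorem L502137 : N44850 = N42832 := eqc rfl L502136 rfl
theorem L502139 : sm gh N29393 = N44851 := trfs L502120 L379484 rfl
theorem L502140 : N44851 = N20257 := eqes L502139 L249203
theorem L502141 : N44851 = N20257 := eqc rfl L502140 rfl
theorem L502148 : sm gi N20257 = N33851 := trfs L502141 L379492 rfl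
theorem L502149 : N33851 = N13933 := eqes L502148 (flp_i L172147)
theorem L502150 : N33851 = N13933 := eqc rfl L502149 rfl
theorem L502151 : sm ga N13933 = N23261 := trfs L502150 L287171 rfl
theorem L502152 : N23261 = N19914 := eqes L502151 (flp_a L169202)
theorem L502153 : N23261 = N19914 := eqc rfl L502152 rfl
theorem L502160 : sm gd N19914 = N33914 := trfs L502153 L287700 rfl
theorem L502161 : N33914 = N28968 := eqes L502160 L245525
theorem L502162 : N33914 = N28968 := eqc rfl L502161 rfl
theorem L502171 : sm gh N19914 = N15970 := trfs L502153 (flp_h L197858) rfl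
theorem L502172 : N15970 = N13705 := eqes L502171 (flp_h L169200)
theorem L502173 : N15970 = N13705 := eqc rfl L502172 rfl
theorem L502181 : sm gg N13705 = N23260 := trfs L502173 (flp_g L197856) rfl
theorem L502182 : N23260 = N19913 := eqes L502181 L169192
theorem L502183 : N23260 = N19913 := eqc rfl L502182 rfl
theorem L502185 : sm gi N13705 = N10977 := trfs L502173 (flp_i L136218) rfl
theorem L502186 : N10977 = N19876 := eqes L502185 (flp_i L168846)
theorem L502187 : N19876 = N10977 := (eqc rfl L502186 rfl).symm
theorem L502195 : sm gg N10977 = N28909 := trfs L502187 L244959 rfl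
theorem L502196 : N28909 = N15969 := eqes L502195 L136212
theorem L502197 : N28909 = N15969 := eqc rfl L502196 rfl
theorem L502200 : sm gi N10977 = N13705 := trfs L502187 L168846 rfl
theorem L502202 : sm ga N15969 = N20197 := trfs L502197 L244961 rfl
theorem L502203 : N20197 = N23214 := eqes L502202 (flp_a L197468)
theorem L502204 : N23214 = N20197 := (eqc rfl L502203 rfl).symm
theorem L502208 : sm ge N15969 = N42109 := trfs L502197 (flp_e L355930) rfl
theorem L502209 : N42109 = N23256 := eqes L502208 (flp_e L197823)
theorem L502210 : N42109 = N23256 := eqc rfl L502209 rfl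
theorem L502212 : sm gj N15969 = N42111 := trfs L502197 L355946 rfl
theorem L502213 : N42111 = N23259 := eqes L502212 L197843
theorem L502214 : N42111 = N23259 := eqc rfl L502213 rfl
theorem L502225 : sm ga N23259 = N29390 := trfs L502214 L355948 rfl
theorem L502226 : N29390 = N33849 := eqes L502225 (flp_a L287156)
theorem L502227 : N33849 = N29390 := (eqc rfl L502226 rfl).symm
theorem L502228 : sm gb N23259 = N28916 := trfs L502214 L355950 rfl
theorem L502229 : N28916 = N16365 := eqes L502228 L197845
theorem L502230 : N28916 = N16365 := eqc rfl L502229 rfl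
theorem L502234 : sm gi N23259 = N28966 := trfs L502214 L355954 rfl
theorem L502235 : N28966 = N33912 := eqes L502234 L287684
theorem L502236 : N33912 = N28966 := (eqc rfl L502235 rfl).symm
theorem L502237 : sm gb N28966 = N23831 := trfs L502236 L287686 rfl
theorem L502238 : N23831 = N19920 := eqes L502237 L245511
theorem L502239 : N23831 = N19920 := eqc rfl L502238 rfl
theorem L502244 : sm gi N28966 = N23259 := trfs L502236 (flp_i L287684) rfl
theorem L502249 : sm ge N19920 = N34728 := trfs L502239 (flp_e L294399) rfl
theorem L502250 : N34728 = N28976 := eqes L502249 (flp_e L245602)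
theorem L502251 : N34728 = N28976 := eqc rfl L502250 rfl
theorem L502258 : sm gc N28976 = N24247 := trfs L502251 L294397 rfl
theorem L502259 : N24247 = N19927 := eqes L502258 L245600
theorem L502260 : N24247 = N19927 := eqc rfl L502259 rfl
theorem L502263 : sm gi N28976 = N23827 := trfs L502251 (flp_i L294395) rfl
theorem L502264 : N23827 = N42121 := eqes L502263 (flp_i L356052)
theorem L502265 : N42121 = N23827 := (eqc rfl L502264 rfl).symm
theorem L502266 : sm ga N23827 = N28932 := trfs L502265 L356046 rfl
theorem L502267 : N28932 = N34678 := eqes L502266 (flp_a L294034)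
theorem L502268 : N34678 = N28932 := (eqc rfl L502267 rfl).symm
theorem L502275 : sm gi N23827 = N28976 := trfs L502265 L356052 rfl
theorem L502296 : sm ga N28932 = N23827 := trfs L502268 L294034 rfl
theorem L502302 : sm gh N28932 = N45752 := trfs L502268 (flp_h L386837) rfl
theorem L502303 : N45752 = N42148 := eqes L502302 L356307
theorem L502304 : N45752 = N42148 := eqc rfl L502303 rfl
theorem L502305 : sm ga N42148 = N31421 := trfs L502304 L386831 rfl
theorem L502319 : sm gi N19927 = N16666 := trfs L502260 (flp_i L206092) rfl
theorem L502331 : sm gi N16365 = N19920 := trfs L502230 L245038 rfl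
theorem L502338 : sm ga N29390 = N23259 := trfs L502227 L287156 rfl
theorem L502344 : sm gh N29390 = N44849 := trfs L502227 (flp_h L379474) rfl
theorem L502345 : N44849 = N42830 := eqes L502344 L362213
theorem L502346 : N44849 = N42830 := eqc rfl L502345 rfl
theorem L502347 : sm ga N42830 = N30794 := trfs L502346 L379471 rfl
theorem L502352 : sm ga N23256 = N29388 := trfs L502210 L355925 rfl
theorem L502353 : N29388 = N33846 := eqes L502352 (flp_a L287131)
theorem L502354 : N33846 = N29388 := (eqc rfl L502353 rfl).symm
theorem L502358 : sm gi N23256 = N28964 := trfs L502210 L355932 rfl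
theorem L502359 : N28964 = N33909 := eqes L502358 L287660
theorem L502360 : N33909 = N28964 := (eqc rfl L502359 rfl).symm
theorem L502365 : sm gi N28964 = N23256 := trfs L502360 (flp_i L287660) rfl
theorem L502367 : sm ga N29388 = N23256 := trfs L502354 L287131 rfl
theorem L502371 : sm gg N29388 = N23211 := trfs L502354 (flp_g L287129) rfl
theorem L502372 : N23211 = N20196 := eqes L502371 (flp_g L249152)
theorem L502373 : N23211 = N20196 := eqc rfl L502372 rfl
theorem L502374 : sm gh N29388 = N44846 := trfs L502354 (flp_h L379447) rfl
theorem L502375 : N44846 = N42827 := eqes L502374 L362185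
theorem L502376 : N44846 = N42827 := eqc rfl L502375 rfl
theorem L502377 : sm ga N42827 = N30791 := trfs L502376 L379442 rfl
theorem L502384 : sm gb N20196 = N14877 := trfs L502373 (flp_b L286812) L443637
theorem L502385 : N14877 = N13897 := eqes L502384 L171634
theorem L502386 : N14877 = N13897 := eqc rfl L502385 rfl
theorem L502392 : sm gf N20196 = N15936 := trfs L502373 (flp_f L197442) rfl
theorem L502393 : N15936 = N14699 := eqes L502392 L171640
theorem L502394 : N15936 = N14699 := eqc rfl L502393 rfl
theorem L502397 : sm gi N20196 = N33847 := trfs L502373 L287136 rfl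
theorem L502398 : N33847 = N13931 := eqes L502397 L171638
theorem L502399 : N33847 = N13931 := eqc rfl L502398 rfl
theorem L502403 : sm gf N13931 = N23212 := trfs L502399 L287143 rfl
theorem L502404 : N23212 = N10152 := eqes L502403 L118701
theorem L502405 : N23212 = N10152 := eqc rfl L502404 rfl
theorem L502407 : sm ga N10152 = N15967 := trfs L502405 L197452 rfl
theorem L502408 : N15967 = N14492 := eqes L502407 (flp_a L123534)
theorem L502409 : N15967 = N14492 := eqc rfl L502408 rfl
theorem L502414 : sm gd N10152 = N33839 := trfs L502405 (flp_d L287079) rfl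
theorem L502415 : N33839 = N14754 := eqes L502414 L125701
theorem L502416 : N33839 = N14754 := eqc rfl L502415 rfl
theorem L502417 : sm ge N10152 = N7694 := trfs L502405 L197455 L456287
theorem L502418 : N7694 = N6998 := eqes L502417 (flp_e L86757)
theorem L502419 : N7694 = N6998 := eqc rfl L502418 rfl
theorem L502424 : sm gh N10152 = N33848 := trfs L502405 L287146 rfl
theorem L502425 : N33848 = N14756 := eqes L502424 L125715
theorem L502426 : N33848 = N14756 := eqc rfl L502425 rfl
theorem L502434 : sm gi N14756 = N44848 := trfs L502426 (flp_i L379467) rfl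
theorem L502435 : N44848 = N21481 := eqes L502434 L182547
theorem L502436 : N44848 = N21481 := eqc rfl L502435 rfl
theorem L502437 : sm ga N21481 = N30793 := trfs L502436 L379461 rfl
theorem L502438 : N30793 = N30716 := eqes L502437 (flp_a L260526)
theorem L502439 : N30793 = N30716 := eqc rfl L502438 rfl
theorem L502443 : sm gh N21481 = N30746 := trfs L502436 (flp_h L379459) rfl
theorem L502444 : N30746 = N31177 := eqes L502443 (flp_h L264335)
theorem L502445 : N31177 = N30746 := (eqc rfl L502444 rfl).symm
theorem L502449 : sm gb N30746 = N21409 := trfs L502445 L264329 rfl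
theorem L502450 : N21409 = N44808 := eqes L502449 (flp_b L379124)
theorem L502451 : N44808 = N21409 := (eqc rfl L502450 rfl).symm
theorem L502453 : sm gd N30746 = N45484 := trfs L502445 (flp_d L384648) rfl
theorem L502454 : N45484 = N44839 := eqes L502453 (flp_d L379385)
theorem L502455 : N45484 = N44839 := eqc rfl L502454 rfl
theorem L502461 : sm gg N30746 = N45481 := trfs L502445 (flp_g L384629) rfl
theorem L502462 : N45481 = N44844 := eqes L502461 (flp_g L379429)
theorem L502463 : N45481 = N44844 := eqc rfl L502462 rfl
theorem L502465 : sm gh N30746 = N21481 := trfs L502445 L264335 rfl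
theorem L502467 : sm gi N30746 = N21395 := trfs L502445 (flp_i L264327) rfl
theorem L502468 : N21395 = N21105 := eqes L502467 (flp_i L260792)
theorem L502469 : N21395 = N21105 := eqc rfl L502468 rfl
theorem L502473 : sm gb N21105 = N14706 := trfs L502469 L181849 rfl
theorem L502474 : N14706 = N30721 := eqes L502473 (flp_b L260578)
theorem L502475 : N29785 = N14706 := (eqc rfl L502474 L443698).symm
theorem L502477 : sm gd N21105 = N31176 := trfs L502469 L264322 rfl
theorem L502478 : N31176 = N30739 := eqes L502477 (flp_d L260736)
theorem L502479 : N31176 = N30739 := eqc rfl L502478 rfl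
theorem L502480 : sm ge N21105 = N14701 := trfs L502469 L181852 rfl
theorem L502481 : N14701 = N14502 := eqes L502480 (flp_e L179445)
theorem L502482 : N14701 = N14502 := eqc rfl L502481 rfl
theorem L502485 : sm gg N21105 = N31175 := trfs L502469 (flp_g L264320) rfl
theorem L502486 : N31175 = N30743 := eqes L502485 (flp_g L260769)
theorem L502487 : N31175 = N30743 := eqc rfl L502486 rfl
theorem L502494 : sm gb N30743 = N21407 := trfs L502487 L264315 rfl
theorem L502495 : N21407 = N44803 := eqes L502494 (flp_b L379072)
theorem L502496 : N44803 = N21407 := (eqc rfl L502495 rfl).symm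
theorem L502498 : sm gd N30743 = N45480 := trfs L502487 L384616 rfl
theorem L502499 : N45480 = N44833 := eqes L502498 (flp_d L379342)
theorem L502500 : N45480 = N44833 := eqc rfl L502499 rfl
theorem L502502 : sm gf N30743 = N45478 := trfs L502487 (flp_f L384604) rfl
theorem L502503 : N45478 = N44843 := eqes L502502 L379415
theorem L502504 : N45478 = N44843 := eqc rfl L502503 rfl
theorem L502505 : sm gj N30743 = N45479 := trfs L502487 (flp_j L384614) rfl
theorem L502506 : N45479 = N44841 := eqes L502505 (flp_j L379401)
theorem L502507 : N45479 = N44841 := eqc rfl L502506 rfl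
theorem L502508 : sm gh N30743 = N21394 := trfs L502487 (flp_h L264313) rfl
theorem L502509 : N21394 = N23209 := eqes L502508 L260771
theorem L502510 : N23209 = N21394 := (eqc rfl L502509 rfl).symm
theorem L502512 : sm ga N21394 = N15964 := trfs L502510 L197428 rfl
theorem L502513 : N15964 = N30629 := eqes L502512 (flp_a L259784)
theorem L502514 : N30629 = N15964 := (eqc rfl L502513 rfl).symm
theorem L502519 : sm gd N21394 = N33833 := trfs L502510 (flp_d L287032) rfl
theorem L502520 : N33833 = N31171 := eqes L502519 (flp_d L264283)
theorem L502521 : N33833 = N31171 := eqc rfl L502520 rfl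
theorem L502527 : sm gj N21394 = N33841 := trfs L502510 (flp_j L287096) rfl
theorem L502528 : N33841 = N31174 := eqes L502527 L264303
theorem L502529 : N33841 = N31174 := eqc rfl L502528 rfl
theorem L502530 : sm gh N21394 = N30743 := trfs L502510 (flp_h L260771) rfl
theorem L502533 : sm ga N31174 = N23251 := trfs L502529 L287092 rfl
theorem L502534 : N23251 = N44667 := eqes L502533 (flp_a L377910)
theorem L502535 : N44667 = N23251 := (eqc rfl L502534 rfl).symm
theorem L502537 : sm ge N31174 = N23207 := trfs L502529 (flp_e L287090) rfl
theorem L502538 : N23207 = N21396 := eqes L502537 L264308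
theorem L502539 : N23207 = N21396 := eqc rfl L502538 rfl
theorem L502543 : sm ga N21396 = N15962 := trfs L502539 L197411 rfl
theorem L502544 : N15962 = N30631 := eqes L502543 (flp_a L259805)
theorem L502545 : N30631 = N15962 := (eqc rfl L502544 rfl).symm
theorem L502550 : sm gd N21396 = N15933 := trfs L502539 (flp_d L197409) rfl
theorem L502551 : N15933 = N16218 := eqes L502550 L181860
theorem L502552 : N16218 = N15933 := (eqc rfl L502551 rfl).symm
theorem L502556 : sm gh N21396 = N30741 := trfs L502539 (flp_h L260753) rfl
theorem L502557 : N30741 = N31178 := eqes L502556 L264337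
theorem L502558 : N31178 = N30741 := (eqc rfl L502557 rfl).symm
theorem L502559 : sm gi N21396 = N16261 := trfs L502539 L287098 L456336
theorem L502560 : N16261 = N14757 := eqes L502559 L181862
theorem L502561 : N16261 = N14757 := eqc rfl L502560 rfl
theorem L502562 : sm ga N14757 = N23648 := trfs L502561 (flp_a L201149) rfl
theorem L502563 : N23648 = N21088 := eqes L502562 (flp_a L179298)
theorem L502564 : N23648 = N21088 := eqc rfl L502563 rfl
theorem L502569 : sm gd N14757 = N11176 := trfs L502561 (flp_d L138732) rfl
theorem L502570 : N11176 = N11205 := eqes L502569 L125728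
theorem L502571 : N11205 = N11176 := (eqc rfl L502570 rfl).symm
theorem L502572 : sm ge N14757 = N23692 := trfs L502561 L201507 rfl
theorem L502573 : N23692 = N21478 := eqes L502572 (flp_e L182530)
theorem L502574 : N23692 = N21478 := eqc rfl L502573 rfl
theorem L502575 : sm gf N14757 = N23463 := trfs L502561 (flp_f L199660) rfl
theorem L502576 : N23463 = N21315 := eqes L502575 (flp_f L181222)
theorem L502577 : N23463 = N21315 := eqc rfl L502576 rfl
theorem L502579 : sm gj N14757 = N11177 := trfs L502561 L138735 rfl
theorem L502580 : N11177 = N10153 := eqes L502579 (flp_j L125723)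
theorem L502581 : N11177 = N10153 := eqc rfl L502580 rfl
theorem L502582 : sm gh N14757 = N21439 := trfs L502561 (flp_h L182226) rfl
theorem L502583 : N21439 = N21482 := eqes L502582 L182555
theorem L502584 : N21482 = N21439 := (eqc rfl L502583 rfl).symm
theorem L502587 : sm ga N21439 = N30717 := trfs L502584 (flp_a L260536) rfl
theorem L502588 : N30717 = N31202 := eqes L502587 (flp_a L264546)
theorem L502589 : N31202 = N30717 := (eqc rfl L502588 rfl).symm
theorem L502590 : sm gb N21439 = N14771 := trfs L502584 L182557 rfl
theorem L502591 : N14771 = N30674 := eqes L502590 (flp_b L260188)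
theorem L502592 : N30674 = N14771 := (eqc rfl L502591 rfl).symm
theorem L502597 : sm ge N21439 = N31301 := trfs L502584 (flp_e L265338) rfl
theorem L502598 : N31301 = N31247 := eqes L502597 L264907
theorem L502599 : N31301 = N31247 := eqc rfl L502598 rfl
theorem L502600 : sm gf N21439 = N31056 := trfs L502584 (flp_f L263386) rfl
theorem L502601 : N31056 = N31013 := eqes L502600 (flp_f L263063)
theorem L502602 : N31056 = N31013 := eqc rfl L502601 rfl
theorem L502604 : sm gj N21439 = N14758 := trfs L502584 L182561 rfl
theorem L502605 : N14758 = N14728 := eqes L502604 L182223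
theorem L502606 : N14758 = N14728 := eqc rfl L502605 rfl
theorem L502607 : sm gh N21439 = N14757 := trfs L502584 (flp_h L182555) rfl
theorem L502609 : sm gi N21439 = N31308 := trfs L502584 L265385 rfl
theorem L502610 : N31308 = N31248 := eqes L502609 L264915
theorem L502611 : N31308 = N31248 := eqc rfl L502610 rfl
theorem L502612 : sm ga N31248 = N44801 := trfs L502611 (flp_a L379050) rfl
theorem L502613 : N44801 = N45527 := eqes L502612 (flp_a L385011)
theorem L502614 : N45527 = N44801 := (eqc rfl L502613 rfl).symm
theorem L502615 : sm gb N31248 = N21507 := trfs L502611 L265387 rfl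
theorem L502616 : N21507 = N44741 := eqes L502615 (flp_b L378558)
theorem L502617 : N44741 = N21507 := (eqc rfl L502616 rfl).symm
theorem L502622 : sm ge N31248 = N45669 := trfs L502611 (flp_e L386137) rfl
theorem L502623 : N45669 = N45594 := eqes L502622 (flp_e L385531)
theorem L502624 : N45669 = N45594 := eqc rfl L502623 rfl
theorem L502625 : sm gf N31248 = N45306 := trfs L502611 (flp_f L383253) rfl
theorem L502626 : N45306 = N45246 := eqes L502625 (flp_f L382804)
theorem L502627 : N45306 = N45246 := eqc rfl L502626 rfl
theorem L502629 : sm gj N31248 = N21484 := trfs L502611 L265391 rfl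
theorem L502630 : N21484 = N21442 := eqes L502629 L264921
theorem L502631 : N21484 = N21442 := eqc rfl L502630 rfl
theorem L502632 : sm gh N31248 = N45486 := trfs L502611 (flp_h L384668) rfl
theorem L502633 : N45486 = N45595 := eqes L502632 L385536
theorem L502634 : N45595 = N45486 := (eqc rfl L502633 rfl).symm
theorem L502636 : sm gd N45486 = N31417 := trfs L502634 L385542 rfl
theorem L502639 : sm gj N45486 = N31251 := trfs L502634 L385540 rfl
theorem L502640 : N31251 = N31180 := eqes L502639 L384666
theorem L502641 : N31251 = N30744 := eqc rfl L502640 L474114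
theorem L502642 : sm gh N45486 = N31248 := trfs L502634 (flp_h L385536) rfl
theorem L502644 : sm gi N45486 = N34551 := trfs L502634 L385544 rfl
theorem L502645 : N34551 = N31178 := eqes L502644 (flp_i L384660)
theorem L502646 : N34551 = N30741 := eqc rfl L502645 L502558
theorem L502648 : sm gd N30741 = N23823 := trfs L502646 L292983 rfl
theorem L502649 : N23823 = N21102 := eqes L502648 (flp_d L260745)
theorem L502650 : N23823 = N21102 := eqc rfl L502649 rfl
theorem L502666 : sm gi N21102 = N31417 := trfs L502650 (flp_i L266263) rfl
theorem L502667 : N31417 = N30742 := eqes L502666 L260755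
theorem L502668 : N31417 = N30742 := eqc rfl L502667 rfl
theorem L502672 : sm gb N30742 = N44910 := trfs L502668 (flp_b L379961) rfl
theorem L502673 : N44910 = N44801 := eqes L502672 (flp_b L379052)
theorem L502674 : N44910 = N44801 := eqc rfl L502673 rfl
theorem L502676 : sm gd N30742 = N45486 := trfs L502668 (flp_d L502636) rfl
theorem L502677 : N45486 = N44842 := eqes L502676 (flp_d L379410)
theorem L502678 : N45486 = N44842 := eqc rfl L502677 rfl
theorem L502679 : sm ge N30742 = N45848 := trfs L502668 (flp_e L387567) rfl
theorem L502680 : N45848 = N44831 := eqes L502679 (flp_e L379323)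
theorem L502681 : N45848 = N44831 := eqc rfl L502680 rfl
theorem L502685 : sm gh N30742 = N21552 := trfs L502668 (flp_h L266256) rfl
theorem L502686 : N21552 = N44696 := eqes L502685 (flp_h L378190)
theorem L502687 : N44696 = N21552 := (eqc rfl L502686 rfl).symm
theorem L502695 : sm gh N21552 = N30742 := trfs L502687 L378190 rfl
theorem L502697 : sm gi N21552 = N30645 := trfs L502687 (flp_i L378181) rfl
theorem L502698 : N30645 = N14800 := eqes L502697 (flp_i L183113)
theorem L502699 : N30645 = N14800 := eqc rfl L502698 rfl
theorem L502715 : sm gh N14800 = N21038 := trfs L502699 (flp_h L259937) rfl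
theorem L502716 : N21038 = N11244 := eqes L502715 L126074
theorem L502717 : N21038 = N11244 := eqc rfl L502716 rfl
theorem L502726 : sm gj N11244 = N14459 := trfs L502717 (flp_j L178874) rfl
theorem L502727 : N14459 = N7741 := eqes L502726 L96208
theorem L502728 : N14459 = N7741 := eqc rfl L502727 rfl
theorem L502733 : sm gb N7741 = N21031 := trfs L502728 (flp_b L178809) rfl
theorem L502734 : N21031 = N10973 := eqes L502733 (flp_b L93881)
theorem L502735 : N21031 = N10973 := eqc rfl L502734 rfl
theorem L502742 : sm gg N7741 = N9954 := trfs L502728 (flp_g L123248) rfl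
theorem L502743 : N9954 = N5337 := eqes L502742 L66478
theorem L502744 : N9954 = N5337 := eqc rfl L502743 rfl
theorem L502750 : sm gb N5337 = N14456 := trfs L502744 (flp_b L123223) rfl
theorem L502751 : N14456 = N7557 := eqes L502750 (flp_b L64888)
theorem L502752 : N14456 = N7557 := eqc rfl L502751 rfl
theorem L502761 : sm gi N5337 = N6881 := trfs L502744 L85120 rfl
theorem L502762 : N6881 = N7744 := eqes L502761 L66493
theorem L502763 : N7744 = N6881 := (eqc rfl L502762 rfl).symm
theorem L502774 : sm gh N6881 = N11250 := trfs L502763 L96247 rfl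
theorem L502775 : N11250 = N9982 := eqes L502774 L85351
theorem L502776 : N11250 = N9982 := eqc rfl L502775 rfl
theorem L502777 : sm gi N6881 = N5337 := trfs L502763 (flp_i L66493) rfl
theorem L502793 : sm gi N9982 = N14806 := trfs L502776 (flp_i L126122) rfl
theorem L502794 : N14806 = N14503 := eqes L502793 L123628
theorem L502795 : N14806 = N14503 := eqc rfl L502794 rfl
theorem L502797 : sm gb N14503 = N21137 := trfs L502795 (flp_b L179715) rfl
theorem L502798 : N21137 = N21091 := eqes L502797 (flp_b L179330)
theorem L502799 : N21137 = N21091 := eqc rfl L502798 rfl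
theorem L502805 : sm gf N14503 = N10187 := trfs L502795 L126119 rfl
theorem L502806 : N10187 = N9984 := eqes L502805 L123634
theorem L502807 : N10187 = N9984 := eqc rfl L502806 rfl
theorem L502810 : sm gh N14503 = N10184 := trfs L502795 (flp_h L126115) rfl
theorem L502811 : N10184 = N21041 := eqes L502810 (flp_h L178911)
theorem L502812 : N21041 = N10184 := (eqc rfl L502811 rfl).symm
theorem L502825 : sm gf N10184 = N14462 := trfs L502812 L178908 rfl
theorem L502826 : N14462 = N7018 := eqes L502825 L87013
theorem L502827 : N14462 = N7018 := eqc rfl L502826 rfl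
theorem L502830 : sm gh N10184 = N14503 := trfs L502812 L178911 rfl
theorem L502835 : sm gb N7018 = N21034 := trfs L502827 (flp_b L178839) rfl
theorem L502836 : N21034 = N9998 := eqes L502835 (flp_b L85487)
theorem L502837 : N21034 = N9998 := eqc rfl L502836 rfl
theorem L502845 : sm gg N7018 = N20909 := trfs L502827 (flp_g L177786) rfl
theorem L502846 : N20909 = N10100 := eqes L502845 (flp_g L86341)
theorem L502847 : N20909 = N10100 := eqc rfl L502846 rfl
theorem L502851 : sm gi N7018 = N9955 := trfs L502827 (flp_i L123274) rfl
theorem L502852 : N9955 = N4843 := eqes L502851 (flp_i L60170)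
theorem L502853 : N9955 = N4843 := eqc rfl L502852 rfl
theorem L502867 : sm gg N4843 = N14372 := trfs L502853 (flp_g L122520) rfl
theorem L502868 : N14372 = N6959 := eqes L502867 (flp_g L59709)
theorem L502869 : N14372 = N6959 := eqc rfl L502868 rfl
theorem L502882 : sm gh N6959 = N9896 := trfs L502869 (flp_h L122514) rfl
theorem L502883 : N9896 = N5281 := eqes L502882 L59713
theorem L502884 : N9896 = N5281 := eqc rfl L502883 rfl
theorem L502895 : sm gi N5281 = N6837 := trfs L502884 L84631 rfl
theorem L502896 : N6837 = N7661 := eqes L502895 L65798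
theorem L502897 : N7661 = N6837 := (eqc rfl L502896 rfl).symm
theorem L502908 : sm gh N6837 = N11128 := trfs L502897 L95231 rfl
theorem L502909 : N11128 = N9914 := eqes L502908 L84782
theorem L502910 : N11128 = N9914 := eqc rfl L502909 rfl
theorem L502911 : sm gi N6837 = N5281 := trfs L502897 (flp_i L65798) rfl
theorem L502921 : sm gi N9914 = N14679 := trfs L502910 (flp_i L125100) rfl
theorem L502922 : N14679 = N14401 := eqes L502921 L122763
theorem L502923 : N14679 = N14401 := eqc rfl L502922 rfl
theorem L502925 : sm gb N14401 = N20974 := trfs L502923 (flp_b L178333) rfl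
theorem L502926 : N20974 = N20943 := eqes L502925 (flp_b L178078)
theorem L502927 : N20974 = N20943 := eqc rfl L502926 rfl
theorem L502930 : sm ge N14401 = N21367 := trfs L502923 (flp_e L181631) rfl
theorem L502931 : N21367 = N19846 := eqes L502930 (flp_e L168598)
theorem L502932 : N21367 = N19846 := eqc rfl L502931 rfl
theorem L502941 : sm gd N19846 = N31136 := trfs L502932 L264006 rfl
theorem L502942 : N31136 = N28866 := eqes L502941 (flp_d L244614)
theorem L502943 : N31136 = N28866 := eqc rfl L502942 rfl
theorem L502971 : sm gh N28866 = N42707 := trfs L502943 (flp_h L361135) rfl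
theorem L502972 : N42707 = N42051 := eqes L502971 L355458
theorem L502973 : N42707 = N42051 := eqc rfl L502972 rfl
theorem L502974 : sm gi N28866 = N23586 := trfs L502943 L264010 rfl
theorem L502975 : N23586 = N19845 := eqes L502974 (flp_i L244610)
theorem L502976 : N23586 = N19845 := eqc rfl L502975 rfl
theorem L502991 : sm gg N19845 = N16368 := trfs L502976 L200615 rfl
theorem L502992 : N16368 = N13710 := eqes L502991 L168589
theorem L502993 : N16368 = N13710 := eqc rfl L502992 rfl
theorem L503015 : sm gf N13710 = N23833 := trfs L502993 (flp_f L202626) rfl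
theorem L503016 : N23833 = N19922 := eqes L503015 (flp_f L169276)
theorem L503017 : N23833 = N19922 := eqc rfl L503016 rfl
theorem L503023 : sm gc N19922 = N31800 := trfs L503017 (flp_c L391595) rfl
theorem L503024 : N31800 = N28582 := eqes L503023 (flp_c L242038)
theorem L503025 : N31800 = N28582 := eqc rfl L503024 rfl
theorem L503027 : sm ge N19922 = N31799 := trfs L503017 (flp_e L391579) rfl
theorem L503028 : N31799 = N28983 := eqes L503027 L245657
theorem L503029 : N31799 = N28983 := eqc rfl L503028 rfl
theorem L503035 : sm gi N19922 = N31427 := trfs L503017 (flp_i L266342) rfl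
theorem L503036 : N31427 = N28984 := eqes L503035 L245663
theorem L503037 : N31427 = N28984 := eqc rfl L503036 rfl
theorem L503042 : sm gc N28984 = N45859 := trfs L503037 L387652 rfl
theorem L503043 : N45859 = N41628 := eqes L503042 (flp_c L351621)
theorem L503044 : N45859 = N41628 := eqc rfl L503043 rfl
theorem L503046 : sm ge N28984 = N45860 := trfs L503037 L387661 rfl
theorem L503047 : N45860 = N42226 := eqes L503046 (flp_e L357021)
theorem L503048 : N45860 = N42226 := eqc rfl L503047 rfl
theorem L503052 : sm gh N28984 = N43079 := trfs L503037 (flp_h L364251) rfl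
theorem L503053 : N43079 = N42227 := eqes L503052 L357024
theorem L503054 : N43079 = N42227 := eqc rfl L503053 rfl
theorem L503055 : sm gd N42227 = N29555 := trfs L503054 (flp_d L364245) rfl
theorem L503057 : sm gf N42227 = N29556 := trfs L503054 L364247 rfl
theorem L503058 : N29556 = N28987 := eqes L503057 L357028
theorem L503059 : N29556 = N28987 := eqc rfl L503058 rfl
theorem L503065 : sm gb N28987 = N42277 := trfs L503059 (flp_b L357441) rfl
theorem L503066 : N42277 = N42207 := eqes L503065 (flp_b L356859)
theorem L503067 : N42277 = N42207 := eqc rfl L503066 rfl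
theorem L503071 : sm gd N28987 = N20306 := trfs L503059 (flp_d L250525) rfl
theorem L503072 : N20306 = N42132 := eqes L503071 (flp_d L356154)
theorem L503073 : N42132 = N20306 := (eqc rfl L503072 rfl).symm
theorem L503074 : sm ge N28987 = N42910 := trfs L503059 (flp_e L362868) rfl
theorem L503075 : N42910 = N42230 := eqes L503074 (flp_e L357052)
theorem L503076 : N42910 = N42230 := eqc rfl L503075 rfl
theorem L503081 : sm gd N42230 = N29442 := trfs L503076 (flp_d L362864) rfl
theorem L503084 : sm gh N42230 = N31258 := trfs L503076 L362870 rfl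
theorem L503085 : N31258 = N28986 := eqes L503084 (flp_h L357048)
theorem L503086 : N31258 = N28986 := eqc rfl L503085 rfl
theorem L503094 : sm gc N28986 = N45606 := trfs L503086 L385619 rfl
theorem L503095 : N45606 = N41630 := eqes L503094 (flp_c L351641)
theorem L503096 : N45606 = N41630 := eqc rfl L503095 rfl
theorem L503097 : sm gd N28986 = N21448 := trfs L503086 (flp_d L264986) rfl
theorem L503098 : N21448 = N21108 := eqes L503097 L245684
theorem L503099 : N21448 = N20200 := eqc rfl L503098 L501991
theorem L503101 : sm gf N28986 = N45605 := trfs L503086 (flp_f L385614) rfl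
theorem L503102 : N45605 = N42229 := eqes L503101 (flp_f L357045)
theorem L503103 : N45605 = N42229 := eqc rfl L503102 rfl
theorem L503110 : sm gi N42229 = N34561 := trfs L503103 L385617 rfl
theorem L503111 : N34561 = N28985 := eqes L503110 (flp_i L357039)
theorem L503112 : N34561 = N28985 := eqc rfl L503111 rfl
theorem L503115 : sm ge N28985 = N43725 := trfs L503112 L394175 rfl
theorem L503116 : N43725 = N42225 := eqes L503115 (flp_e L357015)
theorem L503117 : N43725 = N42225 := eqc rfl L503116 rfl
theorem L503121 : sm gc N42225 = N29999 := trfs L503117 (flp_c L369759) rfl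
theorem L503126 : sm ga N20200 = N31211 := trfs L503099 (flp_a L264630) rfl
theorem L503127 : N31211 = N28912 := eqes L503126 (flp_a L244989)
theorem L503128 : N31211 = N28912 := eqc rfl L503127 rfl
theorem L503133 : sm ge N20200 = N14734 := trfs L503099 L182289 rfl
theorem L503134 : N14734 = N14703 := eqes L503133 L171669
theorem L503135 : N14734 = N14703 := eqc rfl L503134 rfl
theorem L503143 : sm gh N20200 = N14733 := trfs L503099 (flp_h L182286) rfl
theorem L503144 : N14733 = N13935 := eqes L503143 L171672
theorem L503145 : N14733 = N13935 := eqc rfl L503144 rfl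
theorem L503146 : sm gi N20200 = N16270 := trfs L503099 L182292 rfl
theorem L503147 : N16270 = N13896 := eqes L503146 (flp_i L171664)
theorem L503148 : N16270 = N13896 := eqc rfl L503147 rfl
theorem L503167 : sm gh N13896 = N11182 := trfs L503148 (flp_h L138790) rfl
theorem L503168 : N11182 = N9578 := eqes L503167 (flp_h L118398)
theorem L503169 : N11182 = N9578 := eqc rfl L503168 rfl
theorem L503185 : sm gi N9578 = N7696 := trfs L503169 (flp_i L95690) rfl
theorem L503186 : N7696 = N6629 := eqes L503185 L81867
theorem L503187 : N7696 = N6629 := eqc rfl L503186 rfl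
theorem L503200 : sm gh N6629 = N10135 := trfs L503187 (flp_h L86626) rfl
theorem L503201 : N10135 = N9604 := eqes L503200 L82082
theorem L503202 : N10135 = N9604 := eqc rfl L503201 rfl
theorem L503210 : sm gd N9604 = N13914 := trfs L503202 (flp_d L118560) rfl
theorem L503211 : N13914 = N13934 := eqes L503210 L118717
theorem L503212 : N13934 = N13914 := (eqc rfl L503211 rfl).symm
theorem L503213 : sm ge N9604 = N6984 := trfs L503202 (flp_e L86622) rfl
theorem L503214 : N6984 = N6999 := eqes L503213 L82087
theorem L503215 : N6999 = N6984 := (eqc rfl L503214 rfl).symm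
theorem L503216 : sm gf N9604 = N14732 := trfs L503202 L125527 rfl
theorem L503217 : N14732 = N13933 := eqes L503216 (flp_f L118714)
theorem L503218 : N14732 = N13933 := eqc rfl L503217 rfl
theorem L503219 : sm gg N9604 = N14627 := trfs L503202 (flp_g L124689) rfl
theorem L503220 : N14627 = N13835 := eqes L503219 (flp_g L117901)
theorem L503221 : N14627 = N13835 := eqc rfl L503220 rfl
theorem L503231 : sm gd N13835 = N20088 := trfs L503221 (flp_d L170744) rfl
theorem L503232 : N20088 = N20108 := eqes L503231 L170900
theorem L503233 : N20108 = N20088 := (eqc rfl L503232 rfl).symm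
theorem L503236 : sm gf N13835 = N21290 := trfs L503221 L181027 rfl
theorem L503237 : N21290 = N20107 := eqes L503236 (flp_f L170898)
theorem L503238 : N21290 = N20107 := eqc rfl L503237 rfl
theorem L503239 : sm gj N13835 = N21185 := trfs L503221 (flp_j L180130) rfl
theorem L503240 : N21185 = N20009 := eqes L503239 (flp_j L170053)
theorem L503241 : N21185 = N20009 := eqc rfl L503240 rfl
theorem L503243 : sm gi N13835 = N21291 := trfs L503221 L181032 rfl
theorem L503244 : N21291 = N20109 := eqes L503243 L170907
theorem L503245 : N21291 = N20109 := eqc rfl L503244 rfl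
theorem L503253 : sm gd N20109 = N29230 := trfs L503245 (flp_d L247837) rfl
theorem L503254 : N29230 = N29260 := eqes L503253 (flp_d L248079)
theorem L503255 : N29260 = N29230 := (eqc rfl L503254 rfl).symm
theorem L503258 : sm gf N20109 = N31021 := trfs L503245 (flp_f L263127) rfl
theorem L503259 : N31021 = N29257 := eqes L503258 (flp_f L248057)
theorem L503260 : N31021 = N29257 := eqc rfl L503259 rfl
theorem L503262 : sm gj N20109 = N30865 := trfs L503245 (flp_j L261800) rfl
theorem L503263 : N30865 = N29109 := eqes L503262 (flp_j L246782)
theorem L503264 : N30865 = N29109 := eqc rfl L503263 rfl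
theorem L503273 : sm gd N29109 = N42381 := trfs L503264 (flp_d L358396) rfl
theorem L503274 : N42381 = N42411 := eqes L503273 (flp_d L358664)
theorem L503275 : N42411 = N42381 := (eqc rfl L503274 rfl).symm
theorem L503276 : sm ge N29109 = N21186 := trfs L503264 L261797 rfl
theorem L503277 : N21186 = N21206 := eqes L503276 L246779
theorem L503278 : N21206 = N21186 := (eqc rfl L503277 rfl).symm
theorem L503283 : sm gh N29109 = N45020 := trfs L503264 L380913 rfl
theorem L503284 : N45020 = N42351 := eqes L503283 (flp_h L358117)
theorem L503285 : N45020 = N42351 := eqc rfl L503284 rfl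
theorem L503292 : sm gi N42351 = N33989 := trfs L503285 L380921 rfl
theorem L503293 : N33989 = N29070 := eqes L503292 (flp_i L358107)
theorem L503294 : N33989 = N29070 := eqc rfl L503293 rfl
theorem L503300 : sm gh N29070 = N23315 := trfs L503294 (flp_h L288369) rfl
theorem L503301 : N23315 = N19983 := eqes L503300 (flp_h L246413)
theorem L503302 : N23315 = N19983 := eqc rfl L503301 rfl
theorem L503319 : sm gi N19983 = N16008 := trfs L503302 (flp_i L198352) rfl
theorem L503320 : N16008 = N13768 := eqes L503319 L169806
theorem L503321 : N16008 = N13768 := eqc rfl L503320 rfl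
theorem L503331 : sm gf N13768 = N23314 := trfs L503321 L198346 rfl
theorem L503332 : N23314 = N20008 := eqes L503331 L170037
theorem L503333 : N23314 = N20008 := eqc rfl L503332 rfl
theorem L503354 : sm gh N20008 = N30864 := trfs L503333 (flp_h L261792) rfl
theorem L503355 : N30864 = N29107 := eqes L503354 L246757
theorem L503356 : N30864 = N29107 := eqc rfl L503355 rfl
theorem L503365 : sm gd N29107 = N42380 := trfs L503356 (flp_d L358389) rfl
theorem L503366 : N42380 = N42407 := eqes L503365 L358624
theorem L503367 : N42407 = N42380 := (eqc rfl L503366 rfl).symm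
theorem L503368 : sm ge N29107 = N45015 := trfs L503356 (flp_e L380880) rfl
theorem L503369 : N45015 = N42404 := eqes L503368 (flp_e L358601)
theorem L503370 : N45015 = N42404 := eqc rfl L503369 rfl
theorem L503381 : sm gf N42404 = N30862 := trfs L503370 (flp_f L380873) rfl
theorem L503382 : N30862 = N30888 := eqes L503381 L358603
theorem L503383 : N30888 = N30862 := (eqc rfl L503382 rfl).symm
theorem L503384 : sm gj N42404 = N31017 := trfs L503370 L380876 rfl
theorem L503385 : N31017 = N29253 := eqes L503384 L358605
theorem L503386 : N31017 = N29253 := eqc rfl L503385 rfl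
theorem L503395 : sm gd N29253 = N45242 := trfs L503386 (flp_d L382780) rfl
theorem L503396 : N45242 = N42625 := eqes L503395 L360488
theorem L503397 : N45242 = N42625 := eqc rfl L503396 rfl
theorem L503404 : sm gh N29253 = N23467 := trfs L503386 L263099 rfl
theorem L503405 : N23467 = N20105 := eqes L503404 (flp_h L248019)
theorem L503406 : N23467 = N20105 := eqc rfl L503405 rfl
theorem L503426 : sm gg N20105 = N34219 := trfs L503406 L290337 rfl
theorem L503427 : N34219 = N29252 := eqes L503426 L248012
theorem L503428 : N34219 = N29252 := eqc rfl L503427 rfl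
theorem L503433 : sm ge N29252 = N23470 := trfs L503428 L290340 rfl
theorem L503434 : N23470 = N20106 := eqes L503433 L248017
theorem L503435 : N23470 = N20106 := eqc rfl L503434 rfl
theorem L503452 : sm gh N20106 = N31020 := trfs L503435 (flp_h L263120) rfl
theorem L503453 : N31020 = N29255 := eqes L503452 L248036
theorem L503454 : N31020 = N29255 := eqc rfl L503453 rfl
theorem L503455 : sm gi N20106 = N34223 := trfs L503435 L290360 rfl
theorem L503456 : N34223 = N29197 := eqes L503455 (flp_i L247558)
theorem L503457 : N34223 = N29197 := eqc rfl L503456 rfl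
theorem L503463 : sm gg N29197 = N23471 := trfs L503457 L290366 rfl
theorem L503464 : N23471 = N20069 := eqes L503463 (flp_g L247552)
theorem L503465 : N23471 = N20069 := eqc rfl L503464 rfl
theorem L503468 : sm gb N20069 = N33379 := trfs L503465 (flp_b L283157) rfl
theorem L503469 : N33379 = N13810 := eqes L503468 L170574
theorem L503470 : N33379 = N13810 := eqc rfl L503469 rfl
theorem L503492 : sm gi N13810 = N22900 := trfs L503470 (flp_i L283155) rfl
theorem L503493 : N22900 = N9538 := eqes L503492 L117689
theorem L503494 : N22900 = N9538 := eqc rfl L503493 rfl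
theorem L503507 : sm gh N9538 = N30470 := trfs L503494 (flp_h L258464) rfl
theorem L503508 : N30470 = N13838 := eqes L503507 L117920
theorem L503509 : N30470 = N13838 := eqc rfl L503508 rfl
theorem L503517 : sm gd N13838 = N42005 := trfs L503509 (flp_d L355050) rfl
theorem L503518 : N42005 = N20115 := eqes L503517 L170961
theorem L503519 : N42005 = N20115 := eqc rfl L503518 rfl
theorem L503522 : sm gg N13838 = N44432 := trfs L503509 L375963 rfl
theorem L503523 : N44432 = N20114 := eqes L503522 (flp_g L170959)
theorem L503524 : N44432 = N20114 := eqc rfl L503523 rfl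
theorem L503532 : sm gf N20114 = N30681 := trfs L503524 L375969 rfl
theorem L503533 : N30681 = N13940 := eqes L503532 L170957
theorem L503534 : N30681 = N13940 := eqc rfl L503533 rfl
theorem L503539 : sm gb N13940 = N21446 := trfs L503534 L260251 rfl
theorem L503540 : N21446 = N20255 := eqes L503539 (flp_b L172134)
theorem L503541 : N21446 = N20255 := eqc rfl L503540 rfl
theorem L503545 : sm gd N13940 = N42161 := trfs L503534 (flp_d L356429) rfl
theorem L503546 : N42161 = N20269 := eqes L503545 L172249
theorem L503547 : N42161 = N20269 := eqc rfl L503546 rfl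
theorem L503560 : sm gi N13940 = N44749 := trfs L503534 L378622 rfl
theorem L503561 : N44749 = N20270 := eqes L503560 L172257
theorem L503562 : N44749 = N20270 := eqc rfl L503561 rfl
theorem L503563 : sm gb N20270 = N31256 := trfs L503562 L378624 rfl
theorem L503564 : N31256 = N29478 := eqes L503563 (flp_b L249903)
theorem L503565 : N31256 = N29478 := eqc rfl L503564 rfl
theorem L503566 : sm gg N20270 = N30682 := trfs L503562 L378626 rfl
theorem L503567 : N30682 = N13942 := eqes L503566 L172263
theorem L503568 : N30682 = N13942 := eqc rfl L503567 rfl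
theorem L503570 : sm gb N13942 = N21447 := trfs L503568 L260257 rfl
theorem L503571 : N21447 = N20257 := eqes L503570 (flp_b L172149)
theorem L503572 : N21447 = N20257 := eqc rfl L503571 rfl
theorem L503576 : sm gd N13942 = N42162 := trfs L503568 (flp_d L356437) rfl
theorem L503577 : N42162 = N20272 := eqes L503576 (flp_d L172277)
theorem L503578 : N42162 = N20272 := eqc rfl L503577 rfl
theorem L503586 : sm gh N13942 = N44750 := trfs L503568 L378628 rfl
theorem L503587 : N44750 = N20207 := eqes L503586 (flp_h L171742)
theorem L503588 : N44750 = N20207 := eqc rfl L503587 rfl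
theorem L503599 : sm gi N20207 = N31559 := trfs L503588 L419579 rfl
theorem L503600 : N31559 = N13899 := eqes L503599 (flp_i L171733)
theorem L503601 : N31559 = N13899 := eqc rfl L503600 rfl
theorem L503620 : sm gh N13899 = N21665 := trfs L503601 L267491 rfl
theorem L503621 : N21665 = N9579 := eqes L503620 (flp_h L118426)
theorem L503622 : N21665 = N9579 := eqc rfl L503621 rfl
theorem L503637 : sm gi N9579 = N15894 := trfs L503622 (flp_i L428273) rfl
theorem L503638 : N15894 = N6630 := eqes L503637 L81878
theorem L503639 : N15894 = N6630 := eqc rfl L503638 rfl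
theorem L503648 : sm ge N6630 = N21666 := trfs L503639 L428267 rfl
theorem L503649 : N21666 = N9605 := eqes L503648 L82090
theorem L503650 : N21666 = N9605 := eqc rfl L503649 rfl
theorem L503664 : sm gd N9605 = N14897 := trfs L503650 L184090 rfl
theorem L503665 : N14897 = N13936 := eqes L503664 L118731
theorem L503666 : N14897 = N13936 := eqc rfl L503665 rfl
theorem L503672 : sm gh N9605 = N30678 := trfs L503650 (flp_h L428233) rfl
theorem L503673 : N30678 = N13938 := eqes L503672 L118749
theorem L503674 : N30678 = N13938 := eqc rfl L503673 rfl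
theorem L503679 : sm gb N13938 = N21443 := trfs L503674 L260224 rfl
theorem L503680 : N21443 = N20253 := eqes L503679 (flp_b L172117)
theorem L503681 : N21443 = N20253 := eqc rfl L503680 rfl
theorem L503689 : sm gf N13938 = N21061 := trfs L503674 (flp_f L260222) rfl
theorem L503690 : N21061 = N10159 := eqes L503689 L118757
theorem L503691 : N21061 = N10159 := eqc rfl L503690 rfl
theorem L503698 : sm gb N10159 = N14730 := trfs L503691 L179082 rfl
theorem L503699 : N14730 = N14756 := eqes L503698 (flp_b L125717)
theorem L503700 : N14756 = N14730 := (eqc rfl L503699 rfl).symm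
theorem L503704 : sm gd N10159 = N30672 := trfs L503691 (flp_d L260177) rfl
theorem L503705 : N30672 = N14769 := eqes L503704 L125821
theorem L503706 : N30672 = N14769 := eqc rfl L503705 rfl
theorem L503707 : sm ge N10159 = N14473 := trfs L503691 (flp_e L179080) rfl
theorem L503708 : N14473 = N7002 := eqes L503707 L86814
theorem L503709 : N14473 = N7002 := eqc rfl L503708 rfl
theorem L503710 : sm gg N10159 = N30676 := trfs L503691 (flp_g L260210) rfl
theorem L503711 : N30676 = N14768 := eqes L503710 (flp_g L125819)
theorem L503712 : N30676 = N14768 := eqc rfl L503711 rfl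
theorem L503715 : sm gi N10159 = N30679 := trfs L503691 L260231 rfl
theorem L503716 : N30679 = N14770 := eqes L503715 L125826
theorem L503717 : N30679 = N14770 := eqc rfl L503716 rfl
theorem L503719 : sm gb N14770 = N21444 := trfs L503717 L260233 rfl
theorem L503720 : N21444 = N21481 := eqes L503719 (flp_b L182549)
theorem L503721 : N21481 = N21444 := (eqc rfl L503720 rfl).symm
theorem L503725 : sm gd N14770 = N44738 := trfs L503717 (flp_d L378535) rfl
theorem L503726 : N44738 = N21505 := eqes L503725 (flp_d L182748)
theorem L503727 : N44738 = N21505 := eqc rfl L503726 rfl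
theorem L503728 : sm ge N14770 = N21062 := trfs L503717 L260235 rfl
theorem L503729 : N21062 = N10163 := eqes L503728 L125832
theorem L503730 : N21062 = N10163 := eqc rfl L503729 rfl
theorem L503732 : sm gg N14770 = N44743 := trfs L503717 (flp_g L378577) rfl
theorem L503733 : N44743 = N21502 := eqes L503732 (flp_g L182728)
theorem L503734 : N44743 = N21502 := eqc rfl L503733 rfl
theorem L503736 : sm gh N14770 = N43421 := trfs L503717 (flp_h L419428) rfl
theorem L503737 : N43421 = N21409 := eqes L503736 (flp_h L181976)
theorem L503738 : N43421 = N21409 := eqc rfl L503737 rfl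
theorem L503744 : sm ge N21409 = N30680 := trfs L503738 L419425 rfl
theorem L503745 : N30680 = N14710 := eqes L503744 L181973
theorem L503746 : N30680 = N14710 := eqc rfl L503745 rfl
theorem L503755 : sm gd N14710 = N21091 := trfs L503746 L260245 L502799
theorem L503756 : N21091 = N21414 := eqes L503755 (flp_d L182019)
theorem L503757 : N21414 = N21091 := (eqc rfl L503756 rfl).symm
theorem L503758 : sm gf N14710 = N21065 := trfs L503746 L260242 rfl
theorem L503759 : N21065 = N10122 := eqes L503758 L125350
theorem L503760 : N21065 = N10122 := eqc rfl L503759 rfl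
theorem L503761 : sm gg N14710 = N44744 := trfs L503746 (flp_g L378583) rfl
theorem L503762 : N44744 = N21412 := eqes L503761 (flp_g L182002)
theorem L503763 : N44744 = N21412 := eqc rfl L503762 rfl
theorem L503766 : sm gi N14710 = N21090 := trfs L503746 L260247 L443535
theorem L503767 : N21090 = N10120 := eqes L503766 (flp_i L125344)
theorem L503768 : N21090 = N10120 := eqc rfl L503767 rfl
theorem L503777 : sm gd N10120 = N14494 := trfs L503768 (flp_d L179315) rfl
theorem L503778 : N14494 = N14709 := eqes L503777 L125334
theorem L503779 : N14709 = N14494 := (eqc rfl L503778 rfl).symm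
theorem L503780 : N30721 = N14706 := L443698.trans L502475
theorem L503782 : sm gf N10120 = N14495 := trfs L503768 L179321 rfl
theorem L503783 : N14495 = N6975 := eqes L503782 L86498
theorem L503784 : N14495 = N6975 := eqc rfl L503783 rfl
theorem L503785 : sm gg N10120 = N30718 := trfs L503768 (flp_g L260550) rfl
theorem L503786 : N30718 = N14708 := eqes L503785 (flp_g L125332)
theorem L503787 : N30718 = N14708 := eqc rfl L503786 rfl
theorem L503789 : sm gh N10120 = N15893 := trfs L503768 L179324 L443513
theorem L503790 : N15893 = N6974 := eqes L503789 (flp_h L86492)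
theorem L503791 : N15893 = N6974 := eqc rfl L503790 rfl
theorem L503792 : N30722 = N14710 := L443546.trans L503746
theorem L503803 : sm ge N6974 = N20466 := trfs L503791 L428364 rfl
theorem L503804 : N20466 = N10118 := eqes L503803 L86473
theorem L503805 : N20466 = N10118 := eqc rfl L503804 rfl
theorem L503815 : sm gi N6974 = N10925 := trfs L503791 (flp_i L135563) rfl
theorem L503816 : N10925 = N4833 := eqes L503815 L59825
theorem L503817 : N10925 = N4833 := eqc rfl L503816 rfl
theorem L503828 : sm gg N4833 = N15890 := trfs L503817 (flp_g L135546) rfl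
theorem L503829 : N15890 = N7001 := eqes L503828 L60037
theorem L503830 : N15890 = N7001 := eqc rfl L503829 rfl
theorem L503840 : sm gd N7001 = N10924 := trfs L503830 (flp_d L135542) rfl
theorem L503841 : N10924 = N5323 := eqes L503840 L60043
theorem L503842 : N10924 = N5323 := eqc rfl L503841 rfl
theorem L503850 : sm gh N7001 = N21059 := trfs L503830 (flp_h L179068) rfl
theorem L503851 : N21059 = N10161 := eqes L503850 L86826
theorem L503852 : N21059 = N10161 := eqc rfl L503851 rfl
theorem L503868 : sm gi N10161 = N30677 := trfs L503852 L260214 rfl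
theorem L503869 : N30677 = N14773 := eqes L503868 L125854
theorem L503870 : N30677 = N14773 := eqc rfl L503869 rfl
theorem L503876 : sm gc N14773 = N44631 := trfs L503870 (flp_c L377586) rfl
theorem L503877 : N44631 = N10172 := eqes L503876 L125858
theorem L503878 : N44631 = N10172 := eqc rfl L503877 rfl
theorem L503896 : sm gg N10172 = N30605 := trfs L503878 L377590 rfl
theorem L503897 : N30605 = N7009 := eqes L503896 L86933
theorem L503898 : N30605 = N7009 := eqc rfl L503897 rfl
theorem L503910 : sm gi N7009 = N21011 := trfs L503898 (flp_i L259570) rfl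
theorem L503911 : N21011 = N4837 := eqes L503910 (flp_i L60104)
theorem L503912 : N21011 = N4837 := eqc rfl L503911 rfl
theorem L503918 : sm gf N4837 = N14442 := trfs L503912 L178633 rfl
theorem L503919 : N14442 = N3345 := eqes L503918 L41661
theorem L503920 : N14442 = N3345 := eqc rfl L503919 rfl
theorem L503926 : sm gc N3345 = N9964 := trfs L503920 L123106 rfl
theorem L503927 : N9964 = N4834 := eqes L503926 (flp_c L41638)
theorem L503928 : N9964 = N4834 := eqc rfl L503927 rfl
theorem L503937 : sm gh N3345 = N10894 := trfs L503920 L123108 rfl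
theorem L503938 : N10894 = N2318 := eqes L503937 (flp_h L28951)
theorem L503939 : N10894 = N2318 := eqc rfl L503938 rfl
theorem L503955 : sm gi N2318 = N15845 := trfs L503939 L135129 rfl
theorem L503956 : N15845 = N3332 := eqes L503955 (flp_i L28848)
theorem L503957 : N15845 = N3332 := eqc rfl L503956 rfl
theorem L503971 : sm gh N3332 = N23074 := trfs L503957 L196246 rfl
theorem L503972 : N23074 = N4818 := eqes L503971 L41503
theorem L503973 : N23074 = N4818 := eqc rfl L503972 rfl
theorem L503992 : sm gi N4818 = N30608 := trfs L503973 (flp_i L259605) rfl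
theorem L503993 : N30608 = N6979 := eqes L503992 L59862
theorem L503994 : N30608 = N6979 := eqc rfl L503993 rfl
theorem L504005 : sm gg N6979 = N44359 := trfs L503994 (flp_g L375328) rfl
theorem L504006 : N44359 = N10061 := eqes L504005 (flp_g L86030)
theorem L504007 : N44359 = N10061 := eqc rfl L504006 rfl
theorem L504011 : sm gc N10061 = N30472 := trfs L504007 L375326 rfl
theorem L504012 : N30472 = N14614 := eqes L504011 (flp_c L124578)
theorem L504013 : N30472 = N14614 := eqc rfl L504012 rfl
theorem L504015 : sm gh N10061 = N30421 := trfs L504007 (flp_h L375323) rfl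
theorem L504016 : N30421 = N6954 := eqes L504015 L86032
theorem L504017 : N30421 = N6954 := eqc rfl L504016 rfl
theorem L504032 : sm gj N6954 = N44172 := trfs L504017 (flp_j L373628) rfl
theorem L504033 : N44172 = N10036 := eqes L504032 (flp_j L85822)
theorem L504034 : N44172 = N10036 := eqc rfl L504033 rfl
theorem L504042 : sm gi N10036 = N30296 := trfs L504034 (flp_i L373620) rfl
theorem L504043 : N30296 = N6918 := eqes L504042 (flp_i L85814)
theorem L504044 : N30296 = N6918 := eqc rfl L504043 rfl
theorem L504047 : sm gc N6918 = N20828 := trfs L504044 L256885 rfl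
theorem L504048 : N20828 = N10032 := eqes L504047 (flp_c L85782)
theorem L504049 : N20828 = N10032 := eqc rfl L504048 rfl
theorem L504059 : sm gh N6918 = N22701 := trfs L504044 L256887 rfl
theorem L504060 : N22701 = N4778 := eqes L504059 (flp_h L59365)
theorem L504061 : N22701 = N4778 := eqc rfl L504060 rfl
theorem L504076 : sm gi N4778 = N33082 := trfs L504061 L280471 rfl
theorem L504077 : N33082 = N6905 := eqes L504076 (flp_i L59249)
theorem L504078 : N33082 = N6905 := eqc rfl L504077 rfl
theorem L504080 : sm gc N6905 = N22735 := trfs L504078 L280474 rfl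
theorem L504081 : N22735 = N10014 := eqes L504080 L85608
theorem L504082 : N22735 = N10014 := eqc rfl L504081 rfl
theorem L504091 : sm gf N10014 = N33130 := trfs L504082 (flp_f L280950) rfl
theorem L504092 : N33130 = N14548 := eqes L504091 L123989
theorem L504093 : N33130 = N14548 := eqc rfl L504092 rfl
theorem L504104 : sm gi N14548 = N22732 := trfs L504093 (flp_i L280944) rfl
theorem L504105 : N22732 = N10031 := eqes L504104 L123999
theorem L504106 : N22732 = N10031 := eqc rfl L504105 rfl
theorem L504119 : sm gh N10031 = N30327 := trfs L504106 (flp_h L257191) rfl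
theorem L504120 : N30327 = N14576 := eqes L504119 L124246
theorem L504121 : N30327 = N14576 := eqc rfl L504120 rfl
theorem L504132 : sm gg N14576 = N44217 := trfs L504121 (flp_g L374065) rfl
theorem L504133 : N44217 = N21211 := eqes L504132 (flp_g L180359)
theorem L504134 : N44217 = N21211 := eqc rfl L504133 rfl
theorem L504145 : sm gb N21211 = N30860 := trfs L504134 L374062 rfl
theorem L504146 : N30860 = N30890 := eqes L504145 (flp_b L262009)
theorem L504147 : N30890 = N30860 := (eqc rfl L504146 rfl).symm
theorem L504152 : sm ga N30860 = N44247 := trfs L504147 (flp_a L374326) rfl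
theorem L504153 : N44247 = N44983 := eqes L504152 (flp_a L380588)
theorem L504154 : N44983 = N44247 := (eqc rfl L504153 rfl).symm
theorem L504155 : sm gb N30860 = N21211 := trfs L504147 L262009 rfl
theorem L504161 : sm ge N30860 = N45051 := trfs L504147 (flp_e L381174) rfl
theorem L504162 : N45051 = N45013 := eqes L504161 L380858
theorem L504163 : N45051 = N45013 := eqc rfl L504162 rfl
theorem L504166 : sm gj N30860 = N45054 := trfs L504147 (flp_j L381201) rfl
theorem L504167 : N45054 = N45011 := eqes L504166 (flp_j L380842)
theorem L504168 : N45054 = N45011 := eqc rfl L504167 rfl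
theorem L504169 : sm gh N30860 = N21203 := trfs L504147 (flp_h L262007) rfl
theorem L504170 : N21203 = N23310 := eqes L504169 L261760
theorem L504171 : N23310 = N21203 := (eqc rfl L504170 rfl).symm
theorem L504172 : sm gi N30860 = N45056 := trfs L504147 L381212 rfl
theorem L504173 : N45056 = N45014 := eqes L504172 L380865
theorem L504174 : N45056 = N45014 := eqc rfl L504173 rfl
theorem L504175 : sm gb N45014 = N30905 := trfs L504174 L381214 rfl
theorem L504195 : sm gh N21203 = N30860 := trfs L504171 (flp_h L261760) rfl
theorem L504197 : sm gi N21203 = N33983 := trfs L504171 L288325 rfl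
theorem L504198 : N33983 = N30832 := eqes L504197 (flp_i L261491)
theorem L504199 : N33983 = N30832 := eqc rfl L504198 rfl
theorem L504201 : sm gd N30832 = N22760 := trfs L504199 L288328 L455947
theorem L504202 : N22760 = N23282 := eqes L504201 L261489
theorem L504203 : N23282 = N22760 := (eqc rfl L504202 rfl).symm
theorem L504206 : sm ga N22760 = N33099 := trfs L504203 (flp_a L280635) rfl
theorem L504207 : N33099 = N15648 := eqes L504206 L193517
theorem L504208 : N33099 = N15648 := eqc rfl L504207 rfl
theorem L504209 : sm gb N22760 = N15992 := trfs L504203 L198044 rfl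
theorem L504210 : N15992 = N33157 := eqes L504209 (flp_b L281202)
theorem L504211 : N33157 = N15992 := (eqc rfl L504210 rfl).symm
theorem L504213 : sm gd N22760 = N30832 := trfs L504203 (flp_d L261489) rfl
theorem L504214 : N30832 = N33171 := eqes L504213 L281332
theorem L504215 : N33171 = N30832 := (eqc rfl L504214 rfl).symm
theorem L504220 : sm gh N22760 = N33938 := trfs L504203 L287912 rfl
theorem L504221 : N33938 = N15635 := eqes L504220 (flp_h L193515)
theorem L504222 : N33938 = N15635 := eqc rfl L504221 rfl
theorem L504225 : sm gb N15635 = N23290 := trfs L504222 L287914 rfl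
theorem L504226 : N23290 = N22752 := eqes L504225 (flp_b L193442)
theorem L504227 : N23290 = N22752 := eqc rfl L504226 rfl
theorem L504240 : sm gj N22752 = N33951 := trfs L504227 (flp_j L288044) rfl
theorem L504241 : N33951 = N33156 := eqes L504240 L281187
theorem L504242 : N33951 = N33156 := eqc rfl L504241 rfl
theorem L504245 : sm gi N22752 = N33953 := trfs L504227 L288054 rfl
theorem L504246 : N33953 = N33099 := eqes L504245 (flp_i L280641)
theorem L504247 : N33953 = N15648 := eqc rfl L504246 L504208
theorem L504252 : sm gh N15648 = N23355 := trfs L504247 L288063 rfl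
theorem L504253 : N23355 = N10763 := eqes L504252 (flp_h L133408)
theorem L504254 : N23355 = N10763 := eqc rfl L504253 rfl
theorem L504267 : sm gi N10763 = N16034 := trfs L504254 (flp_i L198718) rfl
theorem L504268 : N16034 = N15616 := eqes L504267 (flp_i L133105)
theorem L504269 : N16034 = N15616 := eqc rfl L504268 rfl
theorem L504279 : sm gh N15616 = N11024 := trfs L504269 (flp_h L136808) rfl
theorem L504280 : N11024 = N22731 := eqes L504279 L193237
theorem L504281 : N22731 = N11024 := (eqc rfl L504280 rfl).symm
theorem L504290 : sm gj N11024 = N33126 := trfs L504281 (flp_j L280918) rfl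
theorem L504291 : N33126 = N16033 := eqes L504290 L136799
theorem L504292 : N33126 = N16033 := eqc rfl L504291 rfl
theorem L504293 : sm gh N11024 = N15616 := trfs L504281 (flp_h L193237) rfl
theorem L504295 : sm gi N11024 = N33128 := trfs L504281 L280927 rfl
theorem L504296 : N33128 = N15992 := eqes L504295 (flp_i L136420)
theorem L504297 : N33128 = N15992 := eqc rfl L504296 rfl
theorem L504304 : sm gh N15992 = N22781 := trfs L504297 L280936 rfl
theorem L504306 : sm gb N16033 = N23309 := trfs L504292 L280911 rfl
theorem L504307 : N23309 = N23339 := eqes L504306 (flp_b L198577)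
theorem L504308 : N23339 = N23309 := (eqc rfl L504307 rfl).symm
theorem L504329 : sm gh N23309 = N34023 := trfs L504308 L288676 rfl
theorem L504330 : N34023 = N16004 := eqes L504329 (flp_h L198308)
theorem L504331 : N34023 = N16004 := eqc rfl L504330 rfl
theorem L504335 : sm gc N16004 = N26254 := trfs L504331 L288680 rfl
theorem L504336 : N26254 = N11011 := eqes L504335 L136538
theorem L504337 : N26254 = N11011 := eqc rfl L504336 rfl
theorem L504353 : sm gj N11011 = N18030 := trfs L504337 L222753 rfl
theorem L504354 : N18030 = N7582 := eqes L504353 (flp_j L94220)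
theorem L504355 : N18030 = N7582 := eqc rfl L504354 rfl
theorem L504393 : sm gh N7582 = N12390 := trfs L504355 (flp_h L153392) rfl
theorem L504394 : N12390 = N11012 := eqes L504393 L94231
theorem L504395 : N12390 = N11012 := eqc rfl L504394 rfl
theorem L504409 : sm gi N11012 = N15642 := trfs L504395 (flp_i L152887) L444234
theorem L504410 : N15642 = N16016 := eqes L504409 L136642
theorem L504411 : N16016 = N15642 := (eqc rfl L504410 rfl).symm
theorem L504420 : sm gj N15642 = N23324 := trfs L504411 (flp_j L198440) rfl
theorem L504421 : N23324 = N22770 := eqes L504420 (flp_j L193620)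
theorem L504422 : N23324 = N22770 := eqc rfl L504421 rfl
theorem L504436 : sm gg N22770 = N16123 := trfs L504422 L198438 rfl
theorem L504437 : N16123 = N15764 := eqes L504436 L193618
theorem L504438 : N16123 = N15764 := eqc rfl L504437 rfl
theorem L504453 : sm gi N15764 = N11083 := trfs L504438 (flp_i L137584) rfl
theorem L504454 : N11083 = N22954 := eqes L504453 L195236
theorem L504455 : N12502 = N11083 := (eqc rfl L504454 L444304).symm
theorem L504456 : sm ga N11083 = N17590 := trfs L504455 (flp_a L149764) rfl
theorem L504457 : N17590 = N16099 := eqes L504456 (flp_a L137401)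
theorem L504458 : N17590 = N15788 := eqc rfl L504457 L457943
theorem L504472 : sm ge N15788 = N25605 := trfs L504458 (flp_e L217371) rfl
theorem L504473 : N25605 = N22983 := eqes L504472 (flp_e L195470)
theorem L504474 : N25605 = N22983 := eqc rfl L504473 rfl
theorem L504500 : sm gi N22983 = N37200 := trfs L504474 (flp_i L314962) rfl
theorem L504501 : N37200 = N15783 := eqes L504500 (flp_i L195466)
theorem L504502 : N37200 = N15783 := eqc rfl L504501 rfl
theorem L504506 : sm gj N15783 = N25521 := trfs L504502 (flp_j L314954) rfl
theorem L504507 : N25521 = N10854 := eqes L504506 L134603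
theorem L504508 : N25521 = N10854 := eqc rfl L504507 rfl
theorem L504520 : sm gh N10854 = N37201 := trfs L504508 L314964 rfl
theorem L504521 : N37201 = N7476 := eqes L504520 (flp_h L92835)
theorem L504522 : N37201 = N7476 := eqc rfl L504521 rfl
theorem L504528 : sm gg N7476 = N25522 := trfs L504522 L314972 rfl
theorem L504529 : N25522 = N5158 := eqes L504528 (flp_g L64178)
theorem L504530 : N25522 = N5158 := eqc rfl L504529 rfl
theorem L504548 : sm gi N5158 = N37203 := trfs L504530 L314981 rfl
theorem L504549 : N37203 = N7453 := eqes L504548 (flp_i L63983)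
theorem L504550 : N37203 = N7453 := eqc rfl L504549 rfl
theorem L504560 : sm gh N7453 = N25608 := trfs L504550 L314990 rfl
theorem L504561 : N25608 = N5273 := eqes L504560 (flp_h L472225)
theorem L504562 : N25608 = N5273 := eqc rfl L504561 rfl
theorem L504580 : sm gi N5273 = N17589 := trfs L504562 (flp_i L217390) rfl
theorem L504581 : N17589 = N7619 := eqes L504580 (flp_i L65452)
theorem L504582 : N17589 = N7619 := eqc rfl L504581 rfl
theorem L504598 : sm gj N7619 = N25325 := trfs L504582 (flp_j L215061) rfl
theorem L504599 : N25325 = N10999 := eqes L504598 (flp_j L94108)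
theorem L504600 : N25325 = N10999 := eqc rfl L504599 rfl
theorem L504601 : sm gh N7619 = N12093 := trfs L504582 (flp_h L149753) rfl
theorem L504602 : N12093 = N10856 := eqes L504601 (flp_h L472266)
theorem L504603 : N12093 = N10856 := eqc rfl L504602 rfl
theorem L504607 : sm gc N10856 = N15745 := trfs L504603 (flp_c L134282) rfl
theorem L504608 : N15745 = N15772 := eqes L504607 (flp_c L134509)
theorem L504609 : N15772 = N15745 := (eqc rfl L504608 rfl).symm
theorem L504614 : sm gj N10856 = N17400 := trfs L504603 (flp_j L148193) rfl
theorem L504615 : N17400 = N15657 := eqes L504614 (flp_j L133492)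
theorem L504616 : N17400 = N15657 := eqc rfl L504615 rfl
theorem L504631 : sm gi N15657 = N25268 := trfs L504616 (flp_i L214537) rfl
theorem L504632 : N25268 = N10768 := eqes L504631 (flp_i L133485)
theorem L504633 : N25268 = N10768 := eqc rfl L504632 rfl
theorem L504636 : sm gc N10768 = N33098 := trfs L504633 (flp_c L280626) rfl
theorem L504637 : N33098 = N15646 := eqes L504636 (flp_c L133392)
theorem L504638 : N33098 = N15646 := eqc rfl L504637 rfl
theorem L504645 : sm ga N15646 = N23281 := trfs L504638 L280622 rfl
theorem L504646 : N23281 = N22758 := eqes L504645 (flp_a L193497)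
theorem L504647 : N23281 = N22758 := eqc rfl L504646 rfl
theorem L504666 : sm gb N22758 = N15991 := trfs L504647 L198033 rfl
theorem L504667 : N15991 = N33155 := eqes L504666 (flp_b L281178)
theorem L504668 : N33155 = N15991 := (eqc rfl L504667 rfl).symm
theorem L504677 : sm gh N22758 = N33936 := trfs L504647 L287890 rfl
theorem L504678 : N33936 = N15634 := eqes L504677 (flp_h L193495)
theorem L504679 : N33936 = N15634 := eqc rfl L504678 rfl
theorem L504688 : sm gj N15634 = N23419 := trfs L504679 L287899 rfl
theorem L504689 : N23419 = N10833 := eqes L504688 L133284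
theorem L504690 : N23419 = N10833 := eqc rfl L504689 rfl
theorem L504692 : N16087 = N15745 := L472256.trans L504609
theorem L504704 : sm gi N10833 = N34144 := trfs L504690 L289735 rfl
theorem L504705 : N34144 = N15711 := eqes L504704 (flp_i L133976)
theorem L504706 : N34144 = N7655 := eqc rfl L504705 L455820
theorem L504713 : sm gh N7655 = N23505 := trfs L504706 L289744 rfl
theorem L504714 : N23505 = N5278 := eqes L504713 (flp_h L65758)
theorem L504715 : N23505 = N5278 := eqc rfl L504714 rfl
theorem L504729 : sm gi N5278 = N16137 := trfs L504715 (flp_i L199988) rfl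
theorem L504730 : N16137 = N7624 := eqes L504729 (flp_i L65505)
theorem L504731 : N16137 = N7624 := eqc rfl L504730 rfl
theorem L504742 : sm gh N7624 = N11093 := trfs L504731 (flp_h L137704) rfl
theorem L504743 : N11093 = N11071 := eqes L504742 L94771
theorem L504744 : N11093 = N11071 := eqc rfl L504743 rfl
theorem L504750 : sm gd N11071 = N16135 := trfs L504744 L137691 rfl
theorem L504751 : N16135 = N16106 := eqes L504750 L137459
theorem L504752 : N16135 = N16106 := eqc rfl L504751 rfl
theorem L504761 : sm gb N16106 = N11098 := trfs L504752 L137693 rfl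
theorem L504762 : N11098 = N22893 := eqes L504761 (flp_b L194717)
theorem L504763 : N22893 = N11098 := (eqc rfl L504762 rfl).symm
theorem L504767 : sm ge N16106 = N21312 := trfs L504752 (flp_e L181199) rfl
theorem L504768 : N21312 = N23461 := eqes L504767 L199649
theorem L504769 : N23461 = N21312 := (eqc rfl L504768 rfl).symm
theorem L504774 : sm gj N16106 = N23336 := trfs L504752 (flp_j L198554) rfl
theorem L504775 : N23336 = N23307 := eqes L504774 (flp_j L198295)
theorem L504776 : N23336 = N23307 := eqc rfl L504775 rfl
theorem L504777 : sm gh N16106 = N23500 := trfs L504752 L199951 rfl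
theorem L504778 : N23500 = N23453 := eqes L504777 (flp_h L199595)
theorem L504779 : N23500 = N23453 := eqc rfl L504778 rfl
theorem L504782 : sm ga N23453 = N33408 := trfs L504779 (flp_a L283388) rfl
theorem L504783 : N33408 = N34159 := eqes L504782 (flp_a L289861)
theorem L504784 : N34159 = N33408 := (eqc rfl L504783 rfl).symm
theorem L504785 : sm gb N23453 = N16146 := trfs L504779 L199953 rfl
theorem L504786 : N16146 = N33361 := eqes L504785 (flp_b L283011)
theorem L504787 : N33361 = N16146 := (eqc rfl L504786 rfl).symm
theorem L504788 : sm gc N23453 = N34260 := trfs L504779 (flp_c L290671) rfl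
theorem L504789 : N34260 = N34196 := eqes L504788 L290187
theorem L504790 : N34260 = N34196 := eqc rfl L504789 rfl
theorem L504794 : sm ge N23453 = N31050 := trfs L504779 (flp_e L263345) rfl
theorem L504795 : N31050 = N34197 := eqes L504794 L290193
theorem L504796 : N34197 = N31050 := (eqc rfl L504795 rfl).symm
theorem L504798 : sm gg N23453 = N34263 := trfs L504779 (flp_g L290691) rfl
theorem L504799 : N34263 = N34194 := eqes L504798 (flp_g L290176)
theorem L504800 : N34263 = N34194 := eqc rfl L504799 rfl
theorem L504804 : sm gi N23453 = N34265 := trfs L504779 L290700 rfl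
theorem L504805 : N34265 = N34198 := eqes L504804 L290197
theorem L504806 : N34265 = N34198 := eqc rfl L504805 rfl
theorem L504807 : sm gb N34198 = N23521 := trfs L504806 L290702 rfl
theorem L504809 : sm ge N34198 = N45296 := trfs L504806 (flp_e L383179) rfl
theorem L504818 : sm gb N34194 = N23519 := trfs L504800 L290689 rfl
theorem L504823 : sm gd N31050 = N45228 := trfs L504796 (flp_d L382693) rfl
theorem L504824 : N45228 = N45295 := eqes L504823 L383169
theorem L504825 : N45295 = N45228 := (eqc rfl L504824 rfl).symm
theorem L504826 : sm ge N31050 = N23453 := trfs L504796 (flp_e L290193) rfl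
theorem L504829 : sm gb N45228 = N31070 := trfs L504825 L383171 rfl
theorem L504831 : sm gd N45228 = N31050 := trfs L504825 (flp_d L383169) rfl
theorem L504833 : sm gh N45228 = N31054 := trfs L504825 L383173 rfl
theorem L504834 : N31054 = N31011 := eqes L504833 L382691
theorem L504835 : N31054 = N31011 := eqc rfl L504834 rfl
theorem L504836 : sm ga N31011 = N44466 := trfs L504835 (flp_a L376219) rfl
theorem L504837 : N44466 = N45198 := eqes L504836 (flp_a L382433)
theorem L504838 : N45198 = N44466 := (eqc rfl L504837 rfl).symm
theorem L504839 : sm gb N31011 = N21327 := trfs L504835 L263372 rfl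
theorem L504840 : N21327 = N44423 := eqes L504839 (flp_b L375889)
theorem L504841 : N44423 = N21327 := (eqc rfl L504840 rfl).symm
theorem L504851 : sm gg N31011 = N45300 := trfs L504835 (flp_g L383212) rfl
theorem L504852 : N45300 = N45237 := eqes L504851 (flp_g L382753)
theorem L504853 : N45300 = N45237 := eqc rfl L504852 rfl
theorem L504854 : sm gj N31011 = N45052 := trfs L504835 (flp_j L381182) rfl
theorem L504855 : N45052 = N45009 := eqes L504854 (flp_j L380827)
theorem L504856 : N45052 = N45009 := eqc rfl L504855 rfl
theorem L504857 : sm gi N31011 = N45304 := trfs L504835 L383232 rfl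
theorem L504858 : N45304 = N45243 := eqes L504857 L382782
theorem L504859 : N45304 = N45243 := eqc rfl L504858 rfl
theorem L504860 : sm gb N45243 = N31079 := trfs L504859 L383234 rfl
theorem L504863 : sm gb N45009 = N30901 := trfs L504856 L381180 rfl
theorem L504866 : sm gb N45237 = N31075 := trfs L504853 L383210 rfl
theorem L504868 : sm gd N45237 = N31053 := trfs L504853 (flp_d L383208) rfl
theorem L504869 : N31053 = N31015 := eqes L504868 L382755
theorem L504870 : N31053 = N31015 := eqc rfl L504869 rfl
theorem L504871 : sm ga N31015 = N44465 := trfs L504870 (flp_a L376208) rfl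
theorem L504872 : N44465 = N45202 := eqes L504871 (flp_a L382468)
theorem L504873 : N45202 = N44465 := (eqc rfl L504872 rfl).symm
theorem L504874 : sm gb N31015 = N21326 := trfs L504870 L263363 rfl
theorem L504875 : N21326 = N44427 := eqes L504874 (flp_b L375923)
theorem L504876 : N44427 = N21326 := (eqc rfl L504875 rfl).symm
theorem L504879 : sm gf N31015 = N45298 := trfs L504870 (flp_f L383197) rfl
theorem L504880 : N45298 = N45247 := eqes L504879 L382808
theorem L504881 : N45298 = N45247 := eqc rfl L504880 rfl
theorem L504883 : sm gj N31015 = N45299 := trfs L504870 (flp_j L383206) rfl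
theorem L504884 : N45299 = N45245 := eqes L504883 (flp_j L382795)
theorem L504885 : N45299 = N45245 := eqc rfl L504884 rfl
theorem L504886 : sm gh N31015 = N21313 := trfs L504870 (flp_h L263361) rfl
theorem L504887 : N21313 = N23465 := eqes L504886 L263085
theorem L504888 : N23465 = N21313 := (eqc rfl L504887 rfl).symm
theorem L504889 : sm gi N31015 = N45301 := trfs L504870 L383214 rfl
theorem L504890 : N45301 = N45248 := eqes L504889 L382815
theorem L504891 : N45301 = N45248 := eqc rfl L504890 rfl
theorem L504892 : sm gb N45248 = N31076 := trfs L504891 L383216 rfl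
theorem L504908 : sm gf N21313 = N34216 := trfs L504888 L290316 rfl
theorem L504909 : N34216 = N31051 := eqes L504908 L263347
theorem L504910 : N34216 = N31051 := eqc rfl L504909 rfl
theorem L504915 : sm gh N21313 = N31015 := trfs L504888 (flp_h L263085) rfl
theorem L504924 : sm ge N31051 = N23694 := trfs L504910 L290319 rfl
theorem L504925 : N23694 = N21477 := eqes L504924 L263352
theorem L504926 : N23694 = N21477 := eqc rfl L504925 rfl
theorem L504939 : sm gf N21477 = N16263 := trfs L504926 (flp_f L201521) rfl
theorem L504940 : N16263 = N14755 := eqes L504939 (flp_f L182520)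
theorem L504941 : N16263 = N14755 := eqc rfl L504940 rfl
theorem L504945 : sm gj N21477 = N34549 := trfs L504926 (flp_j L292967) rfl
theorem L504946 : N34549 = N31299 := eqes L504945 L265319
theorem L504947 : N34549 = N31299 := eqc rfl L504946 rfl
theorem L504948 : sm gh N21477 = N31249 := trfs L504926 (flp_h L264926) rfl
theorem L504949 : N31249 = N31300 := eqes L504948 L265326
theorem L504950 : N31300 = N31249 := (eqc rfl L504949 rfl).symm
theorem L504951 : sm gi N21477 = N34553 := trfs L504926 L292990 rfl
theorem L504952 : N34553 = N31173 := eqes L504951 (flp_i L264301)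
theorem L504953 : N34553 = N31173 := eqc rfl L504952 rfl
theorem L504955 : sm gf N31173 = N23695 := trfs L504953 L292993 rfl
theorem L504956 : N23695 = N21394 := eqes L504955 (flp_f L264296)
theorem L504957 : N23695 = N21394 := eqc rfl L504956 rfl
theorem L504961 : sm gb N21394 = N29794 := trfs L504957 L428193 rfl
theorem L504962 : N29794 = N14705 := eqes L504961 L181840
theorem L504963 : N29794 = N14705 := eqc rfl L504962 rfl
theorem L504965 : sm gd N21394 = N29822 := trfs L504957 L428196 rfl
theorem L504966 : N29822 = N31171 := eqes L504965 (flp_d L264283)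
theorem L504967 : N31171 = N29822 := (eqc rfl L504966 rfl).symm
theorem L504971 : sm gg N21394 = N16266 := trfs L504957 L201529 rfl
theorem L504972 : N16266 = N14699 := eqes L504971 (flp_g L181838)
theorem L504973 : N16266 = N14699 := eqc rfl L504972 rfl
theorem L504977 : sm gh N21394 = N34554 := trfs L504957 L292995 rfl
theorem L504978 : N34554 = N30743 := eqes L504977 L502530
theorem L504979 : N34554 = N30743 := eqc rfl L504978 rfl
theorem L504986 : sm gi N30743 = N45598 := trfs L504979 (flp_i L385565) rfl
theorem L504987 : N45598 = N44844 := eqes L504986 L379422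
theorem L504988 : N45598 = N44844 := eqc rfl L504987 rfl
theorem L504991 : sm gg N44844 = N31254 := trfs L504988 L385563 rfl
theorem L504992 : N31254 = N30746 := eqes L504991 L379429
theorem L504993 : N31254 = N30746 := eqc rfl L504992 rfl
theorem L504994 : sm gh N44844 = N31250 := trfs L504988 (flp_h L385558) rfl
theorem L505006 : sm gf N30746 = N45601 := trfs L504993 (flp_f L385587) rfl
theorem L505007 : N45601 = N44847 := eqes L505006 (flp_f L379456)
theorem L505008 : N45601 = N42829 := eqc rfl L505007 L502133
theorem L505020 : sm gi N42829 = N31558 := trfs L505008 L419455 rfl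
theorem L505021 : N31558 = N29389 := eqes L505020 (flp_i L362201)
theorem L505022 : N31558 = N29389 := eqc rfl L505021 rfl
theorem L505028 : sm gd N29389 = N45563 := trfs L505022 (flp_d L385331) rfl
theorem L505029 : N45563 = N42828 := eqes L505028 L362194
theorem L505030 : N45563 = N42828 := eqc rfl L505029 rfl
theorem L505039 : sm gh N29389 = N21664 := trfs L505022 L267483 rfl
theorem L505040 : N21664 = N20196 := eqes L505039 (flp_h L249161)
theorem L505041 : N21664 = N20196 := eqc rfl L505040 rfl
theorem L505042 : sm ga N20196 = N31579 := trfs L505041 L267633 rfl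
theorem L505043 : N31579 = N28908 := eqes L505042 (flp_a L244949)
theorem L505044 : N31579 = N15966 := eqc rfl L505043 L501421
theorem L505047 : sm gd N20196 = N14896 := trfs L505041 L184076 rfl
theorem L505048 : N14896 = N29387 := eqes L505047 L249142
theorem L505049 : N29387 = N14896 := (eqc rfl L505048 rfl).symm
theorem L505052 : sm gg N20196 = N31573 := trfs L505041 (flp_g L267594) rfl
theorem L505053 : N31573 = N29388 := eqes L505052 L249152
theorem L505054 : N31573 = N29388 := eqc rfl L505053 rfl
theorem L505057 : sm ga N29388 = N46080 := trfs L505054 L389517 rfl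
theorem L505058 : N46080 = N23256 := eqes L505057 L502367
theorem L505059 : N46080 = N23256 := eqc rfl L505058 rfl
theorem L505060 : sm gb N29388 = N21661 := trfs L505054 (flp_b L267590) rfl
theorem L505061 : N21661 = N20202 := eqes L505060 L249154
theorem L505062 : N21661 = N20202 := eqc rfl L505061 rfl
theorem L505064 : sm gd N29388 = N21686 := trfs L505054 L267592 rfl
theorem L505065 : N21686 = N42823 := eqes L505064 (flp_d L362153)
theorem L505066 : N42823 = N21686 := (eqc rfl L505065 rfl).symm
theorem L505068 : sm gf N29388 = N46068 := trfs L505054 (flp_f L389433) rfl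
theorem L505069 : N46068 = N42825 := eqes L505068 L362166
theorem L505070 : N46068 = N42825 := eqc rfl L505069 rfl
theorem L505071 : sm gj N29388 = N46074 := trfs L505054 (flp_j L389472) rfl
theorem L505072 : N46074 = N42826 := eqes L505071 L362175
theorem L505073 : N46074 = N42826 := eqc rfl L505072 rfl
theorem L505075 : sm gi N29388 = N23697 := trfs L505054 L428118 rfl
theorem L505076 : N23697 = N20252 := eqes L505075 L249159
theorem L505077 : N23697 = N20252 := eqc rfl L505076 rfl
theorem L505083 : sm gd N20252 = N31609 := trfs L505077 (flp_d L419514) rfl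
theorem L505084 : N31609 = N29469 := eqes L505083 (flp_d L249834)
theorem L505085 : N31609 = N29469 := eqc rfl L505084 rfl
theorem L505092 : sm gh N20252 = N31252 := trfs L505077 (flp_h L264949) rfl
theorem L505093 : N31252 = N29473 := eqes L505092 L249860
theorem L505094 : N31252 = N29473 := eqc rfl L505093 rfl
theorem L505108 : sm gj N29473 = N45599 := trfs L505094 L385567 rfl
theorem L505109 : N45599 = N42953 := eqes L505108 (flp_j L363239)
theorem L505110 : N45599 = N42953 := eqc rfl L505109 rfl
theorem L505118 : sm ge N42953 = N31255 := trfs L505110 L385570 rfl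
theorem L505119 : N31255 = N29476 := eqes L505118 L363236
theorem L505120 : N31255 = N29476 := eqc rfl L505119 rfl
theorem L505128 : sm gd N29476 = N42907 := trfs L505120 (flp_d L362848) rfl
theorem L505129 : N42907 = N42959 := eqes L505128 L363278
theorem L505130 : N42959 = N42907 := (eqc rfl L505129 rfl).symm
theorem L505136 : sm gh N29476 = N23700 := trfs L505120 L264970 rfl
theorem L505137 : N23700 = N20254 := eqes L505136 (flp_h L249886)
theorem L505138 : N23700 = N20254 := eqc rfl L505137 rfl
theorem L505145 : sm ga N20254 = N34492 := trfs L505138 (flp_a L292519) rfl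
theorem L505146 : N34492 = N28966 := eqes L505145 (flp_a L245509)
theorem L505147 : N34492 = N28966 := eqc rfl L505146 rfl
theorem L505171 : sm gj N28966 = N23655 := trfs L505147 (flp_j L292517) rfl
theorem L505172 : N23655 = N19913 := eqes L505171 (flp_j L245507)
theorem L505173 : N23655 = N19913 := eqc rfl L505172 rfl
theorem L505186 : sm gh N19913 = N31209 := trfs L505173 (flp_h L264618) rfl
theorem L505187 : N31209 = N28967 := eqes L505186 L245516
theorem L505188 : N31209 = N28967 := eqc rfl L505187 rfl
theorem L505196 : sm gd N28967 = N42861 := trfs L505188 (flp_d L362487) rfl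
theorem L505197 : N42861 = N42198 := eqes L505196 L356772
theorem L505198 : N42861 = N42198 := eqc rfl L505197 rfl
theorem L505207 : sm gi N28967 = N45535 := trfs L505188 L385083 rfl
theorem L505208 : N45535 = N42199 := eqes L505207 L356781
theorem L505209 : N45535 = N42199 := eqc rfl L505208 rfl
theorem L505212 : sm gg N42199 = N31210 := trfs L505209 L385088 rfl
theorem L505213 : N31210 = N28969 := eqes L505212 L356788
theorem L505214 : N31210 = N28969 := eqc rfl L505213 rfl
theorem L505220 : sm gd N28969 = N42862 := trfs L505214 (flp_d L362494) rfl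
theorem L505221 : N42862 = N42202 := eqes L505220 (flp_d L356813)
theorem L505222 : N42862 = N42202 := eqc rfl L505221 rfl
theorem L505230 : sm gh N28969 = N45536 := trfs L505214 L385090 rfl
theorem L505231 : N45536 = N42114 := eqes L505230 (flp_h L355986)
theorem L505232 : N45536 = N21139 := eqc rfl L505231 L502123
theorem L505238 : sm gf N21139 = N28912 := trfs L505232 L385095 L503128
theorem L505239 : N28912 = N14526 := eqes L505238 L179735
theorem L505240 : N28912 = N14526 := eqc rfl L505239 rfl
theorem L505242 : sm gi N21139 = N34494 := trfs L505232 L385098 rfl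
theorem L505243 : N34494 = N14525 := eqes L505242 (flp_i L179730)
theorem L505244 : N34494 = N14525 := eqc rfl L505243 rfl
theorem L505251 : sm gh N14525 = N23656 := trfs L505244 (flp_h L292532) rfl
theorem L505252 : N23656 = N10977 := eqes L505251 L123816
theorem L505253 : N23656 = N10977 := eqc rfl L505252 rfl
theorem L505256 : sm gb N10977 = N34458 := trfs L505253 (flp_b L292225) rfl
theorem L505257 : N34458 = N7745 := eqes L505256 L93912
theorem L505258 : N34458 = N7745 := eqc rfl L505257 rfl
theorem L505279 : sm gi N7745 = N23632 := trfs L505258 (flp_i L292223) rfl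
theorem L505280 : N23632 = N11252 := eqes L505279 L96259
theorem L505281 : N23632 = N9452 := eqc rfl L505280 L501447
theorem L505298 : sm gh N9452 = N31186 := trfs L505281 (flp_h L264407) rfl
theorem L505299 : N31186 = N13709 := eqes L505298 L116790
theorem L505300 : N31186 = N13709 := eqc rfl L505299 rfl
theorem L505313 : sm gf N13709 = N21401 := trfs L505300 (flp_f L264402) rfl
theorem L505314 : N21401 = N9453 := eqes L505313 L116796
theorem L505315 : N21401 = N9453 := eqc rfl L505314 rfl
theorem L505337 : sm gi N9453 = N31187 := trfs L505315 L264409 rfl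
theorem L505338 : N31187 = N13711 := eqes L505337 L116805
theorem L505339 : N31187 = N13711 := eqc rfl L505338 rfl
theorem L505357 : sm gh N13711 = N45501 := trfs L505339 L384780 rfl
theorem L505358 : N45501 = N19882 := eqes L505357 (flp_h L168903)
theorem L505359 : N45501 = N10186 := eqc rfl L505358 L475015
theorem L505366 : sm gi N10186 = N34459 := trfs L505359 L384787 rfl
theorem L505367 : N34459 = N7017 := eqes L505366 (flp_i L87023)
theorem L505368 : N34459 = N7017 := eqc rfl L505367 rfl
theorem L505370 : sm ge N7017 = N23634 := trfs L505368 L292235 rfl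
theorem L505371 : N23634 = N4843 := eqes L505370 (flp_e L60163)
theorem L505372 : N23634 = N4843 := eqc rfl L505371 rfl
theorem L505391 : sm gh N4843 = N16224 := trfs L505372 (flp_h L201021) rfl
theorem L505392 : N16224 = N3685 := eqes L505391 L41709
theorem L505393 : N16224 = N3685 := eqc rfl L505392 rfl
theorem L505411 : sm gi N3685 = N11151 := trfs L505393 (flp_i L138412) rfl
theorem L505412 : N11151 = N5340 := eqes L505411 L46026
theorem L505413 : N11151 = N4755 := eqc rfl L505412 L456076
theorem L505417 : sm gb N4755 = N7682 := trfs L505413 L95429 rfl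
theorem L505418 : N7682 = N6880 := eqes L505417 L59047
theorem L505419 : N7682 = N6880 := eqc rfl L505418 rfl
theorem L505426 : sm gg N4755 = N16083 := trfs L505413 (flp_g L137252) rfl
theorem L505427 : N16083 = N6837 := eqes L505426 (flp_g L58691)
theorem L505428 : N16083 = N6837 := eqc rfl L505427 rfl
theorem L505447 : sm gj N6837 = N23284 := trfs L505428 (flp_j L198066) rfl
theorem L505448 : N23284 = N9869 := eqes L505447 (flp_j L84392)
theorem L505449 : N23284 = N9869 := eqc rfl L505448 rfl
theorem L505460 : sm gd N9869 = N15990 := trfs L505449 (flp_d L198061) rfl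
theorem L505461 : N15990 = N7413 := eqes L505460 L84394
theorem L505462 : N15990 = N7413 := eqc rfl L505461 rfl
theorem L505471 : sm gi N9869 = N33943 := trfs L505449 L287957 rfl
theorem L505472 : N33943 = N14313 := eqes L505471 (flp_i L121984)
theorem L505473 : N33943 = N7602 := eqc rfl L505472 L474388
theorem L505477 : sm gd N7602 = N23285 := trfs L505473 L287961 rfl
theorem L505478 : N23285 = N5243 := eqes L505477 (flp_d L65298)
theorem L505479 : N23285 = N5243 := eqc rfl L505478 rfl
theorem L505488 : sm gc N5243 = N7402 := trfs L505479 L198072 L444179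
theorem L505489 : N7402 = N3624 := eqes L505488 L45212
theorem L505490 : N7402 = N3624 := eqc rfl L505489 rfl
theorem L505500 : sm gi N5243 = N7413 := trfs L505479 (flp_i L198068) L505462
theorem L505501 : N7413 = N7603 := eqes L505500 L65305
theorem L505502 : N7603 = N7413 := (eqc rfl L505501 rfl).symm
theorem L505503 : sm ga N7413 = N11027 := trfs L505502 (flp_a L94373) rfl
theorem L505504 : N11027 = N5120 := eqes L505503 L63621
theorem L505505 : N11027 = N5120 := eqc rfl L505504 rfl
theorem L505526 : sm gi N5120 = N7593 := trfs L505505 (flp_i L94371) rfl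
theorem L505527 : N7593 = N7404 := eqes L505526 (flp_i L63535)
theorem L505528 : N7593 = N7404 := eqc rfl L505527 rfl
theorem L505539 : sm gj N7404 = N5272 := trfs L505528 L65221 rfl
theorem L505540 : N5272 = N5143 := eqes L505539 L63533
theorem L505541 : N5272 = N5143 := eqc rfl L505540 rfl
theorem L505542 : sm gh N7404 = N5238 := trfs L505528 (flp_h L65213) rfl
theorem L505543 : N5238 = N10743 := eqes L505542 L91834
theorem L505544 : N10743 = N5238 := (eqc rfl L505543 rfl).symm
theorem L505553 : sm gj N5238 = N7452 := trfs L505544 L91842 rfl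
theorem L505554 : N7452 = N3642 := eqes L505553 L45170
theorem L505555 : N7452 = N3642 := eqc rfl L505554 rfl
theorem L505556 : sm gh N5238 = N7404 := trfs L505544 (flp_h L91834) rfl
theorem L505571 : sm gi N3642 = N10818 := trfs L505555 L92524 rfl
theorem L505572 : N10818 = N5254 := eqes L505571 (flp_i L45314)
theorem L505573 : N10818 = N5254 := eqc rfl L505572 rfl
theorem L505575 : sm gc N5254 = N7456 := trfs L505573 L92528 rfl
theorem L505576 : N7456 = N3631 := eqes L505575 (flp_c L45307)
theorem L505577 : N7456 = N3631 := eqc rfl L505576 rfl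
theorem L505580 : sm gf N5254 = N15727 := trfs L505573 (flp_f L134123) rfl
theorem L505581 : N15727 = N7617 := eqes L505580 L65429
theorem L505582 : N15727 = N7617 := eqc rfl L505581 rfl
theorem L505597 : sm gh N7617 = N10831 := trfs L505582 L134125 L455788
theorem L505598 : N10831 = N11061 := eqes L505597 L94677
theorem L505599 : N11061 = N10831 := (eqc rfl L505598 rfl).symm
theorem L505609 : sm gf N10831 = N7475 := trfs L505599 L94683 L456001
theorem L505610 : N7475 = N7463 := eqes L505609 (flp_f L92645)
theorem L505611 : N7475 = N7463 := eqc rfl L505610 rfl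
theorem L505614 : sm gh N10831 = N7617 := trfs L505599 (flp_h L94677) rfl
theorem L505615 : N7617 = N15747 := eqes L505614 L134295
theorem L505616 : N15747 = N7617 := (eqc rfl L505615 rfl).symm
theorem L505617 : sm gi N10831 = N16091 := trfs L505599 L137319 rfl
theorem L505618 : N16091 = N15709 := eqes L505617 (flp_i L133957)
theorem L505619 : N16091 = N7473 := eqc rfl L505618 L455813
theorem L505628 : sm gg N7473 = N22868 := trfs L505619 (flp_g L199443) L455734
theorem L505629 : N22868 = N10847 := eqes L505628 (flp_g L92788)
theorem L505630 : N22868 = N10847 := eqc rfl L505629 rfl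
theorem L505638 : sm gf N10847 = N15862 := trfs L505630 L194490 rfl
theorem L505639 : N15862 = N7556 := eqes L505638 L92786
theorem L505640 : N15862 = N7556 := eqc rfl L505639 rfl
theorem L505652 : sm ge N7556 = N23095 := trfs L505640 (flp_e L196436) rfl
theorem L505653 : N23095 = N10969 := eqes L505652 (flp_e L93850)
theorem L505654 : N23095 = N10969 := eqc rfl L505653 rfl
theorem L505662 : sm gi N7556 = N10945 := trfs L505640 L135288 rfl
theorem L505663 : N10945 = N10974 := eqes L505662 L93886
theorem L505664 : N10974 = N10945 := (eqc rfl L505663 rfl).symm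
theorem L505671 : sm ge N10945 = N15958 := trfs L505664 (flp_e L136129) rfl
theorem L505672 : N15958 = N15917 := eqes L505671 (flp_e L135777)
theorem L505673 : N15958 = N15917 := eqc rfl L505672 rfl
theorem L505677 : sm gh N10945 = N15891 := trfs L505664 (flp_h L135556) rfl
theorem L505678 : N15891 = N15920 := eqes L505677 L135800
theorem L505679 : N15920 = N15891 := (eqc rfl L505678 rfl).symm
theorem L505680 : sm gi N10945 = N7556 := trfs L505664 (flp_i L93886) rfl
theorem L505692 : sm ge N15891 = N23180 := trfs L505679 (flp_e L197180) rfl
theorem L505693 : N23180 = N23136 := eqes L505692 (flp_e L196809)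
theorem L505694 : N23180 = N11154 := eqc rfl L505693 L456477
theorem L505699 : N23183 = N11156 := L456355.trans L492641
theorem L505710 : sm gb N11154 = N15930 := trfs L505694 L197176 rfl
theorem L505711 : N15930 = N16216 := eqes L505710 (flp_b L138347)
theorem L505712 : N16216 = N15930 := (eqc rfl L505711 rfl).symm
theorem L505714 : sm gd N11154 = N33795 := trfs L505694 L286694 rfl
theorem L505715 : N33795 = N16225 := eqes L505714 (flp_d L138425)
theorem L505716 : N33795 = N16225 := eqc rfl L505715 rfl
theorem L505720 : sm gg N11154 = N15918 := trfs L505694 L197182 rfl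
theorem L505721 : N15918 = N7679 := eqes L505720 (flp_g L95452)
theorem L505722 : N15918 = N7679 := eqc rfl L505721 rfl
theorem L505723 : sm gj N11154 = N33794 := trfs L505694 (flp_j L286692) rfl
theorem L505724 : N33794 = N16228 := eqes L505723 L138446
theorem L505725 : N33794 = N16228 := eqc rfl L505724 rfl
theorem L505726 : sm gh N11154 = N15917 := trfs L505694 (flp_h L197172) rfl
theorem L505727 : N15917 = N16229 := eqes L505726 L138457
theorem L505728 : N16229 = N15917 := (eqc rfl L505727 rfl).symm
theorem L505729 : sm gi N11154 = N33796 := trfs L505694 L286702 rfl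
theorem L505730 : N33796 = N7719 := eqes L505729 L95460
theorem L505731 : N33796 = N7719 := eqc rfl L505730 rfl
theorem L505742 : sm gg N7719 = N23182 := trfs L505731 L286712 rfl
theorem L505743 : N23182 = N5322 := eqes L505742 (flp_g L66293)
theorem L505744 : N23182 = N5322 := eqc rfl L505743 rfl
theorem L505746 : sm gb N5322 = N7691 := trfs L505744 L197196 L456290
theorem L505747 : N7691 = N7713 := eqes L505746 (flp_b L66251)
theorem L505748 : N7713 = N7691 := (eqc rfl L505747 rfl).symm
theorem L505756 : sm gh N5322 = N7523 := trfs L505744 (flp_h L285637) L456491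
theorem L505757 : N7523 = N7720 := eqes L505756 L66301
theorem L505758 : N7720 = N7523 := (eqc rfl L505757 rfl).symm
theorem L505760 : sm ga N7523 = N5334 := trfs L505758 L66303 rfl
theorem L505761 : N5334 = N10910 := eqes L505760 (flp_a L93325)
theorem L505762 : N10910 = N5334 := (eqc rfl L505761 rfl).symm
theorem L505774 : sm gh N7523 = N5322 := trfs L505758 (flp_h L66301) rfl
theorem L505775 : N5322 = N10922 := eqes L505774 L93435
theorem L505776 : N10922 = N5322 := (eqc rfl L505775 rfl).symm
theorem L505777 : sm gi N7523 = N11218 := trfs L505758 L95992 rfl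
theorem L505778 : N11218 = N5210 := eqes L505777 L64597
theorem L505779 : N11218 = N5210 := eqc rfl L505778 rfl
theorem L505790 : sm gh N5210 = N16231 := trfs L505779 (flp_h L138483) rfl
theorem L505791 : N16231 = N7554 := eqes L505790 L64861
theorem L505792 : N16231 = N7554 := eqc rfl L505791 rfl
theorem L505796 : sm gd N7554 = N23647 := trfs L505792 (flp_d L201143) rfl
theorem L505797 : N23647 = N10970 := eqes L505796 L93854
theorem L505798 : N23647 = N10970 := eqc rfl L505797 rfl
theorem L505805 : sm gi N7554 = N11155 := trfs L505792 (flp_i L138473) rfl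
theorem L505806 : N11155 = N10971 := eqes L505805 L93860
theorem L505807 : N11155 = N10971 := eqc rfl L505806 rfl
theorem L505813 : sm gd N10971 = N16230 := trfs L505807 L138467 rfl
theorem L505814 : N16230 = N15961 := eqes L505813 (flp_d L136151)
theorem L505815 : N16230 = N15916 := eqc rfl L505814 L456635
theorem L505824 : sm ga N15916 = N11174 := trfs L505815 L138469 rfl
theorem L505825 : N11174 = N11202 := eqes L505824 L135763
theorem L505826 : N11202 = N11174 := (eqc rfl L505825 rfl).symm
theorem L505830 : sm gc N15916 = N23645 := trfs L505815 L201124 rfl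
theorem L505831 : N23645 = N23175 := eqes L505830 L197127
theorem L505832 : N23645 = N23175 := eqc rfl L505831 rfl
theorem L505833 : sm ge N15916 = N23646 := trfs L505815 L201132 rfl
theorem L505834 : N23646 = N21085 := eqes L505833 (flp_e L179275)
theorem L505835 : N23646 = N21085 := eqc rfl L505834 rfl
theorem L505837 : sm gg N15916 = N23643 := trfs L505815 (flp_g L201110) rfl
theorem L505838 : N23643 = N23176 := eqes L505837 L197136
theorem L505839 : N23643 = N23176 := eqc rfl L505838 rfl
theorem L505841 : sm gh N15916 = N23638 := trfs L505815 (flp_h L201064) rfl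
theorem L505842 : N23638 = N23177 := eqes L505841 L197144
theorem L505843 : N23638 = N23177 := eqc rfl L505842 rfl
theorem L505844 : sm gi N15916 = N10970 := trfs L505815 L201139 L505798
theorem L505845 : N10970 = N23094 := eqes L505844 (flp_i L196426)
theorem L505846 : N23094 = N10970 := (eqc rfl L505845 rfl).symm
theorem L505847 : sm ga N10970 = N16215 := trfs L505846 L196420 rfl
theorem L505848 : N16215 = N15931 := eqes L505847 (flp_a L135897)
theorem L505849 : N16215 = N15931 := eqc rfl L505848 rfl
theorem L505851 : sm gc N10970 = N33664 := trfs L505846 L285552 rfl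
theorem L505852 : N33664 = N15959 := eqes L505851 L136133
theorem L505853 : N33664 = N15959 := eqc rfl L505852 rfl
theorem L505854 : sm gd N10970 = N15861 := trfs L505846 (flp_d L196418) rfl
theorem L505855 : N15861 = N7554 := eqes L505854 (flp_d L93854)
theorem L505856 : N15861 = N7554 := eqc rfl L505855 rfl
theorem L505857 : sm ge N10970 = N30628 := trfs L505846 (flp_e L259780) rfl
theorem L505858 : N30628 = N15960 := eqes L505857 L136140
theorem L505859 : N30628 = N15960 := eqc rfl L505858 rfl
theorem L505866 : sm ga N15960 = N21393 := trfs L505859 L259773 rfl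
theorem L505867 : N21393 = N23205 := eqes L505866 (flp_a L197396)
theorem L505868 : N23205 = N21393 := (eqc rfl L505867 rfl).symm
theorem L505872 : sm gc N15960 = N44663 := trfs L505859 L377867 rfl
theorem L505873 : N44663 = N23246 := eqes L505872 (flp_c L197743)
theorem L505874 : N44663 = N23246 := eqc rfl L505873 rfl
theorem L505878 : sm gf N15960 = N42108 := trfs L505859 (flp_f L355917) rfl
theorem L505879 : N42108 = N23248 := eqes L505878 L197756
theorem L505880 : N42108 = N23248 := eqc rfl L505879 rfl
theorem L505881 : sm gg N15960 = N44664 := trfs L505859 L377878 rfl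
theorem L505882 : N44664 = N23244 := eqes L505881 (flp_g L197728)
theorem L505883 : N44664 = N23244 := eqc rfl L505882 rfl
theorem L505885 : sm gh N15960 = N44665 := trfs L505859 L377890 rfl
theorem L505886 : N44665 = N23235 := eqes L505885 (flp_h L197655)
theorem L505887 : N44665 = N23235 := eqc rfl L505886 rfl
theorem L505888 : sm gi N15960 = N21085 := trfs L505859 L259778 rfl
theorem L505889 : N21085 = N23249 := eqes L505888 L197764
theorem L505890 : N23249 = N21085 := (eqc rfl L505889 rfl).symm
theorem L505901 : sm gg N21085 = N33894 := trfs L505890 (flp_g L287548) rfl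
theorem L505902 : N33894 = N30710 := eqes L505901 L260470
theorem L505903 : N33894 = N30710 := eqc rfl L505902 rfl
theorem L505908 : sm gi N21085 = N15960 := trfs L505890 (flp_i L197764) rfl
theorem L505914 : sm gd N30710 = N23254 := trfs L505903 L287544 rfl
theorem L505915 : N23254 = N21086 := eqes L505914 L260476
theorem L505916 : N23254 = N21086 := eqc rfl L505915 rfl
theorem L505929 : sm gh N21086 = N33907 := trfs L505916 L287643 rfl
theorem L505930 : N33907 = N30714 := eqes L505929 L260506
theorem L505931 : N33907 = N30714 := eqc rfl L505930 rfl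
theorem L505942 : sm gi N30714 = N44913 := trfs L505931 (flp_i L379994) rfl
theorem L505943 : N44913 = N44796 := eqes L505942 L379002
theorem L505944 : N44913 = N44796 := eqc rfl L505943 rfl
theorem L505947 : sm ge N44796 = N30790 := trfs L505944 L379990 rfl
theorem L505948 : N30790 = N30719 := eqes L505947 L379009
theorem L505949 : N30790 = N30719 := eqc rfl L505948 rfl
theorem L505951 : sm gh N44796 = N30789 := trfs L505944 (flp_h L379985) rfl
theorem L505958 : sm gd N30719 = N21412 := trfs L505949 (flp_d L378585) L503763
theorem L505959 : N21412 = N44804 := eqes L505958 (flp_d L379084)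
theorem L505960 : N44804 = N21412 := (eqc rfl L505959 rfl).symm
theorem L505961 : sm gf N30719 = N44541 := trfs L505949 (flp_f L376835) rfl
theorem L505962 : N44541 = N44470 := eqes L505961 (flp_f L376262)
theorem L505963 : N44541 = N44470 := eqc rfl L505962 rfl
theorem L505966 : sm gh N30719 = N21134 := trfs L505949 (flp_h L261146) rfl
theorem L505967 : N21134 = N44673 := eqes L505966 (flp_h L377979)
theorem L505968 : N44673 = N21134 := (eqc rfl L505967 rfl).symm
theorem L505974 : sm gh N21134 = N30719 := trfs L505968 L377979 rfl
theorem L505976 : sm gi N21134 = N30632 := trfs L505968 (flp_i L377970) rfl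
theorem L505977 : N30632 = N14521 := eqes L505976 (flp_i L179686)
theorem L505978 : N30632 = N14521 := eqc rfl L505977 rfl
theorem L505982 : sm gd N14521 = N44672 := trfs L505978 L377960 rfl
theorem L505983 : N44672 = N9994 := eqes L505982 (flp_d L123775)
theorem L505984 : N44672 = N9994 := eqc rfl L505983 rfl
theorem L506002 : sm ga N9994 = N31179 := trfs L505984 L377962 rfl
theorem L506003 : N31179 = N14501 := eqes L506002 (flp_a L123612)
theorem L506004 : N31179 = N14501 := eqc rfl L506003 rfl
theorem L506029 : sm gi N14501 = N45489 := trfs L506004 L384686 rfl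
theorem L506030 : N45489 = N21104 := eqes L506029 L179437
theorem L506031 : N45489 = N21104 := eqc rfl L506030 rfl
theorem L506036 : sm gg N21104 = N31183 := trfs L506031 L384692 rfl
theorem L506037 : N31183 = N14503 := eqes L506036 L179443
theorem L506038 : N31183 = N14503 := eqc rfl L506037 rfl
theorem L506046 : sm ge N14503 = N45493 := trfs L506038 (flp_e L384724) rfl
theorem L506047 : N45493 = N21101 := eqes L506046 (flp_e L179416)
theorem L506048 : N45493 = N21101 := eqc rfl L506047 rfl
theorem L506058 : sm gi N21101 = N31182 := trfs L506048 (flp_i L384720) rfl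
theorem L506059 : N31182 = N14499 := eqes L506058 (flp_i L179410)
theorem L506060 : N31182 = N14499 := eqc rfl L506059 rfl
theorem L506076 : sm gh N14499 = N23628 := trfs L506060 L264376 rfl
theorem L506077 : N23628 = N9980 := eqes L506076 (flp_h L123592)
theorem L506078 : N23628 = N9980 := eqc rfl L506077 rfl
theorem L506096 : sm gi N9980 = N34451 := trfs L506078 L292175 rfl
theorem L506097 : N34451 = N14458 := eqes L506096 (flp_i L123246)
theorem L506098 : N34451 = N7743 := eqc rfl L506097 L474757
theorem L506099 : sm gb N7743 = N23653 := trfs L506098 L292177 rfl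
theorem L506100 : N23653 = N10975 := eqes L506099 (flp_b L93896)
theorem L506101 : N23653 = N10975 := eqc rfl L506100 rfl
theorem L506107 : sm gd N10975 = N29825 := trfs L506101 L420293 rfl
theorem L506108 : N29825 = N15960 := eqes L506107 (flp_d L136145)
theorem L506109 : N29825 = N15960 := eqc rfl L506108 rfl
theorem L506116 : sm gh N10975 = N34491 := trfs L506101 L292509 rfl
theorem L506117 : N34491 = N14523 := eqes L506116 (flp_h L123798)
theorem L506118 : N34491 = N14523 := eqc rfl L506117 rfl
theorem L506123 : sm ge N14523 = N23654 := trfs L506118 L292514 rfl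
theorem L506124 : N23654 = N9995 := eqes L506123 (flp_e L123792)
theorem L506125 : N23654 = N9995 := eqc rfl L506124 rfl
theorem L506136 : sm gi N9995 = N31208 := trfs L506125 (flp_i L264611) rfl
theorem L506137 : N31208 = N14524 := eqes L506136 L123800
theorem L506138 : N31208 = N14524 := eqc rfl L506137 rfl
theorem L506144 : sm gf N14524 = N21417 := trfs L506138 L264606 rfl
theorem L506145 : N21417 = N9998 := eqes L506144 L123807
theorem L506146 : N21417 = N9998 := eqc rfl L506145 rfl
theorem L506158 : sm ga N9998 = N14703 := trfs L506146 L182042 L503135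
theorem L506159 : N14703 = N14505 := eqes L506158 (flp_a L123647)
theorem L506160 : N14703 = N14505 := eqc rfl L506159 rfl
theorem L506169 : sm gh N9998 = N14712 := trfs L506146 (flp_h L182040) rfl
theorem L506170 : N14712 = N14527 := eqes L506169 L123826
theorem L506171 : N14712 = N14527 := eqc rfl L506170 rfl
theorem L506190 : sm gi N14527 = N10121 := trfs L506171 (flp_i L125363) rfl
theorem L506191 : N10121 = N10979 := eqes L506190 L123832
theorem L506192 : N10979 = N10121 := (eqc rfl L506191 rfl).symm
theorem L506204 : sm gg N10121 = N14396 := trfs L506192 (flp_g L134578) L474358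
theorem L506205 : N14396 = N14613 := eqes L506204 (flp_g L124569)
theorem L506206 : N14613 = N14396 := (eqc rfl L506205 rfl).symm
theorem L506208 : sm gh N10121 = N7560 := trfs L506192 (flp_h L93926) rfl
theorem L506209 : N7560 = N7682 := eqes L506208 L86507
theorem L506210 : N7560 = N6880 := eqc rfl L506209 L505419
theorem L506221 : sm gi N6880 = N5213 := trfs L506210 (flp_i L64910) rfl
theorem L506222 : N5213 = N9953 := eqes L506221 (flp_i L85106)
theorem L506223 : N9953 = N5213 := (eqc rfl L506222 rfl).symm
theorem L506234 : sm gi N5213 = N6880 := trfs L506223 L85106 rfl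
theorem L506247 : sm gj N14396 = N21171 := trfs L506206 (flp_j L179996) rfl
theorem L506248 : N21171 = N20843 := eqes L506247 (flp_j L177202)
theorem L506249 : N21171 = N20843 := eqc rfl L506248 rfl
theorem L506252 : sm ga N20843 = N14558 := trfs L506249 L179993 rfl
theorem L506253 : N14558 = N14573 := eqes L506252 L177196
theorem L506254 : N14573 = N14558 := (eqc rfl L506253 rfl).symm
theorem L506262 : sm gf N20843 = N30841 := trfs L506249 (flp_f L261579) rfl
theorem L506263 : N30841 = N30348 := eqes L506262 (flp_f L257379)
theorem L506264 : N30841 = N30348 := eqc rfl L506263 rfl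
theorem L506267 : sm gi N20843 = N30844 := trfs L506249 L261608 rfl
theorem L506268 : N30844 = N30350 := eqes L506267 L257394
theorem L506269 : N30844 = N30350 := eqc rfl L506268 rfl
theorem L506277 : sm gf N30350 = N44986 := trfs L506269 (flp_f L380623) rfl
theorem L506278 : N44986 = N44249 := eqes L506277 (flp_f L374353)
theorem L506279 : N44986 = N44249 := eqc rfl L506278 rfl
theorem L506282 : sm gh N30350 = N44989 := trfs L506269 L380646 rfl
theorem L506283 : N44989 = N44192 := eqes L506282 (flp_h L373822)
theorem L506284 : N44989 = N20862 := eqc rfl L506283 L474306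
theorem L506292 : sm gi N20862 = N33958 := trfs L506284 L380656 rfl
theorem L506293 : N33958 = N14340 := eqes L506292 (flp_i L177372)
theorem L506294 : N33958 = N14340 := eqc rfl L506293 rfl
theorem L506301 : sm gj N14340 = N23441 := trfs L506294 L288108 rfl
theorem L506302 : N23441 = N9923 := eqes L506301 L122238
theorem L506303 : N23441 = N9923 := eqc rfl L506302 rfl
theorem L506314 : sm gh N9923 = N16093 := trfs L506303 (flp_h L199477) rfl
theorem L506315 : N16093 = N7474 := eqes L506314 L84861
theorem L506316 : N16093 = N7474 := eqc rfl L506315 rfl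
theorem L506325 : sm ge N7474 = N23440 := trfs L506316 (flp_e L199473) rfl
theorem L506326 : N23440 = N10850 := eqes L506325 L92805
theorem L506327 : N23440 = N10850 := eqc rfl L506326 rfl
theorem L506346 : sm gi N10850 = N16092 := trfs L506327 (flp_i L199467) rfl
theorem L506347 : N16092 = N15779 := eqes L506346 L134563
theorem L506348 : N16092 = N13655 := eqc rfl L506347 L502023
theorem L506354 : sm gf N13655 = N23439 := trfs L506348 L199461 rfl
theorem L506355 : N23439 = N19840 := eqes L506354 L168541
theorem L506356 : N23439 = N19840 := eqc rfl L506355 rfl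
theorem L506369 : sm gh N19840 = N30989 := trfs L506356 (flp_h L262877) rfl
theorem L506370 : N30989 = N28855 := eqes L506369 L244513
theorem L506371 : N30989 = N28855 := eqc rfl L506370 rfl
theorem L506380 : sm gd N28855 = N42560 := trfs L506371 (flp_d L359981) rfl
theorem L506381 : N42560 = N42032 := eqes L506380 L355294
theorem L506382 : N42560 = N42032 := eqc rfl L506381 rfl
theorem L506393 : sm ga N42032 = N29229 := trfs L506382 L359979 rfl
theorem L506394 : N29229 = N29256 := eqes L506393 L355296
theorem L506395 : N29256 = N29229 := (eqc rfl L506394 rfl).symm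
theorem L506396 : sm gf N42032 = N29208 := trfs L506382 (flp_f L359977) rfl
theorem L506397 : N29208 = N28856 := eqes L506396 L355300
theorem L506398 : N29208 = N28856 := eqc rfl L506397 rfl
theorem L506405 : sm gc N28856 = N42495 := trfs L506398 (flp_c L359406) rfl
theorem L506406 : N42495 = N42034 := eqes L506405 L355312
theorem L506407 : N42495 = N42034 := eqc rfl L506406 rfl
theorem L506409 : sm ge N28856 = N20074 := trfs L506398 (flp_e L247655) rfl
theorem L506410 : N20074 = N42035 := eqes L506409 L355320
theorem L506411 : N42035 = N20074 := (eqc rfl L506410 rfl).symm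
theorem L506412 : sm gg N28856 = N20208 := trfs L506398 L247659 rfl
theorem L506413 : N20208 = N19915 := eqes L506412 L244528
theorem L506414 : N20208 = N19915 := eqc rfl L506413 rfl
theorem L506415 : sm gj N28856 = N42359 := trfs L506398 (flp_j L358200) rfl
theorem L506416 : N42359 = N41920 := eqes L506415 (flp_j L354258)
theorem L506417 : N42359 = N41920 := eqc rfl L506416 rfl
theorem L506419 : sm gi N28856 = N42561 := trfs L506398 L359984 rfl
theorem L506420 : N42561 = N42036 := eqes L506419 L355331
theorem L506421 : N42561 = N42036 := eqc rfl L506420 rfl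
theorem L506425 : sm ge N42036 = N29209 := trfs L506421 L359990 rfl
theorem L506427 : sm gg N42036 = N29410 := trfs L506421 L359992 rfl
theorem L506428 : N29410 = N28972 := eqes L506427 L355339
theorem L506429 : N29410 = N28972 := eqc rfl L506428 rfl
theorem L506430 : sm ga N28972 = N20230 := trfs L506429 L249348 rfl
theorem L506431 : N20230 = N20260 := eqes L506430 L245564
theorem L506432 : N20260 = N20230 := (eqc rfl L506431 rfl).symm
theorem L506434 : sm gc N28972 = N42764 := trfs L506429 (flp_c L361619) rfl
theorem L506435 : N42764 = N42204 := eqes L506434 (flp_c L356830)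
theorem L506436 : N42764 = N42204 := eqc rfl L506435 rfl
theorem L506438 : sm ge N28972 = N20209 := trfs L506429 L249352 rfl
theorem L506439 : N20209 = N42206 := eqes L506438 (flp_e L356852)
theorem L506440 : N42206 = N20209 := (eqc rfl L506439 rfl).symm
theorem L506443 : sm gh N28972 = N42863 := trfs L506429 L362499 rfl
theorem L506444 : N42863 = N42207 := eqes L506443 L356855
theorem L506445 : N42863 = N42207 := eqc rfl L506444 rfl
theorem L506447 : sm ga N42207 = N29442 := trfs L506445 L362501 rfl
theorem L506448 : N29442 = N29486 := eqes L506447 L356857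
theorem L506449 : N29486 = N29442 := (eqc rfl L506448 rfl).symm
theorem L506450 : sm ge N42207 = N29411 := trfs L506445 L362503 rfl
theorem L506454 : sm ga N29442 = N42207 := trfs L506449 (flp_a L356857) rfl
theorem L506456 : sm gb N29442 = N20275 := trfs L506449 L249964 rfl
theorem L506457 : N20275 = N42163 := eqes L506456 (flp_b L356444)
theorem L506458 : N42163 = N20275 := (eqc rfl L506457 rfl).symm
theorem L506462 : sm gd N29442 = N42840 := trfs L506449 (flp_d L362293) rfl
theorem L506463 : N42840 = N42230 := eqes L506462 (flp_d L503081)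
theorem L506464 : N42840 = N42230 := eqc rfl L506463 rfl
theorem L506468 : sm gf N29442 = N42968 := trfs L506449 (flp_f L363351) rfl
theorem L506469 : N42968 = N42909 := eqes L506468 (flp_f L362860)
theorem L506470 : N42968 = N42909 := eqc rfl L506469 rfl
theorem L506471 : sm gg N29442 = N42637 := trfs L506449 (flp_g L360587) rfl
theorem L506472 : N42637 = N42593 := eqes L506471 (flp_g L360239)
theorem L506473 : N42637 = N42593 := eqc rfl L506472 rfl
theorem L506477 : sm gb N42593 = N29275 := trfs L506473 L360585 rfl
theorem L506481 : sm gb N42909 = N29506 := trfs L506470 L363349 rfl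
theorem L506484 : sm gh N42909 = N29481 := trfs L506470 (flp_h L363347) rfl
theorem L506485 : N29481 = N29441 := eqes L506484 (flp_h L362858)
theorem L506486 : N29481 = N29441 := eqc rfl L506485 rfl
theorem L506497 : sm ge N29441 = N42967 := trfs L506486 (flp_e L363344) rfl
theorem L506498 : N42967 = N42905 := eqes L506497 (flp_e L362835)
theorem L506499 : N42967 = N42905 := eqc rfl L506498 rfl
theorem L506501 : sm gg N29441 = N42963 := trfs L506486 (flp_g L363314) rfl
theorem L506502 : N42963 = N42908 := eqes L506501 (flp_g L362856)
theorem L506503 : N42963 = N42908 := eqc rfl L506502 rfl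
theorem L506505 : sm gi N29441 = N20256 := trfs L506486 (flp_i L249922) rfl
theorem L506506 : N20256 = N20229 := eqes L506505 (flp_i L249594)
theorem L506507 : N20256 = N20229 := eqc rfl L506506 rfl
theorem L506508 : sm ga N20229 = N28968 := trfs L506507 (flp_a L245527) rfl
theorem L506509 : N28968 = N29409 := eqes L506508 (flp_a L249340)
theorem L506510 : N29409 = N28968 := (eqc rfl L506509 rfl).symm
theorem L506511 : sm gb N20229 = N13941 := trfs L506507 L172141 rfl
theorem L506512 : N13941 = N28941 := eqes L506511 (flp_b L245273)
theorem L506513 : N28941 = N13941 := (eqc rfl L506512 rfl).symm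
theorem L506514 : sm gc N20229 = N29479 := trfs L506507 L249908 rfl
theorem L506515 : N29479 = N29365 := eqes L506514 (flp_c L248947)
theorem L506516 : N29479 = N29365 := eqc rfl L506515 rfl
theorem L506519 : sm ge N20229 = N29480 := trfs L506507 L249916 rfl
theorem L506520 : N29480 = N29437 := eqes L506519 (flp_e L249574)
theorem L506521 : N29480 = N29437 := eqc rfl L506520 rfl
theorem L506523 : sm gg N20229 = N29477 := trfs L506507 (flp_g L249898) rfl
theorem L506524 : N29477 = N29440 := eqes L506523 L249589
theorem L506525 : N29477 = N29440 := eqc rfl L506524 rfl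
theorem L506537 : sm ge N29440 = N42962 := trfs L506525 L363301 rfl
theorem L506538 : N42962 = N42904 := eqes L506537 (flp_e L362830)
theorem L506539 : N42962 = N42904 := eqc rfl L506538 rfl
theorem L506540 : sm gf N29440 = N42628 := trfs L506525 (flp_f L360516) rfl
theorem L506541 : N42628 = N42591 := eqes L506540 (flp_f L360227)
theorem L506542 : N42628 = N42591 := eqc rfl L506541 rfl
theorem L506546 : sm gb N42591 = N29269 := trfs L506542 L360514 rfl
theorem L506552 : sm gb N42904 = N29502 := trfs L506539 L363303 rfl
theorem L506560 : sm ga N29437 = N42201 := trfs L506521 (flp_a L356801) rfl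
theorem L506561 : N42201 = N42858 := eqes L506560 (flp_a L362460)
theorem L506562 : N42858 = N42201 := (eqc rfl L506561 rfl).symm
theorem L506563 : sm gb N29437 = N20271 := trfs L506521 L249918 rfl
theorem L506564 : N20271 = N42158 := eqes L506563 (flp_b L356398)
theorem L506565 : N42158 = N20271 := (eqc rfl L506564 rfl).symm
theorem L506569 : sm gd N29437 = N42957 := trfs L506521 (flp_d L363267) rfl
theorem L506570 : N42957 = N42896 := eqes L506569 (flp_d L362780)
theorem L506571 : N42957 = N42896 := eqc rfl L506570 rfl
theorem L506572 : sm gf N29437 = N42966 := trfs L506521 L363332 rfl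
theorem L506573 : N42966 = N20227 := eqes L506572 (flp_f L249570)
theorem L506574 : N42966 = N20227 := eqc rfl L506573 rfl
theorem L506578 : sm gb N20227 = N29504 := trfs L506574 L363334 rfl
theorem L506579 : N29504 = N28939 := eqes L506578 (flp_b L245256)
theorem L506580 : N29504 = N28939 := eqc rfl L506579 rfl
theorem L506581 : sm ge N20227 = N29484 := trfs L506574 L363338 rfl
theorem L506582 : N29484 = N13912 := eqes L506581 (flp_e L171908)
theorem L506583 : N29484 = N13912 := eqc rfl L506582 rfl
theorem L506589 : sm gb N13912 = N20273 := trfs L506583 L249947 rfl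
theorem L506590 : N20273 = N19893 := eqes L506589 (flp_b L169006)
theorem L506591 : N20273 = N19893 := eqc rfl L506590 rfl
theorem L506604 : sm gi N13912 = N42974 := trfs L506583 L363391 rfl
theorem L506605 : N42974 = N20228 := eqes L506604 L171912
theorem L506606 : N42974 = N20228 := eqc rfl L506605 rfl
theorem L506607 : sm gb N20228 = N29508 := trfs L506606 L363393 rfl
theorem L506608 : N29508 = N28940 := eqes L506607 (flp_b L245263)
theorem L506609 : N29508 = N28940 := eqc rfl L506608 rfl
theorem L506613 : sm gf N20228 = N29485 := trfs L506606 L363397 rfl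
theorem L506614 : N29485 = N13915 := eqes L506613 L171916
theorem L506615 : N29485 = N13915 := eqc rfl L506614 rfl
theorem L506624 : sm gg N13915 = N42636 := trfs L506615 (flp_g L360581) rfl
theorem L506625 : N42636 = N20089 := eqes L506624 (flp_g L170750)
theorem L506626 : N42636 = N20089 := eqc rfl L506625 rfl
theorem L506630 : sm gb N20089 = N29274 := trfs L506626 L360575 rfl
theorem L506631 : N29274 = N28837 := eqes L506630 (flp_b L244348)
theorem L506632 : N29274 = N28837 := eqc rfl L506631 rfl
theorem L506637 : sm gi N20089 = N29259 := trfs L506626 (flp_i L360573) rfl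
theorem L506638 : N29259 = N13820 := eqes L506637 (flp_i L170746)
theorem L506639 : N29259 = N13820 := eqc rfl L506638 rfl
theorem L506641 : sm gb N13820 = N20117 := trfs L506639 L248068 rfl
theorem L506642 : N20117 = N19826 := eqes L506641 (flp_b L168411)
theorem L506643 : N20117 = N19826 := eqc rfl L506642 rfl
theorem L506651 : sm gf N13820 = N42635 := trfs L506639 L360566 rfl
theorem L506652 : N42635 = N20086 := eqes L506651 (flp_f L170728)
theorem L506653 : N42635 = N20086 := eqc rfl L506652 rfl
theorem L506655 : sm gj N13820 = N42410 := trfs L506639 (flp_j L358655) rfl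
theorem L506656 : N42410 = N19994 := eqes L506655 (flp_j L169915)
theorem L506657 : N42410 = N19994 := eqc rfl L506656 rfl
theorem L506661 : sm ge N19994 = N29108 := trfs L506657 (flp_e L358650) rfl
theorem L506662 : N29108 = N29088 := eqes L506661 L246590
theorem L506663 : N29108 = N29088 := eqc rfl L506662 rfl
theorem L506668 : sm gb N29088 = N20013 := trfs L506663 L246768 rfl
theorem L506669 : N20013 = N41900 := eqes L506668 (flp_b L354052)
theorem L506670 : N41900 = N20013 := (eqc rfl L506669 rfl).symm
theorem L506671 : sm gc N29088 = N42409 := trfs L506663 L358642 rfl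
theorem L506672 : N42409 = N42330 := eqes L506671 (flp_c L357910)
theorem L506673 : N42409 = N42330 := eqc rfl L506672 rfl
theorem L506684 : sm gj N42330 = N29258 := trfs L506673 L358645 rfl
theorem L506685 : N29258 = N29179 := eqes L506684 L357913
theorem L506686 : N29258 = N29179 := eqc rfl L506685 rfl
theorem L506697 : sm gg N29179 = N20258 := trfs L506686 L248061 rfl
theorem L506698 : N20258 = N20179 := eqes L506697 L247397
theorem L506699 : N20258 = N20179 := eqc rfl L506698 rfl
theorem L506720 : sm ga N20179 = N28970 := trfs L506699 (flp_a L245547) rfl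
theorem L506721 : N28970 = N29344 := eqes L506720 (flp_a L248760)
theorem L506722 : N29344 = N28970 := (eqc rfl L506721 rfl).symm
theorem L506726 : sm ge N20179 = N29482 := trfs L506699 L249931 rfl
theorem L506727 : N29482 = N13881 := eqes L506726 (flp_e L171481)
theorem L506728 : N29482 = N13881 := eqc rfl L506727 rfl
theorem L506737 : sm gd N13881 = N42969 := trfs L506728 L363355 rfl
theorem L506738 : N42969 = N9567 := eqes L506737 (flp_d L118269)
theorem L506739 : N42969 = N9567 := eqc rfl L506738 rfl
theorem L506746 : sm gc N9567 = N31317 := trfs L506739 L363359 rfl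
theorem L506747 : N31317 = N6606 := eqes L506746 L81769
theorem L506748 : N31317 = N6606 := eqc rfl L506747 rfl
theorem L506771 : sm gi N6606 = N45696 := trfs L506748 L386348 rfl
theorem L506772 : N45696 = N9571 := eqes L506771 L81798
theorem L506773 : N45696 = N9571 := eqc rfl L506772 rfl
theorem L506777 : sm gd N9571 = N31319 := trfs L506773 L386352 rfl
theorem L506778 : N31319 = N6622 := eqes L506777 L81802
theorem L506779 : N31319 = N6622 := eqc rfl L506778 rfl
theorem L506799 : sm gh N6622 = N44605 := trfs L506779 L386373 L443195
theorem L506800 : N44605 = N4597 := eqes L506799 L56814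
theorem L506801 : N44605 = N4597 := eqc rfl L506800 rfl
theorem L506814 : sm gi N4597 = N30585 := trfs L506801 (flp_i L377355) rfl
theorem L506815 : N30585 = N3184 := eqes L506814 (flp_i L39584)
theorem L506816 : N30585 = N3184 := eqc rfl L506815 rfl
theorem L506833 : sm gh N3184 = N23051 := trfs L506816 L259401 rfl
theorem L506834 : N23051 = N2212 := eqes L506833 (flp_h L27540)
theorem L506835 : N23051 = N2212 := eqc rfl L506834 rfl
theorem L506854 : sm gi N2212 = N16307 := trfs L506835 (flp_i L428336) L443240
theorem L506855 : N16307 = N3174 := eqes L506854 (flp_i L27463)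
theorem L506856 : N16307 = N3174 := eqc rfl L506855 rfl
theorem L506869 : sm gg N3174 = N23512 := trfs L506856 (flp_g L200051) rfl
theorem L506870 : N23512 = N4553 := eqes L506869 (flp_g L39223)
theorem L506871 : N23512 = N4553 := eqc rfl L506870 rfl
theorem L506895 : sm gh N4553 = N31062 := trfs L506871 (flp_h L263440) rfl
theorem L506896 : N31062 = N6579 := eqes L506895 L56448
theorem L506897 : N31062 = N6579 := eqc rfl L506896 rfl
theorem L506907 : sm gf N6579 = N45316 := trfs L506897 L383332 rfl
theorem L506908 : N45316 = N9529 := eqes L506907 (flp_f L81468)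
theorem L506909 : N45316 = N9529 := eqc rfl L506908 rfl
theorem L506923 : sm gc N9529 = N31064 := trfs L506909 L383336 rfl
theorem L506924 : N31064 = N13819 := eqes L506923 (flp_c L117770)
theorem L506925 : N31064 = N13819 := eqc rfl L506924 rfl
theorem L506930 : sm ge N13819 = N45312 := trfs L506925 (flp_e L383309) rfl
theorem L506931 : N45312 = N20083 := eqes L506930 (flp_e L170705)
theorem L506932 : N45312 = N20083 := eqc rfl L506931 rfl
theorem L507016 : sm gf N20083 = N31060 := trfs L506932 (flp_f L383303) rfl
theorem L507017 : N31060 = N14622 := eqes L507016 L170707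
theorem L507018 : N31060 = N14622 := eqc rfl L507017 rfl
theorem L507020 : sm ga N14622 = N44472 := trfs L507018 (flp_a L376278) rfl
theorem L507021 : N44472 = N21264 := eqes L507020 (flp_a L180808)
theorem L507022 : N44472 = N21264 := eqc rfl L507021 rfl
theorem L507033 : sm gh N14622 = N23510 := trfs L507018 L263422 rfl
theorem L507034 : N23510 = N10063 := eqes L507033 (flp_h L124647)
theorem L507035 : N23510 = N10063 := eqc rfl L507034 rfl
theorem L507055 : sm gi N10063 = N33345 := trfs L507035 L290836 L443455
theorem L507056 : N33345 = N6956 := eqes L507055 L86051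
theorem L507057 : N33345 = N6956 := eqc rfl L507056 rfl
theorem L507064 : sm gh N6956 = N44399 := trfs L507057 (flp_h L375690) rfl
theorem L507065 : N44399 = N10094 := eqes L507064 L86291
theorem L507066 : N44399 = N10094 := eqc rfl L507065 rfl
theorem L507067 : sm ga N10094 = N30468 := trfs L507066 L375688 rfl
theorem L507068 : N30468 = N14651 := eqes L507067 (flp_a L124874)
theorem L507069 : N30468 = N14651 := eqc rfl L507068 rfl
theorem L507073 : sm gc N14651 = N44355 := trfs L507069 (flp_c L375292) rfl
theorem L507074 : N44355 = N10088 := eqes L507073 L124876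
theorem L507075 : N44355 = N10088 := eqc rfl L507074 rfl
theorem L507092 : sm gh N10088 = N33301 := trfs L507075 L375294 rfl
theorem L507093 : N33301 = N6951 := eqes L507092 (flp_h L86244)
theorem L507094 : N33301 = N6951 := eqc rfl L507093 rfl
theorem L507097 : sm ge N6951 = N22848 := trfs L507094 (flp_e L282486) rfl
theorem L507098 : N22848 = N4801 := eqes L507097 (flp_e L59644)
theorem L507099 : N22848 = N4801 := eqc rfl L507098 rfl
theorem L507110 : sm gi N4801 = N33302 := trfs L507099 L282491 rfl
theorem L507111 : N33302 = N6933 := eqes L507110 (flp_i L59501)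
theorem L507112 : N33302 = N6933 := eqc rfl L507111 rfl
theorem L507115 : sm gd N6933 = N22849 := trfs L507112 L282496 rfl
theorem L507116 : N22849 = N4790 := eqes L507115 L59499
theorem L507117 : N22849 = N4790 := eqc rfl L507116 rfl
theorem L507127 : sm gj N4790 = N33080 := trfs L507117 (flp_j L280460) rfl
theorem L507128 : N33080 = N6906 := eqes L507127 (flp_j L59258)
theorem L507129 : N33080 = N6906 := eqc rfl L507128 rfl
theorem L507136 : sm gi N6906 = N22700 := trfs L507129 (flp_i L280453) rfl
theorem L507137 : N22700 = N4779 := eqes L507136 L59261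
theorem L507138 : N22700 = N4779 := eqc rfl L507137 rfl
theorem L507149 : sm gh N4779 = N15595 := trfs L507138 (flp_h L192930) rfl
theorem L507150 : N15595 = N3400 := eqes L507149 L41190
theorem L507151 : N15595 = N3400 := eqc rfl L507150 rfl
theorem L507162 : sm gg N3400 = N22699 := trfs L507151 L192923 rfl
theorem L507163 : N22699 = N4917 := eqes L507162 L42316
theorem L507164 : N22699 = N4917 := eqc rfl L507163 rfl
theorem L507179 : sm gj N4917 = N33077 := trfs L507164 L280427 rfl
theorem L507180 : N33077 = N7122 := eqes L507179 L61043
theorem L507181 : N33077 = N7122 := eqc rfl L507180 rfl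
theorem L507186 : sm gd N7122 = N44167 := trfs L507181 (flp_d L373574) rfl
theorem L507187 : N44167 = N10331 := eqes L507186 (flp_d L88243)
theorem L507188 : N44167 = N10331 := eqc rfl L507187 rfl
theorem L507193 : sm gc N10331 = N30300 := trfs L507188 L373572 rfl
theorem L507194 : N30300 = N15007 := eqes L507193 (flp_c L127784)
theorem L507195 : N30300 = N15007 := eqc rfl L507194 rfl
theorem L507209 : sm gg N15007 = N20893 := trfs L507195 L256923 rfl
theorem L507210 : N20893 = N10366 := eqes L507209 L127790
theorem L507211 : N20893 = N10366 := eqc rfl L507210 rfl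
theorem L507212 : sm gj N15007 = N20808 := trfs L507195 (flp_j L256915) rfl
theorem L507213 : N20808 = N10325 := eqes L507212 (flp_j L127780)
theorem L507214 : N20808 = N10325 := eqc rfl L507213 rfl
theorem L507215 : sm gh N15007 = N44178 := trfs L507195 L373673 rfl
theorem L507216 : N44178 = N21846 := eqes L507215 L185546
theorem L507217 : N44178 = N21846 := eqc rfl L507216 rfl
theorem L507227 : sm gj N21846 = N30301 := trfs L507217 L373680 rfl
theorem L507228 : N30301 = N15008 := eqes L507227 L185555
theorem L507229 : N30301 = N15008 := eqc rfl L507228 rfl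
theorem L507248 : sm gi N15008 = N44179 := trfs L507229 L373684 rfl
theorem L507249 : N44179 = N21848 := eqes L507248 L185566
theorem L507250 : N44179 = N21848 := eqc rfl L507249 rfl
theorem L507251 : sm gb N21848 = N30309 := trfs L507250 L373686 rfl
theorem L507252 : N30309 = N31812 := eqes L507251 (flp_b L269489)
theorem L507253 : N31812 = N30309 := (eqc rfl L507252 rfl).symm
theorem L507254 : sm gd N21848 = N30337 := trfs L507250 L373688 rfl
theorem L507255 : N30337 = N31837 := eqes L507254 (flp_d L269737)
theorem L507256 : N31837 = N30337 := (eqc rfl L507255 rfl).symm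
theorem L507258 : sm gg N21848 = N30302 := trfs L507250 L373691 rfl
theorem L507259 : N30302 = N15010 := eqes L507258 L185573
theorem L507260 : N30302 = N15010 := eqc rfl L507259 rfl
theorem L507272 : sm ge N15010 = N44177 := trfs L507260 (flp_e L373667) rfl
theorem L507273 : N44177 = N21845 := eqes L507272 (flp_e L185540)
theorem L507274 : N44177 = N21845 := eqc rfl L507273 rfl
theorem L507275 : sm gf N15010 = N20810 := trfs L507260 L256940 rfl
theorem L507276 : N20810 = N10328 := eqes L507275 L127817
theorem L507277 : N20810 = N10328 := eqc rfl L507276 rfl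
theorem L507278 : sm gj N15010 = N20895 := trfs L507260 L256942 rfl
theorem L507279 : N20895 = N10369 := eqes L507278 L127819
theorem L507280 : N20895 = N10369 := eqc rfl L507279 rfl
theorem L507289 : sm ge N10369 = N30426 := trfs L507280 (flp_e L258066) rfl
theorem L507290 : N30426 = N15070 := eqes L507289 (flp_e L128351)
theorem L507291 : N30426 = N15070 := eqc rfl L507290 rfl
theorem L507293 : sm gg N10369 = N30428 := trfs L507280 (flp_g L258088) rfl
theorem L507294 : N30428 = N15073 := eqes L507293 (flp_g L128383)
theorem L507295 : N30428 = N15073 := eqc rfl L507294 rfl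
theorem L507297 : sm gi N10369 = N14362 := trfs L507280 (flp_i L177657) rfl
theorem L507298 : N14362 = N7144 := eqes L507297 (flp_i L88581)
theorem L507299 : N14362 = N7144 := eqc rfl L507298 rfl
theorem L507301 : sm gb N7144 = N9893 := trfs L507299 L122424 rfl
theorem L507302 : N9893 = N10360 := eqes L507301 (flp_b L88501)
theorem L507303 : N10360 = N9893 := (eqc rfl L507302 rfl).symm
theorem L507307 : sm ge N7144 = N20892 := trfs L507299 (flp_e L177635) rfl
theorem L507308 : N20892 = N10365 := eqes L507307 (flp_e L88549)
theorem L507309 : N20892 = N10365 := eqc rfl L507308 rfl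
theorem L507315 : sm gh N7144 = N9888 := trfs L507299 (flp_h L122422) rfl
theorem L507316 : N9888 = N4931 := eqes L507315 (flp_h L61240)
theorem L507317 : N9888 = N4931 := eqc rfl L507316 rfl
theorem L507321 : sm gb N4931 = N6822 := trfs L507317 L84557 rfl
theorem L507322 : N6822 = N7140 := eqes L507321 (flp_b L61206)
theorem L507323 : N7140 = N6822 := (eqc rfl L507322 rfl).symm
theorem L507330 : sm ge N4931 = N14360 := trfs L507317 L122407 rfl
theorem L507331 : N14360 = N7142 := eqes L507330 L61221
theorem L507332 : N14360 = N7142 := eqc rfl L507331 rfl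
theorem L507333 : sm gf N4931 = N6820 := trfs L507317 (flp_f L84555) rfl
theorem L507334 : N6820 = N3410 := eqes L507333 (flp_f L42443)
theorem L507335 : N6820 = N3410 := eqc rfl L507334 rfl
theorem L507336 : sm gg N4931 = N14361 := trfs L507317 L122413 rfl
theorem L507337 : N14361 = N7143 := eqes L507336 L61229
theorem L507338 : N14361 = N7143 := eqc rfl L507337 rfl
theorem L507339 : sm gj N4931 = N14305 := trfs L507317 (flp_j L121906) rfl
theorem L507340 : N14305 = N7116 := eqes L507339 (flp_j L60992)
theorem L507341 : N14305 = N7116 := eqc rfl L507340 rfl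
theorem L507344 : sm gb N7116 = N9854 := trfs L507341 L121902 rfl
theorem L507345 : N9854 = N10322 := eqes L507344 (flp_b L88151)
theorem L507346 : N10322 = N9854 := (eqc rfl L507345 rfl).symm
theorem L507349 : sm ge N7116 = N20807 := trfs L507341 L176846 rfl
theorem L507350 : N20807 = N10324 := eqes L507349 L88169
theorem L507351 : N20807 = N10324 := eqc rfl L507350 rfl
theorem L507352 : sm gf N7116 = N9852 := trfs L507341 (flp_f L121900) rfl
theorem L507353 : N9852 = N4914 := eqes L507352 (flp_f L60984)
theorem L507354 : N9852 = N4914 := eqc rfl L507353 rfl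
theorem L507359 : sm gb N4914 = N6798 := trfs L507354 L84223 rfl
theorem L507360 : N6798 = N7115 := eqes L507359 L60973
theorem L507361 : N7115 = N6798 := (eqc rfl L507360 rfl).symm
theorem L507363 : sm gd N4914 = N6797 := trfs L507354 (flp_d L84221) rfl
theorem L507364 : N6797 = N3729 := eqes L507363 L42295
theorem L507365 : N6797 = N3729 := eqc rfl L507364 rfl
theorem L507369 : sm gh N4914 = N14306 := trfs L507354 L121909 rfl
theorem L507370 : N14306 = N7117 := eqes L507369 L60995
theorem L507371 : N14306 = N7117 := eqc rfl L507370 rfl
theorem L507374 : sm gb N7117 = N9855 := trfs L507371 L121911 rfl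
theorem L507375 : N9855 = N10323 := eqes L507374 (flp_b L88162)
theorem L507376 : N10323 = N9855 := (eqc rfl L507375 rfl).symm
theorem L507386 : sm gb N9855 = N7117 := trfs L507376 L88162 rfl
theorem L507397 : sm gi N9855 = N15003 := trfs L507376 L127738 rfl
theorem L507398 : N15003 = N14311 := eqes L507397 L121955
theorem L507399 : N15003 = N14311 := eqc rfl L507398 rfl
theorem L507408 : sm gj N14311 = N10362 := trfs L507399 L127746 rfl
theorem L507409 : N10362 = N9894 := eqes L507408 L121963
theorem L507410 : N10362 = N9894 := eqc rfl L507409 rfl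
theorem L507419 : sm gg N9894 = N7180 := trfs L507410 L88522 rfl
theorem L507420 : N7180 = N6862 := eqes L507419 L84612
theorem L507421 : N7180 = N6862 := eqc rfl L507420 rfl
theorem L507425 : sm gb N6862 = N4961 := trfs L507421 L61541 rfl
theorem L507426 : N4961 = N9946 := eqes L507425 (flp_b L85041)
theorem L507427 : N9946 = N4961 := (eqc rfl L507426 rfl).symm
theorem L507438 : sm gi N6862 = N4956 := trfs L507421 (flp_i L61538) rfl
theorem L507439 : N4956 = N4741 := eqes L507438 (flp_i L58890)
theorem L507440 : N4956 = N4741 := eqc rfl L507439 rfl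
theorem L507442 : sm gb N4741 = N3428 := trfs L507440 L42653 rfl
theorem L507443 : N3428 = N6857 := eqes L507442 (flp_b L58850)
theorem L507444 : N6857 = N3428 := (eqc rfl L507443 rfl).symm
theorem L507455 : sm gh N4741 = N3426 := trfs L507440 (flp_h L42650) rfl
theorem L507456 : N3426 = N3281 := eqes L507455 (flp_h L40856)
theorem L507457 : N3426 = N3281 := eqc rfl L507456 rfl
theorem L507459 : sm gb N3281 = N2374 := trfs L507457 (flp_b L29624) rfl
theorem L507460 : N2374 = N4738 := eqes L507459 (flp_b L40832)
theorem L507461 : N4738 = N2374 := (eqc rfl L507460 rfl).symm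
theorem L507465 : sm gf N3281 = N4955 := trfs L507457 L42640 rfl
theorem L507466 : N4955 = N4740 := eqes L507465 L40848
theorem L507467 : N4955 = N4740 := eqc rfl L507466 rfl
theorem L507484 : sm gb N4740 = N3427 := trfs L507467 L42643 rfl
theorem L507485 : N3427 = N6856 := eqes L507484 (flp_b L58842)
theorem L507486 : N6856 = N3427 := (eqc rfl L507485 rfl).symm
theorem L507491 : sm ge N4740 = N7176 := trfs L507467 L61502 rfl
theorem L507492 : N7176 = N6859 := eqes L507491 L58866
theorem L507493 : N7176 = N6859 := eqc rfl L507492 rfl
theorem L507494 : sm gg N4740 = N7177 := trfs L507467 L61512 rfl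
theorem L507495 : N7177 = N6860 := eqes L507494 L58874
theorem L507496 : N7177 = N6860 := eqc rfl L507495 rfl
theorem L507501 : sm gb N6860 = N4958 := trfs L507496 L61515 rfl
theorem L507502 : N4958 = N9944 := eqes L507501 (flp_b L85025)
theorem L507503 : N9944 = N4958 := (eqc rfl L507502 rfl).symm
theorem L507506 : sm ge N6860 = N10413 := trfs L507496 (flp_e L88940) rfl
theorem L507507 : N10413 = N9948 := eqes L507506 (flp_e L85064)
theorem L507508 : N10413 = N9948 := eqc rfl L507507 rfl
theorem L507512 : sm gj N6860 = N10415 := trfs L507496 L88953 rfl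
theorem L507513 : N10415 = N9950 := eqes L507512 L85075
theorem L507514 : N10415 = N9950 := eqc rfl L507513 rfl
theorem L507515 : sm gh N6860 = N10416 := trfs L507496 L88963 rfl
theorem L507516 : N10416 = N9951 := eqes L507515 L85083
theorem L507517 : N10416 = N9951 := eqc rfl L507516 rfl
theorem L507524 : sm ge N9951 = N15137 := trfs L507517 (flp_e L128890) rfl
theorem L507525 : N15137 = N14451 := eqes L507524 (flp_e L123180)
theorem L507526 : N15137 = N14451 := eqc rfl L507525 rfl
theorem L507532 : sm gb N14451 = N10424 := trfs L507526 L128887 rfl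
theorem L507533 : N10424 = N21017 := eqes L507532 (flp_b L178684)
theorem L507534 : N21017 = N10424 := (eqc rfl L507533 rfl).symm
theorem L507536 : sm gd N14451 = N22034 := trfs L507526 L187116 rfl
theorem L507537 : N22034 = N21025 := eqes L507536 L178750
theorem L507538 : N22034 = N21025 := eqc rfl L507537 rfl
theorem L507539 : sm gf N14451 = N22032 := trfs L507526 (flp_f L187102) rfl
theorem L507540 : N22032 = N21023 := eqes L507539 (flp_f L178738)
theorem L507541 : N22032 = N21023 := eqc rfl L507540 rfl
theorem L507542 : sm gg N14451 = N10414 := trfs L507526 L128892 rfl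
theorem L507543 : N10414 = N9949 := eqes L507542 L123182
theorem L507544 : N10414 = N9949 := eqc rfl L507543 rfl
theorem L507545 : sm gj N14451 = N22033 := trfs L507526 (flp_j L187114) rfl
theorem L507546 : N22033 = N21024 := eqes L507545 (flp_j L178748)
theorem L507547 : N22033 = N21024 := eqc rfl L507546 rfl
theorem L507549 : sm gi N14451 = N22035 := trfs L507526 L187124 rfl
theorem L507550 : N22035 = N21026 := eqes L507549 L178758
theorem L507551 : N22035 = N21026 := eqc rfl L507550 rfl
theorem L507553 : sm gb N21026 = N15155 := trfs L507551 L187127 rfl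
theorem L507554 : N15155 = N30613 := eqes L507553 (flp_b L259642)
theorem L507555 : N30613 = N15155 := (eqc rfl L507554 rfl).symm
theorem L507557 : sm gd N21026 = N32109 := trfs L507551 (flp_d L271988) rfl
theorem L507558 : N32109 = N30624 := eqes L507557 (flp_d L259738)
theorem L507559 : N32109 = N30624 := eqc rfl L507558 rfl
theorem L507561 : sm gf N21026 = N32104 := trfs L507551 (flp_f L271941) rfl
theorem L507562 : N32104 = N30620 := eqes L507561 (flp_f L259703)
theorem L507563 : N32104 = N30620 := eqc rfl L507562 rfl
theorem L507564 : sm gg N21026 = N15139 := trfs L507551 L187132 rfl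
theorem L507565 : N15139 = N14453 := eqes L507564 L178764
theorem L507566 : N15139 = N14453 := eqc rfl L507565 rfl
theorem L507567 : sm gj N21026 = N32106 := trfs L507551 (flp_j L271963) rfl
theorem L507568 : N32106 = N30622 := eqes L507567 (flp_j L259723)
theorem L507569 : N32106 = N30622 := eqc rfl L507568 rfl
theorem L507572 : sm gb N30622 = N22061 := trfs L507569 L271957 rfl
theorem L507573 : N22061 = N44643 := eqes L507572 (flp_b L377692)
theorem L507574 : N44643 = N22061 := (eqc rfl L507573 rfl).symm
theorem L507580 : sm gb N22061 = N30622 := trfs L507574 L377692 rfl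
theorem L507588 : sm gi N22061 = N30611 := trfs L507574 (flp_i L377690) rfl
theorem L507589 : N30611 = N15153 := eqes L507588 (flp_i L187355)
theorem L507590 : N30611 = N15153 := eqc rfl L507589 rfl
theorem L507597 : sm gd N15153 = N44642 := trfs L507590 L377680 rfl
theorem L507598 : N44642 = N22060 := eqes L507597 L187347
theorem L507599 : N44642 = N22060 := eqc rfl L507598 rfl
theorem L507601 : sm gf N15153 = N44639 := trfs L507590 (flp_f L377660) rfl
theorem L507602 : N44639 = N22057 := eqes L507601 (flp_f L187325)
theorem L507603 : N44639 = N22057 := eqc rfl L507602 rfl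
theorem L507606 : sm gh N15153 = N21016 := trfs L507590 (flp_h L259622) rfl
theorem L507607 : N21016 = N10423 := eqes L507606 (flp_h L129028)
theorem L507608 : N21016 = N10423 := eqc rfl L507607 rfl
theorem L507612 : sm gb N10423 = N14450 := trfs L507608 L178675 rfl
theorem L507613 : N14450 = N15136 := eqes L507612 (flp_b L128876)
theorem L507614 : N15136 = N14450 := (eqc rfl L507613 rfl).symm
theorem L507622 : sm gf N10423 = N30609 := trfs L507608 (flp_f L259612) rfl
theorem L507623 : N30609 = N15151 := eqes L507622 (flp_f L129016)
theorem L507624 : N30609 = N15151 := eqc rfl L507623 rfl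
theorem L507626 : sm gj N10423 = N14444 := trfs L507608 (flp_j L178673) rfl
theorem L507627 : N14444 = N7181 := eqes L507626 (flp_j L89024)
theorem L507628 : N14444 = N7181 := eqc rfl L507627 rfl
theorem L507640 : sm gf N7181 = N21015 := trfs L507628 L178666 rfl
theorem L507641 : N21015 = N10422 := eqes L507640 L89015
theorem L507642 : N21015 = N10422 := eqc rfl L507641 rfl
theorem L507643 : sm gg N7181 = N9943 := trfs L507628 (flp_g L123118) rfl
theorem L507644 : N9943 = N4957 := eqes L507643 (flp_g L61547)
theorem L507645 : N9943 = N4957 := eqc rfl L507644 rfl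
theorem L507660 : sm gh N4957 = N14445 := trfs L507645 L123126 rfl
theorem L507661 : N14445 = N7182 := eqes L507660 L61557
theorem L507662 : N14445 = N7182 := eqc rfl L507661 rfl
theorem L507672 : sm gd N7182 = N21018 := trfs L507662 L178690 rfl
theorem L507673 : N21018 = N10425 := eqes L507672 L89045
theorem L507674 : N21018 = N10425 := eqc rfl L507673 rfl
theorem L507679 : sm gi N7182 = N21019 := trfs L507662 L178699 rfl
theorem L507680 : N21019 = N10426 := eqes L507679 L89052
theorem L507681 : N21019 = N10426 := eqc rfl L507680 rfl
theorem L507690 : sm gd N10426 = N30615 := trfs L507681 (flp_d L259660) rfl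
theorem L507691 : N30615 = N15158 := eqes L507690 (flp_d L129078)
theorem L507692 : N30615 = N15158 := eqc rfl L507691 rfl
theorem L507701 : sm gb N15158 = N21028 := trfs L507692 L259658 rfl
theorem L507702 : N21028 = N22038 := eqes L507701 (flp_b L187154)
theorem L507703 : N22038 = N21028 := (eqc rfl L507702 rfl).symm
theorem L507704 : sm gc N15158 = N44647 := trfs L507692 (flp_c L377728) rfl
theorem L507705 : N44647 = N22067 := eqes L507704 (flp_c L187412)
theorem L507706 : N44647 = N22067 := eqc rfl L507705 rfl
theorem L507707 : sm ge N15158 = N21072 := trfs L507692 L259662 rfl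
theorem L507708 : N21072 = N22069 := eqes L507707 (flp_e L187433)
theorem L507709 : N22069 = N21072 := (eqc rfl L507708 rfl).symm
theorem L507711 : sm gg N15158 = N44645 := trfs L507692 (flp_g L377715) rfl
theorem L507712 : N44645 = N22064 := eqes L507711 (flp_g L187391)
theorem L507713 : N44645 = N22064 := eqc rfl L507712 rfl
theorem L507715 : sm gh N15158 = N44648 := trfs L507692 L377734 rfl
theorem L507716 : N44648 = N22070 := eqes L507715 L187436
theorem L507717 : N44648 = N22070 := eqc rfl L507716 rfl
theorem L507719 : sm gb N22070 = N30627 := trfs L507717 L377736 rfl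
theorem L507720 : N30627 = N32115 := eqes L507719 (flp_b L272038)
theorem L507721 : N32115 = N30627 := (eqc rfl L507720 rfl).symm
theorem L507723 : sm ge N22070 = N30694 := trfs L507717 L377738 rfl
theorem L507724 : N30694 = N32165 := eqes L507723 (flp_e L272478)
theorem L507725 : N32165 = N30694 := (eqc rfl L507724 rfl).symm
theorem L507729 : sm ga N30694 = N22120 := trfs L507725 L272476 rfl
theorem L507730 : N22120 = N44715 := eqes L507729 (flp_a L378343)
theorem L507731 : N44715 = N22120 := (eqc rfl L507730 rfl).symm
theorem L507732 : sm ge N30694 = N22070 := trfs L507725 L272478 rfl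
theorem L507737 : sm ga N22120 = N30694 := trfs L507731 L378343 rfl
theorem L507740 : sm gd N22120 = N30761 := trfs L507731 L378347 rfl
theorem L507741 : N30761 = N32237 := eqes L507740 L273081
theorem L507742 : N32237 = N30761 := (eqc rfl L507741 rfl).symm
theorem L507744 : sm gh N22120 = N30659 := trfs L507731 (flp_h L378341) rfl
theorem L507745 : N30659 = N15193 := eqes L507744 (flp_h L187850)
theorem L507746 : N30659 = N15193 := eqc rfl L507745 rfl
theorem L507751 : sm gc N15193 = N44714 := trfs L507746 (flp_c L378338) rfl
theorem L507752 : N44714 = N22116 := eqes L507751 (flp_c L187822)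
theorem L507753 : N44714 = N22116 := eqc rfl L507752 rfl
theorem L507756 : sm gf N15193 = N42139 := trfs L507746 (flp_f L356223) rfl
theorem L507757 : N42139 = N22119 := eqes L507756 (flp_f L187847)
theorem L507758 : N42139 = N22119 := eqc rfl L507757 rfl
theorem L507761 : sm gi N15193 = N21047 := trfs L507746 (flp_i L260055) rfl
theorem L507762 : N21047 = N10449 := eqes L507761 (flp_i L129372)
theorem L507763 : N21047 = N10449 := eqc rfl L507762 rfl
theorem L507764 : sm ga N10449 = N14480 := trfs L507763 L178957 rfl
theorem L507765 : N14480 = N15157 := eqes L507764 (flp_a L129068)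
theorem L507766 : N15157 = N14480 := (eqc rfl L507765 rfl).symm
theorem L507768 : sm gc N10449 = N30658 := trfs L507763 L260049 rfl
theorem L507769 : N30658 = N15190 := eqes L507768 (flp_c L129352)
theorem L507770 : N30658 = N15190 := eqc rfl L507769 rfl
theorem L507775 : sm gf N10449 = N28925 := trfs L507763 (flp_f L245121) rfl
theorem L507776 : N28925 = N15192 := eqes L507775 L129364
theorem L507777 : N28925 = N15192 := eqc rfl L507776 rfl
theorem L507781 : sm ga N15192 = N19900 := trfs L507777 L245118 rfl
theorem L507782 : N19900 = N22068 := eqes L507781 (flp_a L187420)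
theorem L507783 : N22068 = N19900 := (eqc rfl L507782 rfl).symm
theorem L507785 : sm gc N15192 = N42138 := trfs L507777 L356206 rfl
theorem L507786 : N42138 = N22115 := eqes L507785 (flp_c L187815)
theorem L507787 : N42138 = N22115 := eqc rfl L507786 rfl
theorem L507790 : sm gg N15192 = N42136 := trfs L507777 (flp_g L356191) rfl
theorem L507791 : N42136 = N22118 := eqes L507790 L187834
theorem L507792 : N42136 = N22118 := eqc rfl L507791 rfl
theorem L507796 : sm ga N22118 = N28947 := trfs L507792 L356188 rfl
theorem L507797 : N28947 = N32163 := eqes L507796 (flp_a L272458)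
theorem L507798 : N32163 = N28947 := (eqc rfl L507797 rfl).symm
theorem L507803 : sm ga N28947 = N22118 := trfs L507798 L272458 rfl
theorem L507809 : sm ga N22115 = N28949 := trfs L507787 L356208 rfl
theorem L507810 : N28949 = N32160 := eqes L507809 (flp_a L272431)
theorem L507811 : N32160 = N28949 := (eqc rfl L507810 rfl).symm
theorem L507816 : sm ga N28949 = N22115 := trfs L507811 L272431 rfl
theorem L507819 : sm gd N28949 = N45740 := trfs L507811 (flp_d L386724) rfl
theorem L507820 : N45740 = N42151 := eqes L507819 (flp_d L356341)
theorem L507821 : N45740 = N42151 := eqc rfl L507820 rfl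
theorem L507823 : sm gf N28949 = N22066 := trfs L507811 (flp_f L272429) rfl
theorem L507824 : N22066 = N21071 := eqes L507823 L245346
theorem L507825 : N22066 = N21071 := eqc rfl L507824 rfl
theorem L507830 : sm gb N21071 = N32158 := trfs L507825 (flp_b L272417) rfl
theorem L507831 : N32158 = N30692 := eqes L507830 L260334
theorem L507832 : N32158 = N30692 := eqc rfl L507831 rfl
theorem L507834 : sm gd N21071 = N31343 := trfs L507825 (flp_d L265682) rfl
theorem L507835 : N31343 = N30671 := eqes L507834 (flp_d L260170)
theorem L507836 : N31343 = N30671 := eqc rfl L507835 rfl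
theorem L507837 : sm ge N21071 = N15156 := trfs L507825 (flp_e L187400) rfl
theorem L507838 : N15156 = N30614 := eqes L507837 (flp_e L259651)
theorem L507839 : N30614 = N15156 := (eqc rfl L507838 rfl).symm
theorem L507840 : sm gg N21071 = N32152 := trfs L507825 (flp_g L272368) rfl
theorem L507841 : N32152 = N30690 := eqes L507840 (flp_g L260323)
theorem L507842 : N32152 = N30690 := eqc rfl L507841 rfl
theorem L507845 : sm gi N21071 = N32161 := trfs L507825 L272438 rfl
theorem L507846 : N32161 = N30693 := eqes L507845 L260340
theorem L507847 : N32161 = N30693 := eqc rfl L507846 rfl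
theorem L507851 : sm gd N30693 = N45741 := trfs L507847 (flp_d L386733) rfl
theorem L507852 : N45741 = N44736 := eqes L507851 (flp_d L378521)
theorem L507853 : N45741 = N44736 := eqc rfl L507852 rfl
theorem L507857 : sm ga N44736 = N31410 := trfs L507853 L386729 rfl
theorem L507859 : sm gc N44736 = N31346 := trfs L507853 L386731 rfl
theorem L507860 : N31346 = N30673 := eqes L507859 L378519
theorem L507861 : N31346 = N30673 := eqc rfl L507860 rfl
theorem L507862 : sm ge N44736 = N31344 := trfs L507853 L386735 rfl
theorem L507866 : sm ga N30673 = N21549 := trfs L507861 L265702 rfl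
theorem L507867 : N21549 = N44694 := eqes L507866 (flp_a L378167)
theorem L507868 : N44694 = N21549 := (eqc rfl L507867 rfl).symm
theorem L507869 : sm gb N30673 = N45677 := trfs L507861 (flp_b L386189) rfl
theorem L507870 : N45677 = N21438 := eqes L507869 L260181
theorem L507871 : N45677 = N21438 := eqc rfl L507870 rfl
theorem L507878 : sm gh N30673 = N45745 := trfs L507861 L386760 rfl
theorem L507879 : N45745 = N44739 := eqes L507878 L378540
theorem L507880 : N45745 = N44739 := eqc rfl L507879 rfl
theorem L507882 : sm ga N44739 = N31414 := trfs L507880 L386762 rfl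
theorem L507884 : sm ge N44739 = N31347 := trfs L507880 L386764 rfl
theorem L507890 : sm ge N21438 = N31306 := trfs L507871 L386193 rfl
theorem L507891 : N31306 = N31245 := eqes L507890 (flp_e L264899)
theorem L507892 : N31306 = N31245 := eqc rfl L507891 rfl
theorem L507894 : sm gi N21438 = N31305 := trfs L507871 (flp_i L386187) rfl
theorem L507895 : N31305 = N14725 := eqes L507894 (flp_i L182215)
theorem L507896 : N31305 = N14725 := eqc rfl L507895 rfl
theorem L507897 : sm ga N14725 = N44798 := trfs L507896 (flp_a L379021) rfl
theorem L507898 : N44798 = N21408 := eqes L507897 (flp_a L181964)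
theorem L507899 : N44798 = N21408 := eqc rfl L507898 rfl
theorem L507905 : sm ge N14725 = N21480 := trfs L507896 (flp_e L265362) rfl
theorem L507906 : N21480 = N21437 := eqes L507905 L182210
theorem L507907 : N21480 = N21437 := eqc rfl L507906 rfl
theorem L507915 : sm gh N14725 = N45662 := trfs L507896 (flp_h L386086) rfl
theorem L507916 : N45662 = N21429 := eqes L507915 (flp_h L182157)
theorem L507917 : N45662 = N21429 := eqc rfl L507916 rfl
theorem L507918 : sm gb N21429 = N31331 := trfs L507917 L386083 rfl
theorem L507919 : N31331 = N30664 := eqes L507918 (flp_b L260105)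
theorem L507920 : N31331 = N30664 := eqc rfl L507919 rfl
theorem L507924 : sm ge N21429 = N31297 := trfs L507917 (flp_e L386081) rfl
theorem L507925 : N31297 = N31230 := eqes L507924 L264799
theorem L507926 : N31297 = N31230 := eqc rfl L507925 rfl
theorem L507928 : sm ga N31230 = N44790 := trfs L507926 (flp_a L378948) rfl
theorem L507929 : N44790 = N45509 := eqes L507928 (flp_a L384861)
theorem L507930 : N45509 = N44790 := (eqc rfl L507929 rfl).symm
theorem L507931 : sm gb N31230 = N21496 := trfs L507926 L265307 rfl
theorem L507932 : N21496 = N43479 := eqes L507931 (flp_b L420371)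
theorem L507933 : N43479 = N21496 := (eqc rfl L507932 rfl).symm
theorem L507937 : sm gd N31230 = N21476 := trfs L507926 (flp_d L265305) rfl
theorem L507938 : N21476 = N23675 := eqes L507937 L264804
theorem L507939 : N23675 = N21476 := (eqc rfl L507938 rfl).symm
theorem L507940 : sm gf N31230 = N42949 := trfs L507926 (flp_f L363202) rfl
theorem L507941 : N42949 = N45566 := eqes L507940 L385350
theorem L507942 : N45566 = N42949 := (eqc rfl L507941 rfl).symm
theorem L507943 : sm gg N31230 = N45659 := trfs L507926 (flp_g L386064) rfl
theorem L507944 : N45659 = N45561 := eqes L507943 (flp_g L385317)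
theorem L507945 : N45659 = N45561 := eqc rfl L507944 rfl
theorem L507948 : sm gi N31230 = N45663 := trfs L507926 L386090 rfl
theorem L507949 : N45663 = N45567 := eqes L507948 L385357
theorem L507950 : N45663 = N45567 := eqc rfl L507949 rfl
theorem L507951 : sm gb N45567 = N31332 := trfs L507950 L386092 rfl
theorem L507953 : sm gd N45567 = N31298 := trfs L507950 L386094 rfl
theorem L507954 : N31298 = N34523 := eqes L507953 L385359
theorem L507955 : N34523 = N31298 := (eqc rfl L507954 rfl).symm
theorem L507957 : sm gd N31298 = N45567 := trfs L507955 (flp_d L385359) rfl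
theorem L507959 : sm ge N31298 = N23676 := trfs L507955 L292792 rfl
theorem L507960 : N23676 = N23736 := eqes L507959 L265316
theorem L507961 : N23736 = N23676 := (eqc rfl L507960 rfl).symm
theorem L507964 : sm ga N23676 = N33791 := trfs L507961 (flp_a L286654) rfl
theorem L507965 : N33791 = N34468 := eqes L507964 (flp_a L292314)
theorem L507966 : N34468 = N33791 := (eqc rfl L507965 rfl).symm
theorem L507967 : sm gb N23676 = N16316 := trfs L507961 L201866 rfl
theorem L507968 : N16316 = N33725 := eqes L507967 (flp_b L286106)
theorem L507969 : N33725 = N16316 := (eqc rfl L507968 rfl).symm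
theorem L507970 : sm gc N23676 = N34596 := trfs L507961 (flp_c L293362) rfl
theorem L507971 : N34596 = N34521 := eqes L507970 (flp_c L292778)
theorem L507972 : N34596 = N34521 := eqc rfl L507971 rfl
theorem L507976 : sm ge N23676 = N31298 := trfs L507961 (flp_e L265316) rfl
theorem L507979 : sm gg N23676 = N34602 := trfs L507961 (flp_g L293405) rfl
theorem L507980 : N34602 = N34518 := eqes L507979 (flp_g L292759)
theorem L507981 : N34602 = N34518 := eqc rfl L507980 rfl
theorem L507983 : sm gh N23676 = N34434 := trfs L507961 (flp_h L292042) rfl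
theorem L507984 : N34434 = N34524 := eqes L507983 L292795
theorem L507985 : N34434 = N33825 := eqc rfl L507984 L456595
theorem L507986 : sm gi N23676 = N16295 := trfs L507961 (flp_i L201864) rfl
theorem L507987 : N16295 = N16251 := eqes L507986 (flp_i L201398)
theorem L507988 : N16295 = N16251 := eqc rfl L507987 rfl
theorem L507993 : sm gc N16251 = N23731 := trfs L507988 (flp_c L201832) rfl
theorem L507994 : N23731 = N23674 := eqes L507993 L201385
theorem L507995 : N23731 = N23674 := eqc rfl L507994 rfl
theorem L508002 : sm gg N16251 = N23734 := trfs L507988 (flp_g L201854) rfl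
theorem L508003 : N23734 = N23672 := eqes L508002 (flp_g L201373)
theorem L508004 : N23734 = N23672 := eqc rfl L508003 rfl
theorem L508007 : sm ga N23672 = N33789 := trfs L508004 (flp_a L286636) rfl
theorem L508008 : N33789 = N34464 := eqes L508007 (flp_a L292279)
theorem L508009 : N34464 = N33789 := (eqc rfl L508008 rfl).symm
theorem L508010 : sm gb N23672 = N16314 := trfs L508004 L201852 rfl
theorem L508011 : N16314 = N33721 := eqes L508010 (flp_b L286075)
theorem L508012 : N33721 = N16314 := (eqc rfl L508011 rfl).symm
theorem L508013 : sm gc N23672 = N34594 := trfs L508004 (flp_c L293346) rfl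
theorem L508014 : N34594 = N34516 := eqes L508013 L292741
theorem L508015 : N34594 = N34516 := eqc rfl L508014 rfl
theorem L508019 : sm ge N23672 = N31296 := trfs L508004 (flp_e L265301) rfl
theorem L508020 : N31296 = N34517 := eqes L508019 L292749
theorem L508021 : N34517 = N31296 := (eqc rfl L508020 rfl).symm
theorem L508022 : sm gf N23672 = N34599 := trfs L508004 (flp_f L293383) rfl
theorem L508023 : N34599 = N34512 := eqes L508022 (flp_f L292711)
theorem L508024 : N34599 = N34512 := eqc rfl L508023 rfl
theorem L508025 : sm gj N23672 = N34600 := trfs L508004 (flp_j L293391) rfl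
theorem L508026 : N34600 = N34514 := eqes L508025 (flp_j L292728)
theorem L508027 : N34600 = N34514 := eqc rfl L508026 rfl
theorem L508028 : sm gh N23672 = N16294 := trfs L508004 (flp_h L201850) rfl
theorem L508029 : N16294 = N16256 := eqes L508028 L201375
theorem L508030 : N16294 = N16256 := eqc rfl L508029 rfl
theorem L508036 : sm gc N16256 = N23730 := trfs L508030 (flp_c L201824) rfl
theorem L508037 : N23730 = N23683 := eqes L508036 L201450
theorem L508038 : N23730 = N23683 := eqc rfl L508037 rfl
theorem L508040 : sm ge N16256 = N21475 := trfs L508030 (flp_e L182511) rfl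
theorem L508041 : N21475 = N23684 := eqes L508040 L201456
theorem L508042 : N23684 = N21475 := (eqc rfl L508041 rfl).symm
theorem L508043 : sm gf N16256 = N23732 := trfs L508030 L201836 rfl
theorem L508044 : N23732 = N23679 := eqes L508043 (flp_f L201422)
theorem L508045 : N23732 = N23679 := eqc rfl L508044 rfl
theorem L508047 : sm gj N16256 = N23733 := trfs L508030 L201843 rfl
theorem L508048 : N23733 = N23681 := eqes L508047 (flp_j L201437)
theorem L508049 : N23733 = N23681 := eqc rfl L508048 rfl
theorem L508050 : sm gi N16256 = N23617 := trfs L508030 (flp_i L200890) rfl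
theorem L508051 : N23617 = N23685 := eqes L508050 L201462
theorem L508052 : N23685 = N23617 := (eqc rfl L508051 rfl).symm
theorem L508057 : sm gc N23617 = N29720 := trfs L508052 (flp_c L420467) rfl
theorem L508058 : N29720 = N34428 := eqes L508057 (flp_c L291990)
theorem L508059 : N34428 = N29720 := (eqc rfl L508058 rfl).symm
theorem L508064 : sm gf N23617 = N33828 := trfs L508052 (flp_f L292841) L456749
theorem L508065 : N33828 = N34430 := eqes L508064 L292004
theorem L508066 : N34430 = N33828 := (eqc rfl L508065 rfl).symm
theorem L508067 : sm gg N23617 = N16260 := trfs L508052 L201466 rfl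
theorem L508068 : N16260 = N16215 := eqes L508067 (flp_g L200884)
theorem L508069 : N16260 = N15931 := eqc rfl L508068 L505849
theorem L508070 : sm gj N23617 = N34533 := trfs L508052 (flp_j L292863) rfl
theorem L508071 : N34533 = N34431 := eqes L508070 L292013
theorem L508072 : N34533 = N34431 := eqc rfl L508071 rfl
theorem L508073 : sm gh N23617 = N34539 := trfs L508052 L292898 rfl
theorem L508074 : N34539 = N34432 := eqes L508073 L292022
theorem L508075 : N34539 = N34432 := eqc rfl L508074 rfl
theorem L508076 : sm gi N23617 = N16256 := trfs L508052 (flp_i L201462) rfl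
theorem L508078 : sm gd N34432 = N23196 := trfs L508075 L292902 L456625
theorem L508080 : N34432 = N33821 := eqes (flp_d L508078) L286927
theorem L508081 : N34432 = N33821 := eqc rfl L508080 rfl
theorem L508084 : sm gb N33821 = N23637 := trfs L508081 L292024 rfl
theorem L508086 : sm ge N33821 = N45474 := trfs L508081 (flp_e L384570) rfl
theorem L508088 : sm gg N33821 = N23618 := trfs L508081 L292026 rfl
theorem L508089 : N23618 = N23197 := eqes L508088 L286931
theorem L508090 : N23618 = N23197 := eqc rfl L508089 rfl
theorem L508091 : sm gh N33821 = N23617 := trfs L508081 (flp_h L292022) rfl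
theorem L508092 : N23617 = N23202 := eqes L508091 L286933
theorem L508093 : N23617 = N23202 := eqc rfl L508092 rfl
theorem L508097 : sm gc N23202 = N29720 := trfs L508093 (flp_c L291990) L508059
theorem L508098 : N29720 = N33832 := eqes L508097 L287018
theorem L508099 : N33832 = N29720 := (eqc rfl L508098 rfl).symm
theorem L508103 : N33833 = N29822 := L502521.trans L504967
theorem L508106 : sm gj N23202 = N34431 := trfs L508093 L292013 rfl
theorem L508107 : N34431 = N33830 := eqes L508106 (flp_j L287005)
theorem L508108 : N34431 = N33830 := eqc rfl L508107 rfl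
theorem L508109 : sm gi N23202 = N16256 := trfs L508093 L508076 rfl
theorem L508110 : N16256 = N33834 := eqes L508109 L287034
theorem L508111 : N33834 = N16256 := (eqc rfl L508110 rfl).symm
theorem L508115 : sm gg N16256 = N23206 := trfs L508111 L287040 rfl
theorem L508116 : N23206 = N11174 := eqes L508115 L138703
theorem L508117 : N23206 = N11174 := eqc rfl L508116 rfl
theorem L508118 : sm gi N16256 = N23202 := trfs L508111 (flp_i L287034) rfl
theorem L508129 : sm ge N11174 = N14754 := trfs L508117 (flp_e L287081) L502416
theorem L508130 : N14754 = N16259 := eqes L508129 L138721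
theorem L508131 : N16259 = N14754 := (eqc rfl L508130 rfl).symm
theorem L508144 : sm gb N14754 = N20488 := trfs L508131 (flp_b L428045) rfl
theorem L508145 : N20488 = N10157 := eqes L508144 L125703
theorem L508146 : N20488 = N10157 := eqc rfl L508145 rfl
theorem L508147 : sm gc N14754 = N20502 := trfs L508131 (flp_c L420433) rfl
theorem L508148 : N20502 = N21474 := eqes L508147 L182497
theorem L508149 : N21474 = N20502 := (eqc rfl L508148 rfl).symm
theorem L508155 : sm gf N14754 = N21690 := trfs L508131 (flp_f L428094) rfl
theorem L508156 : N21690 = N20251 := eqes L508155 (flp_f L172104)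
theorem L508157 : N21690 = N20251 := eqc rfl L508156 rfl
theorem L508161 : sm gi N14754 = N20487 := trfs L508131 (flp_i L420256) rfl
theorem L508162 : N20487 = N21393 := eqes L508161 (flp_i L181834)
theorem L508163 : N21393 = N20487 := (eqc rfl L508162 rfl).symm
theorem L508164 : sm gb N20487 = N14704 := trfs L508163 L181831 rfl
theorem L508165 : N14704 = N14088 := eqes L508164 (flp_b L174118)
theorem L508166 : N14704 = N14088 := eqc rfl L508165 rfl
theorem L508175 : sm gh N20487 = N31172 := trfs L508163 L264289 rfl
theorem L508176 : N31172 = N29451 := eqes L508175 (flp_h L249685)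
theorem L508177 : N31172 = N29451 := eqc rfl L508176 rfl
theorem L508178 : sm gi N20487 = N14754 := trfs L508163 L181834 rfl
theorem L508180 : sm ga N29451 = N23235 := trfs L508177 (flp_a L377892) L505887
theorem L508181 : N23235 = N42922 := eqes L508180 L362967
theorem L508182 : N42922 = N23235 := (eqc rfl L508181 rfl).symm
theorem L508183 : sm gb N29451 = N21404 := trfs L508177 L264291 rfl
theorem L508184 : N21404 = N20237 := eqes L508183 (flp_b L249680)
theorem L508185 : N21404 = N20237 := eqc rfl L508184 rfl
theorem L508187 : sm gd N29451 = N45475 := trfs L508177 L384574 rfl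
theorem L508188 : N45475 = N42893 := eqes L508187 (flp_d L362759)
theorem L508189 : N45475 = N42893 := eqc rfl L508188 rfl
theorem L508195 : sm gg N29451 = N45474 := trfs L508177 (flp_g L384572) rfl
theorem L508196 : N45474 = N42919 := eqes L508195 (flp_g L362945)
theorem L508197 : N45474 = N42919 := eqc rfl L508196 rfl
theorem L508199 : sm gi N29451 = N45476 := trfs L508177 L384581 rfl
theorem L508200 : N45476 = N42923 := eqes L508199 L362976
theorem L508201 : N45476 = N42923 := eqc rfl L508200 rfl
theorem L508202 : sm gb N42923 = N31193 := trfs L508201 L384583 rfl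
theorem L508203 : N31193 = N29452 := eqes L508202 L362978
theorem L508204 : N31193 = N29452 := eqc rfl L508203 rfl
theorem L508205 : sm ge N42923 = N33825 := trfs L508201 L384585 L507985
theorem L508208 : sm gh N42923 = N31298 := trfs L508201 L384588 rfl
theorem L508213 : sm gd N29452 = N45510 := trfs L508204 (flp_d L384872) rfl
theorem L508214 : N45510 = N42895 := eqes L508213 (flp_d L362773)
theorem L508215 : N45510 = N42895 := eqc rfl L508214 rfl
theorem L508216 : sm ge N29452 = N23639 := trfs L508204 L264471 rfl
theorem L508217 : N23639 = N42806 := eqes L508216 (flp_e L361992)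
theorem L508218 : N42806 = N23639 := (eqc rfl L508217 rfl).symm
theorem L508219 : sm gf N29452 = N42845 := trfs L508204 (flp_f L362345) rfl
theorem L508220 : N42845 = N21458 := eqes L508219 L249693
theorem L508221 : N42845 = N21458 := eqc rfl L508220 rfl
theorem L508224 : sm gh N29452 = N21497 := trfs L508204 L264474 rfl
theorem L508225 : N21497 = N42924 := eqes L508224 L362985
theorem L508226 : N42924 = N21497 := (eqc rfl L508225 rfl).symm
theorem L508233 : sm gh N21497 = N29452 := trfs L508226 (flp_h L362985) rfl
theorem L508235 : sm gi N21497 = N29827 := trfs L508226 L362992 rfl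
theorem L508236 : N29827 = N14765 := eqes L508235 (flp_i L182678)
theorem L508237 : N29827 = N14765 := eqc rfl L508236 rfl
theorem L508246 : sm gg N14765 = N43476 := trfs L508237 (flp_g L367664) rfl
theorem L508247 : N43476 = N21495 := eqes L508246 (flp_g L182669)
theorem L508248 : N43476 = N21495 := eqc rfl L508247 rfl
theorem L508252 : sm gh N21495 = N29823 := trfs L508248 (flp_h L367660) rfl
theorem L508253 : N29823 = N14764 := eqes L508252 (flp_h L182661)
theorem L508254 : N29823 = N14764 := eqc rfl L508253 rfl
theorem L508262 : sm gf N14764 = N43468 := trfs L508254 (flp_f L367600) rfl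
theorem L508263 : N43468 = N21493 := eqes L508262 L182642
theorem L508264 : N43468 = N21493 := eqc rfl L508263 rfl
theorem L508267 : sm gi N14764 = N20485 := trfs L508254 (flp_i L252842) rfl
theorem L508268 : N20485 = N21403 := eqes L508267 (flp_i L181922)
theorem L508269 : N21403 = N20485 := (eqc rfl L508268 rfl).symm
theorem L508278 : sm gf N20485 = N31189 := trfs L508269 L264425 rfl
theorem L508279 : N31189 = N29817 := eqes L508278 (flp_f L252801)
theorem L508280 : N31189 = N29817 := eqc rfl L508279 rfl
theorem L508282 : sm gj N20485 = N31190 := trfs L508269 L264435 rfl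
theorem L508283 : N31190 = N29820 := eqes L508282 (flp_j L252825)
theorem L508284 : N31190 = N29820 := eqc rfl L508283 rfl
theorem L508285 : sm gh N20485 = N31191 := trfs L508269 L264448 rfl
theorem L508286 : N31191 = N29449 := eqes L508285 (flp_h L249670)
theorem L508287 : N31191 = N29449 := eqc rfl L508286 rfl
theorem L508288 : sm gi N20485 = N14764 := trfs L508269 L181922 rfl
theorem L508294 : sm gd N29449 = N45506 := trfs L508287 L384830 rfl
theorem L508295 : N45506 = N42890 := eqes L508294 (flp_d L362743)
theorem L508296 : N45506 = N42890 := eqc rfl L508295 rfl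
theorem L508301 : sm gj N29449 = N45505 := trfs L508287 (flp_j L384828) rfl
theorem L508302 : N45505 = N42917 := eqes L508301 (flp_j L362930)
theorem L508303 : N45505 = N42917 := eqc rfl L508302 rfl
theorem L508305 : sm ga N42917 = N31226 := trfs L508303 L384821 rfl
theorem L508308 : sm ge N42917 = N34463 := trfs L508303 L384825 rfl
theorem L508312 : sm ga N42890 = N31227 := trfs L508296 L384832 rfl
theorem L508314 : sm gg N42890 = N31192 := trfs L508296 L384834 rfl
theorem L508315 : N31192 = N29430 := eqes L508314 L362741
theorem L508316 : N31192 = N29430 := eqc rfl L508315 rfl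
theorem L508317 : sm gh N42890 = N31197 := trfs L508296 L384836 rfl
theorem L508319 : sm ga N29430 = N21429 := trfs L508316 L264460 rfl
theorem L508320 : N21429 = N42851 := eqes L508319 (flp_a L362401)
theorem L508321 : N42851 = N21429 := (eqc rfl L508320 rfl).symm
theorem L508325 : sm ge N29430 = N44790 := trfs L508316 L384859 L507930
theorem L508326 : N44790 = N42894 := eqes L508325 L362764
theorem L508327 : N44790 = N42894 := eqc rfl L508326 rfl
theorem L508328 : sm gf N29430 = N42844 := trfs L508316 (flp_f L362333) rfl
theorem L508329 : N42844 = N21436 := eqes L508328 L249527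
theorem L508330 : N42844 = N21436 := eqc rfl L508329 rfl
theorem L508332 : sm gh N29430 = N21408 := trfs L508316 L264463 rfl
theorem L508333 : N21408 = N42881 := eqes L508332 (flp_h L362673)
theorem L508334 : N42881 = N21408 := (eqc rfl L508333 rfl).symm
theorem L508336 : sm gc N21408 = N29423 := trfs L508334 (flp_c L362668) rfl
theorem L508337 : N29423 = N31199 := eqes L508336 L264523
theorem L508338 : N31199 = N29423 := (eqc rfl L508337 rfl).symm
theorem L508340 : sm gf N21408 = N31229 := trfs L508334 L362670 rfl
theorem L508341 : N31229 = N29402 := eqes L508340 (flp_f L249281)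
theorem L508342 : N31229 = N29402 := eqc rfl L508341 rfl
theorem L508344 : sm gh N21408 = N29430 := trfs L508334 L362673 rfl
theorem L508351 : sm ge N29402 = N45564 := trfs L508342 L385336 rfl
theorem L508352 : N45564 = N42852 := eqes L508351 L362408
theorem L508353 : N45564 = N42852 := eqc rfl L508352 rfl
theorem L508354 : sm gg N29402 = N45560 := trfs L508342 (flp_g L385309) rfl
theorem L508355 : N45560 = N42849 := eqes L508354 (flp_g L362385)
theorem L508356 : N45560 = N42849 := eqc rfl L508355 rfl
theorem L508360 : sm gi N29402 = N45565 := trfs L508342 L385343 rfl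
theorem L508361 : N45565 = N42853 := eqes L508360 L362415
theorem L508362 : N45565 = N42853 := eqc rfl L508361 rfl
theorem L508363 : sm gc N42853 = N31231 := trfs L508362 L385345 rfl
theorem L508367 : sm gc N42849 = N31227 := trfs L508356 (flp_c L385307) rfl
theorem L508369 : sm gd N42849 = N31555 := trfs L508356 L385313 rfl
theorem L508370 : N31555 = N29401 := eqes L508369 (flp_d L362381)
theorem L508371 : N31555 = N29401 := eqc rfl L508370 rfl
theorem L508372 : sm gh N42849 = N31238 := trfs L508356 L385311 rfl
theorem L508388 : sm gi N29401 = N46049 := trfs L508371 L389287 rfl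
theorem L508389 : N46049 = N42850 := eqes L508388 L362387
theorem L508390 : N46049 = N42850 := eqc rfl L508389 rfl
theorem L508391 : sm gc N42850 = N31557 := trfs L508390 L389289 rfl
theorem L508392 : N31557 = N29416 := eqes L508391 L362391
theorem L508393 : N31557 = N29416 := eqc rfl L508392 rfl
theorem L508402 : sm gf N29416 = N46043 := trfs L508393 (flp_f L389245) rfl
theorem L508403 : N46043 = N42867 := eqes L508402 (flp_f L362544)
theorem L508404 : N46043 = N42867 := eqc rfl L508403 rfl
theorem L508406 : sm gj N29416 = N46046 := trfs L508393 (flp_j L389270) rfl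
theorem L508407 : N46046 = N42869 := eqes L508406 (flp_j L362568)
theorem L508408 : N46046 = N42869 := eqc rfl L508407 rfl
theorem L508409 : sm gh N29416 = N46052 := trfs L508393 L389309 rfl
theorem L508410 : N46052 = N20280 := eqes L508409 L249411
theorem L508411 : N46052 = N20280 := eqc rfl L508410 rfl
theorem L508418 : sm gi N20280 = N31578 := trfs L508411 L389316 rfl
theorem L508419 : N31578 = N13947 := eqes L508418 (flp_i L172346)
theorem L508420 : N31578 = N13947 := eqc rfl L508419 rfl
theorem L508433 : sm gh N13947 = N21663 := trfs L508420 (flp_h L267626) rfl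
theorem L508434 : N21663 = N9610 := eqes L508433 (flp_h L118830)
theorem L508435 : N21663 = N9610 := eqc rfl L508434 rfl
theorem L508452 : sm gi N9610 = N14875 := trfs L508435 (flp_i L184067) rfl
theorem L508453 : N14875 = N13902 := eqes L508452 (flp_i L118461)
theorem L508454 : N14875 = N13902 := eqc rfl L508453 rfl
theorem L508470 : sm gj N13902 = N21659 := trfs L508454 (flp_j L184040) rfl
theorem L508471 : N21659 = N20211 := eqes L508470 L171770
theorem L508472 : N21659 = N20211 := eqc rfl L508471 rfl
theorem L508478 : sm gc N20211 = N31570 := trfs L508472 L267567 rfl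
theorem L508479 : N31570 = N29400 := eqes L508478 (flp_c L249260)
theorem L508480 : N31570 = N29400 := eqc rfl L508479 rfl
theorem L508491 : sm gh N20211 = N31553 := trfs L508472 (flp_h L267446) rfl
theorem L508492 : N31553 = N29414 := eqes L508491 L249383
theorem L508493 : N31553 = N29414 := eqc rfl L508492 rfl
theorem L508505 : sm gf N29414 = N46039 := trfs L508493 (flp_f L389214) rfl
theorem L508506 : N46039 = N42865 := eqes L508505 (flp_f L362524)
theorem L508507 : N46039 = N42865 := eqc rfl L508506 rfl
theorem L508512 : sm gd N42865 = N31550 := trfs L508507 (flp_d L389211) rfl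
theorem L508514 : sm gj N42865 = N31551 := trfs L508507 L389216 rfl
theorem L508515 : N31551 = N29413 := eqes L508514 L362526
theorem L508516 : N31551 = N29413 := eqc rfl L508515 rfl
theorem L508527 : sm gg N29413 = N43412 := trfs L508516 (flp_g L367160) rfl
theorem L508528 : N43412 = N21419 := eqes L508527 L249381
theorem L508529 : N43412 = N21419 := eqc rfl L508528 rfl
theorem L508536 : sm gh N21419 = N29790 := trfs L508529 L367162 rfl
theorem L508537 : N29790 = N14713 := eqes L508536 (flp_h L182061)
theorem L508538 : N29790 = N14713 := eqc rfl L508537 rfl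
theorem L508546 : sm gd N14713 = N20462 := trfs L508538 (flp_d L252585) rfl
theorem L508547 : N20462 = N10221 := eqes L508546 L125376
theorem L508548 : N20462 = N10221 := eqc rfl L508547 rfl
theorem L508559 : sm gi N14713 = N43430 := trfs L508538 L367303 rfl
theorem L508560 : N43430 = N10166 := eqes L508559 L125378
theorem L508561 : N43430 = N10166 := eqc rfl L508560 rfl
theorem L508566 : sm gf N10166 = N29796 := trfs L508561 L367308 rfl
theorem L508567 : N29796 = N7005 := eqes L508566 (flp_f L86872)
theorem L508568 : N29796 = N7005 := eqc rfl L508567 rfl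
theorem L508583 : sm gh N7005 = N43439 := trfs L508568 L367370 rfl
theorem L508584 : N43439 = N10168 := eqes L508583 L86889
theorem L508585 : N43439 = N10168 := eqc rfl L508584 rfl
theorem L508589 : sm gd N10168 = N29945 := trfs L508585 L367375 rfl
theorem L508590 : N29945 = N14782 := eqes L508589 L125935
theorem L508591 : N29945 = N14782 := eqc rfl L508590 rfl
theorem L508613 : sm gh N14782 = N20567 := trfs L508591 (flp_h L253876) rfl
theorem L508614 : N20567 = N10279 := eqes L508613 L125944
theorem L508615 : N20567 = N10279 := eqc rfl L508614 rfl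
theorem L508616 : sm gi N14782 = N43625 := trfs L508591 (flp_i L368946) rfl
theorem L508617 : N43625 = N21523 := eqes L508616 L182915
theorem L508618 : N43625 = N21523 := eqc rfl L508617 rfl
theorem L508620 : sm gg N21523 = N29930 := trfs L508618 L368944 rfl
theorem L508621 : N29930 = N14785 := eqes L508620 L182924
theorem L508622 : N29930 = N14785 := eqc rfl L508621 rfl
theorem L508629 : sm gc N14785 = N43631 := trfs L508622 (flp_c L368989) rfl
theorem L508630 : N43631 = N21525 := eqes L508629 (flp_c L182938)
theorem L508631 : N43631 = N21525 := eqc rfl L508630 rfl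
theorem L508640 : sm gh N14785 = N20558 := trfs L508622 (flp_h L253757) rfl
theorem L508641 : N20558 = N21526 := eqes L508640 L182943
theorem L508642 : N21526 = N20558 := (eqc rfl L508641 rfl).symm
theorem L508644 : sm ga N20558 = N14820 := trfs L508642 L182945 rfl
theorem L508645 : N14820 = N29880 := eqes L508644 (flp_a L253327)
theorem L508646 : N29880 = N14820 := (eqc rfl L508645 rfl).symm
theorem L508648 : sm gc N20558 = N31373 := trfs L508642 (flp_c L265960) rfl
theorem L508649 : N31373 = N29928 := eqes L508648 (flp_c L253744)
theorem L508650 : N31373 = N29928 := eqc rfl L508649 rfl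
theorem L508652 : sm ge N20558 = N15179 := trfs L508642 L182948 rfl
theorem L508653 : N15179 = N29929 := eqes L508652 (flp_e L253753)
theorem L508654 : N29929 = N15179 := (eqc rfl L508653 rfl).symm
theorem L508658 : sm gh N20558 = N14785 := trfs L508642 (flp_h L182943) rfl
theorem L508660 : sm gi N20558 = N14946 := trfs L508642 L182951 rfl
theorem L508661 : N14946 = N14135 := eqes L508660 (flp_i L174721)
theorem L508662 : N14946 = N14135 := eqc rfl L508661 rfl
theorem L508663 : sm ga N14135 = N10307 := trfs L508662 L127301 rfl
theorem L508664 : N10307 = N20523 := eqes L508663 (flp_a L174421)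
theorem L508665 : N20523 = N10307 := (eqc rfl L508664 rfl).symm
theorem L508667 : sm gc N14135 = N21758 := trfs L508662 (flp_c L184836) rfl
theorem L508668 : N21758 = N20556 := eqes L508667 L174706
theorem L508669 : N21758 = N20556 := eqc rfl L508668 rfl
theorem L508671 : sm ge N14135 = N10496 := trfs L508662 L127304 rfl
theorem L508672 : N10496 = N20557 := eqes L508671 L174713
theorem L508673 : N20557 = N10496 := (eqc rfl L508672 rfl).symm
theorem L508677 : sm gh N14135 = N10282 := trfs L508662 (flp_h L127299) rfl
theorem L508678 : N10282 = N9741 := eqes L508677 L120452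
theorem L508679 : N10282 = N9741 := eqc rfl L508678 rfl
theorem L508683 : sm gc N9741 = N14945 := trfs L508679 (flp_c L127294) rfl
theorem L508684 : N14945 = N14142 := eqes L508683 L120503
theorem L508685 : N14945 = N14142 := eqc rfl L508684 rfl
theorem L508687 : sm ge N9741 = N7234 := trfs L508679 L87845 rfl
theorem L508688 : N7234 = N14143 := eqes L508687 L120510
theorem L508689 : N14143 = N7234 := (eqc rfl L508688 rfl).symm
theorem L508690 : sm gf N9741 = N14130 := trfs L508679 (flp_f L120413) rfl
theorem L508691 : N14130 = N7092 := eqes L508690 L83255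
theorem L508692 : N14130 = N7092 := eqc rfl L508691 rfl
theorem L508693 : sm gg N9741 = N14943 := trfs L508679 (flp_g L127282) rfl
theorem L508694 : N14943 = N14140 := eqes L508693 (flp_g L120492)
theorem L508695 : N14943 = N14140 := eqc rfl L508694 rfl
theorem L508697 : sm gi N9741 = N7083 := trfs L508679 (flp_i L87838) rfl
theorem L508698 : N7083 = N14144 := eqes L508697 L120517
theorem L508699 : N14144 = N7083 := (eqc rfl L508698 rfl).symm
theorem L508702 : sm gc N7083 = N20570 := trfs L508699 (flp_c L174818) rfl
theorem L508703 : N20570 = N10281 := eqes L508702 L87831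
theorem L508704 : N20570 = N10281 := eqc rfl L508703 rfl
theorem L508709 : sm gf N7083 = N10295 := trfs L508699 L120522 rfl
theorem L508710 : N10295 = N9732 := eqes L508709 (flp_f L83181)
theorem L508711 : N10295 = N9732 := eqc rfl L508710 rfl
theorem L508715 : sm gi N7083 = N9741 := trfs L508699 (flp_i L120517) rfl
theorem L508719 : sm gc N9732 = N14964 := trfs L508711 (flp_c L127432) rfl
theorem L508720 : N14964 = N14129 := eqes L508719 L120397
theorem L508721 : N14964 = N14129 := eqc rfl L508720 rfl
theorem L508726 : sm gh N9732 = N14965 := trfs L508711 L127438 rfl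
theorem L508727 : N14965 = N13948 := eqes L508726 (flp_h L118848)
theorem L508728 : N14965 = N13948 := eqc rfl L508727 rfl
theorem L508733 : sm gc N13948 = N21785 := trfs L508728 (flp_c L185035) rfl
theorem L508734 : N21785 = N20281 := eqes L508733 L172355
theorem L508735 : N21785 = N20281 := eqc rfl L508734 rfl
theorem L508748 : sm gd N20281 = N31744 := trfs L508735 L268938 rfl
theorem L508749 : N31744 = N29497 := eqes L508748 (flp_d L250068)
theorem L508750 : N31744 = N29497 := eqc rfl L508749 rfl
theorem L508755 : sm gg N20281 = N31741 := trfs L508735 (flp_g L268920) rfl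
theorem L508756 : N31741 = N29516 := eqes L508755 (flp_g L250239)
theorem L508757 : N31741 = N29516 := eqc rfl L508756 rfl
theorem L508760 : sm gi N20281 = N31725 := trfs L508735 (flp_i L268798) rfl
theorem L508761 : N31725 = N29519 := eqes L508760 L250262
theorem L508762 : N31725 = N29519 := eqc rfl L508761 rfl
theorem L508766 : sm gb N29519 = N46284 := trfs L508762 (flp_b L391144) rfl
theorem L508767 : N46284 = N43024 := eqes L508766 (flp_b L363848)
theorem L508768 : N46284 = N43024 := eqc rfl L508767 rfl
theorem L508775 : sm gg N29519 = N46282 := trfs L508762 (flp_g L391131) rfl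
theorem L508776 : N46282 = N43021 := eqes L508775 (flp_g L363823)
theorem L508777 : N46282 = N43021 := eqc rfl L508776 rfl
theorem L508779 : sm gh N29519 = N21770 := trfs L508762 (flp_h L268792) rfl
theorem L508780 : N21770 = N43025 := eqes L508779 L363855
theorem L508781 : N43025 = N21770 := (eqc rfl L508780 rfl).symm
theorem L508782 : sm ga N21770 = N29570 := trfs L508781 L363857 rfl
theorem L508783 : N29570 = N31673 := eqes L508782 (flp_a L268371)
theorem L508784 : N31673 = N29570 := (eqc rfl L508783 rfl).symm
theorem L508789 : sm gh N21770 = N29519 := trfs L508781 (flp_h L363855) rfl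
theorem L508791 : sm gi N21770 = N29914 := trfs L508781 L363865 rfl
theorem L508792 : N29914 = N14953 := eqes L508791 (flp_i L184920)
theorem L508793 : N29914 = N14953 := eqc rfl L508792 rfl
theorem L508794 : sm ga N14953 = N20592 := trfs L508793 L253636 rfl
theorem L508795 : N20592 = N21732 := eqes L508794 (flp_a L184611)
theorem L508796 : N21732 = N20592 := (eqc rfl L508795 rfl).symm
theorem L508801 : sm gd N14953 = N43606 := trfs L508793 L368795 rfl
theorem L508802 : N43606 = N21533 := eqes L508801 (flp_d L183001)
theorem L508803 : N43606 = N21533 := eqc rfl L508802 rfl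
theorem L508810 : sm gh N14953 = N20548 := trfs L508793 (flp_h L253634) rfl
theorem L508811 : N20548 = N10294 := eqes L508810 L127352
theorem L508812 : N20548 = N10294 := eqc rfl L508811 rfl
theorem L508813 : sm ga N10294 = N14160 := trfs L508812 L174648 rfl
theorem L508814 : N14160 = N14933 := eqes L508813 (flp_a L127188)
theorem L508815 : N14933 = N14160 := (eqc rfl L508814 rfl).symm
theorem L508816 : sm gb N10294 = N29913 := trfs L508812 (flp_b L253627) rfl
theorem L508817 : N29913 = N14963 := eqes L508816 L127423
theorem L508818 : N29913 = N14963 := eqc rfl L508817 rfl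
theorem L508825 : sm gg N10294 = N29910 := trfs L508812 (flp_g L253606) rfl
theorem L508826 : N29910 = N14961 := eqes L508825 (flp_g L127411)
theorem L508827 : N29910 = N14961 := eqc rfl L508826 rfl
theorem L508831 : sm ga N14961 = N20588 := trfs L508827 L253601 rfl
theorem L508832 : N20588 = N21740 := eqes L508831 (flp_a L184680)
theorem L508833 : N21740 = N20588 := (eqc rfl L508832 rfl).symm
theorem L508834 : sm gb N14961 = N43602 := trfs L508827 (flp_b L368760) rfl
theorem L508835 : N43602 = N21780 := eqes L508834 L184994
theorem L508836 : N43602 = N21780 := eqc rfl L508835 rfl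
theorem L508844 : sm gf N14961 = N43595 := trfs L508827 (flp_f L368700) rfl
theorem L508845 : N43595 = N21775 := eqes L508844 (flp_f L184961)
theorem L508846 : N43595 = N21775 := eqc rfl L508845 rfl
theorem L508847 : sm gj N14961 = N43599 := trfs L508827 (flp_j L368739) rfl
theorem L508848 : N43599 = N21778 := eqes L508847 (flp_j L184981)
theorem L508849 : N43599 = N21778 := eqc rfl L508848 rfl
theorem L508851 : sm gi N14961 = N20545 := trfs L508827 (flp_i L253599) rfl
theorem L508852 : N20545 = N21781 := eqes L508851 L185002
theorem L508853 : N21781 = N20545 := (eqc rfl L508852 rfl).symm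
theorem L508855 : sm gb N20545 = N31740 := trfs L508853 (flp_b L268907) rfl
theorem L508856 : N31740 = N29909 := eqes L508855 L253593
theorem L508857 : N31740 = N29909 := eqc rfl L508856 rfl
theorem L508859 : sm gd N20545 = N14975 := trfs L508853 L185006 rfl
theorem L508860 : N14975 = N29887 := eqes L508859 (flp_d L253398)
theorem L508861 : N29887 = N14975 := (eqc rfl L508860 rfl).symm
theorem L508863 : sm gf N20545 = N31733 := trfs L508853 (flp_f L268857) rfl
theorem L508864 : N31733 = N29904 := eqes L508863 (flp_f L253550)
theorem L508865 : N31733 = N29904 := eqc rfl L508864 rfl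
theorem L508867 : sm gj N20545 = N31737 := trfs L508853 (flp_j L268888) rfl
theorem L508868 : N31737 = N29907 := eqes L508867 (flp_j L253580)
theorem L508869 : N31737 = N29907 := eqc rfl L508868 rfl
theorem L508871 : sm gi N20545 = N14961 := trfs L508853 (flp_i L185002) rfl
theorem L508876 : sm gb N29907 = N46302 := trfs L508869 (flp_b L391277) rfl
theorem L508877 : N46302 = N43598 := eqes L508876 L368724
theorem L508878 : N46302 = N43598 := eqc rfl L508877 rfl
theorem L508882 : sm gd N29907 = N21797 := trfs L508869 L268884 rfl
theorem L508883 : N21797 = N43567 := eqes L508882 (flp_d L368453)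
theorem L508884 : N43567 = N21797 := (eqc rfl L508883 rfl).symm
theorem L508886 : sm gf N29907 = N46291 := trfs L508869 (flp_f L391199) rfl

end Cfsg.Agent.Helper28.FicA
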