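import Cfsg.Agent.Helper28.FicB2

/-! # The Fi₂₃ presentation, cosets of the subgroup generated by a, …, i: the coset enumeration, part 3 (helper28; generated) -/

set_option autoImplicit false

noncomputable section

namespace Cfsg.Agent.Helper28.FicA

open Cfsg.Agent.Helper28.CosetTable

def N21268 : Q := sm gi N14612
def N21269 : Q := sm ge N14613
def N21271 : Q := sm gf N14615
def N21272 : Q := sm gj N14615
def N21273 : Q := sm gh N14615
def N21274 : Q := sm gd N14616
def N21275 : Q := sm gi N14616
def N21276 : Q := sm gh N14617
def N21277 : Q := sm gi N14618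
def N21278 : Q := sm gg N14620
def N21279 : Q := sm gh N14620
def N21280 : Q := sm gf N14621
def N21281 : Q := sm gj N14621
def N21282 : Q := sm gh N14621
def N21283 : Q := sm gd N14622
def N21284 : Q := sm gi N14622
def N21285 : Q := sm gh N14623
def N21286 : Q := sm gd N14624
def N21287 : Q := sm gi N14624
def N21288 : Q := sm ge N14625
def N21289 : Q := sm gi N14625
def N21290 : Q := sm gf N14627
def N21291 : Q := sm gi N14627
def N21293 : Q := sm gj N14629
def N21294 : Q := sm gh N14629
def N21295 : Q := sm gh N14630
def N21296 : Q := sm gd N14631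
def N21297 : Q := sm gi N14631
def N21298 : Q := sm gc N14632
def N21299 : Q := sm gi N14632
def N21300 : Q := sm gi N14634
def N21301 : Q := sm gg N14636
def N21302 : Q := sm gh N14636
def N21303 : Q := sm gd N14637
def N21304 : Q := sm gi N14637
def N21305 : Q := sm gd N14638
def N21306 : Q := sm gi N14638
def N21307 : Q := sm gc N14639
def N21308 : Q := sm gi N14639
def N21309 : Q := sm gb N14641
def N21310 : Q := sm gi N14641
def N21311 : Q := sm gh N14642
def N21312 : Q := sm gd N14644
def N21313 : Q := sm gg N14644
def N21314 : Q := sm gh N14644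
def N21315 : Q := sm gj N14645
def N21316 : Q := sm gh N14645
def N21317 : Q := sm gd N14646
def N21318 : Q := sm gi N14646
def N21319 : Q := sm gc N14647
def N21320 : Q := sm ge N14647
def N21321 : Q := sm gi N14647
def N21322 : Q := sm gg N14649
def N21323 : Q := sm gh N14649
def N21324 : Q := sm gf N14650
def N21325 : Q := sm gj N14650
def N21326 : Q := sm gh N14650
def N21327 : Q := sm gd N14651
def N21328 : Q := sm gi N14651
def N21329 : Q := sm gh N14652
def N21330 : Q := sm gd N14653
def N21331 : Q := sm gi N14653
def N21332 : Q := sm ge N14654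
def N21333 : Q := sm gi N14654
def N21334 : Q := sm gf N14656
def N21335 : Q := sm gi N14656
def N21337 : Q := sm gj N14658
def N21338 : Q := sm gh N14658
def N21339 : Q := sm gh N14659
def N21340 : Q := sm gd N14660
def N21341 : Q := sm gi N14660
def N21342 : Q := sm gc N14661
def N21343 : Q := sm gi N14661
def N21344 : Q := sm gi N14663
def N21345 : Q := sm gf N14665
def N21346 : Q := sm gj N14665
def N21347 : Q := sm gh N14665
def N21348 : Q := sm gd N14666
def N21349 : Q := sm gi N14666
def N21350 : Q := sm gj N14667
def N21351 : Q := sm gh N14667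
def N21352 : Q := sm gh N14668
def N21353 : Q := sm gd N14669
def N21354 : Q := sm gi N14669
def N21355 : Q := sm gc N14670
def N21356 : Q := sm ge N14670
def N21357 : Q := sm gi N14670
def N21358 : Q := sm gd N14672
def N21359 : Q := sm gi N14672
def N21360 : Q := sm ge N14673
def N21361 : Q := sm gi N14673
def N21362 : Q := sm gf N14675
def N21363 : Q := sm gi N14675
def N21364 : Q := sm gh N14676
def N21365 : Q := sm gg N14677
def N21366 : Q := sm gi N14677
def N21367 : Q := sm gh N14678
def N21368 : Q := sm gg N14680
def N21369 : Q := sm gh N14680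
def N21370 : Q := sm gd N14681
def N21371 : Q := sm gi N14681
def N21372 : Q := sm gd N14682
def N21373 : Q := sm gi N14682
def N21374 : Q := sm gc N14683
def N21375 : Q := sm gi N14683
def N21376 : Q := sm gb N14685
def N21377 : Q := sm gi N14685
def N21378 : Q := sm gh N14686
def N21379 : Q := sm gh N14688
def N21380 : Q := sm gd N14689
def N21381 : Q := sm gi N14689
def N21382 : Q := sm gc N14690
def N21383 : Q := sm ge N14690
def N21384 : Q := sm gi N14690
def N21385 : Q := sm gc N14692
def N21386 : Q := sm gi N14692
def N21387 : Q := sm gb N14694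
def N21388 : Q := sm gi N14694
def N21389 : Q := sm gh N14695
def N21390 : Q := sm ga N14696
def N21391 : Q := sm gi N14696
def N21392 : Q := sm gh N14697
def N21393 : Q := sm gd N14699
def N21394 : Q := sm gg N14699
def N21395 : Q := sm gh N14699
def N21396 : Q := sm gj N14700
def N21397 : Q := sm gh N14700
def N21398 : Q := sm gd N14701
def N21401 : Q := sm ge N14702
def N21403 : Q := sm gg N14704
def N21404 : Q := sm gh N14704
def N21405 : Q := sm gf N14705
def N21406 : Q := sm gj N14705
def N21407 : Q := sm gh N14705
def N21408 : Q := sm gd N14706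
def N21409 : Q := sm gi N14706
def N21410 : Q := sm gh N14707
def N21411 : Q := sm gd N14708
def N21412 : Q := sm gi N14708
def N21414 : Q := sm gi N14709
def N21415 : Q := sm gf N14711
def N21416 : Q := sm gi N14711
def N21417 : Q := sm gh N14712
def N21418 : Q := sm gj N14713
def N21419 : Q := sm gh N14713
def N21420 : Q := sm gh N14714
def N21421 : Q := sm gd N14715
def N21422 : Q := sm gi N14715
def N21423 : Q := sm gc N14716
def N21424 : Q := sm gi N14716
def N21425 : Q := sm gi N14718
def N21426 : Q := sm gf N14720
def N21427 : Q := sm gj N14720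
def N21428 : Q := sm gh N14720
def N21429 : Q := sm gd N14721
def N21430 : Q := sm gi N14721
def N21431 : Q := sm gj N14722
def N21432 : Q := sm gh N14722
def N21433 : Q := sm gh N14723
def N21434 : Q := sm gd N14724
def N21435 : Q := sm gi N14724
def N21436 : Q := sm gc N14725
def N21437 : Q := sm ge N14725
def N21438 : Q := sm gi N14725
def N21439 : Q := sm gd N14727
def N21440 : Q := sm gi N14727
def N21441 : Q := sm ge N14728
def N21442 : Q := sm gi N14728
def N21443 : Q := sm gf N14730
def N21444 : Q := sm gi N14730
def N21446 : Q := sm gg N14732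
def N21447 : Q := sm gi N14732
def N21448 : Q := sm gh N14733
def N21449 : Q := sm gg N14735
def N21450 : Q := sm gh N14735
def N21451 : Q := sm gd N14736
def N21452 : Q := sm gi N14736
def N21453 : Q := sm gd N14737
def N21454 : Q := sm gi N14737
def N21455 : Q := sm gc N14738
def N21456 : Q := sm gi N14738
def N21457 : Q := sm gb N14740
def N21458 : Q := sm gi N14740
def N21459 : Q := sm gh N14741
def N21460 : Q := sm gh N14743
def N21461 : Q := sm gd N14744
def N21462 : Q := sm gi N14744
def N21463 : Q := sm gc N14745
def N21464 : Q := sm ge N14745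
def N21465 : Q := sm gi N14745
def N21466 : Q := sm gc N14747
def N21467 : Q := sm gi N14747
def N21468 : Q := sm gb N14749
def N21469 : Q := sm gi N14749
def N21470 : Q := sm gh N14750
def N21471 : Q := sm ga N14751
def N21472 : Q := sm gi N14751
def N21473 : Q := sm gh N14752
def N21474 : Q := sm gc N14754
def N21475 : Q := sm gg N14754
def N21476 : Q := sm gh N14754
def N21477 : Q := sm gf N14755
def N21478 : Q := sm gj N14755
def N21479 : Q := sm gh N14755
def N21480 : Q := sm gd N14756
def N21481 : Q := sm gi N14756
def N21482 : Q := sm gh N14757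
def N21483 : Q := sm gd N14758
def N21484 : Q := sm gi N14758
def N21485 : Q := sm gc N14759
def N21486 : Q := sm ge N14759
def N21487 : Q := sm gi N14759
def N21488 : Q := sm ge N14761
def N21490 : Q := sm gf N14762
def N21491 : Q := sm gi N14762
def N21493 : Q := sm gf N14764
def N21494 : Q := sm gj N14764
def N21495 : Q := sm gh N14764
def N21496 : Q := sm gd N14765
def N21497 : Q := sm gi N14765
def N21498 : Q := sm gj N14766
def N21499 : Q := sm gh N14766
def N21500 : Q := sm gh N14767
def N21501 : Q := sm gd N14768
def N21502 : Q := sm gi N14768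
def N21503 : Q := sm gc N14769
def N21504 : Q := sm ge N14769
def N21505 : Q := sm gi N14769
def N21506 : Q := sm gd N14771
def N21507 : Q := sm gi N14771
def N21508 : Q := sm ge N14772
def N21509 : Q := sm gi N14772
def N21510 : Q := sm gf N14774
def N21511 : Q := sm gi N14774
def N21513 : Q := sm gg N14776
def N21514 : Q := sm gi N14776
def N21515 : Q := sm gh N14777
def N21516 : Q := sm gg N14779
def N21517 : Q := sm gh N14779
def N21518 : Q := sm gd N14780
def N21519 : Q := sm gi N14780
def N21520 : Q := sm gd N14781
def N21521 : Q := sm gi N14781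
def N21522 : Q := sm gc N14782
def N21523 : Q := sm gi N14782
def N21524 : Q := sm gb N14784
def N21525 : Q := sm gi N14784
def N21526 : Q := sm gh N14785
def N21527 : Q := sm ge N14787
def N21528 : Q := sm gj N14787
def N21529 : Q := sm gh N14787
def N21530 : Q := sm gh N14788
def N21531 : Q := sm gd N14789
def N21532 : Q := sm gi N14789
def N21533 : Q := sm gc N14790
def N21534 : Q := sm ge N14790
def N21535 : Q := sm gi N14790
def N21536 : Q := sm gg N14792
def N21537 : Q := sm gh N14792
def N21538 : Q := sm gd N14793
def N21539 : Q := sm gi N14793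
def N21540 : Q := sm gd N14794
def N21541 : Q := sm gi N14794
def N21542 : Q := sm gc N14795
def N21543 : Q := sm ge N14795
def N21544 : Q := sm gi N14795
def N21545 : Q := sm gb N14797
def N21546 : Q := sm ge N14797
def N21547 : Q := sm gi N14797
def N21548 : Q := sm gf N14798
def N21549 : Q := sm gi N14798
def N21550 : Q := sm gh N14799
def N21551 : Q := sm ge N14800
def N21552 : Q := sm gi N14800
def N21553 : Q := sm gf N14802
def N21554 : Q := sm gi N14802
def N21555 : Q := sm gh N14803
def N21556 : Q := sm gg N14804
def N21557 : Q := sm gi N14804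
def N21558 : Q := sm gh N14805
def N21559 : Q := sm gj N14807
def N21560 : Q := sm gi N14807
def N21561 : Q := sm gh N14808
def N21562 : Q := sm gd N14809
def N21563 : Q := sm gh N14810
def N21564 : Q := sm gd N14811
def N21565 : Q := sm gi N14811
def N21566 : Q := sm gc N14812
def N21567 : Q := sm ge N14812
def N21568 : Q := sm gi N14812
def N21569 : Q := sm gc N14814
def N21570 : Q := sm gi N14814
def N21571 : Q := sm gb N14816
def N21572 : Q := sm gi N14816
def N21573 : Q := sm gh N14817
def N21574 : Q := sm ga N14818
def N21575 : Q := sm gi N14818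
def N21576 : Q := sm gh N14819
def N21577 : Q := sm gd N14821
def N21578 : Q := sm gi N14821
def N21579 : Q := sm gc N14822
def N21580 : Q := sm ge N14822
def N21581 : Q := sm gi N14822
def N21582 : Q := sm gb N14824
def N21583 : Q := sm ge N14824
def N21584 : Q := sm gi N14824
def N21585 : Q := sm gi N14825
def N21586 : Q := sm gh N14826
def N21587 : Q := sm gb N14827
def N21588 : Q := sm gi N14827
def N21589 : Q := sm gh N14828
def N21590 : Q := sm ga N14829
def N21591 : Q := sm gi N14829
def N21592 : Q := sm gh N14830
def N21593 : Q := sm gi N14832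
def N21594 : Q := sm gh N14833
def N21595 : Q := sm gd N14834
def N21596 : Q := sm gc N14835
def N21598 : Q := sm gh N14835
def N21599 : Q := sm gf N14836
def N21600 : Q := sm gj N14836
def N21602 : Q := sm gd N14837
def N21603 : Q := sm gi N14837
def N21604 : Q := sm gh N14838
def N21605 : Q := sm gd N14839
def N21614 : Q := sm gf N14845
def N21615 : Q := sm gj N14845
def N21616 : Q := sm gh N14845
def N21617 : Q := sm gd N14846
def N21618 : Q := sm gi N14846
def N21619 : Q := sm gj N14847
def N21620 : Q := sm gh N14847
def N21621 : Q := sm gh N14848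
def N21622 : Q := sm gd N14849
def N21624 : Q := sm gc N14850
def N21625 : Q := sm ge N14850
def N21627 : Q := sm gd N14852
def N21633 : Q := sm gg N14857
def N21635 : Q := sm gg N14859
def N21636 : Q := sm gh N14859
def N21637 : Q := sm gd N14860
def N21638 : Q := sm gi N14860
def N21639 : Q := sm gd N14861
def N21641 : Q := sm gc N14862
def N21642 : Q := sm gi N14862
def N21643 : Q := sm gb N14864
def N21644 : Q := sm gi N14864
def N21645 : Q := sm gh N14865
def N21646 : Q := sm ge N14867
def N21647 : Q := sm gj N14867
def N21648 : Q := sm gh N14867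
def N21649 : Q := sm gh N14868
def N21650 : Q := sm gd N14869
def N21651 : Q := sm gi N14869
def N21652 : Q := sm gc N14870
def N21653 : Q := sm ge N14870
def N21654 : Q := sm gi N14870
def N21655 : Q := sm gg N14872
def N21656 : Q := sm gh N14872
def N21657 : Q := sm gd N14873
def N21659 : Q := sm gd N14874
def N21661 : Q := sm gc N14875
def N21662 : Q := sm ge N14875
def N21663 : Q := sm gi N14875
def N21664 : Q := sm gb N14877
def N21665 : Q := sm ge N14877
def N21666 : Q := sm gi N14877
def N21667 : Q := sm gf N14878
def N21668 : Q := sm gi N14878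
def N21669 : Q := sm gh N14879
def N21670 : Q := sm ge N14880
def N21672 : Q := sm gf N14882
def N21674 : Q := sm gg N14884
def N21675 : Q := sm gi N14884
def N21676 : Q := sm gj N14886
def N21678 : Q := sm gh N14888
def N21679 : Q := sm gd N14889
def N21680 : Q := sm gi N14889
def N21681 : Q := sm gc N14890
def N21682 : Q := sm ge N14890
def N21683 : Q := sm gi N14890
def N21684 : Q := sm gc N14892
def N21685 : Q := sm gi N14892
def N21686 : Q := sm gb N14894
def N21687 : Q := sm gi N14894
def N21688 : Q := sm gh N14895
def N21689 : Q := sm ga N14896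
def N21690 : Q := sm gi N14896
def N21691 : Q := sm gh N14897
def N21692 : Q := sm gd N14899
def N21693 : Q := sm gi N14899
def N21694 : Q := sm gc N14900
def N21695 : Q := sm ge N14900
def N21696 : Q := sm gi N14900
def N21697 : Q := sm gb N14902
def N21698 : Q := sm ge N14902
def N21699 : Q := sm gi N14902
def N21700 : Q := sm gi N14903
def N21701 : Q := sm gh N14904
def N21702 : Q := sm gb N14905
def N21703 : Q := sm gi N14905
def N21704 : Q := sm gh N14906
def N21705 : Q := sm ga N14907
def N21706 : Q := sm gi N14907
def N21707 : Q := sm gh N14908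
def N21708 : Q := sm gi N14910
def N21709 : Q := sm gh N14911
def N21710 : Q := sm gd N14912
def N21711 : Q := sm gg N14913
def N21712 : Q := sm gh N14913
def N21713 : Q := sm gf N14914
def N21714 : Q := sm gj N14914
def N21715 : Q := sm gh N14914
def N21716 : Q := sm gd N14915
def N21717 : Q := sm gi N14915
def N21718 : Q := sm gj N14916
def N21719 : Q := sm gh N14916
def N21720 : Q := sm gh N14917
def N21721 : Q := sm gd N14918
def N21723 : Q := sm gc N14919
def N21724 : Q := sm gi N14919
def N21726 : Q := sm ge N14923
def N21727 : Q := sm gj N14923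
def N21728 : Q := sm gh N14923
def N21729 : Q := sm gh N14924
def N21730 : Q := sm gd N14925
def N21731 : Q := sm gi N14925
def N21732 : Q := sm gc N14926
def N21733 : Q := sm gi N14926
def N21734 : Q := sm gg N14928
def N21735 : Q := sm gh N14928
def N21736 : Q := sm gd N14929
def N21738 : Q := sm gd N14930
def N21740 : Q := sm gc N14931
def N21741 : Q := sm gi N14931
def N21742 : Q := sm gb N14933
def N21745 : Q := sm gh N14936
def N21746 : Q := sm gd N14937
def N21747 : Q := sm gi N14937
def N21748 : Q := sm gc N14938
def N21749 : Q := sm ge N14938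
def N21750 : Q := sm gi N14938
def N21751 : Q := sm gc N14940
def N21752 : Q := sm gi N14940
def N21753 : Q := sm gb N14942
def N21754 : Q := sm gi N14942
def N21755 : Q := sm gh N14943
def N21756 : Q := sm ga N14944
def N21757 : Q := sm gi N14944
def N21758 : Q := sm gh N14945
def N21759 : Q := sm gj N14947
def N21760 : Q := sm gh N14947
def N21761 : Q := sm gg N14948
def N21762 : Q := sm gh N14948
def N21763 : Q := sm gd N14949
def N21764 : Q := sm gi N14949
def N21765 : Q := sm gd N14950
def N21766 : Q := sm gi N14950
def N21767 : Q := sm gc N14951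
def N21768 : Q := sm gi N14951
def N21769 : Q := sm gb N14953
def N21770 : Q := sm gi N14953
def N21772 : Q := sm gh N14955
def N21773 : Q := sm gd N14956
def N21774 : Q := sm gi N14956
def N21775 : Q := sm gc N14957
def N21776 : Q := sm ge N14957
def N21777 : Q := sm gi N14957
def N21778 : Q := sm gc N14959
def N21779 : Q := sm gi N14959
def N21780 : Q := sm gb N14961
def N21781 : Q := sm gi N14961
def N21783 : Q := sm ga N14963
def N21784 : Q := sm gi N14963
def N21785 : Q := sm gh N14964
def N21786 : Q := sm gd N14966
def N21787 : Q := sm gi N14966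
def N21788 : Q := sm gc N14967
def N21789 : Q := sm ge N14967
def N21790 : Q := sm gi N14967
def N21791 : Q := sm gb N14969
def N21792 : Q := sm ge N14969
def N21793 : Q := sm gi N14969
def N21794 : Q := sm gi N14970
def N21795 : Q := sm gh N14971
def N21796 : Q := sm gb N14972
def N21797 : Q := sm gi N14972
def N21798 : Q := sm gh N14973
def N21799 : Q := sm ga N14974
def N21800 : Q := sm gi N14974
def N21801 : Q := sm gh N14975
def N21802 : Q := sm gi N14977
def N21803 : Q := sm gh N14978
def N21804 : Q := sm gd N14979
def N21805 : Q := sm gc N14980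
def N21806 : Q := sm ge N14980
def N21807 : Q := sm gi N14980
def N21808 : Q := sm gb N14982
def N21809 : Q := sm ge N14982
def N21811 : Q := sm gi N14983
def N21812 : Q := sm gh N14984
def N21813 : Q := sm ga N14985
def N21814 : Q := sm ge N14985
def N21815 : Q := sm gi N14985
def N21816 : Q := sm gd N14986
def N21818 : Q := sm gh N14987
def N21819 : Q := sm gh N14988
def N21820 : Q := sm ga N14990
def N21821 : Q := sm gi N14990
def N21822 : Q := sm gh N14991
def N21823 : Q := sm gi N14993
def N21824 : Q := sm gh N14994
def N21825 : Q := sm gd N14995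
def N21826 : Q := sm gh N14996
def N21827 : Q := sm gd N14997
def N21828 : Q := sm ge N14998
def N21829 : Q := sm gd N14999
def N21830 : Q := sm gg N14999
def N21831 : Q := sm gh N14999
def N21833 : Q := sm gh N15000
def N21834 : Q := sm gd N15001
def N21835 : Q := sm gi N15001
def N21836 : Q := sm gc N15002
def N21837 : Q := sm ge N15002
def N21843 : Q := sm gh N15005
def N21844 : Q := sm gd N15006
def N21845 : Q := sm gi N15006
def N21846 : Q := sm gh N15007
def N21847 : Q := sm gd N15008
def N21848 : Q := sm gi N15008
def N21849 : Q := sm ge N15009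
def N21850 : Q := sm gi N15009
def N21851 : Q := sm gf N15011
def N21852 : Q := sm gi N15011
def N21855 : Q := sm gh N15013
def N21856 : Q := sm gh N15014
def N21857 : Q := sm gd N15015
def N21858 : Q := sm gi N15015
def N21859 : Q := sm gc N15016
def N21860 : Q := sm gi N15016
def N21861 : Q := sm gi N15018
def N21863 : Q := sm gj N15020
def N21864 : Q := sm gh N15020
def N21865 : Q := sm gd N15021
def N21868 : Q := sm gh N15022
def N21869 : Q := sm gh N15023
def N21870 : Q := sm gd N15024
def N21871 : Q := sm gi N15024
def N21872 : Q := sm gc N15025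
def N21873 : Q := sm ge N15025
def N21874 : Q := sm gi N15025
def N21875 : Q := sm gd N15027
def N21876 : Q := sm gi N15027
def N21877 : Q := sm ge N15028
def N21878 : Q := sm gi N15028
def N21879 : Q := sm gf N15030
def N21880 : Q := sm gi N15030
def N21881 : Q := sm gh N15031
def N21882 : Q := sm gg N15032
def N21883 : Q := sm gi N15032
def N21884 : Q := sm gh N15033
def N21885 : Q := sm gg N15035
def N21886 : Q := sm gh N15035
def N21887 : Q := sm gd N15036
def N21888 : Q := sm gi N15036
def N21889 : Q := sm gd N15037
def N21890 : Q := sm gi N15037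
def N21891 : Q := sm gc N15038
def N21892 : Q := sm gi N15038
def N21893 : Q := sm gb N15040
def N21894 : Q := sm gi N15040
def N21895 : Q := sm gh N15041
def N21896 : Q := sm gh N15043
def N21897 : Q := sm gd N15044
def N21898 : Q := sm gi N15044
def N21899 : Q := sm gc N15045
def N21900 : Q := sm ge N15045
def N21901 : Q := sm gi N15045
def N21902 : Q := sm gc N15047
def N21903 : Q := sm gi N15047
def N21904 : Q := sm gb N15049
def N21905 : Q := sm gi N15049
def N21906 : Q := sm gh N15050
def N21907 : Q := sm ga N15051
def N21908 : Q := sm gi N15051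
def N21909 : Q := sm gh N15052
def N21912 : Q := sm gh N15054
def N21913 : Q := sm gf N15055
def N21914 : Q := sm gj N15055
def N21915 : Q := sm gh N15055
def N21916 : Q := sm gd N15056
def N21917 : Q := sm gi N15056
def N21918 : Q := sm gh N15057
def N21919 : Q := sm gd N15058
def N21920 : Q := sm gi N15058
def N21921 : Q := sm gc N15059
def N21922 : Q := sm ge N15059
def N21923 : Q := sm gi N15059
def N21925 : Q := sm gi N15061
def N21927 : Q := sm gi N15062
def N21931 : Q := sm gh N15064
def N21932 : Q := sm gd N15065
def N21933 : Q := sm gi N15065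
def N21934 : Q := sm gj N15066
def N21935 : Q := sm gh N15066
def N21936 : Q := sm gh N15067
def N21937 : Q := sm gd N15068
def N21938 : Q := sm gi N15068
def N21939 : Q := sm gc N15069
def N21940 : Q := sm ge N15069
def N21941 : Q := sm gi N15069
def N21942 : Q := sm gd N15071
def N21943 : Q := sm gi N15071
def N21944 : Q := sm ge N15072
def N21945 : Q := sm gi N15072
def N21946 : Q := sm gf N15074
def N21947 : Q := sm gi N15074
def N21949 : Q := sm gg N15076
def N21950 : Q := sm gi N15076
def N21951 : Q := sm gh N15077
def N21953 : Q := sm gh N15079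
def N21954 : Q := sm gd N15080
def N21955 : Q := sm gi N15080
def N21956 : Q := sm gd N15081
def N21957 : Q := sm gi N15081
def N21958 : Q := sm gc N15082
def N21959 : Q := sm gi N15082
def N21960 : Q := sm gb N15084
def N21961 : Q := sm gi N15084
def N21962 : Q := sm gh N15085
def N21966 : Q := sm gd N15089
def N21967 : Q := sm gi N15089
def N21968 : Q := sm gc N15090
def N21969 : Q := sm ge N15090
def N21970 : Q := sm gi N15090
def N21971 : Q := sm gg N15092
def N21972 : Q := sm gh N15092
def N21973 : Q := sm gd N15093
def N21974 : Q := sm gi N15093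
def N21975 : Q := sm gd N15094
def N21976 : Q := sm gi N15094
def N21977 : Q := sm gc N15095
def N21978 : Q := sm ge N15095
def N21979 : Q := sm gi N15095
def N21980 : Q := sm gb N15097
def N21981 : Q := sm ge N15097
def N21982 : Q := sm gi N15097
def N21983 : Q := sm gf N15098
def N21984 : Q := sm gi N15098
def N21985 : Q := sm gh N15099
def N21986 : Q := sm ge N15100
def N21987 : Q := sm gi N15100
def N21988 : Q := sm gf N15102
def N21989 : Q := sm gi N15102
def N21991 : Q := sm gg N15104
def N21992 : Q := sm gi N15104
def N21994 : Q := sm gj N15107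
def N21995 : Q := sm gi N15107
def N21996 : Q := sm gh N15108
def N21998 : Q := sm gh N15110
def N21999 : Q := sm gd N15111
def N22000 : Q := sm gi N15111
def N22001 : Q := sm gc N15112
def N22002 : Q := sm ge N15112
def N22003 : Q := sm gi N15112
def N22004 : Q := sm gc N15114
def N22005 : Q := sm gi N15114
def N22006 : Q := sm gb N15116
def N22007 : Q := sm gi N15116
def N22008 : Q := sm gh N15117
def N22009 : Q := sm ga N15118
def N22010 : Q := sm gi N15118
def N22011 : Q := sm gh N15119
def N22012 : Q := sm gd N15121
def N22013 : Q := sm gi N15121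
def N22014 : Q := sm gc N15122
def N22015 : Q := sm ge N15122
def N22016 : Q := sm gi N15122
def N22017 : Q := sm gb N15124
def N22018 : Q := sm ge N15124
def N22019 : Q := sm gi N15124
def N22020 : Q := sm gi N15125
def N22021 : Q := sm gh N15126
def N22022 : Q := sm gb N15127
def N22023 : Q := sm gi N15127
def N22024 : Q := sm gh N15128
def N22025 : Q := sm ga N15129
def N22026 : Q := sm gi N15129
def N22027 : Q := sm gh N15130
def N22028 : Q := sm gi N15132
def N22029 : Q := sm gh N15133
def N22030 : Q := sm gd N15134
def N22032 : Q := sm gh N15135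
def N22033 : Q := sm gh N15136
def N22034 : Q := sm gd N15137
def N22035 : Q := sm gi N15137
def N22036 : Q := sm gc N15138
def N22037 : Q := sm ge N15138
def N22038 : Q := sm gi N15138
def N22039 : Q := sm gd N15140
def N22040 : Q := sm gi N15140
def N22043 : Q := sm gi N15141
def N22045 : Q := sm gi N15143
def N22054 : Q := sm gi N15148
def N22057 : Q := sm gh N15151
def N22058 : Q := sm gd N15152
def N22059 : Q := sm gi N15152
def N22060 : Q := sm gd N15153
def N22061 : Q := sm gi N15153
def N22062 : Q := sm gc N15154
def N22063 : Q := sm ge N15154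
def N22064 : Q := sm gi N15154
def N22065 : Q := sm gb N15156
def N22066 : Q := sm ge N15156
def N22067 : Q := sm gi N15156
def N22068 : Q := sm gf N15157
def N22069 : Q := sm gi N15157
def N22070 : Q := sm gh N15158
def N22071 : Q := sm ge N15159
def N22072 : Q := sm gi N15159
def N22073 : Q := sm gf N15161
def N22074 : Q := sm gi N15161
def N22076 : Q := sm gg N15163
def N22077 : Q := sm gi N15163
def N22079 : Q := sm gj N15166
def N22080 : Q := sm gi N15166
def N22081 : Q := sm gh N15167
def N22082 : Q := sm gd N15168
def N22083 : Q := sm gh N15169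
def N22084 : Q := sm gd N15170
def N22085 : Q := sm gi N15170
def N22086 : Q := sm gc N15171
def N22087 : Q := sm ge N15171
def N22088 : Q := sm gi N15171
def N22089 : Q := sm gc N15173
def N22090 : Q := sm gi N15173
def N22091 : Q := sm gb N15175
def N22092 : Q := sm gi N15175
def N22093 : Q := sm gh N15176
def N22094 : Q := sm ga N15177
def N22095 : Q := sm gi N15177
def N22096 : Q := sm gh N15178
def N22097 : Q := sm gh N15180
def N22098 : Q := sm gd N15181
def N22099 : Q := sm gi N15181
def N22100 : Q := sm gc N15182
def N22101 : Q := sm ge N15182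
def N22102 : Q := sm gi N15182
def N22103 : Q := sm gc N15184
def N22104 : Q := sm ge N15184
def N22105 : Q := sm gi N15184
def N22106 : Q := sm gb N15186
def N22107 : Q := sm ge N15186
def N22108 : Q := sm gi N15186
def N22109 : Q := sm gf N15187
def N22110 : Q := sm gi N15187
def N22111 : Q := sm gh N15188
def N22112 : Q := sm ga N15189
def N22113 : Q := sm ge N15189
def N22114 : Q := sm gi N15189
def N22115 : Q := sm gf N15190
def N22116 : Q := sm gi N15190
def N22117 : Q := sm gh N15191
def N22118 : Q := sm gg N15192
def N22119 : Q := sm gi N15192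
def N22120 : Q := sm gh N15193
def N22121 : Q := sm gf N15195
def N22122 : Q := sm gi N15195
def N22124 : Q := sm gg N15197
def N22125 : Q := sm gi N15197
def N22126 : Q := sm gh N15198
def N22127 : Q := sm gj N15200
def N22128 : Q := sm gi N15200
def N22130 : Q := sm gd N15202
def N22131 : Q := sm gi N15203
def N22133 : Q := sm gd N15205
def N22134 : Q := sm gc N15206
def N22135 : Q := sm gd N15207
def N22136 : Q := sm gi N15207
def N22137 : Q := sm gc N15208
def N22138 : Q := sm ge N15208
def N22139 : Q := sm gi N15208
def N22140 : Q := sm gb N15210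
def N22141 : Q := sm ge N15210
def N22142 : Q := sm gi N15210
def N22143 : Q := sm gi N15211
def N22144 : Q := sm gh N15212
def N22145 : Q := sm gb N15213
def N22146 : Q := sm gi N15213
def N22147 : Q := sm gh N15214
def N22148 : Q := sm ga N15215
def N22149 : Q := sm gi N15215
def N22150 : Q := sm gh N15216
def N22151 : Q := sm gi N15218
def N22152 : Q := sm gh N15219
def N22153 : Q := sm gd N15220
def N22154 : Q := sm gc N15221
def N22155 : Q := sm ge N15221
def N22156 : Q := sm gi N15221
def N22157 : Q := sm gb N15223
def N22159 : Q := sm gi N15223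
def N22160 : Q := sm gi N15224
def N22161 : Q := sm gh N15225
def N22162 : Q := sm ga N15226
def N22163 : Q := sm ge N15226
def N22164 : Q := sm gi N15226
def N22165 : Q := sm gd N15227
def N22166 : Q := sm gi N15227
def N22167 : Q := sm gh N15228
def N22168 : Q := sm gh N15229
def N22169 : Q := sm ga N15231
def N22170 : Q := sm gi N15231
def N22171 : Q := sm gh N15232
def N22172 : Q := sm gi N15234
def N22173 : Q := sm gh N15235
def N22174 : Q := sm gd N15236
def N22175 : Q := sm gh N15237
def N22176 : Q := sm gd N15238
def N22177 : Q := sm ge N15239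
def N22178 : Q := sm gd N15240
def N22180 : Q := sm gc N15241
def N22181 : Q := sm ge N15241
def N22182 : Q := sm gi N15241
def N22183 : Q := sm gb N15243
def N22184 : Q := sm ge N15243
def N22185 : Q := sm gi N15243
def N22186 : Q := sm gi N15244
def N22187 : Q := sm gh N15245
def N22188 : Q := sm gb N15246
def N22189 : Q := sm gi N15246
def N22190 : Q := sm gh N15247
def N22191 : Q := sm ga N15248
def N22192 : Q := sm gi N15248
def N22193 : Q := sm gh N15249
def N22194 : Q := sm gi N15251
def N22195 : Q := sm gh N15252
def N22196 : Q := sm gd N15253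
def N22197 : Q := sm gc N15254
def N22200 : Q := sm gb N15256
def N22201 : Q := sm ge N15256
def N22202 : Q := sm gi N15256
def N22205 : Q := sm ga N15259
def N22206 : Q := sm ge N15259
def N22208 : Q := sm gd N15260
def N22209 : Q := sm gi N15260
def N22210 : Q := sm gh N15261
def N22211 : Q := sm gh N15262
def N22212 : Q := sm ga N15264
def N22214 : Q := sm gh N15265
def N22215 : Q := sm gi N15267
def N22216 : Q := sm gh N15268
def N22217 : Q := sm gd N15269
def N22218 : Q := sm gh N15270
def N22219 : Q := sm gd N15271
def N22220 : Q := sm ge N15272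
def N22221 : Q := sm gb N15273
def N22224 : Q := sm gf N15274
def N22226 : Q := sm gh N15275
def N22228 : Q := sm ge N15276
def N22234 : Q := sm ge N15281
def N22235 : Q := sm gi N15281
def N22236 : Q := sm gd N15282
def N22237 : Q := sm gi N15282
def N22238 : Q := sm gh N15283
def N22239 : Q := sm gh N15284
def N22247 : Q := sm gh N15291
def N22248 : Q := sm gd N15292
def N22249 : Q := sm ge N15293
def N22250 : Q := sm gd N15294
def N22251 : Q := sm gc N15295
def N22252 : Q := sm ge N15295
def N22253 : Q := sm gf N15296
def N22258 : Q := sm gf N15298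
def N22259 : Q := sm gi N15298
def N22261 : Q := sm gi N15300
def N22262 : Q := sm gh N15301
def N22265 : Q := sm gd N15304
def N22267 : Q := sm gh N15305
def N22268 : Q := sm gh N15306
def N22270 : Q := sm gh N15307
def N22274 : Q := sm gi N15310
def N22275 : Q := sm gh N15311
def N22276 : Q := sm gc N15312
def N22277 : Q := sm gh N15312
def N22279 : Q := sm gh N15313
def N22280 : Q := sm gd N15314
def N22281 : Q := sm gi N15315
def N22282 : Q := sm gh N15316
def N22283 : Q := sm gd N15317
def N22284 : Q := sm ge N15318
def N22287 : Q := sm gd N15321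
def N22289 : Q := sm gd N15323
def N22290 : Q := sm gc N15324
def N22291 : Q := sm ge N15324
def N22292 : Q := sm gf N15325
def N22293 : Q := sm gc N15326
def N22296 : Q := sm gf N15328
def N22297 : Q := sm gg N15329
def N22298 : Q := sm gc N15330
def N22299 : Q := sm gi N15330
def N22300 : Q := sm gh N15331
def N22302 : Q := sm gd N15333
def N22303 : Q := sm gc N15334
def N22305 : Q := sm gc N15335
def N22308 : Q := sm ge N15336
def N22310 : Q := sm gb N15338
def N22322 : Q := sm gh N15345
def N22323 : Q := sm gg N15346
def N22326 : Q := sm ge N15348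
def N22328 : Q := sm gf N15349
def N22329 : Q := sm gg N15350
def N22330 : Q := sm ge N15351
def N22331 : Q := sm gd N15352
def N22336 : Q := sm gj N15355
def N22337 : Q := sm gd N15356
def N22342 : Q := sm gg N15358
def N22343 : Q := sm ge N15359
def N22344 : Q := sm gg N15359
def N22345 : Q := sm gh N15359
def N22346 : Q := sm gi N15360
def N22347 : Q := sm gj N15361
def N22348 : Q := sm gc N15363
def N22351 : Q := sm gg N15364
def N22352 : Q := sm gf N15365
def N22358 : Q := sm gj N15368
def N22359 : Q := sm gg N15369
def N22360 : Q := sm gh N15369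
def N22362 : Q := sm gh N15370
def N22365 : Q := sm gf N15374
def N22366 : Q := sm gh N15374
def N22371 : Q := sm gj N15377
def N22373 : Q := sm gg N15378
def N22374 : Q := sm gh N15378
def N22375 : Q := sm gd N15379
def N22377 : Q := sm gg N15380
def N22378 : Q := sm gh N15380
def N22384 : Q := sm gh N15385
def N22386 : Q := sm gi N15386
def N22389 : Q := sm gb N15390
def N22393 : Q := sm ge N15392
def N22398 : Q := sm gd N15396
def N22399 : Q := sm gf N15396
def N22404 : Q := sm gd N15400
def N22407 : Q := sm gf N15401
def N22410 : Q := sm ge N15403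
def N22411 : Q := sm gg N15403
def N22412 : Q := sm gh N15403
def N22414 : Q := sm gj N15405
def N22415 : Q := sm gd N15407
def N22419 : Q := sm gh N15408
def N22420 : Q := sm gg N15409
def N22423 : Q := sm gh N15410
def N22426 : Q := sm gc N15414
def N22427 : Q := sm gf N15414
def N22428 : Q := sm gh N15414
def N22429 : Q := sm gg N15415
def N22430 : Q := sm gf N15416
def N22431 : Q := sm gh N15416
def N22432 : Q := sm ge N15417
def N22433 : Q := sm gg N15417
def N22436 : Q := sm gj N15419
def N22437 : Q := sm gg N15420
def N22438 : Q := sm gh N15420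
def N22442 : Q := sm gb N15425
def N22443 : Q := sm gf N15425
def N22444 : Q := sm gh N15425
def N22449 : Q := sm gj N15428
def N22450 : Q := sm ge N15429
def N22451 : Q := sm gg N15429
def N22452 : Q := sm gh N15429
def N22455 : Q := sm gg N15431
def N22456 : Q := sm gh N15431
def N22457 : Q := sm gj N15432
def N22458 : Q := sm gh N15432
def N22460 : Q := sm gf N15436
def N22467 : Q := sm gf N15441
def N22468 : Q := sm gh N15441
def N22469 : Q := sm ge N15442
def N22470 : Q := sm gg N15442
def N22471 : Q := sm gh N15442
def N22472 : Q := sm gd N15443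
def N22473 : Q := sm gi N15443
def N22474 : Q := sm gg N15444
def N22479 : Q := sm gd N15449
def N22481 : Q := sm gh N15449
def N22482 : Q := sm gj N15450
def N22486 : Q := sm ge N15452
def N22494 : Q := sm gi N15457
def N22495 : Q := sm gj N15459
def N22496 : Q := sm gh N15459
def N22497 : Q := sm gh N15460
def N22498 : Q := sm gd N15461
def N22500 : Q := sm gc N15462
def N22504 : Q := sm ge N15466
def N22510 : Q := sm gf N15470
def N22519 : Q := sm gh N15475
def N22532 : Q := sm ge N15484
def N22534 : Q := sm gh N15484
def N22539 : Q := sm gj N15488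
def N22540 : Q := sm gh N15488
def N22541 : Q := sm gi N15489
def N22542 : Q := sm gc N15492
def N22543 : Q := sm gf N15492
def N22544 : Q := sm gh N15492
def N22548 : Q := sm ge N15495
def N22549 : Q := sm gg N15495
def N22551 : Q := sm gi N15496
def N22552 : Q := sm gj N15497
def N22557 : Q := sm gi N15500
def N22558 : Q := sm gb N15503
def N22559 : Q := sm gf N15503
def N22562 : Q := sm gg N15504
def N22565 : Q := sm gj N15506
def N22568 : Q := sm gh N15507
def N22570 : Q := sm gi N15508
def N22572 : Q := sm gh N15509
def N22573 : Q := sm gj N15510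
def N22577 : Q := sm gj N15514
def N22578 : Q := sm gh N15514
def N22579 : Q := sm gd N15515
def N22580 : Q := sm gi N15515
def N22583 : Q := sm gf N15519
def N22585 : Q := sm ge N15520
def N22586 : Q := sm gg N15520
def N22587 : Q := sm gh N15520
def N22590 : Q := sm gg N15522
def N22593 : Q := sm gh N15523
def N22595 : Q := sm gd N15527
def N22596 : Q := sm gg N15527
def N22597 : Q := sm gh N15527
def N22602 : Q := sm ge N15530
def N22603 : Q := sm gi N15530
def N22604 : Q := sm gf N15532
def N22606 : Q := sm gh N15532
def N22608 : Q := sm gi N15533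
def N22609 : Q := sm gh N15534
def N22620 : Q := sm gg N15544
def N22621 : Q := sm gh N15544
def N22622 : Q := sm gd N15545
def N22624 : Q := sm gd N15546
def N22626 : Q := sm gh N15546
def N22627 : Q := sm gj N15547
def N22628 : Q := sm gh N15547
def N22630 : Q := sm gi N15548
def N22634 : Q := sm gj N15551
def N22639 : Q := sm gi N15554
def N22640 : Q := sm gg N15556
def N22641 : Q := sm gh N15556
def N22645 : Q := sm gd N15558
def N22648 : Q := sm gd N15560
def N22650 : Q := sm ge N15561
def N22652 : Q := sm gf N15563
def N22655 : Q := sm gj N15565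
def N22657 : Q := sm gh N15566
def N22661 : Q := sm gi N15568
def N22662 : Q := sm gi N15570
def N22663 : Q := sm gg N15572
def N22664 : Q := sm gh N15572
def N22667 : Q := sm gd N15574
def N22669 : Q := sm gc N15575
def N22671 : Q := sm gb N15577
def N22677 : Q := sm gg N15581
def N22678 : Q := sm gf N15582
def N22679 : Q := sm gh N15582
def N22682 : Q := sm gh N15583
def N22683 : Q := sm gi N15584
def N22684 : Q := sm gj N15585
def N22685 : Q := sm gg N15586
def N22692 : Q := sm gh N15591
def N22693 : Q := sm ge N15592
def N22695 : Q := sm gh N15592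
def N22698 : Q := sm ge N15595
def N22699 : Q := sm gg N15595
def N22700 : Q := sm gh N15595
def N22701 : Q := sm gd N15596
def N22703 : Q := sm gg N15597
def N22704 : Q := sm gh N15597
def N22706 : Q := sm gh N15598
def N22707 : Q := sm gi N15599
def N22708 : Q := sm gf N15602
def N22713 : Q := sm gh N15604
def N22715 : Q := sm gf N15607
def N22717 : Q := sm ge N15608
def N22718 : Q := sm gg N15608
def N22719 : Q := sm gh N15608
def N22720 : Q := sm gd N15609
def N22722 : Q := sm gg N15610
def N22723 : Q := sm gh N15610
def N22726 : Q := sm gi N15612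
def N22727 : Q := sm gd N15615
def N22728 : Q := sm gg N15615
def N22729 : Q := sm gh N15615
def N22730 : Q := sm gj N15616
def N22731 : Q := sm gh N15616
def N22732 : Q := sm gd N15617
def N22735 : Q := sm gi N15618
def N22737 : Q := sm gj N15620
def N22738 : Q := sm gh N15620
def N22739 : Q := sm gd N15621
def N22740 : Q := sm gi N15621
def N22743 : Q := sm gj N15625
def N22745 : Q := sm gh N15626
def N22751 : Q := sm ge N15632
def N22752 : Q := sm gg N15632
def N22753 : Q := sm gh N15632
def N22756 : Q := sm gd N15634
def N22757 : Q := sm gg N15634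
def N22758 : Q := sm gh N15634
def N22759 : Q := sm gj N15635
def N22760 : Q := sm gh N15635
def N22761 : Q := sm gd N15636
def N22762 : Q := sm gi N15636
def N22763 : Q := sm ge N15637
def N22764 : Q := sm gi N15637
def N22765 : Q := sm gf N15639
def N22767 : Q := sm gh N15639
def N22768 : Q := sm gd N15640
def N22770 : Q := sm gh N15641
def N22771 : Q := sm gi N15642
def N22772 : Q := sm gg N15644
def N22773 : Q := sm gh N15644
def N22777 : Q := sm gd N15646
def N22780 : Q := sm gd N15648
def N22781 : Q := sm gi N15648
def N22782 : Q := sm ge N15649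
def N22783 : Q := sm gi N15649
def N22784 : Q := sm gf N15651
def N22785 : Q := sm gi N15651
def N22786 : Q := sm gh N15652
def N22791 : Q := sm gi N15655
def N22792 : Q := sm gc N15656
def N22793 : Q := sm gi N15656
def N22794 : Q := sm gi N15658
def N22796 : Q := sm gh N15660
def N22797 : Q := sm gd N15661
def N22799 : Q := sm gd N15662
def N22800 : Q := sm gi N15662
def N22801 : Q := sm gc N15663
def N22802 : Q := sm gi N15663
def N22803 : Q := sm gb N15665
def N22809 : Q := sm ge N15669
def N22811 : Q := sm gh N15669
def N22814 : Q := sm ge N15672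
def N22816 : Q := sm gh N15672
def N22817 : Q := sm gd N15673
def N22822 : Q := sm gh N15675
def N22823 : Q := sm gi N15676
def N22824 : Q := sm gf N15679
def N22825 : Q := sm gj N15679
def N22826 : Q := sm gh N15679
def N22827 : Q := sm gd N15680
def N22834 : Q := sm gg N15685
def N22835 : Q := sm gh N15685
def N22837 : Q := sm gi N15686
def N22839 : Q := sm gh N15687
def N22841 : Q := sm gh N15688
def N22842 : Q := sm gi N15689
def N22845 : Q := sm gh N15692
def N22846 : Q := sm gj N15693
def N22847 : Q := sm gh N15693
def N22848 : Q := sm gd N15694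
def N22849 : Q := sm gi N15694
def N22850 : Q := sm ge N15695
def N22852 : Q := sm gf N15697
def N22853 : Q := sm gj N15697
def N22854 : Q := sm gh N15697
def N22856 : Q := sm gi N15698
def N22857 : Q := sm gh N15699
def N22858 : Q := sm gi N15700
def N22860 : Q := sm gh N15702
def N22865 : Q := sm gi N15705
def N22868 : Q := sm gg N15709
def N22869 : Q := sm gh N15709
def N22872 : Q := sm gd N15711
def N22873 : Q := sm gg N15711
def N22875 : Q := sm gj N15712
def N22876 : Q := sm gh N15712
def N22877 : Q := sm gd N15713
def N22879 : Q := sm ge N15714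
def N22880 : Q := sm gi N15714
def N22882 : Q := sm gj N15716
def N22887 : Q := sm gi N15719
def N22888 : Q := sm gg N15721
def N22889 : Q := sm gh N15721
def N22890 : Q := sm gf N15722
def N22891 : Q := sm gj N15722
def N22893 : Q := sm gd N15723
def N22900 : Q := sm gf N15728
def N22903 : Q := sm gj N15730
def N22904 : Q := sm gh N15730
def N22905 : Q := sm gh N15731
def N22906 : Q := sm gd N15732
def N22907 : Q := sm gi N15732
def N22909 : Q := sm gi N15733
def N22910 : Q := sm gi N15735
def N22922 : Q := sm gd N15745
def N22923 : Q := sm gg N15745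
def N22924 : Q := sm gh N15745
def N22925 : Q := sm gj N15746
def N22926 : Q := sm gh N15746
def N22927 : Q := sm gd N15747
def N22932 : Q := sm gg N15750
def N22933 : Q := sm gh N15750
def N22935 : Q := sm gj N15751
def N22936 : Q := sm gh N15751
def N22937 : Q := sm gd N15752
def N22938 : Q := sm gi N15752
def N22939 : Q := sm gh N15753
def N22940 : Q := sm gd N15754
def N22941 : Q := sm gi N15754
def N22942 : Q := sm ge N15755
def N22943 : Q := sm gi N15755
def N22944 : Q := sm gf N15757
def N22945 : Q := sm gi N15757
def N22946 : Q := sm gh N15758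
def N22948 : Q := sm gh N15759
def N22949 : Q := sm gh N15760
def N22950 : Q := sm gd N15761
def N22951 : Q := sm gi N15761
def N22952 : Q := sm gc N15762
def N22953 : Q := sm gi N15762
def N22954 : Q := sm gi N15764
def N22955 : Q := sm gf N15766
def N22957 : Q := sm gh N15766
def N22958 : Q := sm gd N15767
def N22959 : Q := sm gi N15767
def N22961 : Q := sm gh N15768
def N22963 : Q := sm gd N15770
def N22965 : Q := sm gc N15771
def N22966 : Q := sm ge N15771
def N22968 : Q := sm gd N15773
def N22970 : Q := sm ge N15774
def N22972 : Q := sm gf N15776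
def N22975 : Q := sm gg N15778
def N22976 : Q := sm gi N15778
def N22977 : Q := sm gh N15779
def N22978 : Q := sm gg N15781
def N22979 : Q := sm gh N15781
def N22981 : Q := sm gi N15782
def N22983 : Q := sm gi N15783
def N22985 : Q := sm gi N15784
def N22986 : Q := sm gb N15786
def N22987 : Q := sm gi N15786
def N22988 : Q := sm gh N15787
def N22993 : Q := sm ge N15791
def N22994 : Q := sm gi N15791
def N22995 : Q := sm gc N15793
def N22996 : Q := sm gi N15793
def N22998 : Q := sm gi N15795
def N22999 : Q := sm gh N15796
def N23001 : Q := sm gi N15797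
def N23003 : Q := sm gf N15800
def N23011 : Q := sm gh N15803
def N23014 : Q := sm gi N15805
def N23017 : Q := sm gh N15808
def N23021 : Q := sm gi N15810
def N23022 : Q := sm ge N15811
def N23030 : Q := sm gi N15816
def N23034 : Q := sm gd N15820
def N23035 : Q := sm gi N15820
def N23036 : Q := sm gc N15821
def N23037 : Q := sm gi N15821
def N23039 : Q := sm ge N15825
def N23042 : Q := sm gd N15826
def N23047 : Q := sm gj N15828
def N23048 : Q := sm gh N15828
def N23051 : Q := sm ge N15830
def N23055 : Q := sm gh N15832
def N23063 : Q := sm gj N15838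
def N23066 : Q := sm gi N15839
def N23067 : Q := sm gh N15840
def N23068 : Q := sm gd N15841
def N23069 : Q := sm gi N15841
def N23071 : Q := sm gi N15842
def N23072 : Q := sm gf N15844
def N23073 : Q := sm gi N15844
def N23074 : Q := sm gh N15845
def N23075 : Q := sm gj N15846
def N23076 : Q := sm gh N15846
def N23077 : Q := sm gh N15847
def N23079 : Q := sm gi N15848
def N23080 : Q := sm gc N15849
def N23081 : Q := sm gi N15849
def N23086 : Q := sm gi N15854
def N23087 : Q := sm gd N15855
def N23088 : Q := sm gi N15855
def N23089 : Q := sm gc N15856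
def N23090 : Q := sm gi N15856
def N23091 : Q := sm gb N15858
def N23092 : Q := sm gi N15858
def N23094 : Q := sm gd N15861
def N23095 : Q := sm gg N15861
def N23096 : Q := sm gh N15861
def N23104 : Q := sm gg N15866
def N23105 : Q := sm gh N15866
def N23106 : Q := sm gf N15867
def N23107 : Q := sm gj N15867
def N23108 : Q := sm gh N15867
def N23109 : Q := sm gd N15868
def N23110 : Q := sm gi N15868
def N23112 : Q := sm gd N15870
def N23114 : Q := sm ge N15871
def N23115 : Q := sm gi N15871
def N23116 : Q := sm gf N15873
def N23117 : Q := sm gi N15873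
def N23119 : Q := sm gj N15875
def N23120 : Q := sm gh N15875
def N23121 : Q := sm gh N15876
def N23122 : Q := sm gd N15877
def N23124 : Q := sm gc N15878
def N23125 : Q := sm gi N15878
def N23126 : Q := sm gi N15880
def N23127 : Q := sm gf N15882
def N23128 : Q := sm gj N15882
def N23129 : Q := sm gh N15882
def N23130 : Q := sm gd N15883
def N23131 : Q := sm gi N15883
def N23132 : Q := sm gj N15884
def N23133 : Q := sm gh N15884
def N23134 : Q := sm gh N15885
def N23135 : Q := sm gd N15886
def N23136 : Q := sm gi N15886
def N23137 : Q := sm gc N15887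
def N23138 : Q := sm ge N15887
def N23139 : Q := sm gi N15887
def N23141 : Q := sm gi N15889
def N23142 : Q := sm ge N15890
def N23144 : Q := sm gf N15892
def N23145 : Q := sm gi N15892
def N23146 : Q := sm gh N15893
def N23147 : Q := sm gg N15894
def N23148 : Q := sm gi N15894
def N23152 : Q := sm gd N15898
def N23155 : Q := sm gi N15899
def N23157 : Q := sm gi N15900
def N23158 : Q := sm gb N15902
def N23159 : Q := sm gi N15902
def N23160 : Q := sm gh N15903
def N23161 : Q := sm gh N15905
def N23162 : Q := sm gd N15906
def N23163 : Q := sm gi N15906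
def N23164 : Q := sm gc N15907
def N23165 : Q := sm ge N15907
def N23166 : Q := sm gi N15907
def N23167 : Q := sm gc N15909
def N23168 : Q := sm gi N15909
def N23169 : Q := sm gb N15911
def N23170 : Q := sm gi N15911
def N23171 : Q := sm gh N15912
def N23172 : Q := sm ga N15913
def N23173 : Q := sm gi N15913
def N23175 : Q := sm gc N15916
def N23176 : Q := sm gg N15916
def N23177 : Q := sm gh N15916
def N23178 : Q := sm gf N15917
def N23179 : Q := sm gj N15917
def N23180 : Q := sm gh N15917
def N23181 : Q := sm gd N15918
def N23182 : Q := sm gi N15918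
def N23183 : Q := sm gh N15919
def N23186 : Q := sm gc N15921
def N23187 : Q := sm ge N15921
def N23193 : Q := sm gh N15925
def N23194 : Q := sm gf N15926
def N23195 : Q := sm gj N15926
def N23196 : Q := sm gh N15926
def N23197 : Q := sm gd N15927
def N23198 : Q := sm gi N15927
def N23200 : Q := sm gh N15928
def N23201 : Q := sm gh N15929
def N23202 : Q := sm gd N15930
def N23203 : Q := sm gi N15930
def N23204 : Q := sm gc N15931
def N23205 : Q := sm ge N15931
def N23206 : Q := sm gi N15931
def N23207 : Q := sm gd N15933
def N23208 : Q := sm gi N15933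
def N23209 : Q := sm ge N15934
def N23211 : Q := sm gf N15936
def N23212 : Q := sm gi N15936
def N23214 : Q := sm gg N15938
def N23215 : Q := sm gi N15938
def N23217 : Q := sm gg N15941
def N23218 : Q := sm gh N15941
def N23219 : Q := sm gd N15942
def N23220 : Q := sm gi N15942
def N23222 : Q := sm gi N15943
def N23223 : Q := sm gc N15944
def N23224 : Q := sm gi N15944
def N23226 : Q := sm gi N15946
def N23227 : Q := sm gh N15947
def N23228 : Q := sm ge N15949
def N23229 : Q := sm gj N15949
def N23230 : Q := sm gh N15949
def N23231 : Q := sm gh N15950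
def N23232 : Q := sm gd N15951
def N23233 : Q := sm gi N15951
def N23234 : Q := sm gc N15952
def N23235 : Q := sm ge N15952
def N23236 : Q := sm gi N15952
def N23237 : Q := sm gg N15954
def N23238 : Q := sm gh N15954
def N23240 : Q := sm gi N15955
def N23241 : Q := sm gd N15956
def N23243 : Q := sm gc N15957
def N23244 : Q := sm ge N15957
def N23245 : Q := sm gi N15957
def N23246 : Q := sm ge N15959
def N23247 : Q := sm gi N15959
def N23248 : Q := sm gf N15960
def N23249 : Q := sm gi N15960
def N23250 : Q := sm gh N15961
def N23251 : Q := sm ge N15962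
def N23252 : Q := sm gi N15962
def N23253 : Q := sm gf N15964
def N23254 : Q := sm gi N15964
def N23256 : Q := sm gg N15966
def N23259 : Q := sm gj N15969
def N23260 : Q := sm gi N15969
def N23261 : Q := sm gh N15970
def N23263 : Q := sm gh N15972
def N23264 : Q := sm gd N15973
def N23266 : Q := sm gc N15974
def N23268 : Q := sm gi N15974
def N23269 : Q := sm gc N15976
def N23270 : Q := sm gi N15976
def N23271 : Q := sm gi N15978
def N23272 : Q := sm gh N15979
def N23273 : Q := sm gh N15980
def N23275 : Q := sm gi N15982
def N23277 : Q := sm gi N15983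
def N23278 : Q := sm gi N15985
def N23279 : Q := sm gh N15986
def N23280 : Q := sm gh N15987
def N23281 : Q := sm ge N15989
def N23282 : Q := sm gg N15989
def N23284 : Q := sm gd N15990
def N23285 : Q := sm gi N15990
def N23286 : Q := sm gd N15991
def N23289 : Q := sm gj N15992
def N23290 : Q := sm gh N15992
def N23294 : Q := sm gi N15994
def N23295 : Q := sm gf N15996
def N23297 : Q := sm gh N15996
def N23302 : Q := sm gg N16001
def N23303 : Q := sm gh N16001
def N23304 : Q := sm gf N16002
def N23305 : Q := sm gj N16002
def N23306 : Q := sm gh N16002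
def N23307 : Q := sm gd N16003
def N23309 : Q := sm gh N16004
def N23310 : Q := sm gd N16005
def N23311 : Q := sm gi N16005
def N23314 : Q := sm gf N16008
def N23315 : Q := sm gi N16008
def N23317 : Q := sm gj N16010
def N23318 : Q := sm gh N16010
def N23323 : Q := sm gi N16013
def N23324 : Q := sm gi N16015
def N23326 : Q := sm gh N16017
def N23327 : Q := sm gd N16018
def N23328 : Q := sm gi N16018
def N23332 : Q := sm gi N16020
def N23335 : Q := sm gh N16023
def N23336 : Q := sm gd N16025
def N23339 : Q := sm gj N16026
def N23341 : Q := sm gd N16027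
def N23345 : Q := sm gi N16028
def N23346 : Q := sm gg N16030
def N23347 : Q := sm gh N16030
def N23354 : Q := sm gd N16034
def N23355 : Q := sm gi N16034
def N23356 : Q := sm ge N16035
def N23358 : Q := sm gf N16037
def N23359 : Q := sm gi N16037
def N23363 : Q := sm gh N16040
def N23364 : Q := sm gd N16041
def N23365 : Q := sm gi N16041
def N23372 : Q := sm gd N16047
def N23373 : Q := sm gi N16047
def N23374 : Q := sm gj N16048
def N23377 : Q := sm gd N16050
def N23378 : Q := sm gi N16050
def N23379 : Q := sm gc N16051
def N23380 : Q := sm ge N16051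
def N23381 : Q := sm gi N16051
def N23382 : Q := sm gd N16053
def N23383 : Q := sm gi N16053
def N23384 : Q := sm ge N16054
def N23385 : Q := sm gi N16054
def N23386 : Q := sm gf N16056
def N23387 : Q := sm gi N16056
def N23388 : Q := sm gh N16057
def N23389 : Q := sm gg N16058
def N23390 : Q := sm gi N16058
def N23393 : Q := sm gh N16061
def N23396 : Q := sm gd N16063
def N23398 : Q := sm gc N16064
def N23404 : Q := sm gd N16070
def N23405 : Q := sm gi N16070
def N23407 : Q := sm ge N16071
def N23408 : Q := sm gi N16071
def N23409 : Q := sm gc N16073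
def N23410 : Q := sm gi N16073
def N23412 : Q := sm gi N16075
def N23415 : Q := sm gi N16077
def N23417 : Q := sm gd N16080
def N23418 : Q := sm gg N16080
def N23419 : Q := sm gh N16080
def N23421 : Q := sm gh N16081
def N23427 : Q := sm gg N16085
def N23428 : Q := sm gh N16085
def N23429 : Q := sm gf N16086
def N23435 : Q := sm gd N16089
def N23436 : Q := sm gi N16089
def N23439 : Q := sm gf N16092
def N23440 : Q := sm gi N16092
def N23441 : Q := sm gh N16093
def N23442 : Q := sm gj N16094
def N23443 : Q := sm gh N16094
def N23444 : Q := sm gh N16095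
def N23447 : Q := sm gc N16097
def N23448 : Q := sm gi N16097
def N23450 : Q := sm gf N16101
def N23451 : Q := sm gj N16101
def N23452 : Q := sm gh N16101
def N23453 : Q := sm gd N16102
def N23454 : Q := sm gi N16102
def N23455 : Q := sm gj N16103
def N23456 : Q := sm gh N16103
def N23457 : Q := sm gh N16104
def N23458 : Q := sm gd N16105
def N23459 : Q := sm gi N16105
def N23461 : Q := sm ge N16106
def N23462 : Q := sm gi N16106
def N23463 : Q := sm gd N16108
def N23465 : Q := sm ge N16109
def N23466 : Q := sm gi N16109
def N23467 : Q := sm gf N16111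
def N23468 : Q := sm gi N16111
def N23469 : Q := sm gh N16112
def N23470 : Q := sm gg N16113
def N23471 : Q := sm gi N16113
def N23474 : Q := sm gh N16116
def N23476 : Q := sm gi N16117
def N23477 : Q := sm gd N16118
def N23479 : Q := sm gc N16119
def N23480 : Q := sm gi N16119
def N23485 : Q := sm gd N16125
def N23486 : Q := sm gi N16125
def N23488 : Q := sm ge N16126
def N23489 : Q := sm gi N16126
def N23491 : Q := sm gi N16128
def N23494 : Q := sm gh N16131
def N23498 : Q := sm gc N16135
def N23499 : Q := sm gg N16135
def N23500 : Q := sm gh N16135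
def N23501 : Q := sm gf N16136
def N23505 : Q := sm gi N16137
def N23507 : Q := sm gd N16139
def N23509 : Q := sm gc N16140
def N23510 : Q := sm ge N16140
def N23511 : Q := sm gi N16140
def N23512 : Q := sm ge N16142
def N23515 : Q := sm gi N16143
def N23516 : Q := sm gh N16144
def N23517 : Q := sm gf N16145
def N23518 : Q := sm gj N16145
def N23519 : Q := sm gh N16145
def N23520 : Q := sm gd N16146
def N23521 : Q := sm gi N16146
def N23522 : Q := sm gj N16147
def N23523 : Q := sm gh N16147
def N23524 : Q := sm gh N16148
def N23525 : Q := sm gd N16149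
def N23527 : Q := sm gc N16150
def N23528 : Q := sm ge N16150
def N23529 : Q := sm gi N16150
def N23530 : Q := sm gd N16152
def N23532 : Q := sm ge N16153
def N23533 : Q := sm gi N16153
def N23534 : Q := sm gf N16155
def N23537 : Q := sm gg N16157
def N23539 : Q := sm gh N16158
def N23540 : Q := sm gg N16160
def N23541 : Q := sm gh N16160
def N23545 : Q := sm gi N16162
def N23548 : Q := sm gb N16165
def N23551 : Q := sm ge N16168
def N23552 : Q := sm gj N16168
def N23553 : Q := sm gh N16168
def N23554 : Q := sm gh N16169
def N23555 : Q := sm gd N16170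
def N23556 : Q := sm gi N16170
def N23557 : Q := sm gc N16171
def N23558 : Q := sm ge N16171
def N23559 : Q := sm gi N16171
def N23560 : Q := sm gg N16173
def N23564 : Q := sm gd N16175
def N23565 : Q := sm gi N16175
def N23567 : Q := sm ge N16176
def N23568 : Q := sm gi N16176
def N23570 : Q := sm ge N16178
def N23571 : Q := sm gi N16178
def N23572 : Q := sm gf N16179
def N23574 : Q := sm gh N16180
def N23575 : Q := sm ge N16181
def N23577 : Q := sm gf N16183
def N23578 : Q := sm gi N16183
def N23580 : Q := sm gg N16185
def N23581 : Q := sm gi N16185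
def N23583 : Q := sm gj N16188
def N23584 : Q := sm gi N16188
def N23585 : Q := sm gh N16189
def N23586 : Q := sm gd N16190
def N23593 : Q := sm gi N16195
def N23594 : Q := sm gb N16197
def N23603 : Q := sm gi N16203
def N23606 : Q := sm gh N16206
def N23607 : Q := sm gb N16207
def N23608 : Q := sm gi N16207
def N23610 : Q := sm ga N16209
def N23611 : Q := sm gi N16209
def N23612 : Q := sm gh N16210
def N23614 : Q := sm gh N16213
def N23616 : Q := sm gc N16215
def N23617 : Q := sm gg N16215
def N23618 : Q := sm gh N16215
def N23620 : Q := sm gj N16216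
def N23628 : Q := sm ge N16220
def N23632 : Q := sm gf N16223
def N23633 : Q := sm gi N16223
def N23634 : Q := sm gh N16224
def N23635 : Q := sm gf N16225
def N23636 : Q := sm gj N16225
def N23637 : Q := sm gh N16225
def N23638 : Q := sm gd N16226
def N23639 : Q := sm gi N16226
def N23640 : Q := sm gj N16227
def N23641 : Q := sm gh N16227
def N23643 : Q := sm gd N16229
def N23645 : Q := sm gc N16230
def N23646 : Q := sm ge N16230
def N23647 : Q := sm gi N16230
def N23648 : Q := sm gd N16232
def N23650 : Q := sm ge N16233
def N23651 : Q := sm gi N16233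
def N23653 : Q := sm gi N16235
def N23654 : Q := sm gh N16236
def N23655 : Q := sm gg N16237
def N23656 : Q := sm gi N16237
def N23658 : Q := sm gg N16240
def N23660 : Q := sm gd N16241
def N23662 : Q := sm gd N16242
def N23664 : Q := sm gc N16243
def N23665 : Q := sm gi N16243
def N23666 : Q := sm gb N16245
def N23667 : Q := sm gi N16245
def N23668 : Q := sm ge N16248
def N23669 : Q := sm gj N16248
def N23670 : Q := sm gh N16248
def N23671 : Q := sm gh N16249
def N23672 : Q := sm gd N16250
def N23673 : Q := sm gi N16250
def N23674 : Q := sm gc N16251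
def N23675 : Q := sm ge N16251
def N23676 : Q := sm gi N16251
def N23677 : Q := sm gg N16253
def N23678 : Q := sm gh N16253
def N23679 : Q := sm gd N16254
def N23680 : Q := sm gi N16254
def N23681 : Q := sm gd N16255
def N23683 : Q := sm gc N16256
def N23684 : Q := sm ge N16256
def N23685 : Q := sm gi N16256
def N23686 : Q := sm gb N16258
def N23687 : Q := sm ge N16258
def N23688 : Q := sm gi N16258
def N23689 : Q := sm gf N16259
def N23690 : Q := sm gi N16259
def N23691 : Q := sm gh N16260
def N23692 : Q := sm ge N16261
def N23693 : Q := sm gi N16261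
def N23694 : Q := sm gf N16263
def N23695 : Q := sm gi N16263
def N23697 : Q := sm gg N16265
def N23698 : Q := sm gi N16265
def N23699 : Q := sm gh N16266
def N23700 : Q := sm gj N16268
def N23702 : Q := sm gh N16269
def N23703 : Q := sm gd N16270
def N23704 : Q := sm gh N16271
def N23705 : Q := sm gd N16272
def N23706 : Q := sm gi N16272
def N23707 : Q := sm gc N16273
def N23708 : Q := sm ge N16273
def N23709 : Q := sm gi N16273
def N23710 : Q := sm gc N16275
def N23712 : Q := sm gb N16277
def N23713 : Q := sm gi N16277
def N23714 : Q := sm ga N16279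
def N23716 : Q := sm gd N16281
def N23717 : Q := sm gi N16281
def N23718 : Q := sm gc N16282
def N23720 : Q := sm gi N16282
def N23721 : Q := sm gb N16284
def N23722 : Q := sm ge N16284
def N23723 : Q := sm gi N16284
def N23724 : Q := sm gi N16285
def N23728 : Q := sm gi N16289
def N23730 : Q := sm gg N16293
def N23731 : Q := sm gh N16293
def N23732 : Q := sm gf N16294
def N23733 : Q := sm gj N16294
def N23734 : Q := sm gh N16294
def N23736 : Q := sm gi N16295
def N23737 : Q := sm gj N16296
def N23739 : Q := sm gh N16297
def N23740 : Q := sm gd N16298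
def N23742 : Q := sm gc N16299
def N23743 : Q := sm ge N16299
def N23745 : Q := sm gd N16301
def N23747 : Q := sm gc N16302
def N23748 : Q := sm ge N16302
def N23749 : Q := sm gi N16302
def N23750 : Q := sm ge N16304
def N23752 : Q := sm gf N16305
def N23753 : Q := sm gi N16305
def N23754 : Q := sm gh N16306
def N23760 : Q := sm gi N16309
def N23762 : Q := sm ge N16312
def N23763 : Q := sm gj N16312
def N23764 : Q := sm gh N16312
def N23765 : Q := sm gh N16313
def N23766 : Q := sm gd N16314
def N23767 : Q := sm gi N16314
def N23768 : Q := sm ge N16315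
def N23769 : Q := sm gi N16315
def N23772 : Q := sm gd N16318
def N23774 : Q := sm gd N16319
def N23778 : Q := sm gf N16322
def N23781 : Q := sm ge N16324
def N23782 : Q := sm gi N16324
def N23783 : Q := sm gf N16326
def N23785 : Q := sm gh N16327
def N23786 : Q := sm gg N16328
def N23788 : Q := sm gh N16329
def N23789 : Q := sm gj N16331
def N23790 : Q := sm gi N16331
def N23791 : Q := sm gh N16332
def N23795 : Q := sm gj N16338
def N23796 : Q := sm gh N16338
def N23798 : Q := sm gh N16339
def N23799 : Q := sm gd N16340
def N23800 : Q := sm gi N16340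
def N23801 : Q := sm gd N16341
def N23802 : Q := sm gi N16341
def N23803 : Q := sm ge N16342
def N23804 : Q := sm gi N16342
def N23805 : Q := sm gf N16344
def N23806 : Q := sm gi N16344
def N23807 : Q := sm gh N16345
def N23811 : Q := sm ge N16348
def N23812 : Q := sm gi N16348
def N23813 : Q := sm ge N16350
def N23815 : Q := sm gf N16352
def N23816 : Q := sm gi N16352
def N23817 : Q := sm gh N16353
def N23818 : Q := sm gg N16354
def N23821 : Q := sm gf N16357
def N23822 : Q := sm gi N16357
def N23823 : Q := sm gh N16358
def N23824 : Q := sm gg N16359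
def N23825 : Q := sm gi N16359
def N23827 : Q := sm gj N16362
def N23829 : Q := sm gh N16363
def N23830 : Q := sm gd N16364
def N23831 : Q := sm gi N16365
def N23833 : Q := sm gd N16367
def N23834 : Q := sm gc N16368
def N23836 : Q := sm gg N16372
def N23838 : Q := sm gf N16373
def N23840 : Q := sm gh N16373
def N23841 : Q := sm gd N16374
def N23842 : Q := sm gi N16374
def N23843 : Q := sm gj N16375
def N23844 : Q := sm gh N16375
def N23846 : Q := sm gd N16377
def N23848 : Q := sm ge N16378
def N23849 : Q := sm gd N16379
def N23850 : Q := sm gc N16380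
def N23851 : Q := sm ge N16380
def N23857 : Q := sm ge N16385
def N23858 : Q := sm gj N16385
def N23859 : Q := sm gh N16385
def N23860 : Q := sm gh N16386
def N23861 : Q := sm gd N16387
def N23862 : Q := sm gi N16387
def N23863 : Q := sm gc N16388
def N23866 : Q := sm gg N16390
def N23867 : Q := sm gh N16390
def N23868 : Q := sm gd N16391
def N23869 : Q := sm gd N16392
def N23870 : Q := sm gc N16393
def N23871 : Q := sm ge N16393
def N23876 : Q := sm gf N16397
def N23881 : Q := sm gc N16402
def N23883 : Q := sm gc N16403
def N23884 : Q := sm gb N16404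
def N23886 : Q := sm gj N16406
def N23887 : Q := sm gh N16406
def N23888 : Q := sm gg N16407
def N23889 : Q := sm gh N16407
def N23890 : Q := sm gd N16408
def N23891 : Q := sm gi N16408
def N23892 : Q := sm gd N16409
def N23893 : Q := sm gi N16409
def N23894 : Q := sm gc N16410
def N23895 : Q := sm ge N16410
def N23896 : Q := sm gi N16410
def N23897 : Q := sm gb N16412
def N23898 : Q := sm ge N16412
def N23899 : Q := sm gi N16412
def N23900 : Q := sm gf N16413
def N23901 : Q := sm gi N16413
def N23902 : Q := sm gh N16415
def N23903 : Q := sm gd N16416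
def N23904 : Q := sm gc N16417
def N23905 : Q := sm ge N16417
def N23906 : Q := sm gc N16418
def N23907 : Q := sm ge N16418
def N23908 : Q := sm gb N16419
def N23909 : Q := sm ge N16419
def N23910 : Q := sm gf N16420
def N23911 : Q := sm ga N16421
def N23912 : Q := sm ge N16421
def N23913 : Q := sm gf N16422
def N23917 : Q := sm gj N16426
def N23918 : Q := sm gd N16428
def N23919 : Q := sm gc N16429
def N23921 : Q := sm gb N16430
def N23922 : Q := sm ge N16430
def N23923 : Q := sm gb N16432
def N23924 : Q := sm ga N16433
def N23925 : Q := sm gc N16435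
def N23926 : Q := sm ge N16435
def N23927 : Q := sm gb N16436
def N23928 : Q := sm ge N16436
def N23929 : Q := sm ga N16438
def N23930 : Q := sm ge N16438
def N23931 : Q := sm gd N16439
def N23933 : Q := sm gf N16442
def N23934 : Q := sm gj N16442
def N23935 : Q := sm gh N16442
def N23936 : Q := sm gd N16443
def N23937 : Q := sm gi N16443
def N23938 : Q := sm ge N16444
def N23939 : Q := sm gj N16444
def N23940 : Q := sm gh N16444
def N23941 : Q := sm gh N16445
def N23942 : Q := sm gi N16446
def N23943 : Q := sm gg N16448
def N23944 : Q := sm gj N16449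
def N23945 : Q := sm gh N16449
def N23946 : Q := sm gg N16450
def N23947 : Q := sm gh N16450
def N23948 : Q := sm gi N16451
def N23949 : Q := sm gi N16452
def N23950 : Q := sm gg N16455
def N23951 : Q := sm gh N16455
def N23952 : Q := sm gd N16456
def N23953 : Q := sm gi N16456
def N23954 : Q := sm gh N16457
def N23955 : Q := sm gi N16458
def N23957 : Q := sm gg N16461
def N23958 : Q := sm gh N16461
def N23960 : Q := sm gj N16462
def N23961 : Q := sm gh N16462
def N23962 : Q := sm gd N16463
def N23964 : Q := sm gh N16464
def N23965 : Q := sm gd N16465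
def N23966 : Q := sm gi N16465
def N23967 : Q := sm gc N16466
def N23968 : Q := sm ge N16466
def N23972 : Q := sm gf N16469
def N23975 : Q := sm gf N16471
def N23976 : Q := sm gj N16471
def N23977 : Q := sm gh N16471
def N23978 : Q := sm gd N16472
def N23979 : Q := sm gi N16472
def N23983 : Q := sm gd N16475
def N23985 : Q := sm gc N16476
def N23986 : Q := sm ge N16476
def N23990 : Q := sm ge N16479
def N23992 : Q := sm gf N16481
def N23995 : Q := sm gg N16483
def N23996 : Q := sm gi N16483
def N23998 : Q := sm gh N16486
def N23999 : Q := sm gd N16487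
def N24000 : Q := sm gi N16487
def N24001 : Q := sm gd N16488
def N24003 : Q := sm gc N16489
def N24007 : Q := sm gh N16492
def N24008 : Q := sm ge N16494
def N24009 : Q := sm gj N16494
def N24010 : Q := sm gh N16494
def N24011 : Q := sm gh N16495
def N24012 : Q := sm gd N16496
def N24013 : Q := sm gi N16496
def N24014 : Q := sm gc N16497
def N24015 : Q := sm ge N16497
def N24016 : Q := sm gi N16497
def N24017 : Q := sm gh N16499
def N24019 : Q := sm gi N16500
def N24020 : Q := sm gd N16501
def N24021 : Q := sm gi N16501
def N24022 : Q := sm gc N16502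
def N24023 : Q := sm ge N16502
def N24024 : Q := sm gi N16502
def N24026 : Q := sm ge N16504
def N24028 : Q := sm gf N16505
def N24029 : Q := sm gi N16505
def N24030 : Q := sm gh N16506
def N24031 : Q := sm ge N16507
def N24033 : Q := sm gf N16509
def N24034 : Q := sm gi N16509
def N24035 : Q := sm gh N16510
def N24036 : Q := sm gg N16511
def N24037 : Q := sm gi N16511
def N24039 : Q := sm gj N16514
def N24040 : Q := sm gi N16514
def N24042 : Q := sm gd N16516
def N24045 : Q := sm gc N16518
def N24048 : Q := sm gc N16520
def N24050 : Q := sm gb N16522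
def N24051 : Q := sm gi N16522
def N24053 : Q := sm ga N16524
def N24055 : Q := sm gh N16525
def N24056 : Q := sm gc N16527
def N24058 : Q := sm gi N16527
def N24059 : Q := sm gb N16529
def N24061 : Q := sm gi N16529
def N24062 : Q := sm gi N16530
def N24063 : Q := sm gh N16531
def N24068 : Q := sm gi N16534
def N24069 : Q := sm gh N16535
def N24071 : Q := sm gh N16538
def N24072 : Q := sm gd N16539
def N24074 : Q := sm gh N16540
def N24075 : Q := sm gj N16541
def N24078 : Q := sm gi N16542
def N24079 : Q := sm gh N16543
def N24080 : Q := sm gd N16544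
def N24081 : Q := sm gi N16544
def N24082 : Q := sm gc N16545
def N24085 : Q := sm gd N16547
def N24090 : Q := sm ge N16550
def N24092 : Q := sm gf N16551
def N24094 : Q := sm gh N16552
def N24098 : Q := sm gh N16554
def N24101 : Q := sm gh N16556
def N24102 : Q := sm gh N16558
def N24103 : Q := sm gd N16559
def N24105 : Q := sm gc N16560
def N24106 : Q := sm ge N16560
def N24107 : Q := sm gi N16560
def N24108 : Q := sm gd N16562
def N24110 : Q := sm gc N16563
def N24111 : Q := sm ge N16563
def N24113 : Q := sm gb N16565
def N24114 : Q := sm ge N16565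
def N24116 : Q := sm gf N16566
def N24118 : Q := sm gh N16567
def N24119 : Q := sm ge N16568
def N24120 : Q := sm gi N16568
def N24121 : Q := sm gf N16570
def N24122 : Q := sm gi N16570
def N24124 : Q := sm gg N16572
def N24126 : Q := sm gh N16573
def N24127 : Q := sm gj N16575
def N24128 : Q := sm gi N16575
def N24129 : Q := sm gh N16576
def N24130 : Q := sm gd N16577
def N24132 : Q := sm gi N16578
def N24133 : Q := sm gb N16580
def N24135 : Q := sm gh N16581
def N24137 : Q := sm gi N16582
def N24139 : Q := sm gd N16585
def N24140 : Q := sm gi N16585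
def N24141 : Q := sm gc N16586
def N24142 : Q := sm ge N16586
def N24143 : Q := sm gi N16586
def N24144 : Q := sm gb N16588
def N24145 : Q := sm ge N16588
def N24146 : Q := sm gi N16588
def N24147 : Q := sm gf N16589
def N24148 : Q := sm gi N16589
def N24150 : Q := sm gc N16591
def N24151 : Q := sm ge N16591
def N24152 : Q := sm gi N16591
def N24154 : Q := sm ge N16593
def N24155 : Q := sm gi N16593
def N24156 : Q := sm gf N16594
def N24157 : Q := sm gi N16594
def N24158 : Q := sm gh N16595
def N24159 : Q := sm ga N16596
def N24160 : Q := sm ge N16596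
def N24162 : Q := sm gf N16597
def N24163 : Q := sm gi N16597
def N24165 : Q := sm gg N16599
def N24166 : Q := sm gi N16599
def N24167 : Q := sm gh N16600
def N24168 : Q := sm gf N16602
def N24170 : Q := sm gh N16603
def N24171 : Q := sm gg N16604
def N24172 : Q := sm gi N16604
def N24174 : Q := sm gj N16607
def N24175 : Q := sm gi N16607
def N24176 : Q := sm gh N16608
def N24178 : Q := sm gi N16610
def N24180 : Q := sm gd N16612
def N24181 : Q := sm gc N16613
def N24182 : Q := sm gb N16614
def N24185 : Q := sm ga N16616
def N24192 : Q := sm gi N16622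
def N24193 : Q := sm gh N16623
def N24195 : Q := sm gh N16626
def N24202 : Q := sm gi N16631
def N24203 : Q := sm ge N16633
def N24207 : Q := sm gh N16635
def N24210 : Q := sm gi N16636
def N24211 : Q := sm gh N16637
def N24212 : Q := sm gg N16638
def N24213 : Q := sm gi N16638
def N24224 : Q := sm gh N16646
def N24226 : Q := sm gf N16648
def N24229 : Q := sm gg N16650
def N24230 : Q := sm gi N16650
def N24232 : Q := sm gj N16653
def N24236 : Q := sm gi N16656
def N24238 : Q := sm gd N16658
def N24240 : Q := sm gg N16660
def N24241 : Q := sm gi N16660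
def N24242 : Q := sm gh N16661
def N24243 : Q := sm gj N16663
def N24244 : Q := sm gi N16663
def N24245 : Q := sm gh N16664
def N24247 : Q := sm gi N16666
def N24249 : Q := sm gd N16668
def N24250 : Q := sm gc N16669
def N24251 : Q := sm gh N16670
def N24252 : Q := sm gd N16671
def N24253 : Q := sm gc N16672
def N24254 : Q := sm ge N16672
def N24255 : Q := sm gb N16673
def N24256 : Q := sm gg N16674
def N24257 : Q := sm gh N16674
def N24258 : Q := sm gf N16675
def N24259 : Q := sm gh N16675
def N24261 : Q := sm gi N16676
def N24264 : Q := sm gi N16678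
def N24266 : Q := sm ge N16679
def N24267 : Q := sm gi N16679
def N24271 : Q := sm ge N16683
def N24272 : Q := sm gi N16683
def N24273 : Q := sm gf N16684
def N24274 : Q := sm gi N16684
def N24276 : Q := sm gd N16686
def N24277 : Q := sm gf N16686
def N24279 : Q := sm gh N16687
def N24280 : Q := sm gg N16688
def N24281 : Q := sm gi N16688
def N24282 : Q := sm gh N16689
def N24285 : Q := sm gd N16692
def N24286 : Q := sm gi N16692
def N24287 : Q := sm gc N16693
def N24289 : Q := sm gi N16693
def N24290 : Q := sm gd N16695
def N24292 : Q := sm gc N16696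
def N24294 : Q := sm gi N16696
def N24295 : Q := sm gb N16698
def N24296 : Q := sm ge N16698
def N24298 : Q := sm gf N16699
def N24300 : Q := sm gh N16700
def N24301 : Q := sm gf N16701
def N24304 : Q := sm gg N16703
def N24305 : Q := sm gi N16703
def N24310 : Q := sm gd N16708
def N24317 : Q := sm ga N16713
def N24318 : Q := sm gi N16713
def N24320 : Q := sm gh N16716
def N24321 : Q := sm gd N16717
def N24322 : Q := sm gi N16717
def N24323 : Q := sm gc N16718
def N24324 : Q := sm ge N16718
def N24325 : Q := sm gi N16718
def N24326 : Q := sm gb N16720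
def N24327 : Q := sm ge N16720
def N24328 : Q := sm gi N16720
def N24329 : Q := sm gf N16721
def N24330 : Q := sm gi N16721
def N24331 : Q := sm gh N16722
def N24332 : Q := sm gc N16723
def N24333 : Q := sm ge N16723
def N24334 : Q := sm gi N16723
def N24336 : Q := sm ge N16725
def N24340 : Q := sm gh N16727
def N24342 : Q := sm ge N16728
def N24343 : Q := sm gi N16728
def N24344 : Q := sm gf N16729
def N24347 : Q := sm gg N16731
def N24349 : Q := sm gh N16732
def N24350 : Q := sm gg N16734
def N24352 : Q := sm gh N16735
def N24353 : Q := sm gj N16737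
def N24355 : Q := sm gh N16738
def N24356 : Q := sm gd N16739
def N24357 : Q := sm gi N16740
def N24358 : Q := sm gh N16741
def N24360 : Q := sm gc N16743
def N24363 : Q := sm gi N16744
def N24366 : Q := sm ga N16747
def N24368 : Q := sm gh N16748
def N24371 : Q := sm gd N16752
def N24374 : Q := sm gi N16753
def N24377 : Q := sm gh N16755
def N24379 : Q := sm gi N16758
def N24382 : Q := sm gh N16761
def N24383 : Q := sm gd N16762
def N24386 : Q := sm gi N16764
def N24389 : Q := sm gi N16765
def N24390 : Q := sm gb N16767
def N24391 : Q := sm ge N16767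
def N24394 : Q := sm gi N16768
def N24395 : Q := sm gh N16769
def N24396 : Q := sm gd N16770
def N24401 : Q := sm gi N16772
def N24402 : Q := sm gh N16773
def N24404 : Q := sm gh N16775
def N24405 : Q := sm gi N16775
def N24406 : Q := sm gg N16776
def N24410 : Q := sm gj N16779
def N24412 : Q := sm gh N16780
def N24414 : Q := sm gb N16782
def N24416 : Q := sm gi N16782
def N24417 : Q := sm gf N16783
def N24421 : Q := sm ge N16785
def N24422 : Q := sm gi N16785
def N24423 : Q := sm gf N16786
def N24424 : Q := sm gi N16786
def N24426 : Q := sm gg N16788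
def N24429 : Q := sm gj N16791
def N24430 : Q := sm gi N16791
def N24431 : Q := sm gh N16792
def N24440 : Q := sm ga N16801
def N24441 : Q := sm ge N16801
def N24442 : Q := sm gi N16801
def N24444 : Q := sm gf N16802
def N24446 : Q := sm gh N16803
def N24447 : Q := sm gg N16804
def N24448 : Q := sm gi N16804
def N24451 : Q := sm gi N16807
def N24453 : Q := sm gi N16808
def N24455 : Q := sm gg N16810
def N24459 : Q := sm gj N16813
def N24461 : Q := sm gh N16814
def N24465 : Q := sm gd N16818
def N24469 : Q := sm gc N16822
def N24471 : Q := sm gb N16823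
def N24491 : Q := sm gh N16838
def N24497 : Q := sm ge N16843
def N24500 : Q := sm gc N16846
def N24501 : Q := sm ge N16846
def N24505 : Q := sm gi N16850
def N24506 : Q := sm gi N16851
def N24508 : Q := sm gi N16853
def N24510 : Q := sm gd N16855
def N24511 : Q := sm gi N16856
def N24512 : Q := sm gh N16857
def N24513 : Q := sm gd N16858
def N24514 : Q := sm gc N16859
def N24516 : Q := sm gi N16860
def N24517 : Q := sm gh N16861
def N24518 : Q := sm gd N16862
def N24520 : Q := sm gc N16864
def N24521 : Q := sm ge N16864
def N24522 : Q := sm gc N16865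
def N24525 : Q := sm ge N16866
def N24532 : Q := sm gd N16871
def N24536 : Q := sm gd N16874
def N24537 : Q := sm gf N16874
def N24538 : Q := sm gf N16875
def N24540 : Q := sm gg N16876
def N24542 : Q := sm gi N16878
def N24543 : Q := sm gh N16879
def N24544 : Q := sm gd N16880
def N24545 : Q := sm gc N16881
def N24546 : Q := sm ge N16881
def N24547 : Q := sm gc N16882
def N24548 : Q := sm ge N16882
def N24549 : Q := sm gb N16883
def N24550 : Q := sm ge N16883
def N24551 : Q := sm gf N16884
def N24552 : Q := sm gb N16885
def N24556 : Q := sm ge N16887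
def N24557 : Q := sm gd N16888
def N24564 : Q := sm gg N16892
def N24568 : Q := sm gf N16895
def N24569 : Q := sm gh N16895
def N24571 : Q := sm gj N16897
def N24572 : Q := sm gd N16898
def N24573 : Q := sm gf N16898
def N24574 : Q := sm gc N16899
def N24583 : Q := sm ge N16905
def N24584 : Q := sm gd N16906
def N24586 : Q := sm gf N16907
def N24587 : Q := sm gh N16907
def N24588 : Q := sm gg N16908
def N24591 : Q := sm gf N16910
def N24596 : Q := sm ge N16913
def N24597 : Q := sm gg N16913
def N24600 : Q := sm gj N16915
def N24606 : Q := sm gh N16919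
def N24607 : Q := sm ge N16920
def N24608 : Q := sm gg N16920
def N24609 : Q := sm gh N16920
def N24611 : Q := sm gj N16922
def N24612 : Q := sm gg N16923
def N24613 : Q := sm gh N16923
def N24616 : Q := sm gi N16925
def N24617 : Q := sm gb N16928
def N24620 : Q := sm ge N16929
def N24621 : Q := sm gg N16929
def N24622 : Q := sm gh N16929
def N24625 : Q := sm ge N16932
def N24629 : Q := sm gi N16933
def N24630 : Q := sm gg N16934
def N24631 : Q := sm gh N16934
def N24633 : Q := sm gh N16935
def N24635 : Q := sm gf N16939
def N24636 : Q := sm gj N16939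
def N24641 : Q := sm gi N16942
def N24642 : Q := sm gf N16944
def N24649 : Q := sm gg N16947
def N24651 : Q := sm gj N16948
def N24652 : Q := sm gh N16948
def N24653 : Q := sm gi N16949
def N24655 : Q := sm gg N16952
def N24656 : Q := sm gh N16952
def N24657 : Q := sm gj N16953
def N24658 : Q := sm gh N16953
def N24659 : Q := sm gd N16954
def N24660 : Q := sm gi N16954
def N24663 : Q := sm gf N16957
def N24664 : Q := sm gj N16957
def N24667 : Q := sm gi N16958
def N24671 : Q := sm gh N16962
def N24672 : Q := sm gh N16963
def N24673 : Q := sm gd N16964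
def N24677 : Q := sm gi N16967
def N24678 : Q := sm gi N16969
def N24679 : Q := sm gh N16970
def N24680 : Q := sm gd N16971
def N24681 : Q := sm gc N16972
def N24686 : Q := sm gb N16975
def N24687 : Q := sm ge N16975
def N24691 : Q := sm gd N16978
def N24692 : Q := sm gf N16978
def N24694 : Q := sm ge N16980
def N24695 : Q := sm gd N16981
def N24698 : Q := sm gh N16982
def N24703 : Q := sm gc N16986
def N24705 : Q := sm gh N16986
def N24707 : Q := sm ge N16988
def N24708 : Q := sm gg N16988
def N24709 : Q := sm gh N16988
def N24711 : Q := sm gj N16990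
def N24712 : Q := sm ga N16992
def N24714 : Q := sm gd N16993
def N24716 : Q := sm gg N16994
def N24717 : Q := sm ge N16995
def N24721 : Q := sm gh N16997
def N24724 : Q := sm gd N17000
def N24725 : Q := sm gf N17000
def N24731 : Q := sm gg N17003
def N24732 : Q := sm gh N17003
def N24735 : Q := sm gc N17007
def N24737 : Q := sm gh N17007
def N24738 : Q := sm gg N17008
def N24740 : Q := sm gh N17009
def N24742 : Q := sm gg N17010
def N24743 : Q := sm gh N17010
def N24753 : Q := sm gh N17018
def N24754 : Q := sm gg N17019
def N24758 : Q := sm gg N17021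
def N24765 : Q := sm gh N17025
def N24766 : Q := sm gi N17026
def N24769 : Q := sm gh N17029
def N24771 : Q := sm gg N17030
def N24774 : Q := sm gj N17032
def N24776 : Q := sm gg N17033
def N24777 : Q := sm gh N17033
def N24779 : Q := sm gi N17034
def N24781 : Q := sm gh N17035
def N24783 : Q := sm gh N17036
def N24790 : Q := sm gh N17042
def N24791 : Q := sm gi N17043
def N24792 : Q := sm gf N17045
def N24793 : Q := sm gh N17045
def N24796 : Q := sm gh N17046
def N24797 : Q := sm gd N17047
def N24799 : Q := sm gg N17048
def N24800 : Q := sm gh N17048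
def N24801 : Q := sm gj N17049
def N24802 : Q := sm gh N17049
def N24804 : Q := sm gd N17053
def N24814 : Q := sm gj N17058
def N24815 : Q := sm gh N17058
def N24816 : Q := sm gd N17059
def N24820 : Q := sm gj N17063
def N24822 : Q := sm gh N17064
def N24826 : Q := sm gi N17066
def N24828 : Q := sm ge N17070
def N24829 : Q := sm gg N17070
def N24831 : Q := sm gd N17071
def N24834 : Q := sm gg N17072
def N24837 : Q := sm gh N17073
def N24838 : Q := sm gd N17074
def N24842 : Q := sm gf N17077
def N24843 : Q := sm gj N17077
def N24845 : Q := sm gd N17078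
def N24846 : Q := sm gi N17078
def N24848 : Q := sm gi N17080
def N24849 : Q := sm gg N17082
def N24850 : Q := sm gh N17082
def N24851 : Q := sm gf N17083
def N24853 : Q := sm gh N17083
def N24854 : Q := sm gd N17084
def N24856 : Q := sm gh N17085
def N24859 : Q := sm ge N17087
def N24860 : Q := sm gi N17087
def N24863 : Q := sm gh N17090
def N24864 : Q := sm gj N17091
def N24865 : Q := sm gh N17091
def N24866 : Q := sm gh N17092
def N24867 : Q := sm gd N17093
def N24868 : Q := sm gi N17093
def N24869 : Q := sm gc N17094
def N24871 : Q := sm gi N17096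
def N24873 : Q := sm gh N17098
def N24874 : Q := sm gd N17099
def N24879 : Q := sm gi N17101
def N24881 : Q := sm gi N17103
def N24883 : Q := sm gi N17106
def N24886 : Q := sm gc N17109
def N24888 : Q := sm gb N17110
def N24889 : Q := sm ge N17110
def N24891 : Q := sm ga N17112
def N24892 : Q := sm ge N17112
def N24901 : Q := sm ge N17118
def N24902 : Q := sm gd N17119
def N24903 : Q := sm gf N17119
def N24904 : Q := sm gf N17120
def N24905 : Q := sm gh N17120
def N24906 : Q := sm gg N17121
def N24909 : Q := sm gf N17123
def N24913 : Q := sm gg N17125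
def N24915 : Q := sm gg N17126
def N24917 : Q := sm gi N17127
def N24918 : Q := sm gj N17128
def N24923 : Q := sm gf N17132
def N24925 : Q := sm ge N17133
def N24926 : Q := sm gg N17133
def N24927 : Q := sm gh N17133
def N24928 : Q := sm gi N17134
def N24931 : Q := sm gh N17136
def N24934 : Q := sm gi N17138
def N24935 : Q := sm ge N17141
def N24936 : Q := sm gd N17142
def N24939 : Q := sm gh N17143
def N24941 : Q := sm gj N17145
def N24943 : Q := sm gf N17146
def N24944 : Q := sm gc N17147
def N24954 : Q := sm gf N17153
def N24955 : Q := sm gh N17153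
def N24964 : Q := sm gg N17159
def N24966 : Q := sm gj N17160
def N24967 : Q := sm gh N17160
def N24968 : Q := sm gi N17161
def N24971 : Q := sm gh N17164
def N24975 : Q := sm gi N17166
def N24976 : Q := sm gj N17167
def N24979 : Q := sm gh N17168
def N24980 : Q := sm gd N17169
def N24982 : Q := sm gg N17170
def N24983 : Q := sm gh N17170
def N24984 : Q := sm gj N17171
def N24985 : Q := sm gh N17171
def N24986 : Q := sm gi N17172
def N24987 : Q := sm gf N17175
def N24997 : Q := sm ge N17181
def N24998 : Q := sm gg N17181
def N25000 : Q := sm gi N17182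
def N25001 : Q := sm gj N17183
def N25002 : Q := sm ge N17184
def N25007 : Q := sm gg N17186
def N25008 : Q := sm gh N17186
def N25011 : Q := sm gi N17188
def N25012 : Q := sm gf N17191
def N25013 : Q := sm gj N17191
def N25016 : Q := sm gi N17192
def N25017 : Q := sm gh N17193
def N25019 : Q := sm gf N17196
def N25020 : Q := sm gh N17196
def N25021 : Q := sm ge N17197
def N25026 : Q := sm gg N17199
def N25028 : Q := sm gj N17200
def N25030 : Q := sm gi N17201
def N25033 : Q := sm gh N17204
def N25040 : Q := sm gf N17209
def N25042 : Q := sm gh N17209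
def N25044 : Q := sm gi N17210
def N25048 : Q := sm gh N17214
def N25050 : Q := sm gd N17216
def N25053 : Q := sm gi N17217
def N25055 : Q := sm ge N17221
def N25056 : Q := sm gg N17221
def N25057 : Q := sm gh N17221
def N25059 : Q := sm gi N17222
def N25063 : Q := sm gj N17224
def N25064 : Q := sm gh N17224
def N25068 : Q := sm gi N17226
def N25071 : Q := sm gh N17228
def N25074 : Q := sm gh N17230
def N25076 : Q := sm gg N17233
def N25077 : Q := sm gh N17233
def N25079 : Q := sm gj N17234
def N25080 : Q := sm gh N17234
def N25091 : Q := sm gj N17242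
def N25092 : Q := sm gh N17242
def N25093 : Q := sm gh N17243
def N25094 : Q := sm gd N17244
def N25096 : Q := sm gc N17245
def N25099 : Q := sm gg N17249
def N25102 : Q := sm gi N17250
def N25103 : Q := sm gd N17251
def N25104 : Q := sm gi N17251
def N25105 : Q := sm gc N17252
def N25108 : Q := sm gi N17254
def N25110 : Q := sm gd N17257
def N25111 : Q := sm gg N17257
def N25112 : Q := sm gh N17257
def N25114 : Q := sm gh N17258
def N25116 : Q := sm gi N17259
def N25127 : Q := sm gh N17265
def N25129 : Q := sm gi N17266
def N25130 : Q := sm ge N17267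
def N25133 : Q := sm gi N17269
def N25134 : Q := sm gh N17270
def N25137 : Q := sm gh N17272
def N25138 : Q := sm gd N17273
def N25139 : Q := sm gi N17273
def N25140 : Q := sm gc N17274
def N25141 : Q := sm gi N17274
def N25142 : Q := sm gi N17276
def N25144 : Q := sm gj N17278
def N25147 : Q := sm gi N17279
def N25148 : Q := sm gj N17280
def N25150 : Q := sm gh N17281
def N25152 : Q := sm gi N17282
def N25156 : Q := sm gd N17285
def N25157 : Q := sm gi N17285
def N25159 : Q := sm gi N17286
def N25162 : Q := sm gh N17289
def N25165 : Q := sm gh N17291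
def N25166 : Q := sm gg N17293
def N25167 : Q := sm gh N17293
def N25168 : Q := sm gd N17294
def N25169 : Q := sm gi N17294
def N25170 : Q := sm gd N17295
def N25172 : Q := sm gc N17296
def N25173 : Q := sm gi N17296
def N25174 : Q := sm gb N17298
def N25175 : Q := sm gi N17298
def N25177 : Q := sm gh N17301
def N25178 : Q := sm gd N17302
def N25181 : Q := sm ge N17303
def N25185 : Q := sm gb N17307
def N25186 : Q := sm gi N17307
def N25189 : Q := sm gi N17309
def N25192 : Q := sm gf N17312
def N25193 : Q := sm gh N17312
def N25196 : Q := sm gh N17314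
def N25197 : Q := sm ge N17315
def N25200 : Q := sm gi N17316
def N25203 : Q := sm gh N17318
def N25205 : Q := sm gh N17319
def N25206 : Q := sm gi N17320
def N25207 : Q := sm gb N17323
def N25211 : Q := sm gg N17324
def N25212 : Q := sm gh N17324
def N25213 : Q := sm gi N17325
def N25214 : Q := sm gj N17326
def N25215 : Q := sm ge N17327
def N25216 : Q := sm gg N17327
def N25217 : Q := sm gh N17327
def N25218 : Q := sm gd N17328
def N25219 : Q := sm gi N17328
def N25220 : Q := sm gg N17329
def N25221 : Q := sm gh N17329
def N25225 : Q := sm gf N17334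
def N25227 : Q := sm gh N17334
def N25230 : Q := sm gh N17336
def N25231 : Q := sm gi N17337
def N25233 : Q := sm gh N17339
def N25234 : Q := sm ge N17340
def N25238 : Q := sm gi N17341
def N25244 : Q := sm gd N17347
def N25245 : Q := sm gg N17347
def N25246 : Q := sm gh N17347
def N25247 : Q := sm gj N17348
def N25248 : Q := sm gh N17348
def N25249 : Q := sm gd N17349
def N25250 : Q := sm gi N17349
def N25251 : Q := sm ge N17350
def N25252 : Q := sm gi N17350
def N25256 : Q := sm gd N17353
def N25264 : Q := sm gi N17359
def N25266 : Q := sm gi N17360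
def N25267 : Q := sm gi N17362
def N25268 : Q := sm ge N17364
def N25271 : Q := sm gd N17365
def N25277 : Q := sm gh N17367
def N25278 : Q := sm gd N17368
def N25279 : Q := sm gi N17368
def N25281 : Q := sm gi N17369
def N25282 : Q := sm gf N17371
def N25284 : Q := sm gh N17371
def N25285 : Q := sm gd N17372
def N25286 : Q := sm gi N17372
def N25287 : Q := sm gh N17373
def N25289 : Q := sm gg N17376
def N25290 : Q := sm gh N17376
def N25291 : Q := sm gf N17377
def N25293 : Q := sm gh N17377
def N25295 : Q := sm gi N17378
def N25302 : Q := sm gi N17383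
def N25303 : Q := sm gh N17384
def N25306 : Q := sm gh N17386
def N25309 : Q := sm gc N17388
def N25310 : Q := sm gi N17388
def N25311 : Q := sm gi N17390
def N25314 : Q := sm gd N17393
def N25315 : Q := sm gi N17393
def N25316 : Q := sm gd N17394
def N25317 : Q := sm gi N17394
def N25318 : Q := sm gc N17395
def N25319 : Q := sm gi N17395
def N25322 : Q := sm gh N17398
def N25325 : Q := sm gh N17400
def N25326 : Q := sm gj N17401
def N25333 : Q := sm gg N17405
def N25342 : Q := sm gi N17409
def N25343 : Q := sm ge N17410
def N25346 : Q := sm gi N17412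
def N25347 : Q := sm gh N17413
def N25348 : Q := sm gj N17414
def N25349 : Q := sm gh N17414
def N25354 : Q := sm gi N17417
def N25356 : Q := sm gf N17421
def N25357 : Q := sm gj N17421
def N25358 : Q := sm gh N17421
def N25359 : Q := sm gd N17422
def N25360 : Q := sm gi N17422
def N25361 : Q := sm gj N17423
def N25362 : Q := sm gh N17423
def N25365 : Q := sm gi N17425
def N25368 : Q := sm gi N17426
def N25380 : Q := sm gh N17436
def N25381 : Q := sm gd N17437
def N25382 : Q := sm gi N17437
def N25383 : Q := sm gd N17438
def N25384 : Q := sm gi N17438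
def N25385 : Q := sm gc N17439
def N25388 : Q := sm gi N17441
def N25389 : Q := sm gh N17442
def N25391 : Q := sm gd N17445
def N25392 : Q := sm gi N17445
def N25393 : Q := sm gc N17446
def N25394 : Q := sm ge N17446
def N25395 : Q := sm gi N17446
def N25397 : Q := sm gi N17448
def N25400 : Q := sm gh N17451
def N25403 : Q := sm gh N17453
def N25408 : Q := sm gg N17456
def N25409 : Q := sm gh N17456
def N25410 : Q := sm gi N17457
def N25415 : Q := sm gd N17460
def N25417 : Q := sm gg N17461
def N25418 : Q := sm gh N17461
def N25422 : Q := sm gf N17466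
def N25424 : Q := sm gh N17466
def N25425 : Q := sm gd N17467
def N25427 : Q := sm gh N17468
def N25430 : Q := sm gh N17471
def N25439 : Q := sm gh N17475
def N25440 : Q := sm gi N17476
def N25444 : Q := sm gj N17480
def N25445 : Q := sm gh N17480
def N25447 : Q := sm gi N17481
def N25451 : Q := sm gj N17484
def N25452 : Q := sm gh N17484
def N25453 : Q := sm gd N17485
def N25454 : Q := sm gi N17485
def N25463 : Q := sm gi N17492
def N25464 : Q := sm gi N17494
def N25466 : Q := sm gg N17496
def N25467 : Q := sm gh N17496
def N25468 : Q := sm gd N17497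
def N25472 : Q := sm gh N17498
def N25474 : Q := sm gh N17499
def N25476 : Q := sm gi N17500
def N25482 : Q := sm gd N17504
def N25483 : Q := sm gi N17504
def N25484 : Q := sm gh N17505
def N25487 : Q := sm gh N17508
def N25489 : Q := sm gj N17509
def N25490 : Q := sm gh N17509
def N25491 : Q := sm gd N17510
def N25493 : Q := sm gh N17511
def N25495 : Q := sm gi N17512
def N25499 : Q := sm gi N17515
def N25501 : Q := sm gj N17517
def N25502 : Q := sm gh N17517
def N25505 : Q := sm gi N17519
def N25513 : Q := sm gd N17526
def N25514 : Q := sm gi N17526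
def N25516 : Q := sm gi N17527
def N25519 : Q := sm gh N17530
def N25520 : Q := sm gd N17532
def N25521 : Q := sm gg N17532
def N25522 : Q := sm gh N17532
def N25528 : Q := sm ge N17535
def N25530 : Q := sm gg N17537
def N25531 : Q := sm gh N17537
def N25539 : Q := sm gi N17541
def N25541 : Q := sm gi N17542
def N25543 : Q := sm gi N17544
def N25544 : Q := sm gh N17545
def N25545 : Q := sm gj N17546
def N25547 : Q := sm gh N17547
def N25549 : Q := sm gi N17548
def N25551 : Q := sm gi N17549
def N25552 : Q := sm gi N17551
def N25554 : Q := sm gj N17553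
def N25560 : Q := sm gh N17556
def N25562 : Q := sm gi N17557
def N25575 : Q := sm gh N17566
def N25577 : Q := sm gh N17568
def N25580 : Q := sm gd N17570
def N25581 : Q := sm gi N17570
def N25582 : Q := sm gc N17571
def N25583 : Q := sm gi N17571
def N25587 : Q := sm gh N17576
def N25588 : Q := sm gd N17577
def N25592 : Q := sm gi N17578
def N25593 : Q := sm gc N17580
def N25600 : Q := sm gh N17585
def N25601 : Q := sm gc N17587
def N25605 : Q := sm gj N17588
def N25608 : Q := sm gi N17589
def N25620 : Q := sm gf N17597
def N25621 : Q := sm gj N17597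
def N25624 : Q := sm gi N17598
def N25628 : Q := sm gd N17601
def N25630 : Q := sm gc N17602
def N25631 : Q := sm ge N17602
def N25632 : Q := sm gi N17602
def N25637 : Q := sm gf N17607
def N25638 : Q := sm gi N17607
def N25640 : Q := sm gg N17609
def N25641 : Q := sm gi N17609
def N25642 : Q := sm gh N17610
def N25644 : Q := sm gh N17612
def N25646 : Q := sm gi N17613
def N25647 : Q := sm gd N17614
def N25648 : Q := sm gi N17614
def N25653 : Q := sm gh N17618
def N25654 : Q := sm ge N17620
def N25657 : Q := sm gh N17621
def N25658 : Q := sm gd N17622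
def N25659 : Q := sm gi N17622
def N25662 : Q := sm gi N17623
def N25663 : Q := sm gg N17625
def N25664 : Q := sm gh N17625
def N25666 : Q := sm gi N17626
def N25668 : Q := sm gi N17627
def N25669 : Q := sm gc N17628
def N25672 : Q := sm gb N17630
def N25673 : Q := sm ge N17630
def N25677 : Q := sm gh N17632
def N25679 : Q := sm gi N17633
def N25690 : Q := sm gh N17643
def N25691 : Q := sm gd N17644
def N25695 : Q := sm gi N17645
def N25696 : Q := sm gc N17647
def N25697 : Q := sm gi N17647
def N25699 : Q := sm gi N17649
def N25700 : Q := sm gh N17650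
def N25702 : Q := sm gi N17651
def N25703 : Q := sm gh N17652
def N25705 : Q := sm gi N17654
def N25707 : Q := sm ge N17655
def N25713 : Q := sm gh N17659
def N25715 : Q := sm gi N17660
def N25716 : Q := sm gh N17661
def N25719 : Q := sm gh N17663
def N25727 : Q := sm gh N17669
def N25728 : Q := sm gd N17670
def N25731 : Q := sm gh N17671
def N25732 : Q := sm gj N17672
def N25734 : Q := sm gi N17673
def N25735 : Q := sm gd N17676
def N25736 : Q := sm gg N17676
def N25738 : Q := sm gj N17677
def N25739 : Q := sm gh N17677
def N25742 : Q := sm ge N17679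
def N25743 : Q := sm gi N17679
def N25748 : Q := sm gi N17682
def N25749 : Q := sm gh N17683
def N25751 : Q := sm gj N17686
def N25758 : Q := sm gi N17691
def N25759 : Q := sm ge N17693
def N25761 : Q := sm gh N17693
def N25762 : Q := sm gd N17694
def N25763 : Q := sm gi N17694
def N25766 : Q := sm gh N17695
def N25769 : Q := sm gd N17697
def N25777 : Q := sm gi N17701
def N25778 : Q := sm gh N17702
def N25780 : Q := sm gg N17705
def N25782 : Q := sm gf N17706
def N25784 : Q := sm gh N17706
def N25786 : Q := sm gi N17707
def N25787 : Q := sm gh N17708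
def N25794 : Q := sm gh N17713
def N25798 : Q := sm gd N17716
def N25799 : Q := sm gi N17716
def N25801 : Q := sm gi N17717
def N25802 : Q := sm gi N17719
def N25804 : Q := sm gh N17721
def N25806 : Q := sm gi N17722
def N25808 : Q := sm gi N17723
def N25809 : Q := sm gc N17724
def N25813 : Q := sm gh N17727
def N25814 : Q := sm gd N17729
def N25821 : Q := sm gc N17732
def N25822 : Q := sm ge N17732
def N25823 : Q := sm gi N17732
def N25824 : Q := sm gg N17734
def N25827 : Q := sm gj N17735
def N25828 : Q := sm gh N17735
def N25831 : Q := sm gh N17737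
def N25832 : Q := sm gd N17738
def N25835 : Q := sm gi N17739
def N25841 : Q := sm gh N17744
def N25842 : Q := sm gd N17745
def N25843 : Q := sm gi N17745
def N25845 : Q := sm gi N17746
def N25846 : Q := sm gi N17748
def N25847 : Q := sm gf N17750
def N25848 : Q := sm gj N17750
def N25852 : Q := sm gj N17752
def N25853 : Q := sm gh N17752
def N25854 : Q := sm gh N17753
def N25861 : Q := sm gi N17757
def N25866 : Q := sm gh N17761
def N25882 : Q := sm gd N17774
def N25883 : Q := sm gi N17774
def N25885 : Q := sm ge N17775
def N25886 : Q := sm gi N17775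
def N25887 : Q := sm gc N17777
def N25888 : Q := sm gi N17777
def N25889 : Q := sm gb N17779
def N25890 : Q := sm gi N17779
def N25892 : Q := sm ga N17781
def N25893 : Q := sm gi N17781
def N25901 : Q := sm gd N17786
def N25902 : Q := sm gi N17786
def N25903 : Q := sm gh N17787
def N25904 : Q := sm gd N17788
def N25908 : Q := sm gi N17789
def N25912 : Q := sm gi N17792
def N25913 : Q := sm gh N17793
def N25914 : Q := sm gf N17794
def N25916 : Q := sm gh N17794
def N25919 : Q := sm gj N17796
def N25921 : Q := sm gh N17797
def N25922 : Q := sm gd N17798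
def N25923 : Q := sm gi N17798
def N25926 : Q := sm gi N17799
def N25941 : Q := sm gd N17811
def N25943 : Q := sm gc N17812
def N25944 : Q := sm gi N17812
def N25947 : Q := sm gh N17815
def N25949 : Q := sm gj N17817
def N25956 : Q := sm gi N17820
def N25957 : Q := sm gg N17822
def N25959 : Q := sm gd N17823
def N25963 : Q := sm gc N17825
def N25968 : Q := sm gi N17827
def N25969 : Q := sm gf N17828
def N25970 : Q := sm gi N17828
def N25971 : Q := sm gh N17829
def N25973 : Q := sm gi N17830
def N25977 : Q := sm gg N17834
def N25978 : Q := sm gi N17834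
def N25980 : Q := sm gj N17837
def N25981 : Q := sm gi N17837
def N25982 : Q := sm gh N17838
def N25983 : Q := sm gd N17839
def N25985 : Q := sm gd N17841
def N25986 : Q := sm gi N17841
def N25987 : Q := sm gc N17842
def N25989 : Q := sm gi N17842
def N25990 : Q := sm gc N17844
def N25991 : Q := sm gi N17844
def N25994 : Q := sm gh N17847
def N26000 : Q := sm gc N17852
def N26001 : Q := sm ge N17852
def N26008 : Q := sm gb N17857
def N26009 : Q := sm gi N17857
def N26012 : Q := sm gi N17859
def N26015 : Q := sm gh N17863
def N26016 : Q := sm gg N17865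
def N26017 : Q := sm gh N17865
def N26022 : Q := sm gi N17867
def N26023 : Q := sm gj N17868
def N26028 : Q := sm gc N17871
def N26032 : Q := sm gi N17873
def N26048 : Q := sm ge N17884
def N26049 : Q := sm gj N17884
def N26050 : Q := sm gh N17884
def N26053 : Q := sm gi N17886
def N26054 : Q := sm gc N17887
def N26057 : Q := sm gg N17889
def N26059 : Q := sm gd N17890
def N26062 : Q := sm gi N17891
def N26066 : Q := sm gb N17894
def N26080 : Q := sm gj N17904
def N26084 : Q := sm gh N17907
def N26086 : Q := sm gi N17908
def N26087 : Q := sm gc N17909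
def N26088 : Q := sm ge N17909
def N26091 : Q := sm gi N17911
def N26093 : Q := sm gi N17913
def N26095 : Q := sm gi N17915
def N26096 : Q := sm gh N17916
def N26097 : Q := sm gj N17918
def N26099 : Q := sm gg N17919
def N26100 : Q := sm gh N17919
def N26103 : Q := sm gd N17921
def N26106 : Q := sm ge N17922
def N26109 : Q := sm gi N17924
def N26110 : Q := sm gf N17925
def N26111 : Q := sm gi N17925
def N26114 : Q := sm gd N17928
def N26116 : Q := sm gc N17929
def N26117 : Q := sm ge N17929
def N26118 : Q := sm gi N17929
def N26119 : Q := sm gc N17931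
def N26120 : Q := sm ge N17931
def N26121 : Q := sm gi N17931
def N26123 : Q := sm gi N17933
def N26124 : Q := sm gf N17934
def N26125 : Q := sm gi N17934
def N26126 : Q := sm gh N17935
def N26129 : Q := sm gh N17937
def N26130 : Q := sm gg N17938
def N26131 : Q := sm gi N17938
def N26135 : Q := sm gh N17942
def N26140 : Q := sm gi N17946
def N26143 : Q := sm gi N17949
def N26144 : Q := sm gh N17950
def N26150 : Q := sm ge N17954
def N26151 : Q := sm gi N17954
def N26152 : Q := sm ge N17956
def N26153 : Q := sm gi N17956
def N26154 : Q := sm gi N17957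
def N26155 : Q := sm gh N17958
def N26161 : Q := sm gi N17964
def N26162 : Q := sm gi N17966
def N26163 : Q := sm gh N17967
def N26164 : Q := sm gh N17968
def N26166 : Q := sm gg N17971
def N26168 : Q := sm gj N17972
def N26169 : Q := sm gh N17972
def N26171 : Q := sm gi N17973
def N26172 : Q := sm gc N17974
def N26174 : Q := sm gi N17974
def N26175 : Q := sm gg N17976
def N26176 : Q := sm gh N17976
def N26179 : Q := sm gh N17977
def N26183 : Q := sm gd N17980
def N26192 : Q := sm gh N17986
def N26196 : Q := sm gi N17988
def N26197 : Q := sm gi N17990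
def N26198 : Q := sm gf N17992
def N26199 : Q := sm gj N17992
def N26200 : Q := sm gh N17992
def N26201 : Q := sm gd N17993
def N26203 : Q := sm gj N17994
def N26207 : Q := sm gi N17996
def N26210 : Q := sm gi N17997
def N26212 : Q := sm gi N17999
def N26213 : Q := sm ge N18000
def N26214 : Q := sm gi N18000
def N26222 : Q := sm gh N18007
def N26223 : Q := sm gd N18008
def N26225 : Q := sm gd N18009
def N26232 : Q := sm gh N18015
def N26235 : Q := sm gc N18017
def N26236 : Q := sm ge N18017
def N26237 : Q := sm gi N18017
def N26238 : Q := sm gc N18019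
def N26240 : Q := sm gb N18021
def N26245 : Q := sm gh N18024
def N26248 : Q := sm gh N18026
def N26252 : Q := sm gd N18028
def N26254 : Q := sm gh N18029
def N26259 : Q := sm gi N18031
def N26261 : Q := sm gi N18033
def N26264 : Q := sm gh N18035
def N26265 : Q := sm gf N18036
def N26267 : Q := sm gh N18036
def N26269 : Q := sm gi N18037
def N26274 : Q := sm gi N18040
def N26277 : Q := sm gi N18041
def N26285 : Q := sm gg N18048
def N26287 : Q := sm gh N18049
def N26303 : Q := sm gd N18061
def N26306 : Q := sm ge N18062
def N26307 : Q := sm gi N18062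
def N26312 : Q := sm gd N18066
def N26316 : Q := sm gi N18067
def N26321 : Q := sm gi N18070
def N26325 : Q := sm gf N18074
def N26326 : Q := sm gi N18074
def N26327 : Q := sm gh N18075
def N26328 : Q := sm gg N18076
def N26329 : Q := sm gi N18076
def N26334 : Q := sm gd N18081
def N26335 : Q := sm gh N18082
def N26336 : Q := sm gd N18083
def N26337 : Q := sm gi N18083
def N26338 : Q := sm gc N18084
def N26339 : Q := sm ge N18084
def N26349 : Q := sm gd N18093
def N26351 : Q := sm gc N18094
def N26352 : Q := sm ge N18094
def N26353 : Q := sm gi N18094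
def N26356 : Q := sm gi N18096
def N26358 : Q := sm gh N18098
def N26361 : Q := sm gh N18100
def N26363 : Q := sm gi N18101
def N26366 : Q := sm gh N18105
def N26371 : Q := sm gf N18108
def N26376 : Q := sm gh N18110
def N26378 : Q := sm gi N18111
def N26379 : Q := sm gc N18112
def N26380 : Q := sm ge N18112
def N26382 : Q := sm ge N18114
def N26383 : Q := sm gi N18114
def N26389 : Q := sm gh N18117
def N26394 : Q := sm gh N18120
def N26395 : Q := sm gd N18121
def N26397 : Q := sm gc N18122
def N26398 : Q := sm ge N18122
def N26401 : Q := sm gi N18124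
def N26403 : Q := sm gi N18125
def N26404 : Q := sm gf N18127
def N26406 : Q := sm gh N18128
def N26409 : Q := sm gh N18130
def N26414 : Q := sm gd N18134
def N26417 : Q := sm gi N18135
def N26418 : Q := sm gb N18137
def N26419 : Q := sm gi N18137
def N26420 : Q := sm gh N18138
def N26422 : Q := sm gj N18140
def N26423 : Q := sm gh N18140
def N26425 : Q := sm gd N18142
def N26427 : Q := sm gc N18143
def N26428 : Q := sm ge N18143
def N26429 : Q := sm gi N18143
def N26430 : Q := sm gg N18145
def N26433 : Q := sm gi N18146
def N26434 : Q := sm gd N18147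
def N26436 : Q := sm gc N18148
def N26437 : Q := sm ge N18148
def N26438 : Q := sm gi N18148
def N26444 : Q := sm gh N18152
def N26451 : Q := sm gi N18157
def N26452 : Q := sm gh N18158
def N26455 : Q := sm gh N18161
def N26457 : Q := sm gh N18163
def N26458 : Q := sm gd N18164
def N26459 : Q := sm gi N18164
def N26462 : Q := sm gi N18165
def N26464 : Q := sm gi N18167
def N26473 : Q := sm gc N18175
def N26475 : Q := sm gi N18175
def N26476 : Q := sm gb N18177
def N26480 : Q := sm gh N18179
def N26481 : Q := sm gb N18180
def N26482 : Q := sm gi N18180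
def N26483 : Q := sm gh N18181
def N26485 : Q := sm gi N18182
def N26486 : Q := sm gh N18183
def N26490 : Q := sm gg N18188
def N26491 : Q := sm gh N18188
def N26494 : Q := sm gh N18189
def N26496 : Q := sm gi N18190
def N26505 : Q := sm gd N18196
def N26507 : Q := sm gc N18197
def N26509 : Q := sm gi N18197
def N26510 : Q := sm ge N18199
def N26516 : Q := sm gf N18202
def N26517 : Q := sm gi N18202
def N26524 : Q := sm gh N18207
def N26525 : Q := sm gh N18208
def N26526 : Q := sm gd N18209
def N26527 : Q := sm gi N18209
def N26533 : Q := sm gd N18213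
def N26541 : Q := sm ge N18217
def N26542 : Q := sm gi N18217
def N26544 : Q := sm gi N18218
def N26545 : Q := sm gh N18219
def N26547 : Q := sm gi N18220
def N26552 : Q := sm gi N18224
def N26554 : Q := sm gj N18227
def N26555 : Q := sm gi N18227
def N26557 : Q := sm gd N18229
def N26568 : Q := sm ga N18238
def N26576 : Q := sm gi N18243
def N26577 : Q := sm gd N18244
def N26579 : Q := sm gc N18245
def N26580 : Q := sm ge N18245
def N26583 : Q := sm ge N18247
def N26584 : Q := sm gi N18247
def N26585 : Q := sm gf N18248
def N26587 : Q := sm gh N18249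
def N26594 : Q := sm gc N18254
def N26596 : Q := sm gi N18254
def N26597 : Q := sm gb N18256
def N26601 : Q := sm gi N18257
def N26609 : Q := sm gg N18262
def N26610 : Q := sm gi N18262
def N26611 : Q := sm gh N18263
def N26618 : Q := sm gj N18270
def N26619 : Q := sm gi N18270
def N26620 : Q := sm gh N18271
def N26627 : Q := sm gi N18277
def N26628 : Q := sm gc N18278
def N26630 : Q := sm gb N18280
def N26633 : Q := sm gb N18282
def N26636 : Q := sm ga N18284
def N26639 : Q := sm gi N18287
def N26642 : Q := sm gc N18290
def N26643 : Q := sm gi N18290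
def N26644 : Q := sm gb N18292
def N26645 : Q := sm gi N18292
def N26646 : Q := sm gh N18293
def N26648 : Q := sm gi N18294
def N26650 : Q := sm ga N18297
def N26653 : Q := sm gi N18300
def N26656 : Q := sm gh N18303
def N26659 : Q := sm gg N18306
def N26660 : Q := sm gh N18306
def N26661 : Q := sm gf N18307
def N26663 : Q := sm gh N18307
def N26664 : Q := sm gd N18308
def N26667 : Q := sm gh N18309
def N26668 : Q := sm gh N18310
def N26673 : Q := sm gi N18312
def N26680 : Q := sm gi N18317
def N26687 : Q := sm gh N18321
def N26695 : Q := sm gd N18327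
def N26697 : Q := sm gc N18328
def N26698 : Q := sm ge N18328
def N26699 : Q := sm gi N18328
def N26706 : Q := sm gc N18333
def N26708 : Q := sm gi N18333
def N26709 : Q := sm gb N18335
def N26713 : Q := sm gi N18336
def N26714 : Q := sm gh N18337
def N26719 : Q := sm gh N18341
def N26726 : Q := sm gd N18347
def N26727 : Q := sm gh N18348
def N26728 : Q := sm gd N18349
def N26729 : Q := sm gi N18349
def N26730 : Q := sm gc N18350
def N26731 : Q := sm ge N18350
def N26734 : Q := sm gi N18352
def N26735 : Q := sm gb N18354
def N26736 : Q := sm gi N18354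
def N26737 : Q := sm ga N18356
def N26738 : Q := sm gi N18356
def N26739 : Q := sm gj N18358
def N26742 : Q := sm gh N18359
def N26747 : Q := sm gc N18362
def N26748 : Q := sm ge N18362
def N26749 : Q := sm gi N18362
def N26752 : Q := sm gi N18364
def N26753 : Q := sm gf N18365
def N26754 : Q := sm gi N18365
def N26758 : Q := sm gi N18368
def N26759 : Q := sm gc N18369
def N26769 : Q := sm gi N18374
def N26770 : Q := sm gh N18375
def N26776 : Q := sm gh N18378
def N26792 : Q := sm gd N18392
def N26797 : Q := sm ge N18395
def N26799 : Q := sm gb N18397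
def N26800 : Q := sm ge N18397
def N26801 : Q := sm gi N18397
def N26802 : Q := sm gi N18398
def N26803 : Q := sm gb N18400
def N26804 : Q := sm gi N18400
def N26806 : Q := sm gi N18402
def N26807 : Q := sm gi N18404
def N26809 : Q := sm ge N18406
def N26811 : Q := sm gb N18408
def N26813 : Q := sm gi N18408
def N26814 : Q := sm gi N18409
def N26816 : Q := sm ge N18411
def N26817 : Q := sm gi N18411
def N26819 : Q := sm gi N18412
def N26822 : Q := sm gi N18417
def N26823 : Q := sm gf N18420
def N26826 : Q := sm gd N18421
def N26827 : Q := sm gi N18421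
def N26828 : Q := sm ge N18422
def N26829 : Q := sm gj N18422
def N26830 : Q := sm gh N18422
def N26831 : Q := sm gh N18423
def N26832 : Q := sm gd N18424
def N26833 : Q := sm gi N18424
def N26836 : Q := sm gi N18425
def N26837 : Q := sm gg N18427
def N26839 : Q := sm gd N18428
def N26840 : Q := sm gi N18428
def N26841 : Q := sm gd N18429
def N26842 : Q := sm gi N18429
def N26843 : Q := sm gc N18430
def N26846 : Q := sm ge N18432
def N26848 : Q := sm gf N18433
def N26849 : Q := sm gi N18433
def N26850 : Q := sm gh N18434
def N26852 : Q := sm ge N18435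
def N26853 : Q := sm gi N18435
def N26855 : Q := sm gi N18437
def N26857 : Q := sm gi N18438
def N26862 : Q := sm gh N18441
def N26864 : Q := sm gi N18442
def N26865 : Q := sm gh N18443
def N26871 : Q := sm gh N18447
def N26873 : Q := sm gj N18449
def N26875 : Q := sm gh N18450
def N26877 : Q := sm gj N18452
def N26883 : Q := sm gd N18455
def N26885 : Q := sm ge N18456
def N26890 : Q := sm gh N18460
def N26892 : Q := sm gi N18461
def N26893 : Q := sm ge N18462
def N26894 : Q := sm gi N18462
def N26895 : Q := sm ge N18464
def N26897 : Q := sm gf N18466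
def N26898 : Q := sm gi N18466
def N26899 : Q := sm gh N18467
def N26901 : Q := sm gi N18468
def N26902 : Q := sm gh N18469
def N26906 : Q := sm gg N18473
def N26913 : Q := sm gi N18479
def N26914 : Q := sm gh N18480
def N26916 : Q := sm gc N18482
def N26917 : Q := sm gi N18483
def N26918 : Q := sm gg N18485
def N26919 : Q := sm gh N18485
def N26922 : Q := sm gh N18487
def N26923 : Q := sm gd N18488
def N26924 : Q := sm gi N18488
def N26925 : Q := sm ge N18489
def N26928 : Q := sm gi N18491
def N26929 : Q := sm gf N18493
def N26931 : Q := sm gh N18494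
def N26932 : Q := sm gg N18495
def N26934 : Q := sm gh N18496
def N26935 : Q := sm gd N18498
def N26937 : Q := sm ge N18499
def N26938 : Q := sm gi N18499
def N26939 : Q := sm gf N18501
def N26941 : Q := sm gh N18502
def N26944 : Q := sm gh N18504
def N26948 : Q := sm gj N18508
def N26950 : Q := sm gh N18509
def N26951 : Q := sm gd N18510
def N26952 : Q := sm gg N18511
def N26953 : Q := sm gi N18511
def N26954 : Q := sm gh N18512
def N26957 : Q := sm gh N18515
def N26959 : Q := sm gi N18517
def N26960 : Q := sm gh N18518
def N26961 : Q := sm gd N18519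
def N26964 : Q := sm gd N18522
def N26966 : Q := sm ge N18523
def N26968 : Q := sm gf N18526
def N26969 : Q := sm gj N18526
def N26970 : Q := sm gh N18526
def N26972 : Q := sm gi N18527
def N26974 : Q := sm gj N18528
def N26975 : Q := sm gh N18528
def N26976 : Q := sm gh N18529
def N26977 : Q := sm gd N18530
def N26978 : Q := sm gi N18530
def N26985 : Q := sm gd N18535
def N26992 : Q := sm ge N18539
def N26997 : Q := sm gg N18543
def N27001 : Q := sm gj N18546
def N27002 : Q := sm gj N18547
def N27003 : Q := sm gh N18547
def N27005 : Q := sm gh N18548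
def N27006 : Q := sm gd N18549
def N27010 : Q := sm gc N18551
def N27013 : Q := sm gb N18553
def N27014 : Q := sm ge N18553
def N27015 : Q := sm gi N18553
def N27019 : Q := sm gd N18557
def N27020 : Q := sm gc N18558
def N27022 : Q := sm gc N18559
def N27024 : Q := sm gb N18560
def N27025 : Q := sm ge N18560
def N27035 : Q := sm gc N18570
def N27036 : Q := sm ge N18570
def N27037 : Q := sm gb N18571
def N27040 : Q := sm ga N18574
def N27042 : Q := sm gh N18576
def N27045 : Q := sm gh N18578
def N27049 : Q := sm ge N18580
def N27050 : Q := sm gi N18580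
def N27067 : Q := sm gd N18592
def N27069 : Q := sm ge N18593
def N27086 : Q := sm gc N18608
def N27088 : Q := sm gb N18609
def N27089 : Q := sm ge N18609
def N27094 : Q := sm gb N18615
def N27095 : Q := sm ge N18615
def N27097 : Q := sm ga N18617
def N27098 : Q := sm ge N18617
def N27099 : Q := sm gd N18618
def N27104 : Q := sm gj N18623
def N27106 : Q := sm gh N18624
def N27113 : Q := sm gg N18629
def N27114 : Q := sm gh N18629
def N27117 : Q := sm gg N18634
def N27120 : Q := sm gi N18635
def N27122 : Q := sm gi N18637
def N27124 : Q := sm gh N18640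
def N27126 : Q := sm gi N18641
def N27129 : Q := sm gi N18644
def N27130 : Q := sm gg N18646
def N27131 : Q := sm gh N18646
def N27134 : Q := sm gh N18647
def N27140 : Q := sm gd N18651
def N27144 : Q := sm gi N18652
def N27152 : Q := sm gf N18658
def N27153 : Q := sm gi N18658
def N27159 : Q := sm gg N18662
def N27161 : Q := sm gh N18663
def N27162 : Q := sm ge N18665
def N27164 : Q := sm gh N18665
def N27165 : Q := sm gh N18666
def N27166 : Q := sm gd N18667
def N27168 : Q := sm gc N18668
def N27169 : Q := sm ge N18668
def N27173 : Q := sm gi N18671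
def N27174 : Q := sm gd N18672
def N27177 : Q := sm ge N18673
def N27180 : Q := sm ge N18675
def N27181 : Q := sm gi N18675
def N27186 : Q := sm gi N18678
def N27187 : Q := sm gf N18680
def N27188 : Q := sm gi N18680
def N27189 : Q := sm gh N18681
def N27190 : Q := sm gg N18682
def N27195 : Q := sm gh N18686
def N27202 : Q := sm gc N18691
def N27204 : Q := sm gb N18693
def N27205 : Q := sm gi N18693
def N27208 : Q := sm gi N18695
def N27209 : Q := sm gh N18696
def N27217 : Q := sm gc N18702
def N27219 : Q := sm gi N18702
def N27220 : Q := sm gb N18704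
def N27221 : Q := sm ge N18704
def N27222 : Q := sm gi N18704
def N27227 : Q := sm gi N18707
def N27231 : Q := sm gc N18710
def N27233 : Q := sm gi N18710
def N27239 : Q := sm gh N18714
def N27242 : Q := sm gi N18715
def N27243 : Q := sm gf N18716
def N27244 : Q := sm gi N18716
def N27245 : Q := sm gh N18717
def N27250 : Q := sm gi N18721
def N27253 : Q := sm gi N18723
def N27254 : Q := sm gh N18724
def N27260 : Q := sm gh N18730
def N27261 : Q := sm gd N18731
def N27265 : Q := sm gi N18733
def N27267 : Q := sm ge N18735
def N27269 : Q := sm gi N18736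
def N27270 : Q := sm gh N18737
def N27271 : Q := sm gb N18738
def N27272 : Q := sm gi N18738
def N27275 : Q := sm gi N18740
def N27276 : Q := sm gh N18741
def N27277 : Q := sm gi N18743
def N27280 : Q := sm gb N18746
def N27281 : Q := sm ge N18746
def N27282 : Q := sm gi N18746
def N27283 : Q := sm gi N18747
def N27285 : Q := sm ga N18749
def N27286 : Q := sm ge N18749
def N27290 : Q := sm gh N18751
def N27294 : Q := sm gh N18755
def N27301 : Q := sm gj N18763
def N27302 : Q := sm gh N18763
def N27304 : Q := sm gi N18764
def N27310 : Q := sm gi N18767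
def N27313 : Q := sm gc N18770
def N27317 : Q := sm ge N18772
def N27321 : Q := sm gh N18774
def N27324 : Q := sm gi N18775
def N27325 : Q := sm ge N18777
def N27329 : Q := sm gh N18779
def N27330 : Q := sm gd N18780
def N27332 : Q := sm gi N18780
def N27334 : Q := sm gg N18782
def N27335 : Q := sm gi N18782
def N27344 : Q := sm gj N18789
def N27347 : Q := sm gd N18791
def N27349 : Q := sm gi N18792
def N27355 : Q := sm gi N18795
def N27357 : Q := sm gi N18796
def N27359 : Q := sm gc N18798
def N27362 : Q := sm gb N18800
def N27371 : Q := sm gf N18804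
def N27373 : Q := sm gh N18805
def N27376 : Q := sm gh N18807
def N27382 : Q := sm gh N18812
def N27390 : Q := sm gc N18820
def N27394 : Q := sm ga N18823
def N27396 : Q := sm gh N18824
def N27397 : Q := sm gi N18826
def N27400 : Q := sm gc N18829
def N27402 : Q := sm gi N18829
def N27403 : Q := sm gb N18831
def N27404 : Q := sm ge N18831
def N27407 : Q := sm gi N18832
def N27409 : Q := sm ga N18834
def N27410 : Q := sm ge N18834
def N27412 : Q := sm gd N18835
def N27414 : Q := sm gi N18835
def N27416 : Q := sm gg N18837
def N27419 : Q := sm gb N18840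
def N27423 : Q := sm gi N18841
def N27424 : Q := sm gh N18842
def N27428 : Q := sm gf N18844
def N27435 : Q := sm gi N18849
def N27436 : Q := sm gf N18850
def N27437 : Q := sm gi N18850
def N27439 : Q := sm gg N18852
def N27441 : Q := sm gh N18853
def N27445 : Q := sm gh N18856
def N27447 : Q := sm gg N18858
def N27448 : Q := sm gi N18858
def N27450 : Q := sm gj N18861
def N27451 : Q := sm gi N18861
def N27452 : Q := sm gh N18862
def N27453 : Q := sm gd N18863
def N27456 : Q := sm gd N18866
def N27458 : Q := sm gh N18868
def N27459 : Q := sm gd N18869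
def N27460 : Q := sm gc N18870
def N27465 : Q := sm gh N18873
def N27467 : Q := sm gh N18876
def N27473 : Q := sm gh N18882
def N27476 : Q := sm gd N18885
def N27482 : Q := sm ge N18890
def N27484 : Q := sm gf N18891
def N27487 : Q := sm gd N18893
def N27488 : Q := sm gf N18893
def N27493 : Q := sm gh N18896
def N27497 : Q := sm gg N18899
def N27498 : Q := sm gi N18899
def N27516 : Q := sm gi N18912
def N27517 : Q := sm gh N18913
def N27518 : Q := sm gd N18914
def N27523 : Q := sm gj N18919
def N27524 : Q := sm gi N18919
def N27525 : Q := sm gh N18920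
def N27526 : Q := sm gd N18921
def N27528 : Q := sm gh N18923
def N27529 : Q := sm gd N18924
def N27534 : Q := sm ge N18928
def N27536 : Q := sm gj N18930
def N27537 : Q := sm gi N18930
def N27549 : Q := sm gd N18941
def N27555 : Q := sm gf N18946
def N27558 : Q := sm gi N18947
def N27560 : Q := sm gh N18948
def N27561 : Q := sm gd N18949
def N27562 : Q := sm gi N18949
def N27563 : Q := sm gc N18950
def N27564 : Q := sm ge N18950
def N27565 : Q := sm gi N18950
def N27570 : Q := sm gi N18953
def N27572 : Q := sm ge N18955
def N27574 : Q := sm gf N18956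
def N27576 : Q := sm gh N18957
def N27577 : Q := sm ge N18958
def N27579 : Q := sm gf N18959
def N27580 : Q := sm gi N18959
def N27581 : Q := sm gh N18960
def N27582 : Q := sm gd N18961
def N27584 : Q := sm gi N18961
def N27588 : Q := sm gh N18964
def N27589 : Q := sm gf N18966
def N27593 : Q := sm gi N18967
def N27601 : Q := sm gd N18974
def N27602 : Q := sm gi N18974
def N27603 : Q := sm gc N18975
def N27604 : Q := sm ge N18975
def N27605 : Q := sm gi N18975
def N27606 : Q := sm gb N18977
def N27610 : Q := sm gi N18978
def N27611 : Q := sm gh N18979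
def N27614 : Q := sm gi N18980
def N27615 : Q := sm gb N18982
def N27618 : Q := sm gf N18983
def N27619 : Q := sm gi N18983
def N27620 : Q := sm gh N18984
def N27621 : Q := sm ga N18985
def N27622 : Q := sm ge N18985
def N27626 : Q := sm gh N18987
def N27628 : Q := sm gi N18988
def N27629 : Q := sm gh N18989
def N27631 : Q := sm gi N18991
def N27632 : Q := sm gh N18992
def N27633 : Q := sm gj N18994
def N27636 : Q := sm gd N18996
def N27637 : Q := sm gi N18997
def N27639 : Q := sm gd N18999
def N27641 : Q := sm gb N19001
def N27647 : Q := sm gi N19004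
def N27649 : Q := sm gi N19007
def N27650 : Q := sm gh N19008
def N27651 : Q := sm gd N19009
def N27652 : Q := sm gd N19010
def N27654 : Q := sm gc N19011
def N27655 : Q := sm ge N19011
def N27658 : Q := sm ge N19013
def N27659 : Q := sm gi N19013
def N27661 : Q := sm gi N19014
def N27664 : Q := sm ge N19016
def N27666 : Q := sm gd N19017
def N27667 : Q := sm gf N19017
def N27671 : Q := sm gi N19019
def N27672 : Q := sm gh N19020
def N27675 : Q := sm gi N19022
def N27676 : Q := sm gf N19023
def N27677 : Q := sm gi N19023
def N27682 : Q := sm gf N19026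
def N27684 : Q := sm gh N19027
def N27685 : Q := sm gg N19028
def N27686 : Q := sm gi N19028
def N27687 : Q := sm gh N19029
def N27688 : Q := sm ge N19031
def N27692 : Q := sm gh N19033
def N27693 : Q := sm gg N19034
def N27697 : Q := sm gj N19037
def N27698 : Q := sm gi N19037
def N27699 : Q := sm gh N19038
def N27700 : Q := sm gd N19039
def N27702 : Q := sm gi N19040
def N27706 : Q := sm gh N19044
def N27708 : Q := sm gc N19046
def N27710 : Q := sm gd N19048
def N27711 : Q := sm gc N19049
def N27712 : Q := sm ge N19049
def N27714 : Q := sm ga N19051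
def N27715 : Q := sm ge N19051
def N27721 : Q := sm gi N19056
def N27724 : Q := sm gh N19059
def N27728 : Q := sm gi N19062
def N27730 : Q := sm gi N19063
def N27735 : Q := sm gd N19067
def N27737 : Q := sm gh N19069
def N27738 : Q := sm gd N19070
def N27756 : Q := sm gd N19081
def N27757 : Q := sm gf N19081
def N27758 : Q := sm gi N19081
def N27759 : Q := sm gh N19082
def N27762 : Q := sm gh N19084
def N27768 : Q := sm gh N19088
def N27772 : Q := sm gh N19091
def N27773 : Q := sm gd N19092
def N27777 : Q := sm gi N19093
def N27781 : Q := sm gi N19096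
def N27782 : Q := sm gh N19097
def N27786 : Q := sm gh N19101
def N27791 : Q := sm gi N19104
def N27797 : Q := sm gi N19107
def N27798 : Q := sm gh N19108
def N27801 : Q := sm gf N19111
def N27802 : Q := sm gi N19111
def N27803 : Q := sm gh N19112
def N27804 : Q := sm gg N19113
def N27807 : Q := sm gd N19115
def N27810 : Q := sm gh N19117
def N27811 : Q := sm gd N19118
def N27812 : Q := sm gi N19119
def N27815 : Q := sm gc N19122
def N27827 : Q := sm gf N19131
def N27829 : Q := sm gh N19132
def N27834 : Q := sm gh N19135
def N27837 : Q := sm gi N19137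
def N27839 : Q := sm gd N19139
def N27841 : Q := sm gi N19140
def N27844 : Q := sm gi N19142
def N27853 : Q := sm gh N19150
def N27854 : Q := sm gd N19151
def N27857 : Q := sm gd N19154
def N27860 : Q := sm gb N19156
def N27861 : Q := sm gd N19157
def N27862 : Q := sm gc N19158
def N27865 : Q := sm ge N19159
def N27886 : Q := sm gi N19175
def N27892 : Q := sm gh N19180
def N27893 : Q := sm gd N19181
def N27895 : Q := sm ge N19182
def N27913 : Q := sm gd N19196
def N27914 : Q := sm gi N19196
def N27917 : Q := sm gi N19197
def N27919 : Q := sm gd N19200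
def N27921 : Q := sm gc N19201
def N27923 : Q := sm gi N19201
def N27924 : Q := sm gb N19203
def N27925 : Q := sm ge N19203
def N27927 : Q := sm gf N19204
def N27928 : Q := sm gi N19204
def N27931 : Q := sm ge N19206
def N27932 : Q := sm gi N19206
def N27933 : Q := sm gb N19208
def N27934 : Q := sm ge N19208
def N27938 : Q := sm gh N19210
def N27941 : Q := sm gi N19211
def N27945 : Q := sm gh N19213
def N27948 : Q := sm gh N19215
def N27949 : Q := sm gd N19217
def N27954 : Q := sm gi N19219
def N27955 : Q := sm gh N19220
def N27956 : Q := sm gf N19222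
def N27959 : Q := sm gg N19223
def N27961 : Q := sm gh N19224
def N27964 : Q := sm gi N19226
def N27966 : Q := sm gd N19228
def N27967 : Q := sm ge N19229
def N27968 : Q := sm gg N19229
def N27973 : Q := sm gj N19232
def N27975 : Q := sm gh N19233
def N27979 : Q := sm gh N19237
def N27980 : Q := sm gd N19238
def N27983 : Q := sm gi N19240
def N27984 : Q := sm gc N19241
def N27985 : Q := sm ge N19241
def N27988 : Q := sm ge N19243
def N27989 : Q := sm gi N19243
def N27990 : Q := sm gf N19244
def N27991 : Q := sm gi N19244
def N27995 : Q := sm gi N19246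
def N28000 : Q := sm gg N19249
def N28001 : Q := sm gi N19249
def N28003 : Q := sm gb N19252
def N28004 : Q := sm ge N19252
def N28010 : Q := sm ge N19255
def N28012 : Q := sm gf N19256
def N28014 : Q := sm gh N19257
def N28017 : Q := sm gh N19259
def N28026 : Q := sm gd N19266
def N28028 : Q := sm gi N19267
def N28029 : Q := sm gh N19268
def N28033 : Q := sm gh N19271
def N28034 : Q := sm gd N19272
def N28038 : Q := sm gc N19276
def N28039 : Q := sm gh N19277
def N28041 : Q := sm gc N19279
def N28044 : Q := sm ga N19281
def N28047 : Q := sm gd N19282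
def N28049 : Q := sm gh N19283
def N28053 : Q := sm gd N19288
def N28054 : Q := sm gh N19289
def N28056 : Q := sm ge N19291
def N28058 : Q := sm ge N19292
def N28063 : Q := sm gf N19295
def N28064 : Q := sm gi N19295
def N28066 : Q := sm ga N19297
def N28068 : Q := sm gi N19297
def N28070 : Q := sm gf N19298
def N28071 : Q := sm gi N19298
def N28077 : Q := sm gi N19303
def N28080 : Q := sm gi N19304
def N28081 : Q := sm gh N19305
def N28082 : Q := sm gf N19306
def N28083 : Q := sm gi N19306
def N28085 : Q := sm gi N19307
def N28086 : Q := sm gh N19308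
def N28087 : Q := sm gd N19309
def N28088 : Q := sm gj N19310
def N28089 : Q := sm gi N19310
def N28093 : Q := sm ge N19313
def N28097 : Q := sm gi N19314
def N28101 : Q := sm gh N19317
def N28102 : Q := sm ge N19319
def N28103 : Q := sm gi N19319
def N28104 : Q := sm gf N19320
def N28106 : Q := sm gh N19321
def N28107 : Q := sm gg N19322
def N28109 : Q := sm gh N19323
def N28115 : Q := sm gf N19328
def N28116 : Q := sm gi N19328
def N28118 : Q := sm gg N19330
def N28123 : Q := sm gi N19333
def N28124 : Q := sm gh N19334
def N28125 : Q := sm gd N19335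
def N28127 : Q := sm gi N19337
def N28128 : Q := sm gh N19338
def N28129 : Q := sm gd N19339
def N28132 : Q := sm gh N19342
def N28135 : Q := sm gh N19345
def N28136 : Q := sm gd N19346
def N28137 : Q := sm gc N19347
def N28138 : Q := sm ge N19347
def N28139 : Q := sm gb N19348
def N28140 : Q := sm gd N19349
def N28147 : Q := sm gi N19354
def N28148 : Q := sm gd N19355
def N28150 : Q := sm gh N19356
def N28151 : Q := sm gh N19357
def N28153 : Q := sm gh N19358
def N28155 : Q := sm gd N19360
def N28157 : Q := sm gd N19362
def N28158 : Q := sm ge N19363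
def N28163 : Q := sm gd N19367
def N28164 : Q := sm gi N19367
def N28166 : Q := sm gc N19369
def N28167 : Q := sm gh N19369
def N28168 : Q := sm gi N19369
def N28171 : Q := sm gi N19372
def N28172 : Q := sm gh N19373
def N28173 : Q := sm gd N19374
def N28175 : Q := sm gc N19376
def N28187 : Q := sm gi N19384
def N28189 : Q := sm gi N19385
def N28190 : Q := sm gh N19386
def N28194 : Q := sm gd N19388
def N28195 : Q := sm gf N19388
def N28207 : Q := sm gf N19396
def N28210 : Q := sm gg N19397
def N28216 : Q := sm gh N19401
def N28218 : Q := sm ge N19403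
def N28221 : Q := sm gi N19403
def N28222 : Q := sm gi N19404
def N28223 : Q := sm gh N19405
def N28231 : Q := sm gd N19412
def N28237 : Q := sm gh N19415
def N28243 : Q := sm gi N19420
def N28250 : Q := sm gd N19426
def N28259 : Q := sm gh N19431
def N28262 : Q := sm gg N19433
def N28263 : Q := sm gi N19433
def N28268 : Q := sm gh N19437
def N28276 : Q := sm gd N19443
def N28277 : Q := sm gj N19444
def N28281 : Q := sm ge N19447
def N28282 : Q := sm gi N19448
def N28286 : Q := sm gh N19452
def N28297 : Q := sm gd N19461
def N28299 : Q := sm ge N19462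
def N28304 : Q := sm gh N19465
def N28308 : Q := sm gg N19467
def N28309 : Q := sm gi N19467
def N28311 : Q := sm gd N19469
def N28314 : Q := sm gi N19470
def N28315 : Q := sm gh N19471
def N28316 : Q := sm gj N19472
def N28319 : Q := sm gd N19474
def N28320 : Q := sm ge N19475
def N28321 : Q := sm gi N19476
def N28322 : Q := sm gh N19477
def N28329 : Q := sm gj N19483
def N28330 : Q := sm gi N19483
def N28331 : Q := sm gh N19484
def N28334 : Q := sm ge N19486
def N28338 : Q := sm gc N19490
def N28339 : Q := sm ge N19490
def N28340 : Q := sm gf N19491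
def N28343 : Q := sm gc N19494
def N28344 : Q := sm ge N19494
def N28345 : Q := sm gb N19495
def N28346 : Q := sm gd N19496
def N28350 : Q := sm ge N19498
def N28351 : Q := sm ga N19500
def N28380 : Q := sm gi N19519
def N28388 : Q := sm gh N19526
def N28396 : Q := sm gd N19532
def N28398 : Q := sm ge N19533
def N28427 : Q := sm gf N19555
def N28431 : Q := sm gj N19558
def N28436 : Q := sm gh N19560
def N28437 : Q := sm gg N19561
def N28449 : Q := sm ge N19569
def N28451 : Q := sm gh N19569
def N28452 : Q := sm gi N19570
def N28455 : Q := sm gh N19572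
def N28459 : Q := sm gd N19577
def N28460 : Q := sm gf N19577
def N28462 : Q := sm gf N19578
def N28471 : Q := sm gf N19584
def N28473 : Q := sm gg N19585
def N28474 : Q := sm gf N19586
def N28476 : Q := sm ge N19587
def N28479 : Q := sm gi N19588
def N28483 : Q := sm gj N19591
def N28489 : Q := sm ge N19596
def N28491 : Q := sm gh N19596
def N28493 : Q := sm gj N19598
def N28498 : Q := sm gi N19600
def N28500 : Q := sm gh N19601
def N28502 : Q := sm gh N19602
def N28504 : Q := sm gf N19606
def N28505 : Q := sm gj N19606
def N28506 : Q := sm gh N19606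
def N28507 : Q := sm gd N19607
def N28513 : Q := sm gh N19611
def N28515 : Q := sm gg N19612
def N28516 : Q := sm gh N19612
def N28517 : Q := sm gi N19613
def N28520 : Q := sm gg N19615
def N28521 : Q := sm gh N19615
def N28522 : Q := sm gd N19616
def N28523 : Q := sm gi N19616
def N28525 : Q := sm gh N19617
def N28526 : Q := sm gj N19618
def N28527 : Q := sm gh N19618
def N28528 : Q := sm gi N19619
def N28530 : Q := sm gj N19622
def N28531 : Q := sm gh N19622
def N28532 : Q := sm gd N19623
def N28533 : Q := sm gi N19623
def N28534 : Q := sm gh N19624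
def N28535 : Q := sm gi N19625
def N28536 : Q := sm gf N19627
def N28537 : Q := sm gh N19627
def N28539 : Q := sm gg N19628
def N28540 : Q := sm gh N19628
def N28541 : Q := sm gd N19629
def N28542 : Q := sm gi N19629
def N28544 : Q := sm gh N19630
def N28545 : Q := sm gj N19631
def N28546 : Q := sm gh N19631
def N28547 : Q := sm gi N19632
def N28549 : Q := sm gg N19635
def N28550 : Q := sm gh N19635
def N28551 : Q := sm gj N19636
def N28552 : Q := sm gh N19636
def N28553 : Q := sm gd N19637
def N28554 : Q := sm gi N19637
def N28555 : Q := sm ge N19638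
def N28556 : Q := sm gi N19638
def N28558 : Q := sm gj N19640
def N28559 : Q := sm gh N19640
def N28560 : Q := sm gd N19641
def N28561 : Q := sm gi N19641
def N28562 : Q := sm gh N19642
def N28563 : Q := sm gi N19643
def N28565 : Q := sm gh N19645
def N28566 : Q := sm gh N19646
def N28567 : Q := sm gd N19647
def N28568 : Q := sm gi N19647
def N28569 : Q := sm gc N19648
def N28570 : Q := sm gi N19648
def N28571 : Q := sm gi N19650
def N28574 : Q := sm gh N19652
def N28575 : Q := sm gd N19653
def N28576 : Q := sm gi N19653
def N28578 : Q := sm gg N19654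
def N28579 : Q := sm gh N19654
def N28580 : Q := sm gj N19655
def N28581 : Q := sm gh N19655
def N28582 : Q := sm gd N19656
def N28583 : Q := sm gi N19656
def N28584 : Q := sm ge N19657
def N28585 : Q := sm gi N19657
def N28586 : Q := sm gf N19659
def N28587 : Q := sm gj N19659
def N28588 : Q := sm gh N19659
def N28589 : Q := sm gd N19660
def N28590 : Q := sm gi N19660
def N28591 : Q := sm gh N19661
def N28592 : Q := sm gi N19662
def N28595 : Q := sm gf N19665
def N28597 : Q := sm gh N19665
def N28598 : Q := sm gd N19666
def N28599 : Q := sm gi N19666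
def N28600 : Q := sm gh N19667
def N28601 : Q := sm gd N19668
def N28602 : Q := sm gi N19668
def N28603 : Q := sm ge N19669
def N28604 : Q := sm gi N19669
def N28605 : Q := sm gf N19671
def N28606 : Q := sm gi N19671
def N28607 : Q := sm gh N19672
def N28608 : Q := sm gj N19673
def N28609 : Q := sm gh N19673
def N28610 : Q := sm gh N19674
def N28611 : Q := sm gd N19675
def N28612 : Q := sm gi N19675
def N28613 : Q := sm gc N19676
def N28614 : Q := sm gi N19676
def N28615 : Q := sm gi N19678
def N28617 : Q := sm gh N19680
def N28618 : Q := sm gd N19681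
def N28619 : Q := sm gi N19681
def N28620 : Q := sm gd N19682
def N28621 : Q := sm gi N19682
def N28622 : Q := sm gc N19683
def N28623 : Q := sm gi N19683
def N28624 : Q := sm gb N19685
def N28625 : Q := sm gi N19685
def N28626 : Q := sm gh N19686
def N28627 : Q := sm gd N19688
def N28628 : Q := sm gf N19688
def N28629 : Q := sm gc N19689
def N28630 : Q := sm gf N19689
def N28631 : Q := sm gh N19689
def N28632 : Q := sm gg N19690
def N28633 : Q := sm ge N19691
def N28634 : Q := sm gg N19691
def N28635 : Q := sm gh N19691
def N28636 : Q := sm gi N19692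
def N28638 : Q := sm gc N19695
def N28639 : Q := sm gf N19695
def N28641 : Q := sm gg N19696
def N28642 : Q := sm gf N19697
def N28643 : Q := sm gh N19697
def N28644 : Q := sm ge N19698
def N28645 : Q := sm gg N19698
def N28646 : Q := sm gh N19698
def N28649 : Q := sm gg N19701
def N28654 : Q := sm gc N19706
def N28655 : Q := sm gf N19706
def N28656 : Q := sm gh N19706
def N28657 : Q := sm gg N19707
def N28658 : Q := sm gf N19708
def N28659 : Q := sm gh N19708
def N28660 : Q := sm ge N19709
def N28661 : Q := sm gg N19709
def N28662 : Q := sm gh N19709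
def N28663 : Q := sm gi N19710
def N28664 : Q := sm gj N19711
def N28665 : Q := sm gg N19712
def N28666 : Q := sm gh N19712
def N28667 : Q := sm gj N19713
def N28668 : Q := sm gh N19713
def N28669 : Q := sm gi N19714
def N28670 : Q := sm gb N19717
def N28671 : Q := sm gf N19717
def N28672 : Q := sm gh N19717
def N28673 : Q := sm ge N19718
def N28674 : Q := sm gg N19718
def N28675 : Q := sm gh N19718
def N28676 : Q := sm gi N19719
def N28677 : Q := sm gj N19720
def N28678 : Q := sm ge N19721
def N28679 : Q := sm gg N19721
def N28681 : Q := sm gd N19722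
def N28683 : Q := sm gg N19723
def N28684 : Q := sm gh N19723
def N28685 : Q := sm gj N19724
def N28686 : Q := sm gh N19724
def N28687 : Q := sm gi N19725
def N28688 : Q := sm gf N19728
def N28689 : Q := sm gj N19728
def N28690 : Q := sm gh N19728
def N28692 : Q := sm gi N19729
def N28695 : Q := sm gb N19733
def N28696 : Q := sm gf N19733
def N28698 : Q := sm ge N19734
def N28699 : Q := sm gg N19734
def N28700 : Q := sm gh N19734
def N28701 : Q := sm gi N19735
def N28702 : Q := sm gj N19736
def N28703 : Q := sm ge N19737
def N28704 : Q := sm gg N19737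
def N28705 : Q := sm gh N19737
def N28707 : Q := sm gi N19738
def N28708 : Q := sm gg N19739
def N28709 : Q := sm gh N19739
def N28710 : Q := sm gj N19740
def N28711 : Q := sm gh N19740
def N28712 : Q := sm gi N19741
def N28713 : Q := sm gf N19744
def N28714 : Q := sm gj N19744
def N28715 : Q := sm gh N19744
def N28716 : Q := sm gd N19745
def N28717 : Q := sm gi N19745
def N28718 : Q := sm gh N19746
def N28719 : Q := sm gi N19747
def N28722 : Q := sm ge N19750
def N28723 : Q := sm gg N19750
def N28724 : Q := sm gh N19750
def N28727 : Q := sm gg N19752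
def N28728 : Q := sm gh N19752
def N28730 : Q := sm gh N19753
def N28732 : Q := sm gd N19757
def N28733 : Q := sm gg N19757
def N28734 : Q := sm gh N19757
def N28735 : Q := sm gj N19758
def N28736 : Q := sm gh N19758
def N28738 : Q := sm gi N19759
def N28739 : Q := sm ge N19760
def N28740 : Q := sm gi N19760
def N28741 : Q := sm gf N19762
def N28742 : Q := sm gj N19762
def N28743 : Q := sm gh N19762
def N28744 : Q := sm gd N19763
def N28746 : Q := sm gh N19764
def N28747 : Q := sm gi N19765
def N28748 : Q := sm gj N19767
def N28749 : Q := sm gh N19767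
def N28750 : Q := sm gh N19768
def N28751 : Q := sm gd N19769
def N28752 : Q := sm gi N19769
def N28753 : Q := sm gc N19770
def N28755 : Q := sm gi N19772
def N28756 : Q := sm gb N19774
def N28757 : Q := sm gf N19774
def N28758 : Q := sm gh N19774
def N28759 : Q := sm ge N19775
def N28760 : Q := sm gg N19775
def N28761 : Q := sm gh N19775
def N28762 : Q := sm gi N19776
def N28763 : Q := sm gj N19777
def N28764 : Q := sm ge N19778
def N28765 : Q := sm gg N19778
def N28766 : Q := sm gh N19778
def N28767 : Q := sm gd N19779
def N28768 : Q := sm gi N19779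
def N28769 : Q := sm gg N19780
def N28770 : Q := sm gh N19780
def N28771 : Q := sm gj N19781
def N28772 : Q := sm gh N19781
def N28773 : Q := sm gi N19782
def N28774 : Q := sm gf N19785
def N28775 : Q := sm gj N19785
def N28776 : Q := sm gh N19785
def N28777 : Q := sm gd N19786
def N28778 : Q := sm gi N19786
def N28779 : Q := sm gh N19787
def N28780 : Q := sm gi N19788
def N28781 : Q := sm gf N19790
def N28782 : Q := sm gh N19790
def N28783 : Q := sm ge N19791
def N28784 : Q := sm gg N19791
def N28785 : Q := sm gh N19791
def N28786 : Q := sm gd N19792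
def N28787 : Q := sm gi N19792
def N28788 : Q := sm gg N19793
def N28789 : Q := sm gh N19793
def N28790 : Q := sm gj N19794
def N28791 : Q := sm gh N19794
def N28792 : Q := sm gi N19795
def N28793 : Q := sm gd N19798
def N28794 : Q := sm gg N19798
def N28795 : Q := sm gh N19798
def N28796 : Q := sm gj N19799
def N28797 : Q := sm gh N19799
def N28798 : Q := sm gd N19800
def N28799 : Q := sm gi N19800
def N28800 : Q := sm ge N19801
def N28801 : Q := sm gi N19801
def N28802 : Q := sm gf N19803
def N28803 : Q := sm gj N19803
def N28804 : Q := sm gh N19803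
def N28805 : Q := sm gd N19804
def N28806 : Q := sm gi N19804
def N28807 : Q := sm gh N19805
def N28808 : Q := sm gi N19806
def N28809 : Q := sm gj N19808
def N28810 : Q := sm gh N19808
def N28811 : Q := sm gh N19809
def N28812 : Q := sm gd N19810
def N28813 : Q := sm gi N19810
def N28814 : Q := sm gc N19811
def N28815 : Q := sm gi N19811
def N28816 : Q := sm gi N19813
def N28817 : Q := sm gf N19815
def N28818 : Q := sm gh N19815
def N28819 : Q := sm ge N19816
def N28820 : Q := sm gg N19816
def N28821 : Q := sm gh N19816
def N28822 : Q := sm gd N19817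
def N28823 : Q := sm gi N19817
def N28824 : Q := sm gg N19818
def N28825 : Q := sm gh N19818
def N28827 : Q := sm gh N19819
def N28828 : Q := sm gi N19820
def N28829 : Q := sm gd N19823
def N28830 : Q := sm gg N19823
def N28831 : Q := sm gh N19823
def N28832 : Q := sm gj N19824
def N28833 : Q := sm gh N19824
def N28834 : Q := sm gd N19825
def N28835 : Q := sm gi N19825
def N28836 : Q := sm ge N19826
def N28837 : Q := sm gi N19826
def N28838 : Q := sm gf N19828
def N28839 : Q := sm gj N19828
def N28840 : Q := sm gh N19828
def N28841 : Q := sm gd N19829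
def N28842 : Q := sm gi N19829
def N28843 : Q := sm gh N19830
def N28844 : Q := sm gi N19831
def N28845 : Q := sm gj N19833
def N28846 : Q := sm gh N19833
def N28847 : Q := sm gh N19834
def N28848 : Q := sm gd N19835
def N28849 : Q := sm gi N19835
def N28850 : Q := sm gc N19836
def N28851 : Q := sm gi N19836
def N28852 : Q := sm gi N19838
def N28853 : Q := sm ge N19840
def N28854 : Q := sm gg N19840
def N28855 : Q := sm gh N19840
def N28856 : Q := sm gd N19841
def N28857 : Q := sm gi N19841
def N28858 : Q := sm gd N19842
def N28859 : Q := sm gg N19842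
def N28860 : Q := sm gh N19842
def N28861 : Q := sm gj N19843
def N28862 : Q := sm gh N19843
def N28863 : Q := sm gd N19844
def N28864 : Q := sm gi N19844
def N28865 : Q := sm ge N19845
def N28866 : Q := sm gi N19845
def N28867 : Q := sm gf N19847
def N28868 : Q := sm gj N19847
def N28869 : Q := sm gh N19847
def N28870 : Q := sm gd N19848
def N28871 : Q := sm gi N19848
def N28872 : Q := sm gh N19849
def N28873 : Q := sm gi N19850
def N28874 : Q := sm gg N19852
def N28875 : Q := sm gh N19852
def N28876 : Q := sm gf N19853
def N28877 : Q := sm gj N19853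
def N28878 : Q := sm gh N19853
def N28879 : Q := sm gd N19854
def N28880 : Q := sm gi N19854
def N28881 : Q := sm gh N19855
def N28882 : Q := sm gd N19856
def N28883 : Q := sm gi N19856
def N28884 : Q := sm ge N19857
def N28885 : Q := sm gi N19857
def N28886 : Q := sm gf N19859
def N28887 : Q := sm gi N19859
def N28888 : Q := sm gh N19860
def N28889 : Q := sm gj N19861
def N28890 : Q := sm gh N19861
def N28891 : Q := sm gh N19862
def N28892 : Q := sm gd N19863
def N28893 : Q := sm gi N19863
def N28894 : Q := sm gc N19864
def N28895 : Q := sm gi N19864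
def N28896 : Q := sm gi N19866
def N28897 : Q := sm gg N19868
def N28898 : Q := sm gh N19868
def N28899 : Q := sm gd N19869
def N28900 : Q := sm gi N19869
def N28901 : Q := sm gd N19870
def N28902 : Q := sm gi N19870
def N28903 : Q := sm gc N19871
def N28904 : Q := sm gi N19871
def N28905 : Q := sm gb N19873
def N28906 : Q := sm gi N19873
def N28907 : Q := sm gh N19874
def N28908 : Q := sm ge N19876
def N28909 : Q := sm gg N19876
def N28910 : Q := sm gh N19876
def N28911 : Q := sm gd N19877
def N28912 : Q := sm gi N19877
def N28913 : Q := sm gd N19878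
def N28914 : Q := sm gg N19878
def N28915 : Q := sm gh N19878
def N28916 : Q := sm gj N19879
def N28917 : Q := sm gh N19879
def N28918 : Q := sm gd N19880
def N28920 : Q := sm ge N19881
def N28921 : Q := sm gi N19881
def N28922 : Q := sm gf N19883
def N28924 : Q := sm gh N19883
def N28925 : Q := sm gd N19884
def N28926 : Q := sm gi N19884
def N28927 : Q := sm gh N19885
def N28928 : Q := sm gi N19886
def N28929 : Q := sm gg N19888
def N28930 : Q := sm gh N19888
def N28931 : Q := sm gf N19889
def N28932 : Q := sm gj N19889
def N28933 : Q := sm gh N19889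
def N28934 : Q := sm gd N19890
def N28935 : Q := sm gi N19890
def N28936 : Q := sm gh N19891
def N28937 : Q := sm gd N19892
def N28938 : Q := sm gi N19892
def N28939 : Q := sm ge N19893
def N28940 : Q := sm gi N19893
def N28941 : Q := sm gf N19895
def N28942 : Q := sm gi N19895
def N28943 : Q := sm gh N19896
def N28944 : Q := sm gj N19897
def N28945 : Q := sm gh N19897
def N28946 : Q := sm gh N19898
def N28947 : Q := sm gd N19899
def N28948 : Q := sm gi N19899
def N28949 : Q := sm gc N19900
def N28950 : Q := sm gi N19900
def N28951 : Q := sm gi N19902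
def N28952 : Q := sm gg N19904
def N28953 : Q := sm gh N19904
def N28954 : Q := sm gd N19905
def N28955 : Q := sm gi N19905
def N28956 : Q := sm gd N19906
def N28957 : Q := sm gi N19906
def N28958 : Q := sm gc N19907
def N28959 : Q := sm gi N19907
def N28960 : Q := sm gb N19909
def N28961 : Q := sm gi N19909
def N28962 : Q := sm gh N19910
def N28963 : Q := sm gd N19912
def N28964 : Q := sm gg N19912
def N28965 : Q := sm gh N19912
def N28966 : Q := sm gj N19913
def N28967 : Q := sm gh N19913
def N28968 : Q := sm gd N19914
def N28969 : Q := sm gi N19914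
def N28970 : Q := sm gc N19915
def N28971 : Q := sm ge N19915
def N28972 : Q := sm gi N19915
def N28973 : Q := sm gg N19917
def N28974 : Q := sm gh N19917
def N28975 : Q := sm gf N19918
def N28976 : Q := sm gj N19918
def N28977 : Q := sm gh N19918
def N28978 : Q := sm gd N19919
def N28979 : Q := sm gi N19919
def N28980 : Q := sm gh N19920
def N28981 : Q := sm gd N19921
def N28982 : Q := sm gi N19921
def N28983 : Q := sm ge N19922
def N28984 : Q := sm gi N19922
def N28985 : Q := sm gf N19924
def N28986 : Q := sm gi N19924
def N28987 : Q := sm gh N19925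
def N28988 : Q := sm gj N19926
def N28989 : Q := sm gh N19926
def N28990 : Q := sm gh N19927
def N28991 : Q := sm gd N19928
def N28992 : Q := sm gi N19928
def N28993 : Q := sm gc N19929
def N28994 : Q := sm gi N19929
def N28995 : Q := sm gi N19931
def N28996 : Q := sm gf N19933
def N28997 : Q := sm gj N19933
def N28998 : Q := sm gh N19933
def N28999 : Q := sm gd N19934
def N29000 : Q := sm gi N19934
def N29001 : Q := sm gj N19935
def N29002 : Q := sm gh N19935
def N29003 : Q := sm gh N19936
def N29004 : Q := sm gd N19937
def N29005 : Q := sm gi N19937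
def N29006 : Q := sm gc N19938
def N29007 : Q := sm ge N19938
def N29008 : Q := sm gi N19938
def N29009 : Q := sm gd N19940
def N29010 : Q := sm gi N19940
def N29011 : Q := sm ge N19941
def N29012 : Q := sm gi N19941
def N29013 : Q := sm gf N19943
def N29014 : Q := sm gi N19943
def N29015 : Q := sm gh N19944
def N29016 : Q := sm gg N19945
def N29017 : Q := sm gi N19945
def N29018 : Q := sm gh N19946
def N29019 : Q := sm gg N19948
def N29020 : Q := sm gh N19948
def N29021 : Q := sm gd N19949
def N29022 : Q := sm gi N19949
def N29023 : Q := sm gd N19950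
def N29024 : Q := sm gi N19950
def N29025 : Q := sm gc N19951
def N29026 : Q := sm gi N19951
def N29027 : Q := sm gb N19953
def N29028 : Q := sm gi N19953
def N29029 : Q := sm gh N19954
def N29030 : Q := sm gh N19956
def N29031 : Q := sm gd N19957
def N29032 : Q := sm gi N19957
def N29033 : Q := sm gc N19958
def N29034 : Q := sm ge N19958
def N29035 : Q := sm gi N19958
def N29036 : Q := sm gc N19960
def N29037 : Q := sm gi N19960
def N29038 : Q := sm gb N19962
def N29039 : Q := sm gi N19962
def N29040 : Q := sm gh N19963
def N29041 : Q := sm ga N19964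
def N29042 : Q := sm gi N19964
def N29043 : Q := sm gh N19965
def N29044 : Q := sm gb N19967
def N29045 : Q := sm gf N19967
def N29046 : Q := sm gh N19967
def N29047 : Q := sm ge N19968
def N29048 : Q := sm gg N19968
def N29049 : Q := sm gh N19968
def N29050 : Q := sm gi N19969
def N29051 : Q := sm gj N19970
def N29052 : Q := sm ge N19971
def N29053 : Q := sm gg N19971
def N29054 : Q := sm gh N19971
def N29055 : Q := sm gd N19972
def N29056 : Q := sm gi N19972
def N29057 : Q := sm gg N19973
def N29058 : Q := sm gh N19973
def N29059 : Q := sm gj N19974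
def N29060 : Q := sm gh N19974
def N29061 : Q := sm gi N19975
def N29062 : Q := sm gf N19978
def N29063 : Q := sm gj N19978
def N29064 : Q := sm gh N19978
def N29065 : Q := sm gd N19979
def N29066 : Q := sm gi N19979
def N29067 : Q := sm gh N19980
def N29068 : Q := sm gi N19981
def N29069 : Q := sm gf N19983
def N29070 : Q := sm gh N19983
def N29071 : Q := sm ge N19984
def N29072 : Q := sm gg N19984
def N29073 : Q := sm gh N19984
def N29074 : Q := sm gd N19985
def N29075 : Q := sm gi N19985
def N29076 : Q := sm gg N19986
def N29077 : Q := sm gh N19986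
def N29078 : Q := sm gj N19987
def N29079 : Q := sm gh N19987
def N29080 : Q := sm gi N19988
def N29081 : Q := sm gd N19991
def N29082 : Q := sm gg N19991
def N29083 : Q := sm gh N19991
def N29084 : Q := sm gj N19992
def N29085 : Q := sm gh N19992
def N29086 : Q := sm gd N19993
def N29087 : Q := sm gi N19993
def N29088 : Q := sm ge N19994
def N29089 : Q := sm gi N19994
def N29090 : Q := sm gf N19996
def N29091 : Q := sm gj N19996
def N29092 : Q := sm gh N19996
def N29093 : Q := sm gd N19997
def N29094 : Q := sm gi N19997
def N29095 : Q := sm gh N19998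
def N29096 : Q := sm gi N19999
def N29097 : Q := sm gj N20001
def N29098 : Q := sm gh N20001
def N29099 : Q := sm gh N20002
def N29100 : Q := sm gd N20003
def N29101 : Q := sm gi N20003
def N29102 : Q := sm gc N20004
def N29103 : Q := sm gi N20004
def N29104 : Q := sm gi N20006
def N29105 : Q := sm ge N20008
def N29106 : Q := sm gg N20008
def N29107 : Q := sm gh N20008
def N29108 : Q := sm gd N20009
def N29109 : Q := sm gi N20009
def N29110 : Q := sm gd N20010
def N29111 : Q := sm gg N20010
def N29112 : Q := sm gh N20010
def N29113 : Q := sm gj N20011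
def N29114 : Q := sm gh N20011
def N29115 : Q := sm gd N20012
def N29116 : Q := sm gi N20012
def N29117 : Q := sm ge N20013
def N29118 : Q := sm gi N20013
def N29119 : Q := sm gf N20015
def N29120 : Q := sm gj N20015
def N29121 : Q := sm gh N20015
def N29122 : Q := sm gd N20016
def N29123 : Q := sm gi N20016
def N29124 : Q := sm gh N20017
def N29125 : Q := sm gi N20018
def N29126 : Q := sm gg N20020
def N29127 : Q := sm gh N20020
def N29128 : Q := sm gf N20021
def N29129 : Q := sm gj N20021
def N29130 : Q := sm gh N20021
def N29131 : Q := sm gd N20022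
def N29132 : Q := sm gi N20022
def N29133 : Q := sm gh N20023
def N29134 : Q := sm gd N20024
def N29135 : Q := sm gi N20024
def N29136 : Q := sm ge N20025
def N29137 : Q := sm gi N20025
def N29138 : Q := sm gf N20027
def N29139 : Q := sm gi N20027
def N29140 : Q := sm gh N20028
def N29141 : Q := sm gj N20029
def N29142 : Q := sm gh N20029
def N29143 : Q := sm gh N20030
def N29144 : Q := sm gd N20031
def N29145 : Q := sm gi N20031
def N29146 : Q := sm gc N20032
def N29147 : Q := sm gi N20032
def N29148 : Q := sm gi N20034
def N29149 : Q := sm gg N20036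
def N29150 : Q := sm gh N20036
def N29151 : Q := sm gd N20037
def N29152 : Q := sm gi N20037
def N29153 : Q := sm gd N20038
def N29154 : Q := sm gi N20038
def N29155 : Q := sm gc N20039
def N29156 : Q := sm gi N20039
def N29157 : Q := sm gb N20041
def N29158 : Q := sm gi N20041
def N29159 : Q := sm gh N20042
def N29160 : Q := sm gf N20044
def N29161 : Q := sm gh N20044
def N29162 : Q := sm ge N20045
def N29163 : Q := sm gg N20045
def N29164 : Q := sm gh N20045
def N29165 : Q := sm gd N20046
def N29166 : Q := sm gi N20046
def N29167 : Q := sm gg N20047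
def N29168 : Q := sm gh N20047
def N29169 : Q := sm gj N20048
def N29170 : Q := sm gh N20048
def N29171 : Q := sm gi N20049
def N29172 : Q := sm gd N20052
def N29173 : Q := sm gg N20052
def N29174 : Q := sm gh N20052
def N29175 : Q := sm gj N20053
def N29176 : Q := sm gh N20053
def N29177 : Q := sm gd N20054
def N29178 : Q := sm gi N20054
def N29179 : Q := sm ge N20055
def N29180 : Q := sm gi N20055
def N29181 : Q := sm gf N20057
def N29182 : Q := sm gj N20057
def N29183 : Q := sm gh N20057
def N29184 : Q := sm gd N20058
def N29185 : Q := sm gi N20058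
def N29186 : Q := sm gh N20059
def N29187 : Q := sm gi N20060
def N29188 : Q := sm gj N20062
def N29189 : Q := sm gh N20062
def N29190 : Q := sm gh N20063
def N29191 : Q := sm gd N20064
def N29192 : Q := sm gi N20064
def N29193 : Q := sm gc N20065
def N29194 : Q := sm gi N20065
def N29195 : Q := sm gi N20067
def N29196 : Q := sm ge N20069
def N29197 : Q := sm gg N20069
def N29198 : Q := sm gh N20069
def N29199 : Q := sm gd N20070
def N29200 : Q := sm gi N20070
def N29201 : Q := sm gd N20071
def N29202 : Q := sm gg N20071
def N29203 : Q := sm gh N20071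
def N29204 : Q := sm gj N20072
def N29205 : Q := sm gh N20072
def N29206 : Q := sm gd N20073
def N29207 : Q := sm gi N20073
def N29208 : Q := sm ge N20074
def N29209 : Q := sm gi N20074
def N29210 : Q := sm gf N20076
def N29211 : Q := sm gj N20076
def N29212 : Q := sm gh N20076
def N29213 : Q := sm gd N20077
def N29214 : Q := sm gi N20077
def N29215 : Q := sm gh N20078
def N29216 : Q := sm gi N20079
def N29217 : Q := sm gg N20081
def N29218 : Q := sm gh N20081
def N29219 : Q := sm gf N20082
def N29220 : Q := sm gj N20082
def N29221 : Q := sm gh N20082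
def N29222 : Q := sm gd N20083
def N29223 : Q := sm gi N20083
def N29224 : Q := sm gh N20084
def N29225 : Q := sm gd N20085
def N29226 : Q := sm gi N20085
def N29227 : Q := sm ge N20086
def N29228 : Q := sm gi N20086
def N29229 : Q := sm gf N20088
def N29230 : Q := sm gi N20088
def N29231 : Q := sm gh N20089
def N29232 : Q := sm gj N20090
def N29233 : Q := sm gh N20090
def N29234 : Q := sm gh N20091
def N29235 : Q := sm gd N20092
def N29236 : Q := sm gi N20092
def N29237 : Q := sm gc N20093
def N29238 : Q := sm gi N20093
def N29239 : Q := sm gi N20095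
def N29240 : Q := sm gg N20097
def N29241 : Q := sm gh N20097
def N29242 : Q := sm gd N20098
def N29243 : Q := sm gi N20098
def N29244 : Q := sm gd N20099
def N29245 : Q := sm gi N20099
def N29246 : Q := sm gc N20100
def N29247 : Q := sm gi N20100
def N29248 : Q := sm gb N20102
def N29249 : Q := sm gi N20102
def N29250 : Q := sm gh N20103
def N29251 : Q := sm gd N20105
def N29252 : Q := sm gg N20105
def N29253 : Q := sm gh N20105
def N29254 : Q := sm gj N20106
def N29255 : Q := sm gh N20106
def N29256 : Q := sm gd N20107
def N29257 : Q := sm gi N20107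
def N29258 : Q := sm gc N20108
def N29259 : Q := sm ge N20108
def N29260 : Q := sm gi N20108
def N29261 : Q := sm gg N20110
def N29262 : Q := sm gh N20110
def N29263 : Q := sm gf N20111
def N29264 : Q := sm gj N20111
def N29265 : Q := sm gh N20111
def N29266 : Q := sm gd N20112
def N29267 : Q := sm gi N20112
def N29268 : Q := sm gh N20113
def N29269 : Q := sm gd N20114
def N29270 : Q := sm gi N20114
def N29271 : Q := sm ge N20115
def N29272 : Q := sm gi N20115
def N29273 : Q := sm gf N20117
def N29274 : Q := sm gi N20117
def N29275 : Q := sm gh N20118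
def N29276 : Q := sm gj N20119
def N29277 : Q := sm gh N20119
def N29278 : Q := sm gh N20120
def N29279 : Q := sm gd N20121
def N29280 : Q := sm gi N20121
def N29281 : Q := sm gc N20122
def N29282 : Q := sm gi N20122
def N29283 : Q := sm gi N20124
def N29284 : Q := sm gf N20126
def N29285 : Q := sm gj N20126
def N29286 : Q := sm gh N20126
def N29287 : Q := sm gd N20127
def N29288 : Q := sm gi N20127
def N29289 : Q := sm gj N20128
def N29290 : Q := sm gh N20128
def N29291 : Q := sm gh N20129
def N29292 : Q := sm gd N20130
def N29293 : Q := sm gi N20130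
def N29294 : Q := sm gc N20131
def N29295 : Q := sm ge N20131
def N29296 : Q := sm gi N20131
def N29297 : Q := sm gd N20133
def N29298 : Q := sm gi N20133
def N29299 : Q := sm ge N20134
def N29300 : Q := sm gi N20134
def N29301 : Q := sm gf N20136
def N29302 : Q := sm gi N20136
def N29303 : Q := sm gh N20137
def N29304 : Q := sm gg N20138
def N29305 : Q := sm gi N20138
def N29306 : Q := sm gh N20139
def N29307 : Q := sm gg N20141
def N29308 : Q := sm gh N20141
def N29309 : Q := sm gd N20142
def N29310 : Q := sm gi N20142
def N29311 : Q := sm gd N20143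
def N29312 : Q := sm gi N20143
def N29313 : Q := sm gc N20144
def N29314 : Q := sm gi N20144
def N29315 : Q := sm gb N20146
def N29316 : Q := sm gi N20146
def N29317 : Q := sm gh N20147
def N29318 : Q := sm gh N20149
def N29319 : Q := sm gd N20150
def N29320 : Q := sm gi N20150
def N29321 : Q := sm gc N20151
def N29322 : Q := sm ge N20151
def N29323 : Q := sm gi N20151
def N29324 : Q := sm gc N20153
def N29325 : Q := sm gi N20153
def N29326 : Q := sm gb N20155
def N29327 : Q := sm gi N20155
def N29328 : Q := sm gh N20156
def N29329 : Q := sm ga N20157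
def N29330 : Q := sm gi N20157
def N29331 : Q := sm gh N20158
def N29333 : Q := sm gg N20160
def N29334 : Q := sm gh N20160
def N29335 : Q := sm gd N20161
def N29336 : Q := sm gi N20161
def N29337 : Q := sm gd N20162
def N29338 : Q := sm gg N20162
def N29339 : Q := sm gh N20162
def N29340 : Q := sm gj N20163
def N29341 : Q := sm gh N20163
def N29342 : Q := sm gd N20164
def N29343 : Q := sm gi N20164
def N29344 : Q := sm ge N20165
def N29345 : Q := sm gi N20165
def N29346 : Q := sm gf N20167
def N29347 : Q := sm gj N20167
def N29348 : Q := sm gh N20167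
def N29350 : Q := sm gi N20168
def N29351 : Q := sm gh N20169
def N29352 : Q := sm gi N20170
def N29353 : Q := sm gg N20172
def N29354 : Q := sm gh N20172
def N29355 : Q := sm gf N20173
def N29356 : Q := sm gj N20173
def N29357 : Q := sm gh N20173
def N29358 : Q := sm gd N20174
def N29359 : Q := sm gi N20174
def N29360 : Q := sm gh N20175
def N29361 : Q := sm gd N20176
def N29362 : Q := sm gi N20176
def N29363 : Q := sm ge N20177
def N29364 : Q := sm gi N20177
def N29365 : Q := sm gf N20179
def N29366 : Q := sm gi N20179
def N29367 : Q := sm gh N20180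
def N29368 : Q := sm gj N20181
def N29369 : Q := sm gh N20181
def N29370 : Q := sm gh N20182
def N29371 : Q := sm gd N20183
def N29372 : Q := sm gi N20183
def N29373 : Q := sm gc N20184
def N29374 : Q := sm gi N20184
def N29375 : Q := sm gi N20186
def N29376 : Q := sm gg N20188
def N29377 : Q := sm gh N20188
def N29378 : Q := sm gd N20189
def N29379 : Q := sm gi N20189
def N29380 : Q := sm gd N20190
def N29381 : Q := sm gi N20190
def N29382 : Q := sm gc N20191
def N29383 : Q := sm gi N20191
def N29384 : Q := sm gb N20193
def N29385 : Q := sm gi N20193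
def N29386 : Q := sm gh N20194
def N29387 : Q := sm gd N20196
def N29388 : Q := sm gg N20196
def N29389 : Q := sm gh N20196
def N29390 : Q := sm gj N20197
def N29391 : Q := sm gh N20197
def N29392 : Q := sm gd N20198
def N29393 : Q := sm gi N20198
def N29394 : Q := sm gc N20199
def N29396 : Q := sm gi N20199
def N29397 : Q := sm gg N20201
def N29398 : Q := sm gh N20201
def N29399 : Q := sm gf N20202
def N29400 : Q := sm gj N20202
def N29401 : Q := sm gh N20202
def N29402 : Q := sm gd N20203
def N29403 : Q := sm gi N20203
def N29404 : Q := sm gh N20204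
def N29405 : Q := sm gd N20205
def N29406 : Q := sm gi N20205
def N29407 : Q := sm ge N20206
def N29408 : Q := sm gi N20206
def N29409 : Q := sm gf N20208
def N29410 : Q := sm gi N20208
def N29411 : Q := sm gh N20209
def N29412 : Q := sm gj N20210
def N29413 : Q := sm gh N20210
def N29414 : Q := sm gh N20211
def N29415 : Q := sm gd N20212
def N29416 : Q := sm gi N20212
def N29417 : Q := sm gc N20213
def N29418 : Q := sm gi N20213
def N29419 : Q := sm gi N20215
def N29420 : Q := sm gf N20217
def N29421 : Q := sm gj N20217
def N29422 : Q := sm gh N20217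
def N29423 : Q := sm gd N20218
def N29424 : Q := sm gi N20218
def N29425 : Q := sm gj N20219
def N29426 : Q := sm gh N20219
def N29427 : Q := sm gh N20220
def N29428 : Q := sm gd N20221
def N29429 : Q := sm gi N20221
def N29430 : Q := sm gc N20222
def N29431 : Q := sm ge N20222
def N29432 : Q := sm gi N20222
def N29433 : Q := sm gd N20224
def N29434 : Q := sm gi N20224
def N29435 : Q := sm ge N20225
def N29436 : Q := sm gi N20225
def N29437 : Q := sm gf N20227
def N29438 : Q := sm gi N20227
def N29439 : Q := sm gh N20228
def N29440 : Q := sm gg N20229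
def N29441 : Q := sm gi N20229
def N29442 : Q := sm gh N20230
def N29443 : Q := sm gg N20232
def N29444 : Q := sm gh N20232
def N29445 : Q := sm gd N20233
def N29446 : Q := sm gi N20233
def N29447 : Q := sm gd N20234
def N29448 : Q := sm gi N20234
def N29449 : Q := sm gc N20235
def N29450 : Q := sm gi N20235
def N29451 : Q := sm gb N20237
def N29452 : Q := sm gi N20237
def N29453 : Q := sm gh N20238
def N29454 : Q := sm gh N20240
def N29455 : Q := sm gd N20241
def N29456 : Q := sm gi N20241
def N29457 : Q := sm gc N20242
def N29458 : Q := sm ge N20242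
def N29459 : Q := sm gi N20242
def N29460 : Q := sm gc N20244
def N29461 : Q := sm gi N20244
def N29462 : Q := sm gb N20246
def N29463 : Q := sm gi N20246
def N29464 : Q := sm gh N20247
def N29465 : Q := sm ga N20248
def N29466 : Q := sm gi N20248
def N29467 : Q := sm gh N20249
def N29468 : Q := sm gc N20251
def N29469 : Q := sm gg N20251
def N29470 : Q := sm gh N20251
def N29471 : Q := sm gf N20252
def N29472 : Q := sm gj N20252
def N29473 : Q := sm gh N20252
def N29474 : Q := sm gd N20253
def N29475 : Q := sm gi N20253
def N29476 : Q := sm gh N20254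
def N29477 : Q := sm gd N20255
def N29478 : Q := sm gi N20255
def N29479 : Q := sm gc N20256
def N29480 : Q := sm ge N20256
def N29481 : Q := sm gi N20256
def N29482 : Q := sm ge N20258
def N29484 : Q := sm gf N20259
def N29485 : Q := sm gi N20259
def N29486 : Q := sm gh N20260
def N29487 : Q := sm gf N20261
def N29488 : Q := sm gj N20261
def N29489 : Q := sm gh N20261
def N29490 : Q := sm gd N20262
def N29491 : Q := sm gi N20262
def N29492 : Q := sm gj N20263
def N29493 : Q := sm gh N20263
def N29494 : Q := sm gh N20264
def N29495 : Q := sm gd N20265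
def N29496 : Q := sm gi N20265
def N29497 : Q := sm gc N20266
def N29498 : Q := sm ge N20266
def N29499 : Q := sm gi N20266
def N29500 : Q := sm gd N20268
def N29501 : Q := sm gi N20268
def N29502 : Q := sm ge N20269
def N29503 : Q := sm gi N20269
def N29504 : Q := sm gf N20271
def N29505 : Q := sm gi N20271
def N29506 : Q := sm gh N20272
def N29507 : Q := sm gg N20273
def N29508 : Q := sm gi N20273
def N29509 : Q := sm gh N20274
def N29510 : Q := sm gg N20276
def N29511 : Q := sm gh N20276
def N29512 : Q := sm gd N20277
def N29513 : Q := sm gi N20277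
def N29514 : Q := sm gd N20278
def N29515 : Q := sm gi N20278
def N29516 : Q := sm gc N20279
def N29517 : Q := sm gi N20279
def N29518 : Q := sm gb N20281
def N29519 : Q := sm gi N20281
def N29520 : Q := sm gh N20282
def N29521 : Q := sm ge N20284
def N29522 : Q := sm gj N20284
def N29523 : Q := sm gh N20284
def N29524 : Q := sm gh N20285
def N29525 : Q := sm gd N20286
def N29526 : Q := sm gi N20286
def N29527 : Q := sm gc N20287
def N29528 : Q := sm ge N20287
def N29529 : Q := sm gi N20287
def N29530 : Q := sm gg N20289
def N29531 : Q := sm gh N20289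
def N29532 : Q := sm gd N20290
def N29533 : Q := sm gi N20290
def N29534 : Q := sm gd N20291
def N29535 : Q := sm gi N20291
def N29536 : Q := sm gc N20292
def N29537 : Q := sm ge N20292
def N29538 : Q := sm gi N20292
def N29539 : Q := sm gb N20294
def N29540 : Q := sm ge N20294
def N29541 : Q := sm gi N20294
def N29542 : Q := sm gf N20295
def N29543 : Q := sm gi N20295
def N29544 : Q := sm gh N20296
def N29545 : Q := sm ge N20297
def N29546 : Q := sm gi N20297
def N29547 : Q := sm gf N20299
def N29548 : Q := sm gi N20299
def N29549 : Q := sm gh N20300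
def N29550 : Q := sm gg N20301
def N29551 : Q := sm gi N20301
def N29552 : Q := sm gh N20302
def N29553 : Q := sm gj N20304
def N29554 : Q := sm gi N20304
def N29555 : Q := sm gh N20305
def N29556 : Q := sm gd N20306
def N29557 : Q := sm gh N20307
def N29558 : Q := sm gd N20308
def N29559 : Q := sm gi N20308
def N29560 : Q := sm gc N20309
def N29561 : Q := sm ge N20309
def N29562 : Q := sm gi N20309
def N29563 : Q := sm gc N20311
def N29564 : Q := sm gi N20311
def N29565 : Q := sm gb N20313
def N29566 : Q := sm gi N20313
def N29567 : Q := sm gh N20314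
def N29568 : Q := sm ga N20315
def N29569 : Q := sm gi N20315
def N29570 : Q := sm gh N20316
def N29571 : Q := sm gd N20318
def N29572 : Q := sm gi N20318
def N29573 : Q := sm gc N20319
def N29574 : Q := sm ge N20319
def N29575 : Q := sm gi N20319
def N29576 : Q := sm gb N20321
def N29577 : Q := sm ge N20321
def N29578 : Q := sm gi N20321
def N29579 : Q := sm gi N20322
def N29580 : Q := sm gh N20323
def N29581 : Q := sm gb N20324
def N29582 : Q := sm gi N20324
def N29583 : Q := sm gh N20325
def N29584 : Q := sm ga N20326
def N29585 : Q := sm gi N20326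
def N29586 : Q := sm gh N20327
def N29587 : Q := sm gi N20329
def N29588 : Q := sm gh N20330
def N29589 : Q := sm gd N20331
def N29597 : Q := sm gh N20334
def N29598 : Q := sm gj N20335
def N29601 : Q := sm gi N20336
def N29605 : Q := sm gj N20339
def N29606 : Q := sm gh N20339
def N29608 : Q := sm gi N20340
def N29609 : Q := sm gh N20341
def N29610 : Q := sm gi N20342
def N29611 : Q := sm gg N20344
def N29613 : Q := sm gf N20345
def N29614 : Q := sm gj N20345
def N29618 : Q := sm gh N20347
def N29619 : Q := sm gd N20348
def N29620 : Q := sm gi N20348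
def N29622 : Q := sm gi N20349
def N29623 : Q := sm gf N20351
def N29624 : Q := sm gi N20351
def N29625 : Q := sm gh N20352
def N29627 : Q := sm gh N20353
def N29628 : Q := sm gh N20354
def N29631 : Q := sm gc N20356
def N29632 : Q := sm gi N20356
def N29633 : Q := sm gi N20358
def N29634 : Q := sm gg N20360
def N29635 : Q := sm gh N20360
def N29636 : Q := sm gd N20361
def N29637 : Q := sm gi N20361
def N29638 : Q := sm gd N20362
def N29639 : Q := sm gi N20362
def N29640 : Q := sm gc N20363
def N29642 : Q := sm gb N20365
def N29643 : Q := sm gi N20365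
def N29644 : Q := sm gh N20366
def N29646 : Q := sm gg N20368
def N29647 : Q := sm gh N20368
def N29649 : Q := sm gh N20369
def N29651 : Q := sm gi N20370
def N29652 : Q := sm gc N20371
def N29654 : Q := sm gi N20371
def N29655 : Q := sm gg N20373
def N29658 : Q := sm gj N20374
def N29659 : Q := sm gh N20374
def N29660 : Q := sm gd N20375
def N29661 : Q := sm gi N20375
def N29663 : Q := sm gd N20377
def N29666 : Q := sm gi N20378
def N29668 : Q := sm gi N20380
def N29669 : Q := sm gh N20381
def N29670 : Q := sm gj N20382
def N29675 : Q := sm gc N20385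
def N29679 : Q := sm gj N20389
def N29680 : Q := sm gh N20389
def N29681 : Q := sm gd N20390
def N29682 : Q := sm gi N20390
def N29684 : Q := sm gh N20391
def N29686 : Q := sm gd N20393
def N29687 : Q := sm gi N20393
def N29690 : Q := sm gi N20394
def N29698 : Q := sm gg N20401
def N29699 : Q := sm gi N20401
def N29701 : Q := sm gg N20404
def N29702 : Q := sm gh N20404
def N29703 : Q := sm gd N20405
def N29704 : Q := sm gi N20405
def N29705 : Q := sm gd N20406
def N29706 : Q := sm gi N20406
def N29707 : Q := sm gc N20407
def N29708 : Q := sm gi N20407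
def N29709 : Q := sm gb N20409
def N29710 : Q := sm gi N20409
def N29711 : Q := sm gh N20410
def N29712 : Q := sm gh N20412
def N29713 : Q := sm gd N20413
def N29715 : Q := sm gc N20414
def N29716 : Q := sm ge N20414
def N29717 : Q := sm gi N20414
def N29718 : Q := sm gc N20416
def N29719 : Q := sm gi N20416
def N29720 : Q := sm gb N20418
def N29721 : Q := sm gi N20418
def N29722 : Q := sm gh N20419
def N29723 : Q := sm ga N20420
def N29724 : Q := sm gi N20420
def N29725 : Q := sm gh N20421
def N29727 : Q := sm gg N20423
def N29729 : Q := sm gf N20424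
def N29734 : Q := sm gh N20426
def N29735 : Q := sm gd N20427
def N29737 : Q := sm gc N20428
def N29739 : Q := sm gi N20428
def N29741 : Q := sm gi N20430
def N29744 : Q := sm gh N20432
def N29745 : Q := sm gf N20433
def N29746 : Q := sm gj N20433
def N29747 : Q := sm gh N20433
def N29748 : Q := sm gd N20434
def N29749 : Q := sm gi N20434
def N29750 : Q := sm gj N20435
def N29752 : Q := sm gh N20436
def N29753 : Q := sm gd N20437
def N29755 : Q := sm gc N20438
def N29760 : Q := sm ge N20441
def N29767 : Q := sm gh N20446
def N29768 : Q := sm gg N20448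
def N29769 : Q := sm gh N20448
def N29770 : Q := sm gd N20449
def N29771 : Q := sm gi N20449
def N29772 : Q := sm gd N20450
def N29774 : Q := sm gc N20451
def N29777 : Q := sm gi N20453
def N29778 : Q := sm gh N20454
def N29779 : Q := sm ge N20456
def N29780 : Q := sm gj N20456
def N29781 : Q := sm gh N20456
def N29782 : Q := sm gh N20457
def N29783 : Q := sm gd N20458
def N29784 : Q := sm gi N20458
def N29785 : Q := sm gc N20459
def N29786 : Q := sm ge N20459
def N29788 : Q := sm gg N20461
def N29790 : Q := sm gd N20462
def N29794 : Q := sm gc N20464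
def N29796 : Q := sm gi N20464
def N29797 : Q := sm gb N20466
def N29798 : Q := sm ge N20466
def N29800 : Q := sm gf N20467
def N29801 : Q := sm gi N20467
def N29802 : Q := sm gh N20468
def N29803 : Q := sm ge N20469
def N29804 : Q := sm gi N20469
def N29805 : Q := sm gf N20471
def N29807 : Q := sm gh N20472
def N29808 : Q := sm gg N20473
def N29809 : Q := sm gi N20473
def N29811 : Q := sm gj N20476
def N29812 : Q := sm gi N20476
def N29813 : Q := sm gh N20477
def N29814 : Q := sm gh N20479
def N29815 : Q := sm gd N20480
def N29816 : Q := sm gi N20480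
def N29817 : Q := sm gc N20481
def N29818 : Q := sm ge N20481
def N29819 : Q := sm gi N20481
def N29820 : Q := sm gc N20483
def N29821 : Q := sm gi N20483
def N29822 : Q := sm gb N20485
def N29823 : Q := sm gi N20485
def N29824 : Q := sm gh N20486
def N29825 : Q := sm ga N20487
def N29826 : Q := sm gi N20487
def N29827 : Q := sm gh N20488
def N29828 : Q := sm gd N20490
def N29829 : Q := sm gi N20490
def N29830 : Q := sm gc N20491
def N29831 : Q := sm ge N20491
def N29832 : Q := sm gi N20491
def N29833 : Q := sm gb N20493
def N29834 : Q := sm ge N20493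
def N29835 : Q := sm gi N20493
def N29836 : Q := sm gi N20494
def N29837 : Q := sm gh N20495
def N29838 : Q := sm gb N20496
def N29839 : Q := sm gi N20496
def N29840 : Q := sm gh N20497
def N29841 : Q := sm ga N20498
def N29842 : Q := sm gi N20498
def N29843 : Q := sm gh N20499
def N29844 : Q := sm gi N20501
def N29845 : Q := sm gh N20502
def N29846 : Q := sm gd N20503
def N29847 : Q := sm gg N20504
def N29848 : Q := sm gh N20504
def N29849 : Q := sm gf N20505
def N29850 : Q := sm gj N20505
def N29851 : Q := sm gh N20505
def N29852 : Q := sm gd N20506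
def N29853 : Q := sm gi N20506
def N29854 : Q := sm gj N20507
def N29855 : Q := sm gh N20507
def N29857 : Q := sm gd N20509
def N29861 : Q := sm gi N20510
def N29862 : Q := sm gd N20512
def N29863 : Q := sm gi N20512
def N29870 : Q := sm gh N20517
def N29872 : Q := sm ge N20520
def N29873 : Q := sm gj N20520
def N29874 : Q := sm gh N20520
def N29875 : Q := sm gh N20521
def N29876 : Q := sm gd N20522
def N29877 : Q := sm gi N20522
def N29878 : Q := sm gc N20523
def N29879 : Q := sm ge N20523
def N29880 : Q := sm gi N20523
def N29881 : Q := sm gg N20525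
def N29882 : Q := sm gh N20525
def N29883 : Q := sm gd N20526
def N29885 : Q := sm gd N20527
def N29886 : Q := sm gi N20527
def N29887 : Q := sm gc N20528
def N29888 : Q := sm ge N20528
def N29889 : Q := sm gi N20528
def N29890 : Q := sm gb N20530
def N29901 : Q := sm gh N20539
def N29902 : Q := sm gd N20540
def N29904 : Q := sm gc N20541
def N29905 : Q := sm ge N20541
def N29906 : Q := sm gi N20541
def N29907 : Q := sm gc N20543
def N29908 : Q := sm gi N20543
def N29909 : Q := sm gb N20545
def N29910 : Q := sm gi N20545
def N29911 : Q := sm gh N20546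
def N29912 : Q := sm ga N20547
def N29913 : Q := sm gi N20547
def N29914 : Q := sm gh N20548
def N29915 : Q := sm gj N20550
def N29916 : Q := sm gh N20550
def N29917 : Q := sm gg N20551
def N29918 : Q := sm gh N20551
def N29919 : Q := sm gd N20552
def N29920 : Q := sm gi N20552
def N29921 : Q := sm gd N20553
def N29922 : Q := sm gi N20553
def N29923 : Q := sm gc N20554
def N29924 : Q := sm ge N20554
def N29925 : Q := sm gi N20554
def N29926 : Q := sm gb N20556
def N29928 : Q := sm gi N20556
def N29929 : Q := sm gi N20557
def N29930 : Q := sm gh N20558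
def N29931 : Q := sm gh N20559
def N29932 : Q := sm gd N20560
def N29934 : Q := sm gc N20561
def N29935 : Q := sm ge N20561
def N29936 : Q := sm gi N20561
def N29937 : Q := sm gc N20563
def N29938 : Q := sm ge N20563
def N29939 : Q := sm gi N20563
def N29940 : Q := sm gb N20565
def N29941 : Q := sm ge N20565
def N29942 : Q := sm gi N20565
def N29943 : Q := sm gf N20566
def N29945 : Q := sm gh N20567
def N29946 : Q := sm ga N20568
def N29947 : Q := sm ge N20568
def N29948 : Q := sm gi N20568
def N29950 : Q := sm gh N20570
def N29953 : Q := sm gi N20573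
def N29954 : Q := sm gh N20574
def N29955 : Q := sm gi N20575
def N29956 : Q := sm gh N20576
def N29958 : Q := sm gd N20579
def N29959 : Q := sm gi N20579
def N29960 : Q := sm gc N20580
def N29961 : Q := sm ge N20580
def N29962 : Q := sm gi N20580
def N29963 : Q := sm gb N20582
def N29964 : Q := sm ge N20582
def N29965 : Q := sm gi N20582
def N29966 : Q := sm gi N20583
def N29967 : Q := sm gh N20584
def N29968 : Q := sm gb N20585
def N29969 : Q := sm gi N20585
def N29970 : Q := sm gh N20586
def N29971 : Q := sm ga N20587
def N29972 : Q := sm gi N20587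
def N29973 : Q := sm gh N20588
def N29974 : Q := sm gi N20590
def N29975 : Q := sm gh N20591
def N29976 : Q := sm gd N20592
def N29977 : Q := sm gc N20593
def N29978 : Q := sm ge N20593
def N29979 : Q := sm gi N20593
def N29980 : Q := sm gb N20595
def N29981 : Q := sm ge N20595
def N29982 : Q := sm gi N20595
def N29983 : Q := sm gi N20596
def N29984 : Q := sm gh N20597
def N29985 : Q := sm ga N20598
def N29986 : Q := sm ge N20598
def N29987 : Q := sm gi N20598
def N29988 : Q := sm gd N20599
def N29989 : Q := sm gi N20599
def N29990 : Q := sm gh N20600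
def N29991 : Q := sm gh N20601
def N29992 : Q := sm ga N20603
def N29993 : Q := sm gi N20603
def N29994 : Q := sm gh N20604
def N29995 : Q := sm gi N20606
def N29996 : Q := sm gh N20607
def N29997 : Q := sm gd N20608
def N29998 : Q := sm gh N20609
def N29999 : Q := sm gd N20610
def N30000 : Q := sm ge N20611
def N30004 : Q := sm gf N20613
def N30005 : Q := sm gg N20614
def N30006 : Q := sm ge N20615
def N30007 : Q := sm gd N20616
def N30009 : Q := sm gf N20617
def N30010 : Q := sm gh N20617
def N30013 : Q := sm gd N20620
def N30014 : Q := sm gf N20620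
def N30016 : Q := sm gf N20621
def N30017 : Q := sm gh N20621
def N30020 : Q := sm gg N20623
def N30021 : Q := sm gh N20623
def N30022 : Q := sm gi N20624
def N30024 : Q := sm gc N20627
def N30025 : Q := sm gf N20627
def N30026 : Q := sm gh N20627
def N30027 : Q := sm gg N20628
def N30028 : Q := sm gf N20629
def N30029 : Q := sm gh N20629
def N30030 : Q := sm ge N20630
def N30031 : Q := sm gg N20630
def N30033 : Q := sm gi N20631
def N30034 : Q := sm gj N20632
def N30035 : Q := sm gg N20633
def N30039 : Q := sm gi N20635
def N30041 : Q := sm gf N20638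
def N30043 : Q := sm ge N20639
def N30045 : Q := sm gh N20639
def N30046 : Q := sm gi N20640
def N30047 : Q := sm gj N20641
def N30048 : Q := sm ge N20642
def N30050 : Q := sm gh N20642
def N30051 : Q := sm gd N20643
def N30052 : Q := sm gi N20643
def N30053 : Q := sm gg N20644
def N30054 : Q := sm gh N20644
def N30056 : Q := sm gh N20645
def N30057 : Q := sm gi N20646
def N30058 : Q := sm gf N20649
def N30059 : Q := sm gj N20649
def N30060 : Q := sm gh N20649
def N30063 : Q := sm gh N20651
def N30064 : Q := sm gi N20652
def N30065 : Q := sm gd N20654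
def N30067 : Q := sm gc N20655
def N30068 : Q := sm gf N20655
def N30073 : Q := sm gh N20657
def N30074 : Q := sm gi N20658
def N30075 : Q := sm gj N20659
def N30076 : Q := sm gc N20661
def N30077 : Q := sm gf N20661
def N30081 : Q := sm gh N20663
def N30082 : Q := sm ge N20664
def N30083 : Q := sm gg N20664
def N30084 : Q := sm gh N20664
def N30085 : Q := sm gi N20665
def N30087 : Q := sm gg N20667
def N30088 : Q := sm gh N20667
def N30089 : Q := sm gj N20668
def N30090 : Q := sm gh N20668
def N30092 : Q := sm gb N20672
def N30093 : Q := sm gf N20672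
def N30094 : Q := sm gh N20672
def N30095 : Q := sm ge N20673
def N30096 : Q := sm gg N20673
def N30097 : Q := sm gh N20673
def N30098 : Q := sm gi N20674
def N30099 : Q := sm gj N20675
def N30100 : Q := sm ge N20676
def N30101 : Q := sm gg N20676
def N30102 : Q := sm gh N20676
def N30103 : Q := sm gd N20677
def N30104 : Q := sm gi N20677
def N30105 : Q := sm gg N20678
def N30106 : Q := sm gh N20678
def N30107 : Q := sm gj N20679
def N30108 : Q := sm gh N20679
def N30109 : Q := sm gi N20680
def N30110 : Q := sm gf N20683
def N30111 : Q := sm gj N20683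
def N30112 : Q := sm gh N20683
def N30114 : Q := sm gi N20684
def N30115 : Q := sm gh N20685
def N30119 : Q := sm ge N20689
def N30120 : Q := sm gg N20689
def N30121 : Q := sm gh N20689
def N30124 : Q := sm gg N20691
def N30125 : Q := sm gh N20691
def N30127 : Q := sm gh N20692
def N30128 : Q := sm gi N20693
def N30129 : Q := sm gd N20696
def N30130 : Q := sm gg N20696
def N30131 : Q := sm gh N20696
def N30133 : Q := sm gh N20697
def N30134 : Q := sm gd N20698
def N30135 : Q := sm gi N20698
def N30136 : Q := sm ge N20699
def N30137 : Q := sm gi N20699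
def N30138 : Q := sm gf N20701
def N30139 : Q := sm gj N20701
def N30140 : Q := sm gh N20701
def N30141 : Q := sm gd N20702
def N30142 : Q := sm gi N20702
def N30143 : Q := sm gh N20703
def N30144 : Q := sm gi N20704
def N30146 : Q := sm gh N20706
def N30147 : Q := sm gh N20707
def N30148 : Q := sm gd N20708
def N30149 : Q := sm gi N20708
def N30150 : Q := sm gc N20709
def N30151 : Q := sm gi N20709
def N30152 : Q := sm gi N20711
def N30154 : Q := sm gf N20713
def N30157 : Q := sm gf N20715
def N30158 : Q := sm gh N20715
def N30159 : Q := sm ge N20716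
def N30161 : Q := sm gh N20716
def N30164 : Q := sm gg N20719
def N30165 : Q := sm gh N20719
def N30166 : Q := sm gj N20720
def N30168 : Q := sm gi N20721
def N30170 : Q := sm gf N20724
def N30171 : Q := sm gh N20724
def N30172 : Q := sm ge N20725
def N30173 : Q := sm gg N20725
def N30174 : Q := sm gh N20725
def N30175 : Q := sm gi N20726
def N30177 : Q := sm ge N20728
def N30180 : Q := sm gd N20729
def N30181 : Q := sm gi N20729
def N30182 : Q := sm gg N20730
def N30183 : Q := sm gh N20730
def N30184 : Q := sm gj N20731
def N30186 : Q := sm gi N20732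
def N30189 : Q := sm gh N20735
def N30190 : Q := sm gd N20736
def N30191 : Q := sm gi N20736
def N30194 : Q := sm gf N20740
def N30195 : Q := sm gh N20740
def N30196 : Q := sm ge N20741
def N30197 : Q := sm gg N20741
def N30198 : Q := sm gh N20741
def N30201 : Q := sm gg N20743
def N30202 : Q := sm gh N20743
def N30203 : Q := sm gj N20744
def N30204 : Q := sm gh N20744
def N30205 : Q := sm gi N20745
def N30206 : Q := sm gd N20748
def N30207 : Q := sm gg N20748
def N30208 : Q := sm gh N20748
def N30209 : Q := sm gj N20749
def N30210 : Q := sm gh N20749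
def N30211 : Q := sm gd N20750
def N30212 : Q := sm gi N20750
def N30213 : Q := sm ge N20751
def N30214 : Q := sm gi N20751
def N30215 : Q := sm gf N20753
def N30216 : Q := sm gj N20753
def N30217 : Q := sm gh N20753
def N30218 : Q := sm gd N20754
def N30219 : Q := sm gi N20754
def N30220 : Q := sm gh N20755
def N30221 : Q := sm gi N20756
def N30222 : Q := sm gj N20758
def N30223 : Q := sm gh N20758
def N30226 : Q := sm gi N20760
def N30228 : Q := sm gi N20761
def N30229 : Q := sm gi N20763
def N30232 : Q := sm gh N20765
def N30234 : Q := sm gi N20766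
def N30235 : Q := sm gd N20767
def N30236 : Q := sm gg N20767
def N30239 : Q := sm gh N20768
def N30241 : Q := sm gi N20769
def N30244 : Q := sm gf N20772
def N30245 : Q := sm gj N20772
def N30246 : Q := sm gh N20772
def N30247 : Q := sm gd N20773
def N30248 : Q := sm gi N20773
def N30249 : Q := sm gh N20774
def N30250 : Q := sm gi N20775
def N30251 : Q := sm gg N20777
def N30252 : Q := sm gh N20777
def N30253 : Q := sm gf N20778
def N30254 : Q := sm gj N20778
def N30255 : Q := sm gh N20778
def N30257 : Q := sm gi N20779
def N30259 : Q := sm gd N20781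
def N30260 : Q := sm gi N20781
def N30261 : Q := sm ge N20782
def N30262 : Q := sm gi N20782
def N30263 : Q := sm gf N20784
def N30266 : Q := sm gj N20786
def N30267 : Q := sm gh N20786
def N30268 : Q := sm gh N20787
def N30269 : Q := sm gd N20788
def N30270 : Q := sm gi N20788
def N30271 : Q := sm gc N20789
def N30272 : Q := sm gi N20789
def N30273 : Q := sm gi N20791
def N30274 : Q := sm gg N20793
def N30275 : Q := sm gh N20793
def N30276 : Q := sm gd N20794
def N30277 : Q := sm gi N20794
def N30278 : Q := sm gd N20795
def N30279 : Q := sm gi N20795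
def N30280 : Q := sm gc N20796
def N30281 : Q := sm gi N20796
def N30282 : Q := sm gb N20798
def N30283 : Q := sm gi N20798
def N30284 : Q := sm gh N20799
def N30286 : Q := sm gf N20801
def N30287 : Q := sm gh N20801
def N30292 : Q := sm gj N20804
def N30293 : Q := sm ge N20805
def N30294 : Q := sm gg N20805
def N30296 : Q := sm gd N20806
def N30299 : Q := sm gh N20807
def N30300 : Q := sm gj N20808
def N30301 : Q := sm gh N20808
def N30302 : Q := sm gi N20809
def N30305 : Q := sm gh N20812
def N30306 : Q := sm gd N20813
def N30307 : Q := sm gi N20813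
def N30309 : Q := sm gi N20815
def N30310 : Q := sm gf N20817
def N30311 : Q := sm gh N20817
def N30312 : Q := sm ge N20818
def N30313 : Q := sm gg N20818
def N30314 : Q := sm gh N20818
def N30315 : Q := sm gd N20819
def N30316 : Q := sm gi N20819
def N30317 : Q := sm gg N20820
def N30318 : Q := sm gh N20820
def N30319 : Q := sm gj N20821
def N30320 : Q := sm gh N20821
def N30322 : Q := sm gd N20825
def N30323 : Q := sm gg N20825
def N30324 : Q := sm gh N20825
def N30325 : Q := sm gj N20826
def N30326 : Q := sm gh N20826
def N30327 : Q := sm gd N20827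
def N30328 : Q := sm gi N20827
def N30331 : Q := sm gf N20830
def N30332 : Q := sm gj N20830
def N30333 : Q := sm gh N20830
def N30334 : Q := sm gd N20831
def N30335 : Q := sm gi N20831
def N30336 : Q := sm gh N20832
def N30337 : Q := sm gi N20833
def N30339 : Q := sm gh N20835
def N30340 : Q := sm gh N20836
def N30341 : Q := sm gd N20837
def N30342 : Q := sm gi N20837
def N30344 : Q := sm gi N20838
def N30345 : Q := sm gi N20840
def N30346 : Q := sm ge N20842
def N30347 : Q := sm gg N20842
def N30348 : Q := sm gh N20842
def N30349 : Q := sm gd N20843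
def N30350 : Q := sm gi N20843
def N30351 : Q := sm gd N20844
def N30352 : Q := sm gg N20844
def N30353 : Q := sm gh N20844
def N30354 : Q := sm gj N20845
def N30355 : Q := sm gh N20845
def N30356 : Q := sm gd N20846
def N30357 : Q := sm gi N20846
def N30358 : Q := sm ge N20847
def N30359 : Q := sm gi N20847
def N30360 : Q := sm gf N20849
def N30361 : Q := sm gj N20849
def N30362 : Q := sm gh N20849
def N30363 : Q := sm gd N20850
def N30364 : Q := sm gi N20850
def N30365 : Q := sm gh N20851
def N30366 : Q := sm gi N20852
def N30367 : Q := sm gg N20854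
def N30368 : Q := sm gh N20854
def N30369 : Q := sm gf N20855
def N30370 : Q := sm gj N20855
def N30371 : Q := sm gh N20855
def N30372 : Q := sm gd N20856
def N30373 : Q := sm gi N20856
def N30374 : Q := sm gh N20857
def N30375 : Q := sm gd N20858
def N30376 : Q := sm gi N20858
def N30377 : Q := sm ge N20859
def N30378 : Q := sm gi N20859
def N30379 : Q := sm gf N20861
def N30380 : Q := sm gi N20861
def N30382 : Q := sm gj N20863
def N30383 : Q := sm gh N20863
def N30384 : Q := sm gh N20864
def N30385 : Q := sm gd N20865
def N30386 : Q := sm gi N20865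
def N30387 : Q := sm gc N20866
def N30388 : Q := sm gi N20866
def N30389 : Q := sm gi N20868
def N30390 : Q := sm gg N20870
def N30391 : Q := sm gh N20870
def N30392 : Q := sm gd N20871
def N30393 : Q := sm gi N20871
def N30394 : Q := sm gd N20872
def N30395 : Q := sm gi N20872
def N30396 : Q := sm gc N20873
def N30397 : Q := sm gi N20873
def N30398 : Q := sm gb N20875
def N30399 : Q := sm gi N20875
def N30400 : Q := sm gh N20876
def N30403 : Q := sm ge N20879
def N30404 : Q := sm gg N20879
def N30405 : Q := sm gh N20879
def N30407 : Q := sm gi N20880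
def N30409 : Q := sm gh N20881
def N30410 : Q := sm gj N20882
def N30413 : Q := sm gd N20886
def N30414 : Q := sm gg N20886
def N30415 : Q := sm gh N20886
def N30418 : Q := sm gd N20888
def N30421 : Q := sm gi N20889
def N30422 : Q := sm gf N20891
def N30424 : Q := sm gh N20891
def N30425 : Q := sm gd N20892
def N30426 : Q := sm gi N20892
def N30427 : Q := sm gh N20893
def N30428 : Q := sm gi N20894
def N30429 : Q := sm gj N20896
def N30433 : Q := sm gi N20898
def N30434 : Q := sm gc N20899
def N30435 : Q := sm gi N20899
def N30436 : Q := sm gi N20901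
def N30437 : Q := sm ge N20903
def N30438 : Q := sm gg N20903
def N30439 : Q := sm gh N20903
def N30442 : Q := sm gd N20905
def N30443 : Q := sm gg N20905
def N30444 : Q := sm gh N20905
def N30445 : Q := sm gj N20906
def N30447 : Q := sm gd N20907
def N30448 : Q := sm gi N20907
def N30449 : Q := sm ge N20908
def N30450 : Q := sm gi N20908
def N30451 : Q := sm gf N20910
def N30452 : Q := sm gj N20910
def N30453 : Q := sm gh N20910
def N30454 : Q := sm gd N20911
def N30455 : Q := sm gi N20911
def N30456 : Q := sm gh N20912
def N30457 : Q := sm gi N20913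
def N30458 : Q := sm gg N20915
def N30459 : Q := sm gh N20915
def N30460 : Q := sm gf N20916
def N30461 : Q := sm gj N20916
def N30462 : Q := sm gh N20916
def N30463 : Q := sm gd N20917
def N30464 : Q := sm gi N20917
def N30465 : Q := sm gh N20918
def N30466 : Q := sm gd N20919
def N30467 : Q := sm gi N20919
def N30468 : Q := sm ge N20920
def N30469 : Q := sm gi N20920
def N30470 : Q := sm gf N20922
def N30472 : Q := sm gh N20923
def N30473 : Q := sm gj N20924
def N30474 : Q := sm gh N20924
def N30475 : Q := sm gh N20925
def N30476 : Q := sm gd N20926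
def N30477 : Q := sm gi N20926
def N30478 : Q := sm gc N20927
def N30479 : Q := sm gi N20927
def N30480 : Q := sm gi N20929
def N30481 : Q := sm gg N20931
def N30482 : Q := sm gh N20931
def N30483 : Q := sm gd N20932
def N30484 : Q := sm gi N20932
def N30485 : Q := sm gd N20933
def N30486 : Q := sm gi N20933
def N30488 : Q := sm gi N20934
def N30489 : Q := sm gb N20936
def N30490 : Q := sm gi N20936
def N30491 : Q := sm gh N20937
def N30492 : Q := sm gd N20939
def N30493 : Q := sm gg N20939
def N30494 : Q := sm gh N20939
def N30495 : Q := sm gj N20940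
def N30496 : Q := sm gh N20940
def N30497 : Q := sm gd N20941
def N30498 : Q := sm gi N20941
def N30499 : Q := sm gc N20942
def N30501 : Q := sm gi N20942
def N30502 : Q := sm gg N20944
def N30503 : Q := sm gh N20944
def N30504 : Q := sm gf N20945
def N30505 : Q := sm gj N20945
def N30506 : Q := sm gh N20945
def N30507 : Q := sm gd N20946
def N30508 : Q := sm gi N20946
def N30509 : Q := sm gh N20947
def N30510 : Q := sm gd N20948
def N30511 : Q := sm gi N20948
def N30512 : Q := sm ge N20949
def N30513 : Q := sm gi N20949
def N30514 : Q := sm gf N20951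
def N30515 : Q := sm gi N20951
def N30516 : Q := sm gh N20952
def N30517 : Q := sm gj N20953
def N30518 : Q := sm gh N20953
def N30519 : Q := sm gh N20954
def N30520 : Q := sm gd N20955
def N30521 : Q := sm gi N20955
def N30522 : Q := sm gc N20956
def N30523 : Q := sm gi N20956
def N30524 : Q := sm gi N20958
def N30525 : Q := sm gf N20960
def N30526 : Q := sm gj N20960
def N30527 : Q := sm gh N20960
def N30528 : Q := sm gd N20961
def N30529 : Q := sm gi N20961
def N30530 : Q := sm gj N20962
def N30531 : Q := sm gh N20962
def N30532 : Q := sm gh N20963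
def N30533 : Q := sm gd N20964
def N30534 : Q := sm gi N20964
def N30535 : Q := sm gc N20965
def N30536 : Q := sm ge N20965
def N30537 : Q := sm gi N20965
def N30538 : Q := sm gd N20967
def N30539 : Q := sm gi N20967
def N30540 : Q := sm ge N20968
def N30541 : Q := sm gi N20968
def N30542 : Q := sm gf N20970
def N30543 : Q := sm gi N20970
def N30544 : Q := sm gh N20971
def N30545 : Q := sm gg N20972
def N30546 : Q := sm gi N20972
def N30547 : Q := sm gh N20973
def N30548 : Q := sm gg N20975
def N30549 : Q := sm gh N20975
def N30550 : Q := sm gd N20976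
def N30551 : Q := sm gi N20976
def N30552 : Q := sm gd N20977
def N30553 : Q := sm gi N20977
def N30554 : Q := sm gc N20978
def N30555 : Q := sm gi N20978
def N30556 : Q := sm gb N20980
def N30557 : Q := sm gi N20980
def N30558 : Q := sm gh N20981
def N30559 : Q := sm gh N20983
def N30560 : Q := sm gd N20984
def N30561 : Q := sm gi N20984
def N30562 : Q := sm gc N20985
def N30563 : Q := sm ge N20985
def N30564 : Q := sm gi N20985
def N30565 : Q := sm gc N20987
def N30566 : Q := sm gi N20987
def N30567 : Q := sm gb N20989
def N30568 : Q := sm gi N20989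
def N30569 : Q := sm gh N20990
def N30570 : Q := sm ga N20991
def N30571 : Q := sm gi N20991
def N30572 : Q := sm gh N20992
def N30576 : Q := sm gd N20995
def N30582 : Q := sm gh N20997
def N30584 : Q := sm gi N20998
def N30585 : Q := sm ge N20999
def N30592 : Q := sm gh N21003
def N30593 : Q := sm gi N21004
def N30602 : Q := sm gd N21010
def N30604 : Q := sm ge N21011
def N30605 : Q := sm gi N21011
def N30606 : Q := sm gf N21013
def N30608 : Q := sm gh N21014
def N30609 : Q := sm gj N21015
def N30610 : Q := sm gh N21015
def N30611 : Q := sm gh N21016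
def N30612 : Q := sm gd N21017
def N30613 : Q := sm gi N21017
def N30614 : Q := sm gc N21018
def N30615 : Q := sm gi N21018
def N30618 : Q := sm gh N21022
def N30619 : Q := sm gd N21023
def N30620 : Q := sm gi N21023
def N30621 : Q := sm gd N21024
def N30622 : Q := sm gi N21024
def N30623 : Q := sm gc N21025
def N30624 : Q := sm gi N21025
def N30625 : Q := sm gb N21027
def N30626 : Q := sm gi N21027
def N30627 : Q := sm gh N21028
def N30628 : Q := sm gd N21030
def N30629 : Q := sm gg N21030
def N30631 : Q := sm gj N21031
def N30632 : Q := sm gh N21031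
def N30635 : Q := sm gc N21033
def N30637 : Q := sm gi N21033
def N30638 : Q := sm gg N21035
def N30639 : Q := sm gh N21035
def N30640 : Q := sm gf N21036
def N30641 : Q := sm gj N21036
def N30642 : Q := sm gh N21036
def N30643 : Q := sm gd N21037
def N30645 : Q := sm gh N21038
def N30648 : Q := sm ge N21040
def N30649 : Q := sm gi N21040
def N30650 : Q := sm gf N21042
def N30651 : Q := sm gi N21042
def N30653 : Q := sm gj N21044
def N30654 : Q := sm gh N21044
def N30655 : Q := sm gh N21045
def N30656 : Q := sm gd N21046
def N30657 : Q := sm gi N21046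
def N30658 : Q := sm gc N21047
def N30659 : Q := sm gi N21047
def N30660 : Q := sm gi N21049
def N30661 : Q := sm gf N21051
def N30662 : Q := sm gj N21051
def N30663 : Q := sm gh N21051
def N30664 : Q := sm gd N21052
def N30665 : Q := sm gi N21052
def N30666 : Q := sm gj N21053
def N30667 : Q := sm gh N21053
def N30668 : Q := sm gh N21054
def N30669 : Q := sm gd N21055
def N30670 : Q := sm gi N21055
def N30671 : Q := sm gc N21056
def N30672 : Q := sm ge N21056
def N30673 : Q := sm gi N21056
def N30674 : Q := sm gd N21058
def N30675 : Q := sm gi N21058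
def N30676 : Q := sm ge N21059
def N30677 : Q := sm gi N21059
def N30678 : Q := sm gf N21061
def N30679 : Q := sm gi N21061
def N30680 : Q := sm gh N21062
def N30681 : Q := sm gg N21063
def N30682 : Q := sm gi N21063
def N30684 : Q := sm gg N21066
def N30685 : Q := sm gh N21066
def N30686 : Q := sm gd N21067
def N30687 : Q := sm gi N21067
def N30688 : Q := sm gd N21068
def N30689 : Q := sm gi N21068
def N30690 : Q := sm gc N21069
def N30691 : Q := sm gi N21069
def N30692 : Q := sm gb N21071
def N30693 : Q := sm gi N21071
def N30694 : Q := sm gh N21072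
def N30695 : Q := sm gh N21074
def N30696 : Q := sm gd N21075
def N30697 : Q := sm gi N21075
def N30698 : Q := sm gc N21076
def N30699 : Q := sm ge N21076
def N30700 : Q := sm gi N21076
def N30701 : Q := sm gc N21078
def N30702 : Q := sm gi N21078
def N30703 : Q := sm gb N21080
def N30704 : Q := sm gi N21080
def N30705 : Q := sm gh N21081
def N30706 : Q := sm ga N21082
def N30707 : Q := sm gi N21082
def N30708 : Q := sm gh N21083
def N30709 : Q := sm gc N21085
def N30710 : Q := sm gg N21085
def N30711 : Q := sm gh N21085
def N30712 : Q := sm gf N21086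
def N30713 : Q := sm gj N21086
def N30714 : Q := sm gh N21086
def N30715 : Q := sm gd N21087
def N30716 : Q := sm gi N21087
def N30717 : Q := sm gh N21088
def N30718 : Q := sm gd N21089
def N30719 : Q := sm gi N21089
def N30721 : Q := sm ge N21090
def N30722 : Q := sm gi N21090
def N30727 : Q := sm gh N21094
def N30728 : Q := sm gf N21095
def N30729 : Q := sm gj N21095
def N30730 : Q := sm gh N21095
def N30731 : Q := sm gd N21096
def N30732 : Q := sm gi N21096
def N30733 : Q := sm gj N21097
def N30734 : Q := sm gh N21097
def N30735 : Q := sm gh N21098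
def N30736 : Q := sm gd N21099
def N30737 : Q := sm gi N21099
def N30738 : Q := sm gc N21100
def N30739 : Q := sm ge N21100
def N30740 : Q := sm gi N21100
def N30741 : Q := sm gd N21102
def N30742 : Q := sm gi N21102
def N30743 : Q := sm ge N21103
def N30744 : Q := sm gi N21103
def N30745 : Q := sm gf N21105
def N30746 : Q := sm gi N21105
def N30747 : Q := sm gh N21106
def N30748 : Q := sm gg N21107
def N30749 : Q := sm gi N21107
def N30751 : Q := sm gg N21110
def N30752 : Q := sm gh N21110
def N30753 : Q := sm gd N21111
def N30754 : Q := sm gi N21111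
def N30755 : Q := sm gd N21112
def N30756 : Q := sm gi N21112
def N30757 : Q := sm gc N21113
def N30758 : Q := sm gi N21113
def N30759 : Q := sm gb N21115
def N30760 : Q := sm gi N21115
def N30761 : Q := sm gh N21116
def N30762 : Q := sm ge N21118
def N30763 : Q := sm gj N21118
def N30764 : Q := sm gh N21118
def N30765 : Q := sm gh N21119
def N30766 : Q := sm gd N21120
def N30767 : Q := sm gi N21120
def N30768 : Q := sm gc N21121
def N30769 : Q := sm ge N21121
def N30770 : Q := sm gi N21121
def N30771 : Q := sm gg N21123
def N30772 : Q := sm gh N21123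
def N30773 : Q := sm gd N21124
def N30774 : Q := sm gi N21124
def N30775 : Q := sm gd N21125
def N30776 : Q := sm gi N21125
def N30777 : Q := sm gc N21126
def N30778 : Q := sm ge N21126
def N30779 : Q := sm gi N21126
def N30780 : Q := sm gb N21128
def N30781 : Q := sm ge N21128
def N30782 : Q := sm gi N21128
def N30783 : Q := sm gf N21129
def N30784 : Q := sm gi N21129
def N30785 : Q := sm gh N21130
def N30786 : Q := sm ge N21131
def N30787 : Q := sm gi N21131
def N30788 : Q := sm gf N21133
def N30789 : Q := sm gi N21133
def N30790 : Q := sm gh N21134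
def N30791 : Q := sm gg N21135
def N30792 : Q := sm gi N21135
def N30793 : Q := sm gh N21136
def N30794 : Q := sm gj N21138
def N30795 : Q := sm gi N21138
def N30798 : Q := sm gh N21141
def N30799 : Q := sm gd N21142
def N30800 : Q := sm gi N21142
def N30801 : Q := sm gc N21143
def N30802 : Q := sm ge N21143
def N30803 : Q := sm gi N21143
def N30804 : Q := sm gc N21145
def N30805 : Q := sm gi N21145
def N30806 : Q := sm gb N21147
def N30807 : Q := sm gi N21147
def N30808 : Q := sm gh N21148
def N30809 : Q := sm ga N21149
def N30810 : Q := sm gi N21149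
def N30811 : Q := sm gh N21150
def N30812 : Q := sm gd N21152
def N30813 : Q := sm gi N21152
def N30814 : Q := sm gc N21153
def N30815 : Q := sm ge N21153
def N30816 : Q := sm gi N21153
def N30817 : Q := sm gb N21155
def N30818 : Q := sm ge N21155
def N30819 : Q := sm gi N21155
def N30820 : Q := sm gi N21156
def N30821 : Q := sm gh N21157
def N30822 : Q := sm gb N21158
def N30823 : Q := sm gi N21158
def N30824 : Q := sm gh N21159
def N30825 : Q := sm ga N21160
def N30826 : Q := sm gi N21160
def N30827 : Q := sm gh N21161
def N30828 : Q := sm gi N21163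
def N30829 : Q := sm gh N21164
def N30830 : Q := sm gd N21165
def N30831 : Q := sm ge N21166
def N30832 : Q := sm gg N21166
def N30833 : Q := sm gh N21166
def N30835 : Q := sm gi N21167
def N30836 : Q := sm gd N21168
def N30837 : Q := sm gg N21168
def N30838 : Q := sm gh N21168
def N30839 : Q := sm gj N21169
def N30840 : Q := sm gh N21169
def N30841 : Q := sm gd N21170
def N30842 : Q := sm gi N21170
def N30844 : Q := sm gi N21171
def N30845 : Q := sm gf N21173
def N30846 : Q := sm gj N21173
def N30847 : Q := sm gh N21173
def N30848 : Q := sm gd N21174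
def N30849 : Q := sm gi N21174
def N30850 : Q := sm gh N21175
def N30851 : Q := sm gi N21176
def N30852 : Q := sm gg N21178
def N30853 : Q := sm gh N21178
def N30854 : Q := sm gf N21179
def N30855 : Q := sm gj N21179
def N30856 : Q := sm gh N21179
def N30857 : Q := sm gd N21180
def N30858 : Q := sm gi N21180
def N30859 : Q := sm gh N21181
def N30860 : Q := sm gd N21182
def N30861 : Q := sm gi N21182
def N30862 : Q := sm ge N21183
def N30863 : Q := sm gi N21183
def N30864 : Q := sm gf N21185
def N30865 : Q := sm gi N21185
def N30867 : Q := sm gj N21187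
def N30868 : Q := sm gh N21187
def N30869 : Q := sm gh N21188
def N30870 : Q := sm gd N21189
def N30871 : Q := sm gi N21189
def N30872 : Q := sm gc N21190
def N30873 : Q := sm gi N21190
def N30874 : Q := sm gi N21192
def N30875 : Q := sm gg N21194
def N30876 : Q := sm gh N21194
def N30877 : Q := sm gd N21195
def N30878 : Q := sm gi N21195
def N30879 : Q := sm gd N21196
def N30880 : Q := sm gi N21196
def N30881 : Q := sm gc N21197
def N30882 : Q := sm gi N21197
def N30883 : Q := sm gb N21199
def N30884 : Q := sm gi N21199
def N30885 : Q := sm gh N21200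
def N30886 : Q := sm gd N21202
def N30887 : Q := sm gg N21202
def N30888 : Q := sm gh N21202
def N30889 : Q := sm gj N21203
def N30890 : Q := sm gh N21203
def N30891 : Q := sm gd N21204
def N30892 : Q := sm gi N21204
def N30895 : Q := sm gi N21205
def N30896 : Q := sm gg N21207
def N30897 : Q := sm gh N21207
def N30898 : Q := sm gf N21208
def N30899 : Q := sm gj N21208
def N30900 : Q := sm gh N21208
def N30901 : Q := sm gd N21209
def N30902 : Q := sm gi N21209
def N30903 : Q := sm gh N21210
def N30904 : Q := sm gd N21211
def N30905 : Q := sm gi N21211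
def N30906 : Q := sm ge N21212
def N30907 : Q := sm gi N21212
def N30908 : Q := sm gf N21214
def N30909 : Q := sm gi N21214
def N30911 : Q := sm gj N21216
def N30912 : Q := sm gh N21216
def N30913 : Q := sm gh N21217
def N30914 : Q := sm gd N21218
def N30915 : Q := sm gi N21218
def N30916 : Q := sm gc N21219
def N30917 : Q := sm gi N21219
def N30918 : Q := sm gi N21221
def N30919 : Q := sm gf N21223
def N30920 : Q := sm gj N21223
def N30921 : Q := sm gh N21223
def N30922 : Q := sm gd N21224
def N30923 : Q := sm gi N21224
def N30924 : Q := sm gj N21225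
def N30925 : Q := sm gh N21225
def N30926 : Q := sm gh N21226
def N30927 : Q := sm gd N21227
def N30928 : Q := sm gi N21227
def N30929 : Q := sm gc N21228
def N30930 : Q := sm ge N21228
def N30931 : Q := sm gi N21228
def N30932 : Q := sm gd N21230
def N30933 : Q := sm gi N21230
def N30934 : Q := sm ge N21231
def N30935 : Q := sm gi N21231
def N30936 : Q := sm gf N21233
def N30937 : Q := sm gi N21233
def N30938 : Q := sm gh N21234
def N30939 : Q := sm gg N21235
def N30940 : Q := sm gi N21235
def N30941 : Q := sm gh N21236
def N30942 : Q := sm gg N21238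
def N30943 : Q := sm gh N21238
def N30944 : Q := sm gd N21239
def N30945 : Q := sm gi N21239
def N30946 : Q := sm gd N21240
def N30947 : Q := sm gi N21240
def N30948 : Q := sm gc N21241
def N30949 : Q := sm gi N21241
def N30950 : Q := sm gb N21243
def N30951 : Q := sm gi N21243
def N30952 : Q := sm gh N21244
def N30953 : Q := sm gh N21246
def N30954 : Q := sm gd N21247
def N30955 : Q := sm gi N21247
def N30956 : Q := sm gc N21248
def N30957 : Q := sm ge N21248
def N30958 : Q := sm gi N21248
def N30959 : Q := sm gc N21250
def N30960 : Q := sm gi N21250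
def N30961 : Q := sm gb N21252
def N30962 : Q := sm gi N21252
def N30963 : Q := sm gh N21253
def N30964 : Q := sm ga N21254
def N30965 : Q := sm gi N21254
def N30966 : Q := sm gh N21255
def N30967 : Q := sm gd N21257
def N30968 : Q := sm gg N21257
def N30969 : Q := sm gh N21257
def N30970 : Q := sm gj N21258
def N30971 : Q := sm gh N21258
def N30973 : Q := sm gi N21259
def N30977 : Q := sm gg N21262
def N30978 : Q := sm gh N21262
def N30979 : Q := sm gf N21263
def N30980 : Q := sm gj N21263
def N30981 : Q := sm gh N21263
def N30982 : Q := sm gd N21264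
def N30983 : Q := sm gi N21264
def N30984 : Q := sm gh N21265
def N30985 : Q := sm gd N21266
def N30986 : Q := sm gi N21266
def N30988 : Q := sm gi N21267
def N30989 : Q := sm gf N21269
def N30992 : Q := sm gj N21271
def N30993 : Q := sm gh N21271
def N30994 : Q := sm gh N21272
def N30995 : Q := sm gd N21273
def N30996 : Q := sm gi N21273
def N30997 : Q := sm gc N21274
def N30998 : Q := sm gi N21274
def N30999 : Q := sm gi N21276
def N31000 : Q := sm gf N21278
def N31001 : Q := sm gj N21278
def N31002 : Q := sm gh N21278
def N31003 : Q := sm gd N21279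
def N31004 : Q := sm gi N21279
def N31005 : Q := sm gj N21280
def N31006 : Q := sm gh N21280
def N31007 : Q := sm gh N21281
def N31008 : Q := sm gd N21282
def N31009 : Q := sm gi N21282
def N31010 : Q := sm gc N21283
def N31011 : Q := sm ge N21283
def N31012 : Q := sm gi N21283
def N31013 : Q := sm gd N21285
def N31014 : Q := sm gi N21285
def N31015 : Q := sm ge N21286
def N31016 : Q := sm gi N21286
def N31017 : Q := sm gf N21288
def N31018 : Q := sm gi N21288
def N31019 : Q := sm gh N21289
def N31020 : Q := sm gg N21290
def N31021 : Q := sm gi N21290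
def N31023 : Q := sm gg N21293
def N31024 : Q := sm gh N21293
def N31025 : Q := sm gd N21294
def N31026 : Q := sm gi N21294
def N31027 : Q := sm gd N21295
def N31028 : Q := sm gi N21295
def N31029 : Q := sm gc N21296
def N31030 : Q := sm gi N21296
def N31031 : Q := sm gb N21298
def N31032 : Q := sm gi N21298
def N31033 : Q := sm gh N21299
def N31034 : Q := sm gh N21301
def N31035 : Q := sm gd N21302
def N31036 : Q := sm gi N21302
def N31037 : Q := sm gc N21303
def N31038 : Q := sm ge N21303
def N31039 : Q := sm gi N21303
def N31041 : Q := sm gi N21305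
def N31042 : Q := sm gb N21307
def N31043 : Q := sm gi N21307
def N31044 : Q := sm gh N21308
def N31045 : Q := sm ga N21309
def N31046 : Q := sm gi N21309
def N31047 : Q := sm gh N21310
def N31048 : Q := sm gc N21312
def N31049 : Q := sm gg N21312
def N31050 : Q := sm gh N21312
def N31051 : Q := sm gf N21313
def N31052 : Q := sm gj N21313
def N31053 : Q := sm gh N21313
def N31054 : Q := sm gd N21314
def N31055 : Q := sm gi N21314
def N31056 : Q := sm gh N21315
def N31057 : Q := sm gd N21316
def N31058 : Q := sm gi N21316
def N31060 : Q := sm ge N21317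
def N31062 : Q := sm ge N21319
def N31064 : Q := sm gf N21320
def N31066 : Q := sm gh N21321
def N31067 : Q := sm gf N21322
def N31068 : Q := sm gj N21322
def N31069 : Q := sm gh N21322
def N31070 : Q := sm gd N21323
def N31071 : Q := sm gi N21323
def N31072 : Q := sm gj N21324
def N31073 : Q := sm gh N21324
def N31074 : Q := sm gh N21325
def N31075 : Q := sm gd N21326
def N31076 : Q := sm gi N21326
def N31077 : Q := sm gc N21327
def N31078 : Q := sm ge N21327
def N31079 : Q := sm gi N21327
def N31080 : Q := sm gd N21329
def N31081 : Q := sm gi N21329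
def N31082 : Q := sm ge N21330
def N31083 : Q := sm gi N21330
def N31084 : Q := sm gf N21332
def N31085 : Q := sm gi N21332
def N31086 : Q := sm gh N21333
def N31087 : Q := sm gg N21334
def N31088 : Q := sm gi N21334
def N31090 : Q := sm gg N21337
def N31091 : Q := sm gh N21337
def N31092 : Q := sm gd N21338
def N31093 : Q := sm gi N21338
def N31094 : Q := sm gd N21339
def N31095 : Q := sm gi N21339
def N31096 : Q := sm gc N21340
def N31097 : Q := sm gi N21340

end Cfsg.Agent.Helper28.FicA
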