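import Cfsg.Agent.Helper28.FicB29

/-! # The Fi₂₃ presentation, cosets of the subgroup generated by a, …, i: the coset enumeration, part 30 (helper28; generated) -/

set_option autoImplicit false

noncomputable section

namespace Cfsg.Agent.Helper28.FicA

open Cfsg.Agent.Helper28.CosetTable

theorem L508887 : N46291 = N43590 := eqes L508886 (flp_f L368654)
theorem L508888 : N46291 = N43590 := eqc rfl L508887 rfl
theorem L508890 : sm gh N29907 = N46303 := trfs L508869 L391286 rfl
theorem L508891 : N46303 = N43018 := eqes L508890 (flp_h L363795)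
theorem L508892 : N46303 = N43018 := eqc rfl L508891 rfl
theorem L508895 : sm gc N43018 = N31738 := trfs L508892 L391288 rfl
theorem L508896 : N31738 = N29514 := eqes L508895 (flp_c L363787)
theorem L508897 : N31738 = N29514 := eqc rfl L508896 rfl
theorem L508905 : sm gf N29514 = N46293 := trfs L508897 (flp_f L391215) rfl
theorem L508906 : N46293 = N43013 := eqes L508905 (flp_f L363741)
theorem L508907 : N46293 = N43013 := eqc rfl L508906 rfl
theorem L508911 : sm gi N29514 = N46279 := trfs L508897 (flp_i L391108) rfl
theorem L508912 : N46279 = N43019 := eqes L508911 L363797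
theorem L508913 : N46279 = N43019 := eqc rfl L508912 rfl
theorem L508918 : sm gh N43019 = N31719 := trfs L508913 (flp_h L391101) rfl
theorem L508921 : sm gj N43013 = N31735 := trfs L508907 L391217 rfl
theorem L508922 : N31735 = N29512 := eqes L508921 L363743
theorem L508923 : N31735 = N29512 := eqc rfl L508922 rfl
theorem L508936 : sm gh N29512 = N21777 := trfs L508923 (flp_h L268866) rfl
theorem L508937 : N21777 = N20541 := eqes L508936 L250202
theorem L508938 : N21777 = N20541 := eqc rfl L508937 rfl
theorem L508939 : sm gi N29512 = N46276 := trfs L508923 (flp_i L391082) rfl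
theorem L508940 : N46276 = N43017 := eqes L508939 L363776
theorem L508941 : N46276 = N43017 := eqc rfl L508940 rfl
theorem L508944 : sm gh N43017 = N31717 := trfs L508941 (flp_h L391077) rfl
theorem L508949 : sm gd N20541 = N14958 := trfs L508938 L184973 rfl
theorem L508950 : N14958 = N14125 := eqes L508949 (flp_d L174584)
theorem L508951 : N14958 = N14125 := eqc rfl L508950 rfl
theorem L508952 : sm ge N20541 = N31734 := trfs L508938 (flp_e L268863) rfl
theorem L508953 : N31734 = N29905 := eqes L508952 L253554
theorem L508954 : N31734 = N29905 := eqc rfl L508953 rfl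
theorem L508956 : sm gg N20541 = N29936 := trfs L508938 (flp_g L253814) rfl
theorem L508957 : N29936 = N14938 := eqes L508956 L174591
theorem L508958 : N29936 = N14938 := eqc rfl L508957 rfl
theorem L508960 : sm gi N20541 = N14957 := trfs L508938 (flp_i L184970) rfl
theorem L508961 : N14957 = N29906 := eqes L508960 L253563
theorem L508962 : N29906 = N14957 := (eqc rfl L508961 rfl).symm
theorem L508967 : sm gd N14957 = N20542 := trfs L508962 L253568 rfl
theorem L508968 : N20542 = N10290 := eqes L508967 (flp_d L127378)
theorem L508969 : N20542 = N10290 := eqc rfl L508968 rfl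
theorem L508970 : sm ge N14957 = N43596 := trfs L508962 (flp_e L368710) rfl
theorem L508971 : N43596 = N21776 := eqes L508970 L184965
theorem L508972 : N43596 = N21776 := eqc rfl L508971 rfl
theorem L508974 : sm gg N14957 = N21750 := trfs L508962 L253572 rfl
theorem L508975 : N21750 = N20561 := eqes L508974 (flp_g L174753)
theorem L508976 : N21750 = N20561 := eqc rfl L508975 rfl
theorem L508981 : sm gi N14957 = N20541 := trfs L508962 (flp_i L253563) rfl
theorem L508988 : sm ga N20561 = N14971 := trfs L508976 L184762 rfl
theorem L508989 : N14971 = N29883 := eqes L508988 (flp_a L253357)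
theorem L508990 : N29883 = N14971 := (eqc rfl L508989 rfl).symm
theorem L508992 : sm gc N20561 = N31696 := trfs L508976 (flp_c L268568) rfl
theorem L508993 : N31696 = N29934 := eqes L508992 L253793
theorem L508994 : N31696 = N29934 := eqc rfl L508993 rfl
theorem L508995 : sm gd N20561 = N14939 := trfs L508976 L184765 rfl
theorem L508996 : N14939 = N14138 := eqes L508995 (flp_d L174748)
theorem L508997 : N14939 = N14138 := eqc rfl L508996 rfl
theorem L508998 : sm ge N20561 = N31697 := trfs L508976 (flp_e L268578) rfl
theorem L508999 : N31697 = N29935 := eqes L508998 L253801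
theorem L509000 : N31697 = N29935 := eqc rfl L508999 rfl
theorem L509002 : sm gj N20561 = N31693 := trfs L508976 (flp_j L268549) rfl
theorem L509003 : N31693 = N29932 := eqes L509002 (flp_j L253781)
theorem L509004 : N31693 = N29932 := eqc rfl L509003 rfl
theorem L509011 : sm gc N29932 = N46241 := trfs L509004 (flp_c L390801) rfl
theorem L509012 : N46241 = N43635 := eqes L509011 L369024
theorem L509013 : N46241 = N43635 := eqc rfl L509012 rfl
theorem L509015 : sm ge N29932 = N46242 := trfs L509004 (flp_e L390813) rfl
theorem L509016 : N46242 = N43636 := eqes L509015 L369032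
theorem L509017 : N46242 = N43636 := eqc rfl L509016 rfl
theorem L509018 : sm gf N29932 = N21752 := trfs L509004 L268547 rfl
theorem L509019 : N21752 = N20563 := eqes L509018 L253779
theorem L509020 : N21752 = N20563 := eqc rfl L509019 rfl
theorem L509021 : sm gg N29932 = N46238 := trfs L509004 (flp_g L390778) rfl
theorem L509022 : N46238 = N43633 := eqes L509021 (flp_g L369009)
theorem L509023 : N46238 = N43633 := eqc rfl L509022 rfl
theorem L509024 : sm gh N29932 = N46243 := trfs L509004 L390819 rfl
theorem L509025 : N46243 = N43612 := eqes L509024 (flp_h L368848)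
theorem L509026 : N46243 = N43612 := eqc rfl L509025 rfl
theorem L509027 : sm gi N29932 = N21746 := trfs L509004 (flp_i L268540) rfl
theorem L509028 : N21746 = N43637 := eqes L509027 L369038
theorem L509029 : N43637 = N21746 := (eqc rfl L509028 rfl).symm
theorem L509032 : sm gf N21746 = N29939 := trfs L509029 L369043 rfl
theorem L509033 : N29939 = N14940 := eqes L509032 L184732
theorem L509034 : N29939 = N14940 := eqc rfl L509033 rfl
theorem L509036 : sm gi N21746 = N29932 := trfs L509029 (flp_i L369038) rfl
theorem L509040 : sm gc N14940 = N43646 := trfs L509034 (flp_c L369112) rfl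
theorem L509041 : N43646 = N21751 := eqes L509040 L184769
theorem L509042 : N43646 = N21751 := eqc rfl L509041 rfl
theorem L509044 : sm ge N14940 = N43648 := trfs L509034 (flp_e L369131) rfl
theorem L509045 : N43648 = N10490 := eqes L509044 L127253
theorem L509046 : N43648 = N10490 := eqc rfl L509045 rfl
theorem L509060 : sm gi N10490 = N29938 := trfs L509046 (flp_i L369126) rfl
theorem L509061 : N29938 = N15247 := eqes L509060 L129812
theorem L509062 : N29938 = N15247 := eqc rfl L509061 rfl
theorem L509067 : sm gc N15247 = N43645 := trfs L509062 (flp_c L369104) rfl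
theorem L509068 : N43645 = N22189 := eqes L509067 (flp_c L188431)
theorem L509069 : N43645 = N22189 := eqc rfl L509068 rfl
theorem L509082 : sm gh N15247 = N43618 := trfs L509062 (flp_h L368894) rfl
theorem L509083 : N43618 = N22190 := eqes L509082 L188437
theorem L509084 : N43618 = N22190 := eqc rfl L509083 rfl
theorem L509087 : sm ge N22190 = N29921 := trfs L509084 (flp_e L368888) rfl
theorem L509088 : N29921 = N31701 := eqes L509087 (flp_e L268613)
theorem L509089 : N31701 = N29921 := (eqc rfl L509088 rfl).symm
theorem L509091 : sm gj N22190 = N29924 := trfs L509084 L368892 rfl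
theorem L509092 : N29924 = N15250 := eqes L509091 L188443
theorem L509093 : N29924 = N15250 := eqc rfl L509092 rfl
theorem L509098 : sm gc N15250 = N43621 := trfs L509093 (flp_c L368914) rfl
theorem L509099 : N43621 = N22193 := eqes L509098 (flp_c L188466)
theorem L509100 : N43621 = N22193 := eqc rfl L509099 rfl
theorem L509104 : sm gf N15250 = N43623 := trfs L509093 L368926 rfl
theorem L509105 : N43623 = N22187 := eqes L509104 (flp_f L188416)
theorem L509106 : N43623 = N22187 := eqc rfl L509105 rfl
theorem L509120 : sm gh N22187 = N29943 := trfs L509106 L368930 rfl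
theorem L509121 : N29943 = N15245 := eqes L509120 (flp_h L188411)
theorem L509122 : N29943 = N15245 := eqc rfl L509121 rfl
theorem L509139 : sm gi N15245 = N43656 := trfs L509122 L369187 rfl
theorem L509140 : N43656 = N10488 := eqes L509139 (flp_i L129794)
theorem L509141 : N43656 = N10488 := eqc rfl L509140 rfl
theorem L509143 : sm gd N10488 = N29955 := trfs L509141 L369190 rfl
theorem L509144 : N29955 = N7229 := eqes L509143 (flp_d L89565)
theorem L509145 : N29955 = N7229 := eqc rfl L509144 rfl
theorem L509161 : sm gh N7229 = N43668 := trfs L509145 L369287 rfl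
theorem L509162 : N43668 = N4990 := eqes L509161 (flp_h L61947)
theorem L509163 : N43668 = N4990 := eqc rfl L509162 rfl
theorem L509171 : sm gf N4990 = N29956 := trfs L509163 L369292 rfl
theorem L509172 : N29956 = N3451 := eqes L509171 (flp_f L42931)
theorem L509173 : N29956 = N3451 := eqc rfl L509172 rfl
theorem L509188 : sm gj N3451 = N43667 := trfs L509173 (flp_j L369284) rfl
theorem L509189 : N43667 = N4991 := eqes L509188 L42940
theorem L509190 : N43667 = N4991 := eqc rfl L509189 rfl
theorem L509196 : sm ge N4991 = N29954 := trfs L509190 L369281 rfl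
theorem L509197 : N29954 = N3453 := eqes L509196 L42946
theorem L509198 : N29954 = N3453 := eqc rfl L509197 rfl
theorem L509213 : sm gh N3453 = N20574 := trfs L509198 (flp_h L253947) rfl
theorem L509214 : N20574 = N4995 := eqes L509213 L42978
theorem L509215 : N20574 = N4995 := eqc rfl L509214 rfl
theorem L509220 : sm gd N4995 = N14146 := trfs L509215 L174852 rfl
theorem L509221 : N14146 = N7085 := eqes L509220 (flp_d L60748)
theorem L509222 : N14146 = N7085 := eqc rfl L509221 rfl
theorem L509229 : sm gi N4995 = N14145 := trfs L509215 (flp_i L174848) rfl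
theorem L509230 : N14145 = N7235 := eqes L509229 L62002
theorem L509231 : N14145 = N7235 := eqc rfl L509230 rfl
theorem L509235 : sm gd N7235 = N9743 := trfs L509231 (flp_d L120525) rfl
theorem L509236 : N9743 = N10283 := eqes L509235 (flp_d L87853)
theorem L509237 : N10283 = N9743 := (eqc rfl L509236 rfl).symm
theorem L509241 : sm gj N7235 = N9744 := trfs L509231 L120530 rfl
theorem L509242 : N9744 = N4996 := eqes L509241 L62010
theorem L509243 : N9744 = N4996 := eqc rfl L509242 rfl
theorem L509248 : sm gd N4996 = N6722 := trfs L509243 (flp_d L83277) rfl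
theorem L509249 : N6722 = N7086 := eqes L509248 (flp_d L60755)
theorem L509250 : N7086 = N6722 := (eqc rfl L509249 rfl).symm
theorem L509255 : sm gg N4996 = N6723 := trfs L509243 L83281 rfl
theorem L509256 : N6723 = N3455 := eqes L509255 L42995
theorem L509257 : N6723 = N3455 := eqc rfl L509256 rfl
theorem L509263 : sm gd N3455 = N4648 := trfs L509257 (flp_d L57663) rfl
theorem L509264 : N4648 = N4892 := eqes L509263 (flp_d L42117)
theorem L509265 : N4892 = N4648 := (eqc rfl L509264 rfl).symm
theorem L509269 : sm gf N3455 = N4649 := trfs L509257 L57666 rfl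
theorem L509270 : N4649 = N2393 := eqes L509269 L29875
theorem L509271 : N4649 = N2393 := eqc rfl L509270 rfl
theorem L509274 : sm gi N3455 = N9747 := trfs L509257 L83300 rfl
theorem L509275 : N9747 = N2392 := eqes L509274 (flp_i L29869)
theorem L509276 : N9747 = N2392 := eqc rfl L509275 rfl
theorem L509280 : sm gd N2392 = N6724 := trfs L509276 L83304 rfl
theorem L509281 : N6724 = N3380 := eqes L509280 (flp_d L29247)
theorem L509282 : N6724 = N3380 := eqc rfl L509281 rfl
theorem L509291 : sm gh N2392 = N14150 := trfs L509276 L120567 rfl
theorem L509292 : N14150 = N1660 := eqes L509291 (flp_h L20785)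
theorem L509293 : N14150 = N1660 := eqc rfl L509292 rfl
theorem L509301 : sm gf N1660 = N9748 := trfs L509293 L120571 rfl
theorem L509302 : N9748 = N1155 := eqes L509301 (flp_f L14502)
theorem L509303 : N9748 = N1155 := eqc rfl L509302 rfl
theorem L509312 : sm gd N1155 = N14082 := trfs L509303 (flp_d L119993) rfl
theorem L509313 : N14082 = N802 := eqes L509312 (flp_d L10148)
theorem L509314 : N14082 = N802 := eqc rfl L509313 rfl
theorem L509331 : sm gh N802 = N9700 := trfs L509314 (flp_h L119988) rfl
theorem L509332 : N9700 = N1133 := eqes L509331 (flp_h L9967)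
theorem L509333 : N9700 = N1133 := eqc rfl L509332 rfl
theorem L509351 : sm gi N1133 = N6692 := trfs L509333 (flp_i L82898) rfl
theorem L509352 : N6692 = N1619 := eqes L509351 (flp_i L14164)
theorem L509353 : N6692 = N1619 := eqc rfl L509352 rfl
theorem L509361 : sm gd N1619 = N4627 := trfs L509353 (flp_d L57396) rfl
theorem L509362 : N4627 = N2329 := eqes L509361 L20253
theorem L509363 : N4627 = N2329 := eqc rfl L509362 rfl
theorem L509367 : sm gf N1619 = N9697 := trfs L509353 (flp_f L82876) rfl
theorem L509368 : N9697 = N2330 := eqes L509367 L20262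
theorem L509369 : N9697 = N2330 := eqc rfl L509368 rfl
theorem L509380 : sm gd N2330 = N6691 := trfs L509369 (flp_d L82873) rfl
theorem L509381 : N6691 = N3360 := eqes L509380 (flp_d L29071)
theorem L509382 : N6691 = N3360 := eqc rfl L509381 rfl
theorem L509386 : sm gg N2330 = N14076 := trfs L509369 (flp_g L119946) rfl
theorem L509387 : N14076 = N3362 := eqes L509386 L29084
theorem L509388 : N14076 = N3362 := eqc rfl L509387 rfl
theorem L509397 : sm gd N3362 = N9696 := trfs L509388 (flp_d L119942) rfl
theorem L509398 : N9696 = N4861 := eqes L509397 (flp_d L41846)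
theorem L509399 : N9696 = N4861 := eqc rfl L509398 rfl
theorem L509408 : sm gi N3362 = N20472 := trfs L509388 L173996 rfl
theorem L509409 : N20472 = N2343 := eqes L509408 L29092
theorem L509410 : N20472 = N2343 := eqc rfl L509409 rfl
theorem L509424 : sm gj N2343 = N29804 := trfs L509410 (flp_j L252702) rfl
theorem L509425 : N29804 = N3382 := eqes L509424 L29258
theorem L509426 : N29804 = N3382 := eqc rfl L509425 rfl
theorem L509447 : sm ge N3382 = N23067 := trfs L509426 (flp_e L418979) rfl
theorem L509448 : N23067 = N4839 := eqes L509447 (flp_e L41681)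
theorem L509449 : N23067 = N4839 := eqc rfl L509448 rfl
theorem L509462 : sm gf N4839 = N33298 := trfs L509449 (flp_f L282463) rfl
theorem L509463 : N33298 = N6955 := eqes L509462 (flp_f L59685)
theorem L509464 : N33298 = N6955 := eqc rfl L509463 rfl
theorem L509538 : sm gc N6955 = N22857 := trfs L509464 L282461 rfl
theorem L509539 : N22857 = N5277 := eqes L509538 L59682
theorem L509540 : N22857 = N5277 := eqc rfl L509539 rfl
theorem L509573 : sm gi N5277 = N33313 := trfs L509540 L282576 rfl
theorem L509574 : N33313 = N7623 := eqes L509573 (flp_i L65499)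
theorem L509575 : N33313 = N7623 := eqc rfl L509574 rfl
theorem L509579 : sm gj N7623 = N22858 := trfs L509575 L282584 rfl
theorem L509580 : N22858 = N5257 := eqes L509579 (flp_j L65489)
theorem L509581 : N22858 = N5257 := eqc rfl L509580 rfl
theorem L509587 : sm gd N5257 = N15736 := trfs L509581 L194389 rfl
theorem L509588 : N15736 = N7620 := eqes L509587 (flp_d L65462)
theorem L509589 : N15736 = N7620 := eqc rfl L509588 rfl
theorem L509603 : sm gi N7620 = N10822 := trfs L509589 (flp_i L134189) rfl
theorem L509604 : N10822 = N5274 := eqes L509603 L65464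
theorem L509605 : N10822 = N5274 := eqc rfl L509604 rfl
theorem L509611 : sm gf N5274 = N7531 := trfs L509605 L92564 rfl
theorem L509612 : N7531 = N3678 := eqes L509611 L45488
theorem L509613 : N7531 = N3678 := eqc rfl L509612 rfl
theorem L509622 : sm ge N3678 = N10931 := trfs L509613 (flp_e L93515) rfl
theorem L509623 : N10931 = N5327 := eqes L509622 (flp_e L45932)
theorem L509624 : N10931 = N5327 := eqc rfl L509623 rfl
theorem L509636 : sm gj N5327 = N15899 := trfs L509624 (flp_j L135616) rfl
theorem L509637 : N15899 = N7728 := eqes L509636 L66370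
theorem L509638 : N15899 = N7728 := eqc rfl L509637 rfl
theorem L509639 : sm gh N5327 = N7528 := trfs L509624 (flp_h L93511) rfl
theorem L509640 : N7528 = N7729 := eqes L509639 L66381
theorem L509641 : N7729 = N7528 := (eqc rfl L509640 rfl).symm
theorem L509654 : sm gh N7528 = N5327 := trfs L509641 (flp_h L66381) rfl
theorem L509656 : sm gi N7528 = N11230 := trfs L509641 L96102 rfl
theorem L509657 : N11230 = N5215 := eqes L509656 L64639
theorem L509658 : N11230 = N5215 := eqc rfl L509657 rfl
theorem L509667 : sm gh N5215 = N16244 := trfs L509658 (flp_h L138604) rfl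
theorem L509668 : N16244 = N7563 := eqes L509667 L64932
theorem L509669 : N16244 = N7563 := eqc rfl L509668 rfl
theorem L509673 : sm gd N7563 = N23665 := trfs L509669 (flp_d L201315) rfl
theorem L509674 : N23665 = N10983 := eqes L509673 L93955
theorem L509675 : N23665 = N10983 := eqc rfl L509674 rfl
theorem L509701 : sm gi N10983 = N16243 := trfs L509675 (flp_i L201309) rfl
theorem L509702 : N16243 = N15979 := eqes L509701 L136290
theorem L509703 : N16243 = N15979 := eqc rfl L509702 rfl
theorem L509707 : sm gc N15979 = N23664 := trfs L509703 L201300 rfl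
theorem L509708 : N23664 = N23271 := eqes L509707 (flp_c L197941)
theorem L509709 : N23664 = N23271 := eqc rfl L509708 rfl
theorem L509712 : sm gf N15979 = N23660 := trfs L509703 (flp_f L201259) rfl
theorem L509713 : N23660 = N23268 := eqes L509712 (flp_f L197917)
theorem L509714 : N23660 = N23268 := eqc rfl L509713 rfl
theorem L509716 : sm gj N15979 = N23662 := trfs L509703 (flp_j L201282) rfl
theorem L509717 : N23662 = N23270 := eqes L509716 (flp_j L197936)
theorem L509718 : N23662 = N23270 := eqc rfl L509717 rfl
theorem L509724 : sm gb N23270 = N18352 := trfs L509718 L201279 rfl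
theorem L509725 : N18352 = N15987 := eqes L509724 L197930
theorem L509726 : N18352 = N15987 := eqc rfl L509725 rfl
theorem L509727 : sm gc N23270 = N34502 := trfs L509718 L292613 rfl
theorem L509728 : N34502 = N33925 := eqes L509727 (flp_c L287791)
theorem L509729 : N34502 = N33925 := eqc rfl L509728 rfl
theorem L509746 : sm ga N33925 = N23710 := trfs L509729 L292615 rfl
theorem L509751 : sm gh N33925 = N23883 := trfs L509729 L292621 rfl
theorem L509764 : sm gi N15987 = N26734 := trfs L509726 L226606 rfl
theorem L509765 : N26734 = N10992 := eqes L509764 (flp_i L136363)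
theorem L509766 : N26734 = N10992 := eqc rfl L509765 rfl
theorem L509767 : sm ga N10992 = N17818 := trfs L509766 L226608 L491684
theorem L509768 : N17818 = N8504 := eqes L509767 L94034
theorem L509769 : N17818 = N8504 := eqc rfl L509768 rfl
theorem L509779 : sm gb N8504 = N12613 := trfs L509769 L151612 rfl
theorem L509780 : N12613 = N12340 := eqes L509779 (flp_b L105300)
theorem L509781 : N12613 = N12340 := eqc rfl L509780 rfl
theorem L509802 : sm gi N12340 = N8708 := trfs L509781 L491695 rfl
theorem L509803 : N8708 = N17960 := eqes L509802 L152784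
theorem L509804 : N17960 = N8708 := (eqc rfl L509803 rfl).symm
theorem L509805 : sm ga N8708 = N26091 := trfs L509804 (flp_a L221362) rfl
theorem L509806 : N26091 = N11196 := eqes L509805 (flp_a L95813)
theorem L509807 : N26091 = N11196 := eqc rfl L509806 rfl
theorem L509831 : sm gj N11196 = N17914 := trfs L509807 L221368 rfl
theorem L509832 : N17914 = N7708 := eqes L509831 L95816
theorem L509833 : N17914 = N7708 := eqc rfl L509832 rfl
theorem L509845 : sm gc N7708 = N26093 := trfs L509833 (flp_c L221381) rfl
theorem L509846 : N26093 = N11198 := eqes L509845 L95832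
theorem L509847 : N26093 = N11198 := eqc rfl L509846 rfl
theorem L509855 : sm gi N7708 = N12308 := trfs L509833 (flp_i L152407) rfl
theorem L509856 : N12308 = N11199 := eqes L509855 L95841
theorem L509857 : N12308 = N11199 := eqc rfl L509856 rfl
theorem L509860 : N8711 = N8495 := L491550.trans L491733
theorem L509871 : sm gg N11199 = N8473 := trfs L509857 L105038 rfl
theorem L509872 : N8473 = N7711 := eqes L509871 L95848
theorem L509873 : N8473 = N7711 := eqc rfl L509872 rfl
theorem L509876 : sm ga N7711 = N5857 := trfs L509873 L72573 rfl
theorem L509877 : N5857 = N6004 := eqes L509876 L66231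
theorem L509878 : N5982 = N5857 := (eqc rfl L509877 L491565).symm
theorem L509881 : sm gc N7711 = N12310 := trfs L509873 L105050 rfl
theorem L509882 : N12310 = N11201 := eqes L509881 (flp_c L95862)
theorem L509883 : N12310 = N6054 := eqc rfl L509882 L491561
theorem L509896 : sm gd N6054 = N17894 := trfs L509883 (flp_d L152248) rfl
theorem L509897 : N17894 = N4183 := eqes L509896 (flp_d L51934)
theorem L509898 : N17894 = N4183 := eqc rfl L509897 rfl
theorem L509904 : sm gi N6054 = N17916 := trfs L509883 L152423 rfl
theorem L509905 : N17916 = N4210 := eqes L509904 L51940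
theorem L509906 : N17916 = N4210 := eqc rfl L509905 rfl
theorem L509908 : sm gb N4210 = N26095 := trfs L509906 (flp_b L221397) rfl
theorem L509909 : N26095 = N6087 := eqes L509908 (flp_b L52221)
theorem L509910 : N26095 = N6087 := eqc rfl L509909 rfl
theorem L509917 : sm gg N4210 = N11198 := trfs L509906 (flp_g L221384) L509847
theorem L509918 : N11198 = N6090 := eqes L509917 L52243
theorem L509919 : N11198 = N6090 := eqc rfl L509918 rfl
theorem L509921 : sm gh N4210 = N26096 := trfs L509906 L221402 rfl
theorem L509922 : N26096 = N6091 := eqes L509921 L52250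
theorem L509923 : N26096 = N5378 := eqc rfl L509922 L491595
theorem L509927 : sm gb N5378 = N38056 := trfs L509923 (flp_b L322022) rfl
theorem L509928 : N38056 = N7793 := eqes L509927 L66928
theorem L509929 : N38056 = N7793 := eqc rfl L509928 rfl
theorem L509970 : sm gh N7793 = N6087 := trfs L509929 (flp_h L322019) L509910
theorem L509971 : N6087 = N11200 := eqes L509970 (flp_h L95856)
theorem L509972 : N11200 = N6087 := (eqc rfl L509971 rfl).symm
theorem L509982 : sm gh N6087 = N7793 := trfs L509972 L95856 rfl
theorem L509983 : N7793 = N8825 := eqes L509982 L75426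
theorem L509984 : N8825 = N7793 := (eqc rfl L509983 rfl).symm
theorem L510005 : sm gh N7793 = N6087 := trfs L509984 (flp_h L75426) rfl
theorem L510018 : sm gc N6090 = N7708 := trfs L509919 (flp_c L95832) rfl
theorem L510019 : N7708 = N8724 := eqes L510018 (flp_c L74593)
theorem L510020 : N8724 = N7708 := (eqc rfl L510019 rfl).symm
theorem L510033 : sm gc N7708 = N6090 := trfs L510020 L74593 rfl
theorem L510047 : sm gi N7708 = N12589 := trfs L510020 (flp_i L107329) rfl
theorem L510048 : N12589 = N11199 := eqes L510047 L95841
theorem L510049 : N12589 = N11199 := eqc rfl L510048 rfl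
theorem L510061 : sm gg N11199 = N8665 := trfs L510049 (flp_g L107320) rfl
theorem L510062 : N8665 = N7711 := eqes L510061 L95848
theorem L510063 : N8665 = N7711 := eqc rfl L510062 rfl
theorem L510068 : N6004 = N5857 := L491565.trans L509878
theorem L510069 : sm gb N7711 = N12579 := trfs L510063 (flp_b L107247) rfl
theorem L510070 : N12579 = N11190 := eqes L510069 (flp_b L95757)
theorem L510071 : N12579 = N10961 := eqc rfl L510070 L469003
theorem L510082 : sm gc N10961 = N18306 := trfs L510071 L155596 rfl
theorem L510083 : N18306 = N15946 := eqes L510082 L136022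
theorem L510084 : N18306 = N15946 := eqc rfl L510083 rfl
theorem L510085 : sm gd N10961 = N8660 := trfs L510071 (flp_d L107245) rfl
theorem L510086 : N8660 = N7548 := eqes L510085 (flp_d L93775)
theorem L510087 : N8660 = N7548 := eqc rfl L510086 rfl
theorem L510103 : sm gh N7548 = N12581 := trfs L510087 L107262 rfl
theorem L510104 : N12581 = N5205 := eqes L510103 (flp_h L64808)
theorem L510105 : N12581 = N5205 := eqc rfl L510104 rfl
theorem L510106 : sm gi N7548 = N6006 := trfs L510087 L74086 rfl
theorem L510107 : N6006 = N5309 := eqes L510106 (flp_i L469025)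
theorem L510108 : N6006 = N5309 := eqc rfl L510107 rfl
theorem L510109 : sm ga N5309 = N8456 := trfs L510108 (flp_a L72435) rfl
theorem L510110 : N8456 = N7685 := eqes L510109 (flp_a L66008)
theorem L510111 : N8456 = N7565 := eqc rfl L510110 L457302
theorem L510117 : sm ge N5309 = N4149 := trfs L510108 (flp_e L51563) rfl
theorem L510118 : N4149 = N3666 := eqes L510117 L45777
theorem L510119 : N4149 = N3666 := eqc rfl L510118 rfl
theorem L510130 : sm gf N3666 = N2868 := trfs L510119 (flp_f L35770) rfl
theorem L510131 : N2868 = N2536 := eqes L510130 L31769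
theorem L510132 : N2868 = N2536 := eqc rfl L510131 rfl
theorem L510142 : sm gc N2536 = N3674 := trfs L510132 (flp_c L31840) rfl
theorem L510143 : N3674 = N3663 := eqes L510142 (flp_c L31743)
theorem L510144 : N3674 = N3663 := eqc rfl L510143 rfl
theorem L510152 : sm gi N2536 = N4124 := trfs L510132 (flp_i L35575) rfl
theorem L510153 : N4124 = N3667 := eqes L510152 L31773
theorem L510154 : N4124 = N3599 := eqc rfl L510153 L456051
theorem L510164 : sm gh N3599 = N5971 := trfs L510154 L51279 rfl
theorem L510165 : N5971 = N2491 := eqes L510164 (flp_h L31179)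
theorem L510166 : N5971 = N2491 := eqc rfl L510165 rfl
theorem L510180 : sm gi N2491 = N8664 := trfs L510166 L74109 rfl
theorem L510181 : N8664 = N3586 := eqes L510180 (flp_i L31071)
theorem L510182 : N8664 = N1768 := eqc rfl L510181 L456094
theorem L510196 : sm gh N1768 = N6010 := trfs L510182 L74115 rfl
theorem L510197 : N6010 = N1227 := eqes L510196 (flp_h L15480)
theorem L510198 : N6010 = N1227 := eqc rfl L510197 rfl
theorem L510207 : sm gg N1227 = N7449 := trfs L510198 (flp_g L73696) L444042
theorem L510208 : N7449 = N1751 := eqes L510207 (flp_g L15340)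
theorem L510209 : N7449 = N1751 := eqc rfl L510208 rfl
theorem L510227 : sm gi N1751 = N10812 := trfs L510209 L92470 rfl
theorem L510228 : N10812 = N2515 := eqes L510227 (flp_i L21915)
theorem L510229 : N10812 = N2515 := eqc rfl L510228 rfl
theorem L510231 : sm gb N2515 = N8313 := trfs L510229 L92474 rfl
theorem L510232 : N8313 = N1747 := eqes L510231 L21911
theorem L510233 : N8313 = N1747 := eqc rfl L510232 rfl
theorem L510244 : N7469 = N3635 := L444278.trans L456007
theorem L510310 : sm gf N1747 = N12068 := trfs L510233 (flp_f L103093) rfl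
theorem L510311 : N12068 = N2517 := eqes L510310 L21926
theorem L510312 : N12068 = N2517 := eqc rfl L510311 rfl
theorem L510324 : sm gg N2517 = N8614 := trfs L510312 (flp_g L149462) L444315
theorem L510325 : N8614 = N3638 := eqes L510324 L31528
theorem L510326 : N8614 = N3638 := eqc rfl L510325 rfl
theorem L510334 : sm ge N3638 = N12513 := trfs L510326 (flp_e L106735) rfl
theorem L510335 : N12513 = N5265 := eqes L510334 (flp_e L45411)
theorem L510336 : N12513 = N5265 := eqc rfl L510335 rfl
theorem L510357 : sm gh N5265 = N8611 := trfs L510336 (flp_h L106729) rfl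
theorem L510358 : N8611 = N7636 := eqes L510357 L65599
theorem L510359 : N8611 = N7636 := eqc rfl L510358 rfl
theorem L510360 : sm gi N5265 = N17548 := trfs L510336 L444811 rfl
theorem L510361 : N17548 = N3653 := eqes L510360 L45413
theorem L510362 : N17548 = N3653 := eqc rfl L510361 rfl
theorem L510374 : sm gj N3653 = N25547 := trfs L510362 (flp_j L216923) rfl
theorem L510375 : N25547 = N5289 := eqes L510374 L45600
theorem L510376 : N25547 = N5289 := eqc rfl L510375 rfl
theorem L510384 : sm gf N5289 = N37239 := trfs L510376 (flp_f L315306) rfl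
theorem L510385 : N37239 = N7669 := eqes L510384 (flp_f L65871)
theorem L510386 : N37239 = N7669 := eqc rfl L510385 rfl
theorem L510394 : sm gh N7669 = N25545 := trfs L510386 (flp_h L315300) rfl
theorem L510395 : N25545 = N11138 := eqes L510394 L95313
theorem L510396 : N25545 = N11138 := eqc rfl L510395 rfl
theorem L510411 : sm gi N11138 = N17612 := trfs L510396 L216906 rfl
theorem L510412 : N17612 = N16204 := eqes L510411 L138238
theorem L510413 : N17612 = N16204 := eqc rfl L510412 rfl
theorem L510433 : sm gh N16204 = N25644 := trfs L510413 L217699 rfl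
theorem L510434 : N25644 = N23486 := eqes L510433 (flp_h L199847)
theorem L510435 : N25644 = N23486 := eqc rfl L510434 rfl
theorem L510447 : sm gj N23486 = N17613 := trfs L510435 L217707 rfl
theorem L510448 : N17613 = N16127 := eqes L510447 L199845
theorem L510449 : N17613 = N16127 := eqc rfl L510448 rfl
theorem L510454 : sm gb N16127 = N22948 := trfs L510449 (flp_b L195184) rfl
theorem L510455 : N22948 = N23476 := eqes L510454 (flp_b L199755)
theorem L510456 : N23476 = N22948 := (eqc rfl L510455 rfl).symm
theorem L510469 : sm gi N16127 = N12511 := trfs L510449 L217716 L444826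
theorem L510470 : N12511 = N11086 := eqes L510469 (flp_i L137623)
theorem L510471 : N12511 = N11086 := eqc rfl L510470 rfl
theorem L510473 : sm gb N11086 = N18191 := trfs L510471 (flp_b L154711) rfl
theorem L510474 : N18191 = N16117 := eqes L510473 (flp_b L137538)
theorem L510475 : N18191 = N16117 := eqc rfl L510474 rfl
theorem L510489 : sm gc N16117 = N23501 := trfs L510475 (flp_c L199960) rfl
theorem L510490 : N23501 = N23456 := eqes L510489 (flp_c L199615)
theorem L510491 : N23501 = N23456 := eqc rfl L510490 rfl
theorem L510506 : sm gi N16117 = N26371 := trfs L510475 (flp_i L223745) rfl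
theorem L510507 : N26371 = N23476 := eqes L510506 L199753
theorem L510508 : N26371 = N22948 := eqc rfl L510507 L510456
theorem L510525 : sm gh N22948 = N38457 := trfs L510508 L325415 rfl
theorem L510526 : N38457 = N15759 := eqes L510525 (flp_h L195180)
theorem L510527 : N38457 = N15759 := eqc rfl L510526 rfl
theorem L510531 : sm ge N15759 = N26667 := trfs L510527 L325419 rfl
theorem L510532 : N26667 = N10958 := eqes L510531 L134402
theorem L510533 : N26667 = N10958 := eqc rfl L510532 rfl
theorem L510550 : sm gi N10958 = N38892 := trfs L510533 L328770 rfl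
theorem L510551 : N38892 = N15875 := eqes L510550 (flp_i L135404)
theorem L510552 : N38892 = N7749 := eqc rfl L510551 L456706
theorem L510556 : sm gh N7749 = N26840 := trfs L510552 L328777 rfl
theorem L510557 : N26840 = N5341 := eqes L510556 (flp_h L66529)
theorem L510558 : N26840 = N5341 := eqc rfl L510557 rfl
theorem L510575 : sm gi N5341 = N18428 := trfs L510558 (flp_i L227420) rfl
theorem L510576 : N18428 = N7698 := eqes L510575 (flp_i L66117)
theorem L510577 : N18428 = N7698 := eqc rfl L510576 rfl
theorem L510585 : sm gd N7698 = N26839 := trfs L510577 L227413 rfl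
theorem L510586 : N26839 = N5369 := eqes L510585 L66115
theorem L510587 : N26839 = N5369 := eqc rfl L510586 rfl
theorem L510631 : sm ge N5369 = N39143 := trfs L510587 L330780 rfl
theorem L510632 : N39143 = N5369 := eqes L510631 L46296
theorem L510633 : N39143 = N5369 := eqc rfl L510632 rfl
theorem L510639 : sm gb N5369 = N26893 := trfs L510633 L330782 rfl
theorem L510640 : N26893 = N3713 := eqes L510639 L46292
theorem L510641 : N26893 = N3713 := eqc rfl L510640 rfl
theorem L510645 : sm gd N3713 = N38705 := trfs L510641 (flp_d L327335) rfl
theorem L510646 : N38705 = N5313 := eqes L510645 (flp_d L45811)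
theorem L510647 : N38705 = N5313 := eqc rfl L510646 rfl
theorem L510680 : sm ge N5313 = N26533 := trfs L510647 (flp_e L327330) rfl
theorem L510681 : N26533 = N7634 := eqes L510680 (flp_e L65587)
theorem L510682 : N26533 = N7634 := eqc rfl L510681 rfl
theorem L510699 : sm gh N7634 = N38688 := trfs L510682 (flp_h L327194) rfl
theorem L510700 : N38688 = N11086 := eqes L510699 L94894
theorem L510701 : N38688 = N11086 := eqc rfl L510700 rfl
theorem L510751 : sm gf N11086 = N26526 := trfs L510701 L327191 rfl
theorem L510752 : N26526 = N7636 := eqes L510751 L94900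
theorem L510753 : N26526 = N7636 := eqc rfl L510752 rfl
theorem L510764 : sm gg N7636 = N18210 := trfs L510753 L224941 rfl
theorem L510765 : N18210 = N5266 := eqes L510764 L65605
theorem L510766 : N18210 = N5266 := eqc rfl L510765 rfl
theorem L510787 : sm gh N5266 = N12514 := trfs L510766 L154855 rfl
theorem L510788 : N12514 = N3637 := eqes L510787 (flp_h L45415)
theorem L510789 : N12514 = N3637 := eqc rfl L510788 rfl
theorem L510802 : sm ge N3637 = N18218 := trfs L510789 L154918 rfl
theorem L510803 : N18218 = N2517 := eqes L510802 (flp_e L31520)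
theorem L510804 : N18218 = N2517 := eqc rfl L510803 rfl
theorem L510820 : sm gi N2517 = N26544 := trfs L510804 L225083 rfl
theorem L510821 : N26544 = N1753 := eqes L510820 L21932
theorem L510822 : N26544 = N1753 := eqc rfl L510821 rfl
theorem L510827 : sm gc N1753 = N38720 := trfs L510822 (flp_c L327451) rfl
theorem L510828 : N38720 = N2472 := eqes L510827 (flp_c L21524)
theorem L510829 : N38720 = N2472 := eqc rfl L510828 rfl
theorem L510840 : sm ge N2472 = N26542 := trfs L510829 L327455 rfl
theorem L510841 : N26542 = N3569 := eqes L510840 L30910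
theorem L510842 : N26542 = N3569 := eqc rfl L510841 rfl
theorem L510861 : sm gh N3569 = N38721 := trfs L510842 L327457 rfl
theorem L510862 : N38721 = N5164 := eqes L510861 L44504
theorem L510863 : N38721 = N5164 := eqc rfl L510862 rfl
theorem L510868 : sm gc N5164 = N26545 := trfs L510863 L327461 rfl
theorem L510869 : N26545 = N3654 := eqes L510868 L44508
theorem L510870 : N26545 = N3654 := eqc rfl L510869 rfl
theorem L510882 : sm gj N3654 = N38324 := trfs L510870 (flp_j L324299) rfl
theorem L510883 : N38324 = N5250 := eqes L510882 (flp_j L45277)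
theorem L510884 : N38324 = N5250 := eqc rfl L510883 rfl
theorem L510890 : sm gh N5250 = N26277 := trfs L510884 (flp_h L324294) rfl
theorem L510891 : N26277 = N3626 := eqes L510890 (flp_h L45270)
theorem L510892 : N26277 = N3626 := eqc rfl L510891 rfl
theorem L510894 : sm gb N3626 = N38283 := trfs L510892 (flp_b L323927) rfl
theorem L510895 : N38283 = N5244 := eqes L510894 (flp_b L45220)
theorem L510896 : N38283 = N5244 := eqc rfl L510895 rfl
theorem L510912 : sm gi N5244 = N26252 := trfs L510896 (flp_i L323925) rfl
theorem L510913 : N26252 = N7581 := eqes L510912 (flp_i L65105)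
theorem L510914 : N26252 = N7581 := eqc rfl L510913 rfl
theorem L510931 : sm gh N7581 = N38274 := trfs L510914 (flp_h L323863) rfl
theorem L510932 : N38274 = N11010 := eqes L510931 L94211
theorem L510933 : N38274 = N11010 := eqc rfl L510932 rfl
theorem L510935 : sm gd N11010 = N26248 := trfs L510933 (flp_d L323856) rfl
theorem L510936 : N26248 = N16013 := eqes L510935 L136612
theorem L510937 : N26248 = N16013 := eqc rfl L510936 rfl
theorem L510953 : sm gh N16013 = N18026 := trfs L510937 (flp_h L222700) rfl
theorem L510954 : N18026 = N16013 := eqes L510953 L136620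
theorem L510955 : N18026 = N16013 := eqc rfl L510954 rfl
theorem L510970 : sm gj N16013 = N12499 := trfs L510955 L153366 rfl
theorem L510971 : N12499 = N11081 := eqes L510970 L136617
theorem L510972 : N12499 = N11081 := eqc rfl L510971 rfl
theorem L511005 : sm gg N11081 = N18189 := trfs L510972 L154696 rfl
theorem L511006 : N18189 = N16119 := eqes L511005 (flp_g L137557)
theorem L511007 : N18189 = N16119 := eqc rfl L511006 rfl
theorem L511015 : sm gc N16119 = N26490 := trfs L511007 (flp_c L224669) rfl
theorem L511016 : N26490 = N23479 := eqes L511015 L199782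
theorem L511017 : N26490 = N23479 := eqc rfl L511016 rfl
theorem L511022 : sm gh N16119 = N26494 := trfs L511007 L224693 rfl
theorem L511023 : N26494 = N16119 := eqes L511022 L137560
theorem L511024 : N26494 = N16119 := eqc rfl L511023 rfl
theorem L511072 : sm gi N16119 = N38639 := trfs L511024 L326812 rfl
theorem L511073 : N38639 = N22950 := eqes L511072 (flp_i L472773)
theorem L511074 : N38639 = N22950 := eqc rfl L511073 rfl
theorem L511078 : sm gg N22950 = N26496 := trfs L511074 L326817 rfl
theorem L511079 : N26496 = N15762 := eqes L511078 L195207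
theorem L511080 : N26496 = N15762 := eqc rfl L511079 rfl
theorem L511084 : sm gc N15762 = N38633 := trfs L511080 (flp_c L326770) rfl
theorem L511085 : N38633 = N22952 := eqes L511084 L195220
theorem L511086 : N38633 = N22952 := eqc rfl L511085 rfl
theorem L511114 : sm gi N22952 = N26491 := trfs L511086 (flp_i L326767) rfl
theorem L511115 : N26491 = N33457 := eqes L511114 L283814
theorem L511116 : N33457 = N16121 := L459033.trans L472730
theorem L511117 : N26491 = N16121 := eqc rfl L511115 L511116
theorem L511118 : sm ga N16121 = N22987 := trfs L511117 (flp_a L315907) L459050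
theorem L511119 : N22987 = N23447 := eqes L511118 (flp_a L199544)
theorem L511120 : N23447 = N22987 := (eqc rfl L511119 rfl).symm
theorem L511135 : sm gb N22987 = N34187 := trfs L511120 L290120 rfl
theorem L511136 : N34187 = N33507 := eqes L511135 (flp_b L284196)
theorem L511137 : N34187 = N33507 := eqc rfl L511136 rfl
theorem L511167 : sm gc N33507 = N26418 := trfs L511137 L290125 rfl
theorem L511168 : N26418 = N23001 := eqes L511167 L284198
theorem L511169 : N26418 = N23001 := eqc rfl L511168 rfl
theorem L511188 : sm gi N23001 = N38529 := trfs L511169 L326017 rfl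
theorem L511189 : N38529 = N15797 := eqes L511188 (flp_i L195614)
theorem L511190 : N38529 = N15797 := eqc rfl L511189 rfl
theorem L511191 : sm gb N15797 = N26419 := trfs L511190 L326019 rfl
theorem L511192 : N26419 = N10864 := eqes L511191 (flp_b L134715)
theorem L511193 : N26419 = N10864 := eqc rfl L511192 rfl
theorem L511200 : sm gd N10864 = N38501 := trfs L511193 (flp_d L325777) rfl
theorem L511201 : N38501 = N7674 := eqes L511200 L92928
theorem L511202 : N38501 = N7674 := eqc rfl L511201 rfl
theorem L511214 : sm gi N7674 = N26397 := trfs L511202 (flp_i L325771) rfl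
theorem L511215 : N26397 = N11146 := eqes L511214 L95383
theorem L511216 : N26397 = N11146 := eqc rfl L511215 rfl
theorem L511222 : sm ge N11146 = N38500 := trfs L511216 L325764 rfl
theorem L511223 : N38500 = N7889 := eqes L511222 L95389
theorem L511224 : N38500 = N7889 := eqc rfl L511223 rfl
theorem L511239 : sm gc N7889 = N26398 := trfs L511224 L325768 rfl
theorem L511240 : N26398 = N5448 := eqes L511239 L67780
theorem L511241 : N26398 = N5448 := eqc rfl L511240 rfl
theorem L511251 : sm gf N5448 = N38502 := trfs L511241 L325780 rfl
theorem L511252 : N38502 = N3825 := eqes L511251 L47008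
theorem L511253 : N38502 = N3825 := eqc rfl L511252 rfl
theorem L511272 : sm gd N3825 = N26404 := trfs L511253 L325784 rfl
theorem L511273 : N26404 = N2654 := eqes L511272 L33172
theorem L511274 : N26404 = N2654 := eqc rfl L511273 rfl
theorem L511279 : sm gb N2654 = N38471 := trfs L511274 (flp_b L325523) rfl
theorem L511280 : N38471 = N3823 := eqes L511279 (flp_b L33154)
theorem L511281 : N38471 = N3524 := eqc rfl L511280 L452593
theorem L511306 : sm gf N3524 = N26380 := trfs L511281 (flp_f L325521) rfl
theorem L511307 : N26380 = N5093 := eqes L511306 L43872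
theorem L511308 : N26380 = N5093 := eqc rfl L511307 rfl
theorem L511315 : sm gc N5093 = N38469 := trfs L511308 (flp_c L325511) rfl
theorem L511316 : N38469 = N6786 := eqes L511315 (flp_c L58241)
theorem L511317 : N38469 = N6786 := eqc rfl L511316 rfl
theorem L511341 : sm ge N6786 = N26379 := trfs L511317 (flp_e L325508) rfl
theorem L511342 : N26379 = N4727 := eqes L511341 L58244
theorem L511343 : N26379 = N4727 := eqc rfl L511342 rfl
theorem L511363 : sm gi N4727 = N38470 := trfs L511343 L325514 rfl
theorem L511364 : N38470 = N3755 := eqes L511363 L453444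
theorem L511365 : N38470 = N3755 := eqc rfl L511364 rfl
theorem L511368 : sm gf N3755 = N26383 := trfs L511365 L325519 rfl
theorem L511369 : N26383 = N2600 := eqes L511368 L32558
theorem L511370 : N26383 = N2600 := eqc rfl L511369 rfl
theorem L511390 : sm gh N2600 = N38477 := trfs L511370 L325564 rfl
theorem L511391 : N38477 = N1803 := eqes L511390 (flp_h L22658)
theorem L511392 : N38477 = N1803 := eqc rfl L511391 rfl
theorem L511398 : sm gg N1803 = N26687 := trfs L511392 L325569 rfl
theorem L511399 : N26687 = N1262 := eqes L511398 L15798
theorem L511400 : N26687 = N1262 := eqc rfl L511399 rfl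
theorem L511413 : sm gf N1262 = N38915 := trfs L511400 (flp_f L328946) rfl
theorem L511414 : N38915 = N1816 := eqes L511413 L15908
theorem L511415 : N38915 = N1816 := eqc rfl L511414 rfl
theorem L511422 : sm gh N1816 = N26680 := trfs L511415 (flp_h L328941) rfl
theorem L511423 : N26680 = N2619 := eqes L511422 L22827
theorem L511424 : N26680 = N2619 := eqc rfl L511423 rfl
theorem L511439 : sm gi N2619 = N18317 := trfs L511424 (flp_i L226137) rfl
theorem L511440 : N18317 = N3292 := eqes L511439 (flp_i L453609)
theorem L511441 : N18317 = N3292 := eqc rfl L511440 rfl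
theorem L511449 : sm gf N3292 = N12586 := trfs L511441 L155685 rfl
theorem L511450 : N12586 = N2284 := eqes L511449 (flp_f L28500)
theorem L511451 : N12586 = N2284 := eqc rfl L511450 rfl
theorem L511485 : sm ge N2284 = N18320 := trfs L511451 L155705 rfl
theorem L511486 : N18320 = N1589 := eqes L511485 (flp_e L19865)
theorem L511487 : N18320 = N1589 := eqc rfl L511486 rfl
theorem L511504 : sm gg N1589 = N26382 := trfs L511487 (flp_g L223831) rfl
theorem L511505 : N26382 = N2271 := eqes L511504 (flp_g L19754)
theorem L511506 : N26382 = N2271 := eqc rfl L511505 rfl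
theorem L511541 : sm gj N2271 = N38161 := trfs L511506 (flp_j L322896) rfl
theorem L511542 : N38161 = N3259 := eqes L511541 (flp_j L28214)
theorem L511543 : N38161 = N3259 := eqc rfl L511542 rfl
theorem L511549 : sm ge N3259 = N26172 := trfs L511543 (flp_e L322890) rfl
theorem L511550 : N26172 = N4707 := eqes L511549 L40561
theorem L511551 : N26172 = N4707 := eqc rfl L511550 rfl
theorem L511558 : sm gc N4707 = N17974 := trfs L511551 (flp_c L222041) rfl
theorem L511559 : N17974 = N3541 := eqes L511558 L40566
theorem L511560 : N17974 = N3541 := eqc rfl L511559 rfl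
theorem L511581 : sm gi N3541 = N26174 := trfs L511560 L222057 rfl
theorem L511582 : N26174 = N5111 := eqes L511581 (flp_i L44038)
theorem L511583 : N26174 = N2588 := eqc rfl L511582 L452404
theorem L511584 : sm ga N2588 = N36830 := trfs L511583 (flp_a L311841) rfl
theorem L511585 : N36830 = N3731 := eqes L511584 (flp_a L32330)
theorem L511586 : N36830 = N3731 := eqc rfl L511585 rfl
theorem L511606 : sm gb N3731 = N2452 := trfs L511586 L311843 L459990
theorem L511607 : N2452 = N2925 := eqes L511606 L32332
theorem L511608 : N2925 = N2452 := (eqc rfl L511607 rfl).symm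
theorem L511626 : sm gh N2452 = N2030 := trfs L511608 (flp_h L25311) rfl
theorem L511627 : N2030 = N3534 := eqes L511626 (flp_h L30603)
theorem L511628 : N3534 = N2030 := (eqc rfl L511627 rfl).symm
theorem L511640 : sm gj N2030 = N2462 := trfs L511628 L30601 rfl
theorem L511641 : N2462 = N1417 := eqes L511640 L17653
theorem L511642 : N2462 = N1417 := eqc rfl L511641 rfl
theorem L511643 : sm gh N2030 = N2452 := trfs L511628 L30603 rfl
theorem L511653 : sm gg N1417 = N1723 := trfs L511642 L21440 rfl
theorem L511654 : N1723 = N993 := eqes L511653 L12385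
theorem L511655 : N1723 = N993 := eqc rfl L511654 rfl
theorem L511663 : sm gd N993 = N2481 := trfs L511655 L21601 rfl
theorem L511664 : N2481 = N686 := eqes L511663 (flp_d L8707)
theorem L511665 : N2481 = N686 := eqc rfl L511664 rfl
theorem L511683 : sm gh N686 = N3583 := trfs L511665 L31036 rfl
theorem L511684 : N3583 = N959 := eqes L511683 (flp_h L8444)
theorem L511685 : N3583 = N959 := eqc rfl L511684 rfl
theorem L511693 : sm ge N959 = N5172 := trfs L511685 (flp_e L44584) rfl
theorem L511694 : N5172 = N662 := eqes L511693 (flp_e L8438)
theorem L511695 : N5172 = N662 := eqc rfl L511694 rfl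
theorem L511714 : sm gi N662 = N7497 := trfs L511695 L64359 rfl
theorem L511715 : N7497 = N954 := eqes L511714 (flp_i L8403)
theorem L511716 : N7497 = N954 := eqc rfl L511715 rfl
theorem L511729 : sm gg N954 = N10788 := trfs L511716 (flp_g L92264) rfl
theorem L511730 : N10788 = N1361 := eqes L511729 (flp_g L11938)
theorem L511731 : N10788 = N1361 := eqc rfl L511730 rfl
theorem L511746 : sm gj N1361 = N15589 := trfs L511731 (flp_j L132836) rfl
theorem L511747 : N15589 = N1948 := eqes L511746 (flp_j L16997)
theorem L511748 : N15589 = N1948 := eqc rfl L511747 rfl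
theorem L511763 : sm gi N1948 = N10724 := trfs L511748 (flp_i L132827) rfl
theorem L511764 : N10724 = N1356 := eqes L511763 L17000
theorem L511765 : N10724 = N1356 := eqc rfl L511764 rfl
theorem L511769 : sm gb N1356 = N15584 := trfs L511765 (flp_b L132782) rfl
theorem L511770 : N15584 = N1740 := eqes L511769 (flp_b L15239)
theorem L511771 : N15584 = N1740 := eqc rfl L511770 rfl
theorem L511791 : sm gj N1740 = N10783 := trfs L511771 L132787 rfl
theorem L511792 : N10783 = N1216 := eqes L511791 L15235
theorem L511793 : N10783 = N1216 := eqc rfl L511792 rfl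
theorem L511804 : sm ge N1216 = N7440 := trfs L511793 L92216 rfl
theorem L511805 : N7440 = N1750 := eqes L511804 L15326
theorem L511806 : N7440 = N1750 := eqc rfl L511805 rfl
theorem L511823 : sm gi N1750 = N10799 := trfs L511806 L92349 rfl
theorem L511824 : N10799 = N2514 := eqes L511823 (flp_i L21907)
theorem L511825 : N10799 = N2514 := eqc rfl L511824 rfl
theorem L511832 : sm gg N2514 = N7508 := trfs L511825 L92355 rfl
theorem L511833 : N7508 = N1757 := eqes L511832 L21904
theorem L511834 : N7508 = N1757 := eqc rfl L511833 rfl
theorem L511855 : sm gf N1757 = N10900 := trfs L511834 (flp_f L93235) rfl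
theorem L511856 : N10900 = N2533 := eqes L511855 L22063
theorem L511857 : N10900 = N2533 := eqc rfl L511856 rfl
theorem L511871 : sm gi N2533 = N7507 := trfs L511857 (flp_i L93229) rfl
theorem L511872 : N7507 = N1765 := eqes L511871 L22071
theorem L511873 : N7507 = N1765 := eqc rfl L511872 rfl
theorem L511878 : sm ge N1765 = N10897 := trfs L511873 (flp_e L93210) rfl
theorem L511879 : N10897 = N1241 := eqes L511878 L15467
theorem L511880 : N10897 = N1241 := eqc rfl L511879 rfl
theorem L511890 : sm gd N1241 = N14029 := trfs L511880 L428883 rfl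
theorem L511891 : N14029 = N1786 := eqes L511890 (flp_d L15647)
theorem L511892 : N14029 = N1786 := eqc rfl L511891 rfl
theorem L511912 : sm gi N1786 = N9665 := trfs L511892 (flp_i L119519) rfl
theorem L511913 : N9665 = N2560 := eqes L511912 (flp_i L22298)
theorem L511914 : N9665 = N2560 := eqc rfl L511913 rfl
theorem L511919 : sm gc N2560 = N6673 := trfs L511914 L82594 rfl
theorem L511920 : N6673 = N3699 := eqes L511919 (flp_c L32041)
theorem L511921 : N6673 = N3699 := eqc rfl L511920 rfl
theorem L511923 : sm ge N2560 = N14025 := trfs L511914 (flp_e L119492) rfl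
theorem L511924 : N14025 = N3701 := eqes L511923 L32056
theorem L511925 : N14025 = N3701 := eqc rfl L511924 rfl
theorem L511934 : sm gc N3701 = N9669 := trfs L511925 L119490 rfl
theorem L511935 : N9669 = N5354 := eqes L511934 (flp_c L46153)
theorem L511936 : N9669 = N5354 := eqc rfl L511935 rfl
theorem L511943 : sm gh N3701 = N9663 := trfs L511925 (flp_h L119488) rfl
theorem L511944 : N9663 = N5359 := eqes L511943 L46196
theorem L511945 : N9663 = N5359 := eqc rfl L511944 rfl
theorem L511949 : sm gc N5359 = N6671 := trfs L511945 L82580 rfl
theorem L511950 : N6671 = N7763 := eqes L511949 (flp_c L66662)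
theorem L511951 : N7763 = N6671 := (eqc rfl L511950 rfl).symm
theorem L511955 : sm gg N5359 = N14024 := trfs L511945 L119481 rfl
theorem L511956 : N14024 = N7770 := eqes L511955 (flp_g L66736)
theorem L511957 : N14024 = N7770 := eqc rfl L511956 rfl
theorem L511962 : sm gc N7770 = N9668 := trfs L511957 L119483 rfl
theorem L511963 : N9668 = N11272 := eqes L511962 (flp_c L96447)
theorem L511964 : N11272 = N9668 := (eqc rfl L511963 rfl).symm
theorem L511971 : sm ga N9668 = N7777 := trfs L511964 L96445 rfl
theorem L511972 : N7777 = N14018 := eqes L511971 (flp_a L119429)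
theorem L511973 : N14018 = N7777 := (eqc rfl L511972 rfl).symm
theorem L511975 : sm gc N9668 = N7770 := trfs L511964 L96447 rfl
theorem L511977 : sm gd N9668 = N16393 := trfs L511964 L139810 rfl
theorem L511978 : N16393 = N13883 := eqes L511977 (flp_d L118288)
theorem L511979 : N16393 = N13883 := eqc rfl L511978 rfl
theorem L511980 : sm ge N9668 = N7765 := trfs L511964 L96449 rfl
theorem L511981 : N7765 = N6672 := eqes L511980 L82618
theorem L511982 : N7765 = N6672 := eqc rfl L511981 rfl
theorem L511983 : sm gf N9668 = N16391 := trfs L511964 (flp_f L139794) rfl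
theorem L511984 : N16391 = N14032 := eqes L511983 L119543
theorem L511985 : N16391 = N14032 := eqc rfl L511984 rfl
theorem L511987 : sm gj N9668 = N16392 := trfs L511964 (flp_j L139807) rfl
theorem L511988 : N16392 = N14033 := eqes L511987 L119550
theorem L511989 : N16392 = N14033 := eqc rfl L511988 rfl
theorem L511998 : sm gd N14033 = N23869 := trfs L511989 L202942 rfl
theorem L511999 : N23869 = N20182 := eqes L511998 (flp_d L171509)
theorem L512000 : N23869 = N20182 := eqc rfl L511999 rfl
theorem L512001 : sm ge N14033 = N11274 := trfs L511989 L139804 rfl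
theorem L512002 : N11274 = N9670 := eqes L512001 L119554
theorem L512003 : N11274 = N9670 := eqc rfl L512002 rfl
theorem L512004 : sm gf N14033 = N23867 := trfs L511989 (flp_f L202929) rfl
theorem L512005 : N23867 = N20404 := eqes L512004 (flp_f L173400)
theorem L512006 : N23867 = N20404 := eqc rfl L512005 rfl
theorem L512008 : sm gh N14033 = N11271 := trfs L511989 (flp_h L139798) rfl
theorem L512009 : N11271 = N20406 := eqes L512008 L173411
theorem L512010 : N20406 = N11271 := (eqc rfl L512009 rfl).symm
theorem L512013 : sm gb N11271 = N14041 := trfs L512010 L173413 rfl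
theorem L512014 : N14041 = N16376 := eqes L512013 (flp_b L139652)
theorem L512015 : N16376 = N14041 := (eqc rfl L512014 rfl).symm
theorem L512026 : sm gh N11271 = N14033 := trfs L512010 (flp_h L173411) rfl
theorem L512028 : sm gi N11271 = N29706 := trfs L512010 L251838 rfl
theorem L512029 : N29706 = N7800 := eqes L512028 L96440
theorem L512030 : N29706 = N7800 := eqc rfl L512029 rfl
theorem L512040 : sm gf N7800 = N43296 := trfs L512030 (flp_f L366140) rfl
theorem L512041 : N43296 = N11320 := eqes L512040 (flp_f L96856)
theorem L512042 : N43296 = N11320 := eqc rfl L512041 rfl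
theorem L512048 : sm gj N11320 = N29704 := trfs L512042 L366142 rfl
theorem L512049 : N29704 = N7799 := eqes L512048 (flp_j L96849)
theorem L512050 : N29704 = N7799 := eqc rfl L512049 rfl
theorem L512056 : sm gb N7799 = N20415 := trfs L512050 L251822 rfl
theorem L512057 : N20415 = N11314 := eqes L512056 (flp_b L96803)
theorem L512058 : N20415 = N11314 := eqc rfl L512057 rfl
theorem L512067 : sm gi N7799 = N20405 := trfs L512050 (flp_i L251820) rfl
theorem L512068 : N20405 = N11270 := eqes L512067 (flp_i L96428)
theorem L512069 : N20405 = N11270 := eqc rfl L512068 rfl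
theorem L512073 : sm gb N11270 = N14040 := trfs L512069 L173405 rfl
theorem L512074 : N14040 = N16375 := eqes L512073 (flp_b L139641)
theorem L512075 : N16375 = N14040 := (eqc rfl L512074 rfl).symm
theorem L512102 : sm gb N14040 = N11270 := trfs L512075 L139641 rfl
theorem L512106 : sm gd N14040 = N23838 := trfs L512075 (flp_d L202666) rfl
theorem L512107 : N23838 = N20414 := eqes L512106 L173479
theorem L512108 : N23838 = N20414 := eqc rfl L512107 rfl
theorem L512113 : sm gh N14040 = N23844 := trfs L512075 L202718 rfl
theorem L512114 : N23844 = N9673 := eqes L512113 (flp_h L119610)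
theorem L512115 : N23844 = N9673 := eqc rfl L512114 rfl
theorem L512121 : sm gd N9673 = N34753 := trfs L512115 L294599 rfl
theorem L512122 : N34753 = N13888 := eqes L512121 (flp_d L118331)
theorem L512123 : N34753 = N13888 := eqc rfl L512122 rfl
theorem L512139 : sm gb N13888 = N23868 := trfs L512123 L294602 rfl
theorem L512140 : N23868 = N20181 := eqes L512139 (flp_b L171499)
theorem L512141 : N23868 = N20181 := eqc rfl L512140 rfl
theorem L512142 : sm gf N13888 = N23846 := trfs L512123 L294604 rfl
theorem L512143 : N23846 = N9573 := eqes L512142 (flp_f L118327)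
theorem L512144 : N23846 = N9573 := eqc rfl L512143 rfl
theorem L512154 : sm gg N9573 = N16378 := trfs L512144 L202748 rfl
theorem L512155 : N16378 = N6608 := eqes L512154 (flp_g L81818)
theorem L512156 : N16378 = N6608 := eqc rfl L512155 rfl
theorem L512174 : sm gb N6608 = N11273 := trfs L512156 L139676 rfl
theorem L512175 : N11273 = N9568 := eqes L512174 (flp_b L81775)
theorem L512176 : N11273 = N9568 := eqc rfl L512175 rfl
theorem L512181 : sm ge N6608 = N23848 := trfs L512156 L202759 rfl
theorem L512182 : N23848 = N4573 := eqes L512181 (flp_e L56683)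
theorem L512183 : N23848 = N4573 := eqc rfl L512182 rfl
theorem L512201 : sm gh N4573 = N34749 := trfs L512183 (flp_h L294562) rfl
theorem L512202 : N34749 = N6610 := eqes L512201 L56699
theorem L512203 : N34749 = N6610 := eqc rfl L512202 rfl
theorem L512209 : sm gd N6610 = N45931 := trfs L512203 (flp_d L388280) rfl
theorem L512210 : N45931 = N4585 := eqes L512209 L56706
theorem L512211 : N45931 = N4585 := eqc rfl L512210 rfl
theorem L512222 : sm gh N4585 = N31485 := trfs L512211 L388278 rfl
theorem L512223 : N31485 = N3176 := eqes L512222 (flp_h L39490)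
theorem L512224 : N31485 = N3176 := eqc rfl L512223 rfl
theorem L512245 : sm gi N3176 = N45946 := trfs L512224 L388401 rfl
theorem L512246 : N45946 = N2214 := eqes L512245 L27483
theorem L512247 : N45946 = N2214 := eqc rfl L512246 rfl
theorem L512253 : sm ge N2214 = N31486 := trfs L512247 L388408 rfl
theorem L512254 : N31486 = N3186 := eqes L512253 L27556
theorem L512255 : N31486 = N3186 := eqc rfl L512254 rfl
theorem L512270 : sm gh N3186 = N45947 := trfs L512255 L388411 rfl
theorem L512271 : N45947 = N4600 := eqes L512270 L39608
theorem L512272 : N45947 = N4600 := eqc rfl L512271 rfl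
theorem L512278 : sm gd N4600 = N31661 := trfs L512272 L388417 rfl
theorem L512279 : N31661 = N6650 := eqes L512278 L57025
theorem L512280 : N31661 = N6650 := eqc rfl L512279 rfl
theorem L512296 : sm gi N6650 = N46184 := trfs L512280 (flp_i L390324) rfl
theorem L512297 : N46184 = N9637 := eqes L512296 L82342
theorem L512298 : N46184 = N9637 := eqc rfl L512297 rfl
theorem L512303 : sm gh N9637 = N31650 := trfs L512298 (flp_h L390317) rfl
theorem L512304 : N31650 = N13985 := eqes L512303 L119128
theorem L512305 : N31650 = N13985 := eqc rfl L512304 rfl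
theorem L512313 : sm gf N13985 = N43517 := trfs L512305 (flp_f L368000) rfl
theorem L512314 : N43517 = N10206 := eqes L512313 L119132
theorem L512315 : N43517 = N10206 := eqc rfl L512314 rfl
theorem L512321 : sm gd N10206 = N29853 := trfs L512315 L367998 rfl
theorem L512322 : N29853 = N14753 := eqes L512321 (flp_d L125697)
theorem L512323 : N29853 = N14753 := eqc rfl L512322 rfl
theorem L512325 : sm gi N10206 = N29852 := trfs L512315 (flp_i L367993) rfl
theorem L512326 : N29852 = N7114 := eqes L512325 L87185
theorem L512327 : N29852 = N7114 := eqc rfl L512326 rfl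
theorem L512342 : sm gh N7114 = N20510 := trfs L512327 L253081 rfl
theorem L512343 : N20510 = N4912 := eqes L512342 (flp_h L60967)
theorem L512344 : N20510 = N4912 := eqc rfl L512343 rfl
theorem L512361 : sm gi N4912 = N29861 := trfs L512344 L253156 rfl
theorem L512362 : N29861 = N3395 := eqes L512361 (flp_i L42268)
theorem L512363 : N29861 = N3395 := eqc rfl L512362 rfl
theorem L512374 : sm gg N3395 = N43526 := trfs L512363 (flp_g L368085) rfl
theorem L512375 : N43526 = N4909 := eqes L512374 (flp_g L42249)
theorem L512376 : N43526 = N4909 := eqc rfl L512375 rfl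
theorem L512380 : sm gb N4909 = N29889 := trfs L512376 L368081 rfl
theorem L512381 : N29889 = N7099 := eqes L512380 (flp_b L60853)
theorem L512382 : N29889 = N7099 := eqc rfl L512381 rfl
theorem L512388 : sm ge N7099 = N43574 := trfs L512382 (flp_e L368511) rfl
theorem L512389 : N43574 = N5000 := eqes L512388 L60857
theorem L512390 : N43574 = N5000 := eqc rfl L512389 rfl
theorem L512409 : sm gi N5000 = N29888 := trfs L512390 (flp_i L368505) rfl
theorem L512410 : N29888 = N7243 := eqes L512409 L62072
theorem L512411 : N29888 = N7243 := eqc rfl L512410 rfl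
theorem L512424 : sm gg N7243 = N20531 := trfs L512411 L253404 rfl
theorem L512425 : N20531 = N5003 := eqes L512424 L62078
theorem L512426 : N20531 = N5003 := eqc rfl L512425 rfl
theorem L512440 : sm gh N5003 = N29879 := trfs L512426 (flp_h L253321) rfl
theorem L512441 : N29879 = N7246 := eqes L512440 L62094
theorem L512442 : N29879 = N7246 := eqc rfl L512441 rfl
theorem L512446 : sm gc N7246 = N43557 := trfs L512442 (flp_c L368355) rfl
theorem L512447 : N43557 = N10510 := eqes L512446 (flp_c L89747)
theorem L512448 : N43557 = N10510 := eqc rfl L512447 rfl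
theorem L512465 : sm ge N10510 = N29878 := trfs L512448 (flp_e L368351) rfl
theorem L512466 : N29878 = N14979 := eqes L512465 (flp_e L127549)
theorem L512467 : N29878 = N14979 := eqc rfl L512466 rfl
theorem L512477 : sm gd N14979 = N42982 := trfs L512467 (flp_d L363473) rfl
theorem L512478 : N42982 = N21804 := eqes L512477 L185183
theorem L512479 : N42982 = N21804 := eqc rfl L512478 rfl
theorem L512481 : sm gg N14979 = N43553 := trfs L512467 (flp_g L368323) rfl
theorem L512482 : N43553 = N21801 := eqes L512481 (flp_g L185163)
theorem L512483 : N43553 = N21801 := eqc rfl L512482 rfl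
theorem L512485 : sm gh N14979 = N20530 := trfs L512467 L253314 rfl
theorem L512486 : N20530 = N10306 := eqes L512485 (flp_h L127545)
theorem L512487 : N20530 = N10306 := eqc rfl L512486 rfl
theorem L512498 : sm gb N10306 = N29890 := trfs L512487 L253416 rfl
theorem L512499 : N29890 = N14978 := eqes L512498 (flp_b L127538)
theorem L512500 : N29890 = N14978 := eqc rfl L512499 rfl
theorem L512509 : sm ga N14978 = N43576 := trfs L512500 L368521 rfl
theorem L512510 : N43576 = N21802 := eqes L512509 (flp_a L185167)
theorem L512511 : N43576 = N21802 := eqc rfl L512510 rfl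
theorem L512515 : sm gd N14978 = N20547 := trfs L512500 L253418 rfl
theorem L512516 : N20547 = N21784 := eqes L512515 (flp_d L185029)
theorem L512517 : N21784 = N20547 := (eqc rfl L512516 rfl).symm
theorem L512521 : sm gf N14978 = N21742 := trfs L512500 L253420 rfl
theorem L512522 : N21742 = N20591 := eqes L512521 (flp_f L174993)
theorem L512523 : N21742 = N20591 := eqc rfl L512522 rfl
theorem L512529 : sm gi N14978 = N43578 := trfs L512500 L368537 rfl
theorem L512530 : N43578 = N10305 := eqes L512529 (flp_i L127536)
theorem L512531 : N43578 = N10305 := eqc rfl L512530 rfl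
theorem L512534 : sm gf N10305 = N31687 := trfs L512531 L368543 rfl
theorem L512535 : N31687 = N14159 := eqes L512534 (flp_f L120643)
theorem L512536 : N31687 = N14159 := eqc rfl L512535 rfl
theorem L512547 : sm gd N14159 = N21757 := trfs L512536 L268493 rfl
theorem L512548 : N21757 = N20568 := eqes L512547 (flp_d L174803)
theorem L512549 : N21757 = N20568 := eqc rfl L512548 rfl
theorem L512551 : sm gg N14159 = N46231 := trfs L512536 (flp_g L390721) rfl
theorem L512552 : N46231 = N20587 := eqes L512551 (flp_g L174960)
theorem L512553 : N46231 = N20587 := eqc rfl L512552 rfl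
theorem L512563 : sm gd N20587 = N31703 := trfs L512553 L390718 rfl
theorem L512564 : N31703 = N29940 := eqes L512563 (flp_d L253841)
theorem L512565 : N31703 = N29940 := eqc rfl L512564 rfl
theorem L512567 : sm gi N20587 = N31683 := trfs L512553 (flp_i L390714) rfl
theorem L512568 : N31683 = N29972 := eqes L512567 L254094
theorem L512569 : N31683 = N29972 := eqc rfl L512568 rfl
theorem L512570 : sm ga N29972 = N46230 := trfs L512569 L390705 rfl
theorem L512571 : N46230 = N43689 := eqes L512570 (flp_a L369463)
theorem L512572 : N46230 = N43689 := eqc rfl L512571 rfl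
theorem L512577 : sm gd N29972 = N21753 := trfs L512569 L268458 rfl
theorem L512578 : N21753 = N43652 := eqes L512577 (flp_d L369162)
theorem L512579 : N43652 = N21753 := (eqc rfl L512578 rfl).symm
theorem L512581 : sm gf N29972 = N46222 := trfs L512569 (flp_f L390644) rfl
theorem L512582 : N46222 = N43681 := eqes L512581 (flp_f L369399)
theorem L512583 : N46222 = N43681 := eqc rfl L512582 rfl
theorem L512585 : sm gj N29972 = N46227 := trfs L512569 (flp_j L390683) rfl
theorem L512586 : N46227 = N43687 := eqes L512585 (flp_j L369451)
theorem L512587 : N46227 = N43687 := eqc rfl L512586 rfl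
theorem L512588 : sm gh N29972 = N46211 := trfs L512569 (flp_h L390551) rfl
theorem L512589 : N46211 = N43690 := eqes L512588 L369470
theorem L512590 : N46211 = N43690 := eqc rfl L512589 rfl
theorem L512593 : sm gg N43690 = N31672 := trfs L512590 L390549 rfl
theorem L512594 : N31672 = N29975 := eqes L512593 L369477
theorem L512595 : N31672 = N29975 := eqc rfl L512594 rfl
theorem L512596 : sm ga N29975 = N46214 := trfs L512595 L390571 rfl
theorem L512597 : N46214 = N43692 := eqes L512596 (flp_a L369485)
theorem L512598 : N46214 = N43692 := eqc rfl L512597 rfl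
theorem L512600 : sm gc N29975 = N46182 := trfs L512595 (flp_c L390308) rfl
theorem L512601 : N46182 = N20610 := eqes L512600 L254124
theorem L512602 : N46182 = N20610 := eqc rfl L512601 rfl
theorem L512603 : sm gd N29975 = N45716 := trfs L512595 (flp_d L386526) rfl
theorem L512604 : N45716 = N43693 := eqes L512603 L369493
theorem L512605 : N45716 = N43693 := eqc rfl L512604 rfl
theorem L512616 : sm gb N43693 = N31330 := trfs L512605 (flp_b L386524) rfl
theorem L512617 : N31330 = N29976 := eqes L512616 L369495
theorem L512618 : N31330 = N29976 := eqc rfl L512617 rfl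
theorem L512620 : sm gh N43693 = N31342 := trfs L512605 L386529 rfl
theorem L512627 : sm ge N29976 = N45717 := trfs L512618 L386531 rfl
theorem L512628 : N45717 = N43694 := eqes L512627 L369500
theorem L512629 : N45717 = N43694 := eqc rfl L512628 rfl
theorem L512631 : sm gg N29976 = N45713 := trfs L512618 (flp_g L386500) rfl
theorem L512632 : N45713 = N43691 := eqes L512631 (flp_g L369481)
theorem L512633 : N45713 = N43691 := eqc rfl L512632 rfl
theorem L512635 : sm gh N29976 = N21503 := trfs L512618 L265577 rfl
theorem L512636 : N21503 = N43663 := eqes L512635 (flp_h L369251)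
theorem L512637 : N43663 = N21503 := (eqc rfl L512636 rfl).symm
theorem L512638 : sm gi N29976 = N45718 := trfs L512618 L386541 rfl
theorem L512639 : N45718 = N43099 := eqes L512638 (flp_i L364435)
theorem L512640 : N45718 = N43099 := eqc rfl L512639 rfl
theorem L512641 : sm ga N43099 = N31387 := trfs L512640 L386543 rfl
theorem L512643 : sm gc N43099 = N31332 := trfs L512640 L386545 rfl
theorem L512650 : sm gh N21503 = N29976 := trfs L512637 L369251 rfl
theorem L512652 : sm ga N43691 = N31382 := trfs L512633 L386498 rfl
theorem L512654 : sm gc N43691 = N31328 := trfs L512633 (flp_c L386496) rfl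
theorem L512657 : sm gh N43691 = N31339 := trfs L512633 L386502 rfl
theorem L512659 : sm ga N43694 = N31386 := trfs L512629 L386533 rfl
theorem L512661 : sm gc N43694 = N30664 := trfs L512629 L386535 L507920
theorem L512663 : N43694 = N44722 := eqes (flp_c L512661) L378406
theorem L512664 : N44722 = N43694 := (eqc rfl L512663 rfl).symm
theorem L512670 : sm gc N43694 = N30664 := trfs L512664 (flp_c L378406) rfl
theorem L512674 : sm gh N43694 = N30671 := trfs L512664 L378409 rfl
theorem L512681 : sm gh N20610 = N31659 := trfs L512602 L390306 rfl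
theorem L512682 : N31659 = N14174 := eqes L512681 (flp_h L175144)
theorem L512683 : N31659 = N14174 := eqc rfl L512682 rfl
theorem L512687 : sm gb N14174 = N21723 := trfs L512683 (flp_b L268258) rfl
theorem L512688 : N21723 = N9766 := eqes L512687 L120762
theorem L512689 : N21723 = N9766 := eqc rfl L512688 rfl
theorem L512702 : sm gg N9766 = N31657 := trfs L512689 (flp_g L268245) rfl
theorem L512703 : N31657 = N14171 := eqes L512702 (flp_g L120744)
theorem L512704 : N31657 = N14171 := eqc rfl L512703 rfl
theorem L512733 : sm gf N14171 = N46188 := trfs L512704 (flp_f L390359) rfl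
theorem L512734 : N46188 = N20600 := eqes L512733 (flp_f L175067)
theorem L512735 : N46188 = N20600 := eqc rfl L512734 rfl
theorem L512752 : sm gc N20600 = N31653 := trfs L512735 (flp_c L390356) rfl
theorem L512753 : N31653 = N14167 := eqes L512752 L175064
theorem L512754 : N31653 = N14167 := eqc rfl L512753 rfl
theorem L512759 : sm ge N14167 = N46189 := trfs L512754 L390362 rfl
theorem L512760 : N46189 = N20601 := eqes L512759 (flp_e L175075)
theorem L512761 : N46189 = N20601 := eqc rfl L512760 rfl
theorem L512774 : sm gb N20601 = N31679 := trfs L512761 L390365 rfl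
theorem L512775 : N31679 = N29966 := eqes L512774 (flp_b L254047)
theorem L512776 : N31679 = N29966 := eqc rfl L512775 rfl
theorem L512781 : sm gc N29966 = N46223 := trfs L512776 (flp_c L390650) rfl
theorem L512782 : N46223 = N43683 := eqes L512781 (flp_c L369411)
theorem L512783 : N46223 = N43683 := eqc rfl L512782 rfl
theorem L512791 : sm gh N29966 = N46207 := trfs L512776 (flp_h L390515) rfl
theorem L512792 : N46207 = N43685 := eqes L512791 L369426
theorem L512793 : N46207 = N43685 := eqc rfl L512792 rfl
theorem L512801 : sm ga N43685 = N31716 := trfs L512793 L390513 rfl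
theorem L512809 : sm ga N43683 = N31732 := trfs L512783 L390648 rfl
theorem L512811 : sm ge N43683 = N31678 := trfs L512783 (flp_e L390646) rfl
theorem L512812 : N31678 = N29965 := eqes L512811 L369413
theorem L512813 : N31678 = N29965 := eqc rfl L512812 rfl
theorem L512819 : sm gd N29965 = N21748 := trfs L512813 L268420 rfl
theorem L512820 : N21748 = N43640 := eqes L512819 (flp_d L369066)
theorem L512821 : N43640 = N21748 := (eqc rfl L512820 rfl).symm
theorem L512827 : sm gh N29965 = N46206 := trfs L512813 (flp_h L390509) rfl
theorem L512828 : N46206 = N43684 := eqes L512827 L369418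
theorem L512829 : N46206 = N43684 := eqc rfl L512828 rfl
theorem L512837 : sm ga N43684 = N31715 := trfs L512829 L390505 rfl
theorem L512848 : sm gd N21748 = N29965 := trfs L512821 L369066 rfl
theorem L512850 : sm gf N21748 = N29942 := trfs L512821 L369068 rfl
theorem L512851 : N29942 = N14942 := eqes L512850 L184750
theorem L512852 : N29942 = N14942 := eqc rfl L512851 rfl
theorem L512867 : sm gi N14942 = N20565 := trfs L512852 (flp_i L253853) rfl
theorem L512868 : N20565 = N21754 := eqes L512867 L184797
theorem L512869 : N21754 = N20565 := (eqc rfl L512868 rfl).symm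
theorem L512875 : sm ge N20565 = N15249 := trfs L512869 L184803 rfl
theorem L512876 : N15249 = N29941 := eqes L512875 L253846
theorem L512877 : N29941 = N15249 := (eqc rfl L512876 rfl).symm
theorem L512880 : sm gj N20565 = N31700 := trfs L512869 (flp_j L268606) rfl
theorem L512881 : N31700 = N29937 := eqes L512880 (flp_j L253819)
theorem L512882 : N31700 = N29937 := eqc rfl L512881 rfl
theorem L512883 : sm gh N20565 = N31704 := trfs L512869 L268636 rfl
theorem L512884 : N31704 = N29923 := eqes L512883 (flp_h L253709)
theorem L512885 : N31704 = N29923 := eqc rfl L512884 rfl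
theorem L512886 : sm gi N20565 = N14942 := trfs L512869 (flp_i L184797) rfl
theorem L512890 : sm gb N29923 = N46255 := trfs L512885 (flp_b L390927) rfl
theorem L512891 : N46255 = N43620 := eqes L512890 L368905
theorem L512892 : N46255 = N43620 := eqc rfl L512891 rfl
theorem L512894 : sm gd N29923 = N46256 := trfs L512885 L390934 rfl
theorem L512895 : N46256 = N43034 := eqes L512894 (flp_d L363937)
theorem L512896 : N46256 = N43034 := eqc rfl L512895 rfl
theorem L512899 : sm gf N29923 = N46249 := trfs L512885 (flp_f L390872) rfl
theorem L512900 : N46249 = N43614 := eqes L512899 (flp_f L368859)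
theorem L512901 : N46249 = N43614 := eqc rfl L512900 rfl
theorem L512903 : sm gj N29923 = N46253 := trfs L512885 (flp_j L390912) rfl
theorem L512904 : N46253 = N43617 := eqes L512903 (flp_j L368884)
theorem L512905 : N46253 = N43617 := eqc rfl L512904 rfl
theorem L512906 : sm gi N29923 = N45775 := trfs L512885 (flp_i L387063) rfl
theorem L512907 : N45775 = N43622 := eqes L512906 L368920
theorem L512908 : N45775 = N43622 := eqc rfl L512907 rfl
theorem L512909 : sm ga N43622 = N31444 := trfs L512908 L387055 rfl
theorem L512912 : sm ge N43622 = N32195 := trfs L512908 L387059 rfl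
theorem L512915 : sm gh N43622 = N31369 := trfs L512908 (flp_h L387053) rfl
theorem L512917 : sm ga N43617 = N31762 := trfs L512905 L390905 rfl
theorem L512920 : sm ge N43617 = N32328 := trfs L512905 L390909 rfl
theorem L512924 : sm ga N43614 = N31758 := trfs L512901 L390868 rfl
theorem L512928 : sm ga N43034 = N31765 := trfs L512896 L390936 rfl
theorem L512930 : sm gg N43034 = N31707 := trfs L512896 L390938 rfl
theorem L512931 : N31707 = N29527 := eqes L512930 L363933
theorem L512932 : N31707 = N29527 := eqc rfl L512931 rfl
theorem L512935 : sm gb N29527 = N46258 := trfs L512932 (flp_b L390952) rfl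
theorem L512936 : N46258 = N43037 := eqes L512935 L363952
theorem L512937 : N46258 = N43037 := eqc rfl L512936 rfl
theorem L512938 : sm gc N29527 = N46033 := trfs L512932 (flp_c L389171) rfl
theorem L512939 : N46033 = N20287 := eqes L512938 (flp_c L250327)
theorem L512940 : N46033 = N20287 := eqc rfl L512939 rfl
theorem L512942 : sm ge N29527 = N46259 := trfs L512932 L390955 rfl
theorem L512943 : N46259 = N43038 := eqes L512942 L363961
theorem L512944 : N46259 = N43038 := eqc rfl L512943 rfl
theorem L512950 : sm gi N29527 = N45778 := trfs L512932 (flp_i L387090) rfl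
theorem L512951 : N45778 = N43039 := eqes L512950 L363968
theorem L512952 : N45778 = N43039 := eqc rfl L512951 rfl
theorem L512953 : sm ga N43039 = N31447 := trfs L512952 L387087 rfl
theorem L512960 : sm ga N43038 = N31768 := trfs L512944 L390957 rfl
theorem L512962 : sm gd N43038 = N32334 := trfs L512944 L390960 rfl
theorem L512965 : sm ga N20287 = N31613 := trfs L512940 L389168 rfl
theorem L512966 : N31613 = N29490 := eqes L512965 (flp_a L249999)
theorem L512967 : N31613 = N29490 := eqc rfl L512966 rfl
theorem L512968 : sm gd N20287 = N31546 := trfs L512940 (flp_d L389166) rfl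
theorem L512969 : N31546 = N13953 := eqes L512968 (flp_d L172408)
theorem L512970 : N31546 = N13953 := eqc rfl L512969 rfl
theorem L512982 : sm gi N13953 = N45551 := trfs L512970 (flp_i L385238) rfl
theorem L512983 : N45551 = N20288 := eqes L512982 L172415
theorem L512984 : N45551 = N20288 := eqc rfl L512983 rfl
theorem L512989 : sm gh N20288 = N31221 := trfs L512984 (flp_h L385230) rfl
theorem L512990 : N31221 = N29424 := eqes L512989 (flp_h L249484)
theorem L512991 : N31221 = N29424 := eqc rfl L512990 rfl
theorem L512998 : sm gd N29424 = N45522 := trfs L512991 (flp_d L384973) rfl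
theorem L512999 : N45522 = N42883 := eqes L512998 (flp_d L362685)
theorem L513000 : N45522 = N42883 := eqc rfl L512999 rfl
theorem L513005 : sm gi N29424 = N21423 := trfs L512991 (flp_i L264724) rfl
theorem L513006 : N21423 = N20218 := eqes L513005 (flp_i L249476)
theorem L513007 : N21423 = N20218 := eqc rfl L513006 rfl
theorem L513008 : sm ga N20218 = N14740 := trfs L513007 L182101 rfl
theorem L513009 : N14740 = N29398 := eqes L513008 (flp_a L249238)
theorem L513010 : N29398 = N14740 := (eqc rfl L513009 rfl).symm
theorem L513011 : sm gb N20218 = N31220 := trfs L513007 L264717 rfl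
theorem L513012 : N31220 = N28930 := eqes L513011 (flp_b L245169)
theorem L513013 : N31220 = N28930 := eqc rfl L513012 rfl
theorem L513021 : sm ga N28930 = N45549 := trfs L513013 L385214 rfl
theorem L513022 : N45549 = N42119 := eqes L513021 (flp_a L356027)
theorem L513023 : N45549 = N42119 := eqc rfl L513022 rfl
theorem L513036 : sm gh N28930 = N21643 := trfs L513013 L264721 rfl
theorem L513037 : N21643 = N19888 := eqes L513036 (flp_h L245167)
theorem L513038 : N21643 = N19888 := eqc rfl L513037 rfl
theorem L513040 : sm ga N19888 = N31544 := trfs L513038 L267372 rfl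
theorem L513041 : N31544 = N28913 := eqes L513040 (flp_a L245001)
theorem L513042 : N31544 = N16354 := eqc rfl L513041 L501424
theorem L513055 : sm gi N19888 = N31545 := trfs L513038 L267379 rfl
theorem L513056 : N31545 = N13717 := eqes L513055 L168961
theorem L513057 : N31545 = N13717 := eqc rfl L513056 rfl
theorem L513069 : sm gg N13717 = N46029 := trfs L513057 (flp_g L389139) rfl
theorem L513070 : N46029 = N19933 := eqes L513069 L169364
theorem L513071 : N46029 = N19933 := eqc rfl L513070 rfl
theorem L513074 : sm gb N19933 = N31542 := trfs L513071 L389135 rfl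
theorem L513075 : N31542 = N13952 := eqes L513074 L169366
theorem L513076 : N31542 = N13952 := eqc rfl L513075 rfl
theorem L513080 : sm ga N13952 = N21687 := trfs L513076 L267355 rfl
theorem L513081 : N21687 = N20261 := eqes L513080 (flp_a L172178)
theorem L513082 : N21687 = N20261 := eqc rfl L513081 rfl
theorem L513090 : sm gj N13952 = N46026 := trfs L513076 (flp_j L389112) rfl
theorem L513091 : N46026 = N20285 := eqes L513090 L172393
theorem L513092 : N46026 = N20285 := eqc rfl L513091 rfl
theorem L513095 : sm ga N20285 = N31606 := trfs L513092 L389106 rfl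
theorem L513096 : N31606 = N29488 := eqes L513095 (flp_a L249980)
theorem L513097 : N31606 = N29488 := eqc rfl L513096 rfl
theorem L513101 : sm gi N20285 = N31539 := trfs L513092 (flp_i L389104) rfl
theorem L513102 : N31539 = N29421 := eqes L513101 (flp_i L249459)
theorem L513103 : N31539 = N29421 := eqc rfl L513102 rfl
theorem L513104 : sm ga N29421 = N21684 := trfs L513103 L267330 rfl
theorem L513105 : N21684 = N42842 := eqes L513104 (flp_a L362310)
theorem L513106 : N42842 = N21684 := (eqc rfl L513105 rfl).symm
theorem L513111 : sm gd N29421 = N45990 := trfs L513103 (flp_d L388805) rfl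
theorem L513112 : N45990 = N20220 := eqes L513111 L249456
theorem L513113 : N45990 = N20220 := eqc rfl L513112 rfl
theorem L513118 : sm gh N29421 = N45544 := trfs L513103 (flp_h L385172) rfl
theorem L513119 : N45544 = N42878 := eqes L513118 L362645
theorem L513120 : N45544 = N42878 := eqc rfl L513119 rfl
theorem L513121 : sm ga N42878 = N31265 := trfs L513120 L385166 rfl
theorem L513130 : sm gj N20220 = N31516 := trfs L513113 L388803 rfl
theorem L513131 : N31516 = N13908 := eqes L513130 (flp_j L171855)
theorem L513132 : N31516 = N13908 := eqc rfl L513131 rfl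
theorem L513142 : sm gf N13908 = N45987 := trfs L513132 (flp_f L388781) rfl
theorem L513143 : N45987 = N20219 := eqes L513142 L171847
theorem L513144 : N45987 = N20219 := eqc rfl L513143 rfl
theorem L513160 : sm ga N20219 = N31567 := trfs L513144 L388779 rfl
theorem L513161 : N31567 = N29399 := eqes L513160 (flp_a L249248)
theorem L513162 : N31567 = N29399 := eqc rfl L513161 rfl
theorem L513166 : sm gd N20219 = N31536 := trfs L513144 L388783 rfl
theorem L513167 : N31536 = N29420 := eqes L513166 (flp_d L249446)
theorem L513168 : N31536 = N29420 := eqc rfl L513167 rfl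
theorem L513169 : sm ga N29420 = N21681 := trfs L513168 L267308 rfl
theorem L513170 : N21681 = N42841 := eqes L513169 (flp_a L362298)
theorem L513171 : N42841 = N21681 := (eqc rfl L513170 rfl).symm
theorem L513176 : sm ge N29420 = N46021 := trfs L513168 L389064 rfl
theorem L513177 : N46021 = N42875 := eqes L513176 L362618
theorem L513178 : N46021 = N42875 := eqc rfl L513177 rfl
theorem L513184 : sm gh N29420 = N45541 := trfs L513168 (flp_h L385145) rfl
theorem L513185 : N45541 = N42877 := eqes L513184 L362637
theorem L513186 : N45541 = N42877 := eqc rfl L513185 rfl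
theorem L513188 : sm ga N42877 = N31262 := trfs L513186 L385141 rfl
theorem L513196 : sm ga N42875 = N31601 := trfs L513178 L389066 rfl
theorem L513198 : sm gc N42875 = N31537 := trfs L513178 L389068 rfl
theorem L513199 : N31537 = N29779 := eqes L513198 L362620
theorem L513200 : N31537 = N29779 := eqc rfl L513199 rfl
theorem L513202 : sm ga N29779 = N21682 := trfs L513200 L267314 rfl
theorem L513203 : N21682 = N43359 := eqes L513202 (flp_a L366688)
theorem L513204 : N43359 = N21682 := (eqc rfl L513203 rfl).symm
theorem L513209 : sm gg N29779 = N43398 := trfs L513200 (flp_g L367043) rfl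
theorem L513210 : N43398 = N21646 := eqes L513209 L252498
theorem L513211 : N43398 = N21646 := eqc rfl L513210 rfl
theorem L513213 : sm gh N29779 = N45542 := trfs L513200 (flp_h L385152) rfl
theorem L513214 : N45542 = N43409 := eqes L513213 L367130
theorem L513215 : N45542 = N43409 := eqc rfl L513214 rfl
theorem L513217 : sm ga N43409 = N31263 := trfs L513215 L385149 rfl
theorem L513222 : sm ga N21646 = N29818 := trfs L513211 L367040 rfl
theorem L513223 : N29818 = N31501 := eqes L513222 (flp_a L266998)
theorem L513224 : N31501 = N29818 := (eqc rfl L513223 rfl).symm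
theorem L513228 : sm ga N29818 = N21646 := trfs L513224 L266998 rfl
theorem L513233 : sm gc N29818 = N45502 := trfs L513224 (flp_c L384793) rfl
theorem L513234 : N45502 = N43467 := eqes L513233 (flp_c L367592)
theorem L513235 : N45502 = N43467 := eqc rfl L513234 rfl
theorem L513238 : sm gf N29818 = N23857 := trfs L513224 L267003 rfl
theorem L513239 : N23857 = N43298 := eqes L513238 (flp_f L366156)
theorem L513240 : N43298 = N23857 := (eqc rfl L513239 rfl).symm
theorem L513244 : sm gi N29818 = N21726 := trfs L513224 L267000 rfl
theorem L513245 : N21726 = N43469 := eqes L513244 L367604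
theorem L513246 : N43469 = N21726 := (eqc rfl L513245 rfl).symm
theorem L513247 : sm gb N21726 = N29836 := trfs L513246 L367606 rfl
theorem L513248 : N29836 = N31643 := eqes L513247 (flp_b L268120)
theorem L513249 : N31643 = N29836 := (eqc rfl L513248 rfl).symm
theorem L513252 : sm gg N21726 = N31603 := trfs L513246 L367611 rfl
theorem L513253 : N31603 = N29872 := eqes L513252 (flp_g L253264)
theorem L513254 : N31603 = N29872 := eqc rfl L513253 rfl
theorem L513255 : sm gi N21726 = N29818 := trfs L513246 (flp_i L367604) rfl
theorem L513258 : sm gb N29872 = N21700 := trfs L513254 L267816 rfl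
theorem L513259 : N21700 = N43509 := eqes L513258 (flp_b L367925)
theorem L513260 : N43509 = N21700 := (eqc rfl L513259 rfl).symm
theorem L513261 : sm gc N29872 = N46118 := trfs L513254 (flp_c L389805) rfl
theorem L513262 : N46118 = N42976 := eqes L513261 (flp_c L363412)
theorem L513263 : N46118 = N42976 := eqc rfl L513262 rfl
theorem L513267 : sm gj N29872 = N46112 := trfs L513254 (flp_j L389766) rfl
theorem L513268 : N46112 = N43545 := eqes L513267 L368250
theorem L513269 : N46112 = N43545 := eqc rfl L513268 rfl
theorem L513270 : sm gh N29872 = N46120 := trfs L513254 L389816 rfl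
theorem L513271 : N46120 = N43546 := eqes L513270 L368258
theorem L513272 : N46120 = N43546 := eqc rfl L513271 rfl
theorem L513275 : sm gb N43546 = N31628 := trfs L513272 L389818 rfl
theorem L513279 : sm gb N43545 = N31620 := trfs L513269 L389760 rfl
theorem L513284 : sm gi N43545 = N31598 := trfs L513269 (flp_i L389758) rfl
theorem L513286 : sm ge N42976 = N31602 := trfs L513263 L389807 rfl
theorem L513287 : N31602 = N29487 := eqes L513286 (flp_e L363408)
theorem L513288 : N31602 = N29487 := eqc rfl L513287 rfl
theorem L513290 : sm gi N42976 = N31601 := trfs L513263 (flp_i L389803) rfl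
theorem L513293 : sm gb N29487 = N46116 := trfs L513288 (flp_b L389793) rfl
theorem L513294 : N46116 = N42946 := eqes L513293 (flp_b L363177)
theorem L513295 : N46116 = N42946 := eqc rfl L513294 rfl
theorem L513302 : sm gj N29487 = N46111 := trfs L513288 (flp_j L389756) rfl
theorem L513303 : N46111 = N42977 := eqes L513302 L363417
theorem L513304 : N46111 = N42977 := eqc rfl L513303 rfl
theorem L513305 : sm gh N29487 = N46119 := trfs L513288 L389810 rfl
theorem L513306 : N46119 = N42978 := eqes L513305 L363427
theorem L513307 : N46119 = N42978 := eqc rfl L513306 rfl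
theorem L513311 : sm gf N42978 = N31610 := trfs L513307 L389814 rfl
theorem L513312 : N31610 = N29489 := eqes L513311 L363433
theorem L513313 : N31610 = N29489 := eqc rfl L513312 rfl
theorem L513315 : sm gb N29489 = N46125 := trfs L513313 (flp_b L389860) rfl
theorem L513316 : N46125 = N42948 := eqes L513315 (flp_b L363193)
theorem L513317 : N46125 = N42948 := eqc rfl L513316 rfl
theorem L513319 : sm gd N29489 = N46126 := trfs L513313 L389867 rfl
theorem L513320 : N46126 = N42980 := eqes L513319 L363447
theorem L513321 : N46126 = N42980 := eqc rfl L513320 rfl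
theorem L513324 : sm gj N29489 = N46123 := trfs L513313 (flp_j L389847) rfl
theorem L513325 : N46123 = N42979 := eqes L513324 (flp_j L363445)
theorem L513326 : N46123 = N42979 := eqc rfl L513325 rfl
theorem L513328 : sm gi N29489 = N45622 := trfs L513313 (flp_i L385765) rfl
theorem L513329 : N45622 = N42981 := eqes L513328 L363455
theorem L513330 : N45622 = N42981 := eqc rfl L513329 rfl
theorem L513334 : sm gh N42981 = N31268 := trfs L513330 (flp_h L385758) rfl
theorem L513336 : sm gc N42979 = N31607 := trfs L513326 L389843 rfl
theorem L513337 : N31607 = N29875 := eqes L513336 L363441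
theorem L513338 : N31607 = N29875 := eqc rfl L513337 rfl
theorem L513343 : sm gb N29875 = N21704 := trfs L513338 L267848 rfl
theorem L513344 : N21704 = N43512 := eqes L513343 (flp_b L367952)
theorem L513345 : N43512 = N21704 := (eqc rfl L513344 rfl).symm
theorem L513346 : sm gd N29875 = N21798 := trfs L513338 L267854 rfl
theorem L513347 : N21798 = N43551 := eqes L513346 L368302
theorem L513348 : N43551 = N21798 := (eqc rfl L513347 rfl).symm
theorem L513350 : sm gf N29875 = N46113 := trfs L513338 (flp_f L389772) rfl
theorem L513351 : N46113 = N43548 := eqes L513350 (flp_f L368280)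
theorem L513352 : N46113 = N43548 := eqc rfl L513351 rfl
theorem L513355 : sm gh N29875 = N21685 := trfs L513338 (flp_h L267846) rfl
theorem L513356 : N21685 = N20521 := eqes L513355 (flp_h L253284)
theorem L513357 : N21685 = N20521 := eqc rfl L513356 rfl
theorem L513358 : sm gi N29875 = N45619 := trfs L513338 (flp_i L385738) rfl
theorem L513359 : N45619 = N43552 := eqes L513358 L368311
theorem L513360 : N45619 = N43552 := eqc rfl L513359 rfl
theorem L513361 : sm gb N43552 = N31285 := trfs L513360 L385730 rfl
theorem L513363 : sm gd N43552 = N31441 := trfs L513360 L385736 rfl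
theorem L513368 : sm gh N43552 = N31266 := trfs L513360 (flp_h L385728) rfl
theorem L513371 : sm gb N20521 = N14906 := trfs L513357 L184236 rfl
theorem L513372 : N14906 = N29850 := eqes L513371 (flp_b L253059)
theorem L513373 : N29850 = N14906 := (eqc rfl L513372 rfl).symm
theorem L513380 : sm gi N20521 = N14892 := trfs L513357 (flp_i L184234) rfl
theorem L513381 : N14892 = N29746 := eqes L513380 (flp_i L252199)
theorem L513382 : N29746 = N14892 := (eqc rfl L513381 rfl).symm
theorem L513385 : sm gb N14892 = N43330 := trfs L513382 (flp_b L366418) rfl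
theorem L513386 : N43330 = N10254 := eqes L513385 L126860
theorem L513387 : N43330 = N10254 := eqc rfl L513386 rfl
theorem L513397 : sm gi N14892 = N20521 := trfs L513382 L252199 rfl
theorem L513408 : sm gj N10254 = N29727 := trfs L513387 (flp_j L366415) rfl
theorem L513409 : N29727 = N7065 := eqes L513408 L87606
theorem L513410 : N29727 = N7065 := eqc rfl L513409 rfl
theorem L513426 : sm gi N7065 = N20505 := trfs L513410 L252017 rfl
theorem L513427 : N20505 = N10257 := eqes L513426 L87627
theorem L513428 : N20505 = N10257 := eqc rfl L513427 rfl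
theorem L513440 : sm gh N10257 = N29851 := trfs L513428 L253065 rfl
theorem L513441 : N29851 = N14909 := eqes L513440 L126987
theorem L513442 : N29851 = N14909 := eqc rfl L513441 rfl
theorem L513446 : sm gc N14909 = N43506 := trfs L513442 (flp_c L367901) rfl
theorem L513447 : N43506 = N21707 := eqes L513446 (flp_c L184404)
theorem L513448 : N43506 = N21707 := eqc rfl L513447 rfl
theorem L513471 : sm gg N21707 = N29848 := trfs L513448 L367904 rfl
theorem L513472 : N29848 = N14912 := eqes L513471 L184407
theorem L513473 : N29848 = N14912 := eqc rfl L513472 rfl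
theorem L513476 : sm gb N14912 = N42945 := trfs L513473 (flp_b L363167) rfl
theorem L513477 : N42945 = N21709 := eqes L513476 (flp_b L184419)
theorem L513478 : N42945 = N21709 := eqc rfl L513477 rfl
theorem L513486 : sm gh N14912 = N20504 := trfs L513473 (flp_h L253038) rfl
theorem L513487 : N20504 = N10259 := eqes L513486 (flp_h L127008)
theorem L513488 : N20504 = N10259 := eqc rfl L513487 rfl
theorem L513491 : sm gb N10259 = N29468 := trfs L513488 (flp_b L249827) rfl
theorem L513492 : N29468 = N14911 := eqes L513491 (flp_b L127003)
theorem L513493 : N29468 = N14911 := eqc rfl L513492 rfl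
theorem L513501 : sm ga N14911 = N42189 := trfs L513493 (flp_a L356684) rfl
theorem L513502 : N42189 = N21708 := eqes L513501 (flp_a L184411)
theorem L513503 : N42189 = N21708 := eqc rfl L513502 rfl
theorem L513529 : sm gc N21708 = N28963 := trfs L513503 (flp_c L356682) rfl
theorem L513530 : N28963 = N31611 := eqes L513529 (flp_c L267883)
theorem L513531 : N31611 = N28963 := (eqc rfl L513530 rfl).symm
theorem L513534 : sm gf N21708 = N30709 := trfs L513503 L356687 rfl
theorem L513535 : N30709 = N29844 := eqes L513534 (flp_f L253012)
theorem L513536 : N30709 = N29844 := eqc rfl L513535 rfl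
theorem L513545 : sm gg N29844 = N44785 := trfs L513536 L378897 rfl
theorem L513546 : N44785 = N43498 := eqes L513545 (flp_g L367843)
theorem L513547 : N44785 = N43498 := eqc rfl L513546 rfl
theorem L513549 : sm gh N29844 = N44786 := trfs L513536 L378907 rfl
theorem L513550 : N44786 = N43501 := eqes L513549 L367859
theorem L513551 : N44786 = N43501 := eqc rfl L513550 rfl
theorem L513552 : sm gi N29844 = N23246 := trfs L513536 (flp_i L377874) L505874
theorem L513553 : N23246 = N20501 := eqes L513552 (flp_i L253006)
theorem L513554 : N23246 = N20501 := eqc rfl L513553 rfl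
theorem L513562 : sm ge N20501 = N15959 := trfs L513554 (flp_e L197740) rfl
theorem L513563 : N15959 = N29723 := eqes L513562 (flp_e L251977)
theorem L513564 : N29723 = N15959 := (eqc rfl L513563 rfl).symm
theorem L513565 : sm gf N20501 = N33896 := trfs L513554 L287556 rfl
theorem L513566 : N33896 = N14910 := eqes L513565 L174230
theorem L513567 : N33896 = N14910 := eqc rfl L513566 rfl
theorem L513568 : sm gg N20501 = N33891 := trfs L513554 (flp_g L287522) rfl
theorem L513569 : N33891 = N29841 := eqes L513568 (flp_g L252989)
theorem L513570 : N33891 = N29841 := eqc rfl L513569 rfl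
theorem L513572 : sm gh N20501 = N33877 := trfs L513554 (flp_h L287408) rfl
theorem L513573 : N33877 = N29465 := eqes L513572 (flp_h L249801)
theorem L513574 : N33877 = N29465 := eqc rfl L513573 rfl
theorem L513580 : sm ge N29465 = N23234 := trfs L513574 (flp_e L287402) rfl
theorem L513581 : N23234 = N42819 := eqes L513580 (flp_e L362111)
theorem L513582 : N42819 = N23234 := (eqc rfl L513581 rfl).symm
theorem L513584 : sm ga N23234 = N29384 := trfs L513582 (flp_a L362108) rfl
theorem L513585 : N29384 = N33823 := eqes L513584 (flp_a L286944)
theorem L513586 : N33823 = N29384 := (eqc rfl L513585 rfl).symm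
theorem L513589 : sm ge N23234 = N29465 := trfs L513582 L362111 rfl
theorem L513594 : sm ga N29384 = N23234 := trfs L513586 L286944 rfl
theorem L513601 : sm gh N29384 = N23204 := trfs L513586 L286948 rfl
theorem L513602 : N23204 = N20420 := eqes L513601 L249120
theorem L513603 : N23204 = N20420 := eqc rfl L513602 rfl
theorem L513611 : sm gd N20420 = N15946 := trfs L513603 L197392 rfl
theorem L513612 : N15946 = N16280 := eqes L513611 L420156
theorem L513613 : N16280 = N15946 := (eqc rfl L513612 rfl).symm
theorem L513626 : sm gd N15946 = N20420 := trfs L513613 (flp_d L420156) rfl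
theorem L513630 : sm gg N15946 = N23713 := trfs L513613 (flp_g L201666) rfl
theorem L513631 : N23713 = N23223 := eqes L513630 (flp_g L197554)
theorem L513632 : N23713 = N23223 := eqc rfl L513631 rfl
theorem L513642 : sm gf N23223 = N34570 := trfs L513632 (flp_f L293122) rfl
theorem L513643 : N34570 = N33856 := eqes L513642 (flp_f L287218)
theorem L513644 : N34570 = N33856 := eqc rfl L513643 rfl
theorem L513649 : sm gi N23223 = N16277 := trfs L513632 (flp_i L201661) rfl
theorem L513650 : N16277 = N33862 := eqes L513649 L287272
theorem L513651 : N33862 = N16277 := (eqc rfl L513650 rfl).symm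
theorem L513657 : sm gi N16277 = N23223 := trfs L513651 (flp_i L287272) rfl
theorem L513678 : sm gc N33856 = N23709 := trfs L513644 L293120 rfl
theorem L513679 : N23709 = N23219 := eqes L513678 (flp_c L287214)
theorem L513680 : N23709 = N23219 := eqc rfl L513679 rfl
theorem L513689 : sm ge N23219 = N34571 := trfs L513680 (flp_e L293130) rfl
theorem L513690 : N34571 = N33857 := eqes L513689 L287222
theorem L513691 : N34571 = N33857 := eqc rfl L513690 rfl
theorem L513698 : sm gb N33857 = N23724 := trfs L513691 L293128 rfl
theorem L513699 : N23724 = N26088 := eqes L513698 L287226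
theorem L513700 : N26088 = N23724 := (eqc rfl L513699 rfl).symm
theorem L513704 : sm gi N33857 = N23708 := trfs L513691 (flp_i L293126) rfl
theorem L513711 : sm gc N23724 = N38047 := trfs L513700 (flp_c L321944) rfl
theorem L513712 : N38047 = N34588 := eqes L513711 (flp_c L293288)
theorem L513713 : N38047 = N34588 := eqc rfl L513712 rfl
theorem L513744 : sm ge N34588 = N26087 := trfs L513713 (flp_e L321940) rfl
theorem L513745 : N26087 = N23723 := eqes L513744 L293290
theorem L513746 : N26087 = N12749 := eqc rfl L513745 L491168
theorem L513763 : sm gi N12749 = N38048 := trfs L513746 L321949 rfl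
theorem L513764 : N38048 = N8828 := eqes L513763 L108622
theorem L513765 : N38048 = N8828 := eqc rfl L513764 rfl
theorem L513766 : sm ga N8828 = N26153 := trfs L513765 L321951 rfl
theorem L513767 : N26153 = N6095 := eqes L513766 L75454
theorem L513768 : N26153 = N6095 := eqc rfl L513767 rfl
theorem L513777 : sm ge N6095 = N38136 := trfs L513768 (flp_e L322688) rfl
theorem L513778 : N38136 = N8834 := eqes L513777 L75501
theorem L513779 : N38136 = N8834 := eqc rfl L513778 rfl
theorem L513794 : sm gc N8834 = N12649 := trfs L513779 L322686 L491753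
theorem L513795 : N12649 = N12702 := eqes L513794 (flp_c L108253)
theorem L513796 : N12702 = N12649 := (eqc rfl L513795 rfl).symm
theorem L513812 : sm gj N12649 = N18485 := trfs L513796 L157056 rfl
theorem L513813 : N18485 = N18409 := eqes L513812 (flp_j L156432)
theorem L513814 : N18485 = N18409 := eqc rfl L513813 rfl
theorem L513815 : sm gh N12649 = N18486 := trfs L513796 L157063 rfl
theorem L513816 : N18486 = N8819 := eqes L513815 L107821
theorem L513817 : N18486 = N8819 := eqc rfl L513816 rfl
theorem L513835 : sm gj N8819 = N26919 := trfs L513817 (flp_j L228102) rfl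
theorem L513836 : N26919 = N12801 := eqes L513835 (flp_j L109051)
theorem L513837 : N26919 = N12801 := eqc rfl L513836 rfl
theorem L513843 : sm gc N12801 = N18641 := trfs L513837 L228097 rfl
theorem L513844 : N18641 = N18618 := eqes L513843 (flp_c L158141)
theorem L513845 : N18641 = N18618 := eqc rfl L513844 rfl
theorem L513851 : sm gg N12801 = N39249 := trfs L513837 (flp_g L331677) rfl
theorem L513852 : N39249 = N18616 := eqes L513851 (flp_g L158126)
theorem L513853 : N39249 = N18616 := eqc rfl L513852 rfl
theorem L513861 : sm gh N18616 = N26918 := trfs L513853 (flp_h L331671) rfl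
theorem L513862 : N26918 = N26809 := eqes L513861 (flp_h L227187)
theorem L513863 : N26918 = N26809 := eqc rfl L513862 rfl
theorem L513864 : sm ga N26809 = N39198 := trfs L513863 (flp_a L331207) rfl
theorem L513865 : N39198 = N34578 := eqes L513864 (flp_a L293195)
theorem L513866 : N39198 = N34578 := eqc rfl L513865 rfl
theorem L513884 : sm gi N26809 = N38999 := trfs L513863 (flp_i L329688) rfl
theorem L513885 : N38999 = N39101 := eqes L513884 L330450
theorem L513886 : N39101 = N38999 := (eqc rfl L513885 rfl).symm
theorem L513890 : sm gg N38999 = N26150 := trfs L513886 L330454 L491710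
theorem L513891 : N26150 = N26739 := eqes L513890 (flp_g L329682)
theorem L513892 : N26739 = N26150 := (eqc rfl L513891 rfl).symm
theorem L513913 : sm gi N26150 = N18409 := trfs L513892 L226658 L513814
theorem L513914 : N18409 = N38133 := eqes L513913 L322660
theorem L513915 : N38133 = N18409 := (eqc rfl L513914 rfl).symm
theorem L513916 : sm gb N18409 = N26162 := trfs L513915 L322662 rfl
theorem L513917 : N26162 = N26797 := eqes L513916 (flp_b L227074)
theorem L513918 : N26162 = N26097 := eqc rfl L513917 L491814
theorem L513927 : sm gd N26097 = N37480 := trfs L513918 (flp_d L317215) rfl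
theorem L513928 : N37480 = N37400 := eqes L513927 (flp_d L316594)
theorem L513929 : N37480 = N37400 := eqc rfl L513928 rfl
theorem L513936 : sm gh N26097 = N38145 := trfs L513918 L322755 rfl
theorem L513937 : N38145 = N38059 := eqes L513936 L322043
theorem L513938 : N38145 = N18610 := eqc rfl L513937 L491795
theorem L513945 : sm gj N18610 = N26164 := trfs L513938 L322761 rfl
theorem L513946 : N26164 = N12795 := eqes L513945 L158079
theorem L513947 : N26164 = N12795 := eqc rfl L513946 rfl
theorem L513949 : sm ga N12795 = N33933 := trfs L513947 (flp_a L287863) rfl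
theorem L513950 : N33933 = N18572 := eqes L513949 (flp_a L157776)
theorem L513951 : N33933 = N18572 := eqc rfl L513950 rfl
theorem L513970 : sm gh N18572 = N23278 := trfs L513951 (flp_h L287861) rfl
theorem L513971 : N23278 = N26731 := eqes L513970 (flp_h L226583)
theorem L513972 : N26731 = N23278 := (eqc rfl L513971 rfl).symm
theorem L513993 : sm gi N23278 = N38993 := trfs L513972 L329627 rfl
theorem L513994 : N38993 = N15985 := eqes L513993 (flp_i L198003)
theorem L513995 : N38993 = N15985 := eqc rfl L513994 rfl
theorem L513996 : sm ga N15985 = N26802 := trfs L513995 L329629 rfl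
theorem L513997 : N26802 = N12349 := eqes L513996 L136347
theorem L513998 : N26802 = N12349 := eqc rfl L513997 rfl
theorem L514008 : sm ge N12349 = N18399 := trfs L513998 L227121 rfl
theorem L514009 : N18399 = N8502 := eqes L514008 (flp_e L105372)
theorem L514010 : N18399 = N8502 := eqc rfl L514009 rfl
theorem L514030 : sm gf N8502 = N12642 := trfs L514010 L156347 rfl
theorem L514031 : N12642 = N5864 := eqes L514030 L72806
theorem L514032 : N12642 = N5864 := eqc rfl L514031 rfl
theorem L514053 : sm gi N5864 = N8699 := trfs L514032 (flp_i L107762) rfl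
theorem L514054 : N8699 = N8506 := eqes L514053 L72835
theorem L514055 : N8699 = N8477 := eqc rfl L514054 L459418
theorem L514062 : N5993 = N5846 := L457276.trans L491853
theorem L514066 : sm gg N8477 = N5994 := trfs L514055 L74404 rfl
theorem L514067 : N5994 = N5845 := eqes L514066 (flp_g L72602)
theorem L514068 : N5994 = N5845 := eqc rfl L514067 rfl
theorem L514078 : sm gd N5845 = N4053 := trfs L514068 (flp_d L51469) L457299
theorem L514079 : N4053 = N4039 := eqes L514078 (flp_d L50270)
theorem L514080 : N4053 = N4039 := eqc rfl L514079 rfl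
theorem L514084 : sm gh N5845 = N4201 := trfs L514068 L51476 rfl
theorem L514085 : N4201 = N8478 := eqes L514084 L72610
theorem L514086 : N8478 = N4201 := (eqc rfl L514085 rfl).symm
theorem L514099 : sm gh N4201 = N5845 := trfs L514086 (flp_h L72610) rfl
theorem L514148 : sm gh N4039 = N5830 := trfs L514080 (flp_h L50161) rfl
theorem L514149 : N5830 = N5847 := eqes L514148 L50286
theorem L514150 : N5830 = N2858 := eqc rfl L514149 L459553
theorem L514155 : sm gc N2858 = N4045 := trfs L514150 L50155 L447738
theorem L514156 : N4045 = N4132 := eqes L514155 (flp_c L35643)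
theorem L514157 : N4132 = N4045 := (eqc rfl L514156 rfl).symm
theorem L514174 : sm gh N4045 = N5984 := trfs L514157 L51391 rfl
theorem L514175 : N5984 = N2797 := eqes L514174 (flp_h L34946)
theorem L514176 : N5984 = N2797 := eqc rfl L514175 rfl
theorem L514179 : sm ga N2797 = N3695 := trfs L514176 (flp_a L74140) L457305
theorem L514180 : N3695 = N4034 := eqes L514179 (flp_a L34866)
theorem L514181 : N4034 = N3695 := (eqc rfl L514180 rfl).symm
theorem L514183 : N4138 = N4039 := L457299.trans L514080
theorem L514236 : sm gg N3695 = N5840 := trfs L514181 L50233 rfl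
theorem L514237 : N5840 = N5350 := eqes L514236 (flp_g L46117)
theorem L514238 : N5840 = N5350 := eqc rfl L514237 rfl
theorem L514242 : sm ga N5350 = N4044 := trfs L514238 L50235 rfl
theorem L514243 : N4044 = N4179 := eqes L514242 L46112
theorem L514244 : N4179 = N4044 := (eqc rfl L514243 rfl).symm
theorem L514257 : sm gi N5350 = N8427 := trfs L514238 (flp_i L72198) rfl
theorem L514258 : N8427 = N3694 := eqes L514257 (flp_i L46110)
theorem L514259 : N8427 = N3694 := eqc rfl L514258 rfl
theorem L514270 : sm gh N3694 = N12241 := trfs L514259 L104482 rfl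
theorem L514271 : N12241 = N2554 := eqes L514270 (flp_h L31992)
theorem L514272 : N12241 = N2554 := eqc rfl L514271 rfl
theorem L514281 : sm gi N2554 = N17813 := trfs L514272 L151566 rfl
theorem L514282 : N17813 = N3669 := eqes L514281 (flp_i L31800)
theorem L514283 : N17813 = N3669 := eqc rfl L514282 rfl
theorem L514288 : sm ge N3669 = N12245 := trfs L514283 L151570 rfl
theorem L514289 : N12245 = N2539 := eqes L514288 L31798
theorem L514290 : N12245 = N2539 := eqc rfl L514289 rfl
theorem L514299 : sm gc N2539 = N17803 := trfs L514290 (flp_c L151490) rfl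
theorem L514300 : N17803 = N3593 := eqes L514299 (flp_c L31129)
theorem L514301 : N17803 = N3593 := eqc rfl L514300 rfl
theorem L514329 : sm gf N3593 = N25539 := trfs L514301 (flp_f L216855) rfl
theorem L514330 : N25539 = N5148 := eqes L514329 (flp_f L44381)
theorem L514331 : N25539 = N5148 := eqc rfl L514330 rfl
theorem L514381 : sm gh N5148 = N17606 := trfs L514331 L216859 rfl
theorem L514382 : N17606 = N7461 := eqes L514381 L64050
theorem L514383 : N17606 = N4103 := eqc rfl L514382 L457911
theorem L514398 : sm gi N4103 = N12102 := trfs L514383 (flp_i L149900) rfl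
theorem L514399 : N12102 = N5913 := eqes L514398 (flp_i L50841)
theorem L514400 : N12102 = N5913 := eqc rfl L514399 rfl
theorem L514406 : N8572 = N7640 := L445285.trans L447440
theorem L514407 : sm gd N5913 = N17605 := trfs L514400 L149890 rfl
theorem L514408 : N17605 = N4086 := eqes L514407 L50839
theorem L514409 : N17605 = N4086 := eqc rfl L514408 rfl
theorem L514438 : sm gg N4086 = N12103 := trfs L514409 L149896 rfl
theorem L514439 : N12103 = N2826 := eqes L514438 (flp_g L35286)
theorem L514440 : N12103 = N2826 := eqc rfl L514439 rfl
theorem L514459 : sm gi N2826 = N17608 := trfs L514440 L149916 rfl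
theorem L514460 : N17608 = N1968 := eqes L514459 L24538
theorem L514461 : N17608 = N1968 := eqc rfl L514460 rfl
theorem L514469 : sm ge N1968 = N25638 := trfs L514461 (flp_e L217655) rfl
theorem L514470 : N25638 = N1968 := eqes L514469 L17171
theorem L514471 : N25638 = N1968 := eqc rfl L514470 rfl
theorem L514489 : sm gj N1968 = N36939 := trfs L514471 (flp_j L312832) rfl
theorem L514490 : N36939 = N2815 := eqes L514489 (flp_j L24447)
theorem L514491 : N36939 = N2815 := eqc rfl L514490 rfl
theorem L514505 : sm gi N2815 = N25343 := trfs L514491 (flp_i L312825) rfl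
theorem L514506 : N25343 = N4057 := eqes L514505 (flp_i L35046)
theorem L514507 : N25343 = N4057 := eqc rfl L514506 rfl
theorem L514519 : sm gf N4057 = N36938 := trfs L514507 L312815 rfl
theorem L514520 : N36938 = N2807 := eqes L514519 (flp_f L35038)
theorem L514521 : N36938 = N2807 := eqc rfl L514520 rfl
theorem L514536 : sm gj N2807 = N25637 := trfs L514521 L312820 rfl
theorem L514537 : N25637 = N1960 := eqes L514536 L24374
theorem L514538 : N25637 = N1960 := eqc rfl L514537 rfl
theorem L514547 : sm gd N1960 = N37371 := trfs L514538 (flp_d L316360) rfl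
theorem L514548 : N37371 = N2825 := eqes L514547 L24523
theorem L514549 : N37371 = N2825 := eqc rfl L514548 rfl
theorem L514557 : sm gf N2825 = N25631 := trfs L514549 (flp_f L316356) rfl
theorem L514558 : N25631 = N4084 := eqes L514557 L35270
theorem L514559 : N25631 = N4084 := eqc rfl L514558 rfl
theorem L514568 : N5910 = N5269 := L444245.trans L458047
theorem L514574 : sm gg N4084 = N37366 := trfs L514559 (flp_g L316323) rfl
theorem L514575 : N37366 = N5913 := eqes L514574 L50835
theorem L514576 : N37366 = N5913 := eqc rfl L514575 rfl
theorem L514588 : sm ge N5913 = N25628 := trfs L514576 (flp_e L316319) rfl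
theorem L514589 : N25628 = N8576 := eqes L514588 (flp_e L73441)
theorem L514590 : N25628 = N8576 := eqc rfl L514589 rfl
theorem L514610 : sm gi N8576 = N37367 := trfs L514590 L316327 rfl
theorem L514611 : N37367 = N5941 := eqes L514610 L73443
theorem L514612 : N37367 = N5941 := eqc rfl L514611 rfl
theorem L514617 : sm gg N5941 = N25632 := trfs L514612 L316333 rfl
theorem L514618 : N25632 = N4102 := eqes L514617 (flp_g L51057)
theorem L514619 : N25632 = N4102 := eqc rfl L514618 rfl
theorem L514622 : sm gc N4102 = N37370 := trfs L514619 (flp_c L316351) rfl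
theorem L514623 : N37370 = N5936 := eqes L514622 (flp_c L51019)
theorem L514624 : N37370 = N5266 := eqc rfl L514623 L458117
theorem L514639 : sm gi N5266 = N25630 := trfs L514624 (flp_i L316347) rfl
theorem L514640 : N25630 = N7638 := eqes L514639 L65614
theorem L514641 : N25630 = N7638 := eqc rfl L514640 rfl
theorem L514650 : sm gd N7638 = N17617 := trfs L514641 L217588 rfl
theorem L514651 : N17617 = N11091 := eqes L514650 (flp_d L94940)
theorem L514652 : N17617 = N11091 := eqc rfl L514651 rfl
theorem L514685 : sm gh N11091 = N25140 := trfs L514652 (flp_h L213466) rfl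
theorem L514686 : N25140 = N16134 := eqes L514685 L137682
theorem L514687 : N25140 = N16134 := eqc rfl L514686 rfl
theorem L514701 : sm gg N16134 = N36631 := trfs L514687 (flp_g L310161) rfl
theorem L514702 : N36631 = N23494 := eqes L514701 (flp_g L199912)
theorem L514703 : N36631 = N23494 := eqc rfl L514702 rfl
theorem L514706 : sm ga N23494 = N25172 := trfs L514703 L310158 rfl
theorem L514707 : N25172 = N18184 := eqes L514706 L199909
theorem L514708 : N25172 = N17296 := eqc rfl L514707 L448840
theorem L514722 : sm gj N17296 = N36678 := trfs L514708 (flp_j L310507) rfl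
theorem L514723 : N36678 = N25170 := eqes L514722 (flp_j L213689)
theorem L514724 : N36678 = N25170 := eqc rfl L514723 rfl
theorem L514729 : sm gh N25170 = N25696 := trfs L514724 L310509 rfl
theorem L514730 : N25696 = N17647 := eqes L514729 L213692
theorem L514731 : N25696 = N17647 := eqc rfl L514730 rfl
theorem L514746 : sm gi N17647 = N37466 := trfs L514731 L317110 rfl
theorem L514747 : N37466 = N25697 := eqes L514746 L218114
theorem L514748 : N37466 = N25697 := eqc rfl L514747 rfl
theorem L514751 : sm gj N25697 = N25699 := trfs L514748 L317115 rfl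
theorem L514752 : N25699 = N17650 := eqes L514751 L218121
theorem L514753 : N25699 = N8600 := eqc rfl L514752 L448996
theorem L514761 : sm gd N8600 = N37428 := trfs L514753 (flp_d L316811) rfl
theorem L514762 : N37428 = N5929 := eqes L514761 (flp_d L73632)
theorem L514763 : N37428 = N5929 := eqc rfl L514762 rfl
theorem L514774 : sm gi N5929 = N25669 := trfs L514763 (flp_i L316807) rfl
theorem L514775 : N25669 = N8601 := eqes L514774 L73638
theorem L514776 : N25669 = N8355 := eqc rfl L514775 L446427
theorem L514786 : sm ge N8355 = N37427 := trfs L514776 L316800 rfl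
theorem L514787 : N37427 = N5765 := eqes L514786 L71632
theorem L514788 : N37427 = N5765 := eqc rfl L514787 rfl
theorem L514820 : sm gg N5765 = N25673 := trfs L514788 L316804 rfl
theorem L514821 : N25673 = N3984 := eqes L514820 L49644
theorem L514822 : N25673 = N3984 := eqc rfl L514821 rfl
theorem L514826 : sm gb N3984 = N37433 := trfs L514822 (flp_b L316846) rfl
theorem L514827 : N37433 = N2762 := eqes L514826 L34474
theorem L514828 : N37433 = N2762 := eqc rfl L514827 rfl
theorem L514844 : N5766 = N2833 := L445148.trans L447398
theorem L514865 : N8258 = N4059 := L445157.trans L446640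
theorem L514876 : sm ge N2762 = N25672 := trfs L514828 (flp_e L316844) rfl
theorem L514877 : N25672 = N3988 := eqes L514876 (flp_e L34505)
theorem L514878 : N25672 = N3988 := eqc rfl L514877 rfl
theorem L514897 : sm gi N3988 = N37434 := trfs L514878 L316851 rfl
theorem L514898 : N37434 = N5757 := eqes L514897 (flp_i L446606)
theorem L514899 : N37434 = N5757 := eqc rfl L514898 rfl
theorem L514905 : sm gd N5757 = N25702 := trfs L514899 L316857 rfl
theorem L514906 : N25702 = N8344 := eqes L514905 L71539
theorem L514907 : N25702 = N8344 := eqc rfl L514906 rfl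
theorem L514913 : sm gc N8344 = N17666 := trfs L514907 L218154 rfl
theorem L514914 : N17666 = N11886 := eqes L514913 (flp_c L101563)
theorem L514915 : N17666 = N11886 := eqc rfl L514914 rfl
theorem L514929 : sm gd N11886 = N12577 := trfs L514915 L150371 rfl
theorem L514930 : N12577 = N8192 := eqes L514929 (flp_d L101559)
theorem L514931 : N12577 = N8192 := eqc rfl L514930 rfl
theorem L514959 : sm gi N8192 = N8657 := trfs L514931 (flp_i L107230) rfl
theorem L514960 : N8657 = N11857 := eqes L514959 (flp_i L101345)
theorem L514961 : N8657 = N5967 := eqc rfl L514960 L448566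
theorem L514977 : sm gj N5967 = N12441 := trfs L514961 (flp_j L106167) rfl
theorem L514978 : N12441 = N8566 := eqes L514977 (flp_j L73354)
theorem L514979 : N12441 = N8566 := eqc rfl L514978 rfl
theorem L514989 : sm ge N8566 = N8891 := trfs L514979 L106164 rfl
theorem L514990 : N8891 = N6134 := eqes L514989 L73351
theorem L514991 : N8891 = N6134 := eqc rfl L514990 rfl
theorem L514993 : sm gg N8566 = N18101 := trfs L514979 (flp_g L154007) rfl
theorem L514994 : N18101 = N12439 := eqes L514993 (flp_g L106151)
theorem L514995 : N18101 = N12439 := eqc rfl L514994 rfl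
theorem L515019 : sm gi N12439 = N26363 := trfs L514995 L223677 rfl
theorem L515020 : N26363 = N18102 := eqes L515019 L154010
theorem L515021 : N26363 = N17083 := eqc rfl L515020 L448625
theorem L515041 : sm gh N17083 = N38444 := trfs L515021 L325311 rfl
theorem L515042 : N38444 = N24853 := eqes L515041 L211231
theorem L515043 : N38444 = N24853 := eqc rfl L515042 rfl
theorem L515048 : sm gg N24853 = N26366 := trfs L515043 L325317 rfl
theorem L515049 : N26366 = N17084 := eqes L515048 L211238
theorem L515050 : N26366 = N17084 := eqc rfl L515049 rfl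
theorem L515062 : sm ge N17084 = N18761 := trfs L515050 L223707 rfl
theorem L515063 : N18761 = N11758 := eqes L515062 L145650
theorem L515064 : N18761 = N11758 := eqc rfl L515063 rfl
theorem L515088 : sm gh N11758 = N12902 := trfs L515064 (flp_h L159377) rfl
theorem L515089 : N12902 = N8106 := eqes L515088 (flp_h L100585)
theorem L515090 : N12902 = N8106 := eqc rfl L515089 rfl
theorem L515108 : sm gi N8106 = N6134 := trfs L515090 (flp_i L109923) L514991
theorem L515109 : N6134 = N11736 := eqes L515108 (flp_i L100407)
theorem L515110 : N11736 = N6134 := (eqc rfl L515109 rfl).symm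
theorem L515118 : sm gg N6134 = N17054 := trfs L515110 L145394 rfl
theorem L515119 : N17054 = N8889 := eqes L515118 (flp_g L75994)
theorem L515120 : N17054 = N8889 := eqc rfl L515119 rfl
theorem L515138 : sm gi N8889 = N11757 := trfs L515120 L145400 rfl
theorem L515139 : N11757 = N12899 := eqes L515138 L109902
theorem L515140 : N12899 = N11757 := (eqc rfl L515139 rfl).symm
theorem L515151 : sm gj N11757 = N18755 := trfs L515140 (flp_j L159338) rfl
theorem L515152 : N18755 = N17085 := eqes L515151 L145655
theorem L515153 : N18755 = N17085 := eqc rfl L515152 rfl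
theorem L515155 : sm gi N11757 = N8889 := trfs L515140 (flp_i L109902) rfl
theorem L515169 : sm gh N17085 = N27294 := trfs L515153 L231257 rfl
theorem L515170 : N27294 = N24856 := eqes L515169 L211256
theorem L515171 : N27294 = N24856 := eqc rfl L515170 rfl
theorem L515184 : sm gf N24856 = N39764 := trfs L515171 (flp_f L336045) rfl
theorem L515185 : N39764 = N35911 := eqes L515184 (flp_f L304308)
theorem L515186 : N39764 = N35911 := eqc rfl L515185 rfl
theorem L515192 : sm gj N35911 = N27290 := trfs L515186 L336048 rfl
theorem L515193 : N27290 = N24658 := eqes L515192 L304311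
theorem L515194 : N27290 = N24658 := eqc rfl L515193 rfl
theorem L515210 : sm gg N24658 = N19067 := trfs L515194 L231230 rfl
theorem L515211 : N19067 = N16954 := eqes L515210 L209570
theorem L515212 : N19067 = N16954 := eqc rfl L515211 rfl
theorem L515221 : sm gd N16954 = N27735 := trfs L515212 L234945 rfl
theorem L515222 : N27735 = N24659 := eqes L515221 L209572
theorem L515223 : N27735 = N24659 := eqc rfl L515222 rfl
theorem L515231 : sm gh N16954 = N13119 := trfs L515212 (flp_h L161929) rfl
theorem L515232 : N13119 = N11670 := eqes L515231 (flp_h L144543)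
theorem L515233 : N13119 = N11670 := eqc rfl L515232 rfl
theorem L515242 : sm ge N11670 = N19066 := trfs L515233 (flp_e L161925) rfl
theorem L515243 : N19066 = N16952 := eqes L515242 L144528
theorem L515244 : N19066 = N16952 := eqc rfl L515243 rfl
theorem L515245 : sm gf N11670 = N9048 := trfs L515233 L111733 rfl
theorem L515246 : N9048 = N8049 := eqes L515245 (flp_f L99839)
theorem L515247 : N9048 = N8049 := eqc rfl L515246 rfl
theorem L515250 : sm gi N11670 = N9044 := trfs L515233 (flp_i L111728) rfl
theorem L515251 : N9044 = N16932 := eqes L515250 (flp_i L144362)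
theorem L515252 : N16932 = N9044 := (eqc rfl L515251 rfl).symm
theorem L515262 : sm gf N9044 = N11657 := trfs L515252 (flp_f L144355) rfl
theorem L515263 : N11657 = N6248 := eqes L515262 L77288
theorem L515264 : N11657 = N6248 := eqc rfl L515263 rfl
theorem L515273 : sm gb N6248 = N6248 := trfs L515264 L99734 L515264
theorem L515274 : N6248 = N9047 := eqes L515273 L77306
theorem L515275 : N9047 = N6248 := (eqc rfl L515274 rfl).symm
theorem L515299 : sm gi N6248 = N13123 := trfs L515275 L111758 rfl
theorem L515300 : N13123 = N9048 := eqes L515299 L77314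
theorem L515301 : N13123 = N8049 := eqc rfl L515300 L515247
theorem L515314 : sm gh N8049 = N19070 := trfs L515301 L161953 rfl
theorem L515315 : N19070 = N11671 := eqes L515314 L99846
theorem L515316 : N19070 = N11671 := eqc rfl L515315 rfl
theorem L515317 : sm ga N11671 = N27737 := trfs L515316 (flp_a L234962) rfl
theorem L515318 : N27737 = N16946 := eqes L515317 (flp_a L144478)
theorem L515319 : N27737 = N16946 := eqc rfl L515318 rfl
theorem L515324 : sm gd N11671 = N27738 := trfs L515316 L234969 rfl
theorem L515325 : N27738 = N16955 := eqes L515324 L144551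
theorem L515326 : N27738 = N16955 := eqc rfl L515325 rfl
theorem L515347 : sm gg N16955 = N19073 := trfs L515326 L234973 rfl
theorem L515348 : N19073 = N11759 := eqes L515347 L144554
theorem L515349 : N19073 = N11759 := eqc rfl L515348 rfl
theorem L515367 : sm gj N11759 = N13192 := trfs L515349 L161982 rfl
theorem L515368 : N13192 = N8195 := eqes L515367 L100597
theorem L515369 : N13192 = N8195 := eqc rfl L515368 rfl
theorem L515375 : sm gb N8195 = N9100 := trfs L515369 L112305 rfl
theorem L515376 : N9100 = N8195 := eqes L515375 L70308
theorem L515377 : N9100 = N8195 := eqc rfl L515376 rfl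
theorem L515387 : sm gf N8195 = N18888 := trfs L515369 (flp_f L160395) rfl
theorem L515388 : N18888 = N11891 := eqes L515387 (flp_f L101599)
theorem L515389 : N18888 = N11891 := eqc rfl L515388 rfl
theorem L515404 : sm gg N11891 = N27476 := trfs L515389 (flp_g L232722) rfl
theorem L515405 : N27476 = N17286 := eqes L515404 (flp_g L147207)
theorem L515406 : N27476 = N17286 := eqc rfl L515405 rfl
theorem L515424 : sm gj N17286 = N40032 := trfs L515406 (flp_j L338206) rfl
theorem L515425 : N40032 = N25156 := eqes L515424 (flp_j L213581)
theorem L515426 : N40032 = N25156 := eqc rfl L515425 rfl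
theorem L515432 : sm gd N25156 = N27473 := trfs L515426 (flp_d L338201) rfl
theorem L515433 : N27473 = N17285 := eqes L515432 (flp_d L213577)
theorem L515434 : N27473 = N17285 := eqc rfl L515433 rfl
theorem L515450 : sm gh N17285 = N18882 := trfs L515434 (flp_h L232693) rfl
theorem L515451 : N18882 = N11889 := eqes L515450 (flp_h L147195)
theorem L515452 : N18882 = N11889 := eqc rfl L515451 rfl
theorem L515469 : sm gi N11889 = N12986 := trfs L515452 (flp_i L160344) rfl
theorem L515470 : N12986 = N17236 := eqes L515469 (flp_i L146827)
theorem L515471 : N12986 = N8951 := eqc rfl L515470 L458827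
theorem L515487 : sm gj N8951 = N8953 := trfs L515471 L110600 rfl
theorem L515488 : N8953 = N6179 := eqes L515487 L76498
theorem L515489 : N8953 = N6179 := eqc rfl L515488 rfl
theorem L515495 : sm gc N6179 = N12980 := trfs L515489 (flp_c L110556) rfl
theorem L515496 : N12980 = N4274 := eqes L515495 (flp_c L53001)
theorem L515497 : N12980 = N4274 := eqc rfl L515496 rfl
theorem L515548 : sm gi N4274 = N18876 := trfs L515497 L160297 rfl
theorem L515549 : N18876 = N6180 := eqes L515548 L53008
theorem L515550 : N18876 = N5659 := eqc rfl L515549 L448046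
theorem L515567 : sm gh N5659 = N27467 := trfs L515550 L232648 rfl
theorem L515568 : N27467 = N8200 := eqes L515567 L70341
theorem L515569 : N27467 = N8200 := eqc rfl L515568 rfl
theorem L515582 : sm gg N8200 = N18879 := trfs L515569 L232655 rfl
theorem L515583 : N18879 = N5660 := eqes L515582 L70346
theorem L515584 : N18879 = N5660 := eqc rfl L515583 rfl
theorem L515600 : sm gf N5660 = N13189 := trfs L515584 L160328 rfl
theorem L515601 : N13189 = N3915 := eqes L515600 L48782
theorem L515602 : N13189 = N3915 := eqc rfl L515601 rfl
theorem L515621 : sm gh N3915 = N9096 := trfs L515602 (flp_h L112282) rfl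
theorem L515622 : N9096 = N2713 := eqes L515621 (flp_h L33914)
theorem L515623 : N9096 = N2713 := eqc rfl L515622 rfl
theorem L515640 : sm gj N2713 = N13115 := trfs L515623 (flp_j L111704) rfl
theorem L515641 : N13115 = N3876 := eqes L515640 (flp_j L33618)
theorem L515642 : N13115 = N3876 := eqc rfl L515641 rfl
theorem L515659 : sm gi N3876 = N9041 := trfs L515642 (flp_i L111697) rfl
theorem L515660 : N9041 = N2999 := eqes L515659 L448458
theorem L515661 : N9041 = N2999 := eqc rfl L515660 rfl
theorem L515677 : sm gj N2999 = N6281 := trfs L515661 L77265 rfl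
theorem L515678 : N6281 = N2099 := eqes L515677 L25935
theorem L515679 : N6281 = N2099 := eqc rfl L515678 rfl
theorem L515687 : sm gc N2099 = N4351 := trfs L515679 L53854 rfl
theorem L515688 : N4351 = N3018 := eqes L515687 L26088
theorem L515689 : N4351 = N3018 := eqc rfl L515688 rfl
theorem L515690 : sm gd N2099 = N9082 := trfs L515679 (flp_d L77591) rfl
theorem L515691 : N9082 = N1460 := eqes L515690 (flp_d L18220)
theorem L515692 : N9082 = N1460 := eqc rfl L515691 rfl
theorem L515714 : sm gh N1460 = N13165 := trfs L515692 (flp_h L112110) rfl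
theorem L515715 : N13165 = N1016 := eqes L515714 (flp_h L12730)
theorem L515716 : N13165 = N1016 := eqc rfl L515715 rfl
theorem L515733 : sm gi N1016 = N19132 := trfs L515716 L162464 rfl
theorem L515734 : N19132 = N1016 := eqes L515733 L8900
theorem L515735 : N19132 = N1016 := eqc rfl L515734 rfl
theorem L515751 : sm gh N1016 = N27829 := trfs L515735 L235711 rfl
theorem L515752 : N27829 = N1460 := eqes L515751 L12730
theorem L515753 : N27829 = N1460 := eqc rfl L515752 rfl
theorem L515771 : sm gi N1460 = N19144 := trfs L515753 L235717 rfl
theorem L515772 : N19144 = N1886 := eqes L515771 L448402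
theorem L515773 : N19144 = N1886 := eqc rfl L515772 rfl
theorem L515787 : sm gj N1886 = N27692 := trfs L515773 (flp_j L234594) rfl
theorem L515788 : N27692 = N2688 := eqes L515787 (flp_j L23440)
theorem L515789 : N27692 = N2688 := eqc rfl L515788 rfl
theorem L515802 : sm gf N2688 = N27242 := trfs L515789 (flp_f L335611) L466003
theorem L515803 : N27242 = N3877 := eqes L515802 L33621
theorem L515804 : N27242 = N3877 := eqc rfl L515803 rfl
theorem L515827 : sm gi N3877 = N18715 := trfs L515804 (flp_i L230818) rfl
theorem L515828 : N18715 = N2935 := eqes L515827 (flp_i L447957)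
theorem L515829 : N18715 = N2935 := eqc rfl L515828 rfl
theorem L515845 : sm gh N2935 = N27220 := trfs L515829 (flp_h L230644) rfl
theorem L515846 : N27220 = N2036 := eqes L515845 (flp_h L25400)
theorem L515847 : N27220 = N2036 := eqc rfl L515846 rfl
theorem L515854 : sm ge N2036 = N39676 := trfs L515847 L335302 rfl
theorem L515855 : N39676 = N1413 := eqes L515854 (flp_e L17703)
theorem L515856 : N39676 = N1413 := eqc rfl L515855 rfl
theorem L515870 : sm gj N1413 = N27410 := trfs L515856 L335307 rfl
theorem L515871 : N27410 = N989 := eqes L515870 L12354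
theorem L515872 : N27410 = N989 := eqc rfl L515871 rfl
theorem L515891 : sm gh N989 = N18850 := trfs L515872 L232228 rfl
theorem L515892 : N18850 = N1425 := eqes L515891 L12445
theorem L515893 : N18850 = N1425 := eqc rfl L515892 rfl
theorem L515911 : sm gi N1425 = N27437 := trfs L515893 L232423 rfl
theorem L515912 : N27437 = N2056 := eqes L515911 L17865
theorem L515913 : N27437 = N1915 := eqc rfl L515912 L447867
theorem L515925 : sm gf N1915 = N39990 := trfs L515913 (flp_f L337897) rfl
theorem L515926 : N39990 = N1331 := eqes L515925 (flp_f L16745)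
theorem L515927 : N39990 = N1331 := eqc rfl L515926 rfl
theorem L515941 : sm ge N1331 = N27844 := trfs L515927 L337895 rfl
theorem L515942 : N27844 = N926 := eqes L515941 (flp_e L11696)
theorem L515943 : N27844 = N926 := eqc rfl L515942 rfl
theorem L515960 : sm gi N926 = N19142 := trfs L515943 (flp_i L235823) rfl
theorem L515961 : N19142 = N1327 := eqes L515960 (flp_i L11671)
theorem L515962 : N19142 = N705 := eqc rfl L515961 L447840
theorem L515979 : sm gh N705 = N27827 := trfs L515962 (flp_h L235701) rfl
theorem L515980 : N27827 = N485 := eqes L515979 (flp_h L6190)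
theorem L515981 : N27827 = N485 := eqc rfl L515980 rfl
theorem L515996 : sm gj N485 = N40307 := trfs L515981 (flp_j L340601) rfl
theorem L515997 : N40307 = N698 := eqes L515996 (flp_j L6133)
theorem L515998 : N40307 = N698 := eqc rfl L515997 rfl
theorem L516009 : sm gf N698 = N27664 := trfs L515998 (flp_f L340596) rfl
theorem L516010 : N27664 = N1008 := eqes L516009 L8832
theorem L516011 : N27664 = N1008 := eqc rfl L516010 rfl
theorem L516022 : sm gh N1008 = N19032 := trfs L516011 L234371 rfl
theorem L516023 : N19032 = N1450 := eqes L516022 L12651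
theorem L516024 : N19032 = N1450 := eqc rfl L516023 rfl
theorem L516032 : sm ga N1450 = N27688 := trfs L516024 (flp_a L234556) rfl
theorem L516033 : N27688 = N1834 := eqes L516032 (flp_a L16072)
theorem L516034 : N27688 = N1834 := eqc rfl L516033 rfl
theorem L516062 : sm gi N1834 = N40344 := trfs L516034 L340897 rfl
theorem L516063 : N40344 = N2640 := eqes L516062 L23015
theorem L516064 : N40344 = N2640 := eqc rfl L516063 rfl
theorem L516073 : sm gj N2640 = N27841 := trfs L516064 L340905 rfl
theorem L516074 : N27841 = N1845 := eqes L516073 L23023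
theorem L516075 : N27841 = N1845 := eqc rfl L516074 rfl
theorem L516083 : sm ge N1845 = N19141 := trfs L516075 L235807 rfl
theorem L516084 : N19141 = N2654 := eqes L516083 (flp_e L23139)
theorem L516085 : N19141 = N2654 := eqc rfl L516084 rfl
theorem L516115 : sm gf N2654 = N27435 := trfs L516085 (flp_f L232414) rfl
theorem L516116 : N27435 = N3766 := eqes L516115 (flp_f L32650)
theorem L516117 : N27435 = N3766 := eqc rfl L516116 rfl
theorem L516138 : sm gi N3766 = N18849 := trfs L516117 (flp_i L232407) rfl
theorem L516139 : N18849 = N2607 := eqes L516138 (flp_i L32643)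
theorem L516140 : N18849 = N2607 := eqc rfl L516139 rfl
theorem L516155 : sm gh N2607 = N27409 := trfs L516140 (flp_h L232221) rfl
theorem L516156 : N27409 = N1807 := eqes L516155 (flp_h L22717)
theorem L516157 : N27409 = N1807 := eqc rfl L516156 rfl
theorem L516166 : sm gg N1807 = N39938 := trfs L516157 (flp_g L337493) rfl
theorem L516167 : N39938 = N2606 := eqes L516166 L22707
theorem L516168 : N39938 = N2606 := eqc rfl L516167 rfl
theorem L516177 : sm ga N2606 = N27403 := trfs L516168 (flp_a L337488) rfl
theorem L516178 : N27403 = N2052 := eqes L516177 L22709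
theorem L516179 : N27403 = N2052 := eqc rfl L516178 rfl
theorem L516192 : sm gj N2052 = N39932 := trfs L516179 (flp_j L337441) rfl
theorem L516193 : N39932 = N2957 := eqes L516192 L25581
theorem L516194 : N39932 = N2957 := eqc rfl L516193 rfl
theorem L516209 : sm gh N2957 = N27419 := trfs L516194 L337443 rfl
theorem L516210 : N27419 = N4273 := eqes L516209 L36799
theorem L516211 : N27419 = N4273 := eqc rfl L516210 rfl
theorem L516224 : sm gg N4273 = N39694 := trfs L516211 (flp_g L335459) rfl
theorem L516225 : N39694 = N6131 := eqes L516224 (flp_g L52610)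
theorem L516226 : N39694 = N6131 := eqc rfl L516225 rfl
theorem L516233 : sm gd N6131 = N27271 := trfs L516226 L335457 rfl
theorem L516234 : N27271 = N8887 := eqes L516233 L75975
theorem L516235 : N27271 = N8887 := eqc rfl L516234 rfl
theorem L516255 : sm gi N8887 = N39751 := trfs L516235 L335930 rfl
theorem L516256 : N39751 = N12897 := eqes L516255 L109888
theorem L516257 : N39751 = N11763 := eqc rfl L516256 L448085
theorem L516263 : sm gj N11763 = N27275 := trfs L516257 L335938 rfl
theorem L516264 : N27275 = N8109 := eqes L516263 (flp_j L100626)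
theorem L516265 : N27275 = N8109 := eqc rfl L516264 rfl
theorem L516276 : sm gh N8109 = N39754 := trfs L516265 L335957 rfl
theorem L516277 : N39754 = N11764 := eqes L516276 L100634
theorem L516278 : N39754 = N11764 := eqc rfl L516277 rfl
theorem L516281 : sm gb N11764 = N27276 := trfs L516278 L335959 rfl
theorem L516282 : N27276 = N8116 := eqes L516281 L100636
theorem L516283 : N27276 = N8116 := eqc rfl L516282 rfl
theorem L516299 : sm gj N8116 = N39752 := trfs L516283 (flp_j L335946) rfl
theorem L516300 : N39752 = N11771 := eqes L516299 (flp_j L100693)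
theorem L516301 : N39752 = N11771 := eqc rfl L516300 rfl
theorem L516305 : sm gg N11771 = N27465 := trfs L516301 L335944 rfl
theorem L516306 : N27465 = N8207 := eqes L516305 L100691
theorem L516307 : N27465 = N8207 := eqc rfl L516306 rfl
theorem L516323 : sm gh N8207 = N18873 := trfs L516307 (flp_h L232631) rfl
theorem L516324 : N18873 = N5665 := eqes L516323 (flp_h L70389)
theorem L516325 : N18873 = N5665 := eqc rfl L516324 rfl
theorem L516341 : sm gi N5665 = N12978 := trfs L516325 (flp_i L160273) rfl
theorem L516342 : N12978 = N8181 := eqes L516341 (flp_i L70213)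
theorem L516343 : N12978 = N8181 := eqc rfl L516342 rfl
theorem L516351 : sm ge N8181 = N18282 := trfs L516343 (flp_e L155412) rfl
theorem L516352 : N18282 = N11868 := eqes L516351 (flp_e L101433)
theorem L516353 : N18282 = N11868 := eqc rfl L516352 rfl
theorem L516371 : sm gj N11868 = N12561 := trfs L516353 L155414 rfl
theorem L516372 : N12561 = N8179 := eqes L516371 (flp_j L101428)
theorem L516373 : N12561 = N8179 := eqc rfl L516372 rfl
theorem L516393 : sm gi N8179 = N18285 := trfs L516373 L155436 rfl
theorem L516394 : N18285 = N5663 := eqes L516393 L70199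
theorem L516395 : N18285 = N5663 := eqc rfl L516394 rfl
theorem L516408 : sm gg N5663 = N12564 := trfs L516395 L155442 rfl
theorem L516409 : N12564 = N3917 := eqes L516408 (flp_g L48801)
theorem L516410 : N12564 = N3917 := eqc rfl L516409 rfl
theorem L516421 : sm gj N3917 = N18091 := trfs L516410 (flp_j L153930) rfl
theorem L516422 : N18091 = N5603 := eqes L516421 (flp_j L48347)
theorem L516423 : N18091 = N5603 := eqc rfl L516422 rfl
theorem L516442 : sm gi N5603 = N12430 := trfs L516423 (flp_i L153923) rfl
theorem L516443 : N12430 = N8097 := eqes L516442 (flp_i L69559)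
theorem L516444 : N12430 = N8097 := eqc rfl L516443 rfl
theorem L516459 : sm gg N8097 = N18088 := trfs L516444 (flp_g L153900) rfl
theorem L516460 : N18088 = N11743 := eqes L516459 L100464
theorem L516461 : N18088 = N11743 := eqc rfl L516460 rfl
theorem L516473 : sm gf N11743 = N26338 := trfs L516461 (flp_f L223468) rfl
theorem L516474 : N26338 = N17063 := eqes L516473 L145472
theorem L516475 : N26338 = N17063 := eqc rfl L516474 rfl
theorem L516493 : sm gj N17063 = N38408 := trfs L516475 (flp_j L325003) rfl
theorem L516494 : N38408 = N24820 := eqes L516493 L210953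
theorem L516495 : N38408 = N24820 := eqc rfl L516494 rfl
theorem L516503 : sm gc N24820 = N26336 := trfs L516495 (flp_c L324999) rfl
theorem L516504 : N26336 = N24820 := eqes L516503 L210955
theorem L516505 : N26336 = N24820 := eqc rfl L516504 rfl
theorem L516515 : sm ge N24820 = N38409 := trfs L516505 L325006 rfl
theorem L516516 : N38409 = N35875 := eqes L516515 (flp_e L304008)
theorem L516517 : N38409 = N35875 := eqc rfl L516516 rfl
theorem L516519 : sm gg N24820 = N38406 := trfs L516505 (flp_g L324985) rfl
theorem L516520 : N38406 = N36153 := eqes L516519 L306376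
theorem L516521 : N38406 = N36153 := eqc rfl L516520 rfl
theorem L516525 : sm gb N36153 = N26349 := trfs L516521 L324981 rfl
theorem L516535 : sm gj N35875 = N26339 := trfs L516517 L325010 rfl
theorem L516536 : N26339 = N24635 := eqes L516535 (flp_j L304004)
theorem L516537 : N26339 = N24635 := eqc rfl L516536 rfl
theorem L516553 : sm gi N24635 = N38414 := trfs L516537 L325049 rfl
theorem L516554 : N38414 = N16962 := eqes L516553 L209377
theorem L516555 : N38414 = N16962 := eqc rfl L516554 rfl
theorem L516559 : sm gf N16962 = N27269 := trfs L516555 L325056 rfl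
theorem L516560 : N27269 = N11677 := eqes L516559 (flp_f L144609)
theorem L516561 : N27269 = N11677 := eqc rfl L516560 rfl
theorem L516567 : sm gc N11677 = N39747 := trfs L516561 (flp_c L335897) rfl
theorem L516568 : N39747 = N11677 := eqes L516567 L99899
theorem L516569 : N39747 = N11677 := eqc rfl L516568 rfl
theorem L516582 : sm gi N11677 = N27267 := trfs L516569 (flp_i L335895) rfl
theorem L516583 : N27267 = N16939 := eqes L516582 (flp_i L144426)
theorem L516584 : N27267 = N16939 := eqc rfl L516583 rfl
theorem L516599 : sm gg N16939 = N19052 := trfs L516584 L231034 rfl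
theorem L516600 : N19052 = N11661 := eqes L516599 (flp_g L144420)
theorem L516601 : N19052 = N11661 := eqc rfl L516600 rfl
theorem L516613 : sm gb N11661 = N27715 := trfs L516601 (flp_b L234785) rfl
theorem L516614 : N27715 = N16934 := eqes L516613 (flp_b L144375)
theorem L516615 : N27715 = N9045 := eqc rfl L516614 L458369
theorem L516675 : sm gi N9045 = N40377 := trfs L516615 L341174 rfl
theorem L516676 : N40377 = N13120 := eqes L516675 L111736
theorem L516677 : N40377 = N13120 := eqc rfl L516676 rfl
theorem L516680 : sm gc N13120 = N27730 := trfs L516677 L341178 rfl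
theorem L516681 : N27730 = N19066 := eqes L516680 (flp_c L161923)
theorem L516682 : N27730 = N16952 := eqc rfl L516681 L515244
theorem L516715 : sm gg N16952 = N39769 := trfs L516682 (flp_g L336088) rfl
theorem L516716 : N39769 = N24655 := eqes L516715 L209538
theorem L516717 : N39769 = N24655 := eqc rfl L516716 rfl
theorem L516735 : sm gi N24655 = N27286 := trfs L516717 (flp_i L336082) rfl
theorem L516736 : N27286 = N35860 := eqes L516735 (flp_i L303876)
theorem L516737 : N35860 = N27286 := (eqc rfl L516736 rfl).symm
theorem L516738 : sm gb N27286 = N27286 := trfs L516737 L303871 L516737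
theorem L516739 : N27286 = N18750 := eqes L516738 L231196
theorem L516740 : N27286 = N18750 := eqc rfl L516739 rfl
theorem L516762 : sm gj N18750 = N39760 := trfs L516740 (flp_j L336012) rfl
theorem L516763 : N39760 = N27281 := eqes L516762 (flp_j L231156)
theorem L516764 : N39760 = N27281 := eqc rfl L516763 rfl
theorem L516767 : sm ge N27281 = N27280 := trfs L516764 (flp_e L336007) rfl
theorem L516768 : N27280 = N18746 := eqes L516767 (flp_e L231151)
theorem L516769 : N27280 = N18746 := eqc rfl L516768 rfl
theorem L516772 : sm ga N18746 = N39759 := trfs L516769 L335998 rfl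
theorem L516773 : N39759 = N24056 := eqes L516772 (flp_a L204553)
theorem L516774 : N39759 = N24056 := eqc rfl L516773 rfl
theorem L516795 : sm gj N24056 = N27285 := trfs L516774 L336004 rfl
theorem L516796 : N27285 = N16529 := eqes L516795 L204558
theorem L516797 : N27285 = N16529 := eqc rfl L516796 rfl
theorem L516815 : sm gi N16529 = N39767 := trfs L516797 L336066 rfl
theorem L516816 : N39767 = N24061 := eqes L516815 L204599
theorem L516817 : N39767 = N24061 := eqc rfl L516816 rfl
theorem L516824 : sm gg N24061 = N27728 := trfs L516817 L336073 rfl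
theorem L516825 : N27728 = N16755 := eqes L516824 L204608
theorem L516826 : N27728 = N16755 := eqc rfl L516825 rfl
theorem L516844 : sm gh N16755 = N40393 := trfs L516826 L341304 rfl
theorem L516845 : N40393 = N24377 := eqes L516844 L207215
theorem L516846 : N40393 = N24377 := eqc rfl L516845 rfl
theorem L516851 : sm gf N24377 = N16946 := trfs L516846 L341308 L515319
theorem L516852 : N16946 = N16760 := eqes L516851 L207221
theorem L516853 : N16946 = N16760 := eqc rfl L516852 rfl
theorem L516867 : sm gg N16760 = N11750 := trfs L516853 L144483 rfl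
theorem L516868 : N11750 = N11540 := eqes L516867 L142917
theorem L516869 : N11750 = N11540 := eqc rfl L516868 rfl
theorem L516883 : sm gh N11540 = N8102 := trfs L516869 (flp_h L100520) rfl
theorem L516884 : N8102 = N7958 := eqes L516883 (flp_h L98754)
theorem L516885 : N8102 = N7958 := eqc rfl L516884 rfl
theorem L516898 : sm gi N7958 = N11732 := trfs L516885 (flp_i L100370) rfl
theorem L516899 : N11732 = N5498 := eqes L516898 (flp_i L68380)
theorem L516900 : N11732 = N5498 := eqc rfl L516899 rfl
theorem L516902 : sm gb N5498 = N17045 := trfs L516900 L145308 rfl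
theorem L516903 : N17045 = N7957 := eqes L516902 L68373
theorem L516904 : N17045 = N7957 := eqc rfl L516903 rfl
theorem L516919 : sm gg N7957 = N24617 := trfs L516904 (flp_g L209210) rfl
theorem L516920 : N24617 = N11535 := eqes L516919 (flp_g L98712)
theorem L516921 : N24617 = N11535 := eqc rfl L516920 rfl
theorem L516922 : sm gj N7957 = N11849 := trfs L516904 L145312 rfl
theorem L516923 : N11849 = N5522 := eqes L516922 L68377
theorem L516924 : N11849 = N5522 := eqc rfl L516923 rfl
theorem L516927 : sm ga N5522 = N5522 := trfs L516924 L101280 L516924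
theorem L516928 : N5522 = N7991 := eqes L516927 L68639
theorem L516929 : N7991 = N5522 := (eqc rfl L516928 rfl).symm
theorem L516931 : sm gc N5522 = N15519 := trfs L516924 (flp_c L132239) rfl
theorem L516932 : N15519 = N7988 := eqes L516931 (flp_c L68623)
theorem L516933 : N15519 = N7988 := eqc rfl L516932 rfl
theorem L516939 : sm gi N5522 = N8184 := trfs L516924 L101278 rfl
theorem L516940 : N8184 = N7992 := eqes L516939 L68647
theorem L516941 : N8184 = N7992 := eqc rfl L516940 rfl
theorem L516942 : sm ga N7992 = N7992 := trfs L516941 L70233 L516941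
theorem L516943 : N7992 = N11586 := eqes L516942 (flp_a L99112)
theorem L516944 : N11586 = N7992 := (eqc rfl L516943 rfl).symm
theorem L516946 : sm gc N7992 = N10695 := trfs L516941 (flp_c L91415) rfl
theorem L516947 : N10695 = N11584 := eqes L516946 (flp_c L99099)
theorem L516948 : N11584 = N10695 := (eqc rfl L516947 rfl).symm
theorem L516954 : sm gh N7992 = N11875 := trfs L516941 L101477 rfl
theorem L516955 : N11875 = N11587 := eqes L516954 L99119
theorem L516956 : N11875 = N11587 := eqc rfl L516955 rfl
theorem L516963 : sm gd N11587 = N17260 := trfs L516956 L147002 rfl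
theorem L516964 : N17260 = N16828 := eqes L516963 L143441
theorem L516965 : N17260 = N16828 := eqc rfl L516964 rfl
theorem L516987 : sm gj N16828 = N24831 := trfs L516965 (flp_j L211044) rfl
theorem L516988 : N24831 = N24383 := eqes L516987 (flp_j L207278)
theorem L516989 : N24831 = N24383 := eqc rfl L516988 rfl
theorem L516992 : sm ga N24383 = N24383 := trfs L516989 L211041 L516989
theorem L516993 : N24383 = N35509 := eqes L516992 (flp_a L300977)
theorem L516994 : N35509 = N24383 := (eqc rfl L516993 rfl).symm
theorem L517099 : sm gd N24383 = N24382 := trfs L516994 (flp_d L300975) rfl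
theorem L517100 : N24382 = N16762 := eqes L517099 (flp_d L207274)
theorem L517101 : N24382 = N16762 := eqc rfl L517100 rfl
theorem L517120 : sm gh N16762 = N16761 := trfs L517101 (flp_h L207264) rfl
theorem L517121 : N16761 = N11539 := eqes L517120 (flp_h L142931)
theorem L517122 : N16761 = N11539 := eqc rfl L517121 rfl
theorem L517136 : sm gg N11539 = N24379 := trfs L517122 (flp_g L207242) rfl
theorem L517137 : N24379 = N16759 := eqes L517136 (flp_g L142907)
theorem L517138 : N24379 = N16759 := eqc rfl L517137 rfl
theorem L517152 : sm gi N16759 = N16758 := trfs L517138 (flp_i L207234) rfl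
theorem L517153 : N16758 = N11535 := eqes L517152 (flp_i L142901)
theorem L517154 : N16758 = N11535 := eqc rfl L517153 rfl
theorem L517157 : sm gc N11535 = N24366 := trfs L517154 (flp_c L207122) rfl
theorem L517158 : N24366 = N16747 := eqes L517157 (flp_c L142802)
theorem L517159 : N24366 = N16747 := eqc rfl L517158 rfl
theorem L517284 : sm gg N16747 = N16750 := trfs L517159 L207125 rfl
theorem L517285 : N16750 = N11529 := eqes L517284 L142798
theorem L517286 : N16750 = N11529 := eqc rfl L517285 rfl
theorem L517298 : sm gf N11529 = N24053 := trfs L517286 (flp_f L204527) rfl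
theorem L517299 : N24053 = N16524 := eqes L517298 (flp_f L140939)
theorem L517300 : N24053 = N16524 := eqc rfl L517299 rfl
theorem L517321 : sm gj N16524 = N16619 := trfs L517300 L204529 rfl
theorem L517322 : N16619 = N11436 := eqes L517321 L140941
theorem L517323 : N16619 = N11436 := eqc rfl L517322 rfl
theorem L517345 : sm gg N11436 = N24185 := trfs L517323 (flp_g L205598) rfl
theorem L517346 : N24185 = N16616 := eqes L517345 (flp_g L141696)
theorem L517347 : N24185 = N16616 := eqc rfl L517346 rfl
theorem L517372 : sm ge N16616 = N34405 := trfs L517347 (flp_e L291786) rfl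
theorem L517373 : N34405 = N23594 := eqes L517372 (flp_e L200683)
theorem L517374 : N34405 = N23594 := eqc rfl L517373 rfl
theorem L517394 : sm gc N23594 = N23610 := trfs L517374 L291784 rfl
theorem L517395 : N23610 = N16209 := eqes L517394 L200688
theorem L517396 : N23610 = N16209 := eqc rfl L517395 rfl
theorem L517411 : sm gj N16209 = N34419 := trfs L517396 (flp_j L291913) rfl
theorem L517412 : N34419 = N23607 := eqes L517411 (flp_j L200801)
theorem L517413 : N34419 = N23607 := eqc rfl L517412 rfl
theorem L517417 : sm gb N23607 = N26650 := trfs L517413 L291916 rfl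
theorem L517418 : N26650 = N16207 := eqes L517417 (flp_b L200797)
theorem L517419 : N26650 = N16207 := eqc rfl L517418 rfl
theorem L517438 : sm gi N16207 = N38865 := trfs L517419 L328562 rfl
theorem L517439 : N38865 = N23608 := eqes L517438 L200804
theorem L517440 : N38865 = N23608 := eqc rfl L517439 rfl
theorem L517446 : sm gj N23608 = N26653 := trfs L517440 L328568 rfl
theorem L517447 : N26653 = N16210 := eqes L517446 L200812
theorem L517448 : N26653 = N16210 := eqc rfl L517447 rfl
theorem L517465 : sm gh N16210 = N38868 := trfs L517448 L328584 rfl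
theorem L517466 : N38868 = N23612 := eqes L517465 L200840
theorem L517467 : N38868 = N23612 := eqc rfl L517466 rfl
theorem L517475 : sm gg N23612 = N26656 := trfs L517467 L328590 rfl
theorem L517476 : N26656 = N16214 := eqes L517475 L200848
theorem L517477 : N26656 = N16214 := eqc rfl L517476 rfl
theorem L517487 : sm ge N16214 = N18887 := trfs L517477 L225957 rfl
theorem L517488 : N18887 = N11446 := eqes L517487 L138333
theorem L517489 : N18887 = N11446 := eqc rfl L517488 rfl
theorem L517506 : sm gh N11446 = N12992 := trfs L517489 (flp_h L160384) rfl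
theorem L517507 : N12992 = N7889 := eqes L517506 (flp_h L97949)
theorem L517508 : N12992 = N7889 := eqc rfl L517507 rfl
theorem L517523 : sm gi N7889 = N8956 := trfs L517508 (flp_i L110641) rfl
theorem L517524 : N8956 = N5447 := eqes L517523 (flp_i L67776)
theorem L517525 : N8956 = N5447 := eqc rfl L517524 rfl
theorem L517535 : sm gj N5447 = N12901 := trfs L517525 (flp_j L109920) rfl
theorem L517536 : N12901 = N7841 := eqes L517535 (flp_j L67366)
theorem L517537 : N12901 = N7841 := eqc rfl L517536 rfl
theorem L517541 : sm gc N7841 = N18743 := trfs L517537 (flp_c L159233) rfl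
theorem L517542 : N18743 = N5413 := eqes L517541 (flp_c L67360)
theorem L517543 : N18743 = N5413 := eqc rfl L517542 rfl
theorem L517575 : sm gi N5413 = N27277 := trfs L517543 L231113 rfl
theorem L517576 : N27277 = N7842 := eqes L517575 L67370
theorem L517577 : N27277 = N7842 := eqc rfl L517576 rfl
theorem L517593 : sm gh N7842 = N39756 := trfs L517577 L335972 rfl
theorem L517594 : N39756 = N11381 := eqes L517593 L97412
theorem L517595 : N39756 = N11381 := eqc rfl L517594 rfl
theorem L517599 : sm gf N11381 = N27724 := trfs L517595 L335978 rfl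
theorem L517600 : N27724 = N7959 := eqes L517599 L97416
theorem L517601 : N27724 = N7959 := eqc rfl L517600 rfl
theorem L517615 : sm gg N7959 = N40384 := trfs L517601 (flp_g L341239) rfl
theorem L517616 : N40384 = N11537 := eqes L517615 (flp_g L98732)
theorem L517617 : N40384 = N11537 := eqc rfl L517616 rfl
theorem L517627 : sm gh N11537 = N27721 := trfs L517617 (flp_h L341232) rfl
theorem L517628 : N27721 = N7956 := eqes L517627 (flp_h L98727)
theorem L517629 : N27721 = N7956 := eqc rfl L517628 rfl
theorem L517644 : sm gi N7956 = N19056 := trfs L517629 (flp_i L234831) rfl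
theorem L517645 : N19056 = N5496 := eqes L517644 (flp_i L68363)
theorem L517646 : N19056 = N5496 := eqc rfl L517645 rfl
theorem L517656 : sm gf N5496 = N27714 := trfs L517646 (flp_f L234779) rfl
theorem L517657 : N27714 = N7953 := eqes L517656 (flp_f L68339)
theorem L517658 : N27714 = N7953 := eqc rfl L517657 rfl
theorem L517663 : sm gb N7953 = N40272 := trfs L517658 (flp_b L340307) rfl
theorem L517664 : N40272 = N11525 := eqes L517663 (flp_b L98626)
theorem L517665 : N40272 = N11525 := eqc rfl L517664 rfl
theorem L517679 : sm ga N11525 = N27641 := trfs L517665 (flp_a L340301) rfl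
theorem L517680 : N27641 = N16709 := eqes L517679 (flp_a L142483)
theorem L517681 : N27641 = N15366 := eqc rfl L517680 L471611
theorem L517705 : sm gi N15366 = N40274 := trfs L517681 L340316 rfl
theorem L517706 : N40274 = N10586 := eqes L517705 L130862
theorem L517707 : N40274 = N10586 := eqc rfl L517706 rfl
theorem L517711 : sm gf N10586 = N27647 := trfs L517707 L340320 rfl
theorem L517712 : N27647 = N7301 := eqes L517711 (flp_f L90426)
theorem L517713 : N27647 = N7301 := eqc rfl L517712 rfl
theorem L517730 : sm gh N7301 = N40280 := trfs L517713 L340369 rfl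
theorem L517731 : N40280 = N10587 := eqes L517730 L90433
theorem L517732 : N40280 = N10587 := eqc rfl L517731 rfl
theorem L517738 : sm gg N10587 = N27650 := trfs L517732 L340374 rfl
theorem L517739 : N27650 = N7333 := eqes L517738 L90438
theorem L517740 : N27650 = N7333 := eqc rfl L517739 rfl
theorem L517759 : sm gj N7333 = N19128 := trfs L517740 L234253 rfl
theorem L517760 : N19128 = N5096 := eqes L517759 L62904
theorem L517761 : N19128 = N5096 := eqc rfl L517760 rfl
theorem L517781 : sm gh N5096 = N13163 := trfs L517761 (flp_h L162435) rfl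
theorem L517782 : N13163 = N3525 := eqes L517781 (flp_h L43892)
theorem L517783 : N13163 = N3525 := eqc rfl L517782 rfl
theorem L517803 : sm gi N3525 = N9076 := trfs L517783 (flp_i L112091) rfl
theorem L517804 : N9076 = N5086 := eqes L517803 (flp_i L43816)
theorem L517805 : N9076 = N5086 := eqc rfl L517804 rfl
theorem L517823 : sm gj N5086 = N13077 := trfs L517805 (flp_j L111387) rfl
theorem L517824 : N13077 = N7323 := eqes L517823 (flp_j L62810)
theorem L517825 : N13077 = N7323 := eqc rfl L517824 rfl
theorem L517827 : sm ga N7323 = N19007 := trfs L517825 L161438 rfl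
theorem L517828 : N19007 = N10617 := eqes L517827 (flp_a L90725)
theorem L517829 : N19007 = N10617 := eqc rfl L517828 rfl
theorem L517840 : sm gf N7323 = N18695 := trfs L517825 (flp_f L158830) rfl
theorem L517841 : N18695 = N10620 := eqes L517840 L90754
theorem L517842 : N18695 = N10620 := eqc rfl L517841 rfl
theorem L517865 : sm gi N10620 = N27208 := trfs L517842 L230531 rfl
theorem L517866 : N27208 = N7332 := eqes L517865 L90762
theorem L517867 : N27208 = N7332 := eqc rfl L517866 rfl
theorem L517878 : sm gg N7332 = N39653 := trfs L517867 (flp_g L335107) rfl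
theorem L517879 : N39653 = N10635 := eqes L517878 L90891
theorem L517880 : N39653 = N10635 := eqc rfl L517879 rfl
theorem L517883 : sm gb N10635 = N27205 := trfs L517880 L335105 rfl
theorem L517884 : N27205 = N7336 := eqes L517883 L90893
theorem L517885 : N27205 = N7336 := eqc rfl L517884 rfl
theorem L517901 : sm gi N7336 = N18693 := trfs L517885 (flp_i L230506) rfl
theorem L517902 : N18693 = N10624 := eqes L517901 (flp_i L90798)
theorem L517903 : N18693 = N10624 := eqc rfl L517902 rfl
theorem L517915 : sm gj N10624 = N27202 := trfs L517903 (flp_j L230488) rfl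
theorem L517916 : N27202 = N15438 := eqes L517915 L131535
theorem L517917 : N27202 = N15438 := eqc rfl L517916 rfl
theorem L517924 : sm gd N15438 = N39609 := trfs L517917 (flp_d L334711) rfl
theorem L517925 : N39609 = N10627 := eqes L517924 L131540
theorem L517926 : N39609 = N10627 := eqc rfl L517925 rfl
theorem L517948 : sm gg N10627 = N27359 := trfs L517926 L334707 rfl
theorem L517949 : N27359 = N7373 := eqes L517948 L90829
theorem L517950 : N27359 = N7373 := eqc rfl L517949 rfl
theorem L517962 : sm gj N7373 = N18800 := trfs L517950 L231809 rfl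
theorem L517963 : N18800 = N5090 := eqes L517962 (flp_j L63251)
theorem L517964 : N18800 = N5090 := eqc rfl L517963 rfl
theorem L517986 : sm gb N5090 = N27362 := trfs L517964 L231830 rfl
theorem L517987 : N27362 = N7368 := eqes L517986 (flp_b L63208)
theorem L517988 : N27362 = N7368 := eqc rfl L517987 rfl
theorem L517992 : sm gd N5090 = N12944 := trfs L517964 L159721 rfl
theorem L517993 : N12944 = N7370 := eqes L517992 (flp_d L63230)
theorem L517994 : N12944 = N7370 := eqc rfl L517993 rfl
theorem L518013 : sm gi N7370 = N18824 := trfs L517994 L159908 rfl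
theorem L518014 : N18824 = N5099 := eqes L518013 L63232
theorem L518015 : N18824 = N5099 := eqc rfl L518014 rfl
theorem L518026 : sm gh N5099 = N27396 := trfs L518015 L232109 rfl
theorem L518027 : N27396 = N7388 := eqes L518026 L63368
theorem L518028 : N27396 = N7388 := eqc rfl L518027 rfl
theorem L518041 : sm gg N7388 = N18828 := trfs L518028 L232116 rfl
theorem L518042 : N18828 = N5100 := eqes L518041 L63374
theorem L518043 : N18828 = N5100 := eqc rfl L518042 rfl
theorem L518056 : sm gj N5100 = N27209 := trfs L518043 (flp_j L230547) rfl
theorem L518057 : N27209 = N7337 := eqes L518056 (flp_j L62938)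
theorem L518058 : N27209 = N7337 := eqc rfl L518057 rfl
theorem L518064 : sm gd N7337 = N39657 := trfs L518058 L335137 rfl
theorem L518065 : N39657 = N7337 := eqes L518064 L62940
theorem L518066 : N39657 = N7337 := eqc rfl L518065 rfl
theorem L518084 : sm gf N7337 = N27651 := trfs L518066 L335141 rfl
theorem L518085 : N27651 = N5067 := eqes L518084 L62936
theorem L518086 : N27651 = N5067 := eqc rfl L518085 rfl
theorem L518104 : sm gh N5067 = N40254 := trfs L518086 (flp_h L340132) rfl
theorem L518105 : N40254 = N3506 := eqes L518104 (flp_h L43639)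
theorem L518106 : N40254 = N3506 := eqc rfl L518105 rfl
theorem L518115 : sm gj N3506 = N27807 := trfs L518106 L340129 rfl
theorem L518116 : N27807 = N2445 := eqes L518115 L30350
theorem L518117 : N27807 = N2445 := eqc rfl L518116 rfl
theorem L518121 : sm gb N2445 = N40504 := trfs L518117 (flp_b L342195) rfl
theorem L518122 : N40504 = N3525 := eqes L518121 (flp_b L30519)
theorem L518123 : N40504 = N3525 := eqc rfl L518122 rfl
theorem L518893 : sm gd N3525 = N27803 := trfs L518123 (flp_d L342193) rfl
theorem L518894 : N27803 = N2444 := eqes L518893 (flp_d L30517)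
theorem L518895 : N27803 = N2444 := eqc rfl L518894 rfl
theorem L518912 : sm gi N2444 = N40487 := trfs L518895 (flp_i L342055) rfl
theorem L518913 : N40487 = N3520 := eqes L518912 (flp_i L30478)
theorem L518914 : N40487 = N3520 := eqc rfl L518913 rfl
theorem L518917 : sm gh N3520 = N27791 := trfs L518914 (flp_h L342050) rfl
theorem L518918 : N27791 = N5081 := eqes L518917 (flp_h L43772)
theorem L518919 : N27791 = N2644 := eqc rfl L518918 L453078
theorem L518937 : sm gi N2644 = N19104 := trfs L518919 (flp_i L235401) rfl
theorem L518938 : N19104 = N2644 := eqes L518937 L23059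
theorem L518939 : N19104 = N2644 := eqc rfl L518938 rfl
theorem L518954 : sm gj N2644 = N27606 := trfs L518939 (flp_j L233850) rfl
theorem L518955 : N27606 = N3790 := eqes L518954 (flp_j L32861)
theorem L518956 : N27606 = N3790 := eqc rfl L518955 rfl
theorem L518970 : sm gg N3790 = N40215 := trfs L518956 (flp_g L339778) rfl
theorem L518971 : N40215 = N5478 := eqes L518970 L47260
theorem L518972 : N40215 = N5478 := eqc rfl L518971 rfl
theorem L518980 : sm gh N5478 = N27615 := trfs L518972 L339781 rfl
theorem L518981 : N27615 = N7931 := eqes L518980 L68139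
theorem L518982 : N27615 = N7296 := eqc rfl L518981 L471615
theorem L518993 : sm ge N7296 = N40238 := trfs L518982 L339984 rfl
theorem L518994 : N40238 = N5040 := eqes L518993 (flp_e L62542)
theorem L518995 : N40238 = N5040 := eqc rfl L518994 rfl
theorem L519002 : sm gg N5040 = N27622 := trfs L518995 L339988 rfl
theorem L519003 : N27622 = N3501 := eqes L519002 L43384
theorem L519004 : N27622 = N3501 := eqc rfl L519003 rfl
theorem L519022 : sm gi N3501 = N40249 := trfs L519004 L340082 rfl
theorem L519023 : N40249 = N2430 := eqes L519022 L30306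
theorem L519024 : N40249 = N2430 := eqc rfl L519023 rfl
theorem L519030 : sm gj N2430 = N27802 := trfs L519024 L340089 rfl
theorem L519031 : N27802 = N1699 := eqes L519030 L21146
theorem L519032 : N27802 = N1699 := eqc rfl L519031 rfl
theorem L519042 : sm gf N1699 = N40502 := trfs L519032 (flp_f L342184) rfl
theorem L519043 : N40502 = N1194 := eqes L519042 L14869
theorem L519044 : N40502 = N1194 := eqc rfl L519043 rfl
theorem L519050 : sm gi N1194 = N27801 := trfs L519044 (flp_i L342179) rfl
theorem L519051 : N27801 = N1712 := eqes L519050 (flp_i L14991)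
theorem L519052 : N27801 = N1712 := eqc rfl L519051 rfl
theorem L519063 : sm gg N1712 = N40501 := trfs L519052 L342173 rfl
theorem L519064 : N40501 = N1200 := eqes L519063 L14989
theorem L519065 : N40501 = N1200 := eqc rfl L519064 rfl
theorem L519073 : sm gb N1200 = N27804 := trfs L519065 L342175 rfl
theorem L519074 : N27804 = N835 := eqes L519073 (flp_b L10556)
theorem L519075 : N27804 = N835 := eqc rfl L519074 rfl
theorem L519081 : sm ge N835 = N39899 := trfs L519075 (flp_e L337165) rfl
theorem L519082 : N39899 = N1201 := eqes L519081 L10563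
theorem L519083 : N39899 = N1201 := eqc rfl L519082 rfl
theorem L519137 : sm ga N1201 = N27439 := trfs L519083 L337161 rfl
theorem L519138 : N27439 = N934 := eqes L519137 L10565
theorem L519139 : N27439 = N934 := eqc rfl L519138 rfl
theorem L519178 : sm gf N934 = N39978 := trfs L519139 (flp_f L337805) rfl
theorem L519179 : N39978 = N1344 := eqes L519178 L11796
theorem L519180 : N39978 = N1344 := eqc rfl L519179 rfl
theorem L519197 : sm gg N1344 = N27428 := trfs L519180 (flp_g L337800) rfl
theorem L519198 : N27428 = N1935 := eqes L519197 L16898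
theorem L519199 : N27428 = N1935 := eqc rfl L519198 rfl
theorem L519215 : sm gh N1935 = N39942 := trfs L519199 (flp_h L337525) rfl
theorem L519216 : N39942 = N2778 := eqes L519215 (flp_h L24150)
theorem L519217 : N39942 = N1434 := eqc rfl L519216 L464996
theorem L519228 : sm gf N1434 = N27404 := trfs L519217 (flp_f L337521) rfl
theorem L519229 : N27404 = N2048 := eqes L519228 (flp_f L17809)
theorem L519230 : N27404 = N2048 := eqc rfl L519229 rfl
theorem L519237 : sm gd N2048 = N39941 := trfs L519230 L337515 rfl
theorem L519238 : N39941 = N1422 := eqes L519237 L17806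
theorem L519239 : N39941 = N1422 := eqc rfl L519238 rfl
theorem L519324 : sm gg N1422 = N27412 := trfs L519239 L337517 rfl
theorem L519325 : N27412 = N988 := eqes L519324 (flp_g L12421)
theorem L519326 : N27412 = N988 := eqc rfl L519325 rfl
theorem L519340 : sm gh N988 = N38777 := trfs L519326 (flp_h L327919) rfl
theorem L519341 : N38777 = N1368 := eqes L519340 (flp_h L11998)
theorem L519342 : N38777 = N1368 := eqc rfl L519341 rfl
theorem L519346 : sm gd N1368 = N26583 := trfs L519342 (flp_d L327915) rfl
theorem L519347 : N26583 = N1970 := eqes L519346 (flp_d L17182)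
theorem L519348 : N26583 = N1970 := eqc rfl L519347 rfl
theorem L519369 : sm gi N1970 = N38779 := trfs L519348 L327928 rfl
theorem L519370 : N38779 = N2828 := eqes L519369 (flp_i L24555)
theorem L519371 : N38779 = N2828 := eqc rfl L519370 rfl
theorem L519375 : sm ge N2828 = N26584 := trfs L519371 L327932 rfl
theorem L519376 : N26584 = N4089 := eqes L519375 L35311
theorem L519377 : N26584 = N4089 := eqc rfl L519376 rfl
theorem L519388 : sm gg N4089 = N38770 := trfs L519377 (flp_g L327877) rfl
theorem L519389 : N38770 = N5922 := eqes L519388 L50910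
theorem L519390 : N38770 = N5922 := eqc rfl L519389 rfl
theorem L519398 : sm gi N5922 = N26579 := trfs L519390 (flp_i L327872) rfl
theorem L519399 : N26579 = N4112 := eqes L519398 L50917
theorem L519400 : N26579 = N4112 := eqc rfl L519399 rfl
theorem L519404 : sm gb N4112 = N38768 := trfs L519400 L327857 rfl
theorem L519405 : N38768 = N2847 := eqes L519404 L35488
theorem L519406 : N38768 = N2847 := eqc rfl L519405 rfl
theorem L519434 : sm gh N2847 = N26597 := trfs L519406 L327862 rfl
theorem L519435 : N26597 = N4119 := eqes L519434 L35537
theorem L519436 : N26597 = N4119 := eqc rfl L519435 rfl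
theorem L519451 : sm gj N4119 = N38795 := trfs L519436 (flp_j L328039) rfl
theorem L519452 : N38795 = N5964 := eqes L519451 (flp_j L51235)
theorem L519453 : N38795 = N5964 := eqc rfl L519452 rfl
theorem L519463 : sm gd N5964 = N26633 := trfs L519453 L328037 rfl
theorem L519464 : N26633 = N8653 := eqes L519463 L74034
theorem L519465 : N26633 = N8653 := eqc rfl L519464 rfl
theorem L519471 : sm gf N8653 = N38841 := trfs L519465 (flp_f L328361) rfl
theorem L519472 : N38841 = N12567 := eqes L519471 (flp_f L107158)
theorem L519473 : N38841 = N12567 := eqc rfl L519472 rfl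
theorem L519490 : sm gj N12567 = N26630 := trfs L519473 L328363 rfl
theorem L519491 : N26630 = N8651 := eqes L519490 L107160
theorem L519492 : N26630 = N8651 := eqc rfl L519491 rfl
theorem L519494 : sm ga N8651 = N38844 := trfs L519492 L328387 rfl
theorem L519495 : N38844 = N11139 := eqes L519494 (flp_a L95325)
theorem L519496 : N38844 = N11139 := eqc rfl L519495 rfl
theorem L519507 : sm gi N8651 = N38845 := trfs L519492 L328396 rfl
theorem L519508 : N38845 = N11895 := eqes L519507 (flp_i L448808)
theorem L519509 : N38845 = N11895 := eqc rfl L519508 rfl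
theorem L519511 : sm gc N11895 = N26648 := trfs L519509 L328400 rfl
theorem L519512 : N26648 = N17280 := eqes L519511 (flp_c L147163)
theorem L519513 : N26648 = N17280 := eqc rfl L519512 rfl
theorem L519527 : sm gj N17280 = N38860 := trfs L519513 (flp_j L328527) rfl
theorem L519528 : N38860 = N25148 := eqes L519527 L213521
theorem L519529 : N38860 = N25148 := eqc rfl L519528 rfl
theorem L519555 : sm gb N25148 = N26645 := trfs L519529 L328522 rfl
theorem L519556 : N26645 = N25148 := eqes L519555 L213523
theorem L519557 : N26645 = N25148 := eqc rfl L519556 rfl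
theorem L519569 : sm gg N25148 = N38857 := trfs L519557 (flp_g L328502) rfl
theorem L519570 : N38857 = N36645 := eqes L519569 L310263
theorem L519571 : N38857 = N36645 := eqc rfl L519570 rfl
theorem L519583 : sm gc N36645 = N26643 := trfs L519571 L328499 rfl
theorem L519584 : N26643 = N25166 := eqes L519583 L310266
theorem L519585 : N26643 = N25166 := eqc rfl L519584 rfl
theorem L519596 : sm gf N25166 = N38427 := trfs L519585 (flp_f L325176) rfl
theorem L519597 : N38427 = N36220 := eqes L519596 (flp_f L306951)
theorem L519598 : N38427 = N36220 := eqc rfl L519597 rfl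
theorem L519613 : sm gg N36220 = N26353 := trfs L519598 L325178 rfl
theorem L519614 : N26353 = N24864 := eqes L519613 (flp_g L306945)
theorem L519615 : N26353 = N24864 := eqc rfl L519614 rfl
theorem L519622 : sm gc N24864 = N38430 := trfs L519615 (flp_c L325199) rfl
theorem L519623 : N38430 = N36202 := eqes L519622 (flp_c L306803)
theorem L519624 : N38430 = N36202 := eqc rfl L519623 rfl
theorem L519626 : sm ge N24864 = N38431 := trfs L519615 (flp_e L325208) rfl
theorem L519627 : N38431 = N35919 := eqes L519626 (flp_e L304376)
theorem L519628 : N38431 = N35919 := eqc rfl L519627 rfl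
theorem L519635 : sm gf N35919 = N27283 := trfs L519628 L325210 rfl
theorem L519636 : N27283 = N24664 := eqes L519635 L304378
theorem L519637 : N27283 = N24664 := eqc rfl L519636 rfl
theorem L519644 : sm gc N24664 = N39763 := trfs L519637 (flp_c L336034) rfl
theorem L519645 : N39763 = N35907 := eqes L519644 (flp_c L304275)
theorem L519646 : N39763 = N35907 := eqc rfl L519645 rfl
theorem L519755 : sm gi N35907 = N27281 := trfs L519646 (flp_i L336032) rfl
theorem L519758 : sm gj N36202 = N26356 := trfs L519624 L325203 rfl
theorem L519759 : N26356 = N24851 := eqes L519758 (flp_j L306800)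
theorem L519760 : N26356 = N24851 := eqc rfl L519759 rfl
theorem L519761 : sm gi N36202 = N26351 := trfs L519624 (flp_i L325197) rfl
theorem L519767 : sm gd N24851 = N37012 := trfs L519760 (flp_d L313449) rfl
theorem L519768 : N37012 = N36197 := eqes L519767 (flp_d L306762)
theorem L519769 : N37012 = N36197 := eqc rfl L519768 rfl
theorem L519800 : sm gi N36197 = N25393 := trfs L519769 (flp_i L313445) rfl
theorem L520134 : sm gf N11139 = N26636 := trfs L519496 L328392 rfl
theorem L520135 : N26636 = N7672 := eqes L520134 L95327
theorem L520136 : N26636 = N7672 := eqc rfl L520135 rfl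
theorem L520146 : sm gg N7672 = N18287 := trfs L520136 L225798 rfl
theorem L520147 : N18287 = N5291 := eqes L520146 L65894
theorem L520148 : N18287 = N5291 := eqc rfl L520147 rfl
theorem L520164 : sm gi N5291 = N26639 := trfs L520148 L225820 rfl
theorem L520165 : N26639 = N7675 := eqes L520164 L65915
theorem L520166 : N26639 = N7675 := eqc rfl L520165 rfl
theorem L520170 : sm gb N7675 = N38752 := trfs L520166 (flp_b L327748) rfl
theorem L520171 : N38752 = N11135 := eqes L520170 (flp_b L95288)
theorem L520172 : N38752 = N10698 := eqc rfl L520171 L485429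
theorem L520189 : sm ge N10698 = N27397 := trfs L520172 L327750 rfl
theorem L520190 : N27397 = N7375 := eqes L520189 (flp_e L91431)
theorem L520191 : N27397 = N7375 := eqc rfl L520190 rfl
theorem L520212 : sm gi N7375 = N18826 := trfs L520191 (flp_i L232119) rfl
theorem L520213 : N18826 = N10680 := eqes L520212 (flp_i L91288)
theorem L520214 : N18826 = N5440 := eqc rfl L520213 L453051
theorem L520223 : sm gg N5440 = N27394 := trfs L520214 (flp_g L232097) rfl
theorem L520224 : N27394 = N7879 := eqes L520223 (flp_g L67698)
theorem L520225 : N27394 = N7879 := eqc rfl L520224 rfl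
theorem L520232 : sm gd N7879 = N39885 := trfs L520225 (flp_d L337051) rfl
theorem L520233 : N39885 = N5439 := eqes L520232 (flp_d L67693)
theorem L520234 : N39885 = N5439 := eqc rfl L520233 rfl
theorem L520266 : sm ga N5439 = N7368 := trfs L520234 (flp_a L337049) L517988
theorem L520267 : N7368 = N7859 := eqes L520266 (flp_a L67530)
theorem L520268 : N7859 = N7368 := (eqc rfl L520267 rfl).symm
theorem L520277 : sm gc N7368 = N11395 := trfs L520268 (flp_c L97545) rfl
theorem L520278 : N11395 = N9829 := eqes L520277 (flp_c L84044)
theorem L520279 : N11395 = N9829 := eqc rfl L520278 rfl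
theorem L520281 : sm ge N7368 = N5427 := trfs L520268 L67534 rfl
theorem L520282 : N5427 = N5146 := eqes L520281 L63210
theorem L520283 : N5427 = N5146 := eqc rfl L520282 rfl
theorem L520287 : sm gh N7368 = N5424 := trfs L520268 (flp_h L67528) rfl
theorem L520288 : N5424 = N10673 := eqes L520287 (flp_h L91225)
theorem L520289 : N10673 = N5424 := (eqc rfl L520288 rfl).symm
theorem L520293 : sm gc N5424 = N14255 := trfs L520289 (flp_c L121505) rfl
theorem L520294 : N14255 = N7850 := eqes L520293 (flp_c L67451)
theorem L520295 : N14255 = N7850 := eqc rfl L520294 rfl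
theorem L520301 : sm gh N5424 = N7368 := trfs L520289 L91225 rfl
theorem L520309 : sm gd N7850 = N20731 := trfs L520295 (flp_d L176235) rfl
theorem L520310 : N20731 = N11392 := eqes L520309 (flp_d L97520)
theorem L520311 : N20731 = N11392 := eqc rfl L520310 rfl
theorem L520312 : sm ge N7850 = N9890 := trfs L520295 L121507 rfl
theorem L520313 : N9890 = N5420 := eqes L520312 L67453
theorem L520314 : N9890 = N5420 := eqc rfl L520313 rfl
theorem L520322 : sm gb N5420 = N6824 := trfs L520314 L84573 rfl
theorem L520323 : N6824 = N7845 := eqes L520322 (flp_b L67404)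
theorem L520324 : N7845 = N6824 := (eqc rfl L520323 rfl).symm
theorem L520332 : sm gh N5420 = N6831 := trfs L520314 L84577 rfl
theorem L520333 : N6831 = N7853 := eqes L520332 L67476
theorem L520334 : N7853 = N6831 := (eqc rfl L520333 rfl).symm
theorem L520345 : sm gh N6831 = N5420 := trfs L520334 (flp_h L67476) rfl
theorem L520360 : sm gb N6824 = N5420 := trfs L520324 L67404 rfl
theorem L520373 : sm gb N11392 = N14257 := trfs L520311 L176233 rfl
theorem L520374 : N14257 = N16541 := eqes L520373 (flp_b L141099)
theorem L520375 : N16541 = N14257 := (eqc rfl L520374 rfl).symm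
theorem L520377 : sm ge N11392 = N30182 := trfs L520311 (flp_e L255957) rfl
theorem L520378 : N30182 = N15064 := eqes L520377 (flp_e L128300)
theorem L520379 : N30182 = N15064 := eqc rfl L520378 rfl
theorem L520384 : sm gj N11392 = N30184 := trfs L520311 L255967 rfl
theorem L520385 : N30184 = N16558 := eqes L520384 L141249
theorem L520386 : N30184 = N16558 := eqc rfl L520385 rfl
theorem L520400 : sm gg N16558 = N43854 := trfs L520386 (flp_g L370941) rfl
theorem L520401 : N43854 = N23976 := eqes L520400 (flp_g L203857)
theorem L520402 : N43854 = N23976 := eqc rfl L520401 rfl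
theorem L520408 : sm gj N23976 = N30083 := trfs L520402 (flp_j L370934) rfl
theorem L520409 : N30083 = N16471 := eqes L520408 (flp_j L203849)
theorem L520410 : N30083 = N16471 := eqc rfl L520409 rfl
theorem L520422 : sm gf N16471 = N43753 := trfs L520410 (flp_f L370029) rfl
theorem L520423 : N43753 = N23975 := eqes L520422 L203839
theorem L520424 : N43753 = N23975 := eqc rfl L520423 rfl
theorem L520425 : sm gg N16471 = N20664 := trfs L520410 (flp_g L255090) rfl
theorem L520426 : N20664 = N11333 := eqes L520425 (flp_g L140458)
theorem L520427 : N20664 = N11333 := eqc rfl L520426 rfl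
theorem L520428 : sm gh N16471 = N43855 := trfs L520410 L370943 rfl
theorem L520429 : N43855 = N23977 := eqes L520428 L203859
theorem L520430 : N43855 = N23977 := eqc rfl L520429 rfl
theorem L520438 : sm gg N23977 = N30084 := trfs L520430 L370947 rfl
theorem L520439 : N30084 = N16472 := eqes L520438 L203864
theorem L520440 : N30084 = N16472 := eqc rfl L520439 rfl
theorem L520442 : sm gb N16472 = N20669 := trfs L520440 L255099 rfl
theorem L520443 : N20669 = N23958 := eqes L520442 (flp_b L203670)
theorem L520444 : N23958 = N20669 := (eqc rfl L520443 rfl).symm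
theorem L520458 : sm gi N16472 = N43856 := trfs L520440 L370951 rfl
theorem L520459 : N43856 = N23979 := eqes L520458 L203876
theorem L520460 : N43856 = N23979 := eqc rfl L520459 rfl
theorem L520466 : sm gf N23979 = N30085 := trfs L520460 L370957 rfl
theorem L520467 : N30085 = N16694 := eqes L520466 L203881
theorem L520468 : N30085 = N16694 := eqc rfl L520467 rfl
theorem L520481 : sm gj N16694 = N20733 := trfs L520468 L255114 rfl
theorem L520482 : N20733 = N11554 := eqes L520481 L142348
theorem L520483 : N20733 = N11554 := eqc rfl L520482 rfl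
theorem L520498 : sm gi N11554 = N14254 := trfs L520483 (flp_i L176247) rfl
theorem L520499 : N14254 = N7967 := eqes L520498 (flp_i L98874)
theorem L520500 : N14254 = N7967 := eqc rfl L520499 rfl
theorem L520513 : sm gh N7967 = N9818 := trfs L520500 (flp_h L121493) rfl
theorem L520514 : N9818 = N5504 := eqes L520513 (flp_h L68463)
theorem L520515 : N9818 = N5504 := eqc rfl L520514 rfl
theorem L520524 : sm gj N5504 = N14210 := trfs L520515 (flp_j L121108) rfl
theorem L520525 : N14210 = N7922 := eqes L520524 (flp_j L68054)
theorem L520526 : N14210 = N7922 := eqc rfl L520525 rfl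
theorem L520528 : sm ga N7922 = N20661 := trfs L520526 (flp_a L175621) rfl
theorem L520529 : N20661 = N5482 := eqes L520528 L68052
theorem L520530 : N20661 = N5482 := eqc rfl L520529 rfl
theorem L520600 : sm gf N5482 = N30077 := trfs L520530 L255032 rfl
theorem L520601 : N30077 = N7820 := eqes L520600 (flp_f L67172)
theorem L520602 : N30077 = N7820 := eqc rfl L520601 rfl
theorem L520615 : sm gj N7820 = N20725 := trfs L520602 L255039 rfl
theorem L520616 : N20725 = N5429 := eqes L520615 L67174
theorem L520617 : N20725 = N5429 := eqc rfl L520616 rfl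
theorem L520629 : sm gh N5429 = N30174 := trfs L520617 L255885 rfl
theorem L520630 : N30174 = N7865 := eqes L520629 L67588
theorem L520631 : N30174 = N7865 := eqc rfl L520630 rfl
theorem L520637 : sm ge N7865 = N43988 := trfs L520631 (flp_e L372109) rfl
theorem L520638 : N43988 = N10380 := eqes L520637 (flp_e L88683)
theorem L520639 : N43988 = N10380 := eqc rfl L520638 rfl
theorem L520658 : sm ga N10380 = N30183 := trfs L520639 L372106 rfl
theorem L520659 : N30183 = N15065 := eqes L520658 (flp_a L128305)
theorem L520660 : N30183 = N15065 := eqc rfl L520659 rfl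
theorem L520668 : sm gd N15065 = N44004 := trfs L520660 L372234 rfl
theorem L520669 : N44004 = N21932 := eqes L520668 L186307
theorem L520670 : N44004 = N21932 := eqc rfl L520669 rfl
theorem L520677 : sm gh N15065 = N20730 := trfs L520660 (flp_h L255960) rfl
theorem L520678 : N20730 = N10363 := eqes L520677 (flp_h L128303)
theorem L520679 : N20730 = N10363 := eqc rfl L520678 rfl
theorem L520680 : sm gi N15065 = N44005 := trfs L520660 L372243 rfl
theorem L520681 : N44005 = N21933 := eqes L520680 L186314
theorem L520682 : N44005 = N21933 := eqc rfl L520681 rfl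
theorem L520683 : sm gb N21933 = N30191 := trfs L520682 L372245 rfl
theorem L520684 : N30191 = N31930 := eqes L520683 (flp_b L270533)
theorem L520685 : N31930 = N30191 := (eqc rfl L520684 rfl).symm
theorem L520690 : sm gb N30191 = N21933 := trfs L520685 L270533 rfl
theorem L520697 : sm gb N10363 = N14256 := trfs L520679 L176225 rfl
theorem L520698 : N14256 = N15054 := eqes L520697 (flp_b L128203)
theorem L520699 : N15054 = N14256 := (eqc rfl L520698 rfl).symm
theorem L520705 : sm gj N10363 = N30082 := trfs L520679 (flp_j L255084) rfl
theorem L520706 : N30082 = N15004 := eqes L520705 (flp_j L127754)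
theorem L520707 : N30082 = N15004 := eqc rfl L520706 rfl
theorem L520710 : sm gb N15004 = N20667 := trfs L520707 L255082 rfl
theorem L520711 : N20667 = N21829 := eqes L520710 (flp_b L185376)
theorem L520712 : N21829 = N20667 := (eqc rfl L520711 rfl).symm
theorem L520721 : sm gb N20667 = N15004 := trfs L520712 L185376 rfl
theorem L520733 : sm gg N20667 = N31803 := trfs L520712 L269395 rfl
theorem L520734 : N31803 = N30087 := eqes L520733 L255130
theorem L520735 : N31803 = N30087 := eqc rfl L520734 rfl
theorem L520750 : sm gd N30087 = N21830 := trfs L520735 L269400 rfl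
theorem L520751 : N21830 = N20812 := eqes L520750 L255133
theorem L520752 : N21830 = N20812 := eqc rfl L520751 rfl
theorem L520770 : sm gh N20812 = N31807 := trfs L520752 L269435 rfl
theorem L520771 : N31807 = N30305 := eqes L520770 L256961
theorem L520772 : N31807 = N30305 := eqc rfl L520771 rfl
theorem L520779 : sm gg N30305 = N21831 := trfs L520772 L269443 rfl
theorem L520780 : N21831 = N20813 := eqes L520779 L256967
theorem L520781 : N21831 = N20813 := eqc rfl L520780 rfl
theorem L520783 : sm gb N20813 = N15006 := trfs L520781 L185396 rfl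
theorem L520784 : N15006 = N30299 := eqes L520783 (flp_b L256908)
theorem L520785 : N30299 = N15006 := (eqc rfl L520784 rfl).symm
theorem L520787 : sm gd N20813 = N31808 := trfs L520781 L269445 rfl
theorem L520788 : N31808 = N30306 := eqes L520787 L256969
theorem L520789 : N31808 = N30306 := eqc rfl L520788 rfl
theorem L520796 : sm gi N20813 = N31809 := trfs L520781 L269453 rfl
theorem L520797 : N31809 = N30307 := eqes L520796 L256977
theorem L520798 : N31809 = N30307 := eqc rfl L520797 rfl
theorem L520805 : sm gj N30307 = N21917 := trfs L520798 L269462 rfl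
theorem L520806 : N21917 = N20900 := eqes L520805 L256984
theorem L520807 : N21917 = N20900 := eqc rfl L520806 rfl
theorem L520813 : sm gd N20900 = N31938 := trfs L520807 (flp_d L270606) rfl
theorem L520814 : N31938 = N30435 := eqes L520813 (flp_d L258143)
theorem L520815 : N31938 = N30435 := eqc rfl L520814 rfl
theorem L520818 : sm gg N20900 = N31935 := trfs L520807 (flp_g L270586) rfl
theorem L520819 : N31935 = N30433 := eqes L520818 (flp_g L258130)
theorem L520820 : N31935 = N30433 := eqc rfl L520819 rfl
theorem L520824 : sm gb N30433 = N21938 := trfs L520820 L270581 rfl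
theorem L520825 : N21938 = N44364 := eqes L520824 (flp_b L375369)
theorem L520826 : N44364 = N21938 := (eqc rfl L520825 rfl).symm
theorem L520828 : sm ge N30433 = N21920 := trfs L520820 L270584 rfl
theorem L520829 : N21920 = N20902 := eqes L520828 L258128
theorem L520830 : N21920 = N20902 := eqc rfl L520829 rfl
theorem L520832 : sm gi N30433 = N21915 := trfs L520820 (flp_i L270578) rfl
theorem L520833 : N21915 = N20898 := eqes L520832 (flp_i L258124)
theorem L520834 : N21915 = N20898 := eqc rfl L520833 rfl
theorem L520836 : sm gb N20898 = N15068 := trfs L520834 L186154 rfl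
theorem L520837 : N15068 = N30424 := eqes L520836 (flp_b L258049)
theorem L520838 : N30424 = N15068 := (eqc rfl L520837 rfl).symm
theorem L520851 : sm gh N20898 = N15055 := trfs L520834 (flp_h L186151) rfl
theorem L520852 : N15055 = N14365 := eqes L520851 (flp_h L177681)
theorem L520853 : N15055 = N14365 := eqc rfl L520852 rfl
theorem L520855 : sm gb N14365 = N10364 := trfs L520853 L128212 rfl
theorem L520856 : N10364 = N20891 := eqes L520855 (flp_b L177626)
theorem L520857 : N20891 = N10364 := (eqc rfl L520856 rfl).symm
theorem L520869 : sm gj N14365 = N21914 := trfs L520853 L186142 rfl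
theorem L520870 : N21914 = N20897 := eqes L520869 L177674
theorem L520871 : N21914 = N20897 := eqc rfl L520870 rfl
theorem L520884 : sm gf N20897 = N31931 := trfs L520871 (flp_f L270547) rfl
theorem L520885 : N31931 = N30429 := eqes L520884 (flp_f L258097)
theorem L520886 : N31931 = N30429 := eqc rfl L520885 rfl
theorem L520891 : sm gb N30429 = N21934 := trfs L520886 L270542 rfl
theorem L520892 : N21934 = N44360 := eqes L520891 (flp_b L375335)
theorem L520893 : N44360 = N21934 := (eqc rfl L520892 rfl).symm
theorem L520952 : sm gj N21934 = N30422 := trfs L520893 (flp_j L375333) rfl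
theorem L520953 : N30422 = N15066 := eqes L520952 (flp_j L186323)
theorem L520954 : N30422 = N15066 := eqc rfl L520953 rfl
theorem L520961 : sm gc N15066 = N44347 := trfs L520954 (flp_c L375223) rfl
theorem L520962 : N44347 = N10372 := eqes L520961 L128315
theorem L520963 : N44347 = N10372 := eqc rfl L520962 rfl
theorem L520970 : sm gh N15066 = N44361 := trfs L520954 L375342 rfl
theorem L520971 : N44361 = N21935 := eqes L520970 L186334
theorem L520972 : N44361 = N21935 := eqc rfl L520971 rfl
theorem L520976 : sm ge N21935 = N30610 := trfs L520972 L375346 rfl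
theorem L520977 : N30610 = N15152 := eqes L520976 L186340
theorem L520978 : N30610 = N15152 := eqc rfl L520977 rfl
theorem L520989 : sm gd N15152 = N44640 := trfs L520978 L377664 rfl
theorem L520990 : N44640 = N22058 := eqes L520989 L187329
theorem L520991 : N44640 = N22058 := eqc rfl L520990 rfl
theorem L521004 : sm gb N22058 = N30619 := trfs L520991 L377666 rfl
theorem L521005 : N30619 = N32103 := eqes L521004 (flp_b L271929)
theorem L521006 : N32103 = N30619 := (eqc rfl L521005 rfl).symm
theorem L521007 : sm gf N22058 = N30612 := trfs L520991 L377668 rfl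
theorem L521008 : N30612 = N15154 := eqes L521007 L187333
theorem L521009 : N30612 = N15154 := eqc rfl L521008 rfl
theorem L521021 : sm ge N15154 = N21069 := trfs L521009 L259637 rfl
theorem L521022 : N21069 = N22063 := eqes L521021 L187376
theorem L521023 : N22063 = N21069 := (eqc rfl L521022 rfl).symm
theorem L521030 : sm gb N21069 = N32108 := trfs L521023 (flp_b L271976) rfl
theorem L521031 : N32108 = N14487 := eqes L521030 L179145
theorem L521032 : N32108 = N14487 := eqc rfl L521031 rfl
theorem L521035 : sm ge N21069 = N15154 := trfs L521023 (flp_e L187376) rfl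
theorem L521039 : sm gj N21069 = N32149 := trfs L521023 (flp_j L272341) rfl
theorem L521040 : N32149 = N30688 := eqes L521039 (flp_j L260307)
theorem L521041 : N32149 = N30688 := eqc rfl L521040 rfl
theorem L521052 : sm ga N30688 = N22104 := trfs L521041 L272338 rfl
theorem L521053 : N22104 = N44709 := eqes L521052 (flp_a L378294)
theorem L521054 : N44709 = N22104 := (eqc rfl L521053 rfl).symm
theorem L521060 : sm ga N22104 = N30688 := trfs L521054 L378294 rfl
theorem L521072 : sm gg N14487 = N22037 := trfs L521032 L271978 rfl
theorem L521073 : N22037 = N9974 := eqes L521072 L123495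
theorem L521074 : N22037 = N9974 := eqc rfl L521073 rfl
theorem L521084 : sm ge N9974 = N15138 := trfs L521074 (flp_e L187142) rfl
theorem L521085 : N15138 = N14452 := eqes L521084 (flp_e L123189)
theorem L521086 : N15138 = N14452 := eqc rfl L521085 rfl
theorem L521127 : sm gc N14452 = N22036 := trfs L521086 L187135 rfl
theorem L521128 : N22036 = N21027 := eqes L521127 L178767
theorem L521129 : N22036 = N21027 := eqc rfl L521128 rfl
theorem L521137 : sm gb N21027 = N32110 := trfs L521129 L271992 rfl
theorem L521138 : N32110 = N30625 := eqes L521137 L259744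
theorem L521139 : N32110 = N30625 := eqc rfl L521138 rfl
theorem L521160 : sm gc N30625 = N22065 := trfs L521139 L271998 rfl
theorem L521161 : N22065 = N44646 := eqes L521160 (flp_c L377724)
theorem L521162 : N44646 = N22065 := (eqc rfl L521161 rfl).symm
theorem L521168 : sm gc N22065 = N30625 := trfs L521162 L377724 rfl
theorem L521215 : sm gb N30619 = N22058 := trfs L521006 L271929 rfl
theorem L521478 : sm gf N10372 = N30414 := trfs L520963 (flp_f L375220) rfl
theorem L521479 : N30414 = N7147 := eqes L521478 (flp_f L88607)
theorem L521480 : N30414 = N7147 := eqc rfl L521479 rfl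
theorem L521494 : sm gh N7147 = N44349 := trfs L521480 L375237 rfl
theorem L521495 : N44349 = N10374 := eqes L521494 L88626
theorem L521496 : N44349 = N10374 := eqc rfl L521495 rfl
theorem L521501 : sm gg N10374 = N30415 := trfs L521496 L375244 rfl
theorem L521502 : N30415 = N7148 := eqes L521501 L88633
theorem L521503 : N30415 = N7148 := eqc rfl L521502 rfl
theorem L521512 : sm gj N7148 = N44166 := trfs L521503 (flp_j L373567) rfl
theorem L521513 : N44166 = N10330 := eqes L521512 (flp_j L88236)
theorem L521514 : N44166 = N10330 := eqc rfl L521513 rfl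
theorem L521530 : sm gh N10330 = N30293 := trfs L521514 (flp_h L373559) rfl
theorem L521531 : N30293 = N7118 := eqes L521530 (flp_h L88228)
theorem L521532 : N30293 = N7118 := eqc rfl L521531 rfl
theorem L521533 : sm ga N7118 = N44154 := trfs L521532 (flp_a L373441) rfl
theorem L521534 : N44154 = N4920 := eqes L521533 L61007
theorem L521535 : N44154 = N4920 := eqc rfl L521534 rfl
theorem L521555 : sm gj N4920 = N30403 := trfs L521535 L373445 rfl
theorem L521556 : N30403 = N3416 := eqes L521555 L42349
theorem L521557 : N30403 = N3416 := eqc rfl L521556 rfl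
theorem L521563 : sm gc N3416 = N20881 := trfs L521557 L257864 rfl
theorem L521564 : N20881 = N4938 := eqes L521563 (flp_c L42509)
theorem L521565 : N20881 = N4938 := eqc rfl L521564 rfl
theorem L521581 : sm gh N4938 = N30409 := trfs L521565 L257915 rfl
theorem L521582 : N30409 = N7154 := eqes L521581 L61326
theorem L521583 : N30409 = N7154 := eqc rfl L521582 rfl
theorem L521588 : sm gd N7154 = N44341 := trfs L521583 L375166 rfl
theorem L521589 : N44341 = N10384 := eqes L521588 L88712
theorem L521590 : N44341 = N10384 := eqc rfl L521589 rfl
theorem L521627 : sm ga N10384 = N30425 := trfs L521590 L375168 rfl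
theorem L521628 : N30425 = N15069 := eqes L521627 (flp_a L128342)
theorem L521629 : N30425 = N15069 := eqc rfl L521628 rfl
theorem L521631 : sm ge N10384 = N30454 := trfs L521590 L375172 rfl
theorem L521632 : N30454 = N15098 := eqes L521631 L128586
theorem L521633 : N30454 = N15098 := eqc rfl L521632 rfl
theorem L521635 : sm ga N15098 = N20927 := trfs L521633 L258322 rfl
theorem L521636 : N20927 = N21940 := eqes L521635 (flp_a L186381)
theorem L521637 : N21940 = N20927 := (eqc rfl L521636 rfl).symm
theorem L521639 : sm gc N15098 = N44409 := trfs L521633 L375771 rfl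
theorem L521640 : N44409 = N21981 := eqes L521639 (flp_c L186716)
theorem L521641 : N44409 = N21981 := eqc rfl L521640 rfl
theorem L521666 : sm ga N21981 = N30478 := trfs L521641 L375773 rfl
theorem L521667 : N30478 = N31974 := eqes L521666 (flp_a L270922)
theorem L521668 : N31974 = N30478 := (eqc rfl L521667 rfl).symm
theorem L521669 : sm ga N30478 = N21981 := trfs L521668 L270922 rfl
theorem L521672 : sm gd N30478 = N45341 := trfs L521668 (flp_d L383542) rfl
theorem L521673 : N45341 = N44422 := eqes L521672 (flp_d L375885)
theorem L521674 : N45341 = N44422 := eqc rfl L521673 rfl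
theorem L521675 : sm ge N30478 = N21939 := trfs L521668 (flp_e L270920) rfl
theorem L521676 : N21939 = N44365 := eqes L521675 (flp_e L375378)
theorem L521677 : N44365 = N21939 := (eqc rfl L521676 rfl).symm
theorem L521679 : sm ge N21939 = N30478 := trfs L521677 L375378 rfl
theorem L521682 : sm ga N44422 = N31120 := trfs L521674 L383538 rfl
theorem L521684 : sm gc N44422 = N31078 := trfs L521674 L383540 rfl
theorem L521685 : N31078 = N30463 := eqes L521684 (flp_c L375883)
theorem L521686 : N31078 = N30463 := eqc rfl L521685 rfl
theorem L521687 : sm ge N44422 = N31077 := trfs L521674 (flp_e L383536) rfl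
theorem L521695 : sm gf N30463 = N45343 := trfs L521686 L383552 rfl
theorem L521696 : N45343 = N41998 := eqes L521695 (flp_f L354984)
theorem L521697 : N45343 = N41998 := eqc rfl L521696 rfl
theorem L521698 : sm gg N30463 = N45338 := trfs L521686 (flp_g L383520) rfl
theorem L521699 : N45338 = N44420 := eqes L521698 (flp_g L375869)
theorem L521700 : N45338 = N44420 := eqc rfl L521699 rfl
theorem L521701 : sm gj N30463 = N45076 := trfs L521686 (flp_j L381398) rfl
theorem L521702 : N45076 = N44214 := eqes L521701 (flp_j L374035)
theorem L521703 : N45076 = N44214 := eqc rfl L521702 rfl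
theorem L521705 : sm gi N30463 = N45344 := trfs L521686 L383558 rfl
theorem L521706 : N45344 = N44424 := eqes L521705 L375893
theorem L521707 : N45344 = N44424 := eqc rfl L521706 rfl
theorem L521708 : sm ga N44424 = N31123 := trfs L521707 L383560 rfl
theorem L521711 : sm ge N44424 = N31079 := trfs L521707 L383564 rfl
theorem L521713 : sm ga N44214 = N30930 := trfs L521703 L381396 rfl
theorem L521716 : sm ge N44214 = N30901 := trfs L521703 (flp_e L381394) rfl
theorem L521718 : sm ga N44420 = N31117 := trfs L521700 L383518 rfl
theorem L521721 : sm ge N44420 = N31075 := trfs L521700 (flp_e L383516) rfl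
theorem L521723 : sm ga N41998 = N31122 := trfs L521697 L383554 rfl
theorem L521726 : sm ga N20927 = N15098 := trfs L521637 L186381 rfl
theorem L521750 : sm gb N15069 = N20899 := trfs L521629 L258057 rfl
theorem L521751 : N20899 = N21916 := eqes L521750 (flp_b L186164)
theorem L521752 : N21916 = N20899 := (eqc rfl L521751 rfl).symm
theorem L521754 : sm ge N15069 = N20927 := trfs L521629 L258060 rfl
theorem L521785 : sm gb N20899 = N15069 := trfs L521752 L186164 rfl
theorem L521994 : sm gb N10364 = N14365 := trfs L520857 L177626 rfl
theorem L522015 : sm gb N15068 = N20898 := trfs L520838 L258049 rfl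
theorem L522027 : sm gj N20902 = N31940 := trfs L520830 (flp_j L270628) rfl
theorem L522028 : N31940 = N30436 := eqes L522027 (flp_j L258156)
theorem L522029 : N31940 = N30436 := eqc rfl L522028 rfl
theorem L522033 : sm gb N30436 = N21943 := trfs L522029 L270623 rfl
theorem L522034 : N21943 = N44367 := eqes L522033 (flp_b L375392)
theorem L522035 : N44367 = N21943 := (eqc rfl L522034 rfl).symm
theorem L522040 : sm gb N21943 = N30436 := trfs L522035 L375392 rfl
theorem L522048 : sm gb N21938 = N30433 := trfs L520826 L375369 rfl
theorem L522054 : sm gb N30435 = N21941 := trfs L520815 L270604 rfl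
theorem L522064 : sm gb N30306 = N21844 := trfs L520789 L269448 rfl
theorem L522067 : sm gb N15006 = N20813 := trfs L520785 L256908 rfl
theorem L522138 : sm gb N14256 = N10363 := trfs L520699 L128203 rfl
theorem L522149 : sm gb N21932 = N30190 := trfs L520670 L372236 rfl
theorem L522218 : sm gd N20669 = N34904 := trfs L520444 L295846 rfl
theorem L522219 : N34904 = N14224 := eqes L522218 L175701
theorem L522220 : N34904 = N14224 := eqc rfl L522219 rfl
theorem L522228 : sm gh N14224 = N23962 := trfs L522220 L295855 rfl
theorem L522229 : N23962 = N9797 := eqes L522228 (flp_h L121238)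
theorem L522230 : N23962 = N9797 := eqc rfl L522229 rfl
theorem L522233 : sm gc N9797 = N34911 := trfs L522230 L295923 rfl
theorem L522234 : N34911 = N9797 := eqes L522233 L83766
theorem L522235 : N34911 = N9797 := eqc rfl L522234 rfl
theorem L522258 : sm gj N9797 = N24082 := trfs L522235 L295928 rfl
theorem L522259 : N24082 = N6781 := eqes L522258 L83769
theorem L522260 : N24082 = N6781 := eqc rfl L522259 rfl
theorem L522271 : sm gg N6781 = N35082 := trfs L522260 (flp_g L297449) rfl
theorem L522272 : N35082 = N9831 := eqes L522271 L84059
theorem L522273 : N35082 = N9831 := eqc rfl L522272 rfl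
theorem L522291 : sm gd N9831 = N27313 := trfs L522273 L297451 rfl
theorem L522292 : N27313 = N6783 := eqes L522291 L84063
theorem L522293 : N27313 = N6783 := eqc rfl L522292 rfl
theorem L522300 : sm ge N6783 = N39807 := trfs L522293 L336402 rfl
theorem L522301 : N39807 = N4724 := eqes L522300 L58214
theorem L522302 : N39807 = N4724 := eqc rfl L522301 rfl
theorem L522449 : sm gg N4724 = N27317 := trfs L522302 L336407 rfl
theorem L522450 : N27317 = N3270 := eqes L522449 (flp_g L40716)
theorem L522451 : N27317 = N3270 := eqc rfl L522450 rfl
theorem L522457 : sm gd N3270 = N39815 := trfs L522451 L336466 rfl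
theorem L522458 : N39815 = N4722 := eqes L522457 (flp_d L40705)
theorem L522459 : N39815 = N4722 := eqc rfl L522458 rfl
theorem L522481 : sm gc N4722 = N27330 := trfs L522459 L336469 rfl
theorem L522482 : N27330 = N3317 := eqes L522481 L40703
theorem L522483 : N27330 = N3317 := eqc rfl L522482 rfl
theorem L522502 : sm gi N3317 = N39836 := trfs L522483 L336636 rfl
theorem L522503 : N39836 = N2307 := eqes L522502 L28729
theorem L522504 : N39836 = N2307 := eqc rfl L522503 rfl
theorem L522506 : sm gd N2307 = N27332 := trfs L522504 L336639 rfl
theorem L522507 : N27332 = N1605 := eqes L522506 L20078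
theorem L522508 : N27332 = N1605 := eqc rfl L522507 rfl
theorem L522516 : sm gg N1605 = N39829 := trfs L522508 (flp_g L336586) rfl
theorem L522517 : N39829 = N2309 := eqes L522516 L20087
theorem L522518 : N39829 = N2309 := eqc rfl L522517 rfl
theorem L522533 : sm gi N2309 = N27325 := trfs L522518 (flp_i L336579) rfl
theorem L522534 : N27325 = N3319 := eqes L522533 (flp_i L28744)
theorem L522535 : N27325 = N3319 := eqc rfl L522534 rfl
theorem L522537 : sm gb N3319 = N38661 := trfs L522535 (flp_b L326967) rfl
theorem L522538 : N38661 = N4794 := eqes L522537 (flp_b L41312)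
theorem L522539 : N38661 = N4794 := eqc rfl L522538 rfl
theorem L522566 : sm gg N4794 = N26510 := trfs L522539 L326971 rfl
theorem L522567 : N26510 = N3316 := eqes L522566 (flp_g L41310)
theorem L522568 : N26510 = N3316 := eqc rfl L522567 rfl
theorem L522577 : sm gf N3316 = N38667 := trfs L522568 L327012 rfl
theorem L522578 : N38667 = N2300 := eqes L522577 (flp_f L28714)
theorem L522579 : N38667 = N2300 := eqc rfl L522578 rfl
theorem L522593 : sm ge N2300 = N26516 := trfs L522579 L327019 rfl
theorem L522594 : N26516 = N1599 := eqes L522593 (flp_e L20011)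
theorem L522595 : N26516 = N1599 := eqc rfl L522594 rfl
theorem L522615 : sm gi N1599 = N38677 := trfs L522595 L327093 rfl
theorem L522616 : N38677 = N1117 := eqes L522615 L13983
theorem L522617 : N38677 = N1117 := eqc rfl L522616 rfl
theorem L522622 : sm gf N1117 = N26517 := trfs L522617 L327099 rfl
theorem L522623 : N26517 = N1117 := eqes L522622 L9814
theorem L522624 : N26517 = N1117 := eqc rfl L522623 rfl
theorem L522642 : sm gh N1117 = N38678 := trfs L522624 L327101 rfl
theorem L522643 : N38678 = N794 := eqes L522642 L9817
theorem L522644 : N38678 = N794 := eqc rfl L522643 rfl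
theorem L522653 : sm gg N794 = N10867 := trfs L522644 L327109 L443871
theorem L522654 : N10867 = N551 := eqes L522653 L7009
theorem L522655 : N10867 = N551 := eqc rfl L522654 rfl
theorem L522668 : sm gf N551 = N15801 := trfs L522655 L134747 rfl
theorem L522669 : N15801 = N380 := eqes L522668 L4872
theorem L522670 : N15801 = N380 := eqc rfl L522669 rfl
theorem L522751 : sm gh N380 = N20446 := trfs L522670 L428692 rfl
theorem L522752 : N20446 = N545 := eqes L522751 (flp_h L4820)
theorem L522753 : N20446 = N545 := eqc rfl L522752 rfl
theorem L522769 : sm gi N545 = N14059 := trfs L522753 (flp_i L173768) rfl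
theorem L522770 : N14059 = N784 := eqes L522769 (flp_i L6920)
theorem L522771 : N14059 = N784 := eqc rfl L522770 rfl
theorem L522779 : sm gd N784 = N10219 := trfs L522771 L119793 rfl
theorem L522780 : N10219 = N1082 := eqes L522779 (flp_d L9487)
theorem L522781 : N10219 = N1082 := eqc rfl L522780 rfl
theorem L522803 : sm gh N1082 = N7767 := trfs L522781 L87312 rfl
theorem L522804 : N7767 = N1547 := eqes L522803 (flp_h L13507)
theorem L522805 : N7767 = N1547 := eqc rfl L522804 rfl
theorem L522818 : sm gf N1547 = N11277 := trfs L522805 L96488 rfl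
theorem L522819 : N11277 = N2203 := eqes L522818 (flp_f L19141)
theorem L522820 : N11277 = N2203 := eqc rfl L522819 rfl
theorem L522835 : sm gg N2203 = N16399 := trfs L522820 L139861 rfl
theorem L522836 : N16399 = N3153 := eqes L522835 (flp_g L27276)
theorem L522837 : N16399 = N3153 := eqc rfl L522836 rfl
theorem L522856 : sm gh N3153 = N21633 := trfs L522837 (flp_h L183829) rfl
theorem L522857 : N21633 = N2195 := eqes L522856 L27278
theorem L522858 : N21633 = N2195 := eqc rfl L522857 rfl
theorem L522877 : sm gi N2195 = N31532 := trfs L522858 L267267 rfl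
theorem L522878 : N31532 = N1532 := eqes L522877 L19079
theorem L522879 : N31532 = N1532 := eqc rfl L522878 rfl
theorem L522895 : sm gj N1532 = N46014 := trfs L522879 (flp_j L389009) rfl
theorem L522896 : N46014 = N2190 := eqes L522895 (flp_j L19031)
theorem L522897 : N46014 = N2190 := eqc rfl L522896 rfl
theorem L522899 : sm ga N2190 = N31594 := trfs L522897 L389004 rfl
theorem L522900 : N31594 = N3148 := eqes L522899 L27228
theorem L522901 : N31594 = N3148 := eqc rfl L522900 rfl
theorem L522917 : sm gi N3148 = N21676 := trfs L522901 (flp_i L267747) rfl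
theorem L522918 : N21676 = N4535 := eqes L522917 (flp_i L39058)
theorem L522919 : N21676 = N4535 := eqc rfl L522918 rfl
theorem L522932 : sm gh N4535 = N16427 := trfs L522919 L184172 rfl
theorem L522933 : N16427 = N6545 := eqes L522932 (flp_h L56137)
theorem L522934 : N16427 = N6545 := eqc rfl L522933 rfl
theorem L522939 : sm ge N6545 = N23917 := trfs L522934 (flp_e L203335) rfl
theorem L522940 : N23917 = N9476 := eqes L522939 L80973
theorem L522941 : N23917 = N9476 := eqc rfl L522940 rfl
theorem L522958 : sm gj N9476 = N16426 := trfs L522941 (flp_j L203331) rfl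
theorem L522959 : N16426 = N6568 := eqes L522958 L80980
theorem L522960 : N16426 = N6568 := eqc rfl L522959 rfl
theorem L522976 : sm gh N6568 = N21674 := trfs L522960 (flp_h L184155) rfl
theorem L522977 : N21674 = N4552 := eqes L522976 L56353
theorem L522978 : N21674 = N4552 := eqc rfl L522977 rfl
theorem L522994 : sm gi N4552 = N31593 := trfs L522978 L267738 rfl
theorem L522995 : N31593 = N3161 := eqes L522994 L39217
theorem L522996 : N31593 = N3161 := eqc rfl L522995 rfl
theorem L523007 : sm gg N3161 = N21675 := trfs L522996 L267744 rfl
theorem L523008 : N21675 = N2211 := eqes L523007 L27353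
theorem L523009 : N21675 = N2211 := eqc rfl L523008 rfl
theorem L523019 : sm gf N2211 = N14885 := trfs L523009 L184163 rfl
theorem L523020 : N14885 = N3181 := eqes L523019 L27517
theorem L523021 : N14885 = N3181 := eqc rfl L523020 rfl
theorem L523039 : sm gi N3181 = N10238 := trfs L523021 (flp_i L126803) rfl
theorem L523040 : N10238 = N4578 := eqes L523039 (flp_i L39436)
theorem L523041 : N10238 = N4578 := eqc rfl L523040 rfl
theorem L523056 : sm gh N4578 = N7781 := trfs L523041 L87478 rfl
theorem L523057 : N7781 = N6603 := eqes L523056 (flp_h L56645)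
theorem L523058 : N7781 = N6603 := eqc rfl L523057 rfl
theorem L523064 : sm gd N6603 = N11293 := trfs L523058 (flp_d L96632) rfl
theorem L523065 : N11293 = N9563 := eqes L523064 (flp_d L81734)
theorem L523066 : N11293 = N9563 := eqc rfl L523065 rfl
theorem L523067 : sm ge N6603 = N5367 := trfs L523058 (flp_e L66826) rfl
theorem L523068 : N5367 = N4612 := eqes L523067 L56648
theorem L523069 : N5367 = N4612 := eqc rfl L523068 rfl
theorem L523071 : sm gg N6603 = N11295 := trfs L523058 (flp_g L96647) rfl
theorem L523072 : N11295 = N9565 := eqes L523071 L81747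
theorem L523073 : N11295 = N9565 := eqc rfl L523072 rfl
theorem L523081 : sm gd N9565 = N16420 := trfs L523073 (flp_d L140039) rfl
theorem L523082 : N16420 = N13874 := eqes L523081 (flp_d L118211)
theorem L523083 : N16420 = N13874 := eqc rfl L523082 rfl
theorem L523084 : sm ge N9565 = N7780 := trfs L523073 (flp_e L96643) rfl
theorem L523085 : N7780 = N6668 := eqes L523084 L81753
theorem L523086 : N7780 = N6668 := eqc rfl L523085 rfl
theorem L523090 : sm gj N9565 = N16424 := trfs L523073 (flp_j L140069) rfl
theorem L523091 : N16424 = N13877 := eqes L523090 L118234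
theorem L523092 : N16424 = N13877 := eqc rfl L523091 rfl
theorem L523100 : sm gd N13877 = N23907 := trfs L523092 (flp_d L203260) rfl
theorem L523101 : N23907 = N20169 := eqes L523100 (flp_d L171398)
theorem L523102 : N23907 = N20169 := eqc rfl L523101 rfl
theorem L523103 : sm ge N13877 = N11294 := trfs L523092 (flp_e L140064) rfl
theorem L523104 : N11294 = N9662 := eqes L523103 L118240
theorem L523105 : N11294 = N9662 := eqc rfl L523104 rfl
theorem L523110 : sm gh N13877 = N21670 := trfs L523092 (flp_h L184120) rfl
theorem L523111 : N21670 = N9585 := eqes L523110 L118242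
theorem L523112 : N21670 = N9585 := eqc rfl L523111 rfl
theorem L523128 : sm gi N9585 = N31589 := trfs L523112 L267702 rfl
theorem L523129 : N31589 = N6636 := eqes L523128 L81936
theorem L523130 : N31589 = N6636 := eqc rfl L523129 rfl
theorem L523142 : sm gf N6636 = N46102 := trfs L523130 (flp_f L389680) rfl
theorem L523143 : N46102 = N9544 := eqes L523142 (flp_f L81595)
theorem L523144 : N46102 = N9544 := eqc rfl L523143 rfl
theorem L523151 : sm gj N9544 = N31591 := trfs L523144 L389682 rfl
theorem L523152 : N31591 = N6589 := eqes L523151 (flp_j L81588)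
theorem L523153 : N31591 = N6589 := eqc rfl L523152 rfl
theorem L523168 : sm gi N6589 = N21672 := trfs L523153 (flp_i L267721) rfl
theorem L523169 : N21672 = N9524 := eqes L523168 (flp_i L81426)
theorem L523170 : N21672 = N9524 := eqc rfl L523169 rfl
theorem L523176 : sm gd N9524 = N31576 := trfs L523170 (flp_d L267615) rfl
theorem L523177 : N31576 = N13813 := eqes L523176 (flp_d L117716)
theorem L523178 : N31576 = N13813 := eqc rfl L523177 rfl
theorem L523201 : sm gh N13813 = N46050 := trfs L523178 (flp_h L389298) rfl
theorem L523202 : N46050 = N20079 := eqes L523201 L170667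
theorem L523203 : N46050 = N20079 := eqc rfl L523202 rfl
theorem L523209 : sm gf N20079 = N31556 := trfs L523203 (flp_f L389293) rfl
theorem L523210 : N31556 = N13905 := eqes L523209 L170672
theorem L523211 : N31556 = N13905 := eqc rfl L523210 rfl
theorem L523217 : sm gd N13905 = N23895 := trfs L523211 L267471 rfl
theorem L523218 : N23895 = N20170 := eqes L523217 (flp_d L171409)
theorem L523219 : N23895 = N20170 := eqc rfl L523218 rfl
theorem L523229 : sm gc N20170 = N34824 := trfs L523219 (flp_c L295212) rfl
theorem L523230 : N34824 = N29341 := eqes L523229 (flp_c L248734)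
theorem L523231 : N34824 = N29341 := eqc rfl L523230 rfl
theorem L523232 : sm ge N20170 = N16410 := trfs L523219 (flp_e L203162) rfl
theorem L523233 : N16410 = N29348 := eqes L523232 (flp_e L248801)
theorem L523234 : N29348 = N16410 := (eqc rfl L523233 rfl).symm
theorem L523236 : sm gg N20170 = N16413 := trfs L523219 L203165 rfl
theorem L523237 : N16413 = N13875 := eqes L523236 L171407
theorem L523238 : N16413 = N13875 := eqc rfl L523237 rfl
theorem L523239 : sm gj N20170 = N34821 := trfs L523219 (flp_j L295190) rfl
theorem L523240 : N34821 = N29351 := eqes L523239 (flp_j L248832)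
theorem L523241 : N34821 = N29351 := eqc rfl L523240 rfl
theorem L523243 : sm gi N20170 = N34827 := trfs L523219 L295230 rfl
theorem L523244 : N34827 = N29352 := eqes L523243 L248836
theorem L523245 : N34827 = N29352 := eqc rfl L523244 rfl
theorem L523248 : sm ge N29352 = N23896 := trfs L523245 L295233 rfl
theorem L523249 : N23896 = N42770 := eqes L523248 (flp_e L361678)
theorem L523250 : N42770 = N23896 := (eqc rfl L523249 rfl).symm
theorem L523251 : sm gg N29352 = N23901 := trfs L523245 L295235 rfl
theorem L523252 : N23901 = N20171 := eqes L523251 L248843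
theorem L523253 : N23901 = N20171 := eqc rfl L523252 rfl
theorem L523259 : sm gc N20171 = N34833 := trfs L523253 (flp_c L295275) rfl
theorem L523260 : N34833 = N29343 := eqes L523259 (flp_c L248752)
theorem L523261 : N34833 = N29343 := eqc rfl L523260 rfl
theorem L523263 : sm ge N20171 = N16414 := trfs L523253 L203208 rfl
theorem L523264 : N16414 = N29350 := eqes L523263 (flp_e L248821)
theorem L523265 : N29350 = N16414 := (eqc rfl L523264 rfl).symm
theorem L523266 : sm gf N20171 = N34835 := trfs L523253 (flp_f L295291) rfl
theorem L523267 : N34835 = N13876 := eqes L523266 L171418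
theorem L523268 : N34835 = N13876 := eqc rfl L523267 rfl
theorem L523277 : sm gi N13876 = N23900 := trfs L523268 (flp_i L295287) rfl
theorem L523278 : N23900 = N9564 := eqes L523277 (flp_i L118224)
theorem L523279 : N23900 = N9564 := eqc rfl L523278 rfl
theorem L523294 : sm gh N9564 = N16423 := trfs L523279 L203202 rfl
theorem L523295 : N16423 = N6602 := eqes L523294 (flp_h L81738)
theorem L523296 : N16423 = N6602 := eqc rfl L523295 rfl
theorem L523301 : sm gc N6602 = N23913 := trfs L523296 (flp_c L203302) rfl
theorem L523302 : N23913 = N9562 := eqes L523301 L81721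
theorem L523303 : N23913 = N9562 := eqc rfl L523302 rfl
theorem L523318 : sm gf N9562 = N16422 := trfs L523303 (flp_f L203300) rfl
theorem L523319 : N16422 = N13871 := eqes L523318 L118179
theorem L523320 : N16422 = N13871 := eqc rfl L523319 rfl
theorem L523334 : sm gb N13871 = N23912 := trfs L523320 (flp_b L203294) rfl
theorem L523335 : N23912 = N20160 := eqes L523334 (flp_b L171317)
theorem L523336 : N23912 = N20160 := eqc rfl L523335 rfl
theorem L523339 : sm ge N13871 = N11292 := trfs L523320 (flp_e L140049) rfl
theorem L523340 : N11292 = N20162 := eqes L523339 L171331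
theorem L523341 : N20162 = N11292 := (eqc rfl L523340 rfl).symm
theorem L523342 : sm gg N13871 = N23909 := trfs L523320 (flp_g L203274) rfl
theorem L523343 : N23909 = N20163 := eqes L523342 L171340
theorem L523344 : N23909 = N20163 := eqc rfl L523343 rfl
theorem L523346 : sm gh N13871 = N23898 := trfs L523320 (flp_h L203189) rfl
theorem L523347 : N23898 = N20164 := eqes L523346 L171348
theorem L523348 : N23898 = N20164 := eqc rfl L523347 rfl
theorem L523353 : sm gb N20164 = N34829 := trfs L523348 (flp_b L295247) rfl
theorem L523354 : N34829 = N29334 := eqes L523353 (flp_b L248670)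
theorem L523355 : N34829 = N29334 := eqc rfl L523354 rfl
theorem L523360 : sm ge N20164 = N16412 := trfs L523348 (flp_e L203184) rfl
theorem L523361 : N16412 = N29339 := eqes L523360 (flp_e L248717)
theorem L523362 : N29339 = N16412 := (eqc rfl L523361 rfl).symm
theorem L523367 : sm ga N16412 = N20174 := trfs L523362 L248713 rfl
theorem L523368 : N20174 = N23863 := eqes L523367 (flp_a L202889)
theorem L523369 : N23863 = N20174 := (eqc rfl L523368 rfl).symm
theorem L523373 : sm gc N16412 = N20168 := trfs L523362 L248715 rfl
theorem L523374 : N20168 = N11286 := eqes L523373 (flp_c L139971)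
theorem L523375 : N20168 = N11286 := eqc rfl L523374 rfl
theorem L523376 : sm gd N16412 = N42756 := trfs L523362 L361543 rfl
theorem L523377 : N42756 = N23674 := eqes L523376 (flp_d L201391)
theorem L523378 : N42756 = N23674 := eqc rfl L523377 rfl
theorem L523379 : sm ge N16412 = N20164 := trfs L523362 L248717 rfl
theorem L523382 : sm gg N16412 = N42755 := trfs L523362 (flp_g L361541) rfl
theorem L523383 : N42755 = N23894 := eqes L523382 (flp_g L203158)
theorem L523384 : N42755 = N23894 := eqc rfl L523383 rfl
theorem L523387 : sm gi N16412 = N42757 := trfs L523362 L361549 rfl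
theorem L523388 : N42757 = N23899 := eqes L523387 L203191
theorem L523389 : N42757 = N23899 := eqc rfl L523388 rfl
theorem L523390 : sm ga N23899 = N29359 := trfs L523389 L361551 rfl
theorem L523391 : N29359 = N34784 := eqes L523390 (flp_a L294870)
theorem L523392 : N34784 = N29359 := (eqc rfl L523391 rfl).symm
theorem L523399 : sm ga N29359 = N23899 := trfs L523392 L294870 rfl
theorem L523432 : sm ga N23894 = N29357 := trfs L523384 L361535 rfl
theorem L523433 : N29357 = N34779 := eqes L523432 (flp_a L294830)
theorem L523434 : N34779 = N29357 := (eqc rfl L523433 rfl).symm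
theorem L523438 : sm gh N23894 = N29338 := trfs L523384 (flp_h L361533) rfl
theorem L523439 : N29338 = N16419 := eqes L523438 L203160
theorem L523440 : N29338 = N16419 := eqc rfl L523439 rfl
theorem L523441 : sm ga N16419 = N20173 := trfs L523440 L248704 rfl
theorem L523442 : N20173 = N23870 := eqes L523441 (flp_a L202952)
theorem L523443 : N23870 = N20173 := (eqc rfl L523442 rfl).symm
theorem L523457 : sm gj N16419 = N42754 := trfs L523440 L361523 rfl
theorem L523458 : N42754 = N23906 := eqes L523457 (flp_j L203248)
theorem L523459 : N42754 = N23906 := eqc rfl L523458 rfl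
theorem L523461 : sm ga N23906 = N29356 := trfs L523459 L361525 rfl
theorem L523462 : N29356 = N34791 := eqes L523461 (flp_a L294933)
theorem L523463 : N34791 = N29356 := (eqc rfl L523462 rfl).symm
theorem L523464 : sm gc N23906 = N29347 := trfs L523459 L361527 rfl
theorem L523465 : N29347 = N16418 := eqes L523464 (flp_c L203245)
theorem L523466 : N29347 = N16418 := eqc rfl L523465 rfl
theorem L523485 : sm gf N16418 = N42766 := trfs L523466 (flp_f L361641) rfl
theorem L523486 : N42766 = N23903 := eqes L523485 (flp_f L203226)
theorem L523487 : N42766 = N23903 := eqc rfl L523486 rfl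
theorem L523490 : sm gh N16418 = N42768 := trfs L523466 L361652 rfl
theorem L523491 : N42768 = N23892 := eqes L523490 (flp_h L203146)
theorem L523492 : N42768 = N23892 := eqc rfl L523491 rfl
theorem L523494 : sm ga N23892 = N29370 := trfs L523492 L361654 rfl
theorem L523495 : N29370 = N34777 := eqes L523494 (flp_a L294812)
theorem L523496 : N34777 = N29370 := (eqc rfl L523495 rfl).symm
theorem L523502 : sm ga N29370 = N23892 := trfs L523496 L294812 rfl
theorem L523513 : sm gd N23903 = N29670 := trfs L523487 L361639 rfl
theorem L523514 : N29670 = N16416 := eqes L523513 (flp_d L203223)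
theorem L523515 : N29670 = N16416 := eqc rfl L523514 rfl
theorem L523516 : sm gj N23903 = N29346 := trfs L523487 (flp_j L361634) rfl
theorem L523517 : N29346 = N16417 := eqes L523516 L203228
theorem L523518 : N29346 = N16417 := eqc rfl L523517 rfl
theorem L523527 : sm ge N16417 = N42497 := trfs L523518 (flp_e L359429) rfl
theorem L523528 : N42497 = N23905 := eqes L523527 L203239
theorem L523529 : N42497 = N23905 := eqc rfl L523528 rfl
theorem L523532 : sm gh N16417 = N42767 := trfs L523518 L361644 rfl
theorem L523533 : N42767 = N23890 := eqes L523532 (flp_h L203130)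
theorem L523534 : N42767 = N23890 := eqc rfl L523533 rfl
theorem L523536 : sm ga N23890 = N29369 := trfs L523534 L361646 rfl
theorem L523537 : N29369 = N34775 := eqes L523536 (flp_a L294794)
theorem L523538 : N34775 = N29369 := (eqc rfl L523537 rfl).symm
theorem L523542 : sm ga N29369 = N23890 := trfs L523538 L294794 rfl
theorem L523549 : sm ga N23905 = N29181 := trfs L523529 L359424 rfl
theorem L523550 : N29181 = N34790 := eqes L523549 (flp_a L294926)
theorem L523551 : N34790 = N29181 := (eqc rfl L523550 rfl).symm
theorem L523554 : sm gf N23905 = N29167 := trfs L523529 (flp_f L359422) rfl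
theorem L523555 : N29167 = N34841 := eqes L523554 L295334
theorem L523556 : N34841 = N29167 := (eqc rfl L523555 rfl).symm
theorem L523561 : sm ge N29167 = N23910 := trfs L523556 L295339 rfl
theorem L523562 : N23910 = N20048 := eqes L523561 L247293
theorem L523563 : N23910 = N20048 := eqc rfl L523562 rfl
theorem L523564 : sm gf N29167 = N23905 := trfs L523556 (flp_f L295334) rfl
theorem L523567 : sm ga N20048 = N34795 := trfs L523563 (flp_a L294970) rfl
theorem L523568 : N34795 = N13800 := eqes L523567 L170388
theorem L523569 : N34795 = N13800 := eqc rfl L523568 rfl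
theorem L523595 : sm gd N13800 = N23876 := trfs L523569 L294972 rfl
theorem L523596 : N23876 = N9515 := eqes L523595 L117595
theorem L523597 : N23876 = N9515 := eqc rfl L523596 rfl
theorem L523626 : sm gb N9515 = N34763 := trfs L523597 (flp_b L294693) rfl
theorem L523627 : N34763 = N6573 := eqes L523626 L81336
theorem L523628 : N34763 = N6573 := eqc rfl L523627 rfl
theorem L523671 : sm gh N6573 = N45953 := trfs L523628 (flp_h L388478) rfl
theorem L523672 : N45953 = N4557 := eqes L523671 L56395
theorem L523673 : N45953 = N4557 := eqc rfl L523672 rfl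
theorem L523678 : sm gf N4557 = N31490 := trfs L523673 (flp_f L388473) rfl
theorem L523679 : N31490 = N3178 := eqes L523678 L39259
theorem L523680 : N31490 = N3178 := eqc rfl L523679 rfl
theorem L523697 : sm gi N3178 = N45954 := trfs L523680 L388481 rfl
theorem L523698 : N45954 = N2216 := eqes L523697 L27498
theorem L523699 : N45954 = N2216 := eqc rfl L523698 rfl
theorem L523704 : sm ge N2216 = N31491 := trfs L523699 L388486 rfl
theorem L523705 : N31491 = N1560 := eqes L523704 L19255
theorem L523706 : N31491 = N1560 := eqc rfl L523705 rfl
theorem L523713 : sm gc N1560 = N45952 := trfs L523706 (flp_c L388466) rfl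
theorem L523714 : N45952 = N1089 := eqes L523713 L13617
theorem L523715 : N45952 = N1089 := eqc rfl L523714 rfl
theorem L523730 : sm gi N1089 = N31489 := trfs L523715 (flp_i L388462) rfl
theorem L523731 : N31489 = N1554 := eqes L523730 (flp_i L13571)
theorem L523732 : N31489 = N1554 := eqc rfl L523731 rfl
theorem L523745 : sm gh N1554 = N23850 := trfs L523732 L266889 rfl
theorem L523746 : N23850 = N2225 := eqes L523745 (flp_h L19334)
theorem L523747 : N23850 = N2225 := eqc rfl L523746 rfl
theorem L523763 : sm gj N2225 = N34760 := trfs L523747 (flp_j L294666) rfl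
theorem L523764 : N34760 = N3202 := eqes L523763 L27691
theorem L523765 : N34760 = N3202 := eqc rfl L523764 rfl
theorem L523769 : sm gc N3202 = N23849 := trfs L523765 (flp_c L294661) rfl
theorem L523770 : N23849 = N4621 := eqes L523769 (flp_c L39785)
theorem L523771 : N23849 = N4621 := eqc rfl L523770 rfl
theorem L523789 : sm gb N4621 = N16396 := trfs L523771 L202771 rfl
theorem L523790 : N16396 = N6675 := eqes L523789 (flp_b L57243)
theorem L523791 : N16396 = N6675 := eqc rfl L523790 rfl
theorem L523816 : sm gh N6675 = N21627 := trfs L523791 (flp_h L183771) rfl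
theorem L523817 : N21627 = N4632 := eqes L523816 L57247
theorem L523818 : N21627 = N4632 := eqc rfl L523817 rfl
theorem L523827 : sm gj N4632 = N14853 := trfs L523818 L183768 rfl
theorem L523828 : N14853 = N3208 := eqes L523827 (flp_j L39884)
theorem L523829 : N14853 = N3208 := eqc rfl L523828 rfl
theorem L523852 : sm gg N3208 = N10217 := trfs L523829 L126529 rfl
theorem L523853 : N10217 = N2228 := eqes L523852 (flp_g L27747)
theorem L523854 : N10217 = N2228 := eqc rfl L523853 rfl
theorem L523867 : sm gi N2228 = N14856 := trfs L523854 L126553 rfl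
theorem L523868 : N14856 = N1557 := eqes L523867 L19364
theorem L523869 : N14856 = N1557 := eqc rfl L523868 rfl
theorem L523875 : sm gf N1557 = N10220 := trfs L523869 L126560 rfl
theorem L523876 : N10220 = N1086 := eqes L523875 (flp_f L13591)
theorem L523877 : N10220 = N1086 := eqc rfl L523876 rfl
theorem L523888 : sm gd N1086 = N7040 := trfs L523877 L87319 rfl
theorem L523889 : N7040 = N1556 := eqes L523888 L13583
theorem L523890 : N7040 = N1556 := eqc rfl L523889 rfl
theorem L523910 : sm gi N1556 = N4859 := trfs L523890 (flp_i L60350) rfl
theorem L523911 : N4859 = N2227 := eqes L523910 (flp_i L19354)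
theorem L523912 : N4859 = N2227 := eqc rfl L523911 rfl
theorem L523913 : sm ga N2227 = N3364 := trfs L523912 L41827 rfl
theorem L523914 : N3364 = N3203 := eqes L523913 (flp_a L27702)
theorem L523915 : N3364 = N3203 := eqc rfl L523914 rfl
theorem L523917 : sm gc N2227 = N3361 := trfs L523912 L41829 rfl
theorem L523918 : N3361 = N3205 := eqes L523917 L27720
theorem L523919 : N3361 = N3205 := eqc rfl L523918 rfl
theorem L523926 : sm ga N3205 = N2333 := trfs L523919 L29078 rfl
theorem L523927 : N2333 = N4622 := eqes L523926 (flp_a L39794)
theorem L523928 : N4622 = N2333 := (eqc rfl L523927 rfl).symm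
theorem L523934 : sm gf N3205 = N4862 := trfs L523919 (flp_f L41856) rfl
theorem L523935 : N4862 = N4626 := eqes L523934 L39831
theorem L523936 : N4862 = N4626 := eqc rfl L523935 rfl
theorem L523954 : sm gi N4626 = N7045 := trfs L523936 L60397 rfl
theorem L523955 : N7045 = N3218 := eqes L523954 L39838
theorem L523956 : N7045 = N3218 := eqc rfl L523955 rfl
theorem L523963 : sm gg N3218 = N10227 := trfs L523956 (flp_g L87385) rfl
theorem L523964 : N10227 = N4647 := eqes L523963 L40015
theorem L523965 : N10227 = N4647 := eqc rfl L523964 rfl
theorem L523970 : sm gc N4647 = N14854 := trfs L523965 (flp_c L126538) rfl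
theorem L523971 : N14854 = N3221 := eqes L523970 L40018
theorem L523972 : N14854 = N3221 := eqc rfl L523971 rfl
theorem L523976 : sm gj N4647 = N14866 := trfs L523965 (flp_j L126652) rfl
theorem L523977 : N14866 = N6721 := eqes L523976 L57647
theorem L523978 : N14866 = N6721 := eqc rfl L523977 rfl
theorem L523991 : sm gi N6721 = N10226 := trfs L523978 (flp_i L126644) rfl
theorem L523992 : N10226 = N9695 := eqes L523991 (flp_i L82862)
theorem L523993 : N10226 = N9695 := eqc rfl L523992 rfl
theorem L524005 : sm gh N9695 = N7043 := trfs L523993 (flp_h L87368) rfl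
theorem L524006 : N7043 = N14075 := eqes L524005 L119933
theorem L524007 : N14075 = N7043 := (eqc rfl L524006 rfl).symm
theorem L524017 : sm gh N7043 = N9695 := trfs L524007 (flp_h L119933) rfl
theorem L524077 : sm ga N3221 = N10237 := trfs L523972 L126536 rfl
theorem L524078 : N10237 = N4642 := eqes L524077 (flp_a L39973)
theorem L524079 : N10237 = N4642 := eqc rfl L524078 rfl
theorem L524101 : sm gh N4642 = N7095 := trfs L524079 L87471 rfl
theorem L524102 : N7095 = N6716 := eqes L524101 L57605
theorem L524103 : N7095 = N6716 := eqc rfl L524102 rfl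
theorem L524104 : sm gi N4642 = N7050 := trfs L524079 (flp_i L87463) rfl
theorem L524105 : N7050 = N6685 := eqes L524104 (flp_i L57337)
theorem L524106 : N7050 = N6685 := eqc rfl L524105 rfl
theorem L524114 : sm gg N6685 = N4867 := trfs L524106 L60450 rfl
theorem L524115 : N4867 = N4623 := eqes L524114 (flp_g L57330)
theorem L524116 : N4867 = N4623 := eqc rfl L524115 rfl
theorem L524117 : sm gj N6685 = N10235 := trfs L524106 (flp_j L87452) rfl
theorem L524118 : N10235 = N9689 := eqes L524117 L82798
theorem L524119 : N10235 = N9689 := eqc rfl L524118 rfl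
theorem L524120 : sm gh N6685 = N4866 := trfs L524106 (flp_h L60444) rfl
theorem L524121 : N4866 = N9690 := eqes L524120 L82809
theorem L524122 : N9690 = N4866 := (eqc rfl L524121 rfl).symm
theorem L524123 : sm ga N4866 = N6697 := trfs L524122 L82811 rfl
theorem L524124 : N6697 = N7037 := eqes L524123 (flp_a L60323)
theorem L524125 : N7037 = N6697 := (eqc rfl L524124 rfl).symm
theorem L524139 : sm gh N4866 = N6685 := trfs L524122 (flp_h L82809) rfl
theorem L524141 : sm gi N4866 = N14067 := trfs L524122 L119861 rfl
theorem L524142 : N14067 = N3384 := eqes L524141 L41897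
theorem L524143 : N14067 = N3384 := eqc rfl L524142 rfl
theorem L524160 : sm gh N3384 = N9735 := trfs L524143 L119869 rfl
theorem L524161 : N9735 = N4897 := eqes L524160 L42152
theorem L524162 : N9735 = N4897 := eqc rfl L524161 rfl
theorem L524172 : sm gg N4897 = N6717 := trfs L524162 L83212 rfl
theorem L524173 : N6717 = N3385 := eqes L524172 L42158
theorem L524174 : N6717 = N3385 := eqc rfl L524173 rfl
theorem L524175 : sm gj N4897 = N14131 := trfs L524162 (flp_j L120424) rfl
theorem L524176 : N14131 = N7094 := eqes L524175 (flp_j L60816)
theorem L524177 : N14131 = N7094 := eqc rfl L524176 rfl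
theorem L524180 : sm ga N7094 = N9756 := trfs L524177 L120418 rfl
theorem L524181 : N9756 = N10274 := eqes L524180 (flp_a L87768)
theorem L524182 : N10274 = N9756 := (eqc rfl L524181 rfl).symm
theorem L524190 : sm gi N7094 = N9734 := trfs L524177 (flp_i L120416) rfl
theorem L524191 : N9734 = N10296 := eqes L524190 L87946
theorem L524192 : N10296 = N9734 := (eqc rfl L524191 rfl).symm
theorem L524197 : sm gc N9734 = N7103 := trfs L524192 L87949 rfl
theorem L524198 : N7103 = N14118 := eqes L524197 (flp_c L120301)
theorem L524199 : N14118 = N7103 := (eqc rfl L524198 rfl).symm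
theorem L524208 : sm gi N9734 = N7094 := trfs L524192 (flp_i L87946) rfl
theorem L524235 : sm gc N7103 = N9734 := trfs L524199 L120301 rfl
theorem L524254 : sm ga N9756 = N7094 := trfs L524182 L87768 rfl
theorem L524266 : sm ga N3385 = N4655 := trfs L524174 L57616 rfl
theorem L524267 : N4655 = N4886 := eqes L524266 (flp_a L42061)
theorem L524268 : N4886 = N4655 := (eqc rfl L524267 rfl).symm
theorem L524273 : sm gf N3385 = N4644 := trfs L524174 L57620 rfl
theorem L524274 : N4644 = N2345 := eqes L524273 L29288
theorem L524275 : N4644 = N2345 := eqc rfl L524274 rfl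
theorem L524278 : sm gi N3385 = N4643 := trfs L524174 (flp_i L57614) rfl
theorem L524279 : N4643 = N4898 := eqes L524278 L42161
theorem L524280 : N4898 = N4643 := (eqc rfl L524279 rfl).symm
theorem L524287 : sm gf N4643 = N3386 := trfs L524280 L42167 rfl
theorem L524288 : N3386 = N3216 := eqes L524287 L39984
theorem L524289 : N3386 = N3216 := eqc rfl L524288 rfl
theorem L524293 : sm gi N4643 = N3385 := trfs L524280 (flp_i L42161) rfl
theorem L524300 : sm ge N3216 = N4650 := trfs L524289 (flp_e L40043) rfl
theorem L524301 : N4650 = N2342 := eqes L524300 L27821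
theorem L524302 : N4650 = N2342 := eqc rfl L524301 rfl
theorem L524317 : sm gi N2342 = N3219 := trfs L524302 (flp_i L40038) rfl
theorem L524318 : N3219 = N3381 := eqes L524317 L29249
theorem L524319 : N3381 = N3219 := (eqc rfl L524318 rfl).symm
theorem L524331 : sm gi N3219 = N2342 := trfs L524319 (flp_i L29249) rfl
theorem L524340 : sm gh N2345 = N6687 := trfs L524275 (flp_h L57357) rfl
theorem L524341 : N6687 = N1628 := eqes L524340 (flp_h L20394)
theorem L524342 : N6687 = N1628 := eqc rfl L524341 rfl
theorem L524343 : sm gi N2345 = N3216 := trfs L524275 (flp_i L39988) rfl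
theorem L524348 : sm gd N1628 = N9661 := trfs L524342 (flp_d L82561) rfl
theorem L524349 : N9661 = N1242 := eqes L524348 L14242
theorem L524350 : N9661 = N1242 := eqc rfl L524349 rfl
theorem L524370 : sm gi N1242 = N6667 := trfs L524350 (flp_i L82556) rfl
theorem L524371 : N6667 = N1777 := eqes L524370 (flp_i L15564)
theorem L524372 : N6667 = N1777 := eqc rfl L524371 rfl
theorem L524373 : sm ga N1777 = N4615 := trfs L524372 L57175 rfl
theorem L524374 : N4615 = N2559 := eqes L524373 (flp_a L22282)
theorem L524375 : N4615 = N2559 := eqc rfl L524374 rfl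
theorem L524387 : sm gh N1777 = N4611 := trfs L524372 (flp_h L57173) rfl
theorem L524388 : N4611 = N2564 := eqes L524387 L22329
theorem L524389 : N4611 = N2564 := eqc rfl L524388 rfl
theorem L524390 : sm ga N2564 = N3197 := trfs L524389 L39702 rfl
theorem L524391 : N3197 = N3700 := eqes L524390 (flp_a L32048)
theorem L524392 : N3700 = N3197 := (eqc rfl L524391 rfl).symm
theorem L524397 : sm gd N2564 = N3196 := trfs L524389 (flp_d L39700) rfl
theorem L524398 : N3196 = N3708 := eqes L524397 L32125
theorem L524399 : N3708 = N3196 := (eqc rfl L524398 rfl).symm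
theorem L524401 : sm gf N2564 = N6666 := trfs L524389 L57164 rfl
theorem L524402 : N6666 = N3707 := eqes L524401 (flp_f L32121)
theorem L524403 : N6666 = N3707 := eqc rfl L524402 rfl
theorem L524407 : sm ga N3707 = N4614 := trfs L524403 L57166 rfl
theorem L524408 : N4614 = N5356 := eqes L524407 (flp_a L46170)
theorem L524409 : N5356 = N4614 := (eqc rfl L524408 rfl).symm
theorem L524419 : sm gg N3707 = N9659 := trfs L524403 L82537 rfl
theorem L524420 : N9659 = N5366 := eqes L524419 (flp_g L46271)
theorem L524421 : N9659 = N5366 := eqc rfl L524420 rfl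
theorem L524428 : sm gc N5366 = N14014 := trfs L524421 (flp_c L119394) rfl
theorem L524429 : N14014 = N3712 := eqes L524428 L46268
theorem L524430 : N14014 = N3712 := eqc rfl L524429 rfl
theorem L524516 : sm gb N3712 = N20369 := trfs L524430 (flp_b L173102) rfl
theorem L524517 : N20369 = N2572 := eqes L524516 L32161
theorem L524518 : N20369 = N2572 := eqc rfl L524517 rfl
theorem L524531 : sm gg N2572 = N14011 := trfs L524518 (flp_g L173100) rfl
theorem L524532 : N14011 = N1783 := eqes L524531 L22409
theorem L524533 : N14011 = N1783 := eqc rfl L524532 rfl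
theorem L524573 : sm gh N1783 = N20370 := trfs L524533 L173108 rfl
theorem L524574 : N20370 = N1236 := eqes L524573 (flp_h L15612)
theorem L524575 : N20370 = N1236 := eqc rfl L524574 rfl
theorem L524587 : sm gi N1236 = N17746 := trfs L524575 L420680 rfl
theorem L524588 : N17746 = N864 := eqes L524587 L10885
theorem L524589 : N17746 = N864 := eqc rfl L524588 rfl
theorem L524593 : sm gd N864 = N12197 := trfs L524589 (flp_d L151016) rfl
theorem L524594 : N12197 = N597 := eqes L524593 L7645
theorem L524595 : N12197 = N597 := eqc rfl L524594 rfl
theorem L525585 : sm ge N597 = N8400 := trfs L524595 L104122 rfl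
theorem L525586 : N8400 = N854 := eqes L525585 (flp_e L7557)
theorem L525587 : N8400 = N854 := eqc rfl L525586 rfl
theorem L525601 : sm gi N854 = N12200 := trfs L525587 L104141 rfl
theorem L525602 : N12200 = N1224 := eqes L525601 (flp_i L10778)
theorem L525603 : N12200 = N1224 := eqc rfl L525602 rfl
theorem L525606 : sm gc N1224 = N17740 := trfs L525603 (flp_c L150970) rfl
theorem L525607 : N17740 = N850 := eqes L525606 L10774
theorem L525608 : N17740 = N850 := eqc rfl L525607 rfl
theorem L525617 : sm gd N850 = N25835 := trfs L525608 (flp_d L219227) rfl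
theorem L525618 : N25835 = N1202 := eqes L525617 (flp_d L10576)
theorem L525619 : N25835 = N1202 := eqc rfl L525618 rfl
theorem L525638 : sm gi N1202 = N17739 := trfs L525619 (flp_i L219221) rfl
theorem L525639 : N17739 = N839 := eqes L525638 L10579
theorem L525640 : N17739 = N839 := eqc rfl L525639 rfl
theorem L525649 : sm gg N839 = N25832 := trfs L525640 (flp_g L219199) rfl
theorem L525650 : N25832 = N1207 := eqes L525649 L10613
theorem L525651 : N25832 = N1207 := eqc rfl L525650 rfl
theorem L525661 : sm gf N1207 = N37133 := trfs L525651 (flp_f L314433) rfl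
theorem L525662 : N37133 = N1719 := eqes L525661 (flp_f L15049)
theorem L525663 : N37133 = N1719 := eqc rfl L525662 rfl
theorem L525671 : sm gd N1719 = N25474 := trfs L525663 (flp_d L314429) rfl
theorem L525672 : N25474 = N1220 := eqes L525671 L15046
theorem L525673 : N25474 = N1220 := eqc rfl L525672 rfl
theorem L525677 : sm gb N1220 = N37119 := trfs L525673 (flp_b L314318) rfl
theorem L525678 : N37119 = N1606 := eqes L525677 (flp_b L14042)
theorem L525679 : N37119 = N1606 := eqc rfl L525678 rfl
theorem L525709 : sm gg N1606 = N25467 := trfs L525679 L314322 rfl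
theorem L525710 : N25467 = N1119 := eqes L525709 (flp_g L14039)
theorem L525711 : N25467 = N1119 := eqc rfl L525710 rfl
theorem L525753 : sm gd N1119 = N37120 := trfs L525711 L314324 rfl
theorem L525754 : N37120 = N1583 := eqes L525753 (flp_d L13838)
theorem L525755 : N37120 = N1583 := eqc rfl L525754 rfl
theorem L525768 : sm gf N1583 = N25468 := trfs L525755 L314329 rfl
theorem L525769 : N25468 = N1105 := eqes L525768 (flp_f L13833)
theorem L525770 : N25468 = N1105 := eqc rfl L525769 rfl
theorem L525786 : sm gi N1105 = N37124 := trfs L525770 L314356 rfl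
theorem L525787 : N37124 = N1580 := eqes L525786 (flp_i L13814)
theorem L525788 : N37124 = N1580 := eqc rfl L525787 rfl
theorem L525792 : sm gg N1580 = N25823 := trfs L525788 L314363 rfl
theorem L525793 : N25823 = N1108 := eqes L525792 L13812
theorem L525794 : N25823 = N1108 := eqc rfl L525793 rfl
theorem L525801 : sm ge N1108 = N37650 := trfs L525794 (flp_e L318604) rfl
theorem L525802 : N37650 = N771 := eqes L525801 (flp_e L9728)
theorem L525803 : N37650 = N771 := eqc rfl L525802 rfl
theorem L525820 : sm gi N771 = N25822 := trfs L525803 (flp_i L318599) rfl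
theorem L525821 : N25822 = N535 := eqes L525820 L6803
theorem L525822 : N25822 = N535 := eqc rfl L525821 rfl
theorem L525825 : sm gc N535 = N37647 := trfs L525822 (flp_c L318580) rfl
theorem L525826 : N37647 = N772 := eqes L525825 L6805
theorem L525827 : N37647 = N772 := eqc rfl L525826 rfl
theorem L525836 : sm ge N772 = N25821 := trfs L525827 (flp_e L318575) rfl
theorem L525837 : N25821 = N1110 := eqes L525836 L9745
theorem L525838 : N25821 = N1110 := eqc rfl L525837 rfl
theorem L525844 : sm gd N1110 = N33590 := trfs L525838 (flp_d L284943) rfl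
theorem L525845 : N33590 = N1591 := eqes L525844 L13903
theorem L525846 : N33590 = N1591 := eqc rfl L525845 rfl
theorem L525867 : sm gh N1591 = N44589 := trfs L525846 (flp_h L377211) rfl
theorem L525868 : N44589 = N2288 := eqes L525867 L19896
theorem L525869 : N44589 = N2288 := eqc rfl L525868 rfl
theorem L525871 : sm gb N2288 = N30635 := trfs L525869 L377213 rfl
theorem L525872 : N30635 = N3295 := eqes L525871 (flp_b L28526)
theorem L525873 : N30635 = N3295 := eqc rfl L525872 rfl
theorem L525960 : sm gi N3295 = N44678 := trfs L525873 L378020 rfl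
theorem L525961 : N44678 = N4764 := eqes L525960 L41045
theorem L525962 : N44678 = N4764 := eqc rfl L525961 rfl
theorem L525966 : sm gc N4764 = N30637 := trfs L525962 L378024 rfl
theorem L525967 : N30637 = N6892 := eqes L525966 (flp_c L59147)
theorem L525968 : N30637 = N6892 := eqc rfl L525967 rfl
theorem L525979 : sm gh N6892 = N44681 := trfs L525968 L378046 rfl
theorem L525980 : N44681 = N9965 := eqes L525979 (flp_h L85216)
theorem L525981 : N44681 = N9965 := eqc rfl L525980 rfl
theorem L525989 : sm gd N9965 = N30727 := trfs L525981 L378053 rfl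
theorem L525990 : N30727 = N14476 := eqes L525989 (flp_d L123407)
theorem L525991 : N30727 = N14476 := eqc rfl L525990 rfl
theorem L526011 : sm gh N14476 = N21094 := trfs L525991 (flp_h L260631) rfl
theorem L526012 : N21094 = N21065 := eqes L526011 L179110
theorem L526013 : N21094 = N10122 := eqc rfl L526012 L503760
theorem L526014 : sm gi N14476 = N23193 := trfs L525991 L260638 rfl
theorem L526015 : N23193 = N9964 := eqes L526014 (flp_i L123403)
theorem L526016 : N23193 = N4834 := eqc rfl L526015 L503928
theorem L526034 : sm gh N4834 = N15925 := trfs L526016 (flp_h L197297) rfl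
theorem L526035 : N15925 = N3343 := eqes L526034 (flp_h L41634)
theorem L526036 : N15925 = N3343 := eqc rfl L526035 rfl
theorem L526055 : sm gi N3343 = N10947 := trfs L526036 (flp_i L135846) rfl
theorem L526056 : N10947 = N4816 := eqes L526055 (flp_i L41489)
theorem L526057 : N10947 = N4816 := eqc rfl L526056 rfl
theorem L526060 : sm gc N4816 = N15923 := trfs L526057 L135830 rfl
theorem L526061 : N15923 = N3332 := eqes L526060 (flp_c L41484)
theorem L526062 : N15923 = N3332 := eqc rfl L526061 rfl
theorem L526063 : N7541 = N3658 := L456048.trans L456134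
theorem L526083 : sm gh N3332 = N21092 := trfs L526062 (flp_h L179341) rfl
theorem L526084 : N21092 = N4818 := eqes L526083 L41503
theorem L526085 : N21092 = N4818 := eqc rfl L526084 rfl
theorem L526097 : sm gg N4818 = N30499 := trfs L526085 (flp_g L258697) rfl
theorem L526098 : N30499 = N6934 := eqes L526097 (flp_g L59508)
theorem L526099 : N30499 = N6934 := eqc rfl L526098 rfl
theorem L526119 : N30501 = N14614 := L443358.trans L504013
theorem L526134 : sm gf N6934 = N44471 := trfs L526099 (flp_f L376270) rfl
theorem L526135 : N44471 = N10060 := eqes L526134 (flp_f L86021)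
theorem L526136 : N44471 = N10060 := eqc rfl L526135 rfl
theorem L526164 : sm gh N10060 = N33417 := trfs L526136 L376272 rfl
theorem L526165 : N33417 = N6933 := eqes L526164 (flp_h L86016)
theorem L526166 : N33417 = N6933 := eqc rfl L526165 rfl
theorem L526167 : sm ga N6933 = N23509 := trfs L526166 L283480 rfl
theorem L526168 : N23509 = N4792 := eqes L526167 L59496
theorem L526169 : N23509 = N4792 := eqc rfl L526168 rfl
theorem L526171 : sm gc N6933 = N22927 := trfs L526166 (flp_c L283478) rfl
theorem L526172 : N22927 = N10056 := eqes L526171 (flp_c L85983)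
theorem L526173 : N22927 = N10056 := eqc rfl L526172 rfl
theorem L526248 : sm gj N10056 = N33158 := trfs L526173 (flp_j L281217) rfl
theorem L526249 : N33158 = N14548 := eqes L526248 (flp_j L123997)
theorem L526250 : N33158 = N14548 := eqc rfl L526249 rfl
theorem L526258 : sm gh N14548 = N44248 := trfs L526250 (flp_h L374344) rfl
theorem L526259 : N44248 = N21170 := eqes L526258 L179981
theorem L526260 : N44248 = N21170 := eqc rfl L526259 rfl
theorem L526261 : sm ga N21170 = N30891 := trfs L526260 L374336 rfl
theorem L526262 : N30891 = N14557 := eqes L526261 L179983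
theorem L526263 : N30891 = N14557 := eqc rfl L526262 rfl
theorem L526282 : sm gi N14557 = N45059 := trfs L526263 L381239 rfl
theorem L526283 : N45059 = N21184 := eqes L526282 L180116
theorem L526284 : N45059 = N21184 := eqc rfl L526283 rfl
theorem L526287 : sm gf N21184 = N30895 := trfs L526284 L381245 rfl
theorem L526288 : N30895 = N14559 := eqes L526287 L180120
theorem L526289 : N30895 = N14559 := eqc rfl L526288 rfl
theorem L526302 : sm gh N14559 = N44201 := trfs L526289 L381287 L443352
theorem L526303 : N44201 = N10042 := eqes L526302 L124105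
theorem L526304 : N44201 = N10042 := eqc rfl L526303 rfl
theorem L526312 : sm gi N10042 = N30315 := trfs L526304 (flp_i L373907) rfl
theorem L526313 : N30315 = N6921 := eqes L526312 (flp_i L85867)
theorem L526314 : N30315 = N6921 := eqc rfl L526313 rfl
theorem L526327 : sm gh N6921 = N22720 := trfs L526314 L257069 rfl
theorem L526328 : N22720 = N4780 := eqes L526327 (flp_h L59394)
theorem L526329 : N22720 = N4780 := eqc rfl L526328 rfl
theorem L526339 : sm gj N4780 = N15714 := trfs L526329 L193127 rfl
theorem L526340 : N15714 = N3323 := eqes L526339 L41196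
theorem L526341 : N15714 = N3323 := eqc rfl L526340 rfl
theorem L526392 : sm ge N3323 = N22879 := trfs L526341 L194585 rfl
theorem L526393 : N22879 = N4561 := eqes L526392 (flp_e L39289)
theorem L526394 : N22879 = N4561 := eqc rfl L526393 rfl
theorem L526406 : sm gh N4561 = N30449 := trfs L526394 (flp_h L258283) rfl
theorem L526407 : N30449 = N6591 := eqes L526406 L56548
theorem L526408 : N30449 = N6591 := eqc rfl L526407 rfl
theorem L526415 : sm gd N6591 = N41984 := trfs L526408 (flp_d L354851) rfl
theorem L526416 : N41984 = N9548 := eqes L526415 L81617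
theorem L526417 : N41984 = N9548 := eqc rfl L526416 rfl
theorem L526435 : sm gg N9548 = N28920 := trfs L526417 L354848 rfl
theorem L526436 : N28920 = N6640 := eqes L526435 L81619
theorem L526437 : N28920 = N6640 := eqc rfl L526436 rfl
theorem L526455 : sm gi N6640 = N42131 := trfs L526437 L356138 rfl
theorem L526456 : N42131 = N9623 := eqes L526455 L82231
theorem L526457 : N42131 = N9623 := eqc rfl L526456 rfl
theorem L526463 : sm ge N9623 = N28921 := trfs L526457 L356145 rfl
theorem L526464 : N28921 = N13965 := eqes L526463 (flp_e L118971)
theorem L526465 : N28921 = N13965 := eqc rfl L526464 rfl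
theorem L526474 : sm gf N13965 = N42129 := trfs L526465 (flp_f L356126) rfl
theorem L526475 : N42129 = N20305 := eqes L526474 (flp_f L172535)
theorem L526476 : N42129 = N20305 := eqc rfl L526475 rfl
theorem L526493 : sm gi N20305 = N28918 := trfs L526476 (flp_i L356119) rfl
theorem L526494 : N28918 = N13964 := eqes L526493 (flp_i L172530)
theorem L526495 : N28918 = N13964 := eqc rfl L526494 rfl
theorem L526498 : sm gb N13964 = N42113 := trfs L526495 (flp_b L355970) rfl
theorem L526499 : N42113 = N19945 := eqes L526498 (flp_b L169467)
theorem L526500 : N42113 = N19945 := eqc rfl L526499 rfl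
theorem L526524 : sm gf N19945 = N28911 := trfs L526500 L355972 rfl
theorem L526525 : N28911 = N13724 := eqes L526524 (flp_f L169465)
theorem L526526 : N28911 = N13724 := eqc rfl L526525 rfl
theorem L526536 : sm gg N13724 = N41975 := trfs L526526 (flp_g L354759) rfl
theorem L526537 : N41975 = N19859 := eqes L526536 (flp_g L168706)
theorem L526538 : N41975 = N19859 := eqc rfl L526537 rfl
theorem L526542 : sm ga N19859 = N29199 := trfs L526538 L354755 rfl
theorem L526543 : N29199 = N28865 := eqes L526542 (flp_a L244603)
theorem L526544 : N29199 = N28865 := eqc rfl L526543 rfl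
theorem L526571 : sm gc N28865 = N42545 := trfs L526544 L359842 rfl
theorem L526572 : N42545 = N41564 := eqes L526571 (flp_c L351072)
theorem L526573 : N42545 = N41564 := eqc rfl L526572 rfl
theorem L526579 : sm gj N28865 = N42350 := trfs L526544 (flp_j L358104) rfl
theorem L526580 : N42350 = N41929 := eqes L526579 (flp_j L354345)
theorem L526581 : N42350 = N41929 := eqc rfl L526580 rfl
theorem L526584 : sm gb N41929 = N29074 := trfs L526581 L358101 rfl
theorem L526591 : sm gg N41564 = N29394 := trfs L526573 L359844 rfl
theorem L526592 : N29394 = N28584 := eqes L526591 L351074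
theorem L526593 : N29394 = N28584 := eqc rfl L526592 rfl
theorem L526596 : sm gb N28584 = N42748 := trfs L526593 (flp_b L361477) rfl
theorem L526597 : N42748 = N41615 := eqes L526596 (flp_b L351507)
theorem L526598 : N42748 = N41615 := eqc rfl L526597 rfl
theorem L526636 : sm gc N41615 = N29335 := trfs L526598 (flp_c L361472) rfl
theorem L526786 : sm gg N4792 = N34276 := trfs L526169 (flp_g L290792) rfl
theorem L526787 : N34276 = N6939 := eqes L526786 L59545
theorem L526788 : N34276 = N6939 := eqc rfl L526787 rfl
theorem L526799 : sm gh N6939 = N45307 := trfs L526788 (flp_h L383263) rfl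
theorem L526800 : N45307 = N10071 := eqes L526799 L86109
theorem L526801 : N45307 = N10071 := eqc rfl L526800 rfl
theorem L526807 : sm gf N10071 = N31309 := trfs L526801 L383259 rfl
theorem L526808 : N31309 = N6989 := eqes L526807 L86113
theorem L526809 : N31309 = N6989 := eqc rfl L526808 rfl
theorem L526823 : sm gj N6989 = N45679 := trfs L526809 (flp_j L386204) rfl
theorem L526824 : N45679 = N10142 := eqes L526823 (flp_j L86683)
theorem L526825 : N45679 = N10142 := eqc rfl L526824 rfl
theorem L526827 : sm gi N6989 = N45683 := trfs L526809 L386239 rfl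
theorem L526828 : N45683 = N10143 := eqes L526827 L86686
theorem L526829 : N45683 = N10143 := eqc rfl L526828 rfl
theorem L526831 : sm gc N10143 = N31311 := trfs L526829 L386243 rfl
theorem L526832 : N31311 = N14729 := eqes L526831 (flp_c L125507)
theorem L526833 : N31311 = N14729 := eqc rfl L526832 rfl
theorem L526843 : sm gg N14729 = N21487 := trfs L526833 L265416 rfl
theorem L526844 : N21487 = N10134 := eqes L526843 L125509
theorem L526845 : N21487 = N10134 := eqc rfl L526844 rfl
theorem L526853 : sm gd N10134 = N14760 := trfs L526845 L182599 rfl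
theorem L526854 : N14760 = N14731 := eqes L526853 (flp_d L125522)
theorem L526855 : N14760 = N14731 := eqc rfl L526854 rfl
theorem L526867 : sm gf N14731 = N10156 := trfs L526855 L125752 rfl
theorem L526868 : N10156 = N10136 := eqes L526867 L125524
theorem L526869 : N10156 = N10136 := eqc rfl L526868 rfl
theorem L526889 : sm ga N10136 = N14496 := trfs L526869 (flp_a L123570) rfl
theorem L526891 : sm gb N10136 = N7004 := trfs L526869 L86787 rfl
theorem L526892 : N7004 = N14476 := eqes L526891 (flp_b L123405)
theorem L526893 : N14476 = N7004 := (eqc rfl L526892 rfl).symm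
theorem L526902 : N14734 = N14505 := L503135.trans L506160
theorem L526905 : sm gb N7004 = N10136 := trfs L526893 L123405 rfl
theorem L526924 : sm gh N10142 = N34620 := trfs L526825 L386206 rfl
theorem L526925 : N34620 = N6988 := eqes L526924 (flp_h L86678)
theorem L526926 : N34620 = N6988 := eqc rfl L526925 rfl
theorem L526930 : sm gc N6988 = N23745 := trfs L526926 (flp_c L293542) rfl
theorem L526931 : N23745 = N10131 := eqes L526930 (flp_c L86592)
theorem L526932 : N23745 = N10131 := eqc rfl L526931 rfl
theorem L526946 : sm gj N10131 = N16302 := trfs L526932 L201941 rfl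
theorem L526947 : N16302 = N6982 := eqes L526946 (flp_j L86590)
theorem L526948 : N16302 = N6982 := eqc rfl L526947 rfl
theorem L526956 : sm ge N6982 = N23748 := trfs L526948 L201960 rfl
theorem L526957 : N23748 = N10129 := eqes L526956 (flp_e L86579)
theorem L526958 : N23748 = N10129 := eqc rfl L526957 rfl
theorem L526965 : sm gd N10129 = N34613 := trfs L526958 (flp_d L293494) rfl
theorem L526966 : N34613 = N14720 := eqes L526965 (flp_d L125443)
theorem L526967 : N34613 = N14720 := eqc rfl L526966 rfl
theorem L527017 : sm ge N14720 = N23740 := trfs L526967 (flp_e L293488) rfl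
theorem L527018 : N23740 = N11169 := eqes L527017 L125445
theorem L527019 : N23740 = N11169 := eqc rfl L527018 rfl
theorem L527020 : sm gg N14720 = N23743 := trfs L526967 L293492 rfl
theorem L527021 : N23743 = N10128 := eqes L527020 (flp_g L125439)
theorem L527022 : N23743 = N10128 := eqc rfl L527021 rfl
theorem L527023 : sm ga N10128 = N33798 := trfs L527022 (flp_a L286724) rfl
theorem L527024 : N33798 = N14704 := eqes L527023 (flp_a L125287)
theorem L527025 : N33798 = N14088 := eqc rfl L527024 L508166
theorem L527031 : sm ge N10128 = N16299 := trfs L527022 (flp_e L201921) rfl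
theorem L527032 : N16299 = N7689 := eqes L527031 L86573
theorem L527033 : N16299 = N7689 := eqc rfl L527032 rfl
theorem L527044 : sm gc N7689 = N23742 := trfs L527033 L201914 rfl
theorem L527045 : N23742 = N5362 := eqes L527044 L66054
theorem L527046 : N23742 = N5362 := eqc rfl L527045 rfl
theorem L527088 : sm gg N5362 = N34612 := trfs L527046 (flp_g L293483) rfl
theorem L527089 : N34612 = N7773 := eqes L527088 L66761
theorem L527090 : N34612 = N7773 := eqc rfl L527089 rfl
theorem L527101 : sm gd N7773 = N26843 := trfs L527090 L293486 rfl
theorem L527102 : N26843 = N5363 := eqes L527101 L66764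
theorem L527103 : N26843 = N5363 := eqc rfl L527102 rfl
theorem L527109 : sm ge N5363 = N39148 := trfs L527103 L330818 rfl
theorem L527110 : N39148 = N3706 := eqes L527109 L46242
theorem L527111 : N39148 = N3706 := eqc rfl L527110 rfl
theorem L527124 : sm gg N3706 = N26846 := trfs L527111 L330823 rfl
theorem L527125 : N26846 = N2563 := eqes L527124 (flp_g L32108)
theorem L527126 : N26846 = N2563 := eqc rfl L527125 rfl
theorem L527127 : sm ga N2563 = N37956 := trfs L527126 (flp_a L321144) rfl
theorem L527128 : N37956 = N3699 := eqes L527127 (flp_a L32039)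
theorem L527129 : N37956 = N3699 := eqc rfl L527128 rfl
theorem L527158 : sm ge N3699 = N26028 := trfs L527129 (flp_e L321142) rfl
theorem L527159 : N26028 = N5354 := eqes L527158 L46149
theorem L527160 : N26028 = N5354 := eqc rfl L527159 rfl
theorem L527163 : sm gb N5354 = N37955 := trfs L527160 L321135 rfl
theorem L527164 : N37955 = N7757 := eqes L527163 (flp_b L66603)
theorem L527165 : N37955 = N6677 := eqc rfl L527164 L490749
theorem L527189 : sm gc N6677 = N26066 := trfs L527165 L321140 rfl
theorem L527190 : N26066 = N9651 := eqes L527189 (flp_c L82468)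
theorem L527191 : N26066 = N6050 := eqc rfl L527190 L491265
theorem L527205 : sm gh N6050 = N37998 := trfs L527191 (flp_h L321529) rfl
theorem L527206 : N37998 = N8774 := eqes L527205 L74993
theorem L527207 : N37998 = N6660 := eqc rfl L527206 L491286
theorem L527217 : sm gb N6660 = N26054 := trfs L527207 (flp_b L321524) rfl
theorem L527218 : N26054 = N9645 := eqes L527217 (flp_b L82415)
theorem L527219 : N26054 = N9645 := eqc rfl L527218 rfl
theorem L527238 : sm gh N9645 = N4183 := trfs L527219 L221058 L509898
theorem L527239 : N4183 = N14000 := eqes L527238 L119266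
theorem L527240 : N14000 = N4183 := (eqc rfl L527239 rfl).symm
theorem L527255 : sm gi N4183 = N10941 := trfs L527240 L443114 rfl
theorem L527256 : N10941 = N2913 := eqes L527255 L36035
theorem L527257 : N10941 = N2913 := eqc rfl L527256 rfl
theorem L527262 : sm ge N2913 = N14003 := trfs L527257 L443070 rfl
theorem L527263 : N14003 = N2020 := eqes L527262 (flp_e L25212)
theorem L527264 : N14003 = N2020 := eqc rfl L527263 rfl
theorem L527270 : sm gb N2020 = N9654 := trfs L527264 L119293 rfl
theorem L527271 : N9654 = N2912 := eqes L527270 (flp_b L25207)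
theorem L527272 : N9654 = N2912 := eqc rfl L527271 rfl
theorem L527292 : sm gi N2912 = N6662 := trfs L527272 (flp_i L82493) rfl
theorem L527293 : N6662 = N4181 := eqes L527292 (flp_i L36017)
theorem L527294 : N6662 = N4181 := eqc rfl L527293 rfl
theorem L527301 : sm gf N4181 = N4608 := trfs L527294 L57131 rfl
theorem L527302 : N4608 = N2892 := eqes L527301 (flp_f L36010)
theorem L527303 : N4608 = N2892 := eqc rfl L527302 rfl
theorem L527306 : sm gh N4181 = N4607 := trfs L527294 (flp_h L57126) rfl
theorem L527307 : N4607 = N6052 := eqes L527306 L51916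
theorem L527308 : N6052 = N4607 := (eqc rfl L527307 rfl).symm
theorem L527312 : sm gc N4607 = N7759 := trfs L527308 (flp_c L66626) rfl
theorem L527313 : N7759 = N3199 := eqes L527312 L39665
theorem L527314 : N7759 = N3199 := eqc rfl L527313 rfl
theorem L527319 : sm gf N4607 = N4182 := trfs L527308 L51921 rfl
theorem L527320 : N4182 = N3193 := eqes L527319 (flp_f L39662)
theorem L527321 : N4182 = N3193 := eqc rfl L527320 rfl
theorem L527324 : sm gh N4607 = N4181 := trfs L527308 (flp_h L51916) rfl
theorem L527333 : sm gd N3193 = N6053 := trfs L527321 L51925 rfl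
theorem L527334 : N6053 = N2219 := eqes L527333 (flp_d L27611)
theorem L527335 : N6053 = N2219 := eqc rfl L527334 rfl
theorem L527343 : sm gb N2219 = N4186 := trfs L527335 L51928 rfl
theorem L527344 : N4186 = N3192 := eqes L527343 (flp_b L27604)
theorem L527345 : N4186 = N3192 := eqc rfl L527344 rfl
theorem L527349 : sm ge N2219 = N8779 := trfs L527335 L75040 rfl
theorem L527350 : N8779 = N1545 := eqes L527349 (flp_e L19275)
theorem L527351 : N8779 = N1545 := eqc rfl L527350 rfl
theorem L527358 : sm gb N1545 = N6060 := trfs L527351 L75043 rfl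
theorem L527359 : N6060 = N2218 := eqes L527358 L19266
theorem L527360 : N6060 = N2218 := eqc rfl L527359 rfl
theorem L527756 : sm ga N2218 = N4197 := trfs L527360 L51997 rfl
theorem L527757 : N4197 = N3191 := eqes L527756 L27592
theorem L527758 : N4197 = N3191 := eqc rfl L527757 rfl
theorem L527770 : sm ge N3191 = N2902 := trfs L527758 (flp_e L36158) rfl
theorem L527771 : N2902 = N4604 := eqes L527770 L39635
theorem L527772 : N4604 = N2902 := (eqc rfl L527771 rfl).symm
theorem L527785 : sm ge N2902 = N3191 := trfs L527772 (flp_e L39635) rfl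
theorem L527787 : sm gf N2902 = N6655 := trfs L527772 L57064 rfl
theorem L527788 : N6655 = N4196 := eqes L527787 (flp_f L36152)
theorem L527789 : N6655 = N4196 := eqc rfl L527788 rfl
theorem L527794 : sm ga N4196 = N4606 := trfs L527789 L57066 rfl
theorem L527795 : N4606 = N6059 := eqes L527794 (flp_a L51987)
theorem L527796 : N6059 = N4606 := (eqc rfl L527795 rfl).symm
theorem L527805 : sm ga N4606 = N4196 := trfs L527796 L51987 rfl
theorem L527903 : sm ga N3192 = N2902 := trfs L527345 L36060 rfl
theorem L527928 : sm gg N3199 = N11264 := trfs L527314 (flp_g L96378) rfl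
theorem L527929 : N11264 = N4618 := eqes L527928 L39758
theorem L527930 : N11264 = N4618 := eqc rfl L527929 rfl
theorem L527941 : sm gh N4618 = N7758 := trfs L527930 (flp_h L96370) rfl
theorem L527942 : N7758 = N6679 := eqes L527941 L57272
theorem L527943 : N7758 = N6679 := eqc rfl L527942 rfl
theorem L527946 : sm gb N6679 = N5355 := trfs L527943 L66614 rfl
theorem L527947 : N5355 = N9671 := eqes L527946 (flp_b L82640)
theorem L527948 : N9671 = N5355 := (eqc rfl L527947 rfl).symm
theorem L527959 : sm gb N5355 = N6679 := trfs L527948 L82640 rfl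
theorem L527990 : sm gh N2892 = N3193 := trfs L527303 (flp_h L39671) rfl
theorem L529578 : N26659 = N23223 := L491031.trans L513632
theorem L529613 : N23205 = N20487 := L505868.trans L508163
theorem L529615 : sm gd N14088 = N23187 := trfs L527025 L286729 rfl
theorem L529616 : N23187 = N20466 := eqes L529615 (flp_d L173955)
theorem L529617 : N23187 = N10118 := eqc rfl L529616 L503805
theorem L529621 : sm gc N10118 = N14073 := trfs L529617 (flp_c L286793) L443738
theorem L529622 : N14073 = N6976 := eqes L529621 L86477
theorem L529623 : N14073 = N6976 := eqc rfl L529622 rfl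
theorem L529642 : sm gh N6976 = N20459 := trfs L529623 (flp_h L173893) rfl
theorem L529643 : N20459 = N10124 := eqes L529642 L86529
theorem L529644 : N20459 = N10124 := eqc rfl L529643 rfl
theorem L529646 : sm ga N10124 = N29748 := trfs L529644 (flp_a L252211) rfl
theorem L529647 : N29748 = N6987 := eqes L529646 L86531
theorem L529648 : N29748 = N6987 := eqc rfl L529647 rfl
theorem L529672 : sm gi N6987 = N43367 := trfs L529648 L366756 rfl
theorem L529673 : N43367 = N10141 := eqes L529672 L86669
theorem L529674 : N43367 = N10141 := eqc rfl L529673 rfl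
theorem L529678 : sm gd N10141 = N29749 := trfs L529674 L366760 rfl
theorem L529679 : N29749 = N14741 := eqes L529678 (flp_d L125601)
theorem L529680 : N29749 = N14741 := eqc rfl L529679 rfl
theorem L529723 : sm gh N14741 = N20524 := trfs L529680 L252226 rfl
theorem L529724 : N20524 = N21459 := eqes L529723 L182378
theorem L529725 : N21459 = N20524 := (eqc rfl L529724 rfl).symm
theorem L529737 : sm gh N20524 = N14741 := trfs L529725 (flp_h L182378) rfl
theorem L529904 : sm gj N11169 = N34610 := trfs L527019 (flp_j L293468) rfl
theorem L529905 : N34610 = N16249 := eqes L529904 L138648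
theorem L529906 : N34610 = N16249 := eqc rfl L529905 rfl
theorem L529908 : sm gb N16249 = N23774 := trfs L529906 L293465 rfl
theorem L529909 : N23774 = N23128 := eqes L529908 (flp_b L196735)
theorem L529910 : N23774 = N23128 := eqc rfl L529909 rfl
theorem L529911 : sm gd N16249 = N23739 := trfs L529906 (flp_d L293463) rfl
theorem L529912 : N23739 = N11172 := eqes L529911 L138652
theorem L529913 : N23739 = N11172 := eqc rfl L529912 rfl
theorem L529919 : sm gf N11172 = N34607 := trfs L529913 (flp_f L293443) rfl
theorem L529920 : N34607 = N16253 := eqes L529919 (flp_f L138681)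
theorem L529921 : N34607 = N16253 := eqc rfl L529920 rfl
theorem L529931 : sm gh N16253 = N23737 := trfs L529921 (flp_h L293437) rfl
theorem L529932 : N23737 = N23678 := eqes L529931 L201412
theorem L529933 : N23737 = N23678 := eqc rfl L529932 rfl
theorem L529948 : sm gg N23678 = N34606 := trfs L529933 L293429 rfl
theorem L529949 : N34606 = N34525 := eqes L529948 (flp_g L292808)
theorem L529950 : N34606 = N34525 := eqc rfl L529949 rfl
theorem L529951 : sm gj N23678 = N16296 := trfs L529933 (flp_j L201870) rfl
theorem L529952 : N16296 = N16254 := eqes L529951 L201418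
theorem L529953 : N16296 = N16254 := eqc rfl L529952 rfl
theorem L529977 : sm gb N16254 = N11214 := trfs L529953 L139019 rfl
theorem L529978 : N11214 = N23133 := eqes L529977 (flp_b L196779)
theorem L529979 : N23133 = N11214 := (eqc rfl L529978 rfl).symm
theorem L529993 : sm ge N11214 = N33364 := trfs L529979 (flp_e L283041) rfl
theorem L529994 : N33364 = N16147 := eqes L529993 (flp_e L137787)
theorem L529995 : N33364 = N16147 := eqc rfl L529994 rfl
theorem L530004 : sm gc N16147 = N22904 := trfs L529995 L283039 rfl
theorem L530005 : N22904 = N11107 := eqes L530004 L137785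
theorem L530006 : N22904 = N11107 := eqc rfl L530005 rfl
theorem L530011 : sm gh N16147 = N22890 := trfs L529995 (flp_h L283035) rfl
theorem L530012 : N22890 = N23523 := eqes L530011 L200128
theorem L530013 : N23523 = N22890 := (eqc rfl L530012 rfl).symm
theorem L530026 : sm gj N22890 = N34301 := trfs L530013 (flp_j L290990) rfl
theorem L530027 : N34301 = N33363 := eqes L530026 L283023
theorem L530028 : N34301 = N33363 := eqc rfl L530027 rfl
theorem L530029 : sm gh N22890 = N16147 := trfs L530013 (flp_h L200128) rfl
theorem L530041 : sm gc N33363 = N23541 := trfs L530028 L290984 rfl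
theorem L530042 : N23541 = N22903 := eqes L530041 L283027
theorem L530043 : N23541 = N22903 := eqc rfl L530042 rfl
theorem L530045 : sm gf N33363 = N23524 := trfs L530028 L290988 rfl
theorem L530046 : N23524 = N22891 := eqes L530045 L283031
theorem L530047 : N23524 = N22891 := eqc rfl L530046 rfl
theorem L530056 : sm gd N22891 = N34304 := trfs L530047 L291010 rfl
theorem L530057 : N34304 = N33359 := eqes L530056 (flp_d L282999)
theorem L530058 : N34304 = N33359 := eqc rfl L530057 rfl
theorem L530076 : sm gj N33359 = N23525 := trfs L530058 L291014 rfl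
theorem L530077 : N23525 = N22888 := eqes L530076 (flp_j L282995)
theorem L530078 : N23525 = N22888 := eqc rfl L530077 rfl
theorem L530084 : sm gc N22888 = N34306 := trfs L530078 L291026 rfl
theorem L530085 : N34306 = N32922 := eqes L530084 (flp_c L279109)
theorem L530086 : N34306 = N32922 := eqc rfl L530085 rfl
theorem L530091 : sm gh N22888 = N34295 := trfs L530078 (flp_h L290941) rfl
theorem L530092 : N34295 = N33360 := eqes L530091 L283003
theorem L530093 : N34295 = N33360 := eqc rfl L530092 rfl
theorem L530097 : sm gd N33360 = N23519 := trfs L530093 (flp_d L290935) rfl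
theorem L530105 : sm gg N32922 = N23527 := trfs L530086 L291030 rfl
theorem L530106 : N23527 = N22595 := eqes L530105 (flp_g L279106)
theorem L530107 : N23527 = N22595 := eqc rfl L530106 rfl
theorem L530110 : sm gb N22595 = N34309 := trfs L530107 L291050 rfl
theorem L530111 : N34309 = N22595 := eqes L530110 L192033
theorem L530112 : N34309 = N22595 := eqc rfl L530111 rfl
theorem L530120 : sm gh N22595 = N34297 := trfs L530107 (flp_h L290955) rfl
theorem L530121 : N34297 = N32923 := eqes L530120 L279115
theorem L530122 : N34297 = N32923 := eqc rfl L530121 rfl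
theorem L530124 : sm ga N32923 = N23557 := trfs L530122 L290952 rfl
theorem L530134 : sm gd N22595 = N23548 := trfs L530112 L291052 rfl
theorem L530135 : N23548 = N15527 := eqes L530134 (flp_d L192031)
theorem L530136 : N23548 = N15527 := eqc rfl L530135 rfl
theorem L530155 : sm gi N15527 = N34338 := trfs L530136 L291318 rfl
theorem L530156 : N34338 = N10703 := eqes L530155 L132313
theorem L530157 : N34338 = N10703 := eqc rfl L530156 rfl
theorem L530160 : sm ge N10703 = N24137 := trfs L530157 L291324 rfl
theorem L530161 : N24137 = N7378 := eqes L530160 (flp_e L91477)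
theorem L530162 : N24137 = N7378 := eqc rfl L530161 rfl
theorem L530173 : sm gg N7378 = N35164 := trfs L530162 (flp_g L298128) rfl
theorem L530174 : N35164 = N10704 := eqes L530173 L91483
theorem L530175 : N35164 = N10704 := eqc rfl L530174 rfl
theorem L530188 : sm gi N10704 = N24133 := trfs L530175 (flp_i L298121) rfl
theorem L530189 : N24133 = N15528 := eqes L530188 (flp_i L132321)
theorem L530190 : N24133 = N15528 := eqc rfl L530189 rfl
theorem L530197 : sm gd N15528 = N35131 := trfs L530190 (flp_d L297855) rfl
theorem L530198 : N35131 = N20749 := eqes L530197 (flp_d L176389)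
theorem L530199 : N35131 = N20749 := eqc rfl L530198 rfl
theorem L530899 : sm gg N20749 = N24113 := trfs L530199 L297858 rfl
theorem L530900 : N24113 = N14265 := eqes L530899 (flp_g L176384)
theorem L530901 : N24113 = N14265 := eqc rfl L530900 rfl
theorem L530917 : sm gh N14265 = N35122 := trfs L530901 (flp_h L297785) rfl
theorem L530918 : N35122 = N20750 := eqes L530917 L176394
theorem L530919 : N35122 = N20750 := eqc rfl L530918 rfl
theorem L530923 : sm gf N20750 = N24414 := trfs L530919 L297783 rfl
theorem L530924 : N24414 = N14266 := eqes L530923 L176399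
theorem L530925 : N24414 = N14266 := eqc rfl L530924 rfl
theorem L530943 : sm gi N14266 = N35560 := trfs L530925 L301398 rfl
theorem L530944 : N35560 = N20752 := eqes L530943 L176407
theorem L530945 : N35560 = N20752 := eqc rfl L530944 rfl
theorem L530946 : sm gb N20752 = N24416 := trfs L530945 L301400 rfl
theorem L530947 : N24416 = N20752 := eqes L530946 L176409
theorem L530948 : N24416 = N20752 := eqc rfl L530947 rfl
theorem L530960 : sm gj N20752 = N35377 := trfs L530948 (flp_j L299855) rfl
theorem L530961 : N35377 = N30104 := eqes L530960 (flp_j L255291)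
theorem L530962 : N35377 = N30104 := eqc rfl L530961 rfl
theorem L530970 : sm gi N30104 = N24287 := trfs L530962 (flp_i L299848) rfl
theorem L530971 : N24287 = N20677 := eqes L530970 (flp_i L255286)
theorem L530972 : N24287 = N20677 := eqc rfl L530971 rfl
theorem L530978 : sm ge N20677 = N35376 := trfs L530972 L299838 rfl
theorem L530979 : N35376 = N28659 := eqes L530978 (flp_e L242730)
theorem L530980 : N35376 = N28659 := eqc rfl L530979 rfl
theorem L530986 : sm gh N20677 = N16698 := trfs L530972 L206457 rfl
theorem L530987 : N16698 = N14218 := eqes L530986 (flp_h L175774)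
theorem L530988 : N16698 = N14218 := eqc rfl L530987 rfl
theorem L530998 : sm ge N14218 = N24296 := trfs L530988 L206528 rfl
theorem L530999 : N24296 = N19708 := eqes L530998 (flp_e L167345)
theorem L531000 : N24296 = N19708 := eqc rfl L530999 rfl
theorem L531001 : sm gf N14218 = N23985 := trfs L530988 (flp_f L203941) rfl
theorem L531002 : N23985 = N20676 := eqes L531001 L175763
theorem L531003 : N23985 = N20676 := eqc rfl L531002 rfl
theorem L531015 : sm gg N20676 = N34945 := trfs L531003 (flp_g L296250) rfl
theorem L531016 : N34945 = N30101 := eqes L531015 L255261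
theorem L531017 : N34945 = N30101 := eqc rfl L531016 rfl
theorem L531031 : sm gd N30101 = N24003 := trfs L531017 L296252 rfl
theorem L531032 : N24003 = N22451 := eqes L531031 L255266
theorem L531033 : N24003 = N22451 := eqc rfl L531032 rfl
theorem L531041 : sm gf N22451 = N34968 := trfs L531033 (flp_f L296456) rfl
theorem L531042 : N34968 = N32558 := eqes L531041 (flp_f L275861)
theorem L531043 : N34968 = N32558 := eqc rfl L531042 rfl
theorem L531053 : sm ga N32558 = N24045 := trfs L531043 L296454 rfl
theorem L531250 : sm gg N19708 = N35385 := trfs L531000 (flp_g L299921) rfl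
theorem L531251 : N35385 = N28629 := eqes L531250 (flp_g L242448)
theorem L531252 : N35385 = N28629 := eqc rfl L531251 rfl
theorem L531255 : sm gi N19708 = N35394 := trfs L531000 L299994 rfl
theorem L531256 : N35394 = N13576 := eqes L531255 L167349
theorem L531257 : N35394 = N13576 := eqc rfl L531256 rfl
theorem L531262 : sm gj N13576 = N24424 := trfs L531257 L300003 rfl
theorem L531263 : N24424 = N9381 := eqes L531262 L115607
theorem L531264 : N24424 = N9381 := eqc rfl L531263 rfl
theorem L531272 : sm gf N9381 = N35574 := trfs L531264 (flp_f L301512) rfl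
theorem L531273 : N35574 = N13600 := eqes L531272 L115811
theorem L531274 : N35574 = N13600 := eqc rfl L531273 rfl
theorem L531351 : sm gi N13600 = N24423 := trfs L531274 (flp_i L301505) rfl
theorem L531352 : N24423 = N19737 := eqes L531351 (flp_i L167613)
theorem L531353 : N24423 = N19737 := eqc rfl L531352 rfl
theorem L531356 : sm gb N19737 = N35570 := trfs L531353 (flp_b L301481) rfl
theorem L531357 : N35570 = N19737 := eqes L531356 L167609
theorem L531358 : N35570 = N19737 := eqc rfl L531357 rfl
theorem L531400 : sm gf N19737 = N24421 := trfs L531358 (flp_f L301479) rfl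
theorem L531401 : N24421 = N13587 := eqes L531400 (flp_f L167607)
theorem L531402 : N24421 = N13587 := eqc rfl L531401 rfl
theorem L531406 : sm gc N13587 = N35523 := trfs L531402 (flp_c L301093) rfl
theorem L531407 : N35523 = N9373 := eqes L531406 (flp_c L115696)
theorem L531408 : N35523 = N9373 := eqc rfl L531407 rfl
theorem L531416 : sm ge N9373 = N24390 := trfs L531408 (flp_e L301089) rfl
theorem L531417 : N24390 = N6779 := eqes L531416 L80085
theorem L531418 : N24390 = N6779 := eqc rfl L531417 rfl
theorem L531432 : sm gi N6779 = N35524 := trfs L531418 L301096 rfl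
theorem L531433 : N35524 = N4693 := eqes L531432 L58184
theorem L531434 : N35524 = N4693 := eqc rfl L531433 rfl
theorem L531436 : sm gc N4693 = N24422 := trfs L531434 L301100 rfl
theorem L531437 : N24422 = N6787 := eqes L531436 L58246
theorem L531438 : N24422 = N6787 := eqc rfl L531437 rfl
theorem L531447 : sm gj N6787 = N35392 := trfs L531438 (flp_j L299983) rfl
theorem L531448 : N35392 = N9803 := eqes L531447 (flp_j L83821)
theorem L531449 : N35392 = N9803 := eqc rfl L531448 rfl
theorem L531457 : sm gd N9803 = N24318 := trfs L531449 L299981 rfl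
theorem L531458 : N24318 = N7331 := eqes L531457 L83824
theorem L531459 : N24318 = N7331 := eqc rfl L531458 rfl
theorem L531461 : sm ga N7331 = N35418 := trfs L531459 (flp_a L300225) rfl
theorem L531462 : N35418 = N10628 := eqes L531461 (flp_a L90833)
theorem L531463 : N35418 = N10628 := eqc rfl L531462 rfl
theorem L531495 : sm gc N10628 = N27649 := trfs L531463 L300229 rfl
theorem L531496 : N27649 = N7329 := eqes L531495 (flp_c L90831)
theorem L531497 : N27649 = N7329 := eqc rfl L531496 rfl
theorem L531575 : sm gd N7329 = N40247 := trfs L531497 (flp_d L340071) rfl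
theorem L531576 : N40247 = N5063 := eqes L531575 (flp_d L62865)
theorem L531577 : N40247 = N5063 := eqc rfl L531576 rfl
theorem L531590 : sm gi N5063 = N27621 := trfs L531577 (flp_i L340065) rfl
theorem L531591 : N27621 = N7322 := eqes L531590 (flp_i L62804)
theorem L531592 : N27621 = N3800 := eqc rfl L531591 L471663
theorem L531600 : sm gd N3800 = N10617 := trfs L531592 L233982 L517829
theorem L531601 : N10617 = N5492 := eqes L531600 L47392
theorem L531602 : N10617 = N5492 := eqc rfl L531601 rfl
theorem L531774 : sm gi N5492 = N7329 := trfs L531602 L90731 rfl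
theorem L531775 : N7329 = N7952 := eqes L531774 L68326
theorem L531776 : N7952 = N7329 := (eqc rfl L531775 rfl).symm
theorem L531787 : sm gi N7329 = N5492 := trfs L531776 (flp_i L68326) rfl
theorem L531834 : sm ga N28629 = N24336 := trfs L531252 L299917 rfl
theorem L531835 : N24336 = N41688 := eqes L531834 (flp_a L352141)
theorem L531836 : N41688 = N24336 := (eqc rfl L531835 rfl).symm
theorem L531841 : sm ga N24336 = N28629 := trfs L531836 L352141 rfl
theorem L531848 : sm gi N24336 = N28638 := trfs L531836 L352148 rfl
theorem L531849 : N28638 = N35452 := eqes L531848 L300495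
theorem L531850 : N35452 = N28638 := (eqc rfl L531849 rfl).symm
theorem L531856 : sm gi N28638 = N24336 := trfs L531850 (flp_i L300495) rfl
theorem L531903 : sm ga N28659 = N24327 := trfs L530980 L299840 rfl
theorem L531904 : N24327 = N41731 := eqes L531903 (flp_a L352541)
theorem L531905 : N41731 = N24327 := (eqc rfl L531904 rfl).symm
theorem L531926 : sm ga N24327 = N28659 := trfs L531905 L352541 rfl
theorem L532056 : sm gg N22903 = N34327 := trfs L530043 (flp_g L291209) rfl
theorem L532057 : N34327 = N33381 := eqes L532056 L283170
theorem L532058 : N34327 = N33381 := eqc rfl L532057 rfl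
theorem L532068 : sm gh N33381 = N23540 := trfs L532058 (flp_h L291201) rfl
theorem L532113 : sm gi N11107 = N33384 := trfs L530006 L283196 rfl
theorem L532114 : N33384 = N16094 := eqes L532113 (flp_i L137353)
theorem L532115 : N33384 = N16094 := eqc rfl L532114 rfl
theorem L532120 : sm gh N16094 = N22981 := trfs L532115 L283205 rfl
theorem L532121 : N22981 = N23443 := eqes L532120 L199499
theorem L532122 : N23443 = N22981 := (eqc rfl L532121 rfl).symm
theorem L532128 : sm gc N22981 = N34162 := trfs L532122 (flp_c L289890) rfl
theorem L532129 : N34162 = N33471 := eqes L532128 (flp_c L283922)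
theorem L532130 : N34162 = N33471 := eqc rfl L532129 rfl
theorem L532155 : sm ga N33471 = N23456 := trfs L532130 L289888 rfl
theorem L532161 : sm gh N33471 = N23429 := trfs L532130 (flp_h L289886) rfl
theorem L532181 : sm gc N34525 = N26837 := trfs L529950 L293433 rfl
theorem L532182 : N26837 = N23704 := eqes L532181 L292805
theorem L532183 : N26837 = N23704 := eqc rfl L532182 rfl
theorem L532186 : sm ga N23704 = N37946 := trfs L532183 (flp_a L321055) rfl
theorem L532187 : N37946 = N34496 := eqes L532186 (flp_a L292550)
theorem L532188 : N37946 = N33917 := eqc rfl L532187 L457089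
theorem L532190 : sm gd N23704 = N39125 := trfs L532183 (flp_d L330641) rfl
theorem L532191 : N39125 = N34563 := eqes L532190 L293053
theorem L532192 : N39125 = N34563 := eqc rfl L532191 rfl
theorem L532548 : sm gg N34563 = N26829 := trfs L532192 (flp_g L330637) rfl
theorem L532549 : N26829 = N23705 := eqes L532548 L293058
theorem L532550 : N26829 = N23705 := eqc rfl L532549 rfl
theorem L532568 : sm gi N23705 = N38881 := trfs L532550 (flp_i L328691) rfl
theorem L532569 : N38881 = N34567 := eqes L532568 L293090
theorem L532570 : N38881 = N33854 := eqc rfl L532569 L456886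
theorem L532576 : sm gj N33854 = N26661 := trfs L532570 (flp_j L328683) rfl
theorem L532577 : N26661 = N23219 := eqes L532576 L287201
theorem L532578 : N26661 = N23219 := eqc rfl L532577 rfl
theorem L532586 : sm ge N23219 = N38880 := trfs L532578 L328675 rfl
theorem L532587 : N38880 = N33857 := eqes L532586 L287222
theorem L532588 : N38880 = N33857 := eqc rfl L532587 rfl
theorem L532599 : sm gi N33857 = N26828 := trfs L532588 L328680 rfl
theorem L532600 : N26828 = N23708 := eqes L532599 L513704
theorem L532601 : N26828 = N23708 := eqc rfl L532600 rfl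
theorem L532615 : sm gh N23708 = N39124 := trfs L532601 L330629 rfl
theorem L532616 : N39124 = N16431 := eqes L532615 L201620
theorem L532617 : N39124 = N16431 := eqc rfl L532616 rfl
theorem L532619 : sm ge N16431 = N26830 := trfs L532617 L330633 rfl
theorem L532620 : N26830 = N11300 := eqes L532619 (flp_e L140118)
theorem L532621 : N26830 = N11300 := eqc rfl L532620 rfl
theorem L532630 : sm gc N11300 = N39116 := trfs L532621 (flp_c L330571) rfl
theorem L532631 : N39116 = N16430 := eqes L532630 L140112
theorem L532632 : N39116 = N16430 := eqc rfl L532631 rfl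
theorem L532642 : sm gh N16430 = N26823 := trfs L532632 (flp_h L330567) rfl
theorem L532643 : N26823 = N23707 := eqes L532642 (flp_h L201613)
theorem L532644 : N26823 = N23707 := eqc rfl L532643 rfl
theorem L532645 : sm ga N23707 = N37932 := trfs L532644 (flp_a L320927) rfl
theorem L532646 : N37932 = N34499 := eqes L532645 (flp_a L292584)
theorem L532647 : N37932 = N34499 := eqc rfl L532646 rfl
theorem L532668 : sm gf N34499 = N26016 := trfs L532647 (flp_f L320925) rfl
theorem L532669 : N26016 = N23664 := eqes L532668 L292586
theorem L532670 : N26016 = N23271 := eqc rfl L532669 L509709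
theorem L532681 : sm gg N23271 = N17865 := trfs L532670 (flp_g L220710) rfl
theorem L532682 : N17865 = N15980 := eqes L532681 L197944
theorem L532683 : N17865 = N15980 := eqc rfl L532682 rfl
theorem L532687 : sm gh N23271 = N37934 := trfs L532670 L320942 rfl
theorem L532688 : N37934 = N29353 := eqes L532687 L442838
theorem L532689 : N37934 = N29353 := eqc rfl L532688 rfl
theorem L532867 : sm gg N29353 = N26017 := trfs L532689 L320950 rfl
theorem L532868 : N26017 = N20172 := eqes L532867 (flp_g L248846)
theorem L532869 : N26017 = N20172 := eqc rfl L532868 rfl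
theorem L532870 : sm ga N20172 = N18421 := trfs L532869 L220720 rfl
theorem L532871 : N18421 = N29337 := eqes L532870 (flp_a L248694)
theorem L532872 : N18421 = N7787 := eqc rfl L532871 L469055
theorem L532877 : sm gd N20172 = N37935 := trfs L532869 L320952 rfl
theorem L532878 : N37935 = N13878 := eqes L532877 (flp_d L171422)
theorem L532879 : N37935 = N13878 := eqc rfl L532878 rfl
theorem L532885 : sm ga N13878 = N26826 := trfs L532879 L320954 rfl
theorem L532886 : N26826 = N20162 := eqes L532885 (flp_a L171333)
theorem L532887 : N26826 = N11292 := eqc rfl L532886 L523341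
theorem L532905 : sm gh N11292 = N34595 := trfs L532887 (flp_h L293356) rfl
theorem L532906 : N34595 = N16412 := eqes L532905 (flp_h L139975)
theorem L532907 : N34595 = N16412 := eqc rfl L532906 rfl
theorem L532909 : sm gb N16412 = N23936 := trfs L532907 L293352 rfl
theorem L532910 : N23936 = N23897 := eqes L532909 L203177
theorem L532911 : N23936 = N23897 := eqc rfl L532910 rfl
theorem L532917 : sm gd N23897 = N16443 := trfs L532911 (flp_d L203491) rfl
theorem L532918 : N16443 = N29725 := eqes L532917 L420390
theorem L532919 : N29725 = N16443 := (eqc rfl L532918 rfl).symm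
theorem L532920 : sm ge N23897 = N34878 := trfs L532911 L295636 rfl
theorem L532921 : N34878 = N34829 := eqes L532920 L295245
theorem L532922 : N34878 = N29334 := eqc rfl L532921 L523355
theorem L532924 : sm gg N23897 = N34876 := trfs L532911 (flp_g L295624) rfl
theorem L532925 : N34876 = N34823 := eqes L532924 (flp_g L295205)
theorem L532926 : N34876 = N34823 := eqc rfl L532925 rfl
theorem L532929 : sm gi N23897 = N34879 := trfs L532911 L295643 rfl
theorem L532930 : N34879 = N34830 := eqes L532929 L295253
theorem L532931 : N34879 = N34830 := eqc rfl L532930 rfl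
theorem L532932 : sm ga N34830 = N34830 := trfs L532931 L295645 L532931
theorem L532934 : sm gd N34830 = N23937 := trfs L532931 L295647 rfl
theorem L532940 : sm gd N34823 = N23935 := trfs L532926 (flp_d L295621) rfl
theorem L532945 : sm gd N29334 = N46170 := trfs L532922 (flp_d L390203) rfl
theorem L532946 : N46170 = N42746 := eqes L532945 L361453
theorem L532947 : N46170 = N42746 := eqc rfl L532946 rfl
theorem L533003 : sm ge N42746 = N31641 := trfs L532947 (flp_e L390198) rfl
theorem L533011 : sm gd N16443 = N23897 := trfs L532919 (flp_d L420390) rfl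
theorem L533056 : sm gh N7787 = N12657 := trfs L532872 (flp_h L156523) rfl
theorem L533057 : N12657 = N11189 := eqes L533056 (flp_h L95753)
theorem L533058 : N12657 = N11189 := eqc rfl L533057 rfl
theorem L533060 : sm ga N11189 = N15980 := trfs L533058 (flp_a L151991) L532683
theorem L533061 : N15980 = N16245 := eqes L533060 (flp_a L138608)
theorem L533062 : N16245 = N15980 := (eqc rfl L533061 rfl).symm
theorem L533112 : sm gd N15980 = N23175 := trfs L533062 (flp_d L201130) L505832
theorem L533113 : N23175 = N23247 := eqes L533112 (flp_d L197752)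
theorem L533114 : N23247 = N23175 := (eqc rfl L533113 rfl).symm
theorem L533119 : sm gh N15980 = N11282 := trfs L533062 L138613 rfl
theorem L533120 : N11282 = N20172 := eqes L533119 (flp_h L419744)
theorem L533121 : N20172 = N11282 := (eqc rfl L533120 rfl).symm
theorem L533126 : sm gd N11282 = N13878 := trfs L533121 (flp_d L171422) rfl
theorem L533127 : N13878 = N16394 := eqes L533126 (flp_d L139824)
theorem L533128 : N16394 = N13878 := (eqc rfl L533127 rfl).symm
theorem L533131 : sm gg N11282 = N29353 := trfs L533121 L248846 rfl
theorem L533132 : N29353 = N16404 := eqes L533131 (flp_g L139918)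
theorem L533133 : N29353 = N16404 := eqc rfl L533132 rfl
theorem L533135 : sm gh N11282 = N15980 := trfs L533121 L419744 rfl
theorem L533144 : sm gf N16404 = N42774 := trfs L533133 L361715 rfl
theorem L533145 : N42774 = N23881 := eqes L533144 (flp_f L203053)
theorem L533146 : N42774 = N23881 := eqc rfl L533145 rfl
theorem L533162 : sm gd N23881 = N29355 := trfs L533146 L361720 rfl
theorem L533163 : N29355 = N34789 := eqes L533162 (flp_d L294922)
theorem L533164 : N34789 = N29355 := (eqc rfl L533163 rfl).symm
theorem L533170 : sm gd N29355 = N23881 := trfs L533164 L294922 rfl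
theorem L533179 : sm gd N13878 = N11282 := trfs L533128 L139824 rfl
theorem L533200 : sm gh N23175 = N29358 := trfs L533114 L419713 rfl
theorem L533201 : N29358 = N33786 := eqes L533200 L286607
theorem L533202 : N33786 = N29358 := (eqc rfl L533201 rfl).symm
theorem L533210 : sm ge N29358 = N43501 := trfs L533202 (flp_e L378914) L513551
theorem L533211 : N43501 = N42785 := eqes L533210 L361805
theorem L533212 : N43501 = N42785 := eqc rfl L533211 rfl
theorem L533215 : sm gh N29358 = N23175 := trfs L533202 (flp_h L286607) rfl
theorem L533217 : sm ga N42785 = N29845 := trfs L533212 L367861 rfl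
theorem L533220 : sm gf N42785 = N31635 := trfs L533212 L367864 rfl
theorem L533223 : sm gh N42785 = N29844 := trfs L533212 (flp_h L367859) rfl
theorem L533260 : sm gd N15980 = N23175 := trfs L532683 (flp_d L197134) rfl
theorem L533743 : sm gb N33917 = N26057 := trfs L532188 L321057 rfl
theorem L533744 : N26057 = N23275 := eqes L533743 L287724
theorem L533745 : N26057 = N23275 := eqc rfl L533744 rfl
theorem L533758 : sm gi N23275 = N37796 := trfs L533745 (flp_i L319825) rfl
theorem L533759 : N37796 = N15982 := eqes L533758 (flp_i L197973)
theorem L533760 : N37796 = N15982 := eqc rfl L533759 rfl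
theorem L533761 : sm ga N15982 = N25957 := trfs L533760 L319821 rfl
theorem L533762 : N25957 = N12346 := eqes L533761 L136317
theorem L533763 : N25957 = N12346 := eqc rfl L533762 rfl
theorem L533891 : sm gd N12346 = N37839 := trfs L533763 (flp_d L320178) rfl
theorem L533892 : N37839 = N17964 := eqes L533891 L152819
theorem L533893 : N37839 = N17964 := eqc rfl L533892 rfl
theorem L533905 : sm gi N17964 = N26099 := trfs L533893 L320180 rfl
theorem L533906 : N26099 = N26161 := eqes L533905 L221945
theorem L533907 : N26161 = N26099 := (eqc rfl L533906 rfl).symm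
theorem L533922 : sm gi N26099 = N17964 := trfs L533907 (flp_i L221945) rfl
theorem L534024 : sm gh N23128 = N34652 := trfs L529910 (flp_h L293806) rfl
theorem L534025 : N34652 = N33720 := eqes L534024 L286065
theorem L534026 : N34652 = N33720 := eqc rfl L534025 rfl
theorem L534035 : sm ga N33720 = N23801 := trfs L534026 L293800 rfl
theorem L534038 : sm gd N33720 = N23765 := trfs L534026 (flp_d L293798) rfl
theorem L534041 : sm gj N33720 = N23766 := trfs L534026 L293803 rfl
theorem L534042 : N23766 = N23129 := eqes L534041 L286071
theorem L534043 : N23766 = N23129 := eqc rfl L534042 rfl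
theorem L534050 : sm ge N23129 = N34654 := trfs L534043 L293817 rfl
theorem L534051 : N34654 = N30663 := eqes L534050 (flp_e L260099)
theorem L534052 : N34654 = N30663 := eqc rfl L534051 rfl
theorem L534053 : sm gf N23129 = N34650 := trfs L534043 (flp_f L293783) rfl
theorem L534054 : N34650 = N33719 := eqes L534053 (flp_f L286062)
theorem L534055 : N34650 = N33719 := eqc rfl L534054 rfl
theorem L534058 : sm gi N23129 = N34655 := trfs L534043 L293826 rfl
theorem L534059 : N34655 = N33722 := eqes L534058 L286081
theorem L534060 : N34655 = N33722 := eqc rfl L534059 rfl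
theorem L534061 : sm ga N33722 = N23804 := trfs L534060 L293828 rfl
theorem L534064 : sm gd N33722 = N23767 := trfs L534060 L293831 rfl
theorem L534067 : sm ga N33719 = N23799 := trfs L534055 L293781 rfl
theorem L534070 : sm gd N33719 = N23764 := trfs L534055 (flp_d L293779) rfl
theorem L534074 : sm ga N30663 = N23803 := trfs L534052 L293819 rfl
theorem L534075 : N23803 = N44684 := eqes L534074 (flp_a L378080)
theorem L534076 : N44684 = N23803 := (eqc rfl L534075 rfl).symm
theorem L534078 : sm gd N30663 = N45714 := trfs L534052 (flp_d L386514) rfl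
theorem L534079 : N45714 = N44720 := eqes L534078 L378387
theorem L534080 : N45714 = N44720 := eqc rfl L534079 rfl
theorem L534081 : sm gg N30663 = N23768 := trfs L534052 L293822 rfl
theorem L534082 : N23768 = N21052 := eqes L534081 L260101
theorem L534083 : N23768 = N21052 := eqc rfl L534082 rfl
theorem L534091 : sm gf N21052 = N34656 := trfs L534083 L293835 rfl
theorem L534092 : N34656 = N28930 := eqes L534091 (flp_f L245173)
theorem L534093 : N34656 = N28930 := eqc rfl L534092 rfl
theorem L534096 : sm gi N21052 = N34657 := trfs L534083 L293844 rfl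
theorem L534097 : N34657 = N30665 := eqes L534096 L260110
theorem L534098 : N34657 = N30665 := eqc rfl L534097 rfl
theorem L534102 : sm gd N30665 = N45720 := trfs L534098 (flp_d L386563) rfl
theorem L534103 : N45720 = N44724 := eqes L534102 (flp_d L378425)
theorem L534104 : N45720 = N44724 := eqc rfl L534103 rfl
theorem L534107 : sm ga N44724 = N31389 := trfs L534104 L386561 rfl
theorem L534109 : sm ge N44724 = N31332 := trfs L534104 L386565 rfl
theorem L534113 : sm ga N28930 = N23805 := trfs L534093 L293837 rfl
theorem L534114 : N23805 = N42119 := eqes L534113 (flp_a L356027)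
theorem L534115 : N42119 = N23805 := (eqc rfl L534114 rfl).symm
theorem L534117 : sm gd N28930 = N45719 := trfs L534093 (flp_d L386554) rfl
theorem L534118 : N45719 = N42144 := eqes L534117 L356267
theorem L534119 : N45719 = N42144 := eqc rfl L534118 rfl
theorem L534122 : sm gh N28930 = N23778 := trfs L534093 L293841 rfl
theorem L534123 : N23778 = N19888 := eqes L534122 (flp_h L245167)
theorem L534124 : N23778 = N19888 := eqc rfl L534123 rfl
theorem L534132 : sm gg N19888 = N34669 := trfs L534124 L293951 rfl
theorem L534133 : N34669 = N28929 := eqes L534132 L245157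
theorem L534134 : N34669 = N28929 := eqc rfl L534133 rfl
theorem L534145 : sm ga N28929 = N23818 := trfs L534134 L293953 rfl
theorem L534146 : N23818 = N42118 := eqes L534145 (flp_a L356017)
theorem L534147 : N42118 = N23818 := (eqc rfl L534146 rfl).symm
theorem L534151 : sm ga N23818 = N28929 := trfs L534147 L356017 rfl
theorem L534157 : sm gi N23818 = N28973 := trfs L534147 L356023 rfl
theorem L534158 : N28973 = N34718 := eqes L534157 L294329
theorem L534159 : N34718 = N28973 := (eqc rfl L534158 rfl).symm
theorem L534164 : sm gi N28973 = N23818 := trfs L534159 (flp_i L294329) rfl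
theorem L534166 : sm ga N42144 = N31388 := trfs L534119 L386552 rfl
theorem L534171 : sm ga N23805 = N28930 := trfs L534115 L356027 rfl
theorem L534178 : sm ga N44720 = N31383 := trfs L534080 L386508 rfl
theorem L534180 : sm ge N44720 = N31328 := trfs L534080 (flp_e L386506) rfl
theorem L534183 : sm gh N44720 = N31340 := trfs L534080 L386512 rfl
theorem L534184 : N31340 = N30669 := eqes L534183 L378393
theorem L534185 : N31340 = N30669 := eqc rfl L534184 rfl
theorem L534186 : sm ga N30669 = N21543 := trfs L534185 L265656 rfl
theorem L534187 : N21543 = N44690 := eqes L534186 (flp_a L378135)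
theorem L534188 : N44690 = N21543 := (eqc rfl L534187 rfl).symm
theorem L534190 : sm gc N30669 = N45732 := trfs L534185 (flp_c L386659) rfl
theorem L534191 : N45732 = N44731 := eqes L534190 L378483
theorem L534192 : N45732 = N44731 := eqc rfl L534191 rfl
theorem L534194 : sm ge N30669 = N21501 := trfs L534185 (flp_e L265654) rfl
theorem L534195 : N21501 = N44732 := eqes L534194 L378489
theorem L534196 : N44732 = N21501 := (eqc rfl L534195 rfl).symm
theorem L534197 : sm gf N30669 = N45734 := trfs L534185 L386675 rfl
theorem L534198 : N45734 = N44727 := eqes L534197 (flp_f L378451)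
theorem L534199 : N45734 = N44727 := eqc rfl L534198 rfl
theorem L534203 : sm ga N44727 = N31403 := trfs L534199 L386677 rfl
theorem L534206 : sm gb N21501 = N31239 := trfs L534196 L378491 rfl
theorem L534207 : N31239 = N31302 := eqes L534206 (flp_b L265345)
theorem L534208 : N31302 = N31239 := (eqc rfl L534207 rfl).symm
theorem L534210 : sm ge N21501 = N30669 := trfs L534196 (flp_e L378489) rfl
theorem L534213 : sm ga N31239 = N44795 := trfs L534208 (flp_a L378996) rfl
theorem L534214 : N44795 = N45518 := eqes L534213 (flp_a L384940)
theorem L534215 : N45518 = N44795 := (eqc rfl L534214 rfl).symm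
theorem L534216 : sm gb N31239 = N21501 := trfs L534208 L265345 rfl
theorem L534218 : sm gc N31239 = N45670 := trfs L534208 L386142 rfl
theorem L534219 : N45670 = N45579 := eqes L534218 (flp_c L385437)
theorem L534220 : N45670 = N45579 := eqc rfl L534219 rfl
theorem L534221 : sm gd N31239 = N21479 := trfs L534208 (flp_d L265343) rfl
theorem L534222 : N21479 = N21441 := eqes L534221 L264864
theorem L534223 : N21479 = N21441 := eqc rfl L534222 rfl
theorem L534225 : sm gf N31239 = N45666 := trfs L534208 (flp_f L386116) rfl
theorem L534226 : N45666 = N45581 := eqes L534225 L385450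
theorem L534227 : N45666 = N45581 := eqc rfl L534226 rfl
theorem L534229 : sm gj N31239 = N45668 := trfs L534208 (flp_j L386130) rfl
theorem L534230 : N45668 = N45576 := eqes L534229 (flp_j L385418)
theorem L534231 : N45668 = N45576 := eqc rfl L534230 rfl
theorem L534233 : sm gi N31239 = N45672 := trfs L534208 L386155 rfl
theorem L534234 : N45672 = N45582 := eqes L534233 L385454
theorem L534235 : N45672 = N45582 := eqc rfl L534234 rfl
theorem L534236 : sm gb N45582 = N31341 := trfs L534235 L386157 rfl
theorem L534238 : sm gd N45582 = N31303 := trfs L534235 L386159 rfl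
theorem L534239 : N31303 = N31250 := eqes L534238 L385456
theorem L534240 : N31303 = N31250 := eqc rfl L534239 rfl
theorem L534242 : sm ga N31250 = N44796 := trfs L534240 (flp_a L379004) rfl
theorem L534243 : N44796 = N45529 := eqes L534242 (flp_a L385028)
theorem L534244 : N45529 = N44796 := (eqc rfl L534243 rfl).symm
theorem L534249 : sm gf N31250 = N45667 := trfs L534240 (flp_f L386123) rfl
theorem L534250 : N45667 = N45597 := eqes L534249 (flp_f L385556)
theorem L534251 : N45667 = N45597 := eqc rfl L534250 rfl
theorem L534256 : sm gb N45597 = N31336 := trfs L534251 L386120 rfl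
theorem L534260 : sm ga N44796 = N31250 := trfs L534244 L385028 rfl
theorem L534265 : sm gi N44796 = N31204 := trfs L534244 (flp_i L385026) rfl
theorem L534266 : N31204 = N30714 := eqes L534265 (flp_i L379002)
theorem L534267 : N31204 = N30714 := eqc rfl L534266 rfl
theorem L534281 : sm gh N30714 = N23650 := trfs L534267 L264572 rfl
theorem L534282 : N23650 = N21086 := eqes L534281 (flp_h L260506)
theorem L534283 : N23650 = N21086 := eqc rfl L534282 rfl
theorem L534290 : sm ge N21086 = N16233 := trfs L534283 (flp_e L201166) rfl
theorem L534291 : N16233 = N14493 := eqes L534290 L179284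
theorem L534292 : N16233 = N14493 := eqc rfl L534291 rfl
theorem L534308 : N11157 = N10945 := L456302.trans L505664
theorem L534310 : sm gf N14493 = N23435 := trfs L534292 (flp_f L199430) rfl
theorem L534311 : N23435 = N20940 := eqes L534310 (flp_f L178053)
theorem L534312 : N23435 = N20940 := eqc rfl L534311 rfl
theorem L534318 : sm gi N14493 = N23651 := trfs L534292 L201173 rfl
theorem L534319 : N23651 = N21031 := eqes L534318 (flp_i L178814)
theorem L534320 : N23651 = N10973 := eqc rfl L534319 L502735
theorem L534335 : sm gj N10973 = N34485 := trfs L534320 (flp_j L292467) rfl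
theorem L534336 : N34485 = N15962 := eqes L534335 (flp_j L136160)
theorem L534337 : N34485 = N15962 := eqc rfl L534336 rfl
theorem L534345 : sm gi N15962 = N21088 := trfs L534337 (flp_i L292459) L502564
theorem L534346 : N21088 = N23252 := eqes L534345 L197787
theorem L534347 : N23252 = N21088 := (eqc rfl L534346 rfl).symm
theorem L534354 : sm gf N21088 = N33484 := trfs L534347 (flp_f L284020) rfl
theorem L534355 : N33484 = N30495 := eqes L534354 (flp_f L258661)
theorem L534356 : N33484 = N30495 := eqc rfl L534355 rfl
theorem L534368 : sm gi N30495 = N22968 := trfs L534356 (flp_i L284013) rfl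
theorem L534369 : N22968 = N44382 := eqes L534368 (flp_i L375531)
theorem L534370 : N44382 = N22968 := (eqc rfl L534369 rfl).symm
theorem L534378 : sm gi N22968 = N30495 := trfs L534370 L375531 rfl
theorem L534442 : sm gh N20940 = N30985 := trfs L534312 (flp_h L262842) rfl
theorem L534443 : N30985 = N30496 := eqes L534442 L258663
theorem L534444 : N30985 = N30496 := eqc rfl L534443 rfl
theorem L534454 : sm gj N30496 = N45200 := trfs L534444 (flp_j L382449) rfl
theorem L534455 : N45200 = N44468 := eqes L534454 (flp_j L376241)
theorem L534456 : N45200 = N44468 := eqc rfl L534455 rfl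
theorem L534457 : sm gi N30496 = N45203 := trfs L534444 L382475 rfl
theorem L534458 : N45203 = N44470 := eqes L534457 L376255
theorem L534459 : N45203 = N44470 := eqc rfl L534458 rfl
theorem L534463 : sm gd N44470 = N30986 := trfs L534459 L382480 rfl
theorem L534466 : N30988 = N30498 := L474000.trans L474145
theorem L534471 : sm gd N44468 = N30984 := trfs L534456 (flp_d L382443) rfl
theorem L534563 : sm gb N45576 = N31337 := trfs L534231 L386127 rfl
theorem L534567 : sm gb N45581 = N31335 := trfs L534227 L386114 rfl
theorem L534570 : sm ga N21441 = N30714 := trfs L534223 (flp_a L260508) rfl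
theorem L534582 : sm gg N45579 = N31304 := trfs L534220 L386144 rfl
theorem L534583 : N31304 = N31242 := eqes L534582 L385439
theorem L534584 : N31304 = N31242 := eqc rfl L534583 rfl
theorem L534585 : sm ga N31242 = N44797 := trfs L534584 (flp_a L379015) rfl
theorem L534586 : N44797 = N45521 := eqes L534585 (flp_a L384961)
theorem L534587 : N45521 = N44797 := (eqc rfl L534586 rfl).symm
theorem L534588 : sm gb N31242 = N45673 := trfs L534584 L386163 rfl
theorem L534589 : N45673 = N45585 := eqes L534588 (flp_b L385475)
theorem L534590 : N45673 = N45585 := eqc rfl L534589 rfl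
theorem L534594 : sm gf N31242 = N42956 := trfs L534584 (flp_f L363258) rfl
theorem L534595 : N42956 = N45587 := eqes L534594 L385486
theorem L534596 : N45587 = N42956 := (eqc rfl L534595 rfl).symm
theorem L534607 : sm gc N42956 = N31244 := trfs L534596 L385488 rfl
theorem L534608 : N31244 = N29474 := eqes L534607 (flp_c L363256)
theorem L534609 : N31244 = N29474 := eqc rfl L534608 rfl
theorem L534611 : sm gf N42956 = N31242 := trfs L534596 (flp_f L385486) rfl
theorem L534614 : sm ga N29474 = N45523 := trfs L534609 (flp_a L384978) rfl
theorem L534615 : N45523 = N42195 := eqes L534614 (flp_a L356743)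
theorem L534616 : N45523 = N42195 := eqc rfl L534615 rfl
theorem L534636 : sm gf N42195 = N31200 := trfs L534616 (flp_f L384976) rfl
theorem L534637 : N31200 = N30715 := eqes L534636 L356747
theorem L534638 : N31200 = N30715 := eqc rfl L534637 rfl
theorem L534649 : N45509 = N42894 := L507930.trans L508327
theorem L534652 : sm gi N30715 = N45524 := trfs L534638 L384983 rfl
theorem L534653 : N45524 = N44799 := eqes L534652 L379028
theorem L534654 : N45524 = N44799 := eqc rfl L534653 rfl
theorem L534658 : sm ge N44799 = N31201 := trfs L534654 L384989 rfl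
theorem L534682 : sm gc N45585 = N31342 := trfs L534590 L386167 rfl
theorem L534686 : sm ga N44797 = N31242 := trfs L534587 L384961 rfl
theorem L534689 : sm ge N44797 = N29423 := trfs L534587 (flp_e L384959) L508338
theorem L534691 : N44797 = N42882 := eqes (flp_e L534689) L362677
theorem L534692 : N44797 = N42882 := eqc rfl L534691 rfl
theorem L534695 : sm ga N42882 = N31242 := trfs L534692 L534686 rfl
theorem L534697 : sm gc N42882 = N30715 := trfs L534692 (flp_c L379013) rfl
theorem L534701 : sm ga N44795 = N31239 := trfs L534215 L384940 rfl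
theorem L534703 : sm ge N44795 = N31197 := trfs L534215 (flp_e L384938) rfl
theorem L534705 : sm ga N44731 = N31401 := trfs L534192 L386657 rfl
theorem L534708 : sm ge N44731 = N31339 := trfs L534192 (flp_e L386655) rfl
theorem L534711 : sm ga N21543 = N30669 := trfs L534188 L378135 rfl
theorem L534755 : sm ga N23803 = N30663 := trfs L534076 L378080 rfl
theorem L534928 : N44473 = N21268 := L474013.trans L474125
theorem L535274 : sm gd N10122 = N14496 := trfs L526013 L179360 rfl
theorem L536392 : sm ga N4614 = N3707 := trfs L524409 L46170 rfl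
theorem L536407 : sm gd N3196 = N2564 := trfs L524399 (flp_d L32125) rfl
theorem L536433 : sm ga N3197 = N2564 := trfs L524392 L32048 rfl
theorem L536466 : sm gh N2559 = N3197 := trfs L524375 (flp_h L39734) rfl
theorem L536490 : sm ga N4655 = N3385 := trfs L524268 L42061 rfl
theorem L536596 : sm ga N6697 = N4866 := trfs L524125 L60323 rfl
theorem L536601 : sm gd N6697 = N5355 := trfs L524125 L60327 rfl
theorem L536618 : sm gh N9689 = N7049 := trfs L524119 (flp_h L87445) rfl
theorem L536629 : sm gh N4623 = N3363 := trfs L524116 (flp_h L41900) rfl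
theorem L536639 : sm gi N6716 = N4897 := trfs L524103 (flp_i L60819) rfl
theorem L536680 : sm ga N2333 = N3205 := trfs L523928 L39794 rfl
theorem L536691 : sm gi N2333 = N3214 := trfs L523928 L39800 rfl
theorem L536692 : N3214 = N3368 := eqes L536691 L29136
theorem L536693 : N3368 = N3214 := (eqc rfl L536692 rfl).symm
theorem L536705 : sm gi N3214 = N2333 := trfs L536693 (flp_i L29136) rfl
theorem L536708 : sm gc N3203 = N2333 := trfs L523915 L29108 rfl
theorem L536713 : sm gh N3203 = N2331 := trfs L523915 (flp_h L29105) rfl
theorem L536878 : sm ga N29181 = N23905 := trfs L523551 L294926 rfl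
theorem L536918 : sm gg N16416 = N43247 := trfs L523515 L365760 rfl
theorem L536919 : N43247 = N23902 := eqes L536918 (flp_g L203219)
theorem L536920 : N43247 = N23902 := eqc rfl L536919 rfl
theorem L536930 : sm ga N23902 = N29701 := trfs L536920 L365762 rfl
theorem L536931 : N29701 = N34787 := eqes L536930 (flp_a L294895)
theorem L536932 : N34787 = N29701 := (eqc rfl L536931 rfl).symm
theorem L536947 : sm gh N29701 = N23866 := trfs L536932 (flp_h L294893) rfl
theorem L536948 : N23866 = N43294 := eqes L536947 L366118
theorem L536949 : N43294 = N23866 := (eqc rfl L536948 rfl).symm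
theorem L536951 : sm gb N23866 = N29712 := trfs L536949 L366120 rfl
theorem L536952 : N29712 = N34751 := eqes L536951 (flp_b L294577)
theorem L536953 : N34751 = N29712 := (eqc rfl L536952 rfl).symm
theorem L536969 : sm gi N29712 = N23943 := trfs L536953 L294582 rfl
theorem L536970 : N23943 = N43309 := eqes L536969 L366243
theorem L536971 : N43309 = N23943 := (eqc rfl L536970 rfl).symm
theorem L536978 : sm gi N23943 = N29712 := trfs L536971 (flp_i L366243) rfl
theorem L536993 : sm ga N29356 = N23906 := trfs L523463 L294933 rfl
theorem L536996 : sm gd N29356 = N23883 := trfs L523463 L294939 rfl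
theorem L537026 : sm ga N20173 = N16419 := trfs L523443 L202952 rfl
theorem L537030 : sm gd N20173 = N16404 := trfs L523443 L202957 rfl
theorem L537034 : sm ga N29357 = N23894 := trfs L523434 L294830 rfl
theorem L537038 : sm ga N23674 = N29358 := trfs L523378 L361545 rfl
theorem L537039 : N29358 = N34466 := eqes L537038 (flp_a L292297)
theorem L537040 : N34466 = N29358 := (eqc rfl L537039 rfl).symm
theorem L537043 : sm ga N29358 = N23674 := trfs L537040 L292297 rfl
theorem L537051 : sm ga N11286 = N13884 := trfs L523375 L171386 rfl
theorem L537067 : sm ga N20174 = N16412 := trfs L523369 L202889 rfl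
theorem L537077 : sm ge N29334 = N23897 := trfs L523355 (flp_e L295245) rfl
theorem L537086 : sm ge N20163 = N16419 := trfs L523344 (flp_e L203270) rfl
theorem L537090 : sm ga N11292 = N13878 := trfs L523341 L171333 rfl
theorem L537093 : sm ge N11292 = N13871 := trfs L523341 (flp_e L171331) rfl
theorem L537101 : sm ge N20160 = N16421 := trfs L523336 (flp_e L203292) rfl
theorem L537157 : sm ga N16414 = N20185 := trfs L523265 L248818 rfl
theorem L537161 : sm ge N16414 = N20171 := trfs L523265 L248821 rfl
theorem L537167 : sm ge N29343 = N23899 := trfs L523261 L295277 rfl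
theorem L537177 : sm ge N23896 = N29352 := trfs L523250 L361678 rfl
theorem L537183 : sm ge N29351 = N23892 := trfs L523241 (flp_e L295186) rfl
theorem L537190 : sm ge N13875 = N11286 := trfs L523238 (flp_e L139977) rfl
theorem L537198 : sm ge N16410 = N20170 := trfs L523234 L248801 rfl
theorem L537200 : sm ge N29341 = N23894 := trfs L523231 (flp_e L295210) rfl
theorem L537305 : sm gd N9662 = N7779 := trfs L523105 (flp_d L96634) rfl
theorem L537312 : sm ge N20169 = N16418 := trfs L523102 (flp_e L203253) rfl
theorem L537328 : sm gd N6668 = N5366 := trfs L523086 (flp_d L66818) rfl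
theorem L537334 : sm ge N13874 = N11291 := trfs L523083 (flp_e L140033) rfl
theorem L537343 : sm gd N4612 = N3707 := trfs L523069 (flp_d L46274) rfl
theorem L537350 : sm ge N9563 = N7778 := trfs L523066 (flp_e L96627) rfl
theorem L537944 : sm gb N11333 = N14212 := trfs L520427 L175652 rfl
theorem L537947 : sm gd N11333 = N14211 := trfs L520427 L175654 rfl
theorem L537948 : N14211 = N7810 := eqes L537947 (flp_d L96963)
theorem L537949 : N14211 = N7810 := eqc rfl L537948 rfl
theorem L537960 : sm gh N7810 = N9796 := trfs L537949 L121120 rfl
theorem L537961 : N9796 = N11335 := eqes L537960 L96982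
theorem L537962 : N11335 = N9796 := (eqc rfl L537961 rfl).symm
theorem L537973 : sm gh N9796 = N7810 := trfs L537962 (flp_h L96982) rfl
theorem L537987 : sm gb N23975 = N30020 := trfs L520424 L370024 rfl
theorem L537988 : N30020 = N34901 := eqes L537987 (flp_b L295822)
theorem L537989 : N34901 = N30020 := (eqc rfl L537988 rfl).symm
theorem L537993 : sm gb N30020 = N23975 := trfs L537989 L295822 rfl
theorem L538019 : sm gb N15064 = N20735 := trfs L520379 L255953 rfl
theorem L538024 : sm gb N14257 = N11392 := trfs L520375 L141099 rfl
theorem L538063 : sm gg N5146 = N3750 := trfs L520283 L46834 rfl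
theorem L538064 : N3750 = N3558 := eqes L538063 (flp_g L44354)
theorem L538065 : N3750 = N3558 := eqc rfl L538064 rfl
theorem L538130 : N7618 = N7463 := L456001.trans L505611
theorem L538147 : sm gj N3558 = N5397 := trfs L538065 (flp_j L46550) rfl
theorem L538148 : N5397 = N5113 := eqes L538147 (flp_j L44054)
theorem L538149 : N5397 = N5113 := eqc rfl L538148 rfl
theorem L538150 : sm gh N3558 = N2596 := trfs L538065 (flp_h L32508) rfl
theorem L538151 : N2596 = N5136 := eqes L538150 (flp_h L44270)
theorem L538152 : N5136 = N2596 := (eqc rfl L538151 rfl).symm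
theorem L538160 : sm gj N2596 = N7397 := trfs L538152 (flp_j L63461) rfl
theorem L538161 : N7397 = N3730 := eqes L538160 (flp_j L32325)
theorem L538162 : N7397 = N3730 := eqc rfl L538161 rfl
theorem L538163 : sm gh N2596 = N3558 := trfs L538152 L44270 rfl
theorem L538172 : sm gg N3730 = N10732 := trfs L538162 L91724 rfl
theorem L538173 : N10732 = N5396 := eqes L538172 L46532
theorem L538174 : N10732 = N5396 := eqc rfl L538173 rfl
theorem L538184 : sm gj N5396 = N15601 := trfs L538174 L132941 rfl
theorem L538185 : N15601 = N7817 := eqes L538184 L67137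
theorem L538186 : N15601 = N7817 := eqc rfl L538185 rfl
theorem L538197 : sm gh N7817 = N10748 := trfs L538186 L132946 rfl
theorem L538198 : N10748 = N11347 := eqes L538197 L97107
theorem L538199 : N11347 = N10748 := (eqc rfl L538198 rfl).symm
theorem L538212 : sm gh N10748 = N7817 := trfs L538199 (flp_h L97107) rfl
theorem L538245 : sm gh N5113 = N3730 := trfs L538149 (flp_h L46542) rfl
theorem L538248 : sm ga N9829 = N7867 := trfs L520279 L97543 rfl
theorem L538255 : sm gh N9829 = N7850 := trfs L520279 (flp_h L97541) rfl
theorem L539826 : sm gc N10695 = N7992 := trfs L516948 L99099 rfl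
theorem L539835 : sm ga N7992 = N7992 := trfs L516944 L99112 rfl
theorem L539850 : sm gi N7988 = N10695 := trfs L516933 L132236 rfl
theorem L539852 : sm ga N5522 = N5522 := trfs L516929 (flp_a L68639) rfl
theorem L539869 : sm gi N11535 = N16944 := trfs L516921 L209213 rfl
theorem L539870 : N16944 = N16759 := eqes L539869 L142901
theorem L539871 : N16944 = N16759 := eqc rfl L539870 rfl
theorem L539878 : sm gf N16759 = N24642 := trfs L539871 L209429 rfl
theorem L539879 : N24642 = N24374 := eqes L539878 (flp_f L207194)
theorem L539880 : N24642 = N24374 := eqc rfl L539879 rfl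
theorem L539894 : sm gg N24374 = N35884 := trfs L539880 L304073 rfl
theorem L539895 : N35884 = N35056 := eqes L539894 (flp_g L297213)
theorem L539896 : N35884 = N35056 := eqc rfl L539895 rfl
theorem L539911 : sm gf N35056 = N24829 := trfs L539896 L304079 rfl
theorem L539912 : N24829 = N24068 := eqes L539911 L297211
theorem L539913 : N24829 = N24068 := eqc rfl L539912 rfl
theorem L539916 : sm gc N24068 = N32727 := trfs L539913 (flp_c L277428) rfl
theorem L539917 : N32727 = N35044 := eqes L539916 (flp_c L297097)
theorem L539918 : N35044 = N32727 := (eqc rfl L539917 rfl).symm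
theorem L539938 : sm gc N32727 = N24068 := trfs L539918 L297097 rfl
theorem L539941 : sm gi N32727 = N24050 := trfs L539918 (flp_i L297093) rfl
theorem L540847 : sm gb N3018 = N3018 := trfs L515689 (flp_b L37446) rfl
theorem L541127 : sm ga N8195 = N11588 := trfs L515377 (flp_a L99128) rfl
theorem L541251 : sm gi N16952 = N13118 := trfs L515244 (flp_i L161921) rfl
theorem L541275 : sm ga N24659 = N35504 := trfs L515223 (flp_a L300927) rfl
theorem L541908 : sm ga N4044 = N5350 := trfs L514244 (flp_a L46112) rfl
theorem L541910 : sm gb N4044 = N6044 := trfs L514244 (flp_b L51855) rfl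
theorem L541911 : N6044 = N2802 := eqes L541910 L34941
theorem L541912 : N6044 = N2802 := eqc rfl L541911 rfl
theorem L541958 : sm gi N2802 = N4172 := trfs L541912 (flp_i L51853) rfl
theorem L541959 : N4172 = N4026 := eqes L541958 (flp_i L34807)
theorem L541960 : N4172 = N4026 := eqc rfl L541959 rfl
theorem L541970 : sm gh N4026 = N2881 := trfs L541960 (flp_h L35941) rfl
theorem L541971 : N2881 = N5828 := eqes L541970 L50140
theorem L541972 : N5828 = N2881 := (eqc rfl L541971 rfl).symm
theorem L541975 : sm gc N2881 = N4144 := trfs L541972 L50142 rfl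
theorem L541976 : N4144 = N4162 := eqes L541975 (flp_c L35872)
theorem L541977 : N4162 = N4144 := (eqc rfl L541976 rfl).symm
theorem L541983 : sm gh N2881 = N4026 := trfs L541972 (flp_h L50140) rfl
theorem L541989 : sm gc N4144 = N2881 := trfs L541977 L35872 rfl
theorem L542070 : sm gi N37400 = N25707 := trfs L513929 (flp_i L317213) rfl
theorem L542155 : sm gc N34578 = N27117 := trfs L513866 L331209 rfl
theorem L542179 : sm gh N18618 = N12819 := trfs L513845 (flp_h L158322) rfl
theorem L542317 : sm gc N29841 = N23244 := trfs L513570 L287520 rfl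
theorem L542318 : N23244 = N43474 := eqes L542317 (flp_c L367648)
theorem L542319 : N43474 = N23244 := (eqc rfl L542318 rfl).symm
theorem L542332 : sm gc N23244 = N29841 := trfs L542319 L367648 rfl
theorem L542336 : sm gc N14910 = N23248 := trfs L513567 L287559 rfl
theorem L542337 : N23248 = N21689 := eqes L542336 (flp_c L184269)
theorem L542338 : N23248 = N21689 := eqc rfl L542337 rfl
theorem L542351 : sm gg N21689 = N33899 := trfs L542338 L287580 rfl
theorem L542352 : N33899 = N31608 := eqes L542351 (flp_g L267861)
theorem L542353 : N33899 = N31608 := eqc rfl L542352 rfl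
theorem L542355 : sm gh N21689 = N33879 := trfs L542338 (flp_h L287423) rfl
theorem L542356 : N33879 = N31270 := eqes L542355 (flp_h L265092)
theorem L542357 : N33879 = N31270 := eqc rfl L542356 rfl
theorem L542362 : N45549 = N23805 := L513023.trans L534115
theorem L542363 : sm gd N31270 = N44881 := trfs L542357 (flp_d L379739) rfl
theorem L542364 : N44881 = N45584 := eqes L542363 (flp_d L385470)
theorem L542365 : N45584 = N44881 := (eqc rfl L542364 rfl).symm
theorem L542370 : sm ga N44881 = N31241 := trfs L542365 (flp_a L385468) rfl
theorem L542372 : sm gd N44881 = N31270 := trfs L542365 L385470 rfl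
theorem L542375 : sm gb N31608 = N23818 := trfs L542353 L287582 rfl
theorem L542376 : N23818 = N46028 := eqes L542375 (flp_b L389131)
theorem L542377 : N46028 = N23818 := (eqc rfl L542376 rfl).symm
theorem L542382 : sm gb N23818 = N31608 := trfs L542377 L389131 rfl
theorem L542387 : sm ga N15959 = N20420 := trfs L513564 (flp_a L251975) rfl
theorem L542391 : sm ge N15959 = N20501 := trfs L513564 L251977 rfl
theorem L542401 : N44786 = N42785 := L513551.trans L533212
theorem L542402 : sm ga N42785 = N31293 := trfs L542401 L378909 rfl
theorem L542403 : N31293 = N29845 := eqes L542402 L533217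
theorem L542404 : N31293 = N29845 := eqc rfl L542403 rfl
theorem L542406 : sm gc N42785 = N30711 := trfs L542401 L378912 rfl
theorem L542412 : sm gd N29845 = N45653 := trfs L542404 L386016 rfl
theorem L542413 : N45653 = N43502 := eqes L542412 L367867
theorem L542414 : N45653 = N43502 := eqc rfl L542413 rfl
theorem L542417 : sm gg N29845 = N45652 := trfs L542404 (flp_g L386014) rfl
theorem L542418 : N45652 = N43499 := eqes L542417 (flp_g L367849)
theorem L542419 : N45652 = N43499 := eqc rfl L542418 rfl
theorem L542424 : sm gc N43499 = N31296 := trfs L542419 L386010 rfl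
theorem L542426 : sm ge N43499 = N34516 := trfs L542419 L386012 L508015
theorem L542429 : sm gb N43502 = N31641 := trfs L542414 L386018 rfl
theorem L542430 : N31641 = N29846 := eqes L542429 L367869
theorem L542431 : N31641 = N29846 := eqc rfl L542430 rfl
theorem L542439 : sm ge N29846 = N42746 := trfs L542431 (flp_e L533003) rfl
theorem L542440 : N42746 = N43503 := eqes L542439 L367875
theorem L542441 : N43503 = N42746 := (eqc rfl L542440 rfl).symm
theorem L542453 : sm gc N42746 = N30000 := trfs L542441 L367878 rfl
theorem L542455 : sm ge N42746 = N29846 := trfs L542441 (flp_e L367875) rfl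
theorem L542465 : sm gc N43498 = N30710 := trfs L513547 L378902 rfl
theorem L542472 : sm gc N28963 = N21708 := trfs L513531 L267883 rfl
theorem L542476 : sm gg N28963 = N46124 := trfs L513531 (flp_g L389856) rfl
theorem L542477 : N46124 = N42190 := eqes L542476 L356692
theorem L542478 : N46124 = N42190 := eqc rfl L542477 rfl
theorem L542480 : sm gh N28963 = N46127 := trfs L513531 L389873 rfl
theorem L542481 : N46127 = N42191 := eqes L542480 L356701
theorem L542482 : N46127 = N42191 := eqc rfl L542481 rfl
theorem L542485 : N42108 = N21689 := L505880.trans L542338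
theorem L542486 : sm ga N42191 = N31612 := trfs L542482 L389875 rfl
theorem L542487 : N31612 = N29470 := eqes L542486 L356703
theorem L542488 : N31612 = N29470 := eqc rfl L542487 rfl
theorem L542489 : sm gc N42191 = N31635 := trfs L542482 L389877 rfl
theorem L542502 : sm gi N29470 = N45624 := trfs L542488 (flp_i L385783) rfl
theorem L542503 : N45624 = N42950 := eqes L542502 L363207
theorem L542504 : N45624 = N42950 := eqc rfl L542503 rfl
theorem L542506 : sm gc N42950 = N31290 := trfs L542504 L385779 rfl
theorem L542510 : sm gh N42950 = N31271 := trfs L542504 (flp_h L385775) rfl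
theorem L542513 : sm gc N42190 = N31632 := trfs L542478 L389853 rfl
theorem L542516 : sm gi N42190 = N31608 := trfs L542478 (flp_i L389849) rfl
theorem L542521 : sm gc N21709 = N29470 := trfs L513478 L363169 rfl
theorem L542560 : sm gb N14906 = N20521 := trfs L513373 L253059 rfl
theorem L542576 : sm gd N43548 = N31752 := trfs L513352 L389776 rfl
theorem L542582 : sm gd N21798 = N29875 := trfs L513348 (flp_d L368302) rfl
theorem L542645 : sm gb N21704 = N29875 := trfs L513345 L367952 rfl
theorem L542649 : sm gc N42980 = N31765 := trfs L513321 L389871 rfl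
theorem L542652 : sm gc N42948 = N31633 := trfs L513317 L389862 rfl
theorem L542658 : sm gi N42977 = N31597 := trfs L513304 (flp_i L389750) rfl
theorem L542663 : sm gc N42946 = N31624 := trfs L513295 L389795 rfl
theorem L542666 : sm gi N42946 = N31600 := trfs L513295 (flp_i L389791) rfl
theorem L542669 : sm gb N21700 = N29872 := trfs L513260 L367925 rfl
theorem L542685 : sm gf N29836 = N23938 := trfs L513249 L268123 rfl
theorem L542686 : N23938 = N43316 := eqes L542685 (flp_f L366303)
theorem L542687 : N43316 = N23938 := (eqc rfl L542686 rfl).symm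
theorem L542688 : sm gj N29836 = N46172 := trfs L513249 L390211 rfl
theorem L542689 : N46172 = N43486 := eqes L542688 (flp_j L367748)
theorem L542690 : N46172 = N43486 := eqc rfl L542689 rfl
theorem L542691 : sm gh N29836 = N46173 := trfs L513249 L390221 rfl
theorem L542692 : N46173 = N43494 := eqes L542691 L367807
theorem L542693 : N46173 = N43494 := eqc rfl L542692 rfl
theorem L542696 : sm gb N43494 = N31663 := trfs L542693 L390224 rfl
theorem L542699 : sm gf N43494 = N34881 := trfs L542693 L390228 rfl
theorem L542702 : sm gb N43486 = N31662 := trfs L542690 L390214 rfl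
theorem L542710 : sm ge N23938 = N29717 := trfs L542687 L366301 rfl
theorem L542711 : N29717 = N16444 := eqes L542710 (flp_e L203506)
theorem L542712 : N29717 = N16444 := eqc rfl L542711 rfl
theorem L542716 : sm gi N23938 = N29716 := trfs L542687 (flp_i L366297) rfl
theorem L542717 : N29716 = N34742 := eqes L542716 (flp_i L294501)
theorem L542718 : N34742 = N29716 := (eqc rfl L542717 rfl).symm
theorem L542726 : sm gi N29716 = N23938 := trfs L542718 L294501 rfl
theorem L542736 : sm gj N16444 = N43312 := trfs L542712 (flp_j L366274) rfl
theorem L542737 : N43312 = N23939 := eqes L542736 L203513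
theorem L542738 : N43312 = N23939 := eqc rfl L542737 rfl
theorem L542751 : sm gi N23939 = N29713 := trfs L542738 (flp_i L366267) rfl
theorem L542752 : N29713 = N34743 := eqes L542751 (flp_i L294513)
theorem L542753 : N34743 = N29713 := (eqc rfl L542752 rfl).symm
theorem L542755 : sm gb N29713 = N23858 := trfs L542753 L294507 rfl
theorem L542756 : N23858 = N43295 := eqes L542755 (flp_b L366129)
theorem L542757 : N43295 = N23858 := (eqc rfl L542756 rfl).symm
theorem L542763 : sm gb N23858 = N29713 := trfs L542757 L366129 rfl
theorem L542807 : sm gb N23857 = N29716 := trfs L513240 L366152 rfl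
theorem L542811 : sm gf N23857 = N29818 := trfs L513240 L366156 rfl
theorem L542814 : sm ga N43467 = N31223 := trfs L513235 L384791 rfl
theorem L542817 : sm gf N43467 = N34460 := trfs L513235 L384797 rfl
theorem L542819 : sm gi N43467 = N31324 := trfs L513235 L384795 rfl
theorem L542823 : sm ga N21682 = N29779 := trfs L513204 L366688 rfl
theorem L542830 : sm gi N21682 = N29872 := trfs L513204 L366692 rfl
theorem L542845 : sm ga N21681 = N29420 := trfs L513171 L362298 rfl
theorem L542853 : sm gi N21681 = N29487 := trfs L513171 L362304 rfl
theorem L542908 : sm gd N29399 = N21681 := trfs L513162 L267554 rfl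
theorem L542912 : sm gj N29399 = N46065 := trfs L513162 (flp_j L389410) rfl
theorem L542913 : N46065 = N42846 := eqes L542912 L362350
theorem L542914 : N46065 = N42846 := eqc rfl L542913 rfl
theorem L542917 : sm gd N42846 = N31597 := trfs L542914 L389412 rfl
theorem L542929 : sm ga N21684 = N29421 := trfs L513106 L362310 rfl
theorem L542937 : sm gb N29488 = N46122 := trfs L513097 (flp_b L389833) rfl
theorem L542938 : N46122 = N42947 := eqes L542937 (flp_b L363185)
theorem L542939 : N46122 = N42947 := eqc rfl L542938 rfl
theorem L542946 : sm gi N29488 = N21684 := trfs L513097 (flp_i L267838) rfl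
theorem L542952 : sm gc N42947 = N31630 := trfs L542939 L389835 rfl
theorem L542957 : sm gi N42947 = N31605 := trfs L542939 (flp_i L389831) rfl
theorem L542967 : sm gi N20261 = N14894 := trfs L513082 (flp_i L184251) rfl
theorem L543005 : sm gb N16354 = N21689 := trfs L513042 L267377 rfl
theorem L543026 : sm gb N23805 = N31270 := trfs L542362 L385221 rfl
theorem L543031 : sm ga N14740 = N20218 := trfs L513010 L249238 rfl
theorem L543039 : sm ga N42883 = N31243 := trfs L513000 L384969 rfl
theorem L543041 : sm gc N42883 = N31201 := trfs L513000 L384971 rfl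
theorem L543055 : sm ge N29490 = N46129 := trfs L512967 L389886 rfl
theorem L543056 : N46129 = N42983 := eqes L543055 L363475
theorem L543057 : N46129 = N42983 := eqc rfl L543056 rfl
theorem L543061 : sm gi N29490 = N45625 := trfs L512967 (flp_i L385788) rfl
theorem L543062 : N45625 = N42984 := eqes L543061 L363483
theorem L543063 : N45625 = N42984 := eqc rfl L543062 rfl
theorem L543064 : sm gc N42984 = N31447 := trfs L543063 L385790 rfl
theorem L543068 : sm gc N42983 = N31768 := trfs L543057 L389888 rfl
theorem L543072 : sm gd N43037 = N31706 := trfs L512937 (flp_d L390950) rfl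
theorem L543073 : N31706 = N29926 := eqes L543072 L363954
theorem L543074 : N31706 = N29926 := eqc rfl L543073 rfl
theorem L543076 : sm ga N29926 = N46257 := trfs L543074 (flp_a L390942) rfl
theorem L543077 : N46257 = N43626 := eqes L543076 L368948
theorem L543078 : N46257 = N43626 := eqc rfl L543077 rfl
theorem L543081 : sm ge N29926 = N22195 := trfs L543074 L268661 rfl
theorem L543082 : N22195 = N43627 := eqes L543081 L368956
theorem L543083 : N43627 = N22195 := (eqc rfl L543082 rfl).symm
theorem L543088 : sm gi N29926 = N45777 := trfs L543074 (flp_i L387083) rfl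
theorem L543089 : N45777 = N43628 := eqes L543088 L368965
theorem L543090 : N45777 = N43628 := eqc rfl L543089 rfl
theorem L543093 : sm ge N43628 = N32197 := trfs L543090 L387080 rfl
theorem L543096 : sm gh N43628 = N31372 := trfs L543090 (flp_h L387075) rfl
theorem L543100 : sm ge N22195 = N29926 := trfs L543083 (flp_e L368956) rfl
theorem L543104 : sm gh N22195 = N29947 := trfs L543083 L368962 rfl
theorem L543105 : N29947 = N15252 := eqes L543104 (flp_h L188480)
theorem L543106 : N29947 = N15252 := eqc rfl L543105 rfl
theorem L543107 : sm ga N15252 = N43658 := trfs L543106 (flp_a L369204) rfl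
theorem L543108 : N43658 = N22194 := eqes L543107 (flp_a L188472)
theorem L543109 : N43658 = N22194 := eqc rfl L543108 rfl
theorem L543122 : sm gi N15252 = N43660 := trfs L543106 L369220 rfl
theorem L543123 : N43660 = N10494 := eqes L543122 (flp_i L129853)
theorem L543124 : N43660 = N10494 := eqc rfl L543123 rfl
theorem L543130 : sm ge N10494 = N29948 := trfs L543124 L369226 rfl
theorem L543131 : N29948 = N14944 := eqes L543130 (flp_e L127286)
theorem L543132 : N29948 = N14944 := eqc rfl L543131 rfl
theorem L543135 : sm ga N14944 = N43659 := trfs L543132 (flp_a L369212) rfl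
theorem L543136 : N43659 = N21756 := eqes L543135 L184816
theorem L543137 : N43659 = N21756 := eqc rfl L543136 rfl
theorem L543155 : sm gd N21756 = N29974 := trfs L543137 L369215 rfl
theorem L543156 : N29974 = N31686 := eqes L543155 (flp_d L268483)
theorem L543157 : N31686 = N29974 := (eqc rfl L543156 rfl).symm
theorem L543158 : sm gf N21756 = N31742 := trfs L543137 L369217 rfl
theorem L543159 : N31742 = N29912 := eqes L543158 (flp_f L253620)
theorem L543160 : N31742 = N29912 := eqc rfl L543159 rfl
theorem L543162 : sm gi N21756 = N29946 := trfs L543137 (flp_i L369210) rfl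
theorem L543163 : N29946 = N31705 := eqes L543162 L268646
theorem L543164 : N31705 = N29946 := (eqc rfl L543163 rfl).symm
theorem L543175 : sm gg N29946 = N46254 := trfs L543164 (flp_g L390923) rfl
theorem L543176 : N46254 = N43650 := eqes L543175 (flp_g L369147)
theorem L543177 : N46254 = N43650 := eqc rfl L543176 rfl
theorem L543180 : sm gi N29946 = N21756 := trfs L543164 (flp_i L268646) rfl
theorem L543183 : sm gb N43650 = N31763 := trfs L543177 L390918 rfl
theorem L543186 : sm ge N43650 = N32329 := trfs L543177 L390921 rfl
theorem L543188 : sm gi N43650 = N31702 := trfs L543177 (flp_i L390914) rfl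
theorem L543204 : sm gg N29912 = N46304 := trfs L543160 (flp_g L391302) rfl
theorem L543205 : N46304 = N43601 := eqes L543204 (flp_g L368754)
theorem L543206 : N46304 = N43601 := eqc rfl L543205 rfl
theorem L543211 : sm gi N29912 = N21783 := trfs L543160 (flp_i L268922) rfl
theorem L543219 : sm gd N43601 = N31763 := trfs L543206 L391299 rfl
theorem L543222 : sm gi N43601 = N31739 := trfs L543206 (flp_i L391294) rfl
theorem L543225 : sm gb N29974 = N21783 := trfs L543157 L268487 rfl
theorem L543228 : sm gd N29974 = N21756 := trfs L543157 L268483 rfl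
theorem L543319 : sm ge N22194 = N29946 := trfs L543109 (flp_e L369202) rfl
theorem L543323 : sm gb N43626 = N31766 := trfs L543078 L390944 rfl
theorem L543326 : sm ge N43626 = N32332 := trfs L543078 L390947 rfl
theorem L543330 : sm ge N43620 = N32330 := trfs L512892 L390930 rfl
theorem L543335 : sm gb N29937 = N46252 := trfs L512882 (flp_b L390895) rfl
theorem L543336 : N46252 = N43644 := eqes L543335 L369094
theorem L543337 : N46252 = N43644 := eqc rfl L543336 rfl
theorem L543347 : sm ge N43644 = N32327 := trfs L543337 L390898 rfl
theorem L543351 : sm gi N43644 = N31699 := trfs L543337 (flp_i L390893) rfl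
theorem L543356 : sm ge N15249 = N20565 := trfs L512877 (flp_e L253846) rfl
theorem L543382 : sm gb N43692 = N31723 := trfs L512598 L390577 rfl
theorem L543387 : sm gd N43687 = N31699 := trfs L512587 L390679 rfl
theorem L543391 : sm gd N43681 = N31694 := trfs L512583 L390642 rfl
theorem L543394 : sm gd N21753 = N29972 := trfs L512579 L369162 rfl
theorem L543400 : sm gb N43689 = N31739 := trfs L512572 L390712 rfl
theorem L543402 : sm gd N43689 = N31702 := trfs L512572 L390707 rfl
theorem L543406 : sm ge N29940 = N22192 := trfs L512565 L268632 rfl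
theorem L543408 : sm gf N29940 = N46246 := trfs L512565 (flp_f L390847) rfl
theorem L543409 : N46246 = N43638 := eqes L543408 (flp_f L369051)
theorem L543410 : N46246 = N43638 := eqc rfl L543409 rfl
theorem L543412 : sm gi N29940 = N21753 := trfs L512565 (flp_i L268627) rfl
theorem L543416 : sm gi N43638 = N31694 := trfs L543410 (flp_i L390842) rfl
theorem L543420 : sm ge N20568 = N15252 := trfs L512549 L184829 rfl
theorem L543424 : sm gi N20568 = N14944 := trfs L512549 (flp_i L184824) rfl
theorem L543444 : sm gd N20591 = N14944 := trfs L512523 L184698 rfl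
theorem L543454 : sm gd N20547 = N14978 := trfs L512517 L185029 rfl
theorem L543465 : sm gb N21802 = N29946 := trfs L512511 L368528 rfl
theorem L543467 : sm gd N21802 = N29912 := trfs L512511 L368523 rfl
theorem L543470 : sm ga N21801 = N29923 := trfs L512483 L368321 rfl
theorem L543473 : sm ga N21804 = N29527 := trfs L512479 L363466 rfl
theorem L543475 : sm gc N21804 = N29490 := trfs L512479 (flp_c L363464) rfl
theorem L543679 : sm gb N14753 = N20524 := trfs L512323 L253086 rfl
theorem L543775 : sm ga N9568 = N7778 := trfs L512176 L96456 rfl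
theorem L543784 : sm ga N20181 = N16417 := trfs L512141 L202936 rfl
theorem L543798 : sm gi N20414 = N16444 := trfs L512108 L202668 rfl
theorem L543839 : sm gi N11314 = N14040 := trfs L512058 (flp_i L173485) rfl
theorem L543871 : sm gb N14041 = N11271 := trfs L512015 L139652 rfl
theorem L543889 : sm gh N20404 = N16390 := trfs L512006 (flp_h L202922) rfl
theorem L543892 : sm ga N9670 = N7779 := trfs L512003 L96463 rfl
theorem L543895 : sm gc N9670 = N7772 := trfs L512003 L96465 rfl
theorem L543900 : sm gh N9670 = N7764 := trfs L512003 (flp_h L96461) rfl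
theorem L543903 : sm ga N20182 = N16418 := trfs L512000 L202944 rfl
theorem L543908 : sm ga N14032 = N11289 := trfs L511985 L139789 rfl
theorem L543914 : sm gh N14032 = N11270 := trfs L511985 (flp_h L139787) rfl
theorem L543917 : sm ga N6672 = N5366 := trfs L511982 L66681 rfl
theorem L543922 : sm gh N6672 = N5355 := trfs L511982 (flp_h L66679) rfl
theorem L543925 : sm ga N13883 = N11291 := trfs L511979 L139812 rfl
theorem L543929 : sm ga N7777 = N9668 := trfs L511973 L119429 rfl
theorem L543936 : sm ga N6671 = N5364 := trfs L511951 L66660 rfl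
theorem L543938 : sm gc N6671 = N5359 := trfs L511951 L66662 rfl
theorem L543962 : sm gh N5354 = N6671 := trfs L511936 (flp_h L82621) rfl
theorem L543977 : sm gh N3699 = N4614 := trfs L511921 (flp_h L57222) rfl
theorem L544534 : sm gd N23479 = N34259 := trfs L511017 (flp_d L290666) rfl
theorem L544535 : N34259 = N34205 := eqes L544534 (flp_d L290255)
theorem L544536 : N34259 = N34205 := eqc rfl L544535 rfl
theorem L544553 : sm ge N34205 = N45290 := trfs L544536 (flp_e L383138) rfl
theorem L544937 : sm ga N23456 = N33409 := trfs L510491 (flp_a L283395) rfl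
theorem L544938 : N33409 = N33471 := eqes L544937 (flp_a L532155)
theorem L544939 : N33471 = N33409 := (eqc rfl L544938 rfl).symm
theorem L544963 : sm gh N33409 = N23429 := trfs L544939 L532161 rfl
theorem L545141 : sm gc N7636 = N5941 := trfs L510359 L73709 rfl
theorem L545259 : sm ga N3663 = N5202 := trfs L510144 (flp_a L44848) rfl
theorem L545260 : N5202 = N5297 := eqes L545259 (flp_a L45669)
theorem L545261 : N5297 = N5202 := (eqc rfl L545260 rfl).symm
theorem L545274 : sm ga N5202 = N3663 := trfs L545261 L45669 rfl
theorem L545312 : sm gc N7565 = N10944 := trfs L510111 (flp_c L93635) rfl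
theorem L545313 : N10944 = N10971 := eqes L545312 (flp_c L93864)
theorem L545314 : N10971 = N10944 := (eqc rfl L545313 rfl).symm
theorem L545326 : sm gc N10944 = N7565 := trfs L545314 L93864 rfl
theorem L545347 : sm gi N5205 = N18313 := trfs L510105 L155651 rfl
theorem L545349 : sm gb N15946 = N12736 := trfs L510084 L155603 rfl
theorem L545420 : N8668 = N7712 := L445455.trans L447560
theorem L545476 : sm gc N5857 = N4191 := trfs L509878 L51380 rfl
theorem L545611 : sm gc N23268 = N34499 := trfs L509714 L292582 rfl
theorem L545612 : N34499 = N33922 := eqes L545611 (flp_c L287767)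
theorem L545613 : N34499 = N33922 := eqc rfl L545612 rfl
theorem L545624 : sm gh N33922 = N23881 := trfs L545613 L292589 rfl
theorem L545626 : sm ga N23271 = N16277 := trfs L509709 L201302 rfl
theorem L545714 : sm gh N7728 = N10930 := trfs L509638 (flp_h L135609) rfl
theorem L545804 : sm gc N4861 = N6697 := trfs L509399 L82868 rfl
theorem L545809 : sm gh N4861 = N6690 := trfs L509399 (flp_h L82865) rfl
theorem L545833 : sm gh N3360 = N4626 := trfs L509382 (flp_h L57388) rfl
theorem L545857 : sm gh N2329 = N3205 := trfs L509363 (flp_h L39840) rfl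
theorem L545956 : sm gc N3380 = N4655 := trfs L509282 L57674 rfl
theorem L545964 : sm gd N2393 = N3219 := trfs L509271 (flp_d L40030) rfl
theorem L545981 : sm gd N4648 = N3455 := trfs L509265 L42117 rfl
theorem L545986 : sm gi N4648 = N3380 := trfs L509265 (flp_i L42112) rfl
theorem L545999 : sm gd N6722 = N4996 := trfs L509250 L60755 rfl
theorem L546004 : sm gi N6722 = N4891 := trfs L509250 (flp_i L60750) rfl
theorem L546006 : sm ga N9743 = N7103 := trfs L509237 L87850 rfl
theorem L546009 : sm gd N9743 = N7235 := trfs L509237 L87853 rfl
theorem L546022 : sm gc N7085 = N9756 := trfs L509222 L120537 rfl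
theorem L546027 : sm gi N7085 = N9743 := trfs L509222 (flp_i L120534) rfl
theorem L546089 : sm ge N22193 = N29923 := trfs L509100 (flp_e L368912) rfl
theorem L546092 : sm ga N29921 = N21798 := trfs L509089 L268610 rfl
theorem L546096 : sm ge N29921 = N22190 := trfs L509089 L268613 rfl
theorem L546102 : sm gi N29921 = N45772 := trfs L509089 (flp_i L387031) rfl
theorem L546103 : N45772 = N43619 := eqes L546102 L368897
theorem L546104 : N45772 = N43619 := eqc rfl L546103 rfl
theorem L546105 : sm ga N43619 = N31441 := trfs L546104 L387023 rfl
theorem L546108 : sm ge N43619 = N32192 := trfs L546104 L387026 rfl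
theorem L546112 : sm gh N43619 = N31367 := trfs L546104 (flp_h L387021) rfl
theorem L546126 : sm ge N22189 = N29937 := trfs L509069 (flp_e L369102) rfl
theorem L546140 : sm gi N21751 = N29937 := trfs L509042 (flp_i L369110) rfl
theorem L546142 : sm ga N43612 = N31752 := trfs L509026 L390821 rfl
theorem L546146 : sm ga N43633 = N31747 := trfs L509023 L390772 rfl
theorem L546151 : sm gi N43633 = N31689 := trfs L509023 (flp_i L390770) rfl
theorem L546153 : sm ga N20563 = N14973 := trfs L509020 L184780 rfl
theorem L546156 : sm ge N20563 = N15247 := trfs L509020 L184785 rfl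
theorem L546160 : sm gi N20563 = N14940 := trfs L509020 (flp_i L184778) rfl
theorem L546169 : sm gi N43636 = N31692 := trfs L509017 (flp_i L390807) rfl
theorem L546171 : sm ga N43635 = N31750 := trfs L509013 L390799 rfl
theorem L546174 : sm gi N43635 = N31691 := trfs L509013 (flp_i L390797) rfl
theorem L546176 : sm ga N29935 = N21794 := trfs L509000 L268574 rfl
theorem L546179 : sm gc N29935 = N46248 := trfs L509000 (flp_c L390860) rfl
theorem L546180 : N46248 = N43639 := eqes L546179 (flp_c L369058)
theorem L546181 : N46248 = N43639 := eqc rfl L546180 rfl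
theorem L546183 : sm gf N29935 = N22186 := trfs L509000 L268580 rfl
theorem L546186 : sm gh N29935 = N46250 := trfs L509000 L390874 rfl
theorem L546187 : N46250 = N43615 := eqes L546186 (flp_h L368870)
theorem L546188 : N46250 = N43615 := eqc rfl L546187 rfl
theorem L546189 : sm gi N29935 = N21749 := trfs L509000 (flp_i L268572) rfl
theorem L546190 : N21749 = N43642 := eqes L546189 L369079
theorem L546191 : N43642 = N21749 := (eqc rfl L546190 rfl).symm
theorem L546196 : sm gi N21749 = N29935 := trfs L546191 (flp_i L369079) rfl
theorem L546198 : sm ga N43615 = N31759 := trfs L546188 L390876 rfl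
theorem L546202 : sm gf N43615 = N32325 := trfs L546188 L390881 rfl
theorem L546204 : sm ga N43639 = N31757 := trfs L546181 L390858 rfl
theorem L546207 : sm gf N43639 = N32323 := trfs L546181 L390864 rfl
theorem L546209 : sm gi N43639 = N31695 := trfs L546181 (flp_i L390856) rfl
theorem L546220 : sm gi N14138 = N10277 := trfs L508997 (flp_i L127237) rfl
theorem L546221 : N10277 = N20562 := eqes L546220 L174755
theorem L546222 : N20562 = N10277 := (eqc rfl L546221 rfl).symm
theorem L546233 : sm gi N10277 = N14138 := trfs L546222 (flp_i L174755) rfl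
theorem L546235 : sm ga N29934 = N21793 := trfs L508994 L268566 rfl
theorem L546238 : sm gi N29934 = N21748 := trfs L508994 (flp_i L268564) rfl
theorem L546240 : sm ga N14971 = N20561 := trfs L508990 L253357 rfl
theorem L546247 : sm ga N21776 = N29966 := trfs L508972 L368706 rfl
theorem L546261 : sm gh N10290 = N29771 := trfs L508969 (flp_h L252433) rfl
theorem L546262 : N29771 = N7089 := eqes L546261 (flp_h L87900)
theorem L546263 : N29771 = N7089 := eqc rfl L546262 rfl
theorem L546278 : sm gi N7089 = N20449 := trfs L546263 (flp_i L252423) rfl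
theorem L546279 : N20449 = N10230 := eqes L546278 (flp_i L87409)
theorem L546280 : N20449 = N10230 := eqc rfl L546279 rfl
theorem L546281 : sm ga N10230 = N14084 := trfs L546280 L173799 rfl
theorem L546282 : N14084 = N14847 := eqes L546281 (flp_a L126470)
theorem L546283 : N14847 = N14084 := (eqc rfl L546282 rfl).symm
theorem L546295 : sm gh N10230 = N14061 := trfs L546280 (flp_h L173797) rfl
theorem L546296 : N14061 = N14873 := eqes L546295 L126704
theorem L546297 : N14873 = N14061 := (eqc rfl L546296 rfl).symm
theorem L546307 : sm gh N14061 = N10230 := trfs L546297 (flp_h L126704) rfl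
theorem L546343 : sm ga N14084 = N10230 := trfs L546283 L126470 rfl
theorem L546370 : sm gi N14938 = N20561 := trfs L508958 (flp_i L253807) rfl
theorem L546373 : sm gc N29905 = N46298 := trfs L508954 (flp_c L391249) rfl
theorem L546374 : N46298 = N43594 := eqes L546373 (flp_c L368689)
theorem L546375 : N46298 = N43594 := eqc rfl L546374 rfl
theorem L546378 : sm gj N29905 = N46292 := trfs L508954 (flp_j L391210) rfl
theorem L546379 : N46292 = N43591 := eqes L546378 (flp_j L368663)
theorem L546380 : N46292 = N43591 := eqc rfl L546379 rfl
theorem L546382 : sm gi N29905 = N21776 := trfs L508954 (flp_i L268859) rfl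
theorem L546388 : sm gi N43591 = N31729 := trfs L546380 (flp_i L391203) rfl
theorem L546392 : sm gi N43594 = N31732 := trfs L546375 (flp_i L391247) rfl
theorem L546401 : sm gi N14125 = N10290 := trfs L508951 (flp_i L127383) rfl
theorem L546408 : sm gd N43590 = N31750 := trfs L508888 L391197 rfl
theorem L546411 : sm gi N43590 = N31728 := trfs L508888 (flp_i L391193) rfl
theorem L546413 : sm ga N21797 = N29937 := trfs L508884 L368448 rfl
theorem L546415 : sm gd N21797 = N29907 := trfs L508884 L368453 rfl
theorem L546428 : sm gd N43598 = N31761 := trfs L508878 L391280 rfl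
theorem L546433 : sm gi N43598 = N31736 := trfs L508878 (flp_i L391275) rfl
theorem L546440 : sm gb N29904 = N46296 := trfs L508865 (flp_b L391234) rfl
theorem L546441 : N46296 = N43593 := eqes L546440 L368678
theorem L546442 : N46296 = N43593 := eqc rfl L546441 rfl
theorem L546443 : sm gd N29904 = N21793 := trfs L508865 L268855 rfl
theorem L546448 : sm gd N43593 = N31755 := trfs L546442 L391237 rfl
theorem L546451 : sm gi N43593 = N31731 := trfs L546442 (flp_i L391232) rfl
theorem L546453 : sm ga N14975 = N20565 := trfs L508861 L253394 rfl
theorem L546456 : sm gd N14975 = N20545 := trfs L508861 L253398 rfl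
theorem L546460 : sm gd N29909 = N21800 := trfs L508857 L268910 rfl
theorem L546477 : sm gi N21778 = N29907 := trfs L508849 (flp_i L368731) rfl
theorem L546479 : sm ga N21775 = N29965 := trfs L508846 L368696 rfl
theorem L546481 : sm gi N21775 = N29904 := trfs L508846 (flp_i L368694) rfl
theorem L546497 : sm gi N21780 = N29909 := trfs L508836 (flp_i L368758) rfl
theorem L546499 : sm ga N20588 = N14961 := trfs L508833 L184680 rfl
theorem L546502 : sm gd N20588 = N14942 := trfs L508833 L184685 rfl
theorem L546516 : sm gi N14963 = N20547 := trfs L508818 (flp_i L253625) rfl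
theorem L546518 : sm ga N14160 = N10294 := trfs L508815 L127188 rfl
theorem L546529 : sm ga N21533 = N29976 := trfs L508803 L368797 rfl
theorem L546535 : sm ga N20592 = N14953 := trfs L508796 L184611 rfl
theorem L546542 : sm ga N29570 = N21770 := trfs L508784 L268371 rfl
theorem L546551 : sm gh N43021 = N31721 := trfs L508777 (flp_h L391126) rfl
theorem L546559 : sm gh N43024 = N31724 := trfs L508768 (flp_h L391142) rfl
theorem L546568 : sm gd N29516 = N46306 := trfs L508757 L391312 rfl
theorem L546569 : N46306 = N42991 := eqes L546568 (flp_d L363553)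
theorem L546570 : N46306 = N42991 := eqc rfl L546569 rfl
theorem L546573 : sm gh N42991 = N31765 := trfs L546570 L391316 rfl
theorem L546580 : sm gb N29497 = N46308 := trfs L508750 (flp_b L391327) rfl
theorem L546581 : N46308 = N42994 := eqes L546580 L363571
theorem L546582 : N46308 = N42994 := eqc rfl L546581 rfl
theorem L546584 : sm ge N29497 = N46309 := trfs L508750 L391332 rfl
theorem L546585 : N46309 = N42995 := eqes L546584 L363578
theorem L546586 : N46309 = N42995 := eqc rfl L546585 rfl
theorem L546588 : sm gh N29497 = N21804 := trfs L508750 L268941 rfl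
theorem L546592 : sm gh N42995 = N31768 := trfs L546586 L391335 rfl
theorem L546596 : sm gh N42994 = N31767 := trfs L546582 L391330 rfl
theorem L546605 : sm gd N14129 = N10306 := trfs L508721 L127434 rfl
theorem L546610 : sm gi N14129 = N10294 := trfs L508721 (flp_i L127430) rfl
theorem L546616 : sm gd N10281 = N14160 := trfs L508704 L174820 rfl
theorem L546625 : sm ge N14140 = N10493 := trfs L508695 L127280 rfl
theorem L546630 : sm ga N7092 = N9755 := trfs L508692 L120407 rfl
theorem L546637 : sm gi N7092 = N9732 := trfs L508692 (flp_i L120405) rfl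
theorem L546640 : sm ge N7234 = N9741 := trfs L508689 (flp_e L120510) rfl
theorem L546645 : sm ga N14142 = N10306 := trfs L508685 L127292 rfl
theorem L546647 : sm ge N14142 = N10495 := trfs L508685 L127296 rfl
theorem L546651 : sm gi N14142 = N10281 := trfs L508685 (flp_i L127290) rfl
theorem L546655 : sm ge N10496 = N14135 := trfs L508673 (flp_e L174713) rfl
theorem L546660 : sm ga N20556 = N14979 := trfs L508669 L184834 rfl
theorem L546662 : sm ge N20556 = N15253 := trfs L508669 L184838 rfl
theorem L546666 : sm ga N10307 = N14135 := trfs L508665 L174421 rfl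
theorem L546668 : sm gd N10307 = N14112 := trfs L508665 (flp_d L174419) rfl
theorem L546676 : sm ge N15179 = N20558 := trfs L508654 L253753 rfl
theorem L546681 : sm ga N29928 = N21576 := trfs L508650 L265958 rfl
theorem L546683 : sm ge N29928 = N22096 := trfs L508650 L265962 rfl
theorem L546688 : sm ga N14820 = N20558 := trfs L508646 L253327 rfl
theorem L546690 : sm gd N14820 = N20524 := trfs L508646 L253329 rfl
theorem L546708 : sm gh N21525 = N29928 := trfs L508631 (flp_h L368987) rfl
theorem L546714 : sm gi N10279 = N14140 := trfs L508615 (flp_i L174794) rfl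
theorem L546774 : sm gc N10221 = N14084 := trfs L508548 L173917 rfl
theorem L546778 : sm gh N10221 = N14070 := trfs L508548 (flp_h L173914) rfl
theorem L546827 : sm gd N29400 = N21684 := trfs L508480 L267572 rfl
theorem L546881 : sm gd N42869 = N31554 := trfs L508408 L389267 rfl
theorem L546885 : sm gd N42867 = N31552 := trfs L508404 L389243 rfl
theorem L546895 : sm gc N42852 = N31230 := trfs L508353 L385338 rfl
theorem L546898 : sm gh N42852 = N31242 := trfs L508353 L385341 rfl
theorem L546902 : sm gc N29423 = N21408 := trfs L508338 (flp_c L264523) rfl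
theorem L546905 : sm gg N29423 = N45517 := trfs L508338 (flp_g L384934) rfl
theorem L546906 : N45517 = N42879 := eqes L546905 (flp_g L362655)
theorem L546907 : N45517 = N42879 := eqc rfl L546906 rfl
theorem L546910 : sm ga N42879 = N31238 := trfs L546907 L384932 rfl
theorem L546912 : sm gc N42879 = N31197 := trfs L546907 (flp_c L384930) rfl
theorem L546915 : sm ga N21436 = N29423 := trfs L508330 L362331 rfl
theorem L546918 : sm gh N21436 = N29402 := trfs L508330 L362336 rfl
theorem L546920 : sm gb N42894 = N30731 := trfs L508327 L378950 rfl
theorem L546922 : sm gd N42894 = N30711 := trfs L508327 (flp_d L378946) rfl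
theorem L546925 : sm gh N42894 = N30715 := trfs L508327 L378953 rfl
theorem L546927 : sm ga N21429 = N29430 := trfs L508321 L362401 rfl
theorem L546929 : sm gc N21429 = N29402 := trfs L508321 (flp_c L362399) rfl
theorem L546935 : sm gb N29820 = N45473 := trfs L508284 (flp_b L384557) rfl
theorem L546936 : N45473 = N43471 := eqes L546935 L367623
theorem L546937 : N45473 = N43471 := eqc rfl L546936 rfl
theorem L546939 : sm gd N29820 = N21406 := trfs L508284 L264441 rfl
theorem L546941 : sm ge N29820 = N23636 := trfs L508284 L264443 rfl
theorem L546942 : N23636 = N43300 := eqes L546941 (flp_e L366169)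
theorem L546943 : N43300 = N23636 := (eqc rfl L546942 rfl).symm
theorem L546949 : sm ge N23636 = N29820 := trfs L546943 L366169 rfl
theorem L546953 : sm gd N43471 = N31174 := trfs L546937 L384559 rfl
theorem L546959 : sm gi N43471 = N31295 := trfs L546937 L384563 rfl
theorem L546961 : sm ga N29817 = N21426 := trfs L508280 L264427 rfl
theorem L546963 : sm gb N29817 = N45472 := trfs L508280 (flp_b L384549) rfl
theorem L546964 : N45472 = N43466 := eqes L546963 L367582
theorem L546965 : N45472 = N43466 := eqc rfl L546964 rfl
theorem L546967 : sm gd N29817 = N21405 := trfs L508280 L264431 rfl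
theorem L546973 : sm gd N43466 = N31173 := trfs L546965 L384551 rfl
theorem L546976 : sm gi N43466 = N31294 := trfs L546965 L384553 rfl
theorem L546979 : sm gi N21493 = N29817 := trfs L508264 (flp_i L367596) rfl
theorem L546992 : sm ga N21458 = N29424 := trfs L508221 L362340 rfl
theorem L546996 : sm gh N21458 = N29491 := trfs L508221 L362348 rfl
theorem L546999 : sm ge N23639 = N29452 := trfs L508218 L361992 rfl
theorem L547018 : sm ga N42895 = N31231 := trfs L508215 L384870 rfl
theorem L547021 : sm ge N42919 = N33821 := trfs L508197 (flp_e L508086) rfl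
theorem L547028 : sm gh N42893 = N30739 := trfs L508189 L384579 L502479
theorem L547030 : N42893 = N44824 := eqes (flp_h L547028) (flp_h L379268)
theorem L547031 : N44824 = N42893 := (eqc rfl L547030 rfl).symm
theorem L547032 : sm ga N42893 = N30769 := trfs L547031 L379265 rfl
theorem L547037 : sm ge N42893 = N30731 := trfs L547031 (flp_e L379263) rfl
theorem L547040 : sm gh N42893 = N30739 := trfs L547031 L379268 rfl
theorem L547051 : sm ge N20237 = N16226 := trfs L508185 L181930 rfl
theorem L547055 : sm ga N23235 = N29451 := trfs L508182 (flp_a L362967) rfl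
theorem L547057 : sm gc N23235 = N29465 := trfs L508182 L362969 rfl
theorem L547059 : sm gf N23235 = N31270 := trfs L508182 L362971 rfl
theorem L547074 : sm gc N20251 = N14911 := trfs L508157 L184277 rfl
theorem L547093 : sm gc N20502 = N14754 := trfs L508149 (flp_c L182497) rfl
theorem L547105 : sm gi N10157 = N14088 := trfs L508146 (flp_i L174125) rfl
theorem L547110 : sm gb N33830 = N23636 := trfs L508108 L292015 rfl
theorem L547117 : N34533 = N33830 := L508072.trans L508108
theorem L547118 : sm ga N29720 = N23243 := trfs L508099 L287020 rfl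
theorem L547120 : sm gc N29720 = N23202 := trfs L508099 (flp_c L287018) rfl
theorem L547125 : sm gb N23197 = N16226 := trfs L508090 L200894 rfl
theorem L547140 : sm gi N33830 = N23681 := trfs L547117 (flp_i L292858) rfl
theorem L547146 : sm gc N15931 = N20420 := trfs L508069 L428020 rfl
theorem L547154 : sm gi N15931 = N11174 := trfs L508069 (flp_i L138726) rfl
theorem L547156 : sm gb N33828 = N23635 := trfs L508066 L292006 rfl
theorem L547170 : sm ga N23681 = N33788 := trfs L508049 (flp_a L286627) rfl
theorem L547172 : sm gb N23681 = N16313 := trfs L508049 L201845 rfl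
theorem L547173 : N16313 = N33730 := eqes L547172 (flp_b L286152)
theorem L547174 : N33730 = N16313 := (eqc rfl L547173 rfl).symm
theorem L547176 : sm ge N23681 = N31295 := trfs L508049 (flp_e L265294) rfl
theorem L547177 : N31295 = N34532 := eqes L547176 L292851
theorem L547178 : N34532 = N31295 := (eqc rfl L547177 rfl).symm
theorem L547182 : sm ge N31295 = N23681 := trfs L547178 (flp_e L292851) rfl
theorem L547186 : sm gb N16313 = N23681 := trfs L547174 L286152 rfl
theorem L547191 : sm ga N23679 = N33787 := trfs L508045 (flp_a L286618) rfl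
theorem L547192 : N33787 = N34471 := eqes L547191 (flp_a L292342)
theorem L547193 : N34471 = N33787 := (eqc rfl L547192 rfl).symm
theorem L547194 : sm gb N23679 = N16312 := trfs L508045 L201838 rfl
theorem L547196 : sm ge N23679 = N34597 := trfs L508045 L293366 rfl
theorem L547197 : N34597 = N34529 := eqes L547196 L292834
theorem L547198 : N34597 = N34529 := eqc rfl L547197 rfl
theorem L547203 : sm gf N34529 = N45655 := trfs L547198 (flp_f L386035) rfl
theorem L547206 : sm ga N33787 = N23679 := trfs L547193 L292342 rfl
theorem L547214 : sm ge N21475 = N16256 := trfs L508042 (flp_e L201456) rfl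
theorem L547220 : sm ga N23683 = N33785 := trfs L508038 (flp_a L286600) rfl
theorem L547227 : sm gb N34514 = N23765 := trfs L508027 L293388 rfl
theorem L547229 : sm ge N34514 = N45658 := trfs L508027 (flp_e L386055) rfl
theorem L547232 : sm gb N34512 = N23764 := trfs L508024 L293381 rfl
theorem L547237 : sm ge N31296 = N23672 := trfs L508021 (flp_e L292749) rfl
theorem L547241 : sm gb N34516 = N23935 := trfs L508015 L293344 rfl
theorem L547244 : sm gb N16314 = N23672 := trfs L508012 L286075 rfl
theorem L547246 : sm gd N16314 = N23129 := trfs L508012 (flp_d L286073) rfl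
theorem L547250 : sm ga N33789 = N23672 := trfs L508009 L292279 rfl
theorem L547252 : sm gd N33789 = N23637 := trfs L508009 (flp_d L292277) rfl
theorem L547261 : sm gb N23674 = N16443 := trfs L507995 L201830 rfl
theorem L547266 : sm gb N33825 = N23639 := trfs L507985 L292038 rfl
theorem L547270 : sm gb N34518 = N23767 := trfs L507981 L293403 rfl
theorem L547272 : sm ge N34518 = N45660 := trfs L507981 (flp_e L386072) rfl
theorem L547277 : sm gb N34521 = N23937 := trfs L507972 L293360 rfl
theorem L547279 : sm ge N34521 = N42942 := trfs L507972 (flp_e L386028) L490872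
theorem L547283 : sm gb N16316 = N23676 := trfs L507969 L286106 rfl
theorem L547290 : sm ga N33791 = N23676 := trfs L507966 L292314 rfl
theorem L547292 : sm gd N33791 = N23639 := trfs L507966 L292316 rfl
theorem L547297 : sm gb N45561 = N31328 := trfs L507945 L386062 rfl
theorem L547299 : sm gd N45561 = N31296 := trfs L507945 (flp_d L386060) rfl
theorem L547301 : sm gf N42949 = N31230 := trfs L507942 (flp_f L385350) rfl
theorem L547307 : sm gc N21476 = N29845 := trfs L507939 L420212 rfl
theorem L547309 : sm gd N21476 = N31230 := trfs L507939 (flp_d L264804) rfl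
theorem L547311 : sm ge N21476 = N16251 := trfs L507939 (flp_e L201393) rfl
theorem L547319 : sm gb N21496 = N31230 := trfs L507933 L420371 rfl
theorem L547321 : sm gc N21496 = N29976 := trfs L507933 L367689 rfl
theorem L547327 : sm ga N42894 = N31230 := trfs L534649 L384861 rfl
theorem L547331 : sm ga N30664 = N21534 := trfs L507920 L265583 rfl
theorem L547333 : sm ge N30664 = N21496 := trfs L507920 (flp_e L265581) rfl
theorem L547338 : sm ga N21437 = N30715 := trfs L507907 (flp_a L260519) rfl
theorem L547343 : sm gf N21437 = N29474 := trfs L507907 (flp_f L249873) rfl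
theorem L547351 : sm ge N21408 = N30715 := trfs L507899 (flp_e L379019) rfl
theorem L547354 : sm ga N31245 = N44799 := trfs L507892 (flp_a L379030) rfl
theorem L547359 : sm gf N31245 = N42958 := trfs L507892 (flp_f L363275) rfl
theorem L547362 : sm gh N31245 = N45678 := trfs L507892 L386196 rfl
theorem L547363 : N45678 = N45592 := eqes L547362 L385516
theorem L547364 : N45678 = N45592 := eqc rfl L547363 rfl
theorem L547365 : sm gb N45592 = N31347 := trfs L547364 L386198 rfl
theorem L547376 : sm ga N21549 = N30673 := trfs L507868 L378167 rfl
theorem L547380 : sm ga N30690 = N22107 := trfs L507842 L272364 rfl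
theorem L547381 : N22107 = N44711 := eqes L547380 (flp_a L378315)
theorem L547382 : N44711 = N22107 := (eqc rfl L547381 rfl).symm
theorem L547383 : sm ge N30690 = N22062 := trfs L507842 (flp_e L272362) rfl
theorem L547386 : sm ga N22107 = N30690 := trfs L547382 L378315 rfl
theorem L547395 : sm ge N15156 = N21071 := trfs L507839 L259651 rfl
theorem L547406 : sm ga N30671 = N21546 := trfs L507836 L265677 rfl
theorem L547408 : sm gb N30671 = N45738 := trfs L507836 (flp_b L386706) rfl
theorem L547409 : N45738 = N44734 := eqes L547408 L378505
theorem L547410 : N45738 = N44734 := eqc rfl L547409 rfl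
theorem L547412 : sm ge N30671 = N21503 := trfs L507836 (flp_e L265675) rfl
theorem L547413 : N21503 = N44735 := eqes L547412 L378512
theorem L547414 : N44735 = N21503 := (eqc rfl L547413 rfl).symm
theorem L547418 : sm ge N21503 = N30671 := trfs L547414 (flp_e L378512) rfl
theorem L547422 : sm ge N44734 = N31342 := trfs L547410 (flp_e L386704) rfl
theorem L547425 : sm ge N30692 = N22065 := trfs L507832 (flp_e L272415) rfl
theorem L547429 : sm ga N42151 = N31409 := trfs L507821 L386720 rfl
theorem L547433 : sm ga N19900 = N15192 := trfs L507783 L187420 rfl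
theorem L547456 : sm ga N15190 = N21071 := trfs L507770 L260051 rfl
theorem L547467 : sm ga N14480 = N10449 := trfs L507766 L129068 rfl
theorem L547475 : sm ga N22119 = N28950 := trfs L507758 L356217 rfl
theorem L547481 : sm ga N22116 = N30693 := trfs L507753 L378336 rfl
theorem L547485 : sm gd N30761 = N22120 := trfs L507742 (flp_d L273081) rfl
theorem L547489 : sm gh N30761 = N22130 := trfs L507742 L273087 rfl
theorem L547490 : N22130 = N21116 := eqes L547489 (flp_h L260918)
theorem L547491 : N22130 = N21116 := eqc rfl L547490 rfl
theorem L547507 : sm gi N21116 = N16669 := trfs L547491 L187931 rfl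
theorem L547508 : N16669 = N14509 := eqes L547507 (flp_i L179537)
theorem L547509 : N16669 = N14509 := eqc rfl L547508 rfl
theorem L547514 : sm gc N14509 = N24250 := trfs L547509 L206115 rfl
theorem L547515 : N24250 = N21115 := eqes L547514 L179530
theorem L547516 : N24250 = N21115 := eqc rfl L547515 rfl
theorem L547521 : sm gf N14509 = N24249 := trfs L547509 (flp_f L206111) rfl
theorem L547522 : N24249 = N19929 := eqes L547521 (flp_f L169335)
theorem L547523 : N24249 = N19929 := eqc rfl L547522 rfl
theorem L547564 : sm gc N19929 = N32366 := trfs L547523 (flp_c L443158) rfl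
theorem L547565 : N32366 = N28993 := eqes L547564 L245739
theorem L547566 : N32366 = N28993 := eqc rfl L547565 rfl
theorem L547568 : sm ge N19929 = N32365 := trfs L547523 (flp_e L391758) rfl
theorem L547569 : N32365 = N28589 := eqes L547568 (flp_e L242103)
theorem L547570 : N32365 = N28589 := eqc rfl L547569 rfl
theorem L547581 : sm gc N28589 = N22219 := trfs L547570 (flp_c L274146) rfl
theorem L547582 : N22219 = N41637 := eqes L547581 L351703
theorem L547583 : N41637 = N22219 := (eqc rfl L547582 rfl).symm
theorem L547584 : sm gd N28589 = N22251 := trfs L547570 L274152 rfl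
theorem L547585 : N22251 = N19660 := eqes L547584 (flp_d L242096)
theorem L547586 : N22251 = N19660 := eqc rfl L547585 rfl
theorem L547594 : sm gc N19660 = N15295 := trfs L547586 (flp_c L188923) rfl
theorem L547595 : N15295 = N28579 := eqes L547594 (flp_c L242008)
theorem L547596 : N28579 = N15295 := (eqc rfl L547595 rfl).symm
theorem L547601 : sm gg N19660 = N32404 := trfs L547586 (flp_g L274459) rfl
theorem L547602 : N32404 = N28588 := eqes L547601 (flp_g L242094)
theorem L547603 : N32404 = N28588 := eqc rfl L547602 rfl
theorem L547605 : sm gh N19660 = N15327 := trfs L547586 L188927 rfl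
theorem L547606 : N15327 = N13533 := eqes L547605 (flp_h L166911)
theorem L547607 : N15327 = N13533 := eqc rfl L547606 rfl
theorem L547608 : sm gi N19660 = N32252 := trfs L547586 (flp_i L391755) rfl
theorem L547609 : N32252 = N28590 := eqes L547608 L242106
theorem L547610 : N32252 = N28590 := eqc rfl L547609 rfl
theorem L547612 : sm gc N28590 = N22176 := trfs L547610 L391750 rfl
theorem L547613 : N22176 = N41623 := eqes L547612 (flp_c L351575)
theorem L547614 : N41623 = N22176 := (eqc rfl L547613 rfl).symm
theorem L547619 : sm ga N22176 = N28599 := trfs L547614 L351573 rfl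
theorem L547620 : N28599 = N32307 := eqes L547619 (flp_a L273668)
theorem L547621 : N32307 = N28599 := (eqc rfl L547620 rfl).symm
theorem L547622 : sm gc N22176 = N28590 := trfs L547614 L351575 rfl
theorem L547624 : sm ge N22176 = N28583 := trfs L547614 L351577 rfl
theorem L547625 : N28583 = N32251 := eqes L547624 (flp_e L391619)
theorem L547626 : N32251 = N28583 := (eqc rfl L547625 rfl).symm
theorem L547631 : sm gb N28583 = N22177 := trfs L547626 L391617 rfl
theorem L547632 : N22177 = N41613 := eqes L547631 (flp_b L351489)
theorem L547633 : N41613 = N22177 := (eqc rfl L547632 rfl).symm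
theorem L547636 : sm ge N28583 = N22176 := trfs L547626 L391619 rfl
theorem L547643 : sm gi N28583 = N22252 := trfs L547626 (flp_i L391647) rfl
theorem L547644 : N22252 = N19656 := eqes L547643 (flp_i L242041)
theorem L547645 : N22252 = N19656 := eqc rfl L547644 rfl
theorem L547649 : sm gb N19656 = N15296 := trfs L547645 L188932 rfl
theorem L547650 : N15296 = N28574 := eqes L547649 (flp_b L241964)
theorem L547651 : N28574 = N15296 := (eqc rfl L547650 rfl).symm
theorem L547663 : sm gh N19656 = N15328 := trfs L547645 L188935 rfl
theorem L547664 : N15328 = N13531 := eqes L547663 (flp_h L166876)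
theorem L547665 : N15328 = N13531 := eqc rfl L547664 rfl
theorem L547674 : sm ge N13531 = N10552 := trfs L547665 (flp_e L130477) rfl
theorem L547675 : N10552 = N19654 := eqes L547674 L166859
theorem L547676 : N19654 = N10552 := (eqc rfl L547675 rfl).symm
theorem L547680 : sm gg N13531 = N22291 := trfs L547665 (flp_g L189268) rfl
theorem L547681 : N22291 = N19655 := eqes L547680 L166868
theorem L547682 : N22291 = N19655 := eqc rfl L547681 rfl
theorem L547693 : sm ge N19655 = N15324 := trfs L547682 (flp_e L189264) rfl
theorem L547694 : N15324 = N28578 := eqes L547693 (flp_e L242001)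
theorem L547695 : N28578 = N15324 := (eqc rfl L547694 rfl).symm
theorem L547699 : sm gj N19655 = N32459 := trfs L547682 (flp_j L274920) rfl
theorem L547700 : N32459 = N28580 := eqes L547699 L242014
theorem L547701 : N32459 = N28580 := eqc rfl L547700 rfl
theorem L547709 : sm ge N28580 = N22287 := trfs L547701 (flp_e L274915) rfl
theorem L547710 : N22287 = N41620 := eqes L547709 (flp_e L351551)
theorem L547711 : N41620 = N22287 := (eqc rfl L547710 rfl).symm
theorem L547717 : sm gc N22287 = N28587 := trfs L547711 L351549 rfl
theorem L547718 : N28587 = N32458 := eqes L547717 L274907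
theorem L547719 : N32458 = N28587 := (eqc rfl L547718 rfl).symm
theorem L547731 : sm gj N28587 = N22290 := trfs L547719 L274910 rfl
theorem L547732 : N22290 = N19659 := eqes L547731 (flp_j L242077)
theorem L547733 : N22290 = N19659 := eqc rfl L547732 rfl
theorem L547743 : sm gf N19659 = N32449 := trfs L547733 (flp_f L274841) rfl
theorem L547744 : N32449 = N28586 := eqes L547743 L242069
theorem L547745 : N32449 = N28586 := eqc rfl L547744 rfl
theorem L547750 : sm gc N28586 = N22280 := trfs L547745 (flp_c L274839) rfl
theorem L547751 : N22280 = N41619 := eqes L547750 (flp_c L351541)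
theorem L547752 : N41619 = N22280 := (eqc rfl L547751 rfl).symm
theorem L547756 : sm ga N22280 = N28595 := trfs L547752 L351539 rfl
theorem L547757 : N28595 = N32443 := eqes L547756 (flp_a L274797)
theorem L547758 : N32443 = N28595 := (eqc rfl L547757 rfl).symm
theorem L547770 : sm gf N28595 = N22289 := trfs L547758 L274800 rfl
theorem L547771 : N22289 = N19665 := eqes L547770 (flp_f L242151)
theorem L547772 : N22289 = N19665 := eqc rfl L547771 rfl
theorem L547783 : sm gg N19665 = N15326 := trfs L547772 L189254 rfl
theorem L547784 : N15326 = N13538 := eqes L547783 (flp_g L166957)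
theorem L547785 : N15326 = N13538 := eqc rfl L547784 rfl
theorem L547787 : sm gh N19665 = N32403 := trfs L547772 (flp_h L274455) rfl
theorem L547788 : N32403 = N28597 := eqes L547787 L242167
theorem L547789 : N32403 = N28597 := eqc rfl L547788 rfl
theorem L547791 : sm ga N28597 = N22248 := trfs L547789 L274450 rfl
theorem L547792 : N22248 = N41621 := eqes L547791 (flp_a L351557)
theorem L547793 : N41621 = N22248 := (eqc rfl L547792 rfl).symm
theorem L547798 : sm gg N28597 = N22250 := trfs L547789 L274453 rfl
theorem L547799 : N22250 = N19666 := eqes L547798 L242174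
theorem L547800 : N22250 = N19666 := eqc rfl L547799 rfl
theorem L547805 : sm gd N19666 = N15294 := trfs L547800 (flp_d L188914) rfl
theorem L547806 : N15294 = N28598 := eqes L547805 L242176
theorem L547807 : N28598 = N15294 := (eqc rfl L547806 rfl).symm
theorem L547817 : sm gc N15294 = N41650 := trfs L547807 L351814 rfl
theorem L547818 : N41650 = N22218 := eqes L547817 (flp_c L188665)
theorem L547819 : N41650 = N22218 := eqc rfl L547818 rfl
theorem L547820 : sm gd N15294 = N19666 := trfs L547807 (flp_d L242176) rfl
theorem L547822 : sm ge N15294 = N41651 := trfs L547807 L351820 rfl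
theorem L547823 : N41651 = N21826 := eqes L547822 (flp_e L185357)
theorem L547824 : N41651 = N21826 := eqc rfl L547823 rfl
theorem L547939 : sm gd N21826 = N28603 := trfs L547824 L351824 rfl
theorem L547940 : N28603 = N31798 := eqes L547939 L269358
theorem L547941 : N31798 = N28603 := (eqc rfl L547940 rfl).symm
theorem L547943 : sm ga N28603 = N21827 := trfs L547941 L269360 rfl
theorem L547944 : N21827 = N41627 := eqes L547943 (flp_a L351611)
theorem L547945 : N41627 = N21827 := (eqc rfl L547944 rfl).symm
theorem L547947 : sm gd N28603 = N21826 := trfs L547941 (flp_d L269358) rfl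
theorem L547949 : sm gf N28603 = N43724 := trfs L547941 (flp_f L369755) rfl
theorem L547950 : N43724 = N41657 := eqes L547949 L351868
theorem L547951 : N43724 = N41657 := eqc rfl L547950 rfl
theorem L547954 : sm gi N28603 = N45915 := trfs L547941 (flp_i L388141) rfl
theorem L547955 : N45915 = N41658 := eqes L547954 L351877
theorem L547956 : N45915 = N41658 := eqc rfl L547955 rfl
theorem L547957 : sm ga N41658 = N31470 := trfs L547956 L388137 rfl
theorem L547960 : sm gd N41658 = N31469 := trfs L547956 (flp_d L388135) rfl
theorem L547963 : sm ga N41657 = N29999 := trfs L547951 L369752 rfl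
theorem L547966 : sm gd N41657 = N29998 := trfs L547951 (flp_d L369750) rfl
theorem L547970 : sm ga N21827 = N28603 := trfs L547945 L351611 rfl
theorem L547978 : sm gd N22218 = N28613 := trfs L547819 L351818 rfl
theorem L547979 : N28613 = N32364 := eqes L547978 L274139
theorem L547980 : N32364 = N28613 := (eqc rfl L547979 rfl).symm
theorem L547985 : sm gd N28613 = N22218 := trfs L547980 (flp_d L274139) rfl
theorem L547996 : sm ga N22248 = N28597 := trfs L547793 L351557 rfl
theorem L548007 : sm gc N13538 = N22293 := trfs L547785 L189278 rfl
theorem L548008 : N22293 = N9342 := eqes L548007 L115260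
theorem L548009 : N22293 = N9342 := eqc rfl L548008 rfl
theorem L548010 : sm gd N13538 = N10551 := trfs L547785 (flp_d L130462) rfl
theorem L548021 : sm ge N9342 = N16843 := trfs L548009 (flp_e L391788) rfl
theorem L548022 : N16843 = N6455 := eqes L548021 (flp_e L79796)
theorem L548023 : N16843 = N6455 := eqc rfl L548022 rfl
theorem L548040 : sm gh N6455 = N24238 := trfs L548023 (flp_h L206035) rfl
theorem L548041 : N24238 = N9344 := eqes L548040 L79811
theorem L548042 : N24238 = N9344 := eqc rfl L548041 rfl
theorem L548056 : sm gi N9344 = N32178 := trfs L548042 (flp_i L272592) rfl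
theorem L548057 : N32178 = N13547 := eqes L548056 L115327
theorem L548058 : N32178 = N13547 := eqc rfl L548057 rfl
theorem L548061 : sm gf N13547 = N22082 := trfs L548058 L272589 rfl
theorem L548062 : N22082 = N9345 := eqes L548061 L115333
theorem L548063 : N22082 = N9345 := eqc rfl L548062 rfl
theorem L548075 : sm gg N9345 = N31990 := trfs L548063 (flp_g L271055) rfl
theorem L548076 : N31990 = N13523 := eqes L548075 (flp_g L115129)
theorem L548077 : N31990 = N13523 := eqc rfl L548076 rfl
theorem L548087 : sm gi N13523 = N24130 := trfs L548077 L271057 rfl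
theorem L548088 : N24130 = N9329 := eqes L548087 (flp_i L115122)
theorem L548089 : N24130 = N9329 := eqc rfl L548088 rfl
theorem L548104 : sm gh N9329 = N16797 := trfs L548089 L205191 rfl
theorem L548105 : N16797 = N6446 := eqes L548104 (flp_h L79683)
theorem L548106 : N16797 = N6446 := eqc rfl L548105 rfl
theorem L548116 : sm gd N6446 = N11563 := trfs L548106 (flp_d L143216) rfl
theorem L548117 : N11563 = N4467 := eqes L548116 (flp_d L55262)
theorem L548118 : N11563 = N4467 := eqc rfl L548117 rfl
theorem L548124 : sm gj N6446 = N24310 := trfs L548106 (flp_j L206662) rfl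
theorem L548125 : N24310 = N9319 := eqes L548124 (flp_j L79597)
theorem L548126 : N24310 = N9319 := eqc rfl L548125 rfl
theorem L548132 : sm gc N9319 = N35409 := trfs L548126 L300133 rfl
theorem L548133 : N35409 = N13505 := eqes L548132 L114961
theorem L548134 : N35409 = N13505 := eqc rfl L548133 rfl
theorem L548147 : sm ga N13505 = N24360 := trfs L548134 L300135 rfl
theorem L548148 : N24360 = N19611 := eqes L548147 (flp_a L166477)
theorem L548149 : N24360 = N19611 := eqc rfl L548148 rfl
theorem L548168 : sm gh N19611 = N35031 := trfs L548149 (flp_h L296986) rfl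
theorem L548169 : N35031 = N28513 := eqes L548168 L241417
theorem L548170 : N35031 = N28513 := eqc rfl L548169 rfl
theorem L548175 : sm gj N28513 = N24181 := trfs L548170 L296984 rfl
theorem L548176 : N24181 = N19629 := eqes L548175 L241425
theorem L548177 : N24181 = N19629 := eqc rfl L548176 rfl
theorem L548185 : sm gf N19629 = N35229 := trfs L548177 (flp_f L298602) rfl
theorem L548186 : N35229 = N28540 := eqes L548185 (flp_f L241675)
theorem L548187 : N35229 = N28540 := eqc rfl L548186 rfl
theorem L548201 : sm gh N28540 = N24469 := trfs L548187 L298604 rfl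
theorem L548202 : N24469 = N19628 := eqes L548201 (flp_h L241669)
theorem L548203 : N24469 = N19628 := eqc rfl L548202 rfl
theorem L548207 : sm gb N19628 = N32465 := trfs L548203 (flp_b L391963) rfl
theorem L548208 : N32465 = N28536 := eqes L548207 (flp_b L241637)
theorem L548209 : N32465 = N28536 := eqc rfl L548208 rfl
theorem L548286 : sm gf N28536 = N22297 := trfs L548209 L274969 rfl
theorem L548287 : N22297 = N19627 := eqes L548286 (flp_f L241634)
theorem L548288 : N22297 = N19627 := eqc rfl L548287 rfl
theorem L548307 : sm gg N19627 = N15329 := trfs L548288 (flp_g L189309) rfl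
theorem L548308 : N15329 = N13530 := eqes L548307 L166632
theorem L548309 : N15329 = N13530 := eqc rfl L548308 rfl
theorem L548321 : sm gh N13530 = N22253 := trfs L548309 (flp_h L188942) rfl
theorem L548322 : N22253 = N19653 := eqes L548321 L166851
theorem L548323 : N22253 = N19653 := eqc rfl L548322 rfl
theorem L548328 : sm gd N19653 = N31801 := trfs L548323 (flp_d L269380) rfl
theorem L548329 : N31801 = N28575 := eqes L548328 L241970
theorem L548330 : N31801 = N28575 := eqc rfl L548329 rfl
theorem L548336 : sm gi N19653 = N32253 := trfs L548323 (flp_i L391919) rfl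
theorem L548337 : N32253 = N28576 := eqes L548336 L241977
theorem L548338 : N32253 = N28576 := eqc rfl L548337 rfl
theorem L548342 : sm gd N28576 = N45861 := trfs L548338 (flp_d L387668) rfl
theorem L548343 : N45861 = N41616 := eqes L548342 (flp_d L351517)
theorem L548344 : N45861 = N41616 := eqc rfl L548343 rfl
theorem L548354 : sm gf N41616 = N31471 := trfs L548344 L391922 rfl
theorem L548404 : sm gc N28575 = N46162 := trfs L548330 (flp_c L390139) rfl
theorem L548405 : N46162 = N41614 := eqes L548404 L351496
theorem L548406 : N46162 = N41614 := eqc rfl L548405 rfl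
theorem L548407 : sm ge N28575 = N43727 := trfs L548330 (flp_e L369778) rfl
theorem L548408 : N43727 = N41615 := eqes L548407 L351504
theorem L548409 : N43727 = N41615 := eqc rfl L548408 rfl
theorem L548410 : sm gf N28575 = N21828 := trfs L548330 (flp_f L269377) rfl
theorem L548411 : N21828 = N41612 := eqes L548410 (flp_f L351482)
theorem L548412 : N41612 = N21828 := (eqc rfl L548411 rfl).symm
theorem L548419 : sm gf N21828 = N28575 := trfs L548412 L351482 rfl
theorem L548425 : sm gf N41615 = N30000 := trfs L548409 (flp_f L369772) rfl
theorem L548431 : sm gf N41614 = N31637 := trfs L548406 (flp_f L390136) rfl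
theorem L548492 : sm ge N4467 = N7974 := trfs L548118 L98949 rfl
theorem L548493 : N7974 = N3100 := eqes L548492 (flp_e L38448)
theorem L548494 : N7974 = N3100 := eqc rfl L548493 rfl
theorem L548521 : sm gj N3100 = N11501 := trfs L548494 (flp_j L98422) rfl
theorem L548522 : N11501 = N4463 := eqes L548521 (flp_j L38411)
theorem L548523 : N11501 = N4463 := eqc rfl L548522 rfl
theorem L548533 : sm gf N4463 = N16705 := trfs L548523 (flp_f L142448) rfl
theorem L548534 : N16705 = N6432 := eqes L548533 (flp_f L55126)
theorem L548535 : N16705 = N6432 := eqc rfl L548534 rfl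
theorem L548539 : sm ga N6432 = N11521 := trfs L548535 L142445 rfl
theorem L548540 : N11521 = N9306 := eqes L548539 L79469
theorem L548541 : N11521 = N9306 := eqc rfl L548540 rfl
theorem L548602 : sm gh N9306 = N7944 := trfs L548541 (flp_h L98590) rfl
theorem L548603 : N7944 = N6471 := eqes L548602 L79477
theorem L548604 : N7944 = N6471 := eqc rfl L548603 rfl
theorem L548613 : sm gj N6471 = N5516 := trfs L548604 L68266 rfl
theorem L548614 : N5516 = N4489 := eqes L548613 L55496
theorem L548615 : N5516 = N4489 := eqc rfl L548614 rfl
theorem L548616 : sm gi N6471 = N5486 := trfs L548604 (flp_i L68258) rfl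
theorem L548617 : N5486 = N9360 := eqes L548616 (flp_i L79966)
theorem L548618 : N9360 = N5486 := (eqc rfl L548617 rfl).symm
theorem L548627 : sm gj N5486 = N6476 := trfs L548618 L79963 rfl
theorem L548628 : N6476 = N3818 := eqes L548627 L47344
theorem L548629 : N6476 = N3818 := eqc rfl L548628 rfl
theorem L548631 : sm gi N5486 = N6471 := trfs L548618 L79966 rfl
theorem L548638 : sm ge N3818 = N9372 := trfs L548629 L80068 rfl
theorem L548639 : N9372 = N5515 := eqes L548638 L47594
theorem L548640 : N9372 = N5515 := eqc rfl L548639 rfl
theorem L548641 : sm gf N3818 = N4502 := trfs L548629 L55535 rfl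
theorem L548642 : N4502 = N2649 := eqes L548641 L33116
theorem L548643 : N4502 = N2649 := eqc rfl L548642 rfl
theorem L548657 : sm gi N2649 = N3126 := trfs L548643 L38770 rfl
theorem L548658 : N3126 = N3821 := eqes L548657 L33137
theorem L548659 : N3821 = N3126 := (eqc rfl L548658 rfl).symm
theorem L548669 : sm gi N3126 = N2649 := trfs L548659 (flp_i L33137) rfl
theorem L548671 : sm ga N5515 = N6477 := trfs L548640 L80070 rfl
theorem L548672 : N6477 = N7970 := eqes L548671 (flp_a L68487)
theorem L548673 : N7970 = N6477 := (eqc rfl L548672 rfl).symm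
theorem L548681 : sm gi N5515 = N6481 := trfs L548640 L80076 rfl
theorem L548682 : N6481 = N7983 := eqes L548681 L68580
theorem L548683 : N7983 = N6481 := (eqc rfl L548682 rfl).symm
theorem L548697 : sm gi N6481 = N5515 := trfs L548683 (flp_i L68580) rfl
theorem L548717 : sm ga N6477 = N5515 := trfs L548673 L68487 rfl
theorem L548745 : sm gi N4489 = N3818 := trfs L548615 (flp_i L47600) rfl
theorem L548947 : sm ga N15324 = N19665 := trfs L547695 L241997 rfl
theorem L548949 : sm gc N15324 = N19659 := trfs L547695 L241999 rfl
theorem L548951 : sm ge N15324 = N19655 := trfs L547695 L242001 rfl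
theorem L548979 : sm ga N10552 = N13538 := trfs L547676 L166861 rfl
theorem L549015 : sm gb N15296 = N19656 := trfs L547651 L241964 rfl
theorem L549029 : sm gb N22177 = N28583 := trfs L547633 L351489 rfl
theorem L549032 : sm gf N22177 = N28576 := trfs L547633 L351492 rfl
theorem L549036 : sm ga N28599 = N22176 := trfs L547621 L273668 rfl
theorem L549039 : sm gd N28599 = N22175 := trfs L547621 (flp_d L273666) rfl
theorem L549045 : sm gc N13533 = N10552 := trfs L547607 (flp_c L130470) rfl
theorem L549053 : sm gc N28588 = N22248 := trfs L547603 (flp_c L274457) rfl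
theorem L549063 : sm ga N15295 = N19666 := trfs L547596 L242006 rfl
theorem L549065 : sm gc N15295 = N19660 := trfs L547596 L242008 rfl
theorem L549067 : sm ge N15295 = N19656 := trfs L547596 L242010 rfl
theorem L549073 : sm ga N22219 = N28613 := trfs L547583 L351705 rfl
theorem L549075 : sm gc N22219 = N28589 := trfs L547583 (flp_c L351703) rfl
theorem L549082 : sm gb N28993 = N22220 := trfs L547566 L274156 rfl
theorem L549083 : N22220 = N42239 := eqes L549082 L357128
theorem L549084 : N42239 = N22220 := (eqc rfl L549083 rfl).symm
theorem L549085 : sm ge N28993 = N22219 := trfs L547566 (flp_e L274154) rfl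
theorem L549090 : sm gb N22220 = N28993 := trfs L549084 (flp_b L357128) rfl
theorem L549093 : sm gf N22220 = N30759 := trfs L549084 L357130 rfl
theorem L549094 : N30759 = N32367 := eqes L549093 L274160
theorem L549095 : N32367 = N30759 := (eqc rfl L549094 rfl).symm
theorem L549100 : sm gf N30759 = N22220 := trfs L549095 (flp_f L274160) rfl
theorem L549123 : sm gd N21115 = N34731 := trfs L547516 (flp_d L294420) rfl
theorem L549124 : N34731 = N30738 := eqes L549123 (flp_d L260729)
theorem L549125 : N34731 = N30738 := eqc rfl L549124 rfl
theorem L549134 : sm gi N30738 = N45856 := trfs L549125 (flp_i L387633) rfl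
theorem L549135 : N45856 = N44837 := eqes L549134 L379365
theorem L549136 : N45856 = N44837 := eqc rfl L549135 rfl
theorem L549137 : sm gc N44837 = N31424 := trfs L549136 (flp_c L387630) rfl
theorem L549138 : N31424 = N30740 := eqes L549137 L379369
theorem L549139 : N31424 = N30740 := eqc rfl L549138 rfl
theorem L549153 : sm gh N30740 = N45845 := trfs L549139 (flp_h L387546) rfl
theorem L549154 : N45845 = N44840 := eqes L549153 L379390
theorem L549155 : N45845 = N44840 := eqc rfl L549154 rfl
theorem L549157 : sm gd N44840 = N31414 := trfs L549155 (flp_d L387543) rfl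
theorem L549219 : sm gb N30627 = N22070 := trfs L507721 L272038 rfl
theorem L549229 : sm ge N22064 = N30691 := trfs L507713 L377713 rfl
theorem L549231 : sm ga N21072 = N15193 := trfs L507709 L187429 rfl
theorem L549234 : sm ge N21072 = N15158 := trfs L507709 L187433 rfl
theorem L549237 : sm ge N22067 = N30693 := trfs L507706 L377730 rfl
theorem L549242 : sm gb N21028 = N15158 := trfs L507703 L187154 rfl
theorem L549267 : sm gb N10425 = N14452 := trfs L507674 L178692 rfl
theorem L549269 : sm ge N10425 = N14480 := trfs L507674 L178696 rfl
theorem L549299 : sm gb N10422 = N14449 := trfs L507642 L178668 rfl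
theorem L549314 : sm gb N15151 = N21022 := trfs L507624 L259609 rfl
theorem L549333 : sm gb N14450 = N10423 := trfs L507614 L128876 rfl
theorem L549348 : sm gb N22057 = N30618 := trfs L507603 L377658 rfl
theorem L549350 : sm gb N22060 = N30621 := trfs L507599 L377682 rfl
theorem L549351 : N30621 = N32105 := eqes L549350 (flp_b L271948)
theorem L549352 : N32105 = N30621 := (eqc rfl L549351 rfl).symm
theorem L549353 : sm ge N22060 = N30688 := trfs L507599 L377687 rfl
theorem L549358 : sm gb N30621 = N22060 := trfs L549352 L271948 rfl
theorem L549376 : sm gb N14453 = N10426 := trfs L507566 L128905 rfl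
theorem L549385 : sm gb N30620 = N22059 := trfs L507563 L271938 rfl
theorem L549392 : sm gb N30624 = N22064 := trfs L507559 L271986 rfl
theorem L549396 : sm gb N15155 = N21026 := trfs L507555 L259642 rfl
theorem L549402 : sm gb N21024 = N15153 := trfs L507547 L187108 rfl
theorem L549408 : sm gb N9949 = N7182 := trfs L507544 L88946 rfl
theorem L549416 : sm gb N21023 = N15152 := trfs L507541 L187099 rfl
theorem L549421 : sm gb N21025 = N15154 := trfs L507538 L187119 rfl
theorem L549425 : sm gb N10424 = N14451 := trfs L507534 L178684 rfl
theorem L549429 : sm gb N9950 = N7183 := trfs L507514 L88956 rfl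
theorem L549444 : sm gb N9948 = N7181 := trfs L507508 L88936 rfl
theorem L549451 : sm gb N4958 = N6860 := trfs L507503 L85025 rfl
theorem L549459 : sm gb N6859 = N4957 := trfs L507493 L61505 rfl
theorem L549488 : sm gb N3427 = N4740 := trfs L507486 L58842 rfl
theorem L549496 : sm gb N2374 = N3281 := trfs L507461 L40832 rfl
theorem L549521 : sm gb N3428 = N4741 := trfs L507444 L58850 rfl
theorem L549561 : sm gb N4961 = N6862 := trfs L507427 L85041 rfl
theorem L549606 : sm gh N3729 = N4703 := trfs L507365 L58330 rfl
theorem L549610 : sm gb N6798 = N4914 := trfs L507361 (flp_b L60973) rfl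
theorem L549618 : sm gb N10324 = N14308 := trfs L507351 L176848 rfl
theorem L549624 : sm gb N9854 = N7116 := trfs L507346 L88151 rfl
theorem L549655 : sm gb N7143 = N9892 := trfs L507338 L122415 rfl
theorem L549662 : sm gb N3410 = N4716 := trfs L507335 L58540 rfl
theorem L549669 : sm gb N7142 = N9891 := trfs L507332 L122409 rfl
theorem L549692 : sm gb N6822 = N4931 := trfs L507323 L61206 rfl
theorem L549715 : sm gb N10365 = N14366 := trfs L507309 L177633 rfl
theorem L549720 : sm gb N9893 = N7144 := trfs L507303 L88501 rfl
theorem L549728 : sm gb N15073 = N20902 := trfs L507295 L258082 rfl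
theorem L549733 : sm gd N15073 = N20930 := trfs L507295 L258084 rfl
theorem L549734 : N20930 = N21945 := eqes L549733 (flp_d L186425)
theorem L549735 : N21945 = N20930 := (eqc rfl L549734 rfl).symm
theorem L549742 : sm gd N20930 = N15073 := trfs L549735 L186425 rfl
theorem L549755 : sm gb N15070 = N20900 := trfs L507291 L258064 rfl
theorem L549761 : sm gb N10328 = N14311 := trfs L507277 L176874 rfl
theorem L549770 : sm gb N21845 = N30307 := trfs L507274 L373665 rfl
theorem L549783 : sm ga N30337 = N21878 := trfs L507256 L269735 rfl
theorem L549784 : N21878 = N44208 := eqes L549783 (flp_a L373974)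
theorem L549785 : N44208 = N21878 := (eqc rfl L549784 rfl).symm
theorem L549786 : sm gc N30337 = N45081 := trfs L507256 (flp_c L381448) rfl
theorem L549787 : N45081 = N44218 := eqes L549786 (flp_c L374073)
theorem L549788 : N45081 = N44218 := eqc rfl L549787 rfl
theorem L549789 : sm gd N30337 = N21848 := trfs L507256 L269737 rfl
theorem L549794 : sm ga N44218 = N30935 := trfs L549788 L381446 rfl
theorem L549796 : sm gd N44218 = N30905 := trfs L549788 L381450 rfl
theorem L549801 : sm ga N21878 = N30337 := trfs L549785 L373974 rfl
theorem L549806 : sm gh N21878 = N30366 := trfs L549785 L373980 rfl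
theorem L549807 : N30366 = N31883 := eqes L549806 L270133
theorem L549808 : N31883 = N30366 := (eqc rfl L549807 rfl).symm
theorem L549815 : sm gh N30366 = N21878 := trfs L549808 (flp_h L270133) rfl
theorem L549817 : sm gi N30366 = N24035 := trfs L549808 L270140 rfl
theorem L549818 : N24035 = N20852 := eqes L549817 (flp_i L257543)
theorem L549819 : N24035 = N20852 := eqc rfl L549818 rfl
theorem L549826 : sm ge N20852 = N35023 := trfs L549819 (flp_e L296922) rfl
theorem L549827 : N35023 = N30362 := eqes L549826 (flp_e L257511)
theorem L549828 : N35023 = N30362 := eqc rfl L549827 rfl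
theorem L549835 : sm gh N30362 = N24034 := trfs L549828 (flp_h L296919) rfl
theorem L549836 : N24034 = N20849 := eqes L549835 (flp_h L257506)
theorem L549837 : N24034 = N20849 := eqc rfl L549836 rfl
theorem L549845 : sm gf N20849 = N35022 := trfs L549837 (flp_f L296917) rfl
theorem L549846 : N35022 = N30360 := eqes L549845 L257491
theorem L549847 : N35022 = N30360 := eqc rfl L549846 rfl
theorem L549876 : sm gi N30360 = N24033 := trfs L549847 (flp_i L296913) rfl
theorem L549877 : N24033 = N44202 := eqes L549876 (flp_i L373921)
theorem L549878 : N44202 = N24033 := (eqc rfl L549877 rfl).symm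
theorem L549885 : sm gi N24033 = N30360 := trfs L549878 L373921 rfl
theorem L549899 : sm gb N30309 = N21848 := trfs L507253 L269489 rfl
theorem L549956 : sm gb N10325 = N14309 := trfs L507214 L176856 rfl
theorem L549963 : sm gb N10366 = N14367 := trfs L507211 L177640 rfl
theorem L550084 : sm gb N21264 = N30512 := trfs L507022 L376280 rfl
theorem L550085 : N30512 = N30969 := eqes L550084 (flp_b L262695)
theorem L550086 : N30969 = N30512 := (eqc rfl L550085 rfl).symm
theorem L550089 : sm gb N30512 = N21264 := trfs L550086 L262695 rfl
theorem L550092 : sm gd N30512 = N45174 := trfs L550086 L382225 rfl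
theorem L550093 : N45174 = N44490 := eqes L550092 (flp_d L376433)
theorem L550094 : N45174 = N44490 := eqc rfl L550093 rfl
theorem L550099 : sm gj N30512 = N44967 := trfs L550086 (flp_j L380436) rfl
theorem L550100 : N44967 = N44263 := eqes L550099 (flp_j L374484)
theorem L550101 : N44967 = N44263 := eqc rfl L550100 rfl
theorem L550102 : sm gh N30512 = N21257 := trfs L550086 (flp_h L262693) rfl
theorem L550103 : N21257 = N22942 := eqes L550102 L258811
theorem L550104 : N22942 = N21257 := (eqc rfl L550103 rfl).symm
theorem L550110 : sm gd N21257 = N33436 := trfs L550104 (flp_d L283638) rfl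
theorem L550111 : N33436 = N30967 := eqes L550110 L262676
theorem L550112 : N33436 = N30967 := eqc rfl L550111 rfl
theorem L550119 : sm gh N21257 = N30512 := trfs L550104 (flp_h L258811) rfl
theorem L550128 : sm ga N30967 = N22966 := trfs L550112 L283636 rfl
theorem L550129 : N22966 = N44379 := eqes L550128 (flp_a L375492)
theorem L550130 : N44379 = N22966 := (eqc rfl L550129 rfl).symm
theorem L550131 : sm ge N30967 = N22937 := trfs L550112 (flp_e L283634) rfl
theorem L550132 : N22937 = N23417 := eqes L550131 L262682
theorem L550133 : N23417 = N22937 := (eqc rfl L550132 rfl).symm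
theorem L550136 : sm gb N22937 = N16085 := trfs L550133 L199272 rfl
theorem L550137 : N16085 = N33412 := eqes L550136 (flp_b L283430)
theorem L550138 : N33370 = N16085 := (eqc rfl L550137 L473908).symm
theorem L550148 : sm gh N22937 = N34139 := trfs L550133 L289694 rfl
theorem L550149 : N34139 = N33428 := eqes L550148 (flp_h L283573)
theorem L550150 : N34139 = N33428 := eqc rfl L550149 rfl
theorem L550153 : sm gb N33428 = N23428 := trfs L550150 L289696 rfl
theorem L550155 : sm ge N33428 = N45170 := trfs L550150 (flp_e L382196) rfl
theorem L550169 : sm ga N22966 = N30967 := trfs L550130 L375492 rfl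
theorem L550174 : sm gi N22966 = N30492 := trfs L550130 L375496 rfl
theorem L550175 : N30492 = N33481 := eqes L550174 L283993
theorem L550176 : N33481 = N30492 := (eqc rfl L550175 rfl).symm
theorem L550182 : sm gi N30492 = N22966 := trfs L550176 (flp_i L283993) rfl
theorem L550196 : sm gb N44263 = N30838 := trfs L550101 L380431 rfl
theorem L550200 : sm gh N44263 = N30831 := trfs L550101 (flp_h L380429) rfl
theorem L550202 : sm gb N44490 = N30982 := trfs L550094 L382227 rfl
theorem L550449 : sm ga N28970 = N20179 := trfs L506722 L248760 rfl
theorem L550451 : sm gb N28970 = N42749 := trfs L506722 (flp_b L361483) rfl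
theorem L550452 : N42749 = N41614 := eqes L550451 (flp_b L351501)
theorem L550453 : N42749 = N41614 := eqc rfl L550452 rfl
theorem L550456 : sm ge N28970 = N20165 := trfs L506722 (flp_e L248758) rfl
theorem L550473 : sm ge N41614 = N29335 := trfs L550453 (flp_e L361480) rfl
theorem L550481 : sm gb N20013 = N29088 := trfs L506670 L354052 rfl
theorem L550488 : sm gb N20086 = N29273 := trfs L506653 L360568 rfl
theorem L550489 : N29273 = N28834 := eqes L550488 (flp_b L244320)
theorem L550490 : N29273 = N28834 := eqc rfl L550489 rfl
theorem L550496 : sm ge N28834 = N42655 := trfs L550490 (flp_e L360746) rfl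
theorem L550497 : N42655 = N42003 := eqes L550496 L355030
theorem L550498 : N42655 = N42003 := eqc rfl L550497 rfl
theorem L550500 : sm gg N28834 = N42658 := trfs L550490 L360763 rfl
theorem L550501 : N42658 = N42001 := eqes L550500 (flp_g L355014)
theorem L550502 : N42658 = N42001 := eqc rfl L550501 rfl
theorem L550503 : sm gj N28834 = N42424 := trfs L550490 (flp_j L358791) rfl
theorem L550504 : N42424 = N41898 := eqes L550503 (flp_j L354034)
theorem L550505 : N42424 = N41898 := eqc rfl L550504 rfl
theorem L550507 : sm gi N28834 = N42659 := trfs L550490 L360773 rfl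
theorem L550508 : N42659 = N42004 := eqes L550507 L355036
theorem L550509 : N42659 = N42004 := eqc rfl L550508 rfl
theorem L550510 : sm ga N42004 = N29305 := trfs L550509 L360775 rfl
theorem L550515 : sm ga N41898 = N29138 := trfs L550505 L358786 rfl
theorem L550521 : sm ga N42001 = N29304 := trfs L550502 L360765 rfl
theorem L550527 : sm ga N42003 = N29301 := trfs L550498 L360742 rfl
theorem L550530 : sm gf N42003 = N29271 := trfs L550498 (flp_f L360740) rfl
theorem L550539 : sm ga N19826 = N13853 := trfs L506643 L170979 rfl
theorem L550543 : sm ge N19826 = N13839 := trfs L506643 (flp_e L170977) rfl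
theorem L550555 : sm ga N28837 = N20139 := trfs L506632 L248198 rfl
theorem L550559 : sm ge N28837 = N20118 := trfs L506632 L248203 rfl
theorem L550563 : sm gh N28837 = N42660 := trfs L506632 L360782 rfl
theorem L550564 : N42660 = N42007 := eqes L550563 L355064
theorem L550565 : N42660 = N42007 := eqc rfl L550564 rfl
theorem L550566 : sm ga N42007 = N29306 := trfs L550565 L360784 rfl
theorem L550569 : sm ge N42007 = N29275 := trfs L550565 L360787 rfl
theorem L550571 : sm gg N42007 = N29509 := trfs L550565 L360789 rfl
theorem L550572 : N29509 = N28943 := eqes L550571 L355069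
theorem L550573 : N29509 = N28943 := eqc rfl L550572 rfl
theorem L550582 : sm gf N28943 = N43010 := trfs L550573 (flp_f L363714) rfl
theorem L550583 : N43010 = N42160 := eqes L550582 (flp_f L356418)
theorem L550584 : N43010 = N42160 := eqc rfl L550583 rfl
theorem L550588 : sm ga N42160 = N29555 := trfs L550584 L363711 rfl
theorem L550604 : sm ga N28940 = N20305 := trfs L506609 L250157 rfl
theorem L550608 : sm ge N28940 = N43006 := trfs L506609 (flp_e L363677) rfl
theorem L550609 : N43006 = N42159 := eqes L550608 (flp_e L356410)
theorem L550610 : N43006 = N42159 := eqc rfl L550609 rfl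
theorem L550615 : sm ga N42159 = N29551 := trfs L550610 L363674 rfl
theorem L550618 : sm gf N42159 = N29505 := trfs L550610 L363679 rfl
theorem L550633 : sm ga N19893 = N13964 := trfs L506591 L172284 rfl
theorem L550647 : sm ga N28939 = N20301 := trfs L506580 L250123 rfl
theorem L550650 : sm gd N28939 = N42997 := trfs L506580 (flp_d L363601) rfl
theorem L550651 : N42997 = N42152 := eqes L550650 (flp_d L356348)
theorem L550652 : N42997 = N42152 := eqc rfl L550651 rfl
theorem L550655 : sm gg N28939 = N43005 := trfs L506580 L363664 rfl
theorem L550656 : N43005 = N42156 := eqes L550655 (flp_g L356384)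
theorem L550657 : N43005 = N42156 := eqc rfl L550656 rfl
theorem L550660 : sm ga N42156 = N29550 := trfs L550657 L363666 rfl
theorem L550665 : sm ga N42152 = N29542 := trfs L550652 L363599 rfl
theorem L550668 : sm gf N42152 = N29498 := trfs L550652 (flp_f L363597) rfl
theorem L550671 : sm gb N42896 = N29498 := trfs L506571 L363264 rfl
theorem L550673 : sm ge N42896 = N29474 := trfs L506571 (flp_e L363262) rfl
theorem L550680 : sm gb N20271 = N29437 := trfs L506565 L356398 rfl
theorem L550684 : sm gf N20271 = N28939 := trfs L506565 (flp_f L356396) rfl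
theorem L550688 : sm ga N42201 = N29437 := trfs L506562 L362460 rfl
theorem L550691 : sm gf N42201 = N29407 := trfs L506562 (flp_f L362458) rfl
theorem L550695 : sm ga N29365 = N42200 := trfs L506516 (flp_a L356792) rfl
theorem L550702 : sm gb N13941 = N20229 := trfs L506513 L245273 rfl
theorem L550710 : sm ga N28968 = N20229 := trfs L506510 L249340 rfl
theorem L550719 : sm gb N42908 = N29503 := trfs L506503 L363310 rfl
theorem L550723 : sm gb N42905 = N29505 := trfs L506499 L363342 rfl
theorem L550731 : sm gb N42230 = N29411 := trfs L506464 L362290 rfl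
theorem L550738 : sm gb N20275 = N29442 := trfs L506458 L356444 rfl
theorem L550741 : sm ge N20275 = N28943 := trfs L506458 L356447 rfl
theorem L550745 : sm gb N20209 = N28986 := trfs L506440 L356848 rfl
theorem L550748 : sm ge N20209 = N28972 := trfs L506440 L356852 rfl
theorem L550751 : sm ga N42204 = N29366 := trfs L506436 L361617 rfl
theorem L550754 : sm ge N42204 = N29345 := trfs L506436 L361622 rfl
theorem L550757 : sm ga N20230 = N28972 := trfs L506432 (flp_a L245564) rfl
theorem L550759 : sm gb N20230 = N13944 := trfs L506432 L172171 rfl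
theorem L550766 : sm ga N41920 = N29088 := trfs L506417 L358197 rfl
theorem L550769 : sm ge N41920 = N29074 := trfs L506417 (flp_e L358195) rfl
theorem L550777 : sm ge N19915 = N13900 := trfs L506414 (flp_e L171744) rfl
theorem L550781 : sm gb N20074 = N28865 := trfs L506411 L355324 rfl
theorem L550783 : sm ge N20074 = N28856 := trfs L506411 (flp_e L355320) rfl
theorem L550786 : sm ga N42034 = N29179 := trfs L506407 L359404 rfl
theorem L550789 : sm ge N42034 = N29165 := trfs L506407 (flp_e L359402) rfl
theorem L550795 : sm ga N29229 = N42032 := trfs L506395 (flp_a L355296) rfl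
theorem L550801 : sm ge N29229 = N42631 := trfs L506395 L360537 rfl
theorem L550802 : N42631 = N42588 := eqes L550801 (flp_e L360209)
theorem L550803 : N42631 = N42588 := eqc rfl L550802 rfl
theorem L550807 : sm gi N29229 = N42632 := trfs L506395 L360542 rfl
theorem L550808 : N42632 = N42592 := eqes L550807 L360229
theorem L550809 : N42632 = N42592 := eqc rfl L550808 rfl
theorem L550810 : sm gb N42592 = N29272 := trfs L550809 L360544 rfl
theorem L550815 : sm gb N42588 = N29271 := trfs L550803 L360539 rfl
theorem L550880 : sm gd N44249 = N30842 := trfs L506279 L380621 rfl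
theorem L550890 : sm gd N30348 = N21170 := trfs L506264 (flp_d L261575) rfl
theorem L550983 : sm ga N14558 = N20843 := trfs L506254 (flp_a L177196) rfl
theorem L551107 : N30747 = N14731 := L443549.trans L526855
theorem L551119 : sm gb N14505 = N10122 := trfs L506160 L125279 rfl
theorem L551138 : sm gc N15960 = N20501 := trfs L506109 L252858 rfl
theorem L551141 : sm gf N15960 = N21689 := trfs L506109 L252860 rfl
theorem L551229 : sm gh N44470 = N30541 := trfs L505963 (flp_h L376830) rfl
theorem L551233 : sm gd N21412 = N30719 := trfs L505960 L379084 rfl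
theorem L551293 : sm gi N23244 = N30710 := trfs L505883 L377888 rfl
theorem L551301 : sm gi N21689 = N28963 := trfs L542485 L355920 rfl
theorem L551331 : sm ga N20487 = N15960 := trfs L529613 L197396 rfl
theorem L551335 : sm ge N20487 = N15931 := trfs L529613 (flp_e L197394) rfl
theorem L551351 : sm gi N7554 = N10944 := trfs L505856 L135277 rfl
theorem L551365 : sm gi N15959 = N23175 := trfs L505853 L285558 rfl
theorem L551367 : sm gb N15931 = N11153 := trfs L505849 L138339 rfl
theorem L551373 : sm ga N23177 = N16251 := trfs L505843 L201060 rfl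
theorem L551375 : sm gd N23177 = N16226 := trfs L505843 (flp_d L201058) rfl
theorem L551379 : sm ga N23176 = N16256 := trfs L505839 L201108 rfl
theorem L551382 : sm gc N21085 = N29844 := trfs L505835 (flp_c L420328) rfl
theorem L551385 : sm ga N23175 = N16258 := trfs L505832 L201126 rfl
theorem L551388 : sm ge N23175 = N29844 := trfs L505832 L420456 rfl
theorem L551404 : sm ga N11174 = N15916 := trfs L505826 (flp_a L135763) rfl
theorem L551409 : sm ge N11174 = N14754 := trfs L505826 (flp_e L125706) rfl
theorem L551443 : sm gh N5322 = N7523 := trfs L505776 (flp_h L93435) rfl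
theorem L551463 : sm ga N5334 = N7523 := trfs L505762 L93325 rfl
theorem L551475 : sm ga N7691 = N10944 := trfs L505748 (flp_a L93631) rfl
theorem L551477 : sm gb N7691 = N5322 := trfs L505748 L66251 rfl
theorem L551507 : sm ga N15917 = N11173 := trfs L505728 L138459 rfl
theorem L551514 : sm gh N15917 = N11154 := trfs L505728 (flp_h L138457) rfl
theorem L551521 : sm gh N16228 = N23179 := trfs L505725 (flp_h L286681) rfl
theorem L551530 : sm gh N7679 = N10944 := trfs L505722 (flp_h L135779) rfl
theorem L551537 : sm gb N16225 = N23202 := trfs L505716 L286698 rfl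
theorem L551540 : sm gb N15930 = N11154 := trfs L505712 L138347 rfl
theorem L551572 : sm gc N15917 = N10984 := trfs L505673 L136127 rfl
theorem L551619 : sm gi N10969 = N15917 := trfs L505654 L196438 rfl
theorem L551682 : N10832 = N5254 := L456027.trans L505573
theorem L551686 : sm gh N7617 = N10831 := trfs L505616 (flp_h L134295) rfl
theorem L551689 : sm gc N7463 = N5161 := trfs L505611 L64173 rfl
theorem L551696 : sm gi N7463 = N5157 := trfs L505611 (flp_i L64169) rfl
theorem L551712 : sm gh N3631 = N5161 := trfs L505577 L64009 rfl
theorem L551733 : sm gh N5143 = N3642 := trfs L505541 (flp_h L45463) rfl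
theorem L551771 : sm ga N3624 = N5112 := trfs L505490 L63509 rfl
theorem L551789 : N10998 = N10754 := L455980.trans L474370
theorem L551816 : sm gh N7413 = N10996 := trfs L505462 (flp_h L136393) rfl
theorem L551817 : N10996 = N10756 := eqes L551816 L91962
theorem L551818 : N10996 = N10756 := eqc rfl L551817 rfl
theorem L551820 : sm gb N10756 = N7575 := trfs L551818 (flp_b L94072) rfl
theorem L551821 : N7575 = N15633 := eqes L551820 (flp_b L133270)
theorem L551822 : N15633 = N7575 := (eqc rfl L551821 rfl).symm
theorem L551834 : sm gb N7575 = N10756 := trfs L551822 L133270 rfl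
theorem L552006 : sm gh N14526 = N19916 := trfs L505240 L244997 rfl
theorem L552018 : sm ga N42202 = N29441 := trfs L505222 L362492 rfl
theorem L552030 : sm ga N42198 = N29440 := trfs L505198 L362485 rfl
theorem L552043 : sm gb N42907 = N29500 := trfs L505130 L363280 rfl
theorem L552045 : sm gd N42907 = N29476 := trfs L505130 (flp_d L363278) rfl
theorem L552059 : sm gc N29469 = N21706 := trfs L505085 L267867 rfl
theorem L552066 : sm gd N42826 = N31605 := trfs L505073 L389469 rfl
theorem L552070 : sm gd N42825 = N31600 := trfs L505070 L389431 rfl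
theorem L552072 : sm gd N21686 = N29388 := trfs L505066 L362153 rfl
theorem L552076 : sm gi N21686 = N29469 := trfs L505066 L362156 rfl
theorem L552078 : sm gd N20202 = N14894 := trfs L505062 L184058 rfl
theorem L552084 : sm gd N23256 = N31608 := trfs L505059 L389520 rfl
theorem L552087 : sm gd N14896 = N20196 := trfs L505049 (flp_d L249142) rfl
theorem L552091 : sm gi N14896 = N20251 := trfs L505049 L249149 rfl
theorem L552094 : sm gd N15966 = N21689 := trfs L505044 L267636 rfl
theorem L552110 : sm gh N42828 = N31241 := trfs L505030 L385334 rfl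
theorem L552138 : sm gd N14699 = N20487 := trfs L504973 L428164 rfl
theorem L552153 : sm gd N29822 = N21394 := trfs L504967 L264283 rfl
theorem L552155 : sm gi N29822 = N21475 := trfs L504967 L264287 rfl
theorem L552159 : sm gd N14705 = N20485 := trfs L504963 L252626 rfl
theorem L552170 : sm ga N31249 = N44793 := trfs L504950 (flp_a L378975) rfl
theorem L552172 : sm gb N31249 = N21499 := trfs L504950 L265328 rfl
theorem L552173 : N21499 = N44742 := eqes L552172 (flp_b L378567)
theorem L552174 : N44742 = N21499 := (eqc rfl L552173 rfl).symm
theorem L552177 : sm gg N31249 = N42952 := trfs L504950 (flp_g L363229) rfl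
theorem L552179 : sm gj N31249 = N45665 := trfs L504950 (flp_j L386110) rfl
theorem L552180 : N45665 = N45593 := eqes L552179 (flp_j L385524)
theorem L552181 : N45665 = N45593 := eqc rfl L552180 rfl
theorem L552182 : sm gh N31249 = N21477 := trfs L504950 (flp_h L265326) rfl
theorem L552184 : sm gb N45593 = N31334 := trfs L552181 L386105 rfl
theorem L552190 : sm gb N21499 = N31249 := trfs L552174 L378567 rfl
theorem L552196 : sm gh N31299 = N45593 := trfs L504947 (flp_h L385526) rfl
theorem L552203 : sm gh N14755 = N21441 := trfs L504941 (flp_h L182242) rfl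
theorem L552215 : sm gb N45245 = N31074 := trfs L504885 L383201 rfl
theorem L552219 : sm gh N45245 = N31052 := trfs L504885 (flp_h L383199) rfl
theorem L552221 : sm gb N45247 = N31073 := trfs L504881 L383192 rfl
theorem L552224 : sm gh N45247 = N31051 := trfs L504881 (flp_h L383190) rfl
theorem L552226 : sm gb N21326 = N31015 := trfs L504876 L375923 rfl
theorem L552229 : sm ga N44465 = N31015 := trfs L504873 L382468 rfl
theorem L552233 : sm gb N21327 = N31011 := trfs L504841 L375889 rfl
theorem L552235 : sm ge N21327 = N30463 := trfs L504841 (flp_e L375887) rfl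
theorem L552237 : sm ga N44466 = N31011 := trfs L504838 L382433 rfl
theorem L552239 : sm ge N44466 = N30982 := trfs L504838 (flp_e L382431) rfl
theorem L552245 : sm ge N34196 = N45291 := trfs L504790 (flp_e L383145) rfl
theorem L552249 : sm gb N16146 = N23453 := trfs L504787 L283011 rfl
theorem L552255 : sm ga N33408 = N23453 := trfs L504784 L289861 rfl
theorem L552257 : sm gd N33408 = N23428 := trfs L504784 (flp_d L289859) rfl
theorem L552264 : sm gb N23307 = N16030 := trfs L504776 L198551 rfl
theorem L552265 : N16030 = N33124 := eqes L552264 (flp_b L280891)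
theorem L552266 : N33124 = N16030 := (eqc rfl L552265 rfl).symm
theorem L552272 : sm gb N16030 = N23307 := trfs L552266 L280891 rfl
theorem L552274 : sm gd N16030 = N22729 := trfs L552266 (flp_d L280889) rfl
theorem L552275 : N22729 = N11023 := eqes L552274 (flp_d L136772)
theorem L552276 : N22729 = N11023 := eqc rfl L552275 rfl
theorem L552287 : sm gh N11023 = N15615 := trfs L552276 (flp_h L193215) rfl
theorem L552288 : N15615 = N16032 := eqes L552287 L136788
theorem L552289 : N16032 = N15615 := (eqc rfl L552288 rfl).symm
theorem L552311 : sm gh N15615 = N11023 := trfs L552289 (flp_h L136788) rfl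
theorem L552340 : sm ge N21312 = N16106 := trfs L504769 (flp_e L199649) rfl
theorem L552358 : sm gb N11098 = N16106 := trfs L504763 L194717 rfl
theorem L552383 : N33412 = N16085 := L473908.trans L550138
theorem L552434 : sm gb N15991 = N22758 := trfs L504668 L281178 rfl
theorem L552454 : sm gc N15745 = N10856 := trfs L504609 L134509 rfl
theorem L552461 : sm gi N15745 = N10845 := trfs L504609 (flp_i L134505) rfl
theorem L552465 : sm ge N10999 = N15624 := trfs L504600 L215058 L444116
theorem L552466 : N15624 = N7576 := eqes L552465 (flp_e L94102)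
theorem L552467 : N15624 = N7576 := eqc rfl L552466 rfl
theorem L552484 : sm gh N7576 = N10771 := trfs L552467 L133180 rfl
theorem L552485 : N10771 = N11001 := eqes L552484 L94125
theorem L552486 : N11001 = N10771 := (eqc rfl L552485 rfl).symm
theorem L552498 : sm gh N10771 = N7576 := trfs L552486 (flp_h L94125) rfl
theorem L552733 : sm gh N33156 = N23289 := trfs L504242 (flp_h L288035) rfl
theorem L552742 : sm gh N30832 = N44261 := trfs L504215 (flp_h L374468) rfl
theorem L552743 : N44261 = N44969 := eqes L552742 L380450
theorem L552744 : N44969 = N44261 := (eqc rfl L552743 rfl).symm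
theorem L552745 : sm gb N44261 = N30840 := trfs L552744 L380452 rfl
theorem L552758 : sm gh N15992 = N22752 := trfs L504211 (flp_h L281198) rfl
theorem L552759 : N22752 = N22781 := eqes L552758 L504304
theorem L552760 : N22781 = N22752 := (eqc rfl L552759 rfl).symm
theorem L552771 : sm gh N22752 = N15992 := trfs L552760 (flp_h L504304) rfl
theorem L552800 : sm gh N45011 = N30889 := trfs L504168 (flp_h L381193) rfl
theorem L552802 : sm gb N45013 = N30900 := trfs L504163 L381171 rfl
theorem L552806 : sm gh N45013 = N30887 := trfs L504163 (flp_h L381169) rfl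
theorem L552817 : sm ga N44247 = N30860 := trfs L504154 L380588 rfl
theorem L552820 : sm gd N44247 = N30840 := trfs L504154 (flp_d L380586) rfl
theorem L552863 : sm gb N10032 = N14558 := trfs L504049 L177057 rfl
theorem L553087 : sm gh N5323 = N7524 := trfs L503842 (flp_h L93454) rfl
theorem L553123 : sm gd N10118 = N14088 := trfs L503805 L173955 rfl
theorem L553154 : sm gd N14708 = N21089 := trfs L503787 (flp_d L260544) rfl
theorem L553171 : sm gd N6975 = N9979 := trfs L503784 (flp_d L123559) rfl
theorem L553176 : sm ga N14494 = N10133 := trfs L503779 L125336 rfl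
theorem L553179 : sm gd N14494 = N10120 := trfs L503779 (flp_d L125334) rfl
theorem L553200 : sm ga N21091 = N14731 := trfs L503757 L182016 rfl
theorem L553217 : sm gb N21502 = N31250 := trfs L503734 L378573 rfl
theorem L553221 : sm gb N10163 = N14731 := trfs L503730 L179089 rfl
theorem L553227 : sm gb N21505 = N31245 := trfs L503727 L378533 rfl
theorem L553229 : sm ge N21505 = N30673 := trfs L503727 L378537 rfl
theorem L553236 : sm ga N21444 = N30716 := trfs L503721 (flp_a L260526) rfl
theorem L553238 : sm gb N21444 = N14770 := trfs L503721 L182549 rfl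
theorem L553241 : sm gf N21444 = N29475 := trfs L503721 (flp_f L249883) rfl
theorem L553244 : sm gh N21444 = N30746 := trfs L503721 (flp_h L502465) rfl
theorem L553247 : sm gb N14768 = N21441 := trfs L503712 L260208 rfl
theorem L553252 : sm gb N7002 = N10133 := trfs L503709 L123378 rfl
theorem L553266 : sm gb N14769 = N21437 := trfs L503706 L260174 rfl
theorem L553275 : sm ga N14730 = N21087 := trfs L503700 (flp_a L179288) rfl
theorem L553277 : sm gb N14730 = N10159 := trfs L503700 L125717 rfl
theorem L553283 : sm gh N14730 = N10152 := trfs L503700 (flp_h L125715) rfl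
theorem L553295 : sm gf N20253 = N14730 := trfs L503681 (flp_f L182251) rfl
theorem L553307 : sm gi N13936 = N10247 := trfs L503666 (flp_i L126897) rfl
theorem L553379 : sm gb N20272 = N29441 := trfs L503578 L356434 rfl
theorem L553387 : sm gd N20257 = N29441 := trfs L503572 (flp_d L249596) rfl
theorem L553395 : sm gd N29478 = N42908 := trfs L503565 (flp_d L362854) rfl
theorem L553422 : sm gb N20269 = N29440 := trfs L503547 L356426 rfl
theorem L553429 : sm gd N20255 = N29440 := trfs L503541 (flp_d L249591) rfl
theorem L553434 : sm gb N20115 = N29229 := trfs L503519 L355047 rfl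
theorem L553456 : sm gd N29255 = N42591 := trfs L503454 (flp_d L360224) rfl
theorem L553474 : sm gf N42625 = N31011 := trfs L503397 (flp_f L382778) rfl
theorem L553477 : sm ga N30862 = N44245 := trfs L503383 (flp_a L374303) rfl
theorem L553479 : sm gb N30862 = N21209 := trfs L503383 L261990 rfl
theorem L553483 : sm gf N30862 = N42404 := trfs L503383 (flp_f L358603) rfl
theorem L553486 : sm gh N30862 = N21202 := trfs L503383 (flp_h L261988) rfl
theorem L553488 : sm gi N30862 = N45053 := trfs L503383 L381184 rfl
theorem L553489 : N45053 = N45016 := eqes L553488 L380882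
theorem L553490 : N45053 = N45016 := eqc rfl L553489 rfl
theorem L553491 : sm gb N45016 = N30902 := trfs L553490 L381186 rfl
theorem L553496 : sm gb N42380 = N29115 := trfs L503367 L358626 rfl
theorem L553498 : sm gd N42380 = N29107 := trfs L503367 (flp_d L358624) rfl
theorem L553543 : sm ga N21186 = N30350 := trfs L503278 (flp_a L257396) rfl
theorem L553545 : sm gb N21186 = N14578 := trfs L503278 L180308 rfl
theorem L553548 : sm ge N21186 = N29109 := trfs L503278 (flp_e L246779) rfl
theorem L553553 : sm gh N21186 = N30359 := trfs L503278 L474331 rfl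
theorem L553555 : sm gb N42381 = N29118 := trfs L503275 L358662 rfl
theorem L553557 : sm gd N42381 = N29109 := trfs L503275 L358664 rfl
theorem L553567 : sm gd N29257 = N42592 := trfs L503260 (flp_d L360231) rfl
theorem L553570 : sm ga N29230 = N42036 := trfs L503255 (flp_a L355333) rfl
theorem L553572 : sm gb N29230 = N20118 := trfs L503255 L248077 rfl
theorem L553574 : sm gd N29230 = N20109 := trfs L503255 L248079 rfl
theorem L553581 : sm gd N20009 = N29088 := trfs L503241 (flp_d L246596) rfl
theorem L553583 : sm ge N20009 = N14558 := trfs L503241 (flp_e L180126) rfl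
theorem L553587 : sm gd N20107 = N29229 := trfs L503238 (flp_d L247832) rfl
theorem L553589 : sm ga N20088 = N28856 := trfs L503233 (flp_a L244524) rfl
theorem L553591 : sm gb N20088 = N13839 := trfs L503233 L170902 rfl
theorem L553593 : sm gd N20088 = N13835 := trfs L503233 (flp_d L170900) rfl
theorem L553602 : sm gd N13933 = N20229 := trfs L503218 (flp_d L171921) rfl
theorem L553606 : sm ga N6984 = N9979 := trfs L503215 (flp_a L85330) rfl
theorem L553608 : sm gb N6984 = N4834 := trfs L503215 L60026 rfl
theorem L553611 : sm ge N6984 = N9604 := trfs L503215 (flp_e L82087) rfl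
theorem L553617 : sm ga N13914 = N19915 := trfs L503212 (flp_a L169212) rfl
theorem L553619 : sm gb N13914 = N9608 := trfs L503212 L118719 rfl
theorem L553621 : sm gd N13914 = N9604 := trfs L503212 (flp_d L118717) rfl
theorem L553685 : sm gd N13935 = N20230 := trfs L503145 (flp_d L171927) rfl
theorem L553687 : sm ge N13935 = N10136 := trfs L503145 L125536 rfl
theorem L553704 : sm gh N14505 = N10136 := trfs L526902 (flp_h L125539) rfl
theorem L553714 : sm gi N41630 = N34562 := trfs L503096 L385624 rfl
theorem L553715 : N34562 = N28584 := eqes L553714 (flp_i L351637)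
theorem L553716 : N34562 = N28584 := eqc rfl L553715 rfl
theorem L553720 : sm gf N28584 = N43726 := trfs L553716 L443154 rfl
theorem L553721 : N43726 = N41629 := eqes L553720 L351628
theorem L553722 : N43726 = N41629 := eqc rfl L553721 rfl
theorem L553725 : sm gb N41629 = N30000 := trfs L553722 L369767 rfl
theorem L553728 : sm ge N41629 = N29999 := trfs L553722 (flp_e L369765) rfl
theorem L553744 : sm ga N20306 = N28943 := trfs L503073 L356150 rfl
theorem L553747 : sm gd N20306 = N28987 := trfs L503073 L356154 rfl
theorem L553754 : sm gd N42207 = N29018 := trfs L503067 (flp_d L357439) rfl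
theorem L553761 : sm gc N42226 = N31470 := trfs L503048 L391586 rfl
theorem L553765 : sm gb N41628 = N31471 := trfs L503044 L391607 rfl
theorem L553767 : sm ge N41628 = N31470 := trfs L503044 L391612 rfl
theorem L553777 : sm gb N28983 = N46160 := trfs L503029 (flp_b L390127) rfl
theorem L553778 : N46160 = N42201 := eqes L553777 (flp_b L356803)
theorem L553779 : N46160 = N42201 := eqc rfl L553778 rfl
theorem L553780 : sm gc N28983 = N21827 := trfs L503029 (flp_c L269365) rfl
theorem L553782 : sm gd N28983 = N46340 := trfs L503029 (flp_d L391573) rfl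
theorem L553783 : N46340 = N42219 := eqes L553782 (flp_d L356966)
theorem L553784 : N46340 = N42219 := eqc rfl L553783 rfl
theorem L553787 : sm gc N42219 = N31767 := trfs L553784 (flp_c L391570) rfl
theorem L553791 : sm gc N42201 = N31636 := trfs L553779 (flp_c L390123) rfl
theorem L553796 : sm gb N28582 = N21828 := trfs L503025 L269371 rfl
theorem L553798 : sm ge N28582 = N21827 := trfs L503025 (flp_e L269369) rfl
theorem L553838 : sm gd N42051 = N29306 := trfs L502973 (flp_d L361130) rfl
theorem L553857 : sm gh N20943 = N14415 := trfs L502927 (flp_h L178331) rfl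
theorem L553900 : sm gh N10100 = N14401 := trfs L502847 L177788 rfl
theorem L553917 : sm gh N9998 = N14496 := trfs L502837 L178843 rfl
theorem L553944 : sm gh N9984 = N7018 := trfs L502807 (flp_h L87030) rfl
theorem L553957 : sm gh N21091 = N14524 := trfs L502799 (flp_h L179713) rfl
theorem L553995 : sm gi N7557 = N9978 := trfs L502752 L123229 rfl
theorem L554026 : sm gi N10973 = N14493 := trfs L502735 L178814 rfl
theorem L554051 : sm gh N44831 = N31416 := trfs L502681 (flp_h L387563) rfl
theorem L554054 : sm gb N44842 = N31203 := trfs L502678 L384662 rfl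
theorem L554059 : sm gh N44842 = N31248 := trfs L502678 L502642 rfl
theorem L554064 : sm gh N44801 = N30787 := trfs L502674 (flp_h L379959) rfl
theorem L554096 : sm gh N30744 = N21442 := trfs L502641 (flp_h L264935) rfl
theorem L554099 : sm ga N21442 = N30719 := trfs L502631 (flp_a L260556) rfl
theorem L554101 : sm gb N21442 = N14773 := trfs L502631 L182573 rfl
theorem L554107 : sm gb N45246 = N31081 := trfs L502627 L383250 rfl
theorem L554112 : sm gb N45594 = N31338 := trfs L502624 L386134 rfl
theorem L554120 : sm gb N21507 = N31248 := trfs L502617 L378558 rfl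
theorem L554126 : sm ga N44801 = N31248 := trfs L502614 L385011 rfl
theorem L554129 : sm gd N44801 = N31203 := trfs L502614 L385014 rfl
theorem L554133 : sm ga N14728 = N21089 := trfs L502606 (flp_a L179308) rfl
theorem L554135 : sm gb N14728 = N10161 := trfs L502606 L125733 rfl
theorem L554141 : sm ga N31013 = N44468 := trfs L502602 (flp_a L376234) rfl
theorem L554143 : sm gb N31013 = N21329 := trfs L502602 L263383 rfl
theorem L554149 : sm ga N31247 = N44794 := trfs L502599 (flp_a L378984) rfl
theorem L554151 : sm gb N31247 = N21500 := trfs L502599 L265335 rfl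
theorem L554160 : sm gb N14771 = N21439 := trfs L502592 L260188 rfl
theorem L554166 : sm ga N30717 = N21439 := trfs L502589 L264546 rfl
theorem L554169 : sm gd N30717 = N21410 := trfs L502589 (flp_d L264544) rfl
theorem L554178 : sm gh N10153 = N14728 := trfs L502581 (flp_h L125503) rfl
theorem L554184 : sm gh N21315 = N31013 := trfs L502577 (flp_h L263068) rfl
theorem L554196 : sm gh N21478 = N31247 := trfs L502574 (flp_h L264913) rfl
theorem L554203 : sm gd N11176 = N14757 := trfs L502571 (flp_d L125728) rfl
theorem L554216 : sm gb N30741 = N21410 := trfs L502558 L264339 rfl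
theorem L554223 : sm gh N30741 = N21396 := trfs L502558 (flp_h L264337) rfl
theorem L554228 : sm gd N15933 = N21396 := trfs L502552 (flp_d L181860) rfl
theorem L554237 : sm ga N15962 = N21396 := trfs L502545 L259805 rfl
theorem L554242 : sm gi N15962 = N21088 := trfs L502545 L259812 rfl
theorem L554244 : sm ga N23251 = N31174 := trfs L502535 L377910 rfl
theorem L554250 : sm gi N23251 = N30713 := trfs L502535 L377917 rfl
theorem L554257 : sm ga N29822 = N23244 := trfs L508103 L287028 rfl
theorem L554259 : sm ge N29822 = N23202 := trfs L508103 (flp_e L287026) rfl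
theorem L554263 : sm ga N15964 = N21394 := trfs L502514 L259784 rfl
theorem L554269 : sm gi N15964 = N21086 := trfs L502514 L259791 rfl
theorem L554271 : sm gb N44841 = N31196 := trfs L502507 L384608 rfl
theorem L554275 : sm gh N44841 = N31174 := trfs L502507 (flp_h L384606) rfl
theorem L554277 : sm gb N44843 = N31195 := trfs L502504 L384601 rfl
theorem L554280 : sm gh N44843 = N31173 := trfs L502504 (flp_h L384599) rfl
theorem L554282 : sm gb N44833 = N31197 := trfs L502500 L384618 rfl
theorem L554285 : sm gb N21407 = N30743 := trfs L502496 L379072 rfl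
theorem L554291 : sm gb N14502 = N10120 := trfs L502482 L125264 rfl
theorem L554300 : sm gb N30739 = N21408 := trfs L502479 L264324 rfl
theorem L554305 : sm gf N30739 = N42828 := trfs L502479 (flp_f L362198) rfl
theorem L554306 : N42828 = N44838 := eqes L554305 L379374
theorem L554307 : N44838 = N42828 := (eqc rfl L554306 rfl).symm
theorem L554310 : sm ga N42828 = N30783 := trfs L554307 L379376 rfl
theorem L554313 : sm gf N42828 = N30739 := trfs L554307 (flp_f L379374) rfl
theorem L554324 : sm gb N44844 = N31198 := trfs L502463 L384624 rfl
theorem L554333 : sm gb N44839 = N31201 := trfs L502455 L384646 rfl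
theorem L554336 : sm gb N21409 = N30746 := trfs L502451 L379124 rfl
theorem L554349 : sm gh N30716 = N21136 := trfs L502439 (flp_h L261174) rfl
theorem L554364 : sm gh N6998 = N10133 := trfs L502419 (flp_h L86611) rfl
theorem L554372 : sm gi N14492 = N10975 := trfs L502409 (flp_i L136196) rfl
theorem L554374 : sm ga N14699 = N10975 := trfs L502394 L135937 rfl
theorem L554379 : sm gh N14699 = N21105 := trfs L502394 (flp_h L179451) rfl
theorem L554383 : sm gd N13897 = N10247 := trfs L502386 L126741 rfl
theorem L554386 : sm ga N20197 = N15969 := trfs L502204 L197468 rfl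
theorem L554413 : sm gi N19913 = N15969 := trfs L502183 (flp_i L197850) rfl
theorem L554424 : sm gc N28968 = N46161 := trfs L502162 (flp_c L394177) rfl
theorem L554425 : N46161 = N42200 := eqes L554424 L356790
theorem L554426 : N46161 = N42200 := eqc rfl L554425 rfl
theorem L554429 : sm gb N42200 = N31637 := trfs L554426 L390131 rfl
theorem L554432 : sm ge N42200 = N31636 := trfs L554426 (flp_e L390129) rfl
theorem L554443 : sm ga N42832 = N30795 := trfs L502137 L379479 rfl
theorem L554447 : sm ga N42829 = N30792 := trfs L502133 L379451 rfl
theorem L554450 : sm gf N42829 = N30746 := trfs L502133 L379456 rfl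
theorem L554454 : sm gb N42229 = N29408 := trfs L502130 L362252 rfl
theorem L554456 : sm gd N42229 = N29393 := trfs L502130 L362254 rfl
theorem L554463 : sm ga N21139 = N29393 := trfs L502123 L355978 rfl
theorem L554468 : sm gh N21139 = N28969 := trfs L502123 L355986 rfl
theorem L554471 : sm ga N29391 = N21138 := trfs L502115 L260812 rfl
theorem L554474 : sm gd N29391 = N42228 := trfs L502115 (flp_d L357036) rfl
theorem L554475 : N42228 = N42831 := eqes L554474 L362221
theorem L554476 : N42831 = N42228 := (eqc rfl L554475 rfl).symm
theorem L554478 : sm gb N42228 = N29405 := trfs L554476 L362223 rfl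
theorem L554480 : sm gd N42228 = N29391 := trfs L554476 (flp_d L362221) rfl
theorem L554484 : sm ga N29389 = N21135 := trfs L502112 L260784 rfl
theorem L554489 : sm gf N29389 = N21105 := trfs L502112 (flp_f L260782) rfl
theorem L554492 : sm gb N28985 = N20206 := trfs L502109 L249189 rfl
theorem L554494 : sm gd N28985 = N20198 := trfs L502109 (flp_d L249187) rfl
theorem L554496 : sm ge N28985 = N42834 := trfs L502109 L362244 rfl
theorem L554497 : N42834 = N42225 := eqes L554496 (flp_e L357015)
theorem L554498 : N42834 = N42225 := eqc rfl L554497 rfl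
theorem L554502 : sm gb N42225 = N29407 := trfs L554498 L362246 rfl
theorem L554509 : sm ga N14525 = N20198 := trfs L502102 L244971 rfl
theorem L554515 : sm gb N19924 = N13900 := trfs L502091 L171660 rfl
theorem L554517 : sm gd N19924 = N13896 := trfs L502091 (flp_d L171658) rfl
theorem L554525 : sm ga N9997 = N13896 := trfs L502084 L168850 rfl
theorem L554531 : sm ga N13895 = N10977 := trfs L502076 L135953 rfl
theorem L554541 : sm ga N7559 = N9578 := trfs L502067 L116522 rfl
theorem L554569 : sm gi N9451 = N7559 := trfs L502048 (flp_i L93917) rfl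
theorem L554593 : sm gf N19841 = N33493 := trfs L502011 (flp_f L284095) rfl
theorem L554594 : N33493 = N28855 := eqes L554593 (flp_f L244520)
theorem L554595 : N33493 = N28855 := eqc rfl L554594 rfl
theorem L554601 : sm gi N28855 = N44547 := trfs L554595 (flp_i L376893) rfl
theorem L554602 : N44547 = N42033 := eqes L554601 L355303
theorem L554603 : N44547 = N42033 := eqc rfl L554602 rfl
theorem L554607 : sm gh N42033 = N30546 := trfs L554603 (flp_h L376886) rfl
theorem L554614 : sm gj N28857 = N44298 := trfs L501999 (flp_j L374806) rfl
theorem L554615 : N44298 = N41921 := eqes L554614 (flp_j L354271)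
theorem L554616 : N44298 = N41921 := eqc rfl L554615 rfl
theorem L554623 : sm gh N41921 = N30380 := trfs L554616 (flp_h L374798) rfl
theorem L554626 : sm ga N20200 = N14526 := trfs L501991 L179473 rfl
theorem L554630 : sm gd N20200 = N28986 := trfs L501991 (flp_d L245684) rfl
theorem L554632 : sm ge N20200 = N14505 := trfs L501991 L179476 rfl
theorem L554635 : sm gb N42050 = N29209 := trfs L501986 L359859 rfl
theorem L554637 : sm gd N42050 = N29200 := trfs L501986 L359861 rfl
theorem L554641 : sm ga N20973 = N29200 := trfs L501979 L354764 rfl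
theorem L554645 : sm gh N20973 = N28857 := trfs L501979 L354773 rfl
theorem L554647 : sm ga N42542 = N30545 := trfs L501966 L376509 rfl
theorem L554650 : sm ga N42540 = N30542 := trfs L501962 L376484 rfl
theorem L554653 : sm gf N42540 = N30512 := trfs L501962 (flp_f L376482) rfl
theorem L554656 : sm gb N42049 = N29206 := trfs L501959 L359828 rfl
theorem L554658 : sm gd N42049 = N29198 := trfs L501959 (flp_d L359826) rfl
theorem L554676 : sm gi N10850 = N13655 := trfs L501908 L168305 rfl
theorem L554678 : sm ga N20069 = N15778 := trfs L501902 L195149 rfl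
theorem L554684 : sm ga N29196 = N22972 := trfs L501891 L283686 rfl
theorem L554705 : sm gi N19840 = N15778 := trfs L501882 (flp_i L195409) rfl
theorem L554712 : sm gj N28831 = N45082 := trfs L501822 (flp_j L381461) rfl
theorem L554713 : N45082 = N41895 := eqes L554712 (flp_j L354005)
theorem L554714 : N45082 = N41895 := eqc rfl L554713 rfl
theorem L554715 : sm gi N28831 = N45352 := trfs L501822 L383634 rfl
theorem L554716 : N45352 = N41999 := eqes L554715 L354986
theorem L554717 : N45352 = N41999 := eqc rfl L554716 rfl
theorem L554718 : sm ga N41999 = N31131 := trfs L554717 L383636 rfl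
theorem L554723 : sm ga N41895 = N30936 := trfs L554714 L381457 rfl
theorem L554729 : sm ga N21983 = N28841 := trfs L501732 L354893 rfl
theorem L554774 : sm gi N13658 = N11426 := trfs L501680 (flp_i L141637) rfl
theorem L554784 : sm gi N16511 = N19793 := trfs L501661 L243597 rfl
theorem L554786 : sm ga N28769 = N24036 := trfs L501657 L296369 rfl
theorem L554795 : sm gi N23389 = N28784 := trfs L501645 L353886 rfl
theorem L554796 : N28784 = N34101 := eqes L554795 L289345
theorem L554797 : N34101 = N28784 := (eqc rfl L554796 rfl).symm
theorem L554802 : sm gi N28784 = N23389 := trfs L554797 (flp_i L289345) rfl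
theorem L554804 : sm ga N19781 = N16514 := trfs L501641 L204028 rfl
theorem L554821 : sm ga N28772 = N21882 := trfs L501632 L269773 rfl
theorem L554823 : sm gc N28772 = N45085 := trfs L501632 (flp_c L381493) rfl
theorem L554824 : N45085 = N41897 := eqes L554823 (flp_c L354023)
theorem L554825 : N45085 = N41897 := eqc rfl L554824 rfl
theorem L554829 : sm ga N41897 = N30939 := trfs L554825 L381491 rfl
theorem L554838 : sm ga N20138 = N28834 := trfs L501593 L354827 rfl
theorem L554842 : sm ga N20972 = N29198 := trfs L501589 L354746 rfl
theorem L554845 : sm ga N23583 = N28832 := trfs L501572 L354806 rfl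
theorem L554846 : N28832 = N34323 := eqes L554845 (flp_a L291168)
theorem L554847 : N34323 = N28832 := (eqc rfl L554846 rfl).symm
theorem L554852 : sm ga N28832 = N23583 := trfs L554847 L291168 rfl
theorem L554858 : sm gh N28832 = N45354 := trfs L554847 (flp_h L383662) rfl
theorem L554859 : N45354 = N42000 := eqes L554858 L354998
theorem L554860 : N45354 = N42000 := eqc rfl L554859 rfl
theorem L554861 : sm ga N42000 = N31133 := trfs L554860 L383656 rfl
theorem L554875 : sm ga N23580 = N28830 := trfs L501565 L354786 rfl
theorem L554880 : sm ga N22975 = N29197 := trfs L501560 L354734 rfl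
theorem L554888 : sm gi N28861 = N23583 := trfs L501552 (flp_i L291664) rfl
theorem L554896 : sm gi N13656 = N11126 := trfs L501549 (flp_i L138111) rfl
theorem L554898 : sm gi N28859 = N23580 := trfs L501545 (flp_i L291646) rfl
theorem L554902 : sm gi N28854 = N22975 := trfs L501540 (flp_i L284080) rfl
theorem L554907 : sm gj N19844 = N34102 := trfs L501533 (flp_j L289359) rfl
theorem L554908 : N34102 = N28785 := eqes L554907 (flp_j L243869)
theorem L554909 : N34102 = N28785 := eqc rfl L554908 rfl
theorem L554914 : sm gi N28785 = N45133 := trfs L554909 (flp_i L381886) rfl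
theorem L554915 : N45133 = N41928 := eqes L554914 L354330
theorem L554916 : N45133 = N41928 := eqc rfl L554915 rfl
theorem L554920 : sm gh N41928 = N30940 := trfs L554916 (flp_h L381878) rfl
theorem L554925 : sm gh N28864 = N21366 := trfs L501523 (flp_h L263998) rfl
theorem L554930 : sm gh N28873 = N21995 := trfs L501520 (flp_h L271548) rfl
theorem L554931 : N21995 = N41992 := eqes L554930 (flp_h L354930)
theorem L554932 : N41992 = N21995 := (eqc rfl L554931 rfl).symm
theorem L554940 : sm gh N21995 = N28873 := trfs L554932 L354930 rfl
theorem L554944 : sm gh N42199 = N30795 := trfs L501505 (flp_h L380042) rfl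
theorem L554949 : sm gh N28992 = N22128 := trfs L501495 (flp_h L273149) rfl
theorem L554950 : N22128 = N42137 := eqes L554949 (flp_h L356204)
theorem L554951 : N42137 = N22128 := (eqc rfl L554950 rfl).symm
theorem L554958 : sm gh N22128 = N28992 := trfs L554951 L356204 rfl
theorem L554965 : sm gh N42196 = N30792 := trfs L501480 (flp_h L380015) rfl
theorem L555022 : sm gi N16362 = N19918 := trfs L501431 L245018 rfl
theorem L555037 : sm gi N7745 = N9452 := trfs L501427 L116533 rfl
theorem L555039 : sm ga N16354 = N19888 := trfs L501424 L245001 rfl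
theorem L555044 : sm gi N16354 = N19917 := trfs L501424 L245006 rfl
theorem L555046 : sm ga N15966 = N20196 := trfs L501421 L244949 rfl
theorem L555050 : sm gi N15966 = N19912 := trfs L501421 L244955 rfl
theorem L555087 : sm gi N9454 = N7911 := trfs L501377 (flp_i L98169) rfl
theorem L557404 : sm gh N5033 = N4376 := trfs L495600 (flp_h L54203) rfl
theorem L557405 : N4376 = N40765 := eqes L557404 L497382
theorem L557406 : N40765 = N4376 := (eqc rfl L557405 rfl).symm
theorem L557413 : sm gh N4376 = N5033 := trfs L557406 (flp_h L497382) rfl
theorem L557432 : sm gc N3843 = N3046 := trfs L495565 L37738 rfl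
theorem L557570 : sm gb N1876 = N1493 := trfs L495371 L18587 rfl
theorem L557577 : sm gb N2143 = N2143 := trfs L495357 (flp_b L26607) rfl
theorem L557593 : sm gb N3054 = N3054 := trfs L495340 (flp_b L37911) rfl
theorem L557605 : sm gi N2692 = N2143 := trfs L495333 (flp_i L26614) rfl
theorem L557678 : sm gi N5534 = N4401 := trfs L495259 (flp_i L54498) rfl
theorem L557706 : sm gi N6351 = N8006 := trfs L495226 (flp_i L99274) rfl
theorem L557708 : sm gb N9196 = N9196 := trfs L495222 L113530 rfl
theorem L557715 : sm gb N13333 = N13333 := trfs L495208 L164493 rfl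
theorem L557721 : sm gb N19372 = N19372 := trfs L495194 L238611 rfl
theorem L557739 : sm gi N16850 = N13333 := trfs L495163 (flp_i L164526) rfl
theorem L557828 : sm gb N6352 = N8019 := trfs L495001 L99327 rfl
theorem L557836 : sm gi N6352 = N8009 := trfs L495001 (flp_i L99324) rfl
theorem L557847 : sm gb N4399 = N5543 := trfs L494986 L68812 rfl
theorem L557868 : sm gi N5535 = N4399 := trfs L494969 (flp_i L54481) rfl
theorem L557884 : sm gi N3834 = N3051 := trfs L494953 (flp_i L37883) rfl
theorem L557899 : sm gb N3840 = N3051 := trfs L494927 L37832 rfl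
theorem L557905 : sm gh N3840 = N3046 := trfs L494927 (flp_h L37830) rfl
theorem L557919 : sm gi N2660 = N2123 := trfs L494863 (flp_i L26401) rfl
theorem L558117 : sm gb N2124 = N2678 := trfs L494505 L33448 rfl
theorem L558123 : sm gi N2124 = N2674 := trfs L494505 (flp_i L33445) rfl
theorem L558207 : sm gb N2664 = N2123 := trfs L494424 L26348 rfl
theorem L558245 : sm gc N2118 = N2667 := trfs L494386 L33308 rfl
theorem L558251 : sm gh N2118 = N2664 := trfs L494386 (flp_h L33306) rfl
theorem L559290 : sm gi N1942 = N1439 := trfs L493022 (flp_i L17994) rfl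
theorem L559362 : sm gi N939 = N1435 := trfs L492878 (flp_i L17978) rfl
theorem L559363 : N1435 = N1344 := eqes L559362 (flp_i L11801)
theorem L559364 : N1435 = N1344 := eqc rfl L559363 rfl
theorem L559376 : sm gh N1344 = N996 := trfs L559364 (flp_h L12524) rfl
theorem L559377 : N996 = N1928 := eqes L559376 (flp_h L16846)
theorem L559378 : N1928 = N996 := (eqc rfl L559377 rfl).symm
theorem L559388 : sm gh N996 = N1344 := trfs L559378 L16846 rfl
theorem L559431 : sm gh N1260 = N1726 := trfs L492781 L21598 rfl
theorem L559441 : sm gc N1429 = N1724 := trfs L492773 L21612 rfl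
theorem L559442 : N1724 = N2058 := eqes L559441 (flp_c L17883)
theorem L559443 : N2058 = N1724 := (eqc rfl L559442 rfl).symm
theorem L559448 : sm gh N1429 = N1728 := trfs L492773 L21615 rfl
theorem L559453 : sm gc N1724 = N1429 := trfs L559443 L17883 rfl
theorem L559466 : sm gh N3749 = N5146 := trfs L492763 L63873 rfl
theorem L559484 : sm gh N2060 = N2489 := trfs L492755 L31051 rfl
theorem L559516 : sm gh N3591 = N2614 := trfs L492729 (flp_h L32736) rfl
theorem L559525 : sm gh N7457 = N5426 := trfs L492725 (flp_h L67559) rfl
theorem L559533 : sm gh N3596 = N2969 := trfs L492719 (flp_h L36928) rfl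
theorem L559582 : sm gh N7567 = N5299 := trfs L492668 (flp_h L66027) rfl
theorem L559585 : sm ga N15977 = N11186 := trfs L492663 L138574 rfl
theorem L559635 : sm gb N7721 = N11176 := trfs L492624 L135535 rfl
theorem L559641 : sm gh N7721 = N10923 := trfs L492624 (flp_h L135533) rfl
theorem L560020 : sm gb N1000 = N1344 := trfs L492151 L16876 rfl
theorem L560305 : sm gi N4144 = N5856 := trfs L491933 (flp_i L72757) rfl
theorem L560344 : sm gb N2888 = N4026 := trfs L491884 L50083 rfl
theorem L560354 : sm gi N2888 = N4044 := trfs L491884 L50088 rfl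
theorem L560390 : sm gi N5846 = N4051 := trfs L491853 (flp_i L50429) rfl
theorem L560440 : sm gh N18608 = N26099 := trfs L491799 (flp_h L322068) rfl
theorem L560444 : sm gh N18610 = N26097 := trfs L491795 (flp_h L322043) rfl
theorem L560515 : sm gc N8495 = N6066 := trfs L491733 L74268 rfl
theorem L560585 : sm gb N6001 = N8477 := trfs L491674 (flp_b L72604) rfl
theorem L560634 : sm gc N8829 = N11196 := trfs L491645 (flp_c L138942) rfl
theorem L560663 : sm gh N11308 = N8829 := trfs L491628 (flp_h L109166) rfl
theorem L560676 : sm gh N7792 = N6090 := trfs L491612 (flp_h L75467) rfl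
theorem L560711 : sm gb N4145 = N5845 := trfs L491582 (flp_b L50272) rfl
theorem L560713 : sm gc N4145 = N2917 := trfs L491582 L35867 rfl
theorem L560718 : sm gc N4210 = N5316 := trfs L491578 (flp_c L66220) rfl
theorem L560723 : sm gh N4210 = N5378 := trfs L491578 L66227 rfl
theorem L560732 : sm ga N5857 = N7711 := trfs L510068 (flp_a L66231) rfl
theorem L560740 : sm gi N5857 = N4145 := trfs L510068 (flp_i L51547) rfl
theorem L560742 : sm gc N6054 = N7711 := trfs L491561 L95862 rfl
theorem L560749 : sm ga N8495 = N11199 := trfs L509860 (flp_a L95843) rfl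
theorem L560754 : sm gi N8495 = N6001 := trfs L509860 (flp_i L74498) rfl
theorem L560757 : sm gc N8780 = N11199 := trfs L491546 L138974 rfl
theorem L560783 : sm gc N4215 = N6001 := trfs L491520 (flp_c L74491) rfl
theorem L560787 : sm gh N4215 = N6085 := trfs L491520 L74496 rfl
theorem L560923 : sm ga N8806 = N9649 := trfs L491432 L119204 rfl
theorem L560964 : sm ga N6073 = N6659 := trfs L491413 L82387 rfl
theorem L561028 : sm gb N8786 = N9652 := trfs L491311 L119276 rfl
theorem L561031 : sm gd N8786 = N9649 := trfs L491311 L119278 rfl
theorem L561043 : sm gb N6660 = N6056 := trfs L491286 L74996 rfl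
theorem L561071 : sm gb N8784 = N9650 := trfs L491273 L119260 rfl
theorem L561085 : sm gh N6050 = N6660 := trfs L491265 (flp_h L82465) rfl
theorem L561090 : sm gc N6051 = N6679 := trfs L491261 L82487 rfl
theorem L561094 : sm gh N6051 = N6661 := trfs L491261 (flp_h L82484) rfl
theorem L561100 : sm gc N9675 = N8773 := trfs L491257 L96341 rfl
theorem L561129 : sm gi N7795 = N9675 := trfs L491238 (flp_i L119632) rfl
theorem L561143 : sm gi N11315 = N14041 := trfs L491223 (flp_i L173501) rfl
theorem L561189 : sm gc N12740 = N14041 := trfs L491198 L173040 rfl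
theorem L561193 : sm gh N12740 = N14005 := trfs L491198 (flp_h L173037) rfl
theorem L561201 : sm gi N20413 = N16448 := trfs L491194 L202716 rfl
theorem L561212 : sm gc N12739 = N14040 := trfs L491172 L173031 rfl
theorem L561216 : sm gh N12739 = N14004 := trfs L491172 (flp_h L173028) rfl
theorem L561236 : sm gh N8828 = N11306 := trfs L491150 L138922 rfl
theorem L561262 : sm gh N34863 = N27113 := trfs L491128 (flp_h L333844) rfl
theorem L561281 : sm gh N16440 = N12809 := trfs L491098 (flp_h L158237) rfl
theorem L561327 : sm gb N8823 = N11189 := trfs L491062 (flp_b L138870) rfl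
theorem L561333 : sm gh N8823 = N11303 := trfs L491062 L138875 rfl
theorem L561339 : sm gh N18623 = N23921 := trfs L491059 L293106 rfl
theorem L561343 : sm gh N8824 = N11309 := trfs L491054 L138968 rfl
theorem L561346 : sm gb N16277 = N12806 := trfs L491051 L156518 rfl
theorem L561358 : sm gd N26968 = N29715 := trfs L491040 L365302 rfl
theorem L561366 : sm gb N23223 = N18526 := trfs L529578 L225974 rfl
theorem L561390 : sm gi N16445 = N20416 := trfs L490996 (flp_i L251942) rfl
theorem L561398 : sm gc N43496 = N31295 := trfs L490969 L386000 rfl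
theorem L561404 : sm gb N29835 = N45650 := trfs L490960 (flp_b L385991) rfl
theorem L561405 : N45650 = N43490 := eqes L561404 (flp_b L367775)
theorem L561406 : N45650 = N43490 := eqc rfl L561405 rfl
theorem L561415 : sm gc N43490 = N31294 := trfs L561406 L385993 rfl
theorem L561420 : sm gb N16442 = N23683 := trfs L490957 L420524 rfl
theorem L561423 : sm ge N16442 = N20499 := trfs L490957 L251963 rfl
theorem L561428 : sm gc N29842 = N21475 := trfs L490952 L265268 rfl
theorem L561439 : sm gd N20418 = N18526 := trfs L490938 L202650 rfl
theorem L561445 : sm gi N20418 = N16442 := trfs L490938 L202652 rfl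
theorem L561491 : sm gc N42942 = N31298 := trfs L490872 L386026 rfl
theorem L561498 : sm ge N29840 = N23941 := trfs L490829 L268146 rfl
theorem L561500 : sm gf N29840 = N46175 := trfs L490829 (flp_f L390243) rfl
theorem L561501 : N46175 = N43487 := eqes L561500 (flp_f L367753)
theorem L561502 : N46175 = N43487 := eqc rfl L561501 rfl
theorem L561506 : sm gb N43487 = N31665 := trfs L561502 L390241 rfl
theorem L561511 : sm gb N29837 = N21728 := trfs L490826 L268137 rfl
theorem L561512 : N21728 = N43470 := eqes L561511 (flp_b L367615)
theorem L561513 : N43470 = N21728 := (eqc rfl L561512 rfl).symm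
theorem L561514 : sm gb N21728 = N29837 := trfs L561513 L367615 rfl
theorem L561522 : sm ge N29843 = N23935 := trfs L490820 L268100 rfl
theorem L561526 : sm gb N10260 = N14112 := trfs L490809 L174269 rfl
theorem L561537 : sm ge N20503 = N16443 := trfs L490801 L184443 rfl
theorem L561566 : sm gb N11311 = N16258 := trfs L490763 L420507 rfl
theorem L561568 : sm ge N11311 = N14100 := trfs L490763 L173537 rfl
theorem L561580 : sm gb N6677 = N5354 := trfs L490749 L66603 rfl
theorem L561582 : sm gc N6677 = N6050 := trfs L490749 L66605 rfl
theorem L561587 : sm gi N6677 = N5379 := trfs L490749 L66608 rfl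
theorem L561590 : sm gd N14044 = N12736 := trfs L490746 L139620 rfl
theorem L561595 : sm gi N14044 = N11311 := trfs L490746 L139618 rfl
theorem L561627 : sm ge N23942 = N29464 := trfs L490697 L362101 rfl
theorem L561635 : sm ge N20250 = N16447 := trfs L490693 L184486 rfl
theorem L561639 : sm ge N23937 = N29467 := trfs L490689 L362132 rfl
theorem L561643 : sm gh N23937 = N29385 := trfs L490689 (flp_h L362127) rfl
theorem L561647 : sm ge N11313 = N14101 := trfs L490668 L173544 rfl
theorem L561654 : sm ge N16446 = N20500 := trfs L490659 L251970 rfl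
theorem L561670 : sm gb N11212 = N16256 := trfs L490642 L196799 rfl
theorem L561676 : sm ge N11312 = N14098 := trfs L490639 L173522 rfl
theorem L561686 : sm gb N16386 = N20416 := trfs L490630 L251831 rfl
theorem L561694 : sm gb N7761 = N9676 := trfs L490627 L119568 rfl
theorem L561702 : sm gb N16385 = N20414 := trfs L490624 L251815 rfl
theorem L561712 : sm gb N7762 = N9675 := trfs L490619 L119560 rfl
theorem L561715 : sm gh N7762 = N9668 := trfs L490619 (flp_h L119558) rfl
theorem L561719 : sm ge N16225 = N20485 := trfs L490616 L251850 rfl
theorem L561724 : sm gb N14042 = N11268 := trfs L490613 L139625 rfl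
theorem L561727 : sm gi N14042 = N11312 := trfs L490613 L139629 rfl
theorem L561729 : sm gb N23860 = N29380 := trfs L490606 L361941 rfl
theorem L561731 : sm gd N23860 = N29370 := trfs L490606 (flp_d L361939) rfl
theorem L561737 : sm gb N11269 = N13891 := trfs L490603 L171525 rfl
theorem L561739 : sm gd N11269 = N13884 := trfs L490603 (flp_d L171523) rfl
theorem L561746 : sm gb N23859 = N29378 := trfs L490600 L361924 rfl
theorem L561748 : sm gd N23859 = N29369 := trfs L490600 (flp_d L361922) rfl
theorem L561751 : sm ga N20183 = N16410 := trfs L490595 L202873 rfl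
theorem L561753 : sm gd N20183 = N16387 := trfs L490595 (flp_d L202871) rfl
theorem L561756 : sm ge N23637 = N29449 := trfs L490592 L361962 rfl
theorem L561759 : sm gb N20191 = N16387 := trfs L490589 L202684 rfl
theorem L561763 : sm gb N16389 = N20194 := trfs L490582 L249023 rfl
theorem L561765 : sm gd N16389 = N20185 := trfs L490582 L249025 rfl
theorem L561771 : sm ga N29372 = N23896 := trfs L490577 L294846 rfl
theorem L561773 : sm gd N29372 = N23862 := trfs L490577 L294848 rfl
theorem L561777 : sm gb N29383 = N23862 := trfs L490574 L294543 rfl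
theorem L561780 : sm gh N29383 = N23942 := trfs L490574 L294547 rfl
theorem L561782 : sm ga N42920 = N31228 := trfs L490550 L384840 rfl
theorem L561784 : sm ge N42920 = N34465 := trfs L490550 L384844 rfl
theorem L561786 : sm gh N42920 = N31329 := trfs L490550 L384848 rfl
theorem L561792 : sm ga N42915 = N31548 := trfs L490527 L388613 rfl
theorem L561794 : sm gf N42915 = N34772 := trfs L490527 L388617 rfl
theorem L561796 : sm ga N42914 = N31225 := trfs L490521 L384813 rfl
theorem L561801 : sm ge N29447 = N23860 := trfs L490510 L267025 rfl
theorem L561811 : sm ga N43464 = N31547 := trfs L490495 L388602 rfl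
theorem L561814 : sm gf N43464 = N34771 := trfs L490495 L388607 rfl
theorem L561816 : sm gi N43464 = N31662 := trfs L490495 L388609 rfl
theorem L561818 : sm ga N43463 = N31224 := trfs L490491 L384801 rfl
theorem L561820 : sm gd N43463 = N31194 := trfs L490491 L384805 rfl
theorem L561822 : sm gi N43463 = N31325 := trfs L490491 L384809 rfl
theorem L561825 : sm gb N14923 = N20495 := trfs L490482 L252814 rfl
theorem L561830 : sm gi N14923 = N20481 := trfs L490482 (flp_i L252812) rfl
theorem L561834 : sm gi N21494 = N29820 := trfs L490464 (flp_i L367630) rfl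
theorem L561837 : sm gb N20497 = N14924 := trfs L490461 L184456 rfl
theorem L561840 : sm ge N20497 = N16445 := trfs L490461 L184460 rfl
theorem L561844 : sm ga N21647 = N29815 := trfs L490446 L367011 rfl
theorem L561852 : sm ga N21427 = N29820 := trfs L490439 L367059 rfl
theorem L561856 : sm ga N20483 = N14868 := trfs L490435 L183659 rfl
theorem L561858 : sm ge N20483 = N16386 := trfs L490435 L183663 rfl
theorem L561862 : sm gi N20483 = N14924 := trfs L490435 L183665 rfl
theorem L561864 : sm ga N14867 = N20481 := trfs L490427 L252416 rfl
theorem L561875 : sm ga N14720 = N20485 := trfs L490420 L252457 rfl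
theorem L561881 : sm ga N14086 = N10228 := trfs L490416 L126453 rfl
theorem L561884 : sm ge N14086 = N11268 := trfs L490416 L126457 rfl
theorem L561890 : sm ga N21649 = N29447 := trfs L490409 L362552 rfl
theorem L561893 : sm gd N21649 = N29414 := trfs L490409 (flp_d L362550) rfl
theorem L561896 : sm ga N21648 = N29445 := trfs L490406 L362530 rfl
theorem L561899 : sm gd N21648 = N29413 := trfs L490406 (flp_d L362528) rfl
theorem L561905 : sm gd N20212 = N14869 := trfs L490400 (flp_d L183967) rfl
theorem L561908 : sm ga N21428 = N29449 := trfs L490397 L362574 rfl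
theorem L561911 : sm ga N20235 = N14869 := trfs L490393 L183670 rfl
theorem L561913 : sm ge N20235 = N16387 := trfs L490393 L183672 rfl
theorem L561923 : sm gd N13903 = N10229 := trfs L490381 (flp_d L126680) rfl
theorem L561927 : sm ga N14721 = N20237 := trfs L490378 L249415 rfl
theorem L561933 : sm ga N13919 = N10229 := trfs L490374 L126463 rfl
theorem L561935 : sm ge N13919 = N11269 := trfs L490374 L126465 rfl
theorem L561940 : sm ga N21651 = N29450 := trfs L490367 L362582 rfl
theorem L561943 : sm gd N21651 = N29416 := trfs L490367 L362585 rfl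
theorem L561949 : sm gd N20214 = N14871 := trfs L490360 L183999 rfl
theorem L561952 : sm ga N21430 = N29452 := trfs L490357 L362599 rfl
theorem L561955 : sm ga N20238 = N14871 := trfs L490353 L183685 rfl
theorem L561957 : sm ge N20238 = N16389 := trfs L490353 L183687 rfl
theorem L561968 : sm gh N14954 = N20282 := trfs L490345 (flp_h L250272) rfl
theorem L561971 : sm gb N14927 = N20250 := trfs L490341 L249698 rfl
theorem L561977 : sm gh N14927 = N20238 := trfs L490341 (flp_h L249696) rfl
theorem L561997 : sm gb N10268 = N14101 := trfs L490320 L174134 rfl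
theorem L562012 : sm gb N9721 = N7068 := trfs L490292 L87554 rfl
theorem L562028 : sm ga N13907 = N10247 := trfs L490279 L126631 rfl
theorem L562034 : sm ga N7058 = N9692 := trfs L490275 L119718 rfl
theorem L562041 : sm gi N7058 = N9721 := trfs L490275 L119723 rfl
theorem L562043 : sm ga N20217 = N14894 := trfs L490264 L183900 rfl
theorem L562047 : sm ga N29782 = N21453 := trfs L490255 L264677 rfl
theorem L562050 : sm gd N29782 = N21420 := trfs L490255 (flp_d L264675) rfl
theorem L562057 : sm ga N14069 = N10140 := trfs L490252 L125403 rfl
theorem L562060 : sm gd N14069 = N10124 := trfs L490252 (flp_d L125401) rfl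
theorem L562065 : sm ga N29781 = N21451 := trfs L490249 L264659 rfl
theorem L562068 : sm gd N29781 = N21419 := trfs L490249 (flp_d L264657) rfl
theorem L562074 : sm gd N14715 = N20458 := trfs L490245 (flp_d L252527) rfl
theorem L562077 : sm ga N29422 = N21455 := trfs L490242 L264700 rfl
theorem L562081 : sm ga N14738 = N20458 := trfs L490238 L252204 rfl
theorem L562086 : sm ga N43415 = N31266 := trfs L490232 L385176 rfl
theorem L562089 : sm gd N43415 = N31217 := trfs L490232 L385179 rfl
theorem L562093 : sm ga N20460 = N14741 := trfs L490229 L182109 rfl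
theorem L562096 : sm gd N20460 = N14717 := trfs L490229 L182112 rfl
theorem L562101 : sm ga N43413 = N31264 := trfs L490226 L385157 rfl
theorem L562104 : sm gd N43413 = N31215 := trfs L490226 L385160 rfl
theorem L562107 : sm gd N21422 = N29784 := trfs L490222 L367207 rfl
theorem L562109 : sm ga N42880 = N31268 := trfs L490219 L385195 rfl
theorem L562112 : sm ga N21456 = N29784 := trfs L490215 L366732 rfl

end Cfsg.Agent.Helper28.FicA
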