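import Cfsg.Agent.Helper28.FicB30

/-! # The Fi₂₃ presentation, cosets of the subgroup generated by a, …, i: the coset enumeration, part 31 (helper28; generated) -/

set_option autoImplicit false

noncomputable section

namespace Cfsg.Agent.Helper28.FicA

open Cfsg.Agent.Helper28.CosetTable

theorem L562121 : sm ga N29925 = N21573 := trfs L490205 L265929 rfl
theorem L562124 : sm ge N29925 = N22093 := trfs L490205 L265932 rfl
theorem L562126 : sm gf N29925 = N45769 := trfs L490205 (flp_f L386996) rfl
theorem L562127 : N45769 = N43616 := eqes L562126 (flp_f L368877)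
theorem L562128 : N45769 = N43616 := eqc rfl L562127 rfl
theorem L562129 : sm gh N29925 = N21523 := trfs L490205 (flp_h L265927) rfl
theorem L562132 : sm ga N43616 = N31438 := trfs L562128 L386993 rfl
theorem L562135 : sm gh N43616 = N31365 := trfs L562128 (flp_h L386991) rfl
theorem L562138 : sm gb N29877 = N21470 := trfs L490201 L265077 rfl
theorem L562140 : sm gd N29877 = N21573 := trfs L490201 L265082 rfl
theorem L562143 : sm gf N29877 = N45616 := trfs L490201 (flp_f L385704) rfl
theorem L562144 : N45616 = N43550 := eqes L562143 (flp_f L368298)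
theorem L562145 : N45616 = N43550 := eqc rfl L562144 rfl
theorem L562146 : sm gh N29877 = N21456 := trfs L490201 (flp_h L265075) rfl
theorem L562149 : sm gb N43550 = N31282 := trfs L562145 L385702 rfl
theorem L562151 : sm gd N43550 = N31438 := trfs L562145 L385706 rfl
theorem L562153 : sm gh N43550 = N31264 := trfs L562145 (flp_h L385700) rfl
theorem L562163 : sm ga N20554 = N14976 := trfs L490187 L184809 rfl
theorem L562166 : sm ge N20554 = N15250 := trfs L490187 L184812 rfl
theorem L562170 : sm gb N20522 = N14909 := trfs L490180 L184260 rfl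
theorem L562172 : sm gd N20522 = N14976 := trfs L490180 L184265 rfl
theorem L562177 : sm ga N29919 = N21795 := trfs L490174 L268584 rfl
theorem L562180 : sm gb N29874 = N21701 := trfs L490170 L267824 rfl
theorem L562182 : sm gd N29874 = N21795 := trfs L490170 L267828 rfl
theorem L562205 : sm gi N20520 = N14890 := trfs L490147 (flp_i L184220) rfl
theorem L562211 : sm ga N43411 = N31260 := trfs L490132 L385119 rfl
theorem L562214 : sm gd N43411 = N31213 := trfs L490132 (flp_d L385117) rfl
theorem L562216 : sm ga N20456 = N14890 := trfs L490129 L183862 rfl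
theorem L562219 : sm ga N20457 = N14892 := trfs L490126 L183879 rfl
theorem L562224 : sm ga N43408 = N31598 := trfs L490123 L389041 rfl
theorem L562229 : sm ga N42876 = N31597 := trfs L490119 L389033 rfl
theorem L562249 : sm ga N43461 = N31549 := trfs L490067 L388621 rfl
theorem L562252 : sm gi N43461 = N31664 := trfs L490067 L388625 rfl
theorem L562255 : sm gc N21635 = N29814 := trfs L490064 L367262 rfl
theorem L562259 : sm gh N21635 = N29788 := trfs L490064 (flp_h L367259) rfl
theorem L562261 : sm ga N21655 = N29814 := trfs L490060 L367000 rfl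
theorem L562266 : sm gh N21655 = N29768 := trfs L490060 (flp_h L366998) rfl
theorem L562269 : sm gc N21745 = N29959 := trfs L490038 L369016 rfl
theorem L562277 : sm ga N21772 = N29959 := trfs L490034 L368641 rfl
theorem L562292 : sm gi N29931 = N21745 := trfs L490026 (flp_i L268513) rfl
theorem L562297 : sm gd N29901 = N46288 := trfs L490023 (flp_d L391172) rfl
theorem L562298 : N46288 = N43588 := eqes L562297 L368629
theorem L562299 : N46288 = N43588 := eqc rfl L562298 rfl
theorem L562303 : sm gi N29901 = N21772 := trfs L490023 (flp_i L268806) rfl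
theorem L562308 : sm gi N43588 = N31726 := trfs L562299 (flp_i L391169) rfl
theorem L562314 : sm ga N20584 = N14957 := trfs L489989 L184646 rfl
theorem L562320 : sm ga N43673 = N31726 := trfs L489986 L390597 rfl
theorem L562323 : sm ga N43677 = N31729 := trfs L489983 L390624 rfl
theorem L562327 : sm ga N43676 = N31728 := trfs L489979 L390614 rfl
theorem L562329 : sm gd N43676 = N31691 := trfs L489979 L390620 rfl
theorem L562332 : sm ga N21773 = N29962 := trfs L489975 L368669 rfl
theorem L562337 : sm gi N21773 = N29902 := trfs L489975 (flp_i L368667) rfl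
theorem L562339 : sm ga N29969 = N21778 := trfs L489964 L268438 rfl
theorem L562341 : sm gd N29969 = N21751 := trfs L489964 L268444 rfl
theorem L562346 : sm ga N14959 = N20586 := trfs L489960 L253584 rfl
theorem L562353 : sm gi N14959 = N20543 := trfs L489960 (flp_i L253582) rfl
theorem L562355 : sm ga N43678 = N31713 := trfs L489952 L390487 rfl
theorem L562357 : sm gd N43678 = N31665 := trfs L489952 (flp_d L390485) rfl
theorem L562360 : sm gb N21729 = N29840 := trfs L489948 L367639 rfl
theorem L562362 : sm gd N21729 = N29970 := trfs L489948 L367644 rfl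
theorem L562366 : sm ga N43688 = N31718 := trfs L489945 L390528 rfl
theorem L562376 : sm ga N21765 = N29970 := trfs L489939 L368743 rfl
theorem L562382 : sm ga N14161 = N10287 := trfs L489932 L127127 rfl
theorem L562384 : sm gd N14161 = N10268 := trfs L489932 (flp_d L127125) rfl
theorem L562389 : sm ga N29967 = N21763 := trfs L489929 L268314 rfl
theorem L562391 : sm gd N29967 = N21728 := trfs L489929 (flp_d L268312) rfl
theorem L562394 : sm gb N14925 = N20500 := trfs L489925 L252850 rfl
theorem L562396 : sm gd N14925 = N20589 := trfs L489925 L252854 rfl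
theorem L562400 : sm ga N29973 = N21767 := trfs L489922 L268347 rfl
theorem L562407 : sm ga N14951 = N20589 := trfs L489916 L253610 rfl
theorem L562412 : sm ga N43093 = N31719 := trfs L489910 L390538 rfl
theorem L562414 : sm gd N43093 = N31669 := trfs L489910 L390540 rfl
theorem L562418 : sm ga N20317 = N14954 := trfs L489907 L184619 rfl
theorem L562420 : sm gd N20317 = N14927 := trfs L489907 L184621 rfl
theorem L562425 : sm ga N43090 = N31717 := trfs L489904 L390520 rfl
theorem L562427 : sm gd N43090 = N31667 := trfs L489904 L390522 rfl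
theorem L562429 : sm gb N21731 = N29464 := trfs L489900 L362959 rfl
theorem L562431 : sm gd N21731 = N29567 := trfs L489900 L362963 rfl
theorem L562433 : sm gh N21731 = N29450 := trfs L489900 (flp_h L362957) rfl
theorem L562435 : sm ga N43096 = N31721 := trfs L489897 L390555 rfl
theorem L562440 : sm ga N21768 = N29567 := trfs L489891 L363827 rfl
theorem L562451 : sm gh N29517 = N21768 := trfs L489881 (flp_h L268770) rfl
theorem L562488 : sm gi N14127 = N10292 := trfs L489833 (flp_i L127415) rfl
theorem L562490 : sm ga N14154 = N10290 := trfs L489812 L127151 rfl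
theorem L562493 : sm gc N14154 = N10277 := trfs L489812 L127153 rfl
theorem L562501 : sm ga N14158 = N10292 := trfs L489808 L127171 rfl
theorem L562506 : sm gc N7082 = N9753 := trfs L489805 L120497 rfl
theorem L562513 : sm ga N7091 = N9753 := trfs L489801 L120390 rfl
theorem L562531 : sm gi N10270 = N14085 := trfs L489793 (flp_i L174095) rfl
theorem L562538 : sm gh N10269 = N14154 := trfs L489790 L174086 rfl
theorem L562540 : sm gi N10269 = N14084 := trfs L489790 (flp_i L174077) rfl
theorem L562542 : sm gb N10267 = N14098 := trfs L489786 L174112 rfl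
theorem L562545 : sm gi N10267 = N14086 := trfs L489786 (flp_i L174110) rfl
theorem L562562 : sm gh N3376 = N4655 := trfs L489766 L57454 rfl
theorem L562566 : sm gb N7074 = N9714 := trfs L489763 L120046 rfl
theorem L562572 : sm gb N6703 = N4884 := trfs L489759 L60614 rfl
theorem L562585 : sm gi N9703 = N7075 := trfs L489751 L87252 rfl
theorem L562587 : sm ga N9704 = N7046 := trfs L489746 L87237 rfl
theorem L562589 : sm ge N9704 = N7761 := trfs L489746 L87242 rfl
theorem L562592 : sm gi N9704 = N7074 := trfs L489746 L87240 rfl
theorem L562596 : sm gc N4860 = N6695 := trfs L489743 L82848 rfl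
theorem L562604 : sm ga N4865 = N6695 := trfs L489739 L82790 rfl
theorem L562626 : sm gh N6689 = N4860 := trfs L489724 (flp_h L60369) rfl
theorem L562634 : sm gh N6684 = N4865 := trfs L489720 (flp_h L60425) rfl
theorem L562720 : sm ga N6730 = N4895 := trfs L489648 L60663 rfl
theorem L562722 : sm gc N6730 = N4889 := trfs L489648 L60665 rfl
theorem L562725 : sm gh N6730 = N4884 := trfs L489648 (flp_h L60661) rfl
theorem L562727 : sm ga N3391 = N4648 := trfs L489645 L57553 rfl
theorem L562730 : sm gc N3391 = N4643 := trfs L489645 L57555 rfl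
theorem L562738 : sm ga N7102 = N9741 := trfs L489642 L120281 rfl
theorem L562743 : sm gc N6714 = N4903 := trfs L489639 L60804 rfl
theorem L562747 : sm gi N6714 = N4895 := trfs L489639 (flp_i L60801) rfl
theorem L562755 : sm ga N6720 = N4903 := trfs L489633 L60733 rfl
theorem L562760 : sm gi N6720 = N4889 := trfs L489633 (flp_i L60731) rfl
theorem L562762 : sm ga N4905 = N6722 := trfs L489622 L83116 rfl
theorem L562765 : sm gc N4905 = N6716 := trfs L489622 L83118 rfl
theorem L562771 : sm ga N10304 = N14140 := trfs L489619 L174469 rfl
theorem L562774 : sm gc N9731 = N7100 := trfs L489616 L87927 rfl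
theorem L562777 : sm gi N9731 = N7091 := trfs L489616 (flp_i L87924) rfl
theorem L562779 : sm ga N9740 = N7100 := trfs L489612 L87824 rfl
theorem L562783 : sm gi N9740 = N7082 := trfs L489612 (flp_i L87822) rfl
theorem L562789 : sm gh N6708 = N4903 := trfs L489603 L60525 rfl
theorem L562793 : sm gb N14111 = N10257 := trfs L489598 L126884 rfl
theorem L562802 : sm ga N4871 = N6689 := trfs L489583 L82732 rfl
theorem L562805 : sm gc N4871 = N6684 := trfs L489583 L82734 rfl
theorem L562810 : sm gi N4871 = N6708 := trfs L489583 L82737 rfl
theorem L562812 : sm ga N4873 = N6690 := trfs L489579 L82743 rfl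
theorem L562815 : sm gc N4873 = N6685 := trfs L489579 L82745 rfl
theorem L562824 : sm ga N10245 = N14068 := trfs L489576 L173649 rfl
theorem L562827 : sm gi N10245 = N14111 := trfs L489576 L173654 rfl
theorem L562830 : sm gc N9687 = N7057 := trfs L489573 L87425 rfl
theorem L562834 : sm ga N9693 = N7057 := trfs L489569 L87344 rfl
theorem L562856 : sm ga N7047 = N9703 := trfs L489550 L119825 rfl
theorem L562860 : sm gh N7047 = N9687 := trfs L489550 (flp_h L119823) rfl
theorem L562871 : sm gc N7041 = N9703 := trfs L489544 L119909 rfl
theorem L562874 : sm gh N7041 = N9693 := trfs L489544 (flp_h L119906) rfl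
theorem L562877 : sm ga N10231 = N14085 := trfs L489531 L173809 rfl
theorem L562881 : sm gh N10231 = N14062 := trfs L489531 (flp_h L173807) rfl
theorem L562885 : sm gc N10222 = N14085 := trfs L489527 L173927 rfl
theorem L562888 : sm gh N10222 = N14071 := trfs L489527 (flp_h L173924) rfl
theorem L562906 : sm gi N10291 = N14126 := trfs L489498 (flp_i L174612) rfl
theorem L562913 : sm gi N10278 = N14139 := trfs L489494 (flp_i L174771) rfl
theorem L562927 : sm ga N21787 = N29931 := trfs L489474 L368390 rfl
theorem L562929 : sm gc N21787 = N29901 := trfs L489474 L368392 rfl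
theorem L562935 : sm ga N10302 = N14139 := trfs L489471 L174458 rfl
theorem L562937 : sm gc N10302 = N14126 := trfs L489471 L174460 rfl
theorem L562942 : sm ga N21790 = N29932 := trfs L489467 L368402 rfl
theorem L562945 : sm gc N20540 = N14968 := trfs L489464 L184952 rfl
theorem L562949 : sm gi N20540 = N14956 := trfs L489464 (flp_i L184949) rfl
theorem L562951 : sm ga N20560 = N14968 := trfs L489460 L184738 rfl
theorem L562956 : sm gi N20560 = N14937 := trfs L489460 (flp_i L184736) rfl
theorem L562958 : sm gb N29881 = N21693 := trfs L489451 L267765 rfl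
theorem L562959 : N21693 = N43518 := eqes L562958 (flp_b L368006)
theorem L562960 : N43518 = N21693 := (eqc rfl L562959 rfl).symm
theorem L562961 : sm gd N29881 = N46108 := trfs L489451 (flp_d L389730) rfl
theorem L562962 : N46108 = N43547 := eqes L562961 (flp_d L368271)
theorem L562963 : N46108 = N43547 := eqc rfl L562962 rfl
theorem L562966 : sm gh N29881 = N21787 := trfs L489451 L267771 rfl
theorem L562970 : sm gb N43547 = N31616 := trfs L562963 L389728 rfl
theorem L562974 : sm gi N43547 = N31595 := trfs L562963 (flp_i L389726) rfl
theorem L562977 : sm gb N21693 = N29881 := trfs L562960 L368006 rfl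
theorem L562988 : sm gh N14114 = N10302 := trfs L489448 L126875 rfl
theorem L562992 : sm gb N29873 = N21696 := trfs L489444 L267789 rfl
theorem L563003 : sm ga N21678 = N29788 := trfs L489426 L366767 rfl
theorem L563005 : sm gc N21678 = N29768 := trfs L489426 L366769 rfl
theorem L563009 : sm gi N21678 = N29881 := trfs L489426 L366772 rfl
theorem L563011 : sm ga N10244 = N14071 := trfs L489423 L173677 rfl
theorem L563014 : sm gc N10244 = N14062 := trfs L489423 L173679 rfl
theorem L563018 : sm gi N10244 = N14114 := trfs L489423 L173683 rfl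
theorem L563020 : sm ga N21679 = N29780 := trfs L489419 L366698 rfl
theorem L563022 : sm gi N21679 = N29873 := trfs L489419 L366704 rfl
theorem L563026 : sm gc N20448 = N14889 := trfs L489416 L184014 rfl
theorem L563029 : sm gh N20448 = N14872 := trfs L489416 (flp_h L184011) rfl
theorem L563031 : sm ga N20461 = N14889 := trfs L489413 L183852 rfl
theorem L563036 : sm gh N20461 = N14859 := trfs L489413 (flp_h L183850) rfl
theorem L563046 : sm ga N10243 = N14070 := trfs L489389 L173666 rfl
theorem L563048 : sm gc N10243 = N14061 := trfs L489389 L173668 rfl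
theorem L563054 : sm gb N14901 = N20525 := trfs L489382 L253095 rfl
theorem L563061 : sm gb N14904 = N20520 := trfs L489376 L253050 rfl
theorem L563063 : sm gb N14113 = N10253 := trfs L489372 L126851 rfl
theorem L563068 : sm gi N14113 = N10243 := trfs L489372 (flp_i L126849) rfl
theorem L563079 : sm ga N10300 = N14138 := trfs L489353 L174447 rfl
theorem L563081 : sm gc N10300 = N14125 := trfs L489353 L174449 rfl
theorem L563084 : sm gh N10300 = N14113 := trfs L489353 (flp_h L174445) rfl
theorem L563123 : sm ga N20480 = N14872 := trfs L489268 L183694 rfl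
theorem L563125 : sm gc N20480 = N14859 := trfs L489268 L183696 rfl
theorem L563131 : sm gb N14094 = N10269 := trfs L489261 L127042 rfl
theorem L563138 : sm gb N29829 = N21734 := trfs L489258 L268189 rfl
theorem L563141 : sm gd N29829 = N46174 := trfs L489258 (flp_d L390235) rfl
theorem L563142 : N46174 = N43482 := eqes L563141 (flp_d L367711)
theorem L563143 : N46174 = N43482 := eqc rfl L563142 rfl
theorem L563148 : sm gb N43482 = N31664 := trfs L563143 L390233 rfl
theorem L563153 : sm gb N29832 = N21727 := trfs L489253 L268128 rfl
theorem L563155 : sm gb N14928 = N20492 := trfs L489249 L252790 rfl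
theorem L563160 : sm gi N14928 = N20480 := trfs L489249 (flp_i L252788) rfl
theorem L563172 : sm ga N20581 = N14956 := trfs L489230 L184635 rfl
theorem L563174 : sm gc N20581 = N14937 := trfs L489230 L184637 rfl
theorem L563178 : sm gh N20581 = N14928 := trfs L489230 (flp_h L184633) rfl
theorem L563184 : sm ga N14156 = N10291 := trfs L489215 L127160 rfl
theorem L563186 : sm gc N14156 = N10278 := trfs L489215 L127162 rfl
theorem L563189 : sm gh N14156 = N10270 := trfs L489215 (flp_h L127158) rfl
theorem L563230 : sm gb N9678 = N7764 := trfs L489140 L96362 rfl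
theorem L563232 : sm gc N9678 = N8775 := trfs L489140 L96364 rfl
theorem L563238 : sm ga N9706 = N7049 := trfs L489136 L87265 rfl
theorem L563240 : sm gc N9706 = N7043 := trfs L489136 L87267 rfl
theorem L563242 : sm gd N9706 = N7764 := trfs L489136 L87269 rfl
theorem L563249 : sm gb N14096 = N10270 := trfs L489126 L127049 rfl
theorem L563255 : sm gd N7796 = N9715 := trfs L489123 L119659 rfl
theorem L563261 : sm gi N7796 = N9678 := trfs L489123 (flp_i L119656) rfl
theorem L563263 : sm gb N7077 = N9715 := trfs L489119 L120055 rfl
theorem L563268 : sm gh N7077 = N9756 := trfs L489119 L120061 rfl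
theorem L563270 : sm gi N7077 = N9706 := trfs L489119 (flp_i L120053) rfl
theorem L563273 : sm gb N9712 = N7075 := trfs L489109 L87666 rfl
theorem L563278 : sm gd N5380 = N6705 := trfs L489106 L82704 rfl
theorem L563282 : sm gi N5380 = N6679 := trfs L489106 (flp_i L82701) rfl
theorem L563284 : sm gb N4885 = N6705 := trfs L489102 L82959 rfl
theorem L563289 : sm gi N4885 = N6697 := trfs L489102 (flp_i L82957) rfl
theorem L563300 : sm ga N6732 = N4897 := trfs L489085 L60682 rfl
theorem L563302 : sm gc N6732 = N4891 := trfs L489085 L60684 rfl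
theorem L563306 : sm gh N6732 = N4885 := trfs L489085 (flp_h L60680) rfl
theorem L563362 : sm gb N4619 = N3699 := trfs L489000 L46131 rfl
theorem L563364 : sm gc N4619 = N4181 := trfs L489000 L46133 rfl
theorem L563368 : sm gi N4619 = N3718 := trfs L489000 L46136 rfl
theorem L563370 : sm ga N4630 = N3363 := trfs L488996 L41816 rfl
theorem L563372 : sm gc N4630 = N3360 := trfs L488996 L41818 rfl
theorem L563374 : sm gd N4630 = N3699 := trfs L488996 L41820 rfl
theorem L563378 : sm gi N4630 = N3376 := trfs L488996 L41823 rfl
theorem L563381 : sm gb N3200 = N2559 := trfs L488985 (flp_b L32027) rfl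
theorem L563383 : sm gc N3200 = N2892 := trfs L488985 L32035 rfl
theorem L563390 : sm ga N3207 = N2331 := trfs L488981 L29058 rfl
theorem L563392 : sm gc N3207 = N2329 := trfs L488981 (flp_c L29056) rfl
theorem L563394 : sm gd N3207 = N2559 := trfs L488981 L29064 rfl
theorem L563401 : sm gb N4637 = N3376 := trfs L488972 L42028 rfl
theorem L563404 : sm gd N4637 = N3718 := trfs L488972 L42031 rfl
theorem L563409 : sm gd N2573 = N3212 := trfs L488968 L39776 rfl
theorem L563415 : sm gi N2573 = N3200 := trfs L488968 (flp_i L39773) rfl
theorem L563417 : sm gb N2340 = N3212 := trfs L488964 L39876 rfl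
theorem L563423 : sm gi N2340 = N3207 := trfs L488964 (flp_i L39874) rfl
theorem L563429 : sm ga N3223 = N2345 := trfs L488949 L29218 rfl
theorem L563431 : sm gc N3223 = N2342 := trfs L488949 L29220 rfl
theorem L563437 : sm gh N3223 = N2340 := trfs L488949 (flp_h L29216) rfl
theorem L563439 : sm ga N2349 = N3219 := trfs L488936 L39955 rfl
theorem L563441 : sm gc N2349 = N3216 := trfs L488936 L39957 rfl
theorem L563445 : sm gh N2349 = N3214 := trfs L488936 (flp_h L39953) rfl
theorem L563489 : sm ga N3367 = N4626 := trfs L488859 L57302 rfl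
theorem L563491 : sm gc N3367 = N4623 := trfs L488859 L57304 rfl
theorem L563498 : sm gb N2338 = N3214 := trfs L488850 (flp_b L39936) rfl
theorem L563505 : sm gb N4879 = N6708 := trfs L488847 L83036 rfl
theorem L563510 : sm gb N4639 = N3374 := trfs L488842 L41960 rfl
theorem L563515 : sm gh N4639 = N3391 := trfs L488842 L41966 rfl
theorem L563517 : sm gi N4639 = N3367 := trfs L488842 (flp_i L41958) rfl
theorem L563520 : sm gb N7066 = N9722 := trfs L488832 L120165 rfl
theorem L563524 : sm gb N6709 = N4881 := trfs L488827 L60538 rfl
theorem L563529 : sm gh N6709 = N4905 := trfs L488827 L60544 rfl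
theorem L563531 : sm gi N6709 = N4873 := trfs L488827 (flp_i L60536) rfl
theorem L563534 : sm gb N10255 = N14114 := trfs L488817 L174287 rfl
theorem L563539 : sm gb N9724 = N7069 := trfs L488812 L87562 rfl
theorem L563544 : sm gh N9724 = N7103 := trfs L488812 L87569 rfl
theorem L563557 : sm ga N7060 = N9695 := trfs L488795 L119749 rfl
theorem L563559 : sm gc N7060 = N9689 := trfs L488795 L119751 rfl
theorem L563565 : sm gi N7060 = N9724 := trfs L488795 L119755 rfl
theorem L564419 : sm gh N496 = N638 := trfs L487918 (flp_h L8144) rfl
theorem L564438 : sm gb N499 = N638 := trfs L487892 L8137 rfl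
theorem L564446 : sm gb N1041 = N1306 := trfs L487889 L16410 rfl
theorem L564460 : sm gi N637 = N499 := trfs L487876 (flp_i L6338) rfl
theorem L564468 : sm gi N1303 = N1041 := trfs L487873 (flp_i L13022) rfl
theorem L564477 : sm gi N1851 = N1479 := trfs L487860 (flp_i L18457) rfl
theorem L564486 : sm gi N915 = N714 := trfs L487857 (flp_i L9029) rfl
theorem L564493 : sm gi N1860 = N1478 := trfs L487854 (flp_i L18447) rfl
theorem L564496 : sm gb N1031 = N1297 := trfs L487826 L16305 rfl
theorem L564501 : sm gi N1031 = N1295 := trfs L487826 (flp_i L16302) rfl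
theorem L565679 : sm ga N4486 = N3818 := trfs L486176 L47522 rfl
theorem L565834 : sm gb N9821 = N7967 := trfs L486032 L98776 rfl
theorem L565849 : sm gd N9828 = N7967 := trfs L486026 (flp_d L98867) rfl
theorem L565897 : sm ge N20630 = N35382 := trfs L485920 L299893 rfl
theorem L565898 : N35382 = N30030 := eqes L565897 L254619
theorem L565899 : N35382 = N30030 := eqc rfl L565898 rfl
theorem L565910 : sm ga N30030 = N24333 := trfs L565899 L299895 rfl
theorem L565911 : N24333 = N43765 := eqes L565910 (flp_a L370138)
theorem L565912 : N43765 = N24333 := (eqc rfl L565911 rfl).symm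
theorem L565915 : sm ga N24333 = N30030 := trfs L565912 L370138 rfl
theorem L565971 : sm ga N28631 = N24324 := trfs L485897 L299814 rfl
theorem L565972 : N24324 = N41690 := eqes L565971 (flp_a L352163)
theorem L565973 : N41690 = N24324 := (eqc rfl L565972 rfl).symm
theorem L565976 : sm ga N24324 = N28631 := trfs L565973 L352163 rfl
theorem L566001 : sm ga N30029 = N24323 := trfs L485891 L299804 rfl
theorem L566002 : N24323 = N43764 := eqes L566001 (flp_a L370129)
theorem L566003 : N43764 = N24323 := (eqc rfl L566002 rfl).symm
theorem L566006 : sm ga N24323 = N30029 := trfs L566003 L370129 rfl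
theorem L566017 : sm gd N20681 = N16694 := trfs L485879 L206473 rfl
theorem L566023 : sm gb N24286 = N30022 := trfs L485876 L370042 rfl
theorem L566024 : N30022 = N35331 := eqes L566023 (flp_b L299415)
theorem L566025 : N35331 = N30022 := (eqc rfl L566024 rfl).symm
theorem L566032 : sm gb N30022 = N24286 := trfs L566025 L299415 rfl
theorem L566047 : sm gi N30043 = N24333 := trfs L485826 (flp_i L300448) rfl
theorem L566077 : sm ga N16725 = N20629 := trfs L485780 L254562 rfl
theorem L566111 : sm gi N22365 = N16744 := trfs L485763 (flp_i L207095) rfl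
theorem L566289 : sm ge N22470 = N34113 := trfs L485513 (flp_e L289453) rfl
theorem L566290 : N34113 = N32732 := eqes L566289 (flp_e L277473)
theorem L566291 : N34113 = N32732 := eqc rfl L566290 rfl
theorem L566296 : sm gi N32732 = N23398 := trfs L566291 (flp_i L289449) rfl
theorem L566326 : sm ga N7951 = N10619 := trfs L485490 L131413 rfl
theorem L566333 : sm gi N7951 = N10628 := trfs L485490 L131418 rfl
theorem L566335 : sm ga N16504 = N20676 := trfs L485487 L255183 rfl
theorem L566459 : sm gi N10696 = N7881 := trfs L485432 (flp_i L97876) rfl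
theorem L566529 : sm ga N7988 = N7988 := trfs L485295 (flp_a L99088) rfl
theorem L566613 : sm gi N24342 = N28670 := trfs L485157 L352524 rfl
theorem L566631 : sm ga N13587 = N11571 := trfs L485133 L143128 rfl
theorem L566649 : sm ga N9826 = N7979 := trfs L485114 L98884 rfl
theorem L566673 : sm gi N7374 = N5520 := trfs L485100 (flp_i L68625) rfl
theorem L566678 : sm gi N14277 = N11570 := trfs L485096 (flp_i L143303) rfl
theorem L566739 : sm gh N30234 = N24442 := trfs L485049 (flp_h L301699) rfl
theorem L566752 : sm ga N11567 = N14266 := trfs L485022 L176326 rfl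
theorem L566761 : sm ga N20750 = N16588 := trfs L485013 L204990 rfl
theorem L566872 : sm ga N16591 = N20755 := trfs L484887 L256128 rfl
theorem L566889 : sm ga N24139 = N30220 := trfs L484877 L372507 rfl
theorem L566901 : sm ga N30210 = N24141 := trfs L484864 L297755 rfl
theorem L566914 : sm ga N24143 = N30221 := trfs L484849 L372515 rfl
theorem L566919 : sm gh N24143 = N30250 := trfs L484849 L372521 rfl
theorem L566924 : sm gd N14270 = N11554 := trfs L484841 L143118 rfl
theorem L566932 : sm gd N16561 = N20757 := trfs L484837 L255988 rfl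
theorem L566976 : sm gd N14269 = N11393 := trfs L484777 (flp_d L141266) rfl
theorem L566995 : sm ga N14265 = N11419 := trfs L484764 L141314 rfl
theorem L566999 : sm ga N7868 = N9827 := trfs L484760 L121564 rfl
theorem L567010 : sm ga N20748 = N16597 := trfs L484749 L205064 rfl
theorem L567025 : sm ga N28703 = N24162 := trfs L484721 L297926 rfl
theorem L567029 : sm ga N24165 = N28708 := trfs L484709 L353147 rfl
theorem L567034 : sm gi N24165 = N28727 := trfs L484709 L353154 rfl
theorem L567036 : sm ga N28704 = N24455 := trfs L484692 L301499 rfl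
theorem L567037 : N24455 = N41793 := eqes L567036 (flp_a L353111)
theorem L567038 : N41793 = N24455 := (eqc rfl L567037 rfl).symm
theorem L567041 : sm ga N24455 = N28704 := trfs L567038 L353111 rfl
theorem L567060 : sm ga N11576 = N13590 := trfs L484612 L167597 rfl
theorem L567085 : sm gi N13599 = N11576 := trfs L484595 (flp_i L143356) rfl
theorem L567165 : sm ga N28632 = N24350 := trfs L484467 L300039 rfl
theorem L567201 : sm ga N7941 = N9352 := trfs L484440 (flp_a L115396) rfl
theorem L567211 : sm ga N13556 = N11517 := trfs L484434 L142406 rfl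
theorem L567230 : sm gi N9355 = N7941 := trfs L484423 (flp_i L98563) rfl
theorem L567298 : sm ga N16813 = N19740 := trfs L484290 L243087 rfl
theorem L567303 : sm gi N16813 = N19753 := trfs L484290 L243092 rfl
theorem L567305 : sm ga N16599 = N19739 := trfs L484286 L243076 rfl
theorem L567317 : sm gi N16810 = N19750 := trfs L484282 L243063 rfl
theorem L567319 : sm ga N13588 = N11573 := trfs L484278 L143145 rfl
theorem L567324 : sm ga N24329 = N28662 := trfs L484271 L352573 rfl
theorem L567330 : sm ga N24447 = N28711 := trfs L484268 L353177 rfl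
theorem L567338 : sm ga N19741 = N16804 := trfs L484259 L207560 rfl
theorem L567353 : sm ga N13589 = N11568 := trfs L484244 L143108 rfl
theorem L567364 : sm ga N11569 = N14270 := trfs L484232 L176359 rfl
theorem L567425 : sm ga N7980 = N9373 := trfs L484149 L115677 rfl
theorem L567430 : sm gi N7980 = N9379 := trfs L484149 L115681 rfl
theorem L567432 : sm ga N16726 = N19689 := trfs L484146 L242423 rfl
theorem L567437 : sm gi N16726 = N19695 := trfs L484146 L242429 rfl
theorem L567439 : sm ga N16731 = N19709 := trfs L484143 L242685 rfl
theorem L567444 : sm gi N16731 = N19718 := trfs L484143 L242692 rfl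
theorem L567446 : sm ga N7943 = N9361 := trfs L484140 L115512 rfl
theorem L567452 : sm gi N7943 = N9365 := trfs L484140 L115519 rfl
theorem L567460 : sm ga N13568 = N11515 := trfs L484133 L142390 rfl
theorem L567463 : sm ga N11514 = N14218 := trfs L484121 L175726 rfl
theorem L567466 : sm gi N11514 = N14227 := trfs L484121 L175730 rfl
theorem L567468 : sm ga N9795 = N7939 := trfs L484117 L98343 rfl
theorem L567473 : sm ga N7977 = N9828 := trfs L484110 L121573 rfl
theorem L567479 : sm ga N16718 = N20631 := trfs L484107 L254583 rfl
theorem L567484 : sm ga N16721 = N19710 := trfs L484104 L242696 rfl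
theorem L567492 : sm ga N16720 = N20677 := trfs L484098 L255195 rfl
theorem L567496 : sm ga N14220 = N11509 := trfs L484094 L142336 rfl
theorem L567498 : sm gd N14220 = N11490 := trfs L484094 (flp_d L142334) rfl
theorem L567504 : sm ga N20680 = N16497 := trfs L484077 L203868 rfl
theorem L567516 : sm ga N16722 = N20681 := trfs L484068 L255232 rfl
theorem L567521 : sm ga N30109 = N24016 := trfs L484064 L296185 rfl
theorem L567527 : sm gh N20694 = N16722 := trfs L484057 (flp_h L206843) rfl
theorem L567541 : sm ga N24022 = N30101 := trfs L484003 L371054 rfl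
theorem L567543 : sm gi N24022 = N30120 := trfs L484003 L371060 rfl
theorem L567559 : sm gi N16509 = N20849 := trfs L483991 L257089 rfl
theorem L567566 : sm ga N30105 = N24023 := trfs L483987 L296256 rfl
theorem L567570 : sm ga N24028 = N28660 := trfs L483977 L352551 rfl
theorem L567575 : sm ga N11354 = N14219 := trfs L483974 L175736 rfl
theorem L567581 : sm ga N24026 = N30100 := trfs L483970 L371044 rfl
theorem L567590 : sm gi N28673 = N24028 := trfs L483957 (flp_i L296865) rfl
theorem L567596 : sm gi N14228 = N11354 := trfs L483954 (flp_i L140789) rfl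
theorem L567606 : sm gi N19752 = N16599 := trfs L483937 (flp_i L205459) rfl
theorem L567612 : sm gi N9836 = N7868 := trfs L483934 (flp_i L97761) rfl
theorem L567615 : sm gi N20767 = N16597 := trfs L483930 (flp_i L205440) rfl
theorem L567631 : sm ga N16590 = N20757 := trfs L483888 L256146 rfl
theorem L567634 : sm gh N16590 = N20776 := trfs L483888 L256151 rfl
theorem L567637 : sm ga N30219 = N24148 := trfs L483884 L297814 rfl
theorem L567643 : sm ga N24147 = N28709 := trfs L483874 L353158 rfl
theorem L567646 : sm ga N11414 = N14269 := trfs L483871 L176352 rfl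
theorem L567650 : sm ga N21969 = N30218 := trfs L483868 L372491 rfl
theorem L567653 : sm ga N24145 = N30208 := trfs L483865 L372401 rfl
theorem L567655 : sm ga N20754 = N16589 := trfs L483861 L204999 rfl
theorem L567658 : sm ga N16586 = N20756 := trfs L483855 L256138 rfl
theorem L567663 : sm ga N30217 = N24142 := trfs L483851 L297765 rfl
theorem L567666 : sm ga N24151 = N30216 := trfs L483843 L372471 rfl
theorem L567672 : sm ga N11420 = N14267 := trfs L483840 L176333 rfl
theorem L567676 : sm gi N11420 = N14280 := trfs L483840 L176336 rfl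
theorem L567678 : sm ga N11417 = N14268 := trfs L483837 L176342 rfl
theorem L567682 : sm gi N11417 = N14281 := trfs L483837 L176347 rfl
theorem L567684 : sm ga N24154 = N30207 := trfs L483833 L372391 rfl
theorem L567688 : sm ga N30215 = N24156 := trfs L483819 L297881 rfl
theorem L567696 : sm gi N20772 = N16594 := trfs L483813 (flp_i L205397) rfl
theorem L567708 : sm gi N16604 = N20953 := trfs L483785 L258298 rfl
theorem L567715 : sm ga N30473 = N24168 := trfs L483780 L297974 rfl
theorem L567720 : sm ga N23577 = N30460 := trfs L483713 L375612 rfl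
theorem L567721 : N30460 = N34317 := eqes L567720 (flp_a L291114)
theorem L567722 : N34317 = N30460 := (eqc rfl L567721 rfl).symm
theorem L567726 : sm ga N30460 = N23577 := trfs L567722 L291114 rfl
theorem L567731 : sm gh N30460 = N45348 := trfs L567722 (flp_h L383598) rfl
theorem L567732 : N45348 = N44418 := eqes L567731 L375845
theorem L567733 : N45348 = N44418 := eqc rfl L567732 rfl
theorem L567734 : sm ga N44418 = N31127 := trfs L567733 L383594 rfl
theorem L567739 : sm ga N23815 = N30661 := trfs L483710 L378059 rfl
theorem L567745 : sm ga N23253 = N31173 := trfs L483706 L377901 rfl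
theorem L567752 : sm gi N30733 = N23821 := trfs L483697 (flp_i L294354) rfl
theorem L567756 : sm gi N30728 = N23815 := trfs L483691 (flp_i L294308) rfl
theorem L567759 : sm gi N30712 = N23253 := trfs L483687 (flp_i L287636) rfl
theorem L567765 : sm ga N21066 = N16660 := trfs L483657 L205935 rfl
theorem L567771 : sm ga N21053 = N16359 := trfs L483650 L202253 rfl
theorem L567793 : sm ga N30685 = N22121 := trfs L483632 L272484 rfl
theorem L567797 : sm ga N30686 = N22109 := trfs L483627 L272383 rfl
theorem L567798 : N22109 = N44707 := eqes L567797 (flp_a L378277)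
theorem L567799 : N44707 = N22109 := (eqc rfl L567798 rfl).symm
theorem L567801 : sm ga N22109 = N30686 := trfs L567799 L378277 rfl
theorem L567807 : sm ga N30667 = N21553 := trfs L483624 L265738 rfl
theorem L567821 : sm ga N42147 = N31418 := trfs L483609 L386801 rfl
theorem L567824 : sm ga N24243 = N28944 := trfs L483593 L356159 rfl
theorem L567825 : N28944 = N35292 := eqes L567824 (flp_a L299114)
theorem L567826 : N35292 = N28944 := (eqc rfl L567825 rfl).symm
theorem L567831 : sm ga N28944 = N24243 := trfs L567826 L299114 rfl
theorem L567836 : sm ga N24171 = N28838 := trfs L483588 L354864 rfl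
theorem L567837 : N28838 = N35149 := eqes L567836 (flp_a L297999)
theorem L567838 : N35149 = N28838 := (eqc rfl L567837 rfl).symm
theorem L567842 : sm ga N28838 = N24171 := trfs L567838 L297999 rfl
theorem L567847 : sm ga N23824 = N28931 := trfs L483584 L356036 rfl
theorem L567851 : sm ga N19897 = N16663 := trfs L483580 L205960 rfl
theorem L567857 : sm gi N28988 = N24243 := trfs L483574 (flp_i L299242) rfl
theorem L567860 : sm gi N28867 = N24171 := trfs L483569 (flp_i L298540) rfl
theorem L567862 : sm gi N28975 = N23824 := trfs L483565 (flp_i L294377) rfl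
theorem L567869 : sm gi N30734 = N45851 := trfs L483541 (flp_i L387596) rfl
theorem L567870 : N45851 = N44829 := eqes L567869 L379302
theorem L567871 : N45851 = N44829 := eqc rfl L567870 rfl
theorem L567874 : sm gh N44829 = N31419 := trfs L567871 (flp_h L387590) rfl
theorem L567887 : sm gi N21110 = N16660 := trfs L483506 (flp_i L206050) rfl
theorem L567923 : sm gi N11468 = N14507 := trfs L483474 L178943 rfl
theorem L567933 : sm gi N5465 = N6883 := trfs L483471 L85135 rfl
theorem L567935 : sm ga N11470 = N14477 := trfs L483468 L178929 rfl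
theorem L567940 : sm gi N11470 = N14506 := trfs L483468 L178933 rfl
theorem L567948 : sm gi N11246 = N14498 := trfs L483463 L178863 rfl
theorem L567965 : sm ga N15197 = N21067 := trfs L483448 L260015 rfl
theorem L567969 : sm ga N15187 = N21069 := trfs L483444 L260032 rfl
theorem L567994 : sm ga N22125 = N30687 := trfs L483424 L378285 rfl
theorem L567999 : sm ga N22110 = N30691 := trfs L483420 L378322 rfl
theorem L568005 : sm gh N30756 = N22122 := trfs L483409 (flp_h L273102) rfl
theorem L568013 : sm gh N14510 = N10456 := trfs L483406 (flp_h L129438) rfl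
theorem L568016 : sm gh N30754 = N22125 := trfs L483403 (flp_h L273126) rfl
theorem L568023 : sm gh N21104 = N14803 := trfs L483385 (flp_h L183136) rfl
theorem L568064 : sm gh N44493 = N31126 := trfs L483275 (flp_h L384087) rfl
theorem L568066 : sm ga N15103 = N20930 := trfs L483268 L258345 rfl
theorem L568074 : sm gh N15103 = N20959 := trfs L483268 L258352 rfl
theorem L568090 : sm gh N15196 = N21117 := trfs L483265 L260071 rfl
theorem L568093 : sm ga N30480 = N21987 := trfs L483261 L270966 rfl
theorem L568095 : sm gc N30480 = N45347 := trfs L483261 (flp_c L383584) rfl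
theorem L568096 : N45347 = N44426 := eqes L568095 (flp_c L375913)
theorem L568097 : N45347 = N44426 := eqc rfl L568096 rfl
theorem L568098 : sm gd N30480 = N21943 := trfs L483261 L270968 rfl
theorem L568102 : sm ga N44426 = N31126 := trfs L568097 L383582 rfl
theorem L568104 : sm gd N44426 = N31081 := trfs L568097 L383586 rfl
theorem L568115 : sm ga N21875 = N30336 := trfs L483251 L373964 rfl
theorem L568162 : sm gh N10454 = N14512 := trfs L483185 L178987 rfl
theorem L570064 : sm gc N3585 = N2969 := trfs L481389 L36879 rfl
theorem L570086 : sm gc N2483 = N2060 := trfs L481372 L25646 rfl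
theorem L570237 : sm gb N2277 = N1812 := trfs L481281 (flp_b L22753) rfl
theorem L570286 : sm gb N4700 = N3729 := trfs L481251 (flp_b L46489) rfl
theorem L571881 : sm gc N444 = N344 := trfs L479487 (flp_c L4400) rfl
theorem L571889 : sm gc N706 = N834 := trfs L479476 (flp_c L10538) rfl
theorem L571912 : sm gh N835 = N706 := trfs L479459 (flp_h L8925) rfl
theorem L571957 : sm gh N1704 = N1442 := trfs L479395 (flp_h L18020) rfl
theorem L571971 : sm gc N1703 = N1442 := trfs L479367 (flp_c L18001) rfl
theorem L571989 : sm gc N1299 = N1026 := trfs L479344 L12826 rfl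
theorem L572044 : sm gb N1853 = N1479 := trfs L479261 L18404 rfl
theorem L572051 : sm gc N2419 = N2110 := trfs L479250 L26191 rfl
theorem L572057 : sm gc N1474 = N1856 := trfs L479246 L23230 rfl
theorem L572062 : sm gh N1474 = N1853 := trfs L479246 (flp_h L23228) rfl
theorem L572073 : sm gc N3488 = N2985 := trfs L479209 L37043 rfl
theorem L572165 : sm gc N2074 = N2427 := trfs L479129 (flp_c L30279) rfl
theorem L572169 : sm gh N2074 = N2428 := trfs L479129 L30287 rfl
theorem L572177 : sm gh N1011 = N1192 := trfs L479125 L14973 rfl
theorem L572190 : sm gh N2090 = N2441 := trfs L479122 L30451 rfl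
theorem L572205 : sm gc N1696 = N1453 := trfs L479118 L18136 rfl
theorem L572362 : sm gc N500 = N577 := trfs L478943 L7364 rfl
theorem L572368 : sm gh N500 = N576 := trfs L478943 (flp_h L7359) rfl
theorem L572412 : sm gc N1186 = N1023 := trfs L478887 (flp_c L12784) rfl
theorem L572418 : sm gc N711 = N917 := trfs L478883 L11576 rfl
theorem L572428 : sm gb N916 = N714 := trfs L478868 L8986 rfl
theorem L572433 : sm gh N916 = N711 := trfs L478868 (flp_h L8984) rfl
theorem L572472 : sm gb N909 = N722 := trfs L478802 L9090 rfl
theorem L572479 : sm gc N716 = N829 := trfs L478793 L10473 rfl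
theorem L572482 : sm gh N716 = N828 := trfs L478793 (flp_h L10468) rfl
theorem L572490 : sm gc N1181 = N1034 := trfs L478787 L12926 rfl
theorem L572495 : sm gc N719 = N911 := trfs L478783 L11504 rfl
theorem L572499 : sm gh N719 = N909 := trfs L478783 (flp_h L11502) rfl
theorem L572502 : sm gc N1038 = N1308 := trfs L478768 L16444 rfl
theorem L572508 : sm gh N1038 = N1306 := trfs L478768 (flp_h L16442) rfl
theorem L572512 : sm gc N3034 = N3487 := trfs L478759 L43321 rfl
theorem L572520 : sm gc N1468 = N1688 := trfs L478755 L21093 rfl
theorem L572525 : sm gc N1473 = N1865 := trfs L478748 L23357 rfl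
theorem L572536 : sm gh N1693 = N1484 := trfs L478742 (flp_h L18519) rfl
theorem L572541 : sm gh N1686 = N1468 := trfs L478737 (flp_h L18320) rfl
theorem L572550 : sm gb N1863 = N1478 := trfs L478729 L18395 rfl
theorem L572554 : sm gh N1863 = N1473 := trfs L478729 (flp_h L18393) rfl
theorem L572592 : sm gh N3484 = N3034 := trfs L478669 (flp_h L37678) rfl
theorem L572594 : sm gb N3839 = N3052 := trfs L478665 L37841 rfl
theorem L574217 : sm ga N19711 = N16737 := trfs L476507 L206603 rfl
theorem L574548 : sm ga N16816 = N19743 := trfs L476052 L243116 rfl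
theorem L574574 : sm ga N13649 = N11579 := trfs L476044 L143193 rfl
theorem L574583 : sm ga N24353 = N28664 := trfs L476033 L352595 rfl
theorem L574590 : sm ga N24039 = N28771 := trfs L476030 L353943 rfl
theorem L574607 : sm gi N13662 = N11579 := trfs L476018 (flp_i L143380) rfl
theorem L574612 : sm gi N28677 = N24353 := trfs L476014 (flp_i L300670) rfl
theorem L574636 : sm gi N19794 = N16514 := trfs L475993 (flp_i L204415) rfl
theorem L574722 : sm gi N7985 = N9422 := trfs L475903 L116194 rfl
theorem L574724 : sm ga N7982 = N9374 := trfs L475899 L115687 rfl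
theorem L574730 : sm gi N7982 = N9380 := trfs L475899 L115692 rfl
theorem L574732 : sm ga N11522 = N13617 := trfs L475885 L167939 rfl
theorem L574738 : sm gi N11522 = N13626 := trfs L475885 L167944 rfl
theorem L574740 : sm ga N11519 = N13569 := trfs L475882 L167332 rfl
theorem L574745 : sm gi N11519 = N13575 := trfs L475882 L167339 rfl
theorem L574755 : sm ga N9392 = N7945 := trfs L475874 L98400 rfl
theorem L574763 : sm ga N3797 = N4494 := trfs L475863 (flp_a L55631) rfl
theorem L574785 : sm ga N6489 = N5488 := trfs L475857 L68112 rfl
theorem L574806 : sm gi N9398 = N7945 := trfs L475844 (flp_i L98606) rfl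
theorem L574813 : sm gi N4497 = N3797 := trfs L475841 (flp_i L47366) rfl
theorem L574858 : sm gh N21883 = N28792 := trfs L475782 L353972 rfl
theorem L574867 : sm gh N10342 = N14335 := trfs L475779 L177010 rfl
theorem L574873 : sm gh N14678 = N19846 := trfs L475762 L244217 rfl
theorem L574893 : sm gi N7827 = N9397 := trfs L475735 L115905 rfl
theorem L574895 : sm ga N3820 = N4503 := trfs L475730 L55747 rfl
theorem L574901 : sm gi N3820 = N4507 := trfs L475730 L55754 rfl
theorem L574910 : sm ga N2658 = N3132 := trfs L475712 L38867 rfl
theorem L574923 : sm gi N6507 = N5436 := trfs L475701 (flp_i L67669) rfl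
theorem L574929 : sm gi N3136 = N2658 := trfs L475696 (flp_i L33217) rfl
theorem L574966 : sm gh N13661 = N10392 := trfs L475663 (flp_h L128666) rfl
theorem L574974 : sm gh N6886 = N4974 := trfs L475660 (flp_h L61777) rfl
theorem L575001 : sm gh N7207 = N9457 := trfs L475629 L116582 rfl
theorem L575009 : sm gh N15201 = N19930 := trfs L475626 L245136 rfl
theorem L575021 : sm ga N13697 = N10459 := trfs L475618 L129152 rfl
theorem L575049 : sm ga N9443 = N7206 := trfs L475599 L89107 rfl
theorem L575063 : sm ga N15200 = N19899 := trfs L475588 L245109 rfl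
theorem L575067 : sm ga N5467 = N6521 := trfs L475574 L80632 rfl
theorem L575073 : sm ga N11473 = N13693 := trfs L475570 L168907 rfl
theorem L575079 : sm ga N5531 = N6523 := trfs L475567 L80651 rfl
theorem L575090 : sm gi N6530 = N5467 := trfs L475556 (flp_i L67984) rfl
theorem L575095 : sm gi N13712 = N11473 := trfs L475552 (flp_i L142097) rfl
theorem L575100 : sm gi N6532 = N5531 := trfs L475549 (flp_i L68738) rfl
theorem L575135 : sm gh N42222 = N31425 := trfs L475496 (flp_h L387637) rfl
theorem L575142 : sm gh N15204 = N19932 := trfs L475488 L245155 rfl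
theorem L575144 : sm ga N28843 = N21994 := trfs L475468 L271027 rfl
theorem L575149 : sm ga N28946 = N22127 := trfs L475465 L272535 rfl
theorem L575157 : sm ga N15203 = N19902 := trfs L475457 L245140 rfl
theorem L575163 : sm ga N19898 = N16666 := trfs L475448 L205982 rfl
theorem L575168 : sm ga N9445 = N8002 := trfs L475445 L99195 rfl
theorem L575178 : sm ga N11476 = N13695 := trfs L475438 L168927 rfl
theorem L575197 : sm gi N13714 = N11476 := trfs L475417 (flp_i L142119) rfl
theorem L575203 : sm gi N19849 = N16610 := trfs L475407 (flp_i L205539) rfl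
theorem L575214 : sm ga N19830 = N16610 := trfs L475381 L205162 rfl
theorem L575216 : sm ga N19828 = N16607 := trfs L475377 L205142 rfl
theorem L575219 : sm ga N9413 = N7985 := trfs L475374 L98931 rfl
theorem L575226 : sm ga N11429 = N13646 := trfs L475367 L168340 rfl
theorem L575230 : sm gi N11429 = N13659 := trfs L475367 L168345 rfl
theorem L575232 : sm ga N13645 = N11426 := trfs L475358 L141371 rfl
theorem L575238 : sm ga N6502 = N5517 := trfs L475355 L68504 rfl
theorem L575244 : sm ga N7875 = N9411 := trfs L475348 L116170 rfl
theorem L575248 : sm gi N7875 = N9420 := trfs L475348 L116175 rfl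
theorem L575250 : sm ga N19782 = N15032 := trfs L475342 L185596 rfl
theorem L575258 : sm ga N19831 = N15107 := trfs L475339 L186456 rfl
theorem L575264 : sm ga N19829 = N15104 := trfs L475335 L186433 rfl
theorem L575269 : sm ga N19825 = N14677 := trfs L475331 L181379 rfl
theorem L575279 : sm ga N10391 = N13647 := trfs L475325 L168351 rfl
theorem L575284 : sm ga N28773 = N21883 := trfs L475319 L269781 rfl
theorem L575289 : sm ga N28844 = N21995 := trfs L475316 L271036 rfl
theorem L575294 : sm ga N28835 = N21366 := trfs L475310 L263659 rfl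
theorem L575302 : sm ga N15108 = N19832 := trfs L475304 L244260 rfl
theorem L575311 : sm gh N19851 = N15108 := trfs L475294 (flp_h L186820) rfl
theorem L575331 : sm gi N13624 = N11361 := trfs L475245 (flp_i L140858) rfl
theorem L575337 : sm ga N13643 = N11126 := trfs L475229 L137870 rfl
theorem L575343 : sm ga N28765 = N23389 := trfs L475226 L288960 rfl
theorem L575351 : sm ga N13615 = N11361 := trfs L475219 L140573 rfl
theorem L575357 : sm ga N16058 = N19778 := trfs L475213 L243570 rfl
theorem L575362 : sm gi N16058 = N19791 := trfs L475213 L243577 rfl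
theorem L575372 : sm ga N9391 = N7827 := trfs L475200 L97034 rfl
theorem L575384 : sm ga N11040 = N13614 := trfs L475194 L167905 rfl
theorem L575391 : sm gi N11040 = N13623 := trfs L475194 L167912 rfl
theorem L575393 : sm ga N28766 = N21235 := trfs L475186 L262178 rfl
theorem L575399 : sm gd N14318 = N10032 := trfs L475183 (flp_d L124256) rfl
theorem L575405 : sm ga N28767 = N20027 := trfs L475180 L246855 rfl
theorem L575408 : sm ge N28767 = N20013 := trfs L475180 (flp_e L246853) rfl
theorem L575413 : sm ga N13616 = N10341 := trfs L475177 L127824 rfl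
theorem L575422 : sm ga N14591 = N19779 := trfs L475171 L243581 rfl
theorem L575427 : sm ga N41899 = N30940 := trfs L475163 L381500 rfl
theorem L575432 : sm gd N20829 = N14578 := trfs L475160 L180400 rfl
theorem L575438 : sm ga N41901 = N29139 := trfs L475157 L358796 rfl
theorem L575441 : sm ge N41901 = N29118 := trfs L475157 L358801 rfl
theorem L575444 : sm ga N19783 = N15033 := trfs L475154 L185605 rfl
theorem L575452 : sm ga N21236 = N28768 := trfs L475148 L353910 rfl
theorem L575472 : sm gh N28787 = N21236 := trfs L475134 (flp_h L262455) rfl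
theorem L575497 : sm gi N9419 = N7660 := trfs L475090 (flp_i L95222) rfl
theorem L575504 : sm ga N9410 = N7660 := trfs L475071 L95052 rfl
theorem L575515 : sm ga N5339 = N6520 := trfs L475061 L80622 rfl
theorem L575521 : sm gi N5339 = N6529 := trfs L475061 L80627 rfl
theorem L575523 : sm ga N13644 = N10099 := trfs L475054 L124920 rfl
theorem L575528 : sm ga N6869 = N4843 := trfs L475050 L60056 rfl
theorem L575531 : sm gd N6869 = N4834 := trfs L475050 (flp_d L60054) rfl
theorem L575538 : sm ga N13691 = N9622 := trfs L475047 L118796 rfl
theorem L575541 : sm ge N13691 = N9608 := trfs L475047 (flp_e L118794) rfl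
theorem L575546 : sm ga N6522 = N4973 := trfs L475044 L61606 rfl
theorem L575556 : sm ga N7017 = N9440 := trfs L475038 L116537 rfl
theorem L575560 : sm ga N19827 = N14678 := trfs L475031 L181387 rfl
theorem L575565 : sm ga N9965 = N7018 := trfs L475027 L86865 rfl
theorem L575568 : sm gd N9965 = N7004 := trfs L475027 L86869 rfl
theorem L575574 : sm ga N19896 = N13965 := trfs L475024 L172293 rfl
theorem L575577 : sm ge N19896 = N13944 := trfs L475024 L172298 rfl
theorem L575580 : sm ga N9444 = N7207 := trfs L475021 L89115 rfl
theorem L575589 : sm ga N10186 = N13692 := trfs L475015 L168896 rfl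
theorem L575611 : sm gh N13711 = N10186 := trfs L474995 (flp_h L126137) rfl
theorem L575619 : sm gh N19923 = N14808 := trfs L474976 (flp_h L183183) rfl
theorem L575651 : sm ga N19891 = N16365 := trfs L474917 L202305 rfl
theorem L575668 : sm ga N9439 = N7745 := trfs L474914 L96047 rfl
theorem L575674 : sm ga N19824 = N16188 := trfs L474911 L200251 rfl
theorem L575678 : sm ga N19889 = N16362 := trfs L474908 L202277 rfl
theorem L575683 : sm ga N9442 = N7914 := trfs L474904 L98110 rfl
theorem L575689 : sm ga N11251 = N13689 := trfs L474898 L168871 rfl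
theorem L575693 : sm gi N11251 = N13708 := trfs L474898 L168876 rfl
theorem L575695 : sm ga N28936 = N21559 := trfs L474892 L265798 rfl
theorem L575697 : sm gd N28936 = N43008 := trfs L474892 (flp_d L363696) rfl
theorem L575698 : N43008 = N42154 := eqes L575697 L356359
theorem L575699 : N43008 = N42154 := eqc rfl L575698 rfl
theorem L575702 : sm ga N42154 = N29553 := trfs L575699 L363693 rfl
theorem L575708 : sm ga N28833 = N21365 := trfs L474888 L263649 rfl
theorem L575711 : sm ga N28937 = N20304 := trfs L474884 L250149 rfl
theorem L575716 : sm ga N13696 = N10458 := trfs L474881 L129145 rfl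
theorem L575721 : sm ga N14807 = N19892 := trfs L474875 L245043 rfl
theorem L575724 : sm ga N42155 = N31425 := trfs L474866 L386872 rfl
theorem L575727 : sm ga N42002 = N31134 := trfs L474862 L383666 rfl
theorem L575729 : sm ga N42157 = N29554 := trfs L474859 L363702 rfl
theorem L575732 : sm ga N19903 = N15204 := trfs L474856 L187521 rfl
theorem L575736 : sm ga N21560 = N28938 := trfs L474850 L356104 rfl
theorem L575738 : sm gh N21560 = N28982 := trfs L474850 L356110 rfl
theorem L575740 : sm ga N28948 = N22128 := trfs L474843 L272544 rfl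
theorem L575743 : sm ga N19894 = N14808 := trfs L474832 L182832 rfl
theorem L575747 : sm ga N42153 = N31413 := trfs L474829 L386753 rfl
theorem L575751 : sm ga N19901 = N15201 := trfs L474826 L187495 rfl
theorem L575758 : sm ga N21557 = N28935 := trfs L474820 L356074 rfl
theorem L575761 : sm gh N21557 = N28979 := trfs L474820 L356083 rfl
theorem L575764 : sm ga N28933 = N21556 := trfs L474812 L265766 rfl
theorem L575766 : sm gd N28933 = N45743 := trfs L474812 (flp_d L386749) rfl
theorem L575767 : N45743 = N42149 := eqes L575766 L356318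
theorem L575768 : N45743 = N42149 := eqc rfl L575767 rfl
theorem L575769 : sm ga N42149 = N31412 := trfs L575768 L386747 rfl
theorem L575772 : sm ga N13690 = N10185 := trfs L474809 L125884 rfl
theorem L575775 : sm ga N28934 = N21548 := trfs L474806 L265695 rfl
theorem L575781 : sm ga N13694 = N10455 := trfs L474803 L129119 rfl
theorem L575790 : sm ga N14804 = N19890 := trfs L474797 L245022 rfl
theorem L575794 : sm ga N21056 = N14798 := trfs L474787 L182739 rfl
theorem L575796 : sm ge N21056 = N14769 := trfs L474787 (flp_e L182737) rfl
theorem L575802 : sm ga N10183 = N14470 := trfs L474780 L178867 rfl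
theorem L575806 : sm ga N13688 = N11248 := trfs L474772 L139283 rfl
theorem L575810 : sm ga N6868 = N5337 := trfs L474769 L66328 rfl
theorem L575820 : sm ga N14468 = N11242 := trfs L474766 L139230 rfl
theorem L575825 : sm ga N6870 = N5465 := trfs L474763 L67883 rfl
theorem L575835 : sm ga N7743 = N9961 := trfs L474757 L123241 rfl
theorem L575857 : sm gi N9980 = N7743 := trfs L474741 (flp_i L96240) rfl
theorem L575870 : sm gh N21101 = N14805 := trfs L474706 (flp_h L183161) rfl
theorem L575877 : sm ga N21057 = N14805 := trfs L474688 L182804 rfl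
theorem L575882 : sm ga N44728 = N31419 := trfs L474685 L386811 rfl
theorem L575884 : sm ga N21060 = N14803 := trfs L474682 L182783 rfl
theorem L575887 : sm gd N21060 = N14773 := trfs L474682 L182787 rfl
theorem L575894 : sm ga N44733 = N31404 := trfs L474679 L386683 rfl
theorem L575896 : sm ge N44733 = N31341 := trfs L474679 L386687 rfl
theorem L575898 : sm ga N21070 = N15198 := trfs L474676 L187470 rfl
theorem L575905 : sm ga N21554 = N30670 := trfs L474670 L378141 rfl
theorem L575907 : sm gh N21554 = N30737 := trfs L474670 L378149 rfl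
theorem L575909 : sm ga N30675 = N21552 := trfs L474663 L265727 rfl
theorem L575912 : sm gd N30675 = N21507 := trfs L474663 L265731 rfl
theorem L575916 : sm ga N30689 = N22122 := trfs L474660 L272492 rfl
theorem L575921 : sm ga N21055 = N14802 := trfs L474652 L182773 rfl
theorem L575926 : sm ga N44726 = N31415 := trfs L474648 L386769 rfl
theorem L575929 : sm ga N21058 = N14800 := trfs L474645 L182753 rfl
theorem L575932 : sm gd N21058 = N14771 := trfs L474645 (flp_d L182751) rfl
theorem L575938 : sm ga N44729 = N31398 := trfs L474642 L386633 rfl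
theorem L575940 : sm ge N44729 = N31337 := trfs L474642 (flp_e L386631) rfl
theorem L575943 : sm ga N21068 = N15195 := trfs L474639 L187446 rfl
theorem L575952 : sm ga N21551 = N30668 := trfs L474633 L378124 rfl
theorem L575956 : sm ga N14469 = N11246 := trfs L474627 L139265 rfl
theorem L575961 : sm ga N30666 = N23821 := trfs L474623 L293980 rfl
theorem L575963 : sm ga N30662 = N23813 := trfs L474619 L293908 rfl
theorem L575964 : N23813 = N44683 := eqes L575963 (flp_a L378068)
theorem L575965 : N44683 = N23813 := (eqc rfl L575964 rfl).symm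
theorem L575968 : sm ga N23813 = N30662 := trfs L575965 L378068 rfl
theorem L575975 : sm gi N23813 = N30729 := trfs L575965 L378075 rfl
theorem L575976 : N30729 = N34712 := eqes L575975 L294285
theorem L575977 : N34712 = N30729 := (eqc rfl L575976 rfl).symm
theorem L575983 : sm gi N30729 = N23813 := trfs L575977 (flp_i L294285) rfl
theorem L575986 : sm ga N16357 = N21054 := trfs L474612 L259902 rfl
theorem L575998 : sm gi N21098 = N16357 := trfs L474601 (flp_i L202547) rfl
theorem L576015 : sm gi N9981 = N7741 := trfs L474572 (flp_i L96225) rfl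
theorem L576039 : sm ga N30467 = N21361 := trfs L474511 L263609 rfl
theorem L576041 : sm gd N30467 = N21331 := trfs L474511 L263613 rfl
theorem L576043 : sm ge N30467 = N45349 := trfs L474511 (flp_e L383608) rfl
theorem L576044 : N45349 = N44421 := eqes L576043 (flp_e L375877)
theorem L576045 : N45349 = N44421 := eqc rfl L576044 rfl
theorem L576047 : sm ga N44421 = N31128 := trfs L576045 L383604 rfl
theorem L576052 : sm ga N20919 = N14673 := trfs L474496 L181339 rfl
theorem L576055 : sm gd N20919 = N14653 := trfs L474496 (flp_d L181337) rfl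
theorem L576061 : sm ga N14379 = N11122 := trfs L474481 L137834 rfl
theorem L576102 : sm ga N21166 = N15649 := trfs L474406 L193526 rfl
theorem L576112 : sm ga N15651 = N19983 := trfs L474395 L243565 rfl
theorem L576126 : sm ga N7602 = N9860 := trfs L474388 L121979 rfl
theorem L576148 : sm gi N20842 = N15649 := trfs L474376 (flp_i L193727) rfl
theorem L576154 : sm gi N19790 = N15651 := trfs L474373 (flp_i L193746) rfl
theorem L576161 : sm gi N10754 = N7418 := trfs L474370 (flp_i L92056) rfl
theorem L576168 : sm gi N9869 = N7602 := trfs L474366 (flp_i L94494) rfl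
theorem L576186 : sm ga N42351 = N30380 := trfs L474316 L374510 rfl
theorem L576189 : sm ge N42351 = N30359 := trfs L474316 L374513 rfl
theorem L576195 : sm gb N21172 = N30359 := trfs L474309 L374383 rfl
theorem L576197 : sm gd N21172 = N30350 := trfs L474309 L374385 rfl
theorem L576205 : sm gh N20862 = N30350 := trfs L474306 L373822 rfl
theorem L576209 : sm gb N30356 = N21170 := trfs L474297 L261496 rfl
theorem L576213 : sm gh N30356 = N21166 := trfs L474297 (flp_h L261494) rfl
theorem L576216 : sm ga N29070 = N20861 := trfs L474294 L257473 rfl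
theorem L576219 : sm gd N29070 = N41929 := trfs L474294 (flp_d L354348) rfl
theorem L576221 : sm ge N29070 = N20847 := trfs L474294 (flp_e L257471) rfl
theorem L576227 : sm gb N14549 = N20847 := trfs L474287 L257387 rfl
theorem L576229 : sm gd N14549 = N20843 := trfs L474287 (flp_d L257383) rfl
theorem L576239 : sm gb N9983 = N6975 := trfs L474275 L86469 rfl
theorem L576242 : sm ge N9983 = N13896 := trfs L474275 (flp_e L118403) rfl
theorem L576247 : sm ga N20070 = N14414 := trfs L474271 L178144 rfl
theorem L576250 : sm gd N20070 = N28865 := trfs L474271 (flp_d L244608) rfl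
theorem L576252 : sm ge N20070 = N14400 := trfs L474271 (flp_e L178142) rfl
theorem L576256 : sm gb N10057 = N14400 := trfs L474264 L178068 rfl
theorem L576258 : sm gd N10057 = N14396 := trfs L474264 (flp_d L178064) rfl
theorem L576265 : sm ga N14547 = N10765 := trfs L474253 L133306 rfl
theorem L576269 : sm gd N14547 = N10756 := trfs L474253 (flp_d L133304) rfl
theorem L576272 : sm gh N14547 = N20847 := trfs L474253 (flp_h L177239) rfl
theorem L576275 : sm ga N6973 = N5213 := trfs L474250 L64787 rfl
theorem L576282 : sm gh N6973 = N9983 := trfs L474250 (flp_h L85366) rfl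
theorem L576284 : sm ga N13809 = N10850 := trfs L474246 L134381 rfl
theorem L576291 : sm gd N7465 = N10055 := trfs L474243 (flp_d L85972) rfl
theorem L576300 : sm ga N7474 = N10055 := trfs L474236 L122501 rfl
theorem L576303 : sm gi N7474 = N9912 := trfs L474236 L122499 rfl
theorem L576310 : sm gh N10030 = N14558 := trfs L474228 (flp_h L124096) rfl
theorem L576313 : sm gd N4832 = N3663 := trfs L474225 (flp_d L45751) rfl
theorem L576316 : sm gh N4832 = N6984 := trfs L474225 (flp_h L59910) rfl
theorem L576323 : sm gb N5259 = N3642 := trfs L474219 (flp_b L45450) rfl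
theorem L576326 : sm gd N5259 = N6948 := trfs L474219 (flp_d L59623) rfl
theorem L576345 : sm gi N14395 = N10848 := trfs L474191 (flp_i L134548) rfl
theorem L576347 : sm ga N21183 = N30348 := trfs L474185 (flp_a L257374) rfl
theorem L576349 : sm gb N21183 = N14576 := trfs L474185 L180290 rfl
theorem L576355 : sm ga N21286 = N30496 := trfs L474182 (flp_a L258665) rfl
theorem L576357 : sm gb N21286 = N14653 := trfs L474182 L181226 rfl
theorem L576363 : sm ga N21288 = N30494 := trfs L474178 (flp_a L258645) rfl
theorem L576365 : sm gb N21288 = N14651 := trfs L474178 L181210 rfl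
theorem L576368 : sm gf N21288 = N29253 := trfs L474178 (flp_f L248026) rfl
theorem L576370 : sm gh N21288 = N14644 := trfs L474178 (flp_h L181208) rfl
theorem L576374 : sm gb N10084 = N14625 := trfs L474171 L177885 rfl
theorem L576376 : sm gd N10084 = N14380 := trfs L474171 (flp_d L177883) rfl
theorem L576379 : sm ga N20941 = N14625 := trfs L474168 L180838 rfl
theorem L576382 : sm gd N20941 = N14612 := trfs L474168 (flp_d L180836) rfl
theorem L576386 : sm ga N30863 = N44249 := trfs L474162 (flp_a L374348) rfl
theorem L576388 : sm gb N30863 = N21213 := trfs L474162 L262027 rfl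
theorem L576393 : sm ga N31016 = N44470 := trfs L474159 (flp_a L376257) rfl
theorem L576395 : sm gb N31016 = N21331 := trfs L474159 L263402 rfl
theorem L576400 : sm ga N31018 = N44467 := trfs L474155 (flp_a L376225) rfl
theorem L576402 : sm gb N31018 = N21328 := trfs L474155 L263376 rfl
theorem L576405 : sm gf N31018 = N42626 := trfs L474155 (flp_f L360501) rfl
theorem L576412 : sm gb N14655 = N21289 := trfs L474148 L258454 rfl
theorem L576414 : sm gd N14655 = N20921 := trfs L474148 L258456 rfl
theorem L576426 : sm gb N44264 = N30842 := trfs L474138 L380470 rfl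
theorem L576432 : sm ge N20952 = N29200 := trfs L474135 (flp_e L247581) rfl
theorem L576436 : sm gb N44497 = N30983 := trfs L474132 L382231 rfl
theorem L576443 : sm gh N20971 = N30498 := trfs L474122 L375563 rfl
theorem L576445 : sm gb N30744 = N21412 := trfs L474114 L264355 rfl
theorem L576454 : sm gb N20949 = N14612 := trfs L474100 L180765 rfl
theorem L576459 : sm gb N21103 = N14708 := trfs L474097 L181867 rfl
theorem L576464 : sm gb N44494 = N30981 := trfs L474094 L382218 rfl
theorem L576469 : sm gb N21266 = N30510 := trfs L474087 L376247 rfl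
theorem L576471 : sm gd N21266 = N30496 := trfs L474087 (flp_d L376243) rfl
theorem L576476 : sm ga N30970 = N22968 := trfs L474077 L283649 rfl
theorem L576483 : sm ga N14608 = N10848 := trfs L474074 L134366 rfl
theorem L576488 : sm gh N14608 = N20949 := trfs L474074 (flp_h L178132) rfl
theorem L576490 : sm ga N14700 = N10973 := trfs L474071 L135922 rfl
theorem L576497 : sm gh N14700 = N21103 := trfs L474071 (flp_h L179435) rfl
theorem L576500 : sm ga N30968 = N22970 := trfs L474068 L283668 rfl
theorem L576501 : N22970 = N44380 := eqes L576500 (flp_a L375502)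
theorem L576502 : N44380 = N22970 := (eqc rfl L576501 rfl).symm
theorem L576504 : sm gh N30968 = N44494 := trfs L474068 (flp_h L376469) rfl
theorem L576506 : sm ga N22970 = N30968 := trfs L576502 L375502 rfl
theorem L576517 : sm ga N15774 = N21258 := trfs L474059 L258170 rfl
theorem L576520 : sm gi N15774 = N20940 := trfs L474059 L258177 rfl
theorem L576533 : sm gh N44495 = N31016 := trfs L474024 (flp_h L382822) rfl
theorem L576539 : sm gh N44497 = N31018 := trfs L474018 (flp_h L382847) rfl
theorem L576542 : sm gb N21268 = N30513 := trfs L534928 L376288 rfl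
theorem L576549 : sm ga N14628 = N20943 := trfs L474004 (flp_a L178076) rfl
theorem L576551 : sm gb N14628 = N10086 := trfs L474004 L124852 rfl
theorem L576554 : sm ge N14628 = N20109 := trfs L474004 (flp_e L170912) rfl
theorem L576557 : sm ga N30498 = N21289 := trfs L534466 L262865 rfl
theorem L576560 : sm gd N30498 = N21268 := trfs L534466 L262868 rfl
theorem L576562 : sm ga N10066 = N14396 := trfs L473994 (flp_a L122723) rfl
theorem L576564 : sm gb N10066 = N6950 := trfs L473994 L86189 rfl
theorem L576567 : sm ge N10066 = N13835 := trfs L473994 (flp_e L117899) rfl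
theorem L576569 : sm gh N10066 = N6948 := trfs L473994 (flp_h L86187) rfl
theorem L576619 : sm gb N16085 = N22937 := trfs L552383 L283430 rfl
theorem L576662 : sm gb N15752 = N11059 := trfs L473848 L137223 rfl
theorem L576673 : sm gd N15754 = N21258 := trfs L473842 (flp_d L180757) rfl
theorem L576695 : sm gb N16086 = N22936 := trfs L473833 L283418 rfl
theorem L576731 : sm gi N33407 = N22963 := trfs L473785 (flp_i L283959) rfl
theorem L576758 : sm ga N30458 = N23567 := trfs L473718 L291036 rfl
theorem L576759 : N23567 = N44389 := eqes L576758 (flp_a L375596)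
theorem L576760 : N44389 = N23567 := (eqc rfl L576759 rfl).symm
theorem L576762 : sm ga N23567 = N30458 := trfs L576760 L375596 rfl
theorem L576769 : sm ga N28829 = N23572 := trfs L473715 L291074 rfl
theorem L576774 : sm ga N44415 = N31108 := trfs L473698 L383444 rfl
theorem L576776 : sm ge N44415 = N31070 := trfs L473698 (flp_e L383442) rfl
theorem L576778 : sm ga N22889 = N16171 := trfs L473685 L200107 rfl
theorem L576780 : sm gd N22889 = N16146 := trfs L473685 (flp_d L200105) rfl
theorem L576783 : sm gj N22889 = N34037 := trfs L473685 (flp_j L288802) rfl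
theorem L576784 : N34037 = N33120 := eqes L576783 (flp_j L280855)
theorem L576785 : N34037 = N33120 := eqc rfl L576784 rfl
theorem L576787 : sm gi N22889 = N34299 := trfs L473685 L290964 rfl
theorem L576788 : N34299 = N33362 := eqes L576787 L283016
theorem L576789 : N34299 = N33362 := eqc rfl L576788 rfl
theorem L576790 : sm ga N33362 = N23559 := trfs L576789 L290966 rfl
theorem L576792 : sm gd N33362 = N23521 := trfs L576789 L290968 rfl
theorem L576795 : sm ga N33120 = N23372 := trfs L576785 L288799 rfl
theorem L576797 : sm gd N33120 = N23347 := trfs L576785 (flp_d L288797) rfl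
theorem L576805 : sm ga N16178 = N22595 := trfs L473671 L278959 rfl
theorem L576813 : sm ga N15721 = N11119 := trfs L473665 L137810 rfl
theorem L576831 : sm gi N15750 = N11119 := trfs L473645 (flp_i L138049) rfl
theorem L576834 : sm gi N32731 = N23379 := trfs L473639 (flp_i L289245) rfl
theorem L577490 : sm gg N22996 = N38193 := trfs L472406 (flp_g L323206) rfl
theorem L577491 : N38193 = N33227 := eqes L577490 (flp_g L281839)
theorem L577492 : N38193 = N33227 := eqc rfl L577491 rfl
theorem L577496 : sm gd N33227 = N26192 := trfs L577492 (flp_d L323202) rfl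
theorem L577497 : N26192 = N22800 := eqes L577496 L281836
theorem L577498 : N26192 = N22800 := eqc rfl L577497 rfl
theorem L577512 : sm gh N22800 = N17986 := trfs L577498 (flp_h L222236) rfl
theorem L577513 : N17986 = N33147 := eqes L577512 (flp_h L281110)
theorem L577514 : N33147 = N17986 := (eqc rfl L577513 rfl).symm
theorem L577522 : sm gh N17986 = N22800 := trfs L577514 L281110 rfl
theorem L577641 : sm ga N7480 = N5262 := trfs L472262 L65470 rfl
theorem L577654 : sm ga N15745 = N11071 := trfs L504692 L137285 rfl
theorem L577657 : sm gh N15745 = N11059 := trfs L504692 (flp_h L137283) rfl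
theorem L577667 : sm gh N5255 = N7480 := trfs L472242 L92574 rfl
theorem L577673 : sm gc N5912 = N7638 := trfs L472235 L92616 rfl
theorem L577696 : sm gb N7643 = N11071 := trfs L472217 L134084 rfl
theorem L577732 : sm gh N5144 = N3643 := trfs L472200 (flp_h L45490) rfl
theorem L577739 : sm gh N10814 = N7643 := trfs L472196 (flp_h L95007) rfl
theorem L577747 : sm gh N5147 = N4102 := trfs L472193 (flp_h L51064) rfl
theorem L577750 : sm ga N5284 = N7453 := trfs L472190 L92443 rfl
theorem L577758 : sm gi N5284 = N7466 := trfs L472190 L92447 rfl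
theorem L577774 : sm gh N7454 = N5274 := trfs L472178 (flp_h L65726) rfl
theorem L577788 : sm gh N15722 = N11099 := trfs L472172 (flp_h L137798) rfl
theorem L577795 : sm gh N7458 = N5941 := trfs L472169 (flp_h L73793) rfl
theorem L577861 : sm gh N33497 = N23442 := trfs L472102 (flp_h L290044) rfl
theorem L577876 : sm gh N11064 = N15785 := trfs L472085 L194836 rfl
theorem L577888 : sm gh N7648 = N10819 := trfs L472074 (flp_h L134159) rfl
theorem L577893 : sm gb N16148 = N23457 := trfs L472066 L283048 rfl
theorem L577920 : sm gh N7594 = N10744 := trfs L472043 (flp_h L133145) rfl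
theorem L578161 : sm ga N7832 = N10620 := trfs L471764 L131422 rfl
theorem L578179 : sm ga N10683 = N7881 := trfs L471749 L97668 rfl
theorem L578183 : sm ga N7365 = N5520 := trfs L471735 L68528 rfl
theorem L578195 : sm ga N3822 = N5086 := trfs L471729 L63167 rfl
theorem L578216 : sm gb N5092 = N3825 := trfs L471708 L47637 rfl
theorem L578222 : sm gi N5092 = N3822 := trfs L471708 (flp_i L47635) rfl
theorem L578240 : sm ga N7323 = N5492 := trfs L471668 L68152 rfl
theorem L578244 : sm ga N3800 = N5059 := trfs L471663 L62798 rfl
theorem L578269 : sm gh N4307 = N5041 := trfs L471637 L62519 rfl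
theorem L578277 : sm gh N7296 = N5478 := trfs L471615 (flp_h L68139) rfl
theorem L578296 : sm ga N7948 = N10578 := trfs L471604 L130838 rfl
theorem L578484 : sm gh N7324 = N5395 := trfs L471416 (flp_h L67125) rfl
theorem L578495 : sm gh N2984 = N3502 := trfs L471405 L43541 rfl
theorem L578528 : sm gh N4224 = N5061 := trfs L471372 L62782 rfl
theorem L579156 : N2860 = N2795 := L447709.trans L447757
theorem L579165 : sm gc N960 = N1377 := trfs L470550 L16894 rfl
theorem L579185 : sm gc N1374 = N1941 := trfs L470533 L24291 rfl
theorem L579229 : sm gj N1964 = N2816 := trfs L470460 (flp_j L49150) L445145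
theorem L579230 : N2816 = N2811 := eqes L579229 (flp_j L24412)
theorem L579231 : N2816 = N2811 := eqc rfl L579230 rfl
theorem L579272 : sm gi N2758 = N1964 := trfs L470448 (flp_i L24595) rfl
theorem L579542 : sm gb N2894 = N3193 := trfs L470036 L39647 rfl
theorem L579544 : sm gd N2894 = N3192 := trfs L470036 (flp_d L39645) rfl
theorem L579551 : sm gc N2561 = N3197 := trfs L470033 (flp_c L39719) rfl
theorem L579570 : sm gb N4185 = N4607 := trfs L470017 L57085 rfl
theorem L579572 : sm gd N4185 = N4606 := trfs L470017 L57087 rfl
theorem L579577 : sm gc N3703 = N4614 := trfs L470014 L57195 rfl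
theorem L579589 : sm gb N6058 = N6661 := trfs L470000 L82423 rfl
theorem L579591 : sm gd N6058 = N6659 := trfs L470000 L82425 rfl
theorem L579596 : sm gc N5361 = N6672 := trfs L469997 L82587 rfl
theorem L579671 : sm gh N6021 = N7534 := trfs L469925 (flp_h L93571) rfl
theorem L579701 : sm gh N12767 = N15987 := trfs L469889 (flp_h L198021) rfl
theorem L579710 : sm gb N12756 = N14005 := trfs L469886 L172968 rfl
theorem L579735 : sm gb N12755 = N14004 := trfs L469859 L172960 rfl
theorem L579741 : sm gc N11279 = N14032 := trfs L469856 L173298 rfl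
theorem L579797 : sm gc N8796 = N12340 := trfs L469747 (flp_c L152776) rfl
theorem L579879 : sm gh N6079 = N8477 := trfs L469646 (flp_h L105092) rfl
theorem L580283 : sm ga N11290 = N14033 := trfs L469104 L173228 rfl
theorem L580291 : sm gc N11280 = N14033 := trfs L469098 L173305 rfl
theorem L580314 : sm gh N11281 = N15979 := trfs L469068 L442850 rfl
theorem L580336 : sm ga N11187 = N15979 := trfs L469040 L197559 rfl
theorem L580344 : sm ga N11189 = N15980 := trfs L469035 L197579 rfl
theorem L580349 : sm gi N11189 = N15946 := trfs L469035 (flp_i L197577) rfl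
theorem L580355 : sm ga N10986 = N7701 := trfs L469029 L95559 rfl
theorem L580362 : sm gh N10986 = N7771 := trfs L469029 L95566 rfl
theorem L580365 : sm gb N5205 = N3695 := trfs L469009 L46060 rfl
theorem L580373 : sm gi N5205 = N3688 := trfs L469009 (flp_i L46058) rfl
theorem L580374 : N3688 = N18313 := eqes L580373 L545347
theorem L580375 : N18313 = N3688 := (eqc rfl L580374 rfl).symm
theorem L580386 : sm gi N3688 = N5205 := trfs L580375 (flp_i L545347) rfl
theorem L580388 : sm gb N10961 = N7711 := trfs L469003 L95757 rfl
theorem L580394 : sm gi N10961 = N7701 := trfs L469003 (flp_i L95755) rfl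
theorem L580408 : sm gb N5317 = N7548 := trfs L468997 (flp_b L64812) rfl
theorem L580432 : sm gb N5319 = N7550 := trfs L468965 (flp_b L64831) rfl
theorem L580454 : sm gb N7547 = N5350 := trfs L468949 L66549 rfl
theorem L580473 : sm ga N2551 = N3589 := trfs L468933 L44710 rfl
theorem L580479 : sm gi N2551 = N3598 := trfs L468933 L44717 rfl
theorem L580481 : sm ga N5286 = N7454 := trfs L468930 L92452 rfl
theorem L580491 : sm ga N5343 = N7528 := trfs L468927 L93367 rfl
theorem L580498 : sm gi N5343 = N7547 := trfs L468927 L93374 rfl
theorem L580500 : sm ga N2623 = N3591 := trfs L468924 L44729 rfl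
theorem L580509 : sm gi N2623 = N3600 := trfs L468924 L44734 rfl
theorem L580511 : sm ga N5336 = N7524 := trfs L468921 L93335 rfl
theorem L580527 : sm ga N5193 = N3690 := trfs L468915 L45956 rfl
theorem L580530 : sm gh N5193 = N3678 := trfs L468915 (flp_h L45954) rfl
theorem L580532 : sm ga N7530 = N5345 := trfs L468901 L66405 rfl
theorem L580560 : sm gh N5329 = N7530 := trfs L468882 (flp_h L93536) rfl
theorem L580578 : sm gh N7686 = N10987 := trfs L468865 L135655 rfl
theorem L580583 : sm gh N11163 = N15977 := trfs L468855 L196962 rfl
theorem L580630 : sm gb N23201 = N16228 := trfs L468813 L200909 rfl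
theorem L581911 : sm gb N20623 = N16691 := trfs L466798 L206177 rfl
theorem L581918 : sm gb N14183 = N11489 := trfs L466785 L142159 rfl
theorem L581927 : sm gb N20624 = N16692 := trfs L466775 L206186 rfl
theorem L581936 : sm gb N14213 = N11490 := trfs L466760 L142169 rfl
theorem L581942 : sm gb N20670 = N16694 := trfs L466750 L206204 rfl
theorem L581951 : sm gb N14259 = N11554 := trfs L466735 L142967 rfl
theorem L581958 : sm gb N20739 = N16561 := trfs L466726 L204760 rfl
theorem L581981 : sm gb N14258 = N11393 := trfs L466703 L141108 rfl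
theorem L582516 : sm gh N6108 = N7327 := trfs L466045 L90709 rfl
theorem L582948 : sm gc N1457 = N1881 := trfs L465447 L23570 rfl
theorem L582982 : sm gc N2079 = N2683 := trfs L465428 L33544 rfl
theorem L582988 : sm gh N2079 = N2685 := trfs L465428 L33548 rfl
theorem L582992 : sm gc N3500 = N2984 := trfs L465424 L37034 rfl
theorem L583004 : sm gc N5039 = N4307 := trfs L465408 L53303 rfl
theorem L583115 : sm gh N1310 = N1014 := trfs L465304 (flp_h L12714) rfl
theorem L583132 : sm gc N1317 = N1006 := trfs L465276 (flp_c L12599) rfl
theorem L583139 : sm gc N1309 = N1014 := trfs L465272 L12694 rfl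
theorem L583144 : sm gc N639 = N496 := trfs L465269 (flp_c L6299) rfl
theorem L583149 : sm gc N702 = N923 := trfs L465266 (flp_c L11650) rfl
theorem L583152 : sm gh N702 = N924 := trfs L465266 L11654 rfl
theorem L583155 : sm gc N1191 = N1011 := trfs L465262 (flp_c L12667) rfl
theorem L583160 : sm gc N987 = N1326 := trfs L465251 L16675 rfl
theorem L583168 : sm gc N1340 = N996 := trfs L465241 L12502 rfl
theorem L583176 : sm gc N645 = N488 := trfs L465238 (flp_c L6203) rfl
theorem L583183 : sm gc N687 = N932 := trfs L465234 L11757 rfl
theorem L583190 : sm gc N1199 = N993 := trfs L465230 (flp_c L12466) rfl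
theorem L583221 : sm gh N934 = N687 := trfs L465213 (flp_h L8741) rfl
theorem L583282 : sm gc N1893 = N1411 := trfs L465152 (flp_c L17667) rfl
theorem L583303 : sm gh N1895 = N1411 := trfs L465141 (flp_h L17686) rfl
theorem L583328 : sm gh N2728 = N2033 := trfs L465126 (flp_h L25365) rfl
theorem L583394 : sm gh N2930 = N3937 := trfs L465041 L48953 rfl
theorem L583404 : sm gc N2068 = N2779 := trfs L465023 L34702 rfl
theorem L583410 : sm gh N2068 = N2790 := trfs L465023 L34705 rfl
theorem L583421 : sm gh N4267 = N5651 := trfs L465020 L70099 rfl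
theorem L583432 : sm gc N3964 = N2954 := trfs L465014 L36704 rfl
theorem L583466 : sm gc N1434 = N1929 := trfs L464996 L24147 rfl
theorem L583482 : sm gc N2746 = N2048 := trfs L464989 L25511 rfl
theorem L583500 : sm gh N3975 = N2954 := trfs L464979 (flp_h L36782) rfl
theorem L583503 : sm gb N1935 = N1439 := trfs L464975 L17973 rfl
theorem L583507 : sm gh N1935 = N1434 := trfs L464975 (flp_h L17971) rfl
theorem L583514 : sm gh N3561 = N2943 := trfs L464967 (flp_h L36660) rfl
theorem L583549 : sm gh N1911 = N1420 := trfs L464913 (flp_h L17811) rfl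
theorem L583558 : sm gh N3522 = N2942 := trfs L464905 (flp_h L36643) rfl
theorem L583650 : sm gh N5595 = N4234 := trfs L464731 (flp_h L52543) rfl
theorem L583787 : sm gc N5555 = N4319 := trfs L464545 L53436 rfl
theorem L583792 : sm gc N6223 = N7294 := trfs L464541 L90313 rfl
theorem L583797 : sm gh N6223 = N7298 := trfs L464541 L90316 rfl
theorem L585491 : sm gc N2426 = N2109 := trfs L461990 L26181 rfl
theorem L585505 : sm gc N1695 = N1484 := trfs L461973 L18488 rfl
theorem L585522 : sm gc N2439 = N2090 := trfs L461956 L25976 rfl
theorem L585719 : sm gc N4253 = N5084 := trfs L461685 L63147 rfl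
theorem L585724 : sm gh N4253 = N5090 := trfs L461685 L63151 rfl
theorem L585744 : sm gc N6151 = N7362 := trfs L461666 L91264 rfl
theorem L585752 : sm gc N5640 = N4267 := trfs L461662 L52846 rfl
theorem L585766 : sm gh N7373 = N6151 := trfs L461647 (flp_h L76239) rfl
theorem L585848 : sm gc N3555 = N2943 := trfs L461545 L36602 rfl
theorem L585853 : sm gc N1711 = N1417 := trfs L461542 (flp_c L17744) rfl
theorem L585860 : sm gc N3518 = N2942 := trfs L461539 L36593 rfl
theorem L585864 : sm gc N2042 = N2463 := trfs L461535 L30787 rfl
theorem L585867 : sm gh N2042 = N2467 := trfs L461535 L30789 rfl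
theorem L585877 : sm gc N1907 = N1420 := trfs L461529 L17781 rfl
theorem L585882 : sm gc N2450 = N2030 := trfs L461521 (flp_c L25291) rfl
theorem L585888 : sm gc N5057 = N4224 := trfs L461518 L52352 rfl
theorem L585892 : sm gc N2924 = N3535 := trfs L461514 L44013 rfl
theorem L585903 : sm gc N2724 = N2033 := trfs L461508 L25331 rfl
theorem L585909 : sm gc N7321 = N6108 := trfs L461499 L75607 rfl
theorem L585913 : sm gc N4225 = N5110 := trfs L461495 L63490 rfl
theorem L585928 : sm gc N3931 = N2930 := trfs L461489 L36441 rfl
theorem L585934 : sm gc N5140 = N4255 := trfs L461482 L52727 rfl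
theorem L585944 : sm gc N6110 = N7401 := trfs L461474 L91775 rfl
theorem L585958 : sm gc N5682 = N4236 := trfs L461468 L52474 rfl
theorem L585975 : sm gh N7412 = N6110 := trfs L461451 (flp_h L75730) rfl
theorem L586849 : N5703 = N2811 := L445145.trans L579231
theorem L587185 : sm gc N7422 = N10754 := trfs L459927 (flp_c L91952) rfl
theorem L587192 : sm ga N3941 = N5127 := trfs L459924 (flp_a L44181) rfl
theorem L587207 : sm gi N3941 = N2734 := trfs L459924 (flp_i L34187) rfl
theorem L587231 : sm gc N2808 = N3943 := trfs L459906 L49114 rfl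
theorem L587271 : sm gh N1961 = N2756 := trfs L459884 (flp_h L34450) rfl
theorem L587384 : sm ga N3572 = N2756 := trfs L459775 L34415 rfl
theorem L587411 : sm gb N3697 = N5206 := trfs L459737 (flp_b L44880) rfl
theorem L587419 : sm gc N7567 = N10945 := trfs L459734 (flp_c L93645) rfl
theorem L587424 : sm ga N4040 = N5226 := trfs L459731 (flp_a L45045) rfl
theorem L587433 : sm gi N4040 = N2805 := trfs L459731 (flp_i L35021) rfl
theorem L587524 : sm gh N4171 = N5827 := trfs L459624 (flp_h L72387) rfl
theorem L587575 : sm ga N7709 = N5856 := trfs L459582 L72565 rfl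
theorem L587577 : sm gb N7709 = N10960 := trfs L459582 (flp_b L93769) rfl
theorem L587581 : sm gc N4137 = N5856 := trfs L459576 L72638 rfl
theorem L587607 : sm gc N2858 = N4045 := trfs L459553 L50290 rfl
theorem L587701 : sm gi N2803 = N4039 := trfs L459467 L50044 rfl
theorem L587715 : sm ga N5224 = N4039 := trfs L459442 L50196 rfl
theorem L587724 : sm ga N5845 = N7573 := trfs L459435 (flp_a L65021) rfl
theorem L587731 : sm gi N5845 = N4052 := trfs L459435 (flp_i L50437) rfl
theorem L587733 : sm ga N7572 = N5846 := trfs L459425 L72483 rfl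
theorem L587820 : sm gi N8502 = N12313 := trfs L459319 L151607 rfl
theorem L587913 : sm gf N25357 = N37009 := trfs L459201 (flp_f L313428) rfl
theorem L587914 : N37009 = N36956 := eqes L587913 (flp_f L312977)
theorem L587915 : N37009 = N36956 := eqc rfl L587914 rfl
theorem L587924 : sm gi N36956 = N25391 := trfs L587915 (flp_i L313424) rfl
theorem L588037 : sm gi N33406 = N22965 := trfs L459039 (flp_i L283979) rfl
theorem L588181 : sm gi N16616 = N22620 := trfs L458859 L278928 rfl
theorem L588238 : sm gi N11889 = N8951 := trfs L458806 (flp_i L110603) rfl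
theorem L588316 : sm ga N5523 = N3913 := trfs L458738 L48724 rfl
theorem L588330 : sm gc N11445 = N15544 := trfs L458730 (flp_c L132456) rfl
theorem L588407 : sm gb N15551 = N11144 := trfs L458646 L138188 rfl
theorem L588614 : sm gb N11537 = N15376 := trfs L458438 (flp_b L130954) rfl
theorem L588651 : sm gb N7956 = N10583 := trfs L458417 (flp_b L90404) rfl
theorem L588794 : sm gi N16062 = N22765 := trfs L458280 L280772 rfl
theorem L588823 : sm gi N33179 = N23318 := trfs L458226 (flp_i L288405) rfl
theorem L588870 : sm ga N7605 = N10744 := trfs L458160 L133035 rfl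
theorem L588911 : sm gc N5266 = N4102 := trfs L458117 L51019 rfl
theorem L588931 : sm ga N5236 = N3943 := trfs L458082 L49087 rfl
theorem L588933 : sm gb N5236 = N7415 := trfs L458082 (flp_b L63641) rfl
theorem L588951 : sm ga N3640 = N2758 := trfs L458062 L34429 rfl
theorem L588960 : sm gb N7638 = N10839 := trfs L458059 (flp_b L92715) rfl
theorem L588973 : sm gb N7468 = N5269 := trfs L458052 L65573 rfl
theorem L588981 : sm gi N7468 = N5262 := trfs L458052 (flp_i L65571) rfl
theorem L589000 : sm gb N5292 = N7466 := trfs L458037 (flp_b L64098) rfl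
theorem L589048 : sm gh N5167 = N4084 := trfs L457973 (flp_h L50845) rfl
theorem L589057 : sm ga N10858 = N7632 := trfs L457963 L94737 rfl
theorem L589063 : sm gh N10858 = N7620 := trfs L457963 (flp_h L94735) rfl
theorem L589106 : sm gh N5913 = N7487 := trfs L457934 L92643 rfl
theorem L589115 : sm gh N5979 = N7574 := trfs L457930 L93627 rfl
theorem L589133 : sm gh N11066 = N15788 := trfs L457920 L194856 rfl
theorem L589153 : sm gc N7639 = N5943 := trfs L457900 L73726 rfl
theorem L589166 : sm gh N5148 = N4103 := trfs L457890 (flp_h L51079) rfl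
theorem L589172 : sm gh N5199 = N4158 := trfs L457886 (flp_h L51707) rfl
theorem L589175 : sm gh N5151 = N4255 := trfs L457882 (flp_h L52810) rfl
theorem L589181 : sm gh N10821 = N7650 := trfs L457878 (flp_h L95117) rfl
theorem L589295 : sm gh N10749 = N8540 := trfs L457731 (flp_h L105868) rfl
theorem L589301 : sm gh N5116 = N4225 := trfs L457728 (flp_h L52426) rfl
theorem L589308 : sm gh N10745 = N7595 := trfs L457724 (flp_h L94412) rfl
theorem L589310 : sm gh N3539 = N2924 := trfs L457712 (flp_h L36400) rfl
theorem L589321 : sm gh N7405 = N5239 := trfs L457706 (flp_h L65242) rfl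
theorem L589404 : sm gb N3941 = N2811 := trfs L470469 L35070 rfl
theorem L589411 : sm gh N3941 = N2808 := trfs L470469 (flp_h L35068) rfl
theorem L589417 : sm gh N5869 = N7428 := trfs L457618 L91942 rfl
theorem L589426 : sm gc N5236 = N4056 := trfs L457611 (flp_c L50453) rfl
theorem L589436 : sm gh N5227 = N7422 := trfs L457608 L91878 rfl
theorem L589446 : sm gc N4068 = N5235 := trfs L457596 L63590 rfl
theorem L589450 : sm gh N4068 = N5114 := trfs L457596 (flp_h L63586) rfl
theorem L589456 : sm gc N3617 = N2814 := trfs L457589 (flp_c L35129) rfl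
theorem L589465 : sm gh N3620 = N5112 := trfs L457586 (flp_h L63549) rfl
theorem L589468 : sm gc N1954 = N2811 := trfs L457583 L34092 rfl
theorem L589475 : sm gh N1954 = N2727 := trfs L457583 (flp_h L34090) rfl
theorem L589485 : sm gc N2518 = N1967 := trfs L457566 (flp_c L24613) rfl
theorem L589503 : sm gh N3538 = N2814 := trfs L457553 (flp_h L35146) rfl
theorem L589507 : sm gh N3559 = N2837 := trfs L457550 (flp_h L35427) rfl
theorem L589512 : sm gh N1713 = N1417 := trfs L457546 (flp_h L17761) rfl
theorem L589523 : sm gh N3557 = N2521 := trfs L457540 (flp_h L31582) rfl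
theorem L589526 : sm gh N1201 = N993 := trfs L457528 (flp_h L12484) rfl
theorem L589537 : sm gh N2485 = N1764 := trfs L457522 (flp_h L22168) rfl
theorem L589579 : sm ga N3606 = N2536 := trfs L457465 L31716 rfl
theorem L589586 : sm gb N1939 = N1377 := trfs L457462 L17272 rfl
theorem L589592 : sm gh N1939 = N1374 := trfs L457462 (flp_h L17270) rfl
theorem L589594 : sm gc N2825 = N3640 := trfs L457454 L44395 rfl
theorem L589597 : sm gh N2825 = N3572 := trfs L457454 L44400 rfl
theorem L589604 : sm gc N2541 = N1978 := trfs L457447 (flp_c L24729) rfl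
theorem L589615 : sm gh N2532 = N3606 := trfs L457444 L44783 rfl
theorem L589631 : sm gc N3673 = N2853 := trfs L457427 L35581 rfl
theorem L589637 : sm gh N3659 = N5219 := trfs L457424 L64671 rfl
theorem L589641 : sm gc N2872 = N3672 := trfs L457414 L44829 rfl
theorem L589644 : sm gh N2872 = N3593 := trfs L457414 (flp_h L44825) rfl
theorem L589647 : sm gc N1380 = N1761 := trfs L457411 L21668 rfl
theorem L589651 : sm gh N1380 = N1727 := trfs L457411 (flp_h L21664) rfl
theorem L589655 : sm gc N2540 = N1990 := trfs L457405 L24867 rfl
theorem L589663 : sm gh N2544 = N3589 := trfs L457402 (flp_h L44770) rfl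
theorem L589668 : sm gc N3670 = N2871 := trfs L457386 L35786 rfl
theorem L589678 : sm gc N1995 = N2864 := trfs L457380 L34811 rfl
theorem L589686 : sm gh N2487 = N1990 := trfs L457371 (flp_h L24893) rfl
theorem L589692 : sm ga N5192 = N3688 := trfs L457364 L45936 rfl
theorem L589697 : sm gh N5192 = N3677 := trfs L457364 (flp_h L45934) rfl
theorem L589700 : sm gb N2786 = N2001 := trfs L457361 L24960 rfl
theorem L589705 : sm gh N2786 = N1995 := trfs L457361 (flp_h L24958) rfl
theorem L589751 : sm gh N3612 = N2853 := trfs L457311 (flp_h L35613) rfl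
theorem L589758 : sm gh N7573 = N6064 := trfs L457308 L74237 rfl
theorem L589764 : sm ga N7565 = N5309 := trfs L457302 L66008 rfl
theorem L589769 : sm gh N7565 = N5298 := trfs L457302 (flp_h L66006) rfl
theorem L589771 : sm gb N4039 = N2864 := trfs L514183 L35688 rfl
theorem L589777 : sm gh N4039 = N2858 := trfs L514183 (flp_h L35686) rfl
theorem L589797 : sm gb N5846 = N4144 := trfs L514062 L51463 rfl
theorem L589801 : sm gh N5846 = N4137 := trfs L514062 (flp_h L51461) rfl
theorem L589809 : sm gc N4127 = N5317 := trfs L457266 L64716 rfl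
theorem L589813 : sm gh N4127 = N5224 := trfs L457266 L64722 rfl
theorem L589815 : sm gc N4128 = N5319 := trfs L457263 L64737 rfl
theorem L589817 : sm gh N4128 = N5226 := trfs L457263 L64741 rfl
theorem L589820 : sm gc N7709 = N5977 := trfs L457257 L74132 rfl
theorem L589826 : sm gh N7684 = N10984 := trfs L457254 L135633 rfl
theorem L589866 : sm gc N4156 = N5315 := trfs L457221 L64699 rfl
theorem L589880 : sm gc N4170 = N5999 := trfs L457209 L72382 rfl
theorem L589887 : sm gh N5197 = N4156 := trfs L457201 (flp_h L51689) rfl
theorem L589903 : sm gb N5826 = N4177 := trfs L457190 L51837 rfl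
theorem L589908 : sm gh N5826 = N4170 := trfs L457190 (flp_h L51835) rfl
theorem L590025 : sm gh N12604 = N15984 := trfs L457079 L197028 rfl
theorem L590109 : sm gc N7706 = N6020 := trfs L456961 L74611 rfl
theorem L590119 : sm gc N7707 = N6021 := trfs L456955 L74618 rfl
theorem L590133 : sm gh N8739 = N10936 := trfs L456946 (flp_h L135668) rfl
theorem L590182 : sm gb N15943 = N11197 := trfs L456892 L138844 rfl
theorem L590188 : sm gi N15943 = N11186 := trfs L456892 (flp_i L138842) rfl
theorem L590195 : sm gb N33854 = N23720 := trfs L456886 L293092 rfl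
theorem L590239 : sm gi N16369 = N23217 := trfs L456851 L285937 rfl
theorem L590263 : sm gh N7727 = N10929 := trfs L456810 (flp_h L135602) rfl
theorem L590276 : sm ga N7700 = N10984 := trfs L456787 L136014 rfl
theorem L590281 : sm gi N7700 = N10960 := trfs L456787 (flp_i L136012) rfl
theorem L590293 : sm gi N16273 = N23219 := trfs L456781 (flp_i L287231) rfl
theorem L590300 : sm ga N15975 = N11185 := trfs L456775 L138565 rfl
theorem L590305 : sm gh N15975 = N11162 := trfs L456775 (flp_h L138563) rfl
theorem L590355 : sm gc N23178 = N15975 := trfs L456722 L197694 rfl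
theorem L590383 : sm ga N7749 = N10929 := trfs L456706 L135399 rfl
theorem L590396 : sm gh N15884 = N11214 := trfs L456700 (flp_h L139191) rfl
theorem L590398 : sm ga N23127 = N16348 := trfs L456690 L202153 rfl
theorem L590410 : sm ga N16352 = N21051 := trfs L456679 L259875 rfl
theorem L590417 : sm ga N15882 = N11240 := trfs L456671 L139213 rfl
theorem L590422 : sm ge N23194 = N34709 := trfs L456663 (flp_e L294269) rfl
theorem L590423 : N34709 = N33817 := eqes L590422 L286896
theorem L590424 : N34709 = N33817 := eqc rfl L590423 rfl
theorem L590444 : sm gi N33817 = N23811 := trfs L590424 (flp_i L294266) rfl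
theorem L590451 : sm gi N21095 = N16352 := trfs L456660 (flp_i L202506) rfl
theorem L590463 : sm gi N23176 = N15957 := trfs L456655 (flp_i L197732) rfl
theorem L590483 : sm gi N14497 = N11242 := trfs L456642 (flp_i L139493) rfl
theorem L590489 : sm gi N7542 = N5334 := trfs L456639 (flp_i L66461) rfl
theorem L590494 : sm gi N15916 = N10970 := trfs L456635 (flp_i L136147) rfl
theorem L590511 : sm gc N23197 = N29384 := trfs L456618 L427998 rfl
theorem L590513 : sm ge N23197 = N29451 := trfs L456618 L428000 rfl
theorem L590518 : sm gc N23177 = N29358 := trfs L456614 (flp_c L419700) rfl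
theorem L590528 : sm gh N33822 = N23804 := trfs L456602 (flp_h L294204) rfl
theorem L590536 : sm gh N33825 = N23676 := trfs L456595 (flp_h L292795) rfl
theorem L590540 : sm gh N33791 = N23236 := trfs L456591 (flp_h L287433) rfl
theorem L590546 : sm ga N23806 = N30665 := trfs L456580 L378096 rfl
theorem L590550 : sm gh N23806 = N30732 := trfs L456580 L378102 rfl
theorem L590553 : sm ga N23131 = N16345 := trfs L456576 L202126 rfl
theorem L590556 : sm gd N23131 = N16316 := trfs L456576 L202129 rfl
theorem L590561 : sm ga N7738 = N10920 := trfs L456570 L135322 rfl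
theorem L590566 : sm gi N7738 = N10949 := trfs L456570 L135326 rfl
theorem L590568 : sm ga N16342 = N23129 := trfs L456566 L285762 rfl
theorem L590571 : sm ga N16344 = N21052 := trfs L456562 L259886 rfl
theorem L590577 : sm ga N15883 = N11235 := trfs L456555 L139168 rfl
theorem L590584 : sm gb N11213 = N16251 := trfs L456547 L196752 rfl
theorem L590586 : sm gd N11213 = N15883 := trfs L456547 (flp_d L196750) rfl
theorem L590599 : sm gb N7718 = N11174 := trfs L456528 L135517 rfl
theorem L590606 : sm ga N10128 = N14088 := trfs L456514 L173837 rfl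
theorem L590617 : sm ge N11153 = N14088 := trfs L456505 L173439 rfl
theorem L590639 : sm gb N7719 = N11173 := trfs L456454 L135507 rfl
theorem L590642 : sm gh N7719 = N10921 := trfs L456454 (flp_h L135505) rfl
theorem L590646 : sm gb N11215 = N16255 := trfs L456443 L196788 rfl
theorem L590651 : sm ga N7737 = N10921 := trfs L456435 L135331 rfl
theorem L590665 : sm ga N7750 = N10930 := trfs L456424 L135409 rfl
theorem L590674 : sm ga N15885 = N11239 := trfs L456418 L139202 rfl
theorem L590677 : sm gh N15885 = N11215 := trfs L456418 (flp_h L139200) rfl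
theorem L590681 : sm gi N10950 = N7737 := trfs L456411 (flp_i L96184) rfl
theorem L590689 : sm gb N10959 = N7756 := trfs L456401 L96301 rfl
theorem L590694 : sm gi N10959 = N7750 := trfs L456401 (flp_i L96299) rfl
theorem L590708 : sm gi N14500 = N11244 := trfs L456384 (flp_i L139513) rfl
theorem L590715 : sm gi N7549 = N5345 := trfs L456381 (flp_i L66556) rfl
theorem L590717 : sm gc N15919 = N10987 := trfs L456378 L136167 rfl
theorem L590720 : sm gi N15919 = N10972 := trfs L456378 (flp_i L136163) rfl
theorem L590735 : sm gb N11156 = N15933 := trfs L505699 L197208 rfl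
theorem L590757 : sm ga N7703 = N10987 := trfs L456333 L136043 rfl
theorem L590764 : sm gi N7703 = N10963 := trfs L456333 (flp_i L136041) rfl
theorem L590768 : sm ga N15919 = N11176 := trfs L492657 L138487 rfl
theorem L590772 : sm gh N15919 = N11156 := trfs L492657 (flp_h L138485) rfl
theorem L590775 : sm gi N11173 = N15930 := trfs L456314 (flp_i L197376) rfl
theorem L590791 : sm gh N10945 = N7680 := trfs L534308 (flp_h L95481) rfl
theorem L590795 : sm gi N7691 = N10951 := trfs L456290 (flp_i L135901) rfl
theorem L590801 : sm ga N3666 = N5219 := trfs L456284 L64838 rfl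
theorem L590807 : sm gi N3666 = N5207 := trfs L456284 (flp_i L64836) rfl
theorem L590817 : sm gc N7540 = N5219 := trfs L456278 L64898 rfl
theorem L590823 : sm gb N10953 = N7680 := trfs L456271 L95412 rfl
theorem L590825 : sm gd N10953 = N14700 := trfs L456271 (flp_d L125258) rfl
theorem L590834 : sm gd N5204 = N6973 := trfs L456268 (flp_d L59810) rfl
theorem L590839 : sm gb N10951 = N7679 := trfs L456265 L95402 rfl
theorem L590844 : sm ga N10116 = N7557 := trfs L456262 L93717 rfl
theorem L590848 : sm gd N10116 = N7544 := trfs L456262 (flp_d L93715) rfl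
theorem L590851 : sm gh N10116 = N14502 := trfs L456262 (flp_h L123626) rfl
theorem L590860 : sm gi N5212 = N7540 := trfs L456254 L93311 rfl
theorem L590939 : sm ga N5305 = N7540 := trfs L456174 (flp_a L64745) rfl
theorem L590941 : sm gb N5305 = N3675 := trfs L456174 L45873 rfl
theorem L590943 : sm gd N5305 = N6998 := trfs L456174 (flp_d L60021) rfl
theorem L590964 : sm gh N5190 = N3675 := trfs L456157 (flp_h L45900) rfl
theorem L590966 : sm gb N5296 = N7544 := trfs L456154 L93651 rfl
theorem L590971 : sm gh N5296 = N7540 := trfs L456154 (flp_h L93647) rfl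
theorem L591006 : sm gb N2543 = N3663 := trfs L456111 L44747 rfl
theorem L591012 : sm ga N3684 = N5190 := trfs L456101 L64525 rfl
theorem L591023 : sm ga N1768 = N2485 := trfs L456094 L31066 rfl
theorem L591036 : sm ga N3588 = N2548 := trfs L456088 L31851 rfl
theorem L591041 : sm gh N3588 = N2543 := trfs L456088 (flp_h L31849) rfl
theorem L591047 : sm gi N5203 = N3684 := trfs L456080 (flp_i L46013) rfl
theorem L591052 : sm gi N4755 = N3685 := trfs L456076 (flp_i L46026) rfl
theorem L591061 : sm gi N2491 = N1768 := trfs L456073 (flp_i L22222) rfl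
theorem L591064 : sm gc N5202 = N3606 := trfs L456070 L44945 rfl
theorem L591068 : sm gi N5202 = N3602 := trfs L456070 (flp_i L44941) rfl
theorem L591076 : sm gi N7544 = N5305 := trfs L456058 (flp_i L66091) rfl
theorem L591081 : sm gb N3599 = N2541 := trfs L456051 L31775 rfl
theorem L591087 : sm gi N3599 = N2536 := trfs L456051 (flp_i L31773) rfl
theorem L591089 : sm gb N3658 = N5204 := trfs L526063 L64756 rfl
theorem L591094 : sm gh N3658 = N5202 := trfs L526063 (flp_h L64752) rfl
theorem L591100 : sm gb N5154 = N3640 := trfs L456030 L45388 rfl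
theorem L591108 : sm gb N5254 = N7465 := trfs L551682 L92657 rfl
theorem L591122 : sm gi N3663 = N5204 := trfs L456015 (flp_i L64791) rfl
theorem L591134 : sm ga N7463 = N5259 := trfs L538130 L65439 rfl
theorem L591138 : sm gh N7463 = N5254 := trfs L538130 (flp_h L65437) rfl
theorem L591144 : sm ga N5231 = N7422 := trfs L455986 L92003 rfl
theorem L591152 : sm gi N5231 = N7415 := trfs L455986 (flp_i L92001) rfl
theorem L591164 : sm gh N10754 = N7575 := trfs L551789 (flp_h L94092) rfl
theorem L591175 : sm gc N15632 = N10771 := trfs L455955 L133430 rfl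
theorem L591189 : sm gi N10756 = N7580 := trfs L455944 (flp_i L94192) rfl
theorem L591197 : sm gb N10759 = N7590 := trfs L455935 L94241 rfl
theorem L591211 : sm gb N16005 = N11024 := trfs L455922 L136740 rfl
theorem L591213 : sm gd N16005 = N21203 := trfs L455922 (flp_d L180285) rfl
theorem L591217 : sm ga N7580 = N10754 := trfs L455919 (flp_a L91950) rfl
theorem L591219 : sm gb N7580 = N5238 := trfs L455919 (flp_b L65197) rfl
theorem L591221 : sm gd N7580 = N10030 := trfs L455919 (flp_d L85762) rfl
theorem L591228 : sm gb N16003 = N11023 := trfs L455916 L136731 rfl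
theorem L591233 : sm gd N14572 = N11006 := trfs L455913 (flp_d L136552) rfl
theorem L591235 : sm gh N14572 = N21183 := trfs L455913 (flp_h L180114) rfl
theorem L591239 : sm ga N15632 = N11006 := trfs L455905 L136425 rfl
theorem L591256 : sm gh N10997 = N15632 := trfs L455880 (flp_h L193447) rfl
theorem L591273 : sm gb N7592 = N11006 := trfs L455855 L133110 rfl
theorem L591277 : sm ga N5243 = N7404 := trfs L455846 L91785 rfl
theorem L591282 : sm gi N5243 = N7413 := trfs L455846 L91791 rfl
theorem L591284 : sm ga N11035 = N15615 := trfs L455843 L193094 rfl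
theorem L591288 : sm gi N11035 = N15634 := trfs L455843 L193100 rfl
theorem L591290 : sm ga N5246 = N7405 := trfs L455839 L91795 rfl
theorem L591301 : sm gi N10764 = N15632 := trfs L455836 L193078 rfl
theorem L591303 : sm ga N10742 = N7601 := trfs L455833 L94354 rfl
theorem L591307 : sm gh N10742 = N7592 := trfs L455833 (flp_h L94352) rfl
theorem L591309 : sm ga N3647 = N5143 := trfs L455823 L63926 rfl
theorem L591315 : sm ga N7655 = N10814 := trfs L455820 L133972 rfl
theorem L591320 : sm ga N3650 = N5144 := trfs L455816 L63935 rfl
theorem L591330 : sm ga N7451 = N5280 := trfs L455810 L65675 rfl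
theorem L591334 : sm gh N7451 = N5271 := trfs L455810 (flp_h L65673) rfl
theorem L591340 : sm gi N10755 = N7601 := trfs L455803 (flp_i L94478) rfl
theorem L591344 : sm gi N5152 = N3647 := trfs L455800 (flp_i L45545) rfl
theorem L591348 : sm gi N10833 = N7655 := trfs L455797 (flp_i L95174) rfl
theorem L591357 : sm gb N5153 = N3657 := trfs L455791 L45586 rfl
theorem L591363 : sm gi N5153 = N3650 := trfs L455791 (flp_i L45584) rfl
theorem L591370 : sm gi N10831 = N7473 := trfs L455788 (flp_i L92797) rfl
theorem L591375 : sm gi N7543 = N5336 := trfs L455776 (flp_i L66482) rfl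
theorem L591384 : sm gi N7467 = N5286 := trfs L455769 (flp_i L65854) rfl
theorem L591393 : sm gi N15746 = N10847 := trfs L455766 (flp_i L134533) rfl
theorem L591404 : sm gi N10953 = N7693 := trfs L456324 (flp_i L95665) rfl
theorem L591413 : sm gi N10841 = N7632 := trfs L455740 (flp_i L94872) rfl
theorem L591423 : sm gd N16108 = N21315 := trfs L455728 (flp_d L181220) rfl
theorem L591427 : sm ga N7626 = N10831 := trfs L455725 (flp_a L92647) rfl
theorem L591429 : sm gb N7626 = N5271 := trfs L455725 L65645 rfl
theorem L591431 : sm gd N7626 = N10080 := trfs L455725 (flp_d L86185) rfl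
theorem L591437 : sm ga N7693 = N10945 := trfs L455722 (flp_a L93641) rfl
theorem L591439 : sm gb N7693 = N5323 := trfs L455722 L66259 rfl
theorem L591441 : sm gd N7693 = N10153 := trfs L455722 (flp_d L86768) rfl
theorem L591446 : sm gb N16105 = N11099 := trfs L455719 L137698 rfl
theorem L591450 : sm gd N14645 = N11073 := trfs L455716 (flp_d L137479) rfl
theorem L591452 : sm gh N14645 = N21286 := trfs L455716 (flp_h L181003) rfl
theorem L591459 : sm ga N15746 = N11073 := trfs L455708 L137304 rfl
theorem L591475 : sm gb N11060 = N15754 := trfs L455679 L194998 rfl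
theorem L591478 : sm gh N11060 = N15746 := trfs L455679 (flp_h L194994) rfl
theorem L591485 : sm gb N7644 = N11073 := trfs L455654 L134103 rfl
theorem L591488 : sm gh N7644 = N10815 := trfs L455654 (flp_h L134101) rfl
theorem L591500 : sm ga N7657 = N10815 := trfs L455634 L133981 rfl
theorem L591502 : sm gi N7657 = N10834 := trfs L455634 L133985 rfl
theorem L591504 : sm ga N7740 = N10923 := trfs L455631 L135351 rfl
theorem L591507 : sm gi N7740 = N10952 := trfs L455631 L135355 rfl
theorem L591511 : sm gi N16175 = N22935 := trfs L455628 L282815 rfl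
theorem L591513 : sm ga N7667 = N10821 := trfs L455624 L134035 rfl
theorem L591528 : sm gh N15724 = N11101 := trfs L455618 (flp_h L137822) rfl
theorem L591599 : sm ga N11037 = N15616 := trfs L455538 L193105 rfl
theorem L591613 : sm gi N11357 = N14333 := trfs L455535 L176990 rfl
theorem L591624 : sm ge N20826 = N34049 := trfs L455529 L288909 rfl
theorem L591625 : N34049 = N30323 := eqes L591624 (flp_e L257147)
theorem L591626 : N34049 = N30323 := eqc rfl L591625 rfl
theorem L591634 : sm gh N30323 = N45080 := trfs L591626 (flp_h L381442) rfl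
theorem L591635 : N45080 = N44213 := eqes L591634 L374021
theorem L591636 : N45080 = N44213 := eqc rfl L591635 rfl
theorem L591637 : sm ga N44213 = N30934 := trfs L591636 L381436 rfl
theorem L591647 : sm ga N30326 = N21231 := trfs L455519 L262136 rfl
theorem L591650 : sm gd N30326 = N21211 := trfs L455519 (flp_d L262134) rfl
theorem L591654 : sm ga N10041 = N14318 := trfs L455511 L176967 rfl
theorem L591665 : sm ga N20827 = N14589 := trfs L455498 L180363 rfl
theorem L591668 : sm gd N20827 = N14576 := trfs L455498 (flp_d L180361) rfl
theorem L591673 : sm ga N14592 = N20829 := trfs L455489 L257073 rfl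
theorem L591684 : sm ga N30328 = N21234 := trfs L455483 L262166 rfl
theorem L591687 : sm gd N30328 = N21213 := trfs L455483 L262170 rfl
theorem L591692 : sm gh N44262 = N30935 := trfs L455476 (flp_h L381825) rfl
theorem L591696 : sm gh N20848 = N14592 := trfs L455473 (flp_h L180579) rfl
theorem L591700 : sm gh N44264 = N30863 := trfs L455469 (flp_h L380889) rfl
theorem L591711 : sm gh N20853 = N15031 := trfs L455466 (flp_h L185863) rfl
theorem L591727 : sm gh N44249 = N30378 := trfs L455463 (flp_h L374770) rfl
theorem L591776 : sm ga N23384 = N30323 := trfs L455393 L373836 rfl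
theorem L591780 : sm ga N23386 = N28764 := trfs L455390 L353869 rfl
theorem L591783 : sm gi N23386 = N28783 := trfs L455390 L353875 rfl
theorem L591789 : sm gi N11038 = N14330 := trfs L455387 L176963 rfl
theorem L591800 : sm gi N22782 = N30346 := trfs L455380 L373776 rfl
theorem L591802 : sm ga N16185 = N19823 := trfs L455369 L244172 rfl
theorem L591805 : sm gi N16185 = N19842 := trfs L455369 L244176 rfl
theorem L591807 : sm ga N7658 = N9900 := trfs L455366 L122506 rfl
theorem L591811 : sm gi N7658 = N9913 := trfs L455366 L122512 rfl
theorem L591813 : sm ga N16179 = N20915 := trfs L455363 L258213 rfl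
theorem L591815 : sm gi N16179 = N20944 := trfs L455363 L258215 rfl
theorem L591826 : sm ga N15776 = N21257 := trfs L455357 L258161 rfl
theorem L591830 : sm gi N15776 = N20939 := trfs L455357 L258166 rfl
theorem L591832 : sm ga N14378 = N11124 := trfs L455354 L137854 rfl
theorem L591846 : sm ga N21362 = N28831 := trfs L455342 L354796 rfl
theorem L591848 : sm ga N10097 = N14380 := trfs L455339 L177766 rfl
theorem L591851 : sm ga N21356 = N30463 := trfs L455336 L375642 rfl
theorem L591860 : sm ga N20917 = N14675 := trfs L455327 L181361 rfl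
theorem L591866 : sm ga N14676 = N20921 := trfs L455319 L258269 rfl
theorem L591870 : sm gh N44259 = N30937 := trfs L455309 (flp_h L381852) rfl
theorem L591872 : sm gh N42043 = N31131 := trfs L455306 (flp_h L384141) rfl
theorem L591875 : sm gh N20950 = N14676 := trfs L455303 (flp_h L181605) rfl
theorem L591882 : sm gh N44467 = N30543 := trfs L455296 (flp_h L376859) rfl
theorem L591884 : sm gh N30511 = N21361 := trfs L455287 (flp_h L263948) rfl
theorem L591889 : sm gh N30521 = N21989 := trfs L455284 (flp_h L271502) rfl
theorem L591902 : sm gi N14397 = N11124 := trfs L455264 (flp_i L138092) rfl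
theorem L591904 : sm gi N30504 = N23577 := trfs L455261 (flp_i L291624) rfl
theorem L591908 : sm gi N14398 = N11122 := trfs L455258 (flp_i L138076) rfl
theorem L591910 : sm gi N30502 = N23567 := trfs L455255 (flp_i L291526) rfl
theorem L591913 : sm gi N30493 = N22970 := trfs L455251 (flp_i L284031) rfl
theorem L591928 : sm gi N16183 = N20945 := trfs L455233 L258227 rfl
theorem L591933 : sm gi N16181 = N20947 := trfs L455230 L258247 rfl
theorem L591941 : sm gi N16602 = N20954 := trfs L455227 L258309 rfl
theorem L591943 : sm ga N30465 = N21358 := trfs L455212 L263577 rfl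
theorem L591946 : sm gd N30465 = N21329 := trfs L455212 (flp_d L263575) rfl
theorem L591953 : sm ga N30474 = N21988 := trfs L455194 L270976 rfl
theorem L591956 : sm ga N30476 = N21978 := trfs L455190 L270901 rfl
theorem L591958 : sm ge N30476 = N21937 := trfs L455190 (flp_e L270899) rfl
theorem L591960 : sm ga N30462 = N21360 := trfs L455187 L263599 rfl
theorem L591963 : sm ga N15102 = N20926 := trfs L455183 L258313 rfl
theorem L591967 : sm ga N20924 = N16604 := trfs L455175 L205119 rfl
theorem L591970 : sm ga N20753 = N16594 := trfs L455171 L205041 rfl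
theorem L591973 : sm ga N20916 = N16183 := trfs L455168 L200207 rfl
theorem L591976 : sm ga N11424 = N14383 := trfs L455164 L177792 rfl
theorem L591990 : sm gi N14402 = N11424 := trfs L455143 (flp_i L141617) rfl
theorem L591999 : sm gi N9915 = N7873 := trfs L455124 (flp_i L97804) rfl
theorem L592011 : sm ga N30477 = N21989 := trfs L455084 L270984 rfl
theorem L592013 : sm ga N28842 = N21992 := trfs L455081 L271011 rfl
theorem L592015 : sm ga N30479 = N21984 := trfs L455077 L270944 rfl
theorem L592017 : sm ge N30479 = N21941 := trfs L455077 L270948 rfl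
theorem L592019 : sm ga N30464 = N21363 := trfs L455074 L263631 rfl
theorem L592022 : sm ga N15105 = N20928 := trfs L455070 L258327 rfl
theorem L592026 : sm gh N15105 = N20957 := trfs L455070 L258332 rfl
theorem L592028 : sm ga N44215 = N30937 := trfs L455063 L381469 rfl
theorem L592031 : sm ga N21880 = N30335 := trfs L455060 L373953 rfl
theorem L592034 : sm gh N21880 = N30364 := trfs L455060 L373960 rfl
theorem L592037 : sm ga N14384 = N10389 := trfs L455054 L128388 rfl
theorem L592045 : sm ga N28770 = N21879 := trfs L455048 L269744 rfl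
theorem L592048 : sm ga N30334 = N21873 := trfs L455044 L269687 rfl
theorem L592050 : sm ge N30334 = N21844 := trfs L455044 (flp_e L269685) rfl
theorem L592052 : sm ga N30324 = N21233 := trfs L455041 L262156 rfl
theorem L592055 : sm ga N15030 = N20831 := trfs L455037 L257093 rfl
theorem L592059 : sm ga N9902 = N7873 := trfs L455030 L97600 rfl
theorem L592063 : sm ga N20830 = N16509 := trfs L455027 L203988 rfl
theorem L592067 : sm ga N19780 = N16511 := trfs L455024 L204003 rfl
theorem L592069 : sm ga N20678 = N16505 := trfs L455021 L203949 rfl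
theorem L592071 : sm ga N20825 = N16056 := trfs L455018 L198729 rfl
theorem L592086 : sm ga N11359 = N14319 := trfs L455012 L176976 rfl
theorem L592090 : sm gi N11359 = N14332 := trfs L455012 L176981 rfl
theorem L592092 : sm ga N14317 = N11038 := trfs L455001 L136819 rfl
theorem L592128 : sm gi N6808 = N5403 := trfs L454958 (flp_i L67239) rfl
theorem L592171 : sm ga N14322 = N10342 := trfs L454895 L127834 rfl
theorem L592174 : sm gd N14322 = N10328 := trfs L454895 L127836 rfl
theorem L592179 : sm ga N13648 = N10392 := trfs L454890 L128409 rfl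
theorem L592183 : sm gb N7146 = N9894 := trfs L454887 L122432 rfl
theorem L592185 : sm gd N7146 = N9905 := trfs L454887 L122434 rfl
theorem L592190 : sm ga N14382 = N10100 := trfs L454884 L124930 rfl
theorem L592192 : sm gd N14382 = N10086 := trfs L454884 L124934 rfl
theorem L592195 : sm ga N7160 = N9905 := trfs L454880 L122549 rfl
theorem L592198 : sm gh N7160 = N9918 := trfs L454880 L122554 rfl
theorem L592201 : sm ga N9862 = N7126 := trfs L454874 L88201 rfl
theorem L592204 : sm gd N9862 = N7117 := trfs L454874 (flp_d L88199) rfl
theorem L592209 : sm ga N9904 = N7157 := trfs L454870 L88575 rfl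
theorem L592212 : sm gd N9904 = N7144 := trfs L454870 (flp_d L88573) rfl
theorem L592218 : sm ga N9412 = N7159 := trfs L454867 L88592 rfl
theorem L592222 : sm gb N4932 = N6823 := trfs L454864 L84564 rfl
theorem L592224 : sm gd N4932 = N6830 := trfs L454864 L84569 rfl
theorem L592227 : sm ga N9901 = N6959 := trfs L454861 L86220 rfl
theorem L592229 : sm gd N9901 = N6950 := trfs L454861 (flp_d L86218) rfl
theorem L592237 : sm ga N4941 = N6830 := trfs L454855 L84646 rfl
theorem L592241 : sm ga N6802 = N5403 := trfs L454848 L67098 rfl
theorem L592244 : sm ga N6501 = N5436 := trfs L454844 L67503 rfl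
theorem L592247 : sm ga N6828 = N5281 := trfs L454840 L65683 rfl
theorem L592250 : sm ga N3756 = N4720 := trfs L454836 L58594 rfl
theorem L592256 : sm gi N3756 = N4726 := trfs L454836 L58599 rfl
theorem L592258 : sm ga N4515 = N3782 := trfs L454827 L47095 rfl
theorem L592268 : sm gh N2280 = N1812 := trfs L454824 (flp_h L22771) rfl
theorem L592271 : sm ga N4746 = N3685 := trfs L454821 L45911 rfl
theorem L592279 : sm ga N2620 = N3285 := trfs L454815 L40886 rfl
theorem L592328 : sm ga N6873 = N4974 := trfs L454735 L61614 rfl
theorem L592330 : sm gd N6873 = N4961 := trfs L454735 L61616 rfl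
theorem L592334 : sm ga N14481 = N10456 := trfs L454732 L129128 rfl
theorem L592338 : sm gb N7186 = N9952 := trfs L454729 L123152 rfl
theorem L592340 : sm gd N7186 = N9970 := trfs L454729 L123154 rfl
theorem L592345 : sm ga N14474 = N10184 := trfs L454726 L125873 rfl
theorem L592347 : sm gd N14474 = N10163 := trfs L454726 L125877 rfl
theorem L592351 : sm ga N7205 = N9970 := trfs L454722 L123320 rfl
theorem L592355 : sm gh N7205 = N9989 := trfs L454722 L123326 rfl
theorem L592358 : sm ga N4748 = N3437 := trfs L454714 L42688 rfl
theorem L592360 : sm gd N4748 = N3428 := trfs L454714 (flp_d L42686) rfl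
theorem L592363 : sm ga N9967 = N7204 := trfs L454711 L89091 rfl
theorem L592367 : sm gb N4959 = N6861 := trfs L454708 L85032 rfl
theorem L592369 : sm gd N4959 = N6872 := trfs L454708 L85037 rfl
theorem L592373 : sm ga N9963 = N7015 := trfs L454705 L86836 rfl
theorem L592375 : sm gd N9963 = N7002 := trfs L454705 (flp_d L86834) rfl
theorem L592383 : sm ga N4971 = N6872 := trfs L454699 L85149 rfl
theorem L592389 : sm ga N14479 = N10453 := trfs L454690 L129103 rfl
theorem L592392 : sm gb N7184 = N9951 := trfs L454687 L123144 rfl
theorem L592394 : sm gd N7184 = N9969 := trfs L454687 L123148 rfl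
theorem L592396 : sm ga N14472 = N10181 := trfs L454684 L125846 rfl
theorem L592398 : sm gd N14472 = N10161 := trfs L454684 (flp_d L125844) rfl
theorem L592401 : sm ga N7202 = N9969 := trfs L454680 L123313 rfl
theorem L592409 : sm ga N9966 = N7909 := trfs L454669 L98071 rfl
theorem L592420 : sm ga N9962 = N7741 := trfs L454663 L96013 rfl
theorem L592423 : sm ga N5463 = N6871 := trfs L454659 L85140 rfl
theorem L592429 : sm gi N5463 = N6884 := trfs L454659 L85145 rfl
theorem L592431 : sm ga N14478 = N11468 := trfs L454650 L141959 rfl
theorem L592435 : sm ga N14471 = N11244 := trfs L454646 L139247 rfl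
theorem L592439 : sm ga N20925 = N16602 := trfs L454634 L205103 rfl
theorem L592454 : sm gh N9906 = N7852 := trfs L454631 (flp_h L97569) rfl
theorem L592457 : sm ga N20918 = N16181 := trfs L454628 L200187 rfl
theorem L592460 : sm ga N11422 = N14385 := trfs L454624 L177808 rfl
theorem L592531 : sm gb N14455 = N10429 := trfs L454510 L128934 rfl
theorem L592538 : sm ga N14483 = N10454 := trfs L454504 L129111 rfl
theorem L592540 : sm gd N14483 = N10429 := trfs L454504 L129113 rfl
theorem L592544 : sm gb N21029 = N15160 := trfs L454496 L187173 rfl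
theorem L592550 : sm ga N21073 = N15196 := trfs L454493 L187455 rfl
theorem L592552 : sm gd N21073 = N15160 := trfs L454493 L187457 rfl
theorem L592563 : sm gb N14454 = N10427 := trfs L454478 L128916 rfl
theorem L592571 : sm ga N14482 = N10451 := trfs L454472 L129084 rfl
theorem L592573 : sm gd N14482 = N10427 := trfs L454472 (flp_d L129082) rfl
theorem L592578 : sm gb N20901 = N15071 := trfs L454464 L186180 rfl
theorem L592582 : sm ga N20929 = N15100 := trfs L454461 L186394 rfl
theorem L592584 : sm gd N20929 = N15071 := trfs L454461 (flp_d L186392) rfl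
theorem L592592 : sm gb N14368 = N10367 := trfs L454446 L128241 rfl
theorem L592598 : sm ga N14386 = N10387 := trfs L454440 L128367 rfl
theorem L592600 : sm gd N14386 = N10367 := trfs L454440 (flp_d L128365) rfl
theorem L592613 : sm ga N9903 = N7871 := trfs L454419 L97581 rfl
theorem L592665 : sm gb N14369 = N10369 := trfs L454326 L128260 rfl
theorem L592672 : sm ga N14387 = N10390 := trfs L454320 L128394 rfl
theorem L592674 : sm gd N14387 = N10369 := trfs L454320 L128396 rfl
theorem L592681 : sm gb N20816 = N15010 := trfs L454310 L185439 rfl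
theorem L592686 : sm ga N20834 = N15031 := trfs L454307 L185586 rfl
theorem L592688 : sm gd N20834 = N15010 := trfs L454307 L185588 rfl
theorem L592696 : sm gb N14310 = N10326 := trfs L454290 L127721 rfl
theorem L592702 : sm ga N14321 = N10339 := trfs L454284 L127803 rfl
theorem L592704 : sm gd N14321 = N10326 := trfs L454284 (flp_d L127801) rfl
theorem L592708 : sm gb N20815 = N15008 := trfs L454276 L185419 rfl
theorem L592712 : sm ga N20833 = N15028 := trfs L454273 L185559 rfl
theorem L592714 : sm gd N20833 = N15008 := trfs L454273 (flp_d L185557) rfl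
theorem L592722 : sm ga N14320 = N11357 := trfs L454254 L140540 rfl
theorem L592821 : sm gb N11334 = N14214 := trfs L454144 L175670 rfl
theorem L592827 : sm gh N11334 = N14221 := trfs L454144 L175676 rfl
theorem L592860 : sm gb N9895 = N7852 := trfs L454113 L97455 rfl
theorem L592865 : sm gb N20737 = N16558 := trfs L454110 L204734 rfl
theorem L592874 : sm gb N11394 = N14260 := trfs L454104 L176258 rfl
theorem L592895 : sm gh N14271 = N11394 := trfs L454083 (flp_h L141282) rfl
theorem L592962 : sm gb N9822 = N7850 := trfs L454000 L97433 rfl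
theorem L592967 : sm gb N4717 = N3746 := trfs L453997 L46735 rfl
theorem L592971 : sm gb N9820 = N7849 := trfs L453994 L97425 rfl
theorem L592979 : sm gb N5419 = N6776 := trfs L453988 L83956 rfl
theorem L592983 : sm gh N5419 = N6780 := trfs L453988 L83960 rfl
theorem L592995 : sm gb N6775 = N5504 := trfs L453975 L68402 rfl
theorem L593006 : sm gb N9792 = N7810 := trfs L453961 L96913 rfl
theorem L593011 : sm gb N9791 = N7922 := trfs L453957 L98213 rfl
theorem L593080 : sm gb N5473 = N6756 := trfs L453824 L83694 rfl
theorem L593088 : sm gb N4672 = N3788 := trfs L453819 L47194 rfl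
theorem L593099 : sm gh N6745 = N5474 := trfs L453811 (flp_h L68079) rfl
theorem L593106 : sm gh N6759 = N5473 := trfs L453807 (flp_h L68069) rfl
theorem L593109 : sm ga N6468 = N5486 := trfs L453804 L68091 rfl
theorem L593124 : sm ga N3796 = N4674 := trfs L453795 (flp_a L57982) rfl
theorem L593171 : sm gi N3259 = N2632 := trfs L453757 (flp_i L32932) rfl
theorem L593196 : sm ga N3256 = N2632 := trfs L453728 L32848 rfl
theorem L593214 : sm ga N3123 = N2649 := trfs L453718 L33063 rfl
theorem L593228 : sm gb N2627 = N3254 := trfs L453703 (flp_b L40478) rfl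
theorem L593233 : sm gh N2627 = N3256 := trfs L453703 L40484 rfl
theorem L593237 : sm gb N2642 = N3244 := trfs L453699 (flp_b L40348) rfl
theorem L593242 : sm gh N2642 = N3246 := trfs L453699 L40354 rfl
theorem L593246 : sm gb N2595 = N3265 := trfs L453696 L40637 rfl
theorem L593249 : sm gh N2595 = N3268 := trfs L453696 L40643 rfl
theorem L593255 : sm gh N1278 = N1712 := trfs L453692 L21431 rfl
theorem L593259 : sm gb N2266 = N1836 := trfs L453689 (flp_b L23026) rfl
theorem L593263 : sm gb N1286 = N1584 := trfs L453665 (flp_b L19790) rfl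
theorem L593271 : sm ga N1840 = N2268 := trfs L453656 (flp_a L28282) rfl
theorem L593279 : sm ga N1849 = N2179 := trfs L453651 (flp_a L27075) rfl
theorem L593288 : sm ga N1586 = N1288 := trfs L453646 L16184 rfl
theorem L593292 : sm gh N1586 = N1286 := trfs L453646 (flp_h L16182) rfl
theorem L593300 : sm gi N2271 = N1840 := trfs L453638 (flp_i L23103) rfl
theorem L593306 : sm gi N2182 = N1849 := trfs L453634 (flp_i L23175) rfl
theorem L593315 : sm gi N3291 = N2620 := trfs L453618 (flp_i L32794) rfl
theorem L593324 : sm gb N2492 = N1824 := trfs L453598 L22867 rfl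
theorem L593336 : sm ga N1817 = N2280 := trfs L453586 L28434 rfl
theorem L593343 : sm gi N1817 = N2284 := trfs L453586 L28440 rfl
theorem L593345 : sm ga N3780 = N4747 := trfs L453582 L58920 rfl
theorem L593349 : sm gi N3780 = N4756 := trfs L453582 L58926 rfl
theorem L593351 : sm ga N1819 = N2486 := trfs L453579 L31076 rfl
theorem L593357 : sm gi N1819 = N2492 := trfs L453579 L31081 rfl
theorem L593359 : sm ga N3286 = N2619 := trfs L453575 L32702 rfl
theorem L593379 : sm gb N2612 = N3282 := trfs L453556 L40839 rfl
theorem L593384 : sm gh N2612 = N3286 := trfs L453556 L40844 rfl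
theorem L593401 : sm gb N3771 = N4742 := trfs L453537 L58858 rfl
theorem L593405 : sm gh N3771 = N4749 := trfs L453537 L58863 rfl
theorem L593439 : sm gb N5454 = N6863 := trfs L453520 L85050 rfl
theorem L593446 : sm ga N3779 = N4749 := trfs L453512 L58936 rfl
theorem L593453 : sm ga N7907 = N9968 := trfs L453506 L123303 rfl
theorem L593459 : sm ga N3784 = N5196 := trfs L453503 L64582 rfl
theorem L593466 : sm ga N6874 = N5462 := trfs L453499 L67857 rfl
theorem L593470 : sm gh N6874 = N5454 := trfs L453499 (flp_h L67855) rfl
theorem L593476 : sm gi N9987 = N7907 := trfs L453489 (flp_i L98137) rfl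
theorem L593484 : sm gi N5209 = N3784 := trfs L453486 (flp_i L47182) rfl
theorem L593492 : sm gi N14404 = N11422 := trfs L453471 (flp_i L141603) rfl
theorem L593499 : sm gi N4758 = N3779 := trfs L453457 (flp_i L47141) rfl
theorem L593503 : sm gi N9916 = N7871 := trfs L453453 (flp_i L97790) rfl
theorem L593512 : sm ga N5433 = N6831 := trfs L453424 L84653 rfl
theorem L593517 : sm gi N5433 = N6840 := trfs L453424 L84658 rfl
theorem L593519 : sm ga N5434 = N6829 := trfs L453419 L84637 rfl
theorem L593523 : sm gi N5434 = N6838 := trfs L453419 L84642 rfl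
theorem L593525 : sm ga N4721 = N3755 := trfs L453414 L46771 rfl
theorem L593528 : sm gh N4721 = N3746 := trfs L453414 (flp_h L46769) rfl
theorem L593530 : sm ga N3734 = N4703 := trfs L453405 L58364 rfl
theorem L593539 : sm ga N7822 = N9796 := trfs L453402 L121174 rfl
theorem L593549 : sm ga N7825 = N9861 := trfs L453399 L121990 rfl
theorem L593552 : sm gi N7825 = N9870 := trfs L453399 L121997 rfl
theorem L593554 : sm ga N6803 = N5402 := trfs L453394 L67088 rfl
theorem L593572 : sm gb N5393 = N6799 := trfs L453375 L84232 rfl
theorem L593575 : sm gh N5393 = N6803 := trfs L453375 L84238 rfl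
theorem L593582 : sm gb N7811 = N9856 := trfs L453360 L121921 rfl
theorem L593586 : sm gh N7811 = N9863 := trfs L453360 L121925 rfl
theorem L593597 : sm gb N11336 = N14312 := trfs L453343 L176885 rfl
theorem L593603 : sm ga N7870 = N9906 := trfs L453334 L122558 rfl
theorem L593608 : sm gi N7870 = N9919 := trfs L453334 L122565 rfl
theorem L593610 : sm ga N16507 = N20832 := trfs L453330 L257102 rfl
theorem L593614 : sm gi N16507 = N20851 := trfs L453330 L257108 rfl
theorem L593616 : sm ga N14323 = N11356 := trfs L453325 L140529 rfl
theorem L593620 : sm gh N14323 = N11336 := trfs L453325 (flp_h L140527) rfl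
theorem L593706 : sm gb N11491 = N14184 := trfs L453213 L175265 rfl
theorem L593711 : sm gh N11491 = N14188 := trfs L453213 L175270 rfl
theorem L593719 : sm gb N7923 = N9772 := trfs L453198 L120843 rfl
theorem L593732 : sm ga N11512 = N14187 := trfs L453184 L175315 rfl
theorem L593738 : sm ga N9775 = N7938 := trfs L453179 L98332 rfl
theorem L593741 : sm gh N9775 = N7923 := trfs L453179 (flp_h L98330) rfl
theorem L593748 : sm gi N14194 = N11511 := trfs L453171 (flp_i L142611) rfl
theorem L593753 : sm gi N14193 = N11512 := trfs L453167 (flp_i L142636) rfl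
theorem L593763 : sm gi N9802 = N7822 := trfs L453153 (flp_i L97178) rfl
theorem L593767 : sm gi N9801 = N7939 := trfs L453149 (flp_i L98548) rfl
theorem L593778 : sm ga N5484 = N6759 := trfs L453121 L83734 rfl
theorem L593782 : sm gi N5484 = N6763 := trfs L453121 L83741 rfl
theorem L593784 : sm ga N5513 = N6779 := trfs L453115 L84002 rfl
theorem L593788 : sm gi N5513 = N6785 := trfs L453115 L84006 rfl
theorem L593790 : sm ga N4688 = N3817 := trfs L453110 L47513 rfl
theorem L593811 : sm gb N3810 = N4685 := trfs L453091 L58134 rfl
theorem L593815 : sm gh N3810 = N4688 := trfs L453091 L58139 rfl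
theorem L593821 : sm gh N2644 = N3520 := trfs L453078 L43772 rfl
theorem L593831 : sm ga N5440 = N7366 := trfs L453051 L91282 rfl
theorem L593836 : sm ga N5431 = N6780 := trfs L453048 L84010 rfl
theorem L593849 : sm ga N5087 = N3759 := trfs L453042 L46807 rfl
theorem L593851 : sm gh N5087 = N3748 := trfs L453042 (flp_h L46805) rfl
theorem L593857 : sm gi N7375 = N5440 := trfs L453032 (flp_i L67716) rfl
theorem L593862 : sm gi N6786 = N5431 := trfs L453029 (flp_i L67618) rfl
theorem L593866 : sm gb N3766 = N5093 := trfs L453026 (flp_b L43876) rfl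
theorem L593887 : sm gi N9838 = N7867 := trfs L453009 (flp_i L97739) rfl
theorem L593912 : sm ga N5439 = N7368 := trfs L452976 L91300 rfl
theorem L593918 : sm gi N5439 = N7377 := trfs L452976 L91306 rfl
theorem L593920 : sm ga N5442 = N7457 := trfs L452971 L92483 rfl
theorem L593939 : sm gi N11416 = N14284 := trfs L452965 L176375 rfl
theorem L593949 : sm ga N10689 = N7878 := trfs L452959 L97635 rfl
theorem L593979 : sm gh N7858 = N10689 := trfs L452938 L132188 rfl
theorem L594011 : sm gi N11366 = N15448 := trfs L452898 L190767 rfl
theorem L594013 : sm ga N5406 = N7324 := trfs L452895 L90736 rfl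
theorem L594019 : sm ga N11365 = N15368 := trfs L452892 L189842 rfl
theorem L594023 : sm gi N11365 = N15377 := trfs L452892 L189847 rfl
theorem L594030 : sm ga N11353 = N14221 := trfs L452886 L175754 rfl
theorem L594043 : sm ga N10622 = N7831 := trfs L452880 L97075 rfl
theorem L594046 : sm gh N10622 = N7815 := trfs L452880 (flp_h L97073) rfl
theorem L594054 : sm ga N7824 = N9863 := trfs L452865 L122009 rfl
theorem L594060 : sm ga N7407 = N5408 := trfs L452861 L67151 rfl
theorem L594063 : sm gh N7407 = N5396 := trfs L452861 (flp_h L67149) rfl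
theorem L594076 : sm gi N10758 = N7607 := trfs L452849 (flp_i L94557) rfl
theorem L594082 : sm gi N9872 = N7824 := trfs L452846 (flp_i L97206) rfl
theorem L594091 : sm gi N7330 = N5406 := trfs L452831 (flp_i L67283) rfl
theorem L594093 : sm gb N7414 = N5253 := trfs L452828 L65349 rfl
theorem L594096 : sm gi N7414 = N5246 := trfs L452828 (flp_i L65347) rfl
theorem L594101 : sm gi N6809 = N5402 := trfs L452825 (flp_i L67221) rfl
theorem L594105 : sm gb N5118 = N3629 := trfs L452809 L45245 rfl
theorem L594110 : sm gi N5118 = N3624 := trfs L452809 (flp_i L45243) rfl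
theorem L594116 : sm gi N4707 = N3734 := trfs L452806 (flp_i L46607) rfl
theorem L594134 : sm gb N3563 = N2530 := trfs L452785 L31639 rfl
theorem L594145 : sm ga N1264 = N1726 := trfs L452770 L21630 rfl
theorem L594151 : sm gi N1264 = N1730 := trfs L452770 L21635 rfl
theorem L594153 : sm ga N2603 = N3558 := trfs L452767 L44324 rfl
theorem L594159 : sm gi N2603 = N3564 := trfs L452767 L44328 rfl
theorem L594161 : sm ga N2525 = N3557 := trfs L452763 L44313 rfl
theorem L594165 : sm gi N2525 = N3563 := trfs L452763 L44319 rfl
theorem L594167 : sm ga N2600 = N3268 := trfs L452760 L40675 rfl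
theorem L594171 : sm gi N2600 = N3272 := trfs L452760 L40682 rfl
theorem L594173 : sm ga N2465 = N1805 := trfs L452756 L22634 rfl
theorem L594192 : sm gh N1801 = N2465 := trfs L452735 L30772 rfl
theorem L594204 : sm gh N2584 = N3537 := trfs L452718 L43997 rfl
theorem L594219 : sm gh N1826 = N2451 := trfs L452701 L30591 rfl
theorem L594235 : sm gh N2628 = N3501 := trfs L452682 L43530 rfl
theorem L594260 : sm ga N5491 = N7296 := trfs L452652 L90332 rfl
theorem L594266 : sm ga N5485 = N6745 := trfs L452648 (flp_a L83535) rfl
theorem L594282 : sm ga N5040 = N3801 := trfs L452642 L47283 rfl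
theorem L594287 : sm gh N5040 = N3791 := trfs L452642 (flp_h L47281) rfl
theorem L594295 : sm gi N7300 = N5491 := trfs L452633 (flp_i L68310) rfl
theorem L594302 : sm gi N6748 = N5485 := trfs L452629 (flp_i L68241) rfl
theorem L594306 : sm gb N3807 = N5043 := trfs L452626 (flp_b L43417) rfl
theorem L594320 : sm gb N5063 = N3806 := trfs L452613 L47402 rfl
theorem L594324 : sm gi N5063 = N3800 := trfs L452613 (flp_i L47400) rfl
theorem L594329 : sm gi N4677 = N3796 := trfs L452609 (flp_i L47348) rfl
theorem L594349 : sm ga N2635 = N3501 := trfs L452577 (flp_a L43555) rfl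
theorem L594354 : sm gi N2635 = N3504 := trfs L452577 L43562 rfl
theorem L594356 : sm ga N1282 = N1712 := trfs L452573 (flp_a L21453) rfl
theorem L594365 : sm ga N2651 = N3520 := trfs L452570 L43804 rfl
theorem L594369 : sm gi N2651 = N3524 := trfs L452570 L43809 rfl
theorem L594371 : sm ga N2648 = N3246 := trfs L452566 (flp_a L40378) rfl
theorem L594375 : sm gi N2648 = N3249 := trfs L452566 L40385 rfl
theorem L594377 : sm ga N2440 = N1842 := trfs L452563 L23063 rfl
theorem L594381 : sm gh N2440 = N1837 := trfs L452563 (flp_h L23061) rfl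
theorem L594444 : sm ga N897 = N1200 := trfs L452483 (flp_a L15097) rfl
theorem L594451 : sm gb N489 = N646 := trfs L452480 (flp_b L8227) rfl
theorem L594463 : sm gb N1268 = N1730 := trfs L452471 (flp_b L15146) rfl
theorem L594470 : sm gb N1203 = N898 := trfs L452466 L11351 rfl
theorem L594477 : sm gi N1203 = N897 := trfs L452466 (flp_i L11349) rfl
theorem L594479 : sm ga N648 = N898 := trfs L452463 (flp_a L7946) rfl
theorem L594488 : sm gi N648 = N489 := trfs L452463 (flp_i L6218) rfl
theorem L594490 : sm gb N1715 = N1285 := trfs L452451 L16149 rfl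
theorem L594495 : sm gi N1715 = N1282 := trfs L452451 (flp_i L16147) rfl
theorem L594497 : sm gb N2454 = N1835 := trfs L452437 L22979 rfl
theorem L594514 : sm ga N1830 = N2451 := trfs L452419 (flp_a L30616) rfl
theorem L594519 : sm gi N1830 = N2454 := trfs L452419 L30622 rfl
theorem L594526 : sm ga N2588 = N3537 := trfs L452404 L44031 rfl
theorem L594530 : sm gi N2588 = N3541 := trfs L452404 L44038 rfl
theorem L594532 : sm ga N3737 = N5113 := trfs L452391 L63521 rfl
theorem L594535 : sm gi N3737 = N5119 := trfs L452391 L63527 rfl
theorem L594591 : sm gb N5416 = N7416 := trfs L452319 (flp_b L63652) rfl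
theorem L594592 : N7416 = N38156 := eqes L594591 L493169
theorem L594593 : N38156 = N7416 := (eqc rfl L594592 rfl).symm
theorem L594599 : sm gb N7416 = N5416 := trfs L594593 (flp_b L493169) rfl
theorem L594622 : sm gb N3786 = N5209 := trfs L452300 (flp_b L44907) rfl
theorem L594637 : sm gb N7470 = N5449 := trfs L452292 L67726 rfl
theorem L594641 : sm gi N7470 = N5442 := trfs L452292 (flp_i L67724) rfl
theorem L594645 : sm gb N2610 = N3564 := trfs L452283 (flp_b L30879) rfl
theorem L594652 : sm ga N2626 = N1942 := trfs L452280 L24274 rfl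
theorem L594654 : sm gb N2626 = N3600 := trfs L452280 (flp_b L31192) rfl
theorem L594660 : sm gb N5155 = N3768 := trfs L452274 L46958 rfl
theorem L594676 : sm ga N3761 = N5146 := trfs L452254 L63954 rfl
theorem L594679 : sm gi N3761 = N5155 := trfs L452254 L63958 rfl
theorem L596671 : sm gb N36955 = N26236 := trfs L449181 L323583 rfl
theorem L596818 : sm ga N5763 = N7638 := trfs L449015 (flp_a L65616) rfl
theorem L596840 : sm gb N11091 = N15762 := trfs L449007 (flp_b L134427) rfl
theorem L597025 : sm gi N12130 = N8598 := trfs L448859 (flp_i L106573) rfl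
theorem L597106 : sm gb N5963 = N8325 := trfs L448781 L103180 rfl
theorem L597112 : sm gi N5963 = N8353 := trfs L448781 L103182 rfl
theorem L597171 : sm gi N17293 = N12567 := trfs L448724 (flp_i L155500) rfl
theorem L597189 : sm ga N25167 = N34415 := trfs L448705 (flp_a L291873) rfl
theorem L597247 : sm ga N24865 = N34127 := trfs L448657 (flp_a L289583) rfl
theorem L597361 : sm gb N5647 = N4120 := trfs L448563 L51184 rfl
theorem L597379 : sm ga N8197 = N11144 := trfs L448550 (flp_a L95369) rfl
theorem L597397 : sm ga N7675 = N5658 := trfs L448539 L70251 rfl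
theorem L597399 : sm gb N7675 = N10698 := trfs L448539 (flp_b L91435) rfl
theorem L597403 : sm ga N5656 = N7889 := trfs L448527 (flp_a L67778) rfl
theorem L597407 : sm gi N5656 = N4276 := trfs L448527 (flp_i L53021) rfl
theorem L597410 : sm ga N5448 = N3914 := trfs L448521 L48731 rfl
theorem L597412 : sm gb N5448 = N7375 := trfs L448521 (flp_b L63272) rfl
theorem L597425 : sm ga N8194 = N11446 := trfs L448506 (flp_a L97951) rfl
theorem L597432 : sm ga N7890 = N5660 := trfs L448500 L70265 rfl
theorem L597434 : sm gb N7890 = N10700 := trfs L448500 (flp_b L91453) rfl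
theorem L597439 : sm ga N5657 = N7993 := trfs L448489 (flp_a L68656) rfl
theorem L597450 : sm ga N5524 = N3915 := trfs L448483 L48737 rfl
theorem L597452 : sm gb N5524 = N7376 := trfs L448483 (flp_b L63280) rfl
theorem L597471 : sm ga N8107 = N11540 := trfs L448468 (flp_a L98756) rfl
theorem L597480 : sm ga N7959 = N5601 := trfs L448462 L69614 rfl
theorem L597482 : sm gb N7959 = N10630 := trfs L448462 (flp_b L90852) rfl
theorem L597488 : sm ga N5599 = N7958 := trfs L448449 (flp_a L68382) rfl
theorem L597496 : sm ga N5499 = N3876 := trfs L448443 L48298 rfl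
theorem L597498 : sm gb N5499 = N7329 := trfs L448443 (flp_b L62869) rfl
theorem L597507 : sm gi N4327 = N5599 := trfs L448432 L69524 rfl
theorem L597509 : sm gb N3872 = N2999 := trfs L448429 L37209 rfl
theorem L597517 : sm gb N2959 = N3907 := trfs L448416 L48663 rfl
theorem L597523 : sm gi N2959 = N3914 := trfs L448416 L48667 rfl
theorem L597530 : sm gi N3018 = N3913 := trfs L448412 L48657 rfl
theorem L597532 : sm gb N2709 = N2099 := trfs L448409 L26075 rfl
theorem L597542 : sm gb N1883 = N1460 := trfs L448392 L18206 rfl
theorem L597545 : sm gh N1883 = N1457 := trfs L448392 (flp_h L18204) rfl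
theorem L597551 : sm ga N2713 = N3825 := trfs L448379 (flp_a L33170) rfl
theorem L597555 : sm gi N2713 = N2099 := trfs L448379 (flp_i L26094) rfl
theorem L597560 : sm ga N2654 = N1886 := trfs L448372 L23627 rfl
theorem L597562 : sm gb N2654 = N3524 := trfs L448372 (flp_b L30513) rfl
theorem L597572 : sm ga N1845 = N1312 := trfs L448356 (flp_a L16504) rfl
theorem L597574 : sm gb N1845 = N2443 := trfs L448356 (flp_b L21270) rfl
theorem L597584 : sm ga N2640 = N1869 := trfs L448339 (flp_a L23426) rfl
theorem L597586 : sm gb N2640 = N3504 := trfs L448339 (flp_b L30337) rfl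
theorem L597592 : sm gb N1017 = N1310 := trfs L448333 (flp_b L16480) rfl
theorem L597599 : sm gi N1017 = N1312 := trfs L448333 L16486 rfl
theorem L597601 : sm gb N1009 = N1318 := trfs L448329 (flp_b L16575) rfl
theorem L597611 : sm gb N1867 = N1450 := trfs L448323 L18076 rfl
theorem L597630 : sm gc N1445 = N1866 := trfs L448302 (flp_c L23381) rfl
theorem L597633 : sm gh N1445 = N1867 := trfs L448302 L23387 rfl
theorem L597644 : sm gc N2080 = N2668 := trfs L448285 (flp_c L33341) rfl
theorem L597649 : sm gh N2080 = N2669 := trfs L448285 L33347 rfl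
theorem L597657 : sm gc N2993 = N3846 := trfs L448270 L47921 rfl
theorem L597669 : sm gb N2085 = N2669 := trfs L448256 (flp_b L33359) rfl
theorem L597677 : sm gb N4325 = N5558 := trfs L448253 L69074 rfl
theorem L597684 : sm gb N3848 = N2998 := trfs L448249 L37200 rfl
theorem L597687 : sm gh N3848 = N2993 := trfs L448249 (flp_h L37198) rfl
theorem L597693 : sm ga N2671 = N3807 := trfs L448237 (flp_a L33016) rfl
theorem L597700 : sm gi N2671 = N2085 := trfs L448237 (flp_i L25947) rfl
theorem L597712 : sm ga N5497 = N3851 := trfs L448227 L47985 rfl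
theorem L597714 : sm gb N5497 = N7300 := trfs L448227 (flp_b L62586) rfl
theorem L597730 : sm ga N7954 = N5563 := trfs L448209 L69135 rfl
theorem L597754 : sm gb N4324 = N5559 := trfs L448183 L69084 rfl
theorem L597760 : sm gi N4324 = N5563 := trfs L448183 L69088 rfl
theorem L597780 : sm gc N6122 = N8039 := trfs L448157 L99689 rfl
theorem L597811 : sm gc N6123 = N8090 := trfs L448125 L100354 rfl
theorem L597856 : sm gi N11676 = N8884 := trfs L448091 (flp_i L109848) rfl
theorem L597858 : sm ga N5704 = N7843 := trfs L448088 (flp_a L67382) rfl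
theorem L597883 : sm ga N3986 = N5449 := trfs L448068 (flp_a L47012) rfl
theorem L597917 : sm ga N5446 = N3916 := trfs L448039 L48744 rfl
theorem L597919 : sm gb N5446 = N7377 := trfs L448039 (flp_b L63289) rfl
theorem L597925 : sm gb N4273 = N5651 := trfs L448033 L70184 rfl
theorem L597939 : sm gb N3909 = N2958 := trfs L448023 L36759 rfl
theorem L597955 : sm gc N2952 = N3903 := trfs L448004 L48619 rfl
theorem L597960 : sm gh N2952 = N3909 := trfs L448004 L48623 rfl
theorem L597978 : sm gc N2047 = N2706 := trfs L447985 L33817 rfl
theorem L597982 : sm gh N2047 = N2710 := trfs L447985 L33819 rfl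
theorem L598000 : sm gc N2929 = N3869 := trfs L447964 L48217 rfl
theorem L598010 : sm gb N2053 = N2710 := trfs L447953 L33851 rfl
theorem L598016 : sm gb N4241 = N5595 := trfs L447950 L69547 rfl
theorem L598022 : sm gb N2084 = N2685 := trfs L447947 L33573 rfl
theorem L598027 : sm gb N4242 = N5593 := trfs L447943 L69530 rfl
theorem L598032 : sm gb N3873 = N2935 := trfs L447939 L36483 rfl
theorem L598034 : sm gh N3873 = N2929 := trfs L447939 (flp_h L36481) rfl
theorem L598039 : sm ga N2714 = N3766 := trfs L447929 (flp_a L32645) rfl
theorem L598044 : sm gi N2714 = N2053 := trfs L447929 (flp_i L25602) rfl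
theorem L598053 : sm ga N2688 = N3806 := trfs L447923 (flp_a L33006) rfl
theorem L598057 : sm gi N2688 = N2084 := trfs L447923 (flp_i L25939) rfl
theorem L598065 : sm ga N5414 = N3877 := trfs L447913 L48305 rfl
theorem L598067 : sm gb N5414 = N7330 := trfs L447913 (flp_b L62878) rfl
theorem L598075 : sm ga N3744 = N2732 := trfs L447897 L34125 rfl
theorem L598077 : sm gb N3744 = N5119 := trfs L447897 (flp_b L44114) rfl
theorem L598082 : sm ga N1320 = N1835 := trfs L447887 (flp_a L16082) rfl
theorem L598089 : sm gi N1320 = N1009 := trfs L447887 (flp_i L12659) rfl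
theorem L598091 : sm ga N2731 = N3629 := trfs L447884 (flp_a L31446) rfl
theorem L598102 : sm ga N2593 = N1898 := trfs L447877 L23775 rfl
theorem L598104 : sm gb N2593 = N3541 := trfs L447877 (flp_b L30670) rfl
theorem L598110 : sm ga N1915 = N2610 := trfs L447867 (flp_a L22747) rfl
theorem L598118 : sm ga N926 = N1285 := trfs L447864 (flp_a L11318) rfl
theorem L598127 : sm ga N1810 = N1331 := trfs L447856 L16732 rfl
theorem L598129 : sm gb N1810 = N2469 := trfs L447856 (flp_b L21503) rfl
theorem L598136 : sm gb N1414 = N1895 := trfs L447847 L23739 rfl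
theorem L598142 : sm gi N1414 = N1898 := trfs L447847 L23745 rfl
theorem L598144 : sm gb N1425 = N1911 := trfs L447843 L23929 rfl
theorem L598150 : sm gi N1425 = N1915 := trfs L447843 L23932 rfl
theorem L598152 : sm gb N705 = N924 := trfs L447840 (flp_b L11666) rfl
theorem L598156 : sm gi N705 = N926 := trfs L447840 L11671 rfl
theorem L598158 : sm gb N1328 = N990 := trfs L447836 L12415 rfl
theorem L598161 : sm gh N1328 = N987 := trfs L447836 (flp_h L12413) rfl
theorem L598170 : sm gi N1917 = N2756 := trfs L447821 L34344 rfl
theorem L598172 : sm gb N1910 = N1370 := trfs L447818 L17186 rfl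
theorem L598178 : sm gh N1910 = N1367 := trfs L447818 (flp_h L17184) rfl
theorem L598182 : sm gb N690 = N934 := trfs L447803 L11782 rfl
theorem L598193 : sm gb N1343 = N963 := trfs L447797 L12117 rfl
theorem L598197 : sm gh N1343 = N960 := trfs L447797 (flp_h L12115) rfl
theorem L598203 : sm ga N1914 = N2530 := trfs L447786 (flp_a L22035) rfl
theorem L598207 : sm gi N1914 = N1370 := trfs L447786 (flp_i L17219) rfl
theorem L598209 : sm ga N937 = N1268 := trfs L447782 (flp_a L11163) rfl
theorem L598215 : sm gi N937 = N690 := trfs L447782 (flp_i L8770) rfl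
theorem L598217 : sm ga N1939 = N2500 := trfs L447779 (flp_a L21763) rfl
theorem L598224 : sm gi N1939 = N1350 := trfs L447779 (flp_i L16977) rfl
theorem L598229 : sm ga N1773 = N1347 := trfs L447773 L16916 rfl
theorem L598231 : sm gb N1773 = N2491 := trfs L447773 (flp_b L21695) rfl
theorem L598236 : sm ga N2797 = N3695 := trfs L447763 (flp_a L32003) rfl
theorem L598242 : sm gi N2797 = N2001 := trfs L447763 (flp_i L25010) rfl
theorem L598244 : sm ga N1348 = N1824 := trfs L447760 (flp_a L15976) rfl
theorem L598250 : sm gi N1348 = N1000 := trfs L447760 (flp_i L12563) rfl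
theorem L598252 : sm ga N2795 = N3612 := trfs L447757 (flp_a L31285) rfl
theorem L598258 : sm gi N2795 = N1945 := trfs L447757 (flp_i L24360) rfl
theorem L598262 : sm ga N2558 = N1940 := trfs L447751 L24260 rfl
theorem L598264 : sm gb N2558 = N3598 := trfs L447751 (flp_b L31174) rfl
theorem L598268 : sm ga N1941 = N2541 := trfs L447741 (flp_a L22134) rfl
theorem L598275 : sm ga N4045 = N5317 := trfs L447738 (flp_a L45846) rfl
theorem L598282 : sm gc N1981 = N2799 := trfs L447734 L34919 rfl
theorem L598294 : sm ga N3673 = N2799 := trfs L447728 L34879 rfl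
theorem L598296 : sm gb N3673 = N5207 := trfs L447728 (flp_b L44888) rfl
theorem L598305 : sm gi N1377 = N1941 := trfs L447719 (flp_i L24316) rfl
theorem L598310 : sm gi N2864 = N4045 := trfs L447716 (flp_i L50376) rfl
theorem L598316 : sm gb N2795 = N1986 := trfs L579156 L24798 rfl
theorem L598322 : sm gh N2795 = N1981 := trfs L579156 (flp_h L24796) rfl
theorem L598346 : sm gb N1388 = N1933 := trfs L447677 L24190 rfl
theorem L598350 : sm gi N1388 = N1940 := trfs L447677 L24195 rfl
theorem L598363 : sm gc N1383 = N1986 := trfs L447661 L24230 rfl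
theorem L598367 : sm gh N1383 = N1933 := trfs L447661 (flp_h L24228) rfl
theorem L598387 : sm gh N2787 = N1996 := trfs L447620 (flp_h L24974) rfl
theorem L598411 : sm gc N5318 = N4158 := trfs L447578 L51624 rfl
theorem L598431 : sm ga N7712 = N5859 := trfs L447560 L72589 rfl
theorem L598433 : sm gb N7712 = N10963 := trfs L447560 (flp_b L93799) rfl
theorem L598445 : sm ga N2801 = N3786 := trfs L447546 (flp_a L32818) rfl
theorem L598453 : sm ga N5351 = N4046 := trfs L447541 L50250 rfl
theorem L598455 : sm gb N5351 = N7549 := trfs L447541 (flp_b L64822) rfl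
theorem L598469 : sm gb N2071 = N2790 := trfs L447527 L34793 rfl
theorem L598475 : sm gi N2071 = N2801 := trfs L447527 L34797 rfl
theorem L598477 : sm gb N4028 = N2890 := trfs L447523 L35961 rfl
theorem L598486 : sm gb N2961 = N3975 := trfs L447509 L49468 rfl
theorem L598490 : sm gi N2961 = N3986 := trfs L447509 L49473 rfl
theorem L598493 : sm gb N2003 = N2787 := trfs L447493 L34770 rfl
theorem L598497 : sm gb N2055 = N2752 := trfs L447489 L34366 rfl
theorem L598512 : sm ga N2757 = N3657 := trfs L447474 (flp_a L31689) rfl
theorem L598520 : sm ga N2798 = N3697 := trfs L447471 (flp_a L32021) rfl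
theorem L598523 : sm gi N2798 = N2003 := trfs L447471 (flp_i L25024) rfl
theorem L598525 : sm ga N2759 = N3768 := trfs L447467 (flp_a L32664) rfl
theorem L598529 : sm gi N2759 = N2055 := trfs L447467 (flp_i L25617) rfl
theorem L598531 : sm ga N5294 = N3983 := trfs L447462 L49547 rfl
theorem L598533 : sm gb N5294 = N7467 := trfs L447462 (flp_b L64105) rfl
theorem L598547 : sm ga N3984 = N5269 := trfs L447451 (flp_a L45443) rfl
theorem L598553 : sm ga N4047 = N5319 := trfs L447448 (flp_a L45864) rfl
theorem L598559 : sm ga N7640 = N5765 := trfs L447440 L71525 rfl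
theorem L598561 : sm gb N7640 = N10841 := trfs L447440 (flp_b L92734) rfl
theorem L598578 : sm gc N2866 = N1996 := trfs L447430 L24928 rfl
theorem L598584 : sm gc N5268 = N4103 := trfs L447421 L51026 rfl
theorem L598589 : sm gb N1964 = N2756 := trfs L447414 (flp_b L23984) rfl
theorem L598591 : sm gc N1964 = N1367 := trfs L447414 (flp_c L17172) rfl
theorem L598608 : sm gc N3639 = N2837 := trfs L447403 L35401 rfl
theorem L598636 : sm gc N1970 = N2833 := trfs L447362 L34392 rfl
theorem L598641 : sm gh N1970 = N2750 := trfs L447362 (flp_h L34390) rfl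
theorem L598652 : sm gb N1975 = N2750 := trfs L447333 L34351 rfl
theorem L598656 : sm gi N1975 = N2757 := trfs L447333 L34355 rfl
theorem L598658 : sm gb N1957 = N2727 := trfs L447330 L34063 rfl
theorem L598662 : sm gi N1957 = N2731 := trfs L447330 L34068 rfl
theorem L598664 : sm gb N2038 = N2728 := trfs L447326 L34073 rfl
theorem L598668 : sm gi N2038 = N2732 := trfs L447326 L34078 rfl
theorem L598671 : sm gb N2937 = N3937 := trfs L447308 L49017 rfl
theorem L598679 : sm ga N3942 = N5253 := trfs L447295 (flp_a L45299) rfl
theorem L598685 : sm gi N3942 = N2822 := trfs L447295 (flp_i L35252) rfl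
theorem L598687 : sm ga N3944 = N5416 := trfs L447290 (flp_a L46725) rfl
theorem L598692 : sm gi N3944 = N2937 := trfs L447290 (flp_i L36566) rfl
theorem L598707 : sm ga N5702 = N7590 := trfs L447274 (flp_a L65188) rfl
theorem L598714 : sm gi N5702 = N4064 := trfs L447274 (flp_i L50590) rfl
theorem L598740 : sm gc N4074 = N5882 := trfs L447251 L70739 rfl
theorem L598748 : sm gc N7589 = N5888 := trfs L447246 L73103 rfl
theorem L598760 : sm gb N5690 = N4081 := trfs L447230 L50735 rfl
theorem L598766 : sm gh N5690 = N4074 := trfs L447230 (flp_h L50733) rfl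
theorem L598932 : sm gi N17436 = N12434 := trfs L446998 (flp_i L153957) rfl
theorem L599033 : sm ge N25356 = N37013 := trfs L446904 (flp_e L313457) rfl
theorem L599034 : N37013 = N36955 := eqes L599033 L312964
theorem L599035 : N37013 = N36955 := eqc rfl L599034 rfl
theorem L599043 : sm gi N36955 = N25394 := trfs L599035 (flp_i L313454) rfl
theorem L599055 : sm gi N12382 = N17437 := trfs L447077 (flp_i L215573) rfl
theorem L599086 : sm gi N12000 = N17421 := trfs L446863 L214742 rfl
theorem L599202 : sm gi N5904 = N8261 := trfs L446740 L102172 rfl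
theorem L599255 : sm gb N4079 = N5689 := trfs L446677 L70665 rfl
theorem L599267 : sm gc N2842 = N4095 := trfs L446668 L49485 rfl
theorem L599272 : sm gh N2842 = N3971 := trfs L446668 (flp_h L49483) rfl
theorem L599275 : sm gc N5897 = N8528 := trfs L446665 L102231 rfl
theorem L599284 : sm gc N5880 = N4073 := trfs L446659 L50673 rfl
theorem L599296 : sm gc N5887 = N7587 := trfs L446653 L91903 rfl
theorem L599300 : sm gh N5887 = N7408 := trfs L446653 (flp_h L91899) rfl
theorem L599316 : sm ga N8262 = N11018 := trfs L446636 (flp_a L94289) rfl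
theorem L599330 : sm gh N8511 = N10776 := trfs L446630 L133232 rfl
theorem L599347 : sm ga N5700 = N7613 := trfs L446614 (flp_a L65393) rfl
theorem L599358 : sm ga N3980 = N5167 := trfs L446598 (flp_a L44536) rfl
theorem L599368 : sm ga N8344 = N10865 := trfs L446595 (flp_a L92932) rfl
theorem L599375 : sm ga N3982 = N5292 := trfs L446592 (flp_a L45625) rfl
theorem L599382 : sm ga N7485 = N5757 := trfs L446588 L71463 rfl
theorem L599396 : sm gi N5770 = N8344 := trfs L446576 L103102 rfl
theorem L599434 : sm gb N2848 = N3971 := trfs L446531 L49436 rfl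
theorem L599439 : sm gi N2848 = N3982 := trfs L446531 L49438 rfl
theorem L599466 : sm gi N4095 = N5763 := trfs L448992 (flp_i L71642) rfl
theorem L599496 : sm gb N5757 = N4095 := trfs L446459 L50921 rfl
theorem L599501 : sm gh N5757 = N4089 := trfs L446459 (flp_h L50919) rfl
theorem L599504 : sm gb N5758 = N4097 := trfs L446455 L50938 rfl
theorem L599586 : sm gb N5744 = N4119 := trfs L446374 L51176 rfl
theorem L599607 : sm gc N4112 = N5929 := trfs L446352 L71409 rfl
theorem L599612 : sm gh N4112 = N5744 := trfs L446352 (flp_h L71407) rfl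
theorem L599625 : sm gh N4114 = N5746 := trfs L446345 (flp_h L71427) rfl
theorem L599834 : sm gh N12117 = N8591 := trfs L446161 (flp_h L106501) rfl
theorem L599964 : sm gi N18174 = N25690 := trfs L446048 L446002 rfl
theorem L600006 : sm gi N17643 = N12566 := trfs L446009 (flp_i L155485) rfl
theorem L600117 : sm gi N17620 = N12139 := trfs L445839 (flp_i L150319) rfl
theorem L600122 : sm gc N5955 = N8598 := trfs L445823 L103247 rfl
theorem L600135 : sm gc N8590 = N12130 := trfs L445806 L150061 rfl
theorem L600225 : sm gh N5991 = N8479 := trfs L491858 (flp_h L105124) rfl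
theorem L600264 : sm gc N8493 = N5991 := trfs L445639 L74284 rfl
theorem L600350 : sm gc N2883 = N4147 := trfs L445515 L50165 rfl
theorem L600353 : sm gh N2883 = N4028 := trfs L445515 (flp_h L50163) rfl
theorem L600373 : sm ga N5848 = N7574 := trfs L445477 (flp_a L65031) rfl
theorem L600387 : sm gc N4139 = N5859 := trfs L445461 L72664 rfl
theorem L600395 : sm gi N4054 = N5848 := trfs L445458 L72269 rfl
theorem L600398 : sm gc N7712 = N5979 := trfs L545420 L74152 rfl
theorem L600412 : sm gb N5848 = N4147 := trfs L445440 L51490 rfl
theorem L600417 : sm gh N5848 = N4139 := trfs L445440 (flp_h L51488) rfl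
theorem L600434 : sm gb N4040 = N2866 := trfs L445417 L35705 rfl
theorem L600437 : sm gh N4040 = N2859 := trfs L445417 (flp_h L35703) rfl
theorem L600466 : sm gb N3972 = N2850 := trfs L445368 L35510 rfl
theorem L600474 : sm gc N2843 = N4097 := trfs L445347 L49502 rfl
theorem L600476 : sm gh N2843 = N3972 := trfs L445347 (flp_h L49500) rfl
theorem L600494 : sm gi N2866 = N4047 := trfs L447720 (flp_i L50392) rfl
theorem L600497 : sm ga N5758 = N7487 := trfs L445307 (flp_a L64270) rfl
theorem L600502 : sm gc N4047 = N2859 := trfs L445298 L35651 rfl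
theorem L600506 : sm gc N8355 = N5922 := trfs L445295 L73489 rfl
theorem L600510 : sm gc N4090 = N5765 := trfs L445291 L71575 rfl
theorem L600513 : sm gh N4090 = N5758 := trfs L445291 (flp_h L71571) rfl
theorem L600517 : sm gi N3990 = N5758 := trfs L445288 L71319 rfl
theorem L600520 : sm gc N7640 = N5913 := trfs L514406 L73402 rfl
theorem L600527 : sm gc N2758 = N1961 := trfs L445276 (flp_c L24541) rfl
theorem L600532 : sm gc N2828 = N3984 := trfs L445271 L49596 rfl
theorem L600539 : sm gi N2762 = N3980 := trfs L445268 L49423 rfl
theorem L600548 : sm gb N3980 = N2833 := trfs L445250 L35331 rfl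
theorem L600552 : sm gh N3980 = N2828 := trfs L445250 (flp_h L35329) rfl
theorem L600567 : sm gb N5698 = N4064 := trfs L445229 L50531 rfl
theorem L600590 : sm gb N3935 = N2822 := trfs L445203 L35197 rfl
theorem L600603 : sm gc N2817 = N4064 := trfs L445178 L49043 rfl
theorem L600605 : sm gh N2817 = N3935 := trfs L445178 (flp_h L49041) rfl
theorem L600618 : sm gh N4059 = N5698 := trfs L514865 (flp_h L70840) rfl
theorem L600623 : sm gi N2833 = N3984 := trfs L514844 (flp_i L49647) rfl
theorem L600628 : sm gi N2811 = N3943 := trfs L586849 (flp_i L49143) rfl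
theorem L600631 : sm ga N5698 = N7428 := trfs L445137 (flp_a L63756) rfl
theorem L600635 : sm gi N5698 = N3947 := trfs L445137 (flp_i L49193) rfl
theorem L600653 : sm gc N5702 = N4059 := trfs L445110 L50495 rfl
theorem L600675 : sm gc N11020 = N8512 := trfs L457768 L105434 rfl
theorem L600698 : sm gi N8271 = N11984 := trfs L445077 L148007 rfl
theorem L600775 : sm gh N8523 = N11984 := trfs L447209 (flp_h L148438) rfl
theorem L600893 : sm gh N7485 = N5912 := trfs L472252 (flp_h L73445) rfl
theorem L600910 : sm gc N5763 = N4089 := trfs L444683 L50875 rfl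
theorem L601019 : sm gc N22794 = N33156 := trfs L444472 (flp_c L281193) rfl
theorem L601094 : sm ga N5311 = N7567 := trfs L468978 L93807 rfl
theorem L601097 : sm gi N5311 = N7550 := trfs L468978 (flp_i L93805) rfl
theorem L601099 : sm ga N11080 = N15785 := trfs L473861 L195212 rfl
theorem L601102 : sm gi N11080 = N15761 := trfs L473861 (flp_i L195210) rfl
theorem L601105 : sm gi N11073 = N15754 := trfs L456315 (flp_i L195123) rfl
theorem L601109 : sm gc N10858 = N15746 := trfs L444288 (flp_c L134291) rfl
theorem L601113 : sm ga N3635 = N5161 := trfs L510244 L64122 rfl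
theorem L601117 : sm gi N3635 = N5154 := trfs L510244 (flp_i L64120) rfl
theorem L601119 : sm ga N7630 = N10856 := trfs L472731 L134433 rfl
theorem L601122 : sm gi N7630 = N10839 := trfs L472731 (flp_i L134431) rfl
theorem L601124 : sm gi N7626 = N10835 := trfs L455972 (flp_i L134371) rfl
theorem L601127 : sm gc N7480 = N10831 := trfs L444265 (flp_c L92651) rfl
theorem L601137 : sm gb N10835 = N7617 := trfs L444248 L94643 rfl
theorem L601139 : sm gd N10835 = N14608 := trfs L444248 (flp_d L124526) rfl
theorem L601142 : sm gc N5269 = N4084 := trfs L514568 L50813 rfl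
theorem L601157 : sm gb N15636 = N10997 := trfs L444224 L136385 rfl
theorem L601159 : sm gd N15636 = N21166 := trfs L444224 (flp_d L179946) rfl
theorem L601162 : sm gc N7590 = N5869 := trfs L458100 L72863 rfl
theorem L601200 : sm ga N7583 = N10771 := trfs L455959 L133364 rfl
theorem L601203 : sm gi N7583 = N10759 := trfs L455959 (flp_i L133362) rfl
theorem L601409 : sm gb N14706 = N21105 := trfs L503780 L260578 rfl
theorem L601463 : sm gh N14731 = N21106 := trfs L551107 (flp_h L260800) rfl
theorem L601466 : sm gb N14710 = N21106 := trfs L503792 L260587 rfl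
theorem L601468 : sm gd N14710 = N21091 := trfs L503792 L260589 rfl
theorem L601506 : sm gh N14628 = N20952 := trfs L474328 (flp_h L258838) rfl
theorem L601508 : sm gb N14614 = N20952 := trfs L526119 L258717 rfl
theorem L601510 : sm gd N14614 = N20943 := trfs L526119 L258719 rfl
theorem L601576 : N1856 = N35909 := coi_55_83 (flp_d L304289) L209552 L209550 L209572 L209574 L209578 (flp_d L209572) L399269 (flp_h L144543) L99844 (flp_f L99839) L69143 L69148 L69147 (flp_c L69141) (flp_d L47992) (flp_i L448263) (flp_h L25925) L18095 L25918 L25924 L25921 (flp_b L37192) (flp_c L583787) (flp_d L69012) L69016 L69015 L69012 (flp_f L47929) (flp_e L33350) (flp_d L23255) L16261 (flp_c L572057) L12853 L8999 L8998 (flp_d L12853) L12856 (flp_e L18389) L18388 L18386 L12880 L12881 L12884 L18430 L26393 (flp_f L37878) L54473 L54479 L557828 L68890 L68891 (flp_i L68888) L68880 L99434 L99436 L99439 (flp_d L99434) (flp_b L99317) (flp_c L143637) L143644 L411812 (flp_h L143633) L143623 L143627 L143631 (flp_d L143623) L99258 L99259 L68797 (flp_i L557836) L54478 L54479 L54480 (flp_e L54473) (flp_d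 L37875) (flp_b L557899) L33299 L23240 (flp_i L23237) L16247 L16245 (flp_f L16242) (flp_e L11365) (flp_d L7953) L5522 L5523 L7953 L11373 L16259
theorem L601577 : N35909 = N1856 := (eqc rfl L601576 rfl).symm
theorem L601579 : sm gd N1856 = N24656 := trfs L601577 (flp_d L304289) rfl
theorem L601580 : N24656 = N2668 := eqes L601579 L23255
theorem L601581 : N24656 = N2668 := eqc rfl L601580 rfl
theorem L601600 : sm gh N2668 = N16952 := trfs L601581 (flp_h L209545) rfl
theorem L601601 : N16952 = N1857 := eqes L601600 L23263
theorem L601602 : N16952 = N1857 := eqc rfl L601601 rfl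
theorem L601622 : sm gi N1857 = N13118 := trfs L601602 L541251 rfl
theorem L601623 : N13118 = N1294 := eqes L601622 L16274
theorem L601624 : N13118 = N1294 := eqc rfl L601623 rfl
theorem L601639 : sm gg N1294 = N18750 := trfs L601624 (flp_g L159296) rfl
theorem L601640 : N18750 = N906 := eqes L601639 L11397
theorem L601641 : N18750 = N906 := eqc rfl L601640 rfl
theorem L601660 : sm gj N906 = N27281 := trfs L601641 (flp_j L231156) rfl
theorem L601661 : N27281 = N632 := eqes L601660 L8020
theorem L601662 : N27281 = N632 := eqc rfl L601661 rfl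
theorem L601683 : sm gi N632 = N35907 := trfs L601662 (flp_i L519755) rfl
theorem L601684 : N35907 = N912 := eqes L601683 (flp_i L8068)
theorem L601685 : N35907 = N912 := eqc rfl L601684 rfl
theorem L601690 : sm ge N912 = N24657 := trfs L601685 L304277 rfl
theorem L601691 : N24657 = N1311 := eqes L601690 L11535
theorem L601692 : N24657 = N1311 := eqc rfl L601691 rfl
theorem L601710 : sm gh N1311 = N35911 := trfs L601692 L304303 rfl
theorem L601711 : N35911 = N1881 := eqes L601710 (flp_h L16477)
theorem L601712 : N35911 = N1881 := eqc rfl L601711 rfl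
theorem L601722 : sm gj N1881 = N24658 := trfs L601712 L304311 rfl
theorem L601723 : N24658 = N2683 := eqes L601722 (flp_j L23393)
theorem L601724 : N24658 = N2683 := eqc rfl L601723 rfl
theorem L601737 : sm gf N2683 = N17086 := trfs L601724 L209568 rfl
theorem L601738 : N17086 = N3869 := eqes L601737 L33551
theorem L601739 : N17086 = N3869 := eqc rfl L601738 rfl
theorem L601760 : sm gh N3869 = N11757 := trfs L601739 (flp_h L145663) rfl
theorem L601761 : N11757 = N2686 := eqes L601760 L33556
theorem L601762 : N11757 = N2686 := eqc rfl L601761 rfl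
theorem L601780 : sm gi N2686 = N8889 := trfs L601762 L515155 rfl
theorem L601781 : N8889 = N1871 := eqes L601780 L23422
theorem L601782 : N8889 = N1871 := eqc rfl L601781 rfl
theorem L601798 : sm gj N1871 = N12896 := trfs L601782 (flp_j L109884) rfl
theorem L601799 : N12896 = N1314 := eqes L601798 L16394
theorem L601800 : N12896 = N1314 := eqc rfl L601799 rfl
theorem L601814 : sm gg N1314 = N8951 := trfs L601800 L109882 rfl
theorem L601815 : N8951 = N1889 := eqes L601814 L16531
theorem L601816 : N8951 = N1889 := eqc rfl L601815 rfl
theorem L601835 : sm gi N1889 = N11889 := trfs L601816 (flp_i L588238) rfl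
theorem L601836 : N11889 = N2711 := eqes L601835 (flp_i L23622)
theorem L601837 : N11889 = N2711 := eqc rfl L601836 rfl
theorem L601854 : sm gh N2711 = N17285 := trfs L601837 L147195 rfl
theorem L601855 : N17285 = N3903 := eqes L601854 (flp_h L33829)
theorem L601856 : N17285 = N3903 := eqc rfl L601855 rfl
theorem L601872 : sm gj N3903 = N11890 := trfs L601856 L147201 rfl
theorem L601873 : N11890 = N5640 := eqes L601872 L48627
theorem L601874 : N11890 = N5640 := eqc rfl L601873 rfl
theorem L601880 : sm gc N5640 = N8200 := trfs L601874 L101591 rfl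
theorem L601881 : N8200 = N4267 := eqes L601880 L585752
theorem L601882 : N8200 = N4267 := eqc rfl L601881 rfl
theorem L601890 : sm gg N5640 = N8194 := trfs L601874 L101594 rfl
theorem L601891 : N8194 = N8090 := eqes L601890 (flp_g L69497)
theorem L601892 : N8194 = N8090 := eqc rfl L601891 rfl
theorem L601895 : sm ga N8090 = N11446 := trfs L601892 L597425 rfl
theorem L601896 : N11446 = N10616 := eqes L601895 (flp_a L90714)
theorem L601897 : N11446 = N10616 := eqc rfl L601896 rfl
theorem L601899 : sm gc N8090 = N5660 := trfs L601892 L70302 rfl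
theorem L601900 : N5660 = N6123 := eqes L601899 (flp_c L597811)
theorem L601901 : N6123 = N5660 := (eqc rfl L601900 rfl).symm
theorem L601902 : sm gd N8090 = N11891 := trfs L601892 L101596 rfl
theorem L601903 : N11891 = N11720 := eqes L601902 (flp_d L100266)
theorem L601904 : N11891 = N11720 := eqc rfl L601903 rfl
theorem L601908 : sm gf N8090 = N5657 := trfs L601892 L70304 rfl
theorem L601909 : N5657 = N11654 := eqes L601908 (flp_f L99701)
theorem L601910 : N11654 = N5657 := (eqc rfl L601909 rfl).symm
theorem L601912 : sm gh N8090 = N5656 := trfs L601892 (flp_h L70299) rfl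
theorem L601913 : N5656 = N5596 := eqes L601912 L69494
theorem L601914 : N5656 = N5596 := eqc rfl L601913 rfl
theorem L601916 : sm ga N5596 = N7889 := trfs L601914 L597403 rfl
theorem L601917 : N7889 = N7328 := eqes L601916 (flp_a L62856)
theorem L601918 : N7889 = N7328 := eqc rfl L601917 rfl
theorem L601920 : sm gc N5596 = N3914 := trfs L601914 L48754 rfl
theorem L601921 : N3914 = N8101 := eqes L601920 (flp_c L69588)
theorem L601922 : N8101 = N3914 := (eqc rfl L601921 rfl).symm
theorem L601924 : sm ge N5596 = N8192 := trfs L601914 L70286 rfl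
theorem L601925 : N8192 = N3938 := eqes L601924 L48290
theorem L601926 : N8192 = N3938 := eqc rfl L601925 rfl
theorem L601927 : sm gf N5596 = N3913 := trfs L601914 (flp_f L48751) rfl
theorem L601928 : N3913 = N8046 := eqes L601927 (flp_f L69120)
theorem L601929 : N8046 = N3913 := (eqc rfl L601928 rfl).symm
theorem L601932 : sm gi N5596 = N4276 := trfs L601914 L597407 rfl
theorem L601933 : N4276 = N3881 := eqes L601932 L48292
theorem L601934 : N4276 = N3881 := eqc rfl L601933 rfl
theorem L601935 : sm ga N3881 = N5447 := trfs L601934 (flp_a L46996) rfl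
theorem L601936 : N5447 = N5069 := eqes L601935 (flp_a L43659)
theorem L601937 : N5447 = N5069 := eqc rfl L601936 rfl
theorem L601939 : sm gc N3881 = N2959 := trfs L601934 (flp_c L36822) rfl
theorem L601940 : N2959 = N5607 := eqes L601939 (flp_c L48374)
theorem L601941 : N5607 = N2959 := (eqc rfl L601940 rfl).symm
theorem L601946 : sm gf N3881 = N3018 := trfs L601934 L36824 rfl
theorem L601947 : N3018 = N5567 := eqes L601946 (flp_f L48035)
theorem L601948 : N5567 = N3018 := (eqc rfl L601947 rfl).symm
theorem L601952 : sm ga N3018 = N7306 := trfs L601948 (flp_a L62637) rfl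
theorem L601953 : N7306 = N3824 := eqes L601952 (flp_a L33162)
theorem L601954 : N7306 = N3824 := eqc rfl L601953 rfl
theorem L601961 : sm gf N3018 = N3881 := trfs L601948 L48035 rfl
theorem L601964 : sm gj N3018 = N3854 := trfs L601948 (flp_j L48030) rfl
theorem L601965 : N3854 = N4327 := eqes L601964 (flp_j L37260)
theorem L601966 : N4327 = N3854 := (eqc rfl L601965 rfl).symm
theorem L601969 : sm ga N3854 = N5498 := trfs L601966 (flp_a L47450) rfl
theorem L601970 : N5498 = N5047 := eqes L601969 (flp_a L43447)
theorem L601971 : N5498 = N5047 := eqc rfl L601970 rfl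
theorem L601973 : sm gc N3854 = N2999 := trfs L601966 (flp_c L37257) rfl
theorem L601974 : N2999 = N5566 := eqes L601973 (flp_c L48024)
theorem L601975 : N5566 = N2999 := (eqc rfl L601974 rfl).symm
theorem L601982 : sm gj N3854 = N3018 := trfs L601966 L37260 rfl
theorem L601985 : sm gi N3854 = N5599 := trfs L601966 L597507 rfl
theorem L601986 : N5599 = N5560 := eqes L601985 (flp_i L47979)
theorem L601987 : N5599 = N5560 := eqc rfl L601986 rfl
theorem L601988 : sm ga N5560 = N7958 := trfs L601987 L597488 rfl
theorem L601989 : N7958 = N7299 := eqes L601988 (flp_a L62574)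
theorem L601990 : N7958 = N7299 := eqc rfl L601989 rfl
theorem L601992 : sm gc N5560 = N3876 := trfs L601987 (flp_c L48313) rfl
theorem L601993 : N3876 = N8045 := eqes L601992 (flp_c L69108)
theorem L601994 : N8045 = N3876 := (eqc rfl L601993 rfl).symm
theorem L602003 : sm gh N5560 = N8107 := trfs L601987 L69636 rfl
theorem L602004 : N8107 = N8039 := eqes L602003 (flp_h L69057)
theorem L602005 : N8107 = N8039 := eqc rfl L602004 rfl
theorem L602006 : sm ga N8039 = N11540 := trfs L602005 L597471 rfl
theorem L602007 : N11540 = N10575 := eqes L602006 (flp_a L90322)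
theorem L602008 : N11540 = N10575 := eqc rfl L602007 rfl
theorem L602010 : sm gc N8039 = N5601 := trfs L602005 L69639 rfl
theorem L602011 : N5601 = N6122 := eqes L602010 (flp_c L597780)
theorem L602012 : N6122 = N5601 := (eqc rfl L602011 rfl).symm
theorem L602013 : sm gd N8039 = N11759 := trfs L602005 L100594 rfl
theorem L602014 : N11759 = N11647 := eqes L602013 (flp_d L99639)
theorem L602015 : N11759 = N11647 := eqc rfl L602014 rfl
theorem L602018 : sm gg N8039 = N11671 := trfs L602005 (flp_g L99852) rfl
theorem L602019 : N11671 = N5555 := eqes L602018 (flp_g L69053)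
theorem L602020 : N11671 = N5555 := eqc rfl L602019 rfl
theorem L602031 : sm gd N5555 = N16955 := trfs L602020 L144551 rfl
theorem L602032 : N16955 = N8034 := eqes L602031 (flp_d L69012)
theorem L602033 : N16955 = N8034 := eqc rfl L602032 rfl
theorem L602047 : sm gf N8034 = N24659 := trfs L602033 (flp_f L209575) rfl
theorem L602048 : N24659 = N5552 := eqes L602047 (flp_f L69009)
theorem L602049 : N24659 = N5552 := eqc rfl L602048 rfl
theorem L602054 : sm ga N5552 = N35504 := trfs L602049 L541275 rfl
theorem L602055 : N35504 = N7291 := eqes L602054 (flp_a L62492)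
theorem L602056 : N35504 = N7291 := eqc rfl L602055 rfl
theorem L602073 : sm gd N7291 = N24377 := trfs L602056 (flp_d L300925) rfl
theorem L602074 : N24377 = N5039 := eqes L602073 L62499
theorem L602075 : N24377 = N5039 := eqc rfl L602074 rfl
theorem L602091 : sm gh N5039 = N16755 := trfs L602075 (flp_h L207215) rfl
theorem L602092 : N16755 = N3490 := eqes L602091 L43377
theorem L602093 : N16755 = N3490 := eqc rfl L602092 rfl
theorem L602111 : sm gi N3490 = N11532 := trfs L602093 (flp_i L142863) rfl
theorem L602112 : N11532 = N2422 := eqes L602111 L30194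
theorem L602113 : N11532 = N2422 := eqc rfl L602112 rfl
theorem L602126 : sm gg N2422 = N16529 := trfs L602113 (flp_g L140992) rfl
theorem L602127 : N16529 = N1691 := eqes L602126 L21061
theorem L602128 : N16529 = N1691 := eqc rfl L602127 rfl
theorem L602141 : sm gj N1691 = N24056 := trfs L602128 (flp_j L204558) rfl
theorem L602142 : N24056 = N1184 := eqes L602141 L14794
theorem L602143 : N24056 = N1184 := eqc rfl L602142 rfl
theorem L602150 : sm gc N1184 = N16527 := trfs L602143 (flp_c L204551) rfl
theorem L602151 : N16527 = N1700 := eqes L602150 (flp_c L14877)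
theorem L602152 : N16527 = N1700 := eqc rfl L602151 rfl
theorem L602177 : sm gi N1700 = N24058 := trfs L602152 L204571 rfl
theorem L602178 : N24058 = N2441 := eqes L602177 (flp_i L21252)
theorem L602179 : N24058 = N2441 := eqc rfl L602178 rfl
theorem L602198 : sm gh N2441 = N35053 := trfs L602179 L297178 rfl
theorem L602199 : N35053 = N2090 := eqes L602198 (flp_h L572190)
theorem L602200 : N35053 = N2090 := eqc rfl L602199 rfl
theorem L602207 : sm gj N2090 = N24063 := trfs L602200 L297185 rfl
theorem L602208 : N24063 = N2984 := eqes L602207 (flp_j L25806)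
theorem L602209 : N24063 = N2984 := eqc rfl L602208 rfl
theorem L602220 : sm gf N2984 = N16536 := trfs L602209 L204623 rfl
theorem L602221 : N16536 = N4224 := eqes L602220 (flp_f L36390)
theorem L602222 : N16536 = N4224 := eqc rfl L602221 rfl
theorem L602235 : sm gg N4224 = N11381 := trfs L602222 L141053 rfl
theorem L602236 : N11381 = N6108 := eqes L602235 L52398
theorem L602237 : N11381 = N6108 := eqc rfl L602236 rfl
theorem L602239 : sm gh N4224 = N11378 := trfs L602222 (flp_h L141049) rfl
theorem L602240 : N11378 = N5061 := eqes L602239 L578528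
theorem L602241 : N11378 = N5061 := eqc rfl L602240 rfl
theorem L602248 : sm gd N5061 = N7840 := trfs L602241 L97389 rfl
theorem L602249 : N7840 = N7325 := eqes L602248 (flp_d L62830)
theorem L602250 : N7840 = N7325 := eqc rfl L602249 rfl
theorem L602255 : sm gg N5061 = N7842 := trfs L602241 L97391 rfl
theorem L602256 : N7842 = N7327 := eqes L602255 L62844
theorem L602257 : N7842 = N7327 := eqc rfl L602256 rfl
theorem L602259 : sm gi N5061 = N7839 := trfs L602241 (flp_i L97385) rfl
theorem L602260 : N7839 = N3507 := eqes L602259 L43592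
theorem L602261 : N7839 = N3507 := eqc rfl L602260 rfl
theorem L602267 : sm gd N3507 = N5412 := trfs L602261 (flp_d L67343) rfl
theorem L602268 : N5412 = N5066 := eqes L602267 (flp_d L43635)
theorem L602269 : N5412 = N5066 := eqc rfl L602268 rfl
theorem L602274 : sm gg N3507 = N5413 := trfs L602261 L67347 rfl
theorem L602275 : N5413 = N5068 := eqes L602274 L43648
theorem L602276 : N5413 = N5068 := eqc rfl L602275 rfl
theorem L602279 : sm ga N5068 = N4242 := trfs L602276 L46694 rfl
theorem L602280 : N4242 = N3880 := eqes L602279 L43650
theorem L602281 : N4242 = N3880 := eqc rfl L602280 rfl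
theorem L602282 : sm gb N5068 = N7832 := trfs L602276 (flp_b L67276) rfl
theorem L602283 : N7832 = N7334 := eqes L602282 (flp_b L62909)
theorem L602284 : N7832 = N7334 := eqc rfl L602283 rfl
theorem L602288 : sm gd N5068 = N3741 := trfs L602276 (flp_d L46692) rfl
theorem L602289 : N3741 = N7336 := eqes L602288 (flp_d L62929)
theorem L602290 : N7336 = N3741 := (eqc rfl L602289 rfl).symm
theorem L602294 : sm gf N5068 = N3805 := trfs L602276 L46696 rfl
theorem L602295 : N3805 = N7305 := eqes L602294 (flp_f L62633)
theorem L602296 : N7305 = N3805 := (eqc rfl L602295 rfl).symm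
theorem L602297 : sm gj N5068 = N3765 := trfs L602276 L46698 rfl
theorem L602298 : N3765 = N7339 := eqes L602297 L62950
theorem L602299 : N7339 = N3765 := (eqc rfl L602298 rfl).symm
theorem L602303 : sm gb N3765 = N10638 := trfs L602299 (flp_b L90916) rfl
theorem L602304 : N10638 = N5440 := eqes L602303 (flp_b L46934)
theorem L602305 : N10638 = N5440 := eqc rfl L602304 rfl
theorem L602311 : sm ge N3765 = N5128 := trfs L602299 L62956 rfl
theorem L602312 : N5128 = N5291 := eqes L602311 (flp_e L45620)
theorem L602313 : N5291 = N5128 := (eqc rfl L602312 rfl).symm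
theorem L602317 : sm gg N3765 = N5102 := trfs L602299 L62959 rfl
theorem L602318 : N5102 = N5445 := eqes L602317 (flp_g L46980)
theorem L602319 : N5445 = N5102 := (eqc rfl L602318 rfl).symm
theorem L602320 : sm gj N3765 = N5068 := trfs L602299 (flp_j L62950) rfl
theorem L602323 : sm gi N3765 = N10627 := trfs L602299 (flp_i L90827) rfl
theorem L602324 : N10627 = N5448 := eqes L602323 L47002
theorem L602325 : N10627 = N5448 := eqc rfl L602324 rfl
theorem L602327 : sm gb N5448 = N15435 := trfs L602325 (flp_b L131506) rfl
theorem L602328 : N15435 = N7375 := eqes L602327 L597412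
theorem L602329 : N15435 = N7375 := eqc rfl L602328 rfl
theorem L602335 : sm ge N5448 = N7412 := trfs L602325 L90825 rfl
theorem L602336 : N7412 = N7675 := eqes L602335 (flp_e L65921)
theorem L602337 : N7675 = N7412 := (eqc rfl L602336 rfl).symm
theorem L602341 : sm gg N5448 = N7373 := trfs L602325 L90829 rfl
theorem L602342 : N7373 = N7887 := eqes L602341 (flp_g L67768)
theorem L602343 : N7887 = N7373 := (eqc rfl L602342 rfl).symm
theorem L602346 : sm gh N5448 = N8855 := trfs L602325 (flp_h L471509) rfl
theorem L602347 : N8855 = N7890 := eqes L602346 L67785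
theorem L602348 : N8855 = N7890 := eqc rfl L602347 rfl
theorem L602350 : sm gb N7890 = N11343 := trfs L602348 (flp_b L97065) rfl
theorem L602351 : N11343 = N10700 := eqes L602350 L597434
theorem L602352 : N11343 = N10700 := eqc rfl L602351 rfl
theorem L602356 : sm ge N7890 = N6110 := trfs L602348 L75697 rfl
theorem L602357 : N6110 = N11147 := eqes L602356 (flp_e L95396)
theorem L602358 : N11147 = N6110 := (eqc rfl L602357 rfl).symm
theorem L602362 : sm gg N7890 = N6151 := trfs L602348 L75700 rfl
theorem L602363 : N6151 = N11443 := eqes L602362 (flp_g L97930)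
theorem L602364 : N11443 = N6151 := (eqc rfl L602363 rfl).symm
theorem L602378 : sm gg N6151 = N7890 := trfs L602364 L97930 rfl
theorem L602380 : sm gj N6151 = N16624 := trfs L602364 (flp_j L141761) rfl
theorem L602381 : N16624 = N4253 := eqes L602380 (flp_j L52776)
theorem L602382 : N16624 = N4253 := eqc rfl L602381 rfl
theorem L602396 : sm gh N4253 = N11440 := trfs L602382 (flp_h L141756) rfl
theorem L602397 : N11440 = N5090 := eqes L602396 L585724
theorem L602398 : N11440 = N5090 := eqc rfl L602397 rfl
theorem L602405 : sm gd N5090 = N7885 := trfs L602398 L97903 rfl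
theorem L602406 : N7885 = N7370 := eqes L602405 (flp_d L63230)
theorem L602407 : N7885 = N7370 := eqc rfl L602406 rfl
theorem L602414 : sm gi N5090 = N7884 := trfs L602398 (flp_i L97899) rfl
theorem L602415 : N7884 = N3529 := eqes L602414 L43851
theorem L602416 : N7884 = N3529 := eqc rfl L602415 rfl
theorem L602422 : sm gd N3529 = N5444 := trfs L602416 (flp_d L67733) rfl
theorem L602423 : N5444 = N5099 := eqes L602422 (flp_d L43920)
theorem L602424 : N5444 = N5099 := eqc rfl L602423 rfl
theorem L602425 : sm ge N3529 = N11141 := trfs L602416 (flp_e L95347) rfl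
theorem L602426 : N11141 = N2474 := eqes L602425 L30551
theorem L602427 : N11141 = N2474 := eqc rfl L602426 rfl
theorem L602450 : sm gj N2474 = N7672 := trfs L602427 L95345 rfl
theorem L602451 : N7672 = N3573 := eqes L602450 L30946
theorem L602452 : N7672 = N3573 := eqc rfl L602451 rfl
theorem L602464 : sm gd N3573 = N5290 := trfs L602452 (flp_d L65890) rfl
theorem L602465 : N5290 = N5165 := eqes L602464 (flp_d L44519)
theorem L602466 : N5290 = N5165 := eqc rfl L602465 rfl
theorem L602473 : sm gi N3573 = N11144 := trfs L602452 L95367 rfl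
theorem L602474 : N11144 = N5151 := eqes L602473 (flp_i L44410)
theorem L602475 : N11144 = N5151 := eqc rfl L602474 rfl
theorem L602476 : sm ga N5151 = N8197 := trfs L602475 (flp_a L597379) rfl
theorem L602477 : N8197 = N3975 := eqes L602476 L44404
theorem L602478 : N8197 = N3975 := eqc rfl L602477 rfl
theorem L602479 : sm gb N5151 = N15551 := trfs L602475 (flp_b L588407) rfl
theorem L602480 : N15551 = N7457 := eqes L602479 (flp_b L64013)
theorem L602481 : N15551 = N7457 := eqc rfl L602480 rfl
theorem L602485 : sm gd N5151 = N7673 := trfs L602475 L95371 rfl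
theorem L602486 : N7673 = N7460 := eqes L602485 (flp_d L64044)
theorem L602487 : N7673 = N7460 := eqc rfl L602486 rfl
theorem L602489 : sm gf N5151 = N16206 := trfs L602475 (flp_f L138264) rfl
theorem L602490 : N16206 = N3596 := eqes L602489 L44408
theorem L602491 : N16206 = N3596 := eqc rfl L602490 rfl
theorem L602512 : sm gh N3596 = N23606 := trfs L602491 L200788 rfl
theorem L602513 : N23606 = N2969 := eqes L602512 L559533
theorem L602514 : N23606 = N2969 := eqc rfl L602513 rfl
theorem L602531 : sm gj N2969 = N34415 := trfs L602514 (flp_j L291878) rfl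
theorem L602532 : N34415 = N2060 := eqes L602531 (flp_j L25677)
theorem L602533 : N34415 = N2060 := eqc rfl L602532 rfl
theorem L602535 : sm ga N2060 = N25167 := trfs L602533 (flp_a L597189) rfl
theorem L602536 : N25167 = N1434 := eqes L602535 L17900
theorem L602537 : N25167 = N1434 := eqc rfl L602536 rfl
theorem L602559 : sm gh N1434 = N17293 := trfs L602537 (flp_h L213659) rfl
theorem L602560 : N17293 = N1935 := eqes L602559 (flp_h L583507)
theorem L602561 : N17293 = N1935 := eqc rfl L602560 rfl
theorem L602581 : sm gi N1935 = N12567 := trfs L602561 L597171 rfl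
theorem L602582 : N12567 = N1351 := eqes L602581 L16903
theorem L602583 : N12567 = N1351 := eqc rfl L602582 rfl
theorem L602599 : sm gj N1351 = N8651 := trfs L602583 L107160 rfl
theorem L602600 : N8651 = N1947 := eqes L602599 L16984
theorem L602601 : N8651 = N1947 := eqc rfl L602600 rfl
theorem L602610 : sm gd N1947 = N5963 := trfs L602601 (flp_d L74020) rfl
theorem L602611 : N5963 = N2804 := eqes L602610 (flp_d L24350)
theorem L602612 : N5963 = N2804 := eqc rfl L602611 rfl
theorem L602621 : sm gb N2804 = N8325 := trfs L602612 L597106 rfl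
theorem L602622 : N8325 = N4046 := eqes L602621 (flp_b L34956)
theorem L602623 : N8325 = N4046 := eqc rfl L602622 rfl
theorem L602627 : sm ge N2804 = N4177 := trfs L602612 L51226 rfl
theorem L602628 : N4177 = N4050 := eqes L602627 (flp_e L34987)
theorem L602629 : N4177 = N4050 := eqc rfl L602628 rfl
theorem L602630 : sm gf N2804 = N4119 := trfs L602612 L51228 rfl
theorem L602631 : N4119 = N3989 := eqes L602630 (flp_f L34514)
theorem L602632 : N4119 = N3989 := eqc rfl L602631 rfl
theorem L602635 : sm gh N2804 = N4117 := trfs L602612 (flp_h L51224) rfl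
theorem L602636 : N4117 = N4054 := eqes L602635 L35013
theorem L602637 : N4117 = N4054 := eqc rfl L602636 rfl
theorem L602638 : sm gi N2804 = N8353 := trfs L602612 L597112 rfl
theorem L602639 : N8353 = N4028 := eqes L602638 (flp_i L34823)
theorem L602640 : N8353 = N4028 := eqc rfl L602639 rfl
theorem L602642 : sm gb N4028 = N5767 := trfs L602640 L71617 rfl
theorem L602643 : N5767 = N2890 := eqes L602642 L598477
theorem L602644 : N5767 = N2890 := eqc rfl L602643 rfl
theorem L602649 : sm ge N4028 = N5854 := trfs L602640 L71619 rfl
theorem L602650 : N5854 = N5827 := eqes L602649 (flp_e L50135)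
theorem L602651 : N5854 = N5827 := eqc rfl L602650 rfl
theorem L602652 : sm gf N4028 = N5762 := trfs L602640 (flp_f L71615) rfl
theorem L602653 : N5762 = N5746 := eqes L602652 (flp_f L49496)
theorem L602654 : N5762 = N5746 := eqc rfl L602653 rfl
theorem L602657 : sm gh N4028 = N12130 := trfs L602640 L103598 rfl
theorem L602658 : N12130 = N2883 := eqes L602657 (flp_h L600353)
theorem L602659 : N12130 = N2883 := eqc rfl L602658 rfl
theorem L602664 : sm gc N2883 = N8590 := trfs L602659 (flp_c L600135) rfl
theorem L602665 : N8590 = N4147 := eqes L602664 L600350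
theorem L602666 : N8590 = N4147 := eqc rfl L602665 rfl
theorem L602670 : sm ge N2883 = N8493 := trfs L602659 L103602 rfl
theorem L602671 : N8493 = N4171 := eqes L602670 (flp_e L35938)
theorem L602672 : N8493 = N4171 := eqc rfl L602671 rfl
theorem L602673 : sm gf N2883 = N8355 := trfs L602659 L103604 rfl
theorem L602674 : N8355 = N4114 := eqes L602673 (flp_f L35506)
theorem L602675 : N8355 = N4114 := eqc rfl L602674 rfl
theorem L602680 : sm gi N2883 = N8598 := trfs L602659 L597025 rfl
theorem L602681 : N8598 = N4139 := eqes L602680 (flp_i L35700)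
theorem L602682 : N8598 = N4139 := eqc rfl L602681 rfl
theorem L602683 : sm ga N4139 = N11086 := trfs L602682 (flp_a L94896) rfl
theorem L602684 : N11086 = N5979 := eqes L602683 (flp_a L51350)
theorem L602685 : N11086 = N5979 := eqc rfl L602684 rfl
theorem L602687 : sm gc N4139 = N5955 := trfs L602682 (flp_c L600122) rfl
theorem L602688 : N5955 = N5859 := eqes L602687 L600387
theorem L602689 : N5955 = N5859 := eqc rfl L602688 rfl
theorem L602693 : sm ge N4139 = N5999 := trfs L602682 L73621 rfl
theorem L602694 : N5999 = N5992 := eqes L602693 (flp_e L51456)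
theorem L602695 : N5999 = N5992 := eqc rfl L602694 rfl
theorem L602696 : sm gf N4139 = N5929 := trfs L602682 L73623 rfl
theorem L602697 : N5929 = N5924 := eqes L602696 (flp_f L50932)
theorem L602698 : N5929 = N5924 := eqc rfl L602697 rfl
theorem L602703 : sm gh N4139 = N5927 := trfs L602682 (flp_h L73619) rfl
theorem L602704 : N5927 = N5848 := eqes L602703 (flp_h L600417)
theorem L602705 : N5927 = N5848 := eqc rfl L602704 rfl
theorem L602706 : sm ga N5848 = N7634 := trfs L602705 (flp_a L65582) rfl
theorem L602707 : N7634 = N7574 := eqes L602706 L600373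
theorem L602708 : N7634 = N7574 := eqc rfl L602707 rfl
theorem L602712 : sm ge N5848 = N4142 := trfs L602705 L50959 rfl
theorem L602713 : N4142 = N8480 := eqes L602712 (flp_e L72631)
theorem L602714 : N8480 = N4142 := (eqc rfl L602713 rfl).symm
theorem L602715 : sm gf N5848 = N4094 := trfs L602705 (flp_f L50954) rfl
theorem L602716 : N4094 = N8347 := eqes L602715 (flp_f L71569)
theorem L602717 : N8347 = N4094 := (eqc rfl L602716 rfl).symm
theorem L602719 : sm gj N5848 = N8597 := trfs L602705 L73610 rfl
theorem L602720 : N8597 = N4040 := eqes L602719 (flp_j L50296)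
theorem L602721 : N8597 = N4040 := eqc rfl L602720 rfl
theorem L602733 : sm ge N4040 = N5998 := trfs L602721 L73613 rfl
theorem L602734 : N5998 = N5846 := eqes L602733 (flp_e L50284)
theorem L602735 : N5998 = N5846 := eqc rfl L602734 rfl
theorem L602736 : sm gf N4040 = N5928 := trfs L602721 L73615 rfl
theorem L602737 : N5928 = N5758 := eqes L602736 (flp_f L49590)
theorem L602738 : N5928 = N5758 := eqc rfl L602737 rfl
theorem L602743 : sm gi N4040 = N5962 := trfs L602721 L73617 rfl
theorem L602744 : N5962 = N2805 := eqes L602743 L587433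
theorem L602745 : N5962 = N2805 := eqc rfl L602744 rfl
theorem L602756 : sm ge N2805 = N4176 := trfs L602745 L51220 rfl
theorem L602757 : N4176 = N4051 := eqes L602756 (flp_e L34994)
theorem L602758 : N4176 = N4051 := eqc rfl L602757 rfl
theorem L602759 : sm gf N2805 = N4118 := trfs L602745 L51222 rfl
theorem L602760 : N4118 = N3990 := eqes L602759 (flp_f L34520)
theorem L602761 : N4118 = N3990 := eqc rfl L602760 rfl
theorem L602762 : sm gg N2805 = N8649 := trfs L602745 L74006 rfl
theorem L602763 : N8649 = N1945 := eqes L602762 L24357
theorem L602764 : N8649 = N1945 := eqc rfl L602763 rfl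
theorem L602784 : sm gh N1945 = N12566 := trfs L602764 L107149 rfl
theorem L602785 : N12566 = N1349 := eqes L602784 (flp_h L16969)
theorem L602786 : N12566 = N1349 := eqc rfl L602785 rfl
theorem L602806 : sm gi N1349 = N17643 := trfs L602786 (flp_i L600006) rfl
theorem L602807 : N17643 = N1933 := eqes L602806 (flp_i L16890)
theorem L602808 : N17643 = N1933 := eqc rfl L602807 rfl
theorem L602825 : sm gh N1933 = N25690 := trfs L602808 L218060 rfl
theorem L602826 : N25690 = N1383 := eqes L602825 (flp_h L598367)
theorem L602827 : N25690 = N1383 := eqc rfl L602826 rfl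
theorem L602846 : sm gi N1383 = N18174 := trfs L602827 (flp_i L599964) rfl
theorem L602847 : N18174 = N1981 := eqes L602846 (flp_i L17268)
theorem L602848 : N18174 = N1981 := eqc rfl L602847 rfl
theorem L602860 : sm gf N1981 = N26232 := trfs L602848 (flp_f L222584) rfl
theorem L602861 : N26232 = N1374 := eqes L602860 (flp_f L17261)
theorem L602862 : N26232 = N1374 := eqc rfl L602861 rfl
theorem L602883 : sm gh N1374 = N18015 := trfs L602862 (flp_h L222581) rfl
theorem L602884 : N18015 = N1939 := eqes L602883 (flp_h L589592)
theorem L602885 : N18015 = N1939 := eqc rfl L602884 rfl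
theorem L602899 : sm gg N1939 = N12381 := trfs L602885 (flp_g L153276) rfl
theorem L602900 : N12381 = N2756 := eqes L602899 (flp_g L23982)
theorem L602901 : N12381 = N2756 := eqc rfl L602900 rfl
theorem L602922 : sm gi N2756 = N8561 := trfs L602901 L105670 rfl
theorem L602923 : N8561 = N1917 := eqes L602922 (flp_i L598170)
theorem L602924 : N8561 = N1917 := eqc rfl L602923 rfl
theorem L602943 : sm gh N1917 = N12434 := trfs L602924 L106111 rfl
theorem L602944 : N12434 = N1332 := eqes L602943 (flp_h L16757)
theorem L602945 : N12434 = N1332 := eqc rfl L602944 rfl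
theorem L602964 : sm gi N1332 = N17436 := trfs L602945 (flp_i L598932) rfl
theorem L602965 : N17436 = N1910 := eqes L602964 (flp_i L16710)
theorem L602966 : N17436 = N1910 := eqc rfl L602965 rfl
theorem L602985 : sm gh N1910 = N25380 := trfs L602966 L215557 rfl
theorem L602986 : N25380 = N1367 := eqes L602985 L598178
theorem L602987 : N25380 = N1367 := eqc rfl L602986 rfl
theorem L603001 : sm gj N1367 = N17437 := trfs L602987 L215564 rfl
theorem L603002 : N17437 = N1954 := eqes L603001 (flp_j L17054)
theorem L603003 : N17437 = N1954 := eqc rfl L603002 rfl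
theorem L603023 : sm gi N1954 = N12382 := trfs L603003 (flp_i L599055) rfl
theorem L603024 : N12382 = N2808 := eqes L603023 (flp_i L24386)
theorem L603025 : N12382 = N2808 := eqc rfl L603024 rfl
theorem L603039 : sm gf N2808 = N8528 := trfs L603025 L105675 rfl
theorem L603040 : N8528 = N4059 := eqes L603039 L35058
theorem L603041 : N8528 = N4059 := eqc rfl L603040 rfl
theorem L603045 : sm ga N4059 = N11016 := trfs L603041 (flp_a L94272) rfl
theorem L603046 : N11016 = N5869 := eqes L603045 (flp_a L50466)
theorem L603047 : N11016 = N5869 := eqc rfl L603046 rfl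
theorem L603051 : sm gc N4059 = N5897 := trfs L603041 (flp_c L599275) rfl
theorem L603052 : N5897 = N5702 := eqes L603051 (flp_c L600653)
theorem L603053 : N5897 = N5702 := eqc rfl L603052 rfl
theorem L603057 : sm ge N4059 = N5882 := trfs L603041 L73039 rfl
theorem L603058 : N5882 = N5874 := eqes L603057 L50510
theorem L603059 : N5882 = N5874 := eqc rfl L603058 rfl
theorem L603060 : sm gg N4059 = N5880 := trfs L603041 L73041 rfl
theorem L603061 : N5880 = N5875 := eqes L603060 L50520
theorem L603062 : N5880 = N5875 := eqc rfl L603061 rfl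
theorem L603066 : sm gh N4059 = N5879 := trfs L603041 (flp_h L73037) rfl
theorem L603067 : N5879 = N5698 := eqes L603066 L600618
theorem L603068 : N5879 = N5698 := eqc rfl L603067 rfl
theorem L603070 : sm ga N5698 = N7586 := trfs L603068 (flp_a L65151) rfl
theorem L603071 : N7586 = N7428 := eqes L603070 L600631
theorem L603072 : N7586 = N7428 := eqc rfl L603071 rfl
theorem L603076 : sm gc N5698 = N8243 := trfs L603068 (flp_c L70711) rfl
theorem L603077 : N8243 = N3942 := eqes L603076 L49105
theorem L603078 : N8243 = N3942 := eqc rfl L603077 rfl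
theorem L603080 : sm ge N5698 = N4063 := trfs L603068 L50564 rfl
theorem L603081 : N4063 = N8256 := eqes L603080 L70823
theorem L603082 : N8256 = N4063 := (eqc rfl L603081 rfl).symm
theorem L603084 : sm gg N5698 = N4062 := trfs L603068 (flp_g L50561) rfl
theorem L603085 : N4062 = N8257 := eqes L603084 L70832
theorem L603086 : N8257 = N4062 := (eqc rfl L603085 rfl).symm
theorem L603088 : sm gi N5698 = N4078 := trfs L603068 L50566 rfl
theorem L603089 : N4078 = N3947 := eqes L603088 L600635
theorem L603090 : N4078 = N3947 := eqc rfl L603089 rfl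
theorem L603091 : sm ga N3947 = N5249 := trfs L603090 (flp_a L45265) rfl
theorem L603092 : N5249 = N5126 := eqes L603091 (flp_a L44170)
theorem L603093 : N5249 = N5126 := eqc rfl L603092 rfl
theorem L603095 : sm gc N3947 = N5705 := trfs L603090 (flp_c L49163) rfl
theorem L603096 : N5705 = N2822 := eqes L603095 L34180
theorem L603097 : N5705 = N2822 := eqc rfl L603096 rfl
theorem L603099 : sm ge N3947 = N2821 := trfs L603090 L35229 rfl
theorem L603100 : N2821 = N5706 := eqes L603099 (flp_e L49171)
theorem L603101 : N5706 = N2821 := (eqc rfl L603100 rfl).symm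
theorem L603103 : sm gg N3947 = N2820 := trfs L603090 (flp_g L35226) rfl
theorem L603104 : N2820 = N5708 := eqes L603103 (flp_g L49190)
theorem L603105 : N5708 = N2820 := (eqc rfl L603104 rfl).symm
theorem L603107 : sm gh N3947 = N5904 := trfs L603090 L50764 rfl
theorem L603108 : N5904 = N2733 := eqes L603107 (flp_h L34178)
theorem L603109 : N5904 = N2733 := eqc rfl L603108 rfl
theorem L603120 : sm ge N2733 = N4081 := trfs L603109 L50766 rfl
theorem L603121 : N4081 = N3945 := eqes L603120 L34164
theorem L603122 : N4081 = N3945 := eqc rfl L603121 rfl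
theorem L603124 : sm gg N2733 = N4079 := trfs L603109 L50768 rfl
theorem L603125 : N4079 = N3946 := eqes L603124 L34171
theorem L603126 : N4079 = N3946 := eqc rfl L603125 rfl
theorem L603128 : sm gi N2733 = N8261 := trfs L603109 L599202 rfl
theorem L603129 : N8261 = N3935 := eqes L603128 (flp_i L34088)
theorem L603130 : N8261 = N3935 := eqc rfl L603129 rfl
theorem L603139 : sm ge N3935 = N5701 := trfs L603130 L70873 rfl
theorem L603140 : N5701 = N5689 := eqes L603139 L49023
theorem L603141 : N5701 = N5689 := eqc rfl L603140 rfl
theorem L603143 : sm gg N3935 = N5700 := trfs L603130 (flp_g L70869) rfl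
theorem L603144 : N5700 = N5690 := eqes L603143 L49032
theorem L603145 : N5700 = N5690 := eqc rfl L603144 rfl
theorem L603148 : sm ga N5690 = N7613 := trfs L603145 L599347 rfl
theorem L603149 : N7613 = N7409 := eqes L603148 (flp_a L63577)
theorem L603150 : N7613 = N7409 := eqc rfl L603149 rfl
theorem L603154 : sm gd N5690 = N8108 := trfs L603145 (flp_d L69650) rfl
theorem L603155 : N8108 = N3937 := eqes L603154 L49036
theorem L603156 : N8108 = N3937 := eqc rfl L603155 rfl
theorem L603160 : sm gj N5690 = N3982 := trfs L603145 L49124 rfl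
theorem L603161 : N3982 = N8245 := eqes L603160 L70726
theorem L603162 : N8245 = N3982 := (eqc rfl L603161 rfl).symm
theorem L603163 : sm gh N5690 = N8262 := trfs L603145 L70875 rfl
theorem L603164 : N8262 = N4074 := eqes L603163 L598766
theorem L603165 : N8262 = N4074 := eqc rfl L603164 rfl
theorem L603167 : sm ga N4074 = N11018 := trfs L603165 L599316 rfl
theorem L603168 : N11018 = N5888 := eqes L603167 (flp_a L50635)
theorem L603169 : N11018 = N5888 := eqc rfl L603168 rfl
theorem L603180 : sm gj N4074 = N5763 := trfs L603165 L70882 rfl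
theorem L603181 : N5763 = N5899 := eqes L603180 L50724
theorem L603182 : N5899 = N5763 := (eqc rfl L603181 rfl).symm
theorem L603184 : sm ga N5763 = N8542 := trfs L603182 (flp_a L73155) rfl
theorem L603185 : N8542 = N7638 := eqes L603184 L596818
theorem L603186 : N8542 = N7638 := eqc rfl L603185 rfl
theorem L603187 : sm gb N5763 = N4080 := trfs L603182 L50726 rfl
theorem L603188 : N4080 = N3988 := eqes L603187 L49625
theorem L603189 : N4080 = N3988 := eqc rfl L603188 rfl
theorem L603193 : sm gd N5763 = N4077 := trfs L603182 L50728 rfl
theorem L603194 : N4077 = N8356 := eqes L603193 L71636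
theorem L603195 : N8356 = N4077 := (eqc rfl L603194 rfl).symm
theorem L603202 : sm gj N5763 = N4074 := trfs L603182 (flp_j L50724) rfl
theorem L603205 : sm gi N5763 = N8523 := trfs L603182 (flp_i L72998) rfl
theorem L603206 : N8523 = N4095 := eqes L603205 (flp_i L599466)
theorem L603207 : N8523 = N4095 := eqc rfl L603206 rfl
theorem L603211 : sm gb N4095 = N5881 := trfs L603207 L72993 rfl
theorem L603212 : N5881 = N5757 := eqes L603211 (flp_b L599496)
theorem L603213 : N5881 = N5757 := eqc rfl L603212 rfl
theorem L603217 : sm gd N4095 = N5878 := trfs L603207 L72995 rfl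
theorem L603218 : N5878 = N5930 := eqes L603217 L50975
theorem L603219 : N5930 = N5878 := (eqc rfl L603218 rfl).symm
theorem L603228 : sm gh N4095 = N11984 := trfs L603207 L600775 rfl
theorem L603229 : N11984 = N2831 := eqes L603228 (flp_h L35364)
theorem L603230 : N11984 = N2831 := eqc rfl L603229 rfl
theorem L603245 : sm gi N2831 = N8271 := trfs L603230 (flp_i L600698) rfl
theorem L603246 : N8271 = N1973 := eqes L603245 L24578
theorem L603247 : N8271 = N1973 := eqc rfl L603246 rfl
theorem L603264 : sm gh N1973 = N5707 := trfs L603247 (flp_h L70947) rfl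
theorem L603265 : N5707 = N2848 := eqes L603264 L24704
theorem L603266 : N5707 = N2848 := eqc rfl L603265 rfl
theorem L603267 : sm ga N2848 = N7426 := trfs L603266 (flp_a L63735) rfl
theorem L603268 : N7426 = N3654 := eqes L603267 (flp_a L31664)
theorem L603269 : N7426 = N3654 := eqc rfl L603268 rfl
theorem L603272 : sm gd N2848 = N3949 := trfs L603266 L49180 rfl
theorem L603273 : N3949 = N4120 := eqes L603272 L35543
theorem L603274 : N4120 = N3949 := (eqc rfl L603273 rfl).symm
theorem L603275 : sm ge N2848 = N8267 := trfs L603266 (flp_e L70920) rfl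
theorem L603276 : N8267 = N1975 := eqes L603275 L24706
theorem L603277 : N8267 = N1975 := eqc rfl L603276 rfl
theorem L603293 : sm gg N1975 = N5768 := trfs L603277 L70922 rfl
theorem L603294 : N5768 = N2850 := eqes L603293 (flp_g L24719)
theorem L603295 : N5768 = N2850 := eqc rfl L603294 rfl
theorem L603298 : sm gi N1975 = N11963 := trfs L603277 (flp_i L102225) rfl
theorem L603299 : N11963 = N2757 := eqes L603298 L598656
theorem L603300 : N11963 = N2757 := eqc rfl L603299 rfl
theorem L603311 : sm gg N2757 = N8326 := trfs L603300 L102227 rfl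
theorem L603312 : N8326 = N3983 := eqes L603311 L34464
theorem L603313 : N8326 = N3983 := eqc rfl L603312 rfl
theorem L603316 : sm ga N3983 = N10825 := trfs L603313 (flp_a L92589) rfl
theorem L603317 : N10825 = N5294 := eqes L603316 (flp_a L598531)
theorem L603318 : N10825 = N5294 := eqc rfl L603317 rfl
theorem L603329 : sm gj N3983 = N5744 := trfs L603313 (flp_j L71399) rfl
theorem L603330 : N5744 = N5764 := eqes L603329 L49630
theorem L603331 : N5764 = N5744 := (eqc rfl L603330 rfl).symm
theorem L603332 : sm gh N3983 = N5956 := trfs L603313 L446375 rfl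
theorem L603333 : N5956 = N5765 := eqes L603332 L49638
theorem L603334 : N5956 = N5765 := eqc rfl L603333 rfl
theorem L603336 : sm ga N5765 = N8620 := trfs L603334 (flp_a L73788) rfl
theorem L603337 : N8620 = N7640 := eqes L603336 (flp_a L598559)
theorem L603338 : N8620 = N7640 := eqc rfl L603337 rfl
theorem L603348 : sm gj N5765 = N4112 := trfs L603334 (flp_j L51167) rfl
theorem L603349 : N4112 = N8358 := eqes L603348 (flp_j L71655)
theorem L603350 : N8358 = N4112 := (eqc rfl L603349 rfl).symm
theorem L603351 : sm gi N5765 = N8591 := trfs L603334 (flp_i L73564) rfl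
theorem L603352 : N8591 = N4097 := eqes L603351 L447458
theorem L603353 : N8591 = N4097 := eqc rfl L603352 rfl
theorem L603366 : sm gj N4097 = N5922 := trfs L603353 (flp_j L73557) rfl
theorem L603367 : N5922 = N5932 := eqes L603366 (flp_j L50991)
theorem L603368 : N5932 = N5922 := (eqc rfl L603367 rfl).symm
theorem L603369 : sm gh N4097 = N12117 := trfs L603353 (flp_h L599834) rfl
theorem L603370 : N12117 = N2832 := eqes L603369 (flp_h L35377)
theorem L603371 : N12117 = N2832 := eqc rfl L603370 rfl
theorem L603390 : sm gi N2832 = N8362 := trfs L603371 L446310 rfl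
theorem L603391 : N8362 = N1974 := eqes L603390 L24586
theorem L603392 : N8362 = N1974 := eqc rfl L603391 rfl
theorem L603406 : sm gj N1974 = N5769 := trfs L603392 L71690 rfl
theorem L603407 : N5769 = N2849 := eqes L603406 L24709
theorem L603408 : N5769 = N2849 := eqc rfl L603407 rfl
theorem L603410 : sm ga N2849 = N7483 := trfs L603408 (flp_a L64234) rfl
theorem L603411 : N7483 = N3655 := eqes L603410 (flp_a L31671)
theorem L603412 : N7483 = N3655 := eqc rfl L603411 rfl
theorem L603423 : sm gh N2849 = N3987 := trfs L603408 (flp_h L49667) rfl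
theorem L603424 : N3987 = N4122 := eqes L603423 L35554
theorem L603425 : N4122 = N3987 := (eqc rfl L603424 rfl).symm
theorem L603427 : sm ga N3987 = N5293 := trfs L603425 (flp_a L45632) rfl
theorem L603428 : N5293 = N5163 := eqes L603427 (flp_a L44498)
theorem L603429 : N5293 = N5163 := eqc rfl L603428 rfl
theorem L603433 : sm gd N3987 = N2961 := trfs L603425 L35560 rfl
theorem L603434 : N2961 = N5663 := eqes L603433 (flp_d L48804)
theorem L603435 : N5663 = N2961 := (eqc rfl L603434 rfl).symm
theorem L603442 : sm gh N3987 = N2849 := trfs L603425 (flp_h L35554) rfl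
theorem L603445 : sm ga N2961 = N7385 := trfs L603435 (flp_a L63345) rfl
theorem L603446 : N7385 = N3767 := eqes L603445 (flp_a L32655)
theorem L603447 : N7385 = N3767 := eqc rfl L603446 rfl
theorem L603450 : sm gd N2961 = N3987 := trfs L603435 L48804 rfl
theorem L603452 : sm ge N2961 = N3918 := trfs L603435 L48806 rfl
theorem L603453 : N3918 = N4273 := eqes L603452 (flp_e L36802)
theorem L603454 : N4273 = N3918 := (eqc rfl L603453 rfl).symm
theorem L603458 : sm gg N2961 = N3917 := trfs L603435 (flp_g L48801) rfl
theorem L603459 : N3917 = N4244 := eqes L603458 (flp_g L36562)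
theorem L603460 : N4244 = N3917 := (eqc rfl L603459 rfl).symm
theorem L603467 : sm gi N2961 = N8179 := trfs L603435 (flp_i L70199) rfl
theorem L603468 : N8179 = N3986 := eqes L603467 L598490
theorem L603469 : N8179 = N3986 := eqc rfl L603468 rfl
theorem L603470 : sm ga N3986 = N10690 := trfs L603469 (flp_a L91366) rfl
theorem L603471 : N10690 = N5449 := eqes L603470 L597883
theorem L603472 : N10690 = N5449 := eqc rfl L603471 rfl
theorem L603477 : sm ge N3986 = N5648 := trfs L603469 L70197 rfl
theorem L603478 : N5648 = N5662 := eqes L603477 (flp_e L48797)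
theorem L603479 : N5662 = N5648 := (eqc rfl L603478 rfl).symm
theorem L603481 : sm gg N3986 = N5647 := trfs L603469 (flp_g L70192) rfl
theorem L603482 : N5647 = N5704 := eqes L603481 (flp_g L49159)
theorem L603483 : N5704 = N5647 := (eqc rfl L603482 rfl).symm
theorem L603486 : sm ga N5647 = N7843 := trfs L603483 L597858 rfl
theorem L603487 : N7843 = N7369 := eqes L603486 (flp_a L63217)
theorem L603488 : N7843 = N7369 := eqc rfl L603487 rfl
theorem L603497 : sm gg N5647 = N3986 := trfs L603483 L49159 rfl
theorem L603499 : sm gj N5647 = N3944 := trfs L603483 (flp_j L49152) rfl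
theorem L603500 : N3944 = N8097 := eqes L603499 (flp_j L69557)
theorem L603501 : N8097 = N3944 := (eqc rfl L603500 rfl).symm
theorem L603504 : sm ga N3944 = N10623 := trfs L603501 (flp_a L90781) rfl
theorem L603505 : N10623 = N5416 := eqes L603504 L598687
theorem L603506 : N10623 = N5416 := eqc rfl L603505 rfl
theorem L603513 : sm ge N3944 = N5593 := trfs L603501 (flp_e L69554) rfl
theorem L603514 : N5593 = N5602 := eqes L603513 (flp_e L48341)
theorem L603515 : N5602 = N5593 := (eqc rfl L603514 rfl).symm
theorem L603520 : sm gj N3944 = N5647 := trfs L603501 L69557 rfl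
theorem L603523 : sm gi N3944 = N5603 := trfs L603501 L69559 rfl
theorem L603524 : N5603 = N2937 := eqes L603523 L598692
theorem L603525 : N5603 = N2937 := eqc rfl L603524 rfl
theorem L603526 : sm ga N2937 = N7335 := trfs L603525 (flp_a L62916) rfl
theorem L603527 : N7335 = N3743 := eqes L603526 (flp_a L32444)
theorem L603528 : N7335 = N3743 := eqc rfl L603527 rfl
theorem L603533 : sm ge N2937 = N3878 := trfs L603525 (flp_e L48344) rfl
theorem L603534 : N3878 = N4241 := eqes L603533 (flp_e L36537)
theorem L603535 : N4241 = N3878 := (eqc rfl L603534 rfl).symm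
theorem L603542 : sm gh N2937 = N8114 := trfs L603525 L69693 rfl
theorem L603543 : N8114 = N2037 := eqes L603542 (flp_h L25418)
theorem L603544 : N8114 = N2037 := eqc rfl L603543 rfl
theorem L603555 : sm ge N2037 = N5605 := trfs L603544 L69696 rfl
theorem L603556 : N5605 = N2934 := eqes L603555 (flp_e L25397)
theorem L603557 : N5605 = N2934 := eqc rfl L603556 rfl
theorem L603562 : sm gj N2037 = N5664 := trfs L603544 L69699 rfl
theorem L603563 : N5664 = N2936 := eqes L603562 L25409
theorem L603564 : N5664 = N2936 := eqc rfl L603563 rfl
theorem L603566 : sm ga N2936 = N7386 := trfs L603564 (flp_a L63354) rfl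
theorem L603567 : N7386 = N3742 := eqes L603566 (flp_a L32433)
theorem L603568 : N7386 = N3742 := eqc rfl L603567 rfl
theorem L603569 : sm gb N2936 = N8198 := trfs L603564 (flp_b L70329) rfl
theorem L603570 : N8198 = N4236 := eqes L603569 (flp_b L36493)
theorem L603571 : N8198 = N4236 := eqc rfl L603570 rfl
theorem L603576 : sm ge N2936 = N3919 := trfs L603564 L48811 rfl
theorem L603577 : N3919 = N4240 := eqes L603576 (flp_e L36529)
theorem L603578 : N4240 = N3919 := (eqc rfl L603577 rfl).symm
theorem L603584 : sm ga N3919 = N5411 := trfs L603578 (flp_a L46674) rfl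
theorem L603585 : N5411 = N5100 := eqes L603584 (flp_a L43925)
theorem L603586 : N5411 = N5100 := eqc rfl L603585 rfl
theorem L603590 : sm ge N3919 = N2936 := trfs L603578 L36529 rfl
theorem L603595 : sm gg N3919 = N2957 := trfs L603578 L36532 rfl
theorem L603596 : N2957 = N5666 := eqes L603595 (flp_g L48824)
theorem L603597 : N5666 = N2957 := (eqc rfl L603596 rfl).symm
theorem L603600 : sm gh N3919 = N6131 := trfs L603578 L52605 rfl
theorem L603601 : N6131 = N2715 := eqes L603600 (flp_h L33942)
theorem L603602 : N6131 = N2715 := eqc rfl L603601 rfl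
theorem L603611 : sm gf N2715 = N8884 := trfs L603602 (flp_f L75954) rfl
theorem L603612 : N8884 = N1887 := eqes L603611 (flp_f L23646)
theorem L603613 : N8884 = N1887 := eqc rfl L603612 rfl
theorem L603629 : sm gi N1887 = N11676 := trfs L603613 (flp_i L597856) rfl
theorem L603630 : N11676 = N2709 := eqes L603629 (flp_i L23604)
theorem L603631 : N11676 = N2709 := eqc rfl L603630 rfl
theorem L603639 : sm gj N2709 = N8052 := trfs L603631 (flp_j L99887) rfl
theorem L603640 : N8052 = N3872 := eqes L603639 (flp_j L33582)
theorem L603641 : N8052 = N3872 := eqc rfl L603640 rfl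
theorem L603653 : sm gg N3872 = N5563 := trfs L603641 (flp_g L69165) rfl
theorem L603654 : N5563 = N5558 := eqes L603653 (flp_g L47959)
theorem L603655 : N5563 = N5558 := eqc rfl L603654 rfl
theorem L603658 : sm ga N5558 = N7954 := trfs L603655 (flp_a L597730) rfl
theorem L603659 : N7954 = N7297 := eqes L603658 (flp_a L62553)
theorem L603660 : N7954 = N7297 := eqc rfl L603659 rfl
theorem L603661 : sm gb N5558 = N3853 := trfs L603655 L48002 rfl
theorem L603662 : N3853 = N4325 := eqes L603661 (flp_b L597677)
theorem L603663 : N4325 = N3853 := (eqc rfl L603662 rfl).symm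
theorem L603669 : sm gf N5558 = N3851 := trfs L603655 (flp_f L48000) rfl
theorem L603670 : N3851 = N8043 := eqes L603669 L69091
theorem L603671 : N8043 = N3851 := (eqc rfl L603670 rfl).symm
theorem L603674 : sm gi N5558 = N4324 := trfs L603655 (flp_i L597760) rfl
theorem L603675 : N4324 = N3852 := eqes L603674 L47962
theorem L603676 : N4324 = N3852 := eqc rfl L603675 rfl
theorem L603677 : sm ga N3852 = N5495 := trfs L603676 (flp_a L47421) rfl
theorem L603678 : N5495 = N5045 := eqes L603677 (flp_a L43429)
theorem L603679 : N5495 = N5045 := eqc rfl L603678 rfl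
theorem L603680 : sm gb N3852 = N5559 := trfs L603676 L597754 rfl
theorem L603681 : N5559 = N5562 := eqes L603680 (flp_b L47994)
theorem L603682 : N5562 = N5559 := (eqc rfl L603681 rfl).symm
theorem L603688 : sm gf N3852 = N2998 := trfs L603676 L37238 rfl
theorem L603689 : N2998 = N5564 := eqes L603688 L48008
theorem L603690 : N5564 = N2998 := (eqc rfl L603689 rfl).symm
theorem L603693 : sm gh N3852 = N2997 := trfs L603676 (flp_h L37234) rfl
theorem L603694 : N2997 = N5565 := eqes L603693 L48014
theorem L603695 : N5565 = N2997 := (eqc rfl L603694 rfl).symm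
theorem L603696 : sm ga N2997 = N7304 := trfs L603695 (flp_a L62617) rfl
theorem L603697 : N7304 = N3803 := eqes L603696 (flp_a L32979)
theorem L603698 : N7304 = N3803 := eqc rfl L603697 rfl
theorem L603706 : sm gg N2997 = N3879 := trfs L603695 L48018 rfl
theorem L603707 : N3879 = N4239 := eqes L603706 (flp_g L36523)
theorem L603708 : N4239 = N3879 := (eqc rfl L603707 rfl).symm
theorem L603710 : sm gh N2997 = N3852 := trfs L603695 (flp_h L48014) rfl
theorem L603713 : sm ga N3879 = N5410 := trfs L603708 (flp_a L46664) rfl
theorem L603714 : N5410 = N5067 := eqes L603713 (flp_a L43641)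
theorem L603715 : N5410 = N5067 := eqc rfl L603714 rfl
theorem L603722 : sm gg N3879 = N2997 := trfs L603708 L36523 rfl
theorem L603727 : sm gb N5067 = N7829 := trfs L603715 (flp_b L67249) rfl
theorem L603728 : N7829 = N7333 := eqes L603727 (flp_b L62901)
theorem L603729 : N7829 = N7333 := eqc rfl L603728 rfl
theorem L603733 : sm gf N5067 = N3740 := trfs L603715 (flp_f L46662) rfl
theorem L603734 : N3740 = N7337 := eqes L603733 (flp_f L62936)
theorem L603735 : N7337 = N3740 := (eqc rfl L603734 rfl).symm
theorem L603741 : sm gh N5067 = N7837 := trfs L603715 L67322 rfl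
theorem L603742 : N7837 = N3506 := eqes L603741 (flp_h L43639)
theorem L603743 : N7837 = N3506 := eqc rfl L603742 rfl
theorem L603746 : sm gb N3506 = N11365 := trfs L603743 (flp_b L97265) rfl
theorem L603747 : N11365 = N5064 := eqes L603746 (flp_b L43616)
theorem L603748 : N11365 = N5064 := eqc rfl L603747 rfl
theorem L603756 : sm ga N5064 = N15368 := trfs L603748 L594019 rfl
theorem L603757 : N15368 = N7329 := eqes L603756 (flp_a L62867)
theorem L603758 : N15368 = N7329 := eqc rfl L603757 rfl
theorem L603766 : sm gf N5064 = N7831 := trfs L603748 L97268 rfl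
theorem L603767 : N7831 = N7332 := eqes L603766 L62891
theorem L603768 : N7831 = N7332 := eqc rfl L603767 rfl
theorem L603769 : sm gg N5064 = N7948 := trfs L603748 L97270 rfl
theorem L603770 : N7948 = N7301 := eqes L603769 (flp_g L62596)
theorem L603771 : N7948 = N7301 := eqc rfl L603770 rfl
theorem L603776 : sm gi N5064 = N15377 := trfs L603748 L594023 rfl
theorem L603777 : N15377 = N7323 := eqes L603776 (flp_i L62812)
theorem L603778 : N15377 = N7323 := eqc rfl L603777 rfl
theorem L603779 : sm ga N7323 = N10588 := trfs L603778 L130963 rfl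
theorem L603780 : N10588 = N5492 := eqes L603779 L578240
theorem L603781 : N10588 = N5492 := eqc rfl L603780 rfl
theorem L603783 : sm gc N7323 = N20641 := trfs L603778 (flp_c L175447) rfl
theorem L603784 : N20641 = N10619 := eqes L603783 L90746
theorem L603785 : N20641 = N10619 := eqc rfl L603784 rfl
theorem L603790 : sm gf N7323 = N10631 := trfs L603778 L130969 rfl
theorem L603791 : N10631 = N10620 := eqes L603790 L90754
theorem L603792 : N10631 = N10620 := eqc rfl L603791 rfl
theorem L603793 : sm gg N7323 = N10584 := trfs L603778 (flp_g L130961) rfl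
theorem L603794 : N10584 = N10577 := eqes L603793 (flp_g L90345)
theorem L603795 : N10584 = N10577 := eqc rfl L603794 rfl
theorem L603796 : sm gj N7323 = N22371 := trfs L603778 L190030 rfl
theorem L603797 : N22371 = N5086 := eqes L603796 L62810
theorem L603798 : N22371 = N5086 := eqc rfl L603797 rfl
theorem L603809 : sm gf N5086 = N15448 := trfs L603798 L190037 rfl
theorem L603810 : N15448 = N7366 := eqes L603809 L63192
theorem L603811 : N15448 = N7366 := eqc rfl L603810 rfl
theorem L603819 : sm gc N7366 = N20695 := trfs L603811 (flp_c L175936) rfl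
theorem L603820 : N20695 = N10683 := eqes L603819 (flp_c L91312)
theorem L603821 : N20695 = N10683 := eqc rfl L603820 rfl
theorem L603825 : sm ge N7366 = N10761 := trfs L603811 L131635 rfl
theorem L603826 : N10761 = N10685 := eqes L603825 L91323
theorem L603827 : N10761 = N10685 := eqc rfl L603826 rfl
theorem L603828 : sm gg N7366 = N10702 := trfs L603811 L131638 rfl
theorem L603829 : N10702 = N10686 := eqes L603828 L91332
theorem L603830 : N10702 = N10686 := eqc rfl L603829 rfl
theorem L603833 : sm gi N7366 = N11366 := trfs L603811 (flp_i L594011) rfl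
theorem L603834 : N11366 = N5095 := eqes L603833 L63198
theorem L603835 : N11366 = N5095 := eqc rfl L603834 rfl
theorem L603844 : sm ge N5095 = N7834 := trfs L603835 L97276 rfl
theorem L603845 : N7834 = N7380 := eqes L603844 L63307
theorem L603846 : N7834 = N7380 := eqc rfl L603845 rfl
theorem L603848 : sm gg N5095 = N7878 := trfs L603835 L97278 rfl
theorem L603849 : N7878 = N7381 := eqes L603848 L63314
theorem L603850 : N7878 = N7381 := eqc rfl L603849 rfl
theorem L603852 : sm gh N5095 = N7830 := trfs L603835 (flp_h L97272) rfl
theorem L603853 : N7830 = N7382 := eqes L603852 L63321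
theorem L603854 : N7830 = N7382 := eqc rfl L603853 rfl
theorem L603857 : sm gc N7382 = N11352 := trfs L603854 (flp_c L97155) rfl
theorem L603858 : N11352 = N10705 := eqes L603857 (flp_c L91492)
theorem L603859 : N11352 = N10705 := eqc rfl L603858 rfl
theorem L603861 : sm ge N7382 = N5407 := trfs L603854 L67261 rfl
theorem L603862 : N5407 = N10709 := eqes L603861 (flp_e L91520)
theorem L603863 : N10709 = N5407 := (eqc rfl L603862 rfl).symm
theorem L603867 : sm gg N7382 = N5438 := trfs L603854 L67264 rfl
theorem L603868 : N5438 = N10711 := eqes L603867 (flp_g L91535)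
theorem L603869 : N10711 = N5438 := (eqc rfl L603868 rfl).symm
theorem L603870 : sm gj N7382 = N5405 := trfs L603854 (flp_j L67256) rfl
theorem L603871 : N5405 = N10636 := eqes L603870 (flp_j L90903)
theorem L603872 : N10636 = N5405 := (eqc rfl L603871 rfl).symm
theorem L603874 : sm ga N5405 = N15446 := trfs L603872 (flp_a L131610) rfl
theorem L603875 : N15446 = N7815 := eqes L603874 (flp_a L67117)
theorem L603876 : N15446 = N7815 := eqc rfl L603875 rfl
theorem L603878 : sm gc N5405 = N15451 := trfs L603872 (flp_c L131656) rfl
theorem L603879 : N15451 = N7821 := eqes L603878 (flp_c L67181)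
theorem L603880 : N15451 = N7821 := eqc rfl L603879 rfl
theorem L603887 : sm gg N5405 = N15457 := trfs L603872 (flp_g L131705) rfl
theorem L603888 : N15457 = N3735 := eqes L603887 (flp_g L46618)
theorem L603889 : N15457 = N3735 := eqc rfl L603888 rfl
theorem L603890 : sm gj N5405 = N7382 := trfs L603872 L90903 rfl
theorem L603912 : sm gh N3735 = N10635 := trfs L603889 (flp_h L131701) rfl
theorem L603913 : N10635 = N5406 := eqes L603912 L46626
theorem L603914 : N10635 = N5406 := eqc rfl L603913 rfl
theorem L603918 : sm gc N5406 = N15450 := trfs L603914 (flp_c L131651) rfl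
theorem L603919 : N15450 = N7822 := eqes L603918 (flp_c L67189)
theorem L603920 : N15450 = N7822 := eqc rfl L603919 rfl
theorem L603934 : sm gi N5406 = N15432 := trfs L603914 (flp_i L131485) rfl
theorem L603935 : N15432 = N7330 := eqes L603934 (flp_i L594091)
theorem L603936 : N15432 = N7330 := eqc rfl L603935 rfl
theorem L603944 : sm gd N7330 = N10622 := trfs L603936 L131483 rfl
theorem L603945 : N10622 = N10629 := eqes L603944 (flp_d L90844)
theorem L603946 : N10629 = N10622 := (eqc rfl L603945 rfl).symm
theorem L603955 : sm gj N7330 = N22457 := trfs L603936 L190831 rfl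
theorem L603956 : N22457 = N5093 := eqes L603955 L62880
theorem L603957 : N22457 = N5093 := eqc rfl L603956 rfl
theorem L603971 : sm gg N5093 = N15534 := trfs L603957 L190839 rfl
theorem L603972 : N15534 = N7377 := eqes L603971 L63285
theorem L603973 : N15534 = N7377 := eqc rfl L603972 rfl
theorem L603983 : sm gd N7377 = N10689 := trfs L603973 L132365 rfl
theorem L603984 : N10689 = N10699 := eqes L603983 (flp_d L91446)
theorem L603985 : N10699 = N10689 := (eqc rfl L603984 rfl).symm
theorem L603993 : sm gi N7377 = N10710 := trfs L603973 L132368 rfl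
theorem L603994 : N10710 = N5439 := eqes L603993 (flp_i L593918)
theorem L603995 : N10710 = N5439 := eqc rfl L603994 rfl
theorem L604000 : sm gc N5439 = N15559 := trfs L603995 (flp_c L132574) rfl
theorem L604001 : N15559 = N7867 := eqes L604000 (flp_c L67606)
theorem L604002 : N15559 = N7867 := eqc rfl L604001 rfl
theorem L604003 : sm gd N5439 = N7384 := trfs L603995 L91527 rfl
theorem L604004 : N7384 = N7879 := eqes L604003 L67693
theorem L604005 : N7879 = N7384 := (eqc rfl L604004 rfl).symm
theorem L604013 : sm gh N5439 = N15570 := trfs L603995 L132650 rfl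
theorem L604014 : N15570 = N3758 := eqes L604013 (flp_h L46923)
theorem L604015 : N15570 = N3758 := eqc rfl L604014 rfl
theorem L604024 : sm ge N3758 = N22657 := trfs L604015 (flp_e L192532) rfl
theorem L604025 : N22657 = N2602 := eqes L604024 L32580
theorem L604026 : N22657 = N2602 := eqc rfl L604025 rfl
theorem L604049 : sm gj N2602 = N15567 := trfs L604026 L192534 rfl
theorem L604050 : N15567 = N3760 := eqes L604049 L32592
theorem L604051 : N15567 = N3760 := eqc rfl L604050 rfl
theorem L604071 : sm gh N3760 = N10708 := trfs L604051 (flp_h L132627) rfl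
theorem L604072 : N10708 = N5442 := eqes L604071 L46948
theorem L604073 : N10708 = N5442 := eqc rfl L604072 rfl
theorem L604077 : sm gc N5442 = N15557 := trfs L604073 (flp_c L132559) rfl
theorem L604078 : N15557 = N7870 := eqes L604077 (flp_c L67631)
theorem L604079 : N15557 = N7870 := eqc rfl L604078 rfl
theorem L604080 : sm gd N5442 = N7476 := trfs L604073 L91512 rfl
theorem L604081 : N7476 = N7667 := eqes L604080 (flp_d L65852)
theorem L604082 : N7667 = N7476 := (eqc rfl L604081 rfl).symm
theorem L604091 : sm gi N5442 = N15532 := trfs L604073 (flp_i L132352) rfl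
theorem L604092 : N15532 = N7470 := eqes L604091 (flp_i L594641)
theorem L604093 : N15532 = N7470 := eqc rfl L604092 rfl
theorem L604099 : sm gd N7470 = N10819 := trfs L604093 L132348 rfl
theorem L604100 : N10819 = N10840 := eqes L604099 (flp_d L92726)
theorem L604101 : N10840 = N10819 := (eqc rfl L604100 rfl).symm
theorem L604104 : sm gf N7470 = N22604 := trfs L604093 L192097 rfl
theorem L604105 : N22604 = N5209 := eqes L604104 L64136
theorem L604106 : N22604 = N5209 := eqc rfl L604105 rfl
theorem L604120 : sm gd N5209 = N15730 := trfs L604106 L192101 rfl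
theorem L604121 : N15730 = N7549 := eqes L604120 (flp_d L64824)
theorem L604122 : N15730 = N7549 := eqc rfl L604121 rfl
theorem L604125 : sm gj N5209 = N32937 := trfs L604106 L279213 rfl
theorem L604126 : N32937 = N3600 := eqes L604125 (flp_j L44903)
theorem L604127 : N32937 = N3600 := eqc rfl L604126 rfl
theorem L604142 : sm gi N3600 = N22655 := trfs L604127 L279222 rfl
theorem L604143 : N22655 = N2623 := eqes L604142 (flp_i L580509)
theorem L604144 : N22655 = N2623 := eqc rfl L604143 rfl
theorem L604159 : sm gg N2623 = N33012 := trfs L604144 L279814 rfl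
theorem L604160 : N33012 = N1819 := eqes L604159 L22863
theorem L604161 : N33012 = N1819 := eqc rfl L604160 rfl
theorem L604167 : sm gd N1819 = N22978 := trfs L604161 L279818 rfl
theorem L604168 : N22978 = N2551 := eqes L604167 (flp_d L22220)
theorem L604169 : N22978 = N2551 := eqc rfl L604168 rfl
theorem L604192 : sm gi N2551 = N33381 := trfs L604169 (flp_i L283176) rfl
theorem L604193 : N33381 = N3598 := eqes L604192 L580479
theorem L604194 : N33381 = N3598 := eqc rfl L604193 rfl
theorem L604206 : sm gh N3598 = N23540 := trfs L604194 L532068 rfl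
theorem L604207 : N23540 = N5207 := eqes L604206 L44884
theorem L604208 : N23540 = N5207 := eqc rfl L604207 rfl
theorem L604229 : sm gi N5207 = N34179 := trfs L604208 (flp_i L290041) rfl
theorem L604230 : N34179 = N3666 := eqes L604229 (flp_i L590807)
theorem L604231 : N34179 = N3666 := eqc rfl L604230 rfl
theorem L604242 : sm gg N3666 = N23442 := trfs L604231 (flp_g L290032) rfl
theorem L604243 : N23442 = N5311 := eqes L604242 (flp_g L45794)
theorem L604244 : N23442 = N5311 := eqc rfl L604243 rfl
theorem L604256 : sm ge N5311 = N16240 := trfs L604244 L199493 rfl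
theorem L604257 : N16240 = N7700 := eqes L604256 (flp_e L66135)
theorem L604258 : N16240 = N7700 := eqc rfl L604257 rfl
theorem L604259 : sm gf N5311 = N16095 := trfs L604244 L199495 rfl
theorem L604260 : N16095 = N7632 := eqes L604259 (flp_f L65566)
theorem L604261 : N16095 = N7632 := eqc rfl L604260 rfl
theorem L604262 : sm gj N5311 = N16094 := trfs L604244 (flp_j L199486) rfl
theorem L604263 : N16094 = N7703 := eqes L604262 (flp_j L66163)
theorem L604264 : N16094 = N7703 := eqc rfl L604263 rfl
theorem L604265 : sm gh N5311 = N33497 := trfs L604244 (flp_h L577861) rfl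
theorem L604266 : N33497 = N3665 := eqes L604265 (flp_h L45790)
theorem L604267 : N33497 = N3665 := eqc rfl L604266 rfl
theorem L604284 : sm gi N3665 = N22979 := trfs L604267 (flp_i L284121) rfl
theorem L604285 : N22979 = N2550 := eqes L604284 L31763
theorem L604286 : N22979 = N2550 := eqc rfl L604285 rfl
theorem L604306 : sm gj N2550 = N15782 := trfs L604286 L195441 rfl
theorem L604307 : N15782 = N3689 := eqes L604306 L31952
theorem L604308 : N15782 = N3689 := eqc rfl L604307 rfl
theorem L604322 : sm ge N3689 = N10981 := trfs L604308 L134592 rfl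
theorem L604323 : N10981 = N5342 := eqes L604322 (flp_e L46046)
theorem L604324 : N10981 = N5342 := eqc rfl L604323 rfl
theorem L604325 : sm gf N3689 = N10854 := trfs L604308 L134594 rfl
theorem L604326 : N10854 = N5285 := eqes L604325 (flp_f L45572)
theorem L604327 : N10854 = N5285 := eqc rfl L604326 rfl
theorem L604329 : sm gh N3689 = N10852 := trfs L604308 (flp_h L134588) rfl
theorem L604330 : N10852 = N5345 := eqes L604329 L46067
theorem L604331 : N10852 = N5345 := eqc rfl L604330 rfl
theorem L604336 : sm gb N5345 = N7481 := trfs L604331 L92824 rfl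
theorem L604337 : N7481 = N3696 := eqes L604336 L46069
theorem L604338 : N7481 = N3696 := eqc rfl L604337 rfl
theorem L604339 : sm gc N5345 = N15768 := trfs L604331 (flp_c L134477) rfl
theorem L604340 : N15768 = N7740 := eqes L604339 (flp_c L66471)
theorem L604341 : N15768 = N7740 := eqc rfl L604340 rfl
theorem L604343 : sm ge N5345 = N7561 := trfs L604331 L92826 rfl
theorem L604344 : N7561 = N7750 := eqes L604343 (flp_e L66541)
theorem L604345 : N7750 = N7561 := (eqc rfl L604344 rfl).symm
theorem L604351 : sm ga N7561 = N10930 := trfs L604345 L590665 rfl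
theorem L604352 : N10930 = N10958 := eqes L604351 (flp_a L93749)
theorem L604353 : N10958 = N10930 := (eqc rfl L604352 rfl).symm
theorem L604354 : sm gb N7561 = N5349 := trfs L604345 L66539 rfl
theorem L604355 : N5349 = N5220 := eqes L604354 L64920
theorem L604356 : N5349 = N5220 := eqc rfl L604355 rfl
theorem L604357 : sm gc N7561 = N11239 := trfs L604345 (flp_c L96172) rfl
theorem L604358 : N11239 = N10967 := eqes L604357 (flp_c L93832)
theorem L604359 : N11239 = N10967 := eqc rfl L604358 rfl
theorem L604361 : sm ge N7561 = N5345 := trfs L604345 L66541 rfl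
theorem L604367 : sm gj N7561 = N5343 := trfs L604345 L66544 rfl
theorem L604368 : N5343 = N10980 := eqes L604367 L93932
theorem L604369 : N10980 = N5343 := (eqc rfl L604368 rfl).symm
theorem L604372 : sm gi N7561 = N10959 := trfs L604345 (flp_i L590694) rfl
theorem L604373 : N10959 = N10929 := eqes L604372 (flp_i L93498)
theorem L604374 : N10959 = N10929 := eqc rfl L604373 rfl
theorem L604375 : sm ga N10929 = N7562 := trfs L604374 L93757 rfl
theorem L604376 : N7562 = N7749 := eqes L604375 (flp_a L590383)
theorem L604377 : N7749 = N7562 := (eqc rfl L604376 rfl).symm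
theorem L604378 : sm gb N10929 = N7756 := trfs L604374 L590689 rfl
theorem L604379 : N7756 = N7533 := eqes L604378 L93495
theorem L604380 : N7756 = N7533 := eqc rfl L604379 rfl
theorem L604381 : sm gc N10929 = N15929 := trfs L604374 (flp_c L135880) rfl
theorem L604382 : N15929 = N15884 := eqes L604381 (flp_c L135489)
theorem L604383 : N15929 = N15884 := eqc rfl L604382 rfl
theorem L604391 : sm gj N10929 = N7547 := trfs L604374 (flp_j L93755) rfl
theorem L604392 : N7547 = N15897 := eqes L604391 L135593
theorem L604393 : N15897 = N7547 := (eqc rfl L604392 rfl).symm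
theorem L604394 : sm gh N10929 = N15943 := trfs L604374 L135991 rfl
theorem L604395 : N15943 = N7727 := eqes L604394 (flp_h L590263)
theorem L604396 : N15943 = N7727 := eqc rfl L604395 rfl
theorem L604397 : sm ga N7727 = N10982 := trfs L604396 L135993 rfl
theorem L604398 : N10982 = N5341 := eqes L604397 L66363
theorem L604399 : N10982 = N5341 := eqc rfl L604398 rfl
theorem L604400 : sm gb N7727 = N11197 := trfs L604396 L590182 rfl
theorem L604401 : N11197 = N6020 := eqes L604400 L66365
theorem L604402 : N11197 = N6020 := eqc rfl L604401 rfl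
theorem L604403 : sm gc N7727 = N23201 := trfs L604396 (flp_c L197363) rfl
theorem L604404 : N23201 = N11214 := eqes L604403 (flp_c L95963)
theorem L604405 : N23201 = N11214 := eqc rfl L604404 rfl
theorem L604409 : sm ge N7727 = N10963 := trfs L604396 L135997 rfl
theorem L604410 : N10963 = N11107 := eqes L604409 (flp_e L95076)
theorem L604411 : N11107 = N10963 := (eqc rfl L604410 rfl).symm
theorem L604416 : sm gj N7727 = N10960 := trfs L604396 L136000 rfl
theorem L604417 : N10960 = N11227 := eqes L604416 L96070
theorem L604418 : N11227 = N10960 := (eqc rfl L604417 rfl).symm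
theorem L604419 : sm gi N7727 = N11186 := trfs L604396 L590188 rfl
theorem L604420 : N11186 = N11162 := eqes L604419 (flp_i L95531)
theorem L604421 : N11186 = N11162 := eqc rfl L604420 rfl
theorem L604422 : sm ga N11162 = N15977 := trfs L604421 (flp_a L559585) rfl
theorem L604423 : N15977 = N7698 := eqes L604422 L95525
theorem L604424 : N15977 = N7698 := eqc rfl L604423 rfl
theorem L604425 : sm gb N11162 = N7707 := trfs L604421 L95722 rfl
theorem L604426 : N7707 = N8674 := eqes L604425 L95527
theorem L604427 : N8674 = N7707 := (eqc rfl L604426 rfl).symm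
theorem L604428 : sm gc N11162 = N16255 := trfs L604421 (flp_c L138694) rfl
theorem L604429 : N16255 = N16227 := eqes L604428 (flp_c L138441)
theorem L604430 : N16255 = N16227 := eqc rfl L604429 rfl
theorem L604431 : sm gd N11162 = N16275 := trfs L604421 L138832 rfl
theorem L604432 : N16275 = N7768 := eqes L604431 L95529
theorem L604433 : N16275 = N7768 := eqc rfl L604432 rfl
theorem L604442 : sm gh N11162 = N7699 := trfs L604421 (flp_h L95720) rfl
theorem L604443 : N7699 = N15975 := eqes L604442 (flp_h L590305)
theorem L604444 : N15975 = N7699 := (eqc rfl L604443 rfl).symm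
theorem L604445 : sm ga N7699 = N11185 := trfs L604444 L590300 rfl
theorem L604446 : N11185 = N11163 := eqes L604445 (flp_a L95536)
theorem L604447 : N11185 = N11163 := eqc rfl L604446 rfl
theorem L604448 : sm gb N7699 = N10991 := trfs L604444 L136260 rfl
theorem L604449 : N10991 = N5314 := eqes L604448 L66122
theorem L604450 : N10991 = N5314 := eqc rfl L604449 rfl
theorem L604451 : sm gc N7699 = N23178 := trfs L604444 (flp_c L590355) rfl
theorem L604452 : N23178 = N11172 := eqes L604451 (flp_c L95624)
theorem L604453 : N23178 = N11172 := eqc rfl L604452 rfl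
theorem L604458 : sm gf N7699 = N10984 := trfs L604444 L136262 rfl
theorem L604459 : N10984 = N11184 := eqes L604458 (flp_f L95709)
theorem L604460 : N11184 = N10984 := (eqc rfl L604459 rfl).symm
theorem L604463 : sm gh N7699 = N11162 := trfs L604444 L590305 rfl
theorem L604467 : sm gb N10984 = N7705 := trfs L604460 L95705 rfl
theorem L604468 : N7705 = N7572 := eqes L604467 L93965
theorem L604469 : N7705 = N7572 := eqc rfl L604468 rfl
theorem L604470 : sm gc N10984 = N16253 := trfs L604460 (flp_c L138679) rfl
theorem L604471 : N16253 = N15917 := eqes L604470 (flp_c L551572)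
theorem L604472 : N16253 = N15917 := eqc rfl L604471 rfl
theorem L604473 : sm gd N10984 = N7783 := trfs L604460 L95707 rfl
theorem L604474 : N7783 = N15979 := eqes L604473 (flp_d L136294)
theorem L604475 : N15979 = N7783 := (eqc rfl L604474 rfl).symm
theorem L604477 : sm gf N10984 = N7699 := trfs L604460 L95709 rfl
theorem L604485 : sm gi N10984 = N7748 := trfs L604460 L95711 rfl
theorem L604486 : N7748 = N7563 := eqes L604485 (flp_i L93963)
theorem L604487 : N7748 = N7563 := eqc rfl L604486 rfl
theorem L604489 : sm gb N7563 = N5347 := trfs L604487 L66523 rfl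
theorem L604490 : N5347 = N5222 := eqes L604489 L64934
theorem L604491 : N5347 = N5222 := eqc rfl L604490 rfl
theorem L604492 : sm gc N7563 = N11237 := trfs L604487 (flp_c L96159) rfl
theorem L604493 : N11237 = N10969 := eqes L604492 (flp_c L93848)
theorem L604494 : N11237 = N10969 := eqc rfl L604493 rfl
theorem L604495 : sm gd N7563 = N5390 := trfs L604487 L66525 rfl
theorem L604496 : N5390 = N10983 := eqes L604495 L93955
theorem L604497 : N10983 = N5390 := (eqc rfl L604496 rfl).symm
theorem L604503 : sm gg N7563 = N11254 := trfs L604487 L96274 rfl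
theorem L604504 : N11254 = N5216 := eqes L604503 L64938
theorem L604505 : N11254 = N5216 := eqc rfl L604504 rfl
theorem L604522 : sm gh N5216 = N16369 := trfs L604505 L139586 rfl
theorem L604523 : N16369 = N3603 := eqes L604522 (flp_h L44956)
theorem L604524 : N16369 = N3603 := eqc rfl L604523 rfl
theorem L604538 : sm gi N3603 = N23217 := trfs L604524 L590239 rfl
theorem L604539 : N23217 = N5192 := eqes L604538 (flp_i L44758)
theorem L604540 : N23217 = N5192 := eqc rfl L604539 rfl
theorem L604553 : sm gh N5192 = N33853 := trfs L604540 L287183 rfl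
theorem L604554 : N33853 = N3677 := eqes L604553 L589697
theorem L604555 : N33853 = N3677 := eqc rfl L604554 rfl
theorem L604565 : sm gi N3677 = N23704 := trfs L604555 L456905 rfl
theorem L604566 : N23704 = N5298 := eqes L604565 (flp_i L45682)
theorem L604567 : N23704 = N5298 := eqc rfl L604566 rfl
theorem L604577 : sm gd N5298 = N34563 := trfs L604567 L293053 rfl
theorem L604578 : N34563 = N3701 := eqes L604577 L45684
theorem L604579 : N34563 = N3701 := eqc rfl L604578 rfl
theorem L604599 : sm gh N3701 = N23918 := trfs L604579 L293061 rfl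
theorem L604600 : N23918 = N5359 := eqes L604599 L46196
theorem L604601 : N23918 = N5359 := eqc rfl L604600 rfl
theorem L604618 : sm gg N5359 = N16429 := trfs L604601 L203344 rfl
theorem L604619 : N16429 = N7770 := eqes L604618 (flp_g L66736)
theorem L604620 : N16429 = N7770 := eqc rfl L604619 rfl
theorem L604626 : sm gb N7770 = N11305 := trfs L604620 L140105 rfl
theorem L604627 : N11305 = N6063 := eqes L604626 L66732
theorem L604628 : N11305 = N6063 := eqc rfl L604627 rfl
theorem L604632 : sm gd N7770 = N11299 := trfs L604620 (flp_d L140103) rfl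
theorem L604633 : N11299 = N11281 := eqes L604632 L96530
theorem L604634 : N11299 = N11281 := eqc rfl L604633 rfl
theorem L604638 : sm gf N7770 = N11301 := trfs L604620 L140107 rfl
theorem L604639 : N11301 = N11279 := eqes L604638 (flp_f L96514)
theorem L604640 : N11301 = N11279 := eqc rfl L604639 rfl
theorem L604641 : sm gj N7770 = N11300 := trfs L604620 L140109 rfl
theorem L604642 : N11300 = N11280 := eqes L604641 (flp_j L96527)
theorem L604643 : N11300 = N11280 := eqc rfl L604642 rfl
theorem L604649 : sm gb N11280 = N7790 := trfs L604643 L96686 rfl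
theorem L604650 : N7790 = N8792 := eqes L604649 L96522
theorem L604651 : N8792 = N7790 := (eqc rfl L604650 rfl).symm
theorem L604652 : sm gc N11280 = N16430 := trfs L604643 L140112 rfl
theorem L604653 : N16430 = N14033 := eqes L604652 L580291
theorem L604654 : N16430 = N14033 := eqc rfl L604653 rfl
theorem L604655 : sm gd N11280 = N7784 := trfs L604643 (flp_d L96684) rfl
theorem L604656 : N7784 = N16403 := eqes L604655 L139902
theorem L604657 : N16403 = N7784 := (eqc rfl L604656 rfl).symm
theorem L604661 : sm gf N11280 = N7786 := trfs L604643 L96688 rfl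
theorem L604662 : N7786 = N16401 := eqes L604661 (flp_f L139887)
theorem L604663 : N16401 = N7786 := (eqc rfl L604662 rfl).symm
theorem L604665 : sm gh N11280 = N16273 := trfs L604643 (flp_h L138821) rfl
theorem L604666 : N16273 = N7769 := eqes L604665 (flp_h L96518)
theorem L604667 : N16273 = N7769 := eqc rfl L604666 rfl
theorem L604670 : sm gb N7769 = N11194 := trfs L604667 L138816 rfl
theorem L604671 : N11194 = N6062 := eqes L604670 L66721
theorem L604672 : N11194 = N6062 := eqc rfl L604671 rfl
theorem L604673 : sm gc N7769 = N23707 := trfs L604667 L201608 rfl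
theorem L604674 : N23707 = N11271 := eqes L604673 (flp_c L96436)
theorem L604675 : N23707 = N11271 := eqc rfl L604674 rfl
theorem L604680 : sm gf N7769 = N11187 := trfs L604667 L138818 rfl
theorem L604681 : N11187 = N11278 := eqes L604680 (flp_f L96503)
theorem L604682 : N11278 = N11187 := (eqc rfl L604681 rfl).symm
theorem L604685 : sm gi N7769 = N23219 := trfs L604667 L590293 rfl
theorem L604686 : N23219 = N5385 := eqes L604685 L66725
theorem L604687 : N23219 = N5385 := eqc rfl L604686 rfl
theorem L604703 : sm gf N5385 = N15944 := trfs L604687 L197514 rfl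
theorem L604704 : N15944 = N7801 := eqes L604703 (flp_f L67001)
theorem L604705 : N15944 = N7801 := eqc rfl L604704 rfl
theorem L604707 : sm gj N5385 = N33854 := trfs L604687 (flp_j L287201) rfl
theorem L604708 : N33854 = N3721 := eqes L604707 (flp_j L46434)
theorem L604709 : N33854 = N3721 := eqc rfl L604708 rfl
theorem L604714 : sm gb N3721 = N23720 := trfs L604709 L590195 rfl
theorem L604715 : N23720 = N2915 := eqes L604714 L32246
theorem L604716 : N23720 = N2915 := eqc rfl L604715 rfl
theorem L604741 : sm gi N2915 = N16282 := trfs L604716 (flp_i L201727) rfl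
theorem L604742 : N16282 = N4187 := eqes L604741 (flp_i L36073)
theorem L604743 : N16282 = N4187 := eqc rfl L604742 rfl
theorem L604751 : sm gd N4187 = N11193 := trfs L604743 (flp_d L138895) rfl
theorem L604752 : N11193 = N5977 := eqes L604751 (flp_d L51334)
theorem L604753 : N11193 = N5977 := eqc rfl L604752 rfl
theorem L604757 : sm gf N4187 = N11196 := trfs L604743 L138899 rfl
theorem L604758 : N11196 = N6061 := eqes L604757 L52005
theorem L604759 : N11196 = N6061 := eqc rfl L604758 rfl
theorem L604763 : sm ga N6061 = N8708 := trfs L604759 L95813 rfl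
theorem L604764 : N8708 = N4198 := eqes L604763 L52007
theorem L604765 : N8708 = N4198 := eqc rfl L604764 rfl
theorem L604767 : sm gc N6061 = N8829 := trfs L604759 (flp_c L560634) rfl
theorem L604768 : N8829 = N8782 := eqes L604767 (flp_c L75070)
theorem L604769 : N8829 = N8782 := eqc rfl L604768 rfl
theorem L604774 : sm gj N6061 = N7708 := trfs L604759 L95816 rfl
theorem L604775 : N7708 = N8790 := eqes L604774 L75143
theorem L604776 : N8790 = N7708 := (eqc rfl L604775 rfl).symm
theorem L604777 : sm gh N6061 = N7791 := trfs L604759 L95819 rfl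
theorem L604778 : N7791 = N8791 := eqes L604777 L75152
theorem L604779 : N8791 = N7791 := (eqc rfl L604778 rfl).symm
theorem L604781 : sm ga N7791 = N6077 := trfs L604779 L75154 rfl
theorem L604782 : N6077 = N6084 := eqes L604781 L66912
theorem L604783 : N6084 = N6077 := (eqc rfl L604782 rfl).symm
theorem L604786 : sm gc N7791 = N12755 := trfs L604779 (flp_c L108674) rfl
theorem L604787 : N12755 = N11308 := eqes L604786 L96752
theorem L604788 : N12755 = N11308 := eqc rfl L604787 rfl
theorem L604796 : sm gj N7791 = N12765 := trfs L604779 (flp_j L108772) rfl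
theorem L604797 : N12765 = N5377 := eqes L604796 L66915
theorem L604798 : N12765 = N5377 := eqc rfl L604797 rfl
theorem L604799 : sm gh N7791 = N6061 := trfs L604779 (flp_h L75152) rfl
theorem L604802 : sm ga N5377 = N8811 := trfs L604798 L108767 rfl
theorem L604803 : N8811 = N4206 := eqes L604802 L46367
theorem L604804 : N8811 = N4206 := eqc rfl L604803 rfl
theorem L604814 : sm gg N5377 = N18569 := trfs L604798 (flp_g L157753) rfl
theorem L604815 : N18569 = N3716 := eqes L604814 L46369
theorem L604816 : N18569 = N3716 := eqc rfl L604815 rfl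
theorem L604834 : sm gh N3716 = N12764 := trfs L604816 (flp_h L157747) rfl
theorem L604835 : N12764 = N5316 := eqes L604834 (flp_h L45842)
theorem L604836 : N12764 = N5316 := eqc rfl L604835 rfl
theorem L604854 : sm gi N5316 = N8833 := trfs L604836 L108761 rfl
theorem L604855 : N8833 = N7711 := eqes L604854 L66229
theorem L604856 : N8833 = N7711 := eqc rfl L604855 rfl
theorem L604857 : sm ga N7711 = N6100 := trfs L604856 L75495 rfl
theorem L604858 : N6100 = N5857 := eqes L604857 (flp_a L560732)
theorem L604859 : N6100 = N5857 := eqc rfl L604858 rfl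
theorem L604871 : sm gg N7711 = N6094 := trfs L604856 (flp_g L75493) rfl
theorem L604872 : N6094 = N11199 := eqes L604871 (flp_g L95848)
theorem L604873 : N11199 = N6094 := (eqc rfl L604872 rfl).symm
theorem L604876 : sm ga N6094 = N8495 := trfs L604873 (flp_a L560749) rfl
theorem L604877 : N8495 = N4219 := eqes L604876 L52279
theorem L604878 : N8495 = N4219 := eqc rfl L604877 rfl
theorem L604880 : sm gc N6094 = N8780 := trfs L604873 (flp_c L560757) rfl
theorem L604881 : N8780 = N8832 := eqes L604880 (flp_c L75487)
theorem L604882 : N8832 = N8780 := (eqc rfl L604881 rfl).symm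
theorem L604883 : sm gd N6094 = N7709 := trfs L604873 L95845 rfl
theorem L604884 : N7709 = N8739 := eqes L604883 (flp_d L74726)
theorem L604885 : N8739 = N7709 := (eqc rfl L604884 rfl).symm
theorem L604888 : sm gg N6094 = N7711 := trfs L604873 L95848 rfl
theorem L604894 : sm ga N7709 = N6041 := trfs L604885 L74724 rfl
theorem L604895 : N6041 = N5856 := eqes L604894 L587575
theorem L604896 : N6041 = N5856 := eqc rfl L604895 rfl
theorem L604899 : sm gd N7709 = N6094 := trfs L604885 L74726 rfl
theorem L604904 : sm gf N7709 = N6021 := trfs L604885 L74728 rfl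
theorem L604905 : N6021 = N11195 := eqes L604904 (flp_f L95806)
theorem L604906 : N11195 = N6021 := (eqc rfl L604905 rfl).symm
theorem L604910 : sm gh N7709 = N10936 := trfs L604885 L590133 rfl
theorem L604911 : N10936 = N5350 := eqes L604910 L66218
theorem L604912 : N10936 = N5350 := eqc rfl L604911 rfl
theorem L604913 : sm gi N7709 = N12604 := trfs L604885 (flp_i L107466) rfl
theorem L604914 : N12604 = N5315 := eqes L604913 (flp_i L66210)
theorem L604915 : N12604 = N5315 := eqc rfl L604914 rfl
theorem L604916 : sm ga N5315 = N8696 := trfs L604915 L107460 rfl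
theorem L604917 : N8696 = N4144 := eqes L604916 L45829
theorem L604918 : N8696 = N4144 := eqc rfl L604917 rfl
theorem L604928 : sm gh N5315 = N15984 := trfs L604915 L590025 rfl
theorem L604929 : N15984 = N3669 := eqes L604928 (flp_h L45827)
theorem L604930 : N15984 = N3669 := eqc rfl L604929 rfl
theorem L604949 : sm gi N3669 = N10989 := trfs L604930 (flp_i L136335) rfl
theorem L604950 : N10989 = N2554 := eqes L604949 L31800
theorem L604951 : N10989 = N2554 := eqc rfl L604950 rfl
theorem L604963 : sm gf N2554 = N7570 := trfs L604951 L94010 rfl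
theorem L604964 : N7570 = N3692 := eqes L604963 L31976
theorem L604965 : N7570 = N3692 := eqc rfl L604964 rfl
theorem L604972 : sm gh N2554 = N7568 := trfs L604951 (flp_h L94004) rfl
theorem L604973 : N7568 = N3694 := eqes L604972 L31992
theorem L604974 : N7568 = N3694 := eqc rfl L604973 rfl
theorem L604975 : sm ga N3694 = N5861 := trfs L604974 L64973 rfl
theorem L604976 : N5861 = N2888 := eqes L604975 L31994
theorem L604977 : N5861 = N2888 := eqc rfl L604976 rfl
theorem L604984 : sm gf N3694 = N5221 := trfs L604974 L64978 rfl
theorem L604985 : N5221 = N5348 := eqes L604984 (flp_f L46096)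
theorem L604986 : N5348 = N5221 := (eqc rfl L604985 rfl).symm
theorem L604987 : sm gg N3694 = N10988 := trfs L604974 L93995 rfl
theorem L604988 : N10988 = N2555 := eqes L604987 L31998
theorem L604989 : N10988 = N2555 := eqc rfl L604988 rfl
theorem L605003 : sm gi N2555 = N15905 := trfs L604989 (flp_i L135664) rfl
theorem L605004 : N15905 = N3695 := eqes L605003 L32001
theorem L605005 : N15905 = N3695 := eqc rfl L605004 rfl
theorem L605010 : sm gc N3695 = N11192 := trfs L605005 L135661 rfl
theorem L605011 : N11192 = N5224 := eqes L605010 (flp_c L45027)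
theorem L605012 : N11192 = N5224 := eqc rfl L605011 rfl
theorem L605023 : sm gd N5224 = N7788 := trfs L605012 L95779 rfl
theorem L605024 : N7788 = N7573 := eqes L605023 (flp_d L65024)
theorem L605025 : N7788 = N7573 := eqc rfl L605024 rfl
theorem L605043 : sm ga N7573 = N6081 := trfs L605025 L66883 rfl
theorem L605044 : N6081 = N5845 := eqes L605043 (flp_a L587724)
theorem L605045 : N6081 = N5845 := eqc rfl L605044 rfl
theorem L605052 : sm gg N7573 = N5374 := trfs L605025 (flp_g L66881) rfl
theorem L605053 : N5374 = N10994 := eqes L605052 (flp_g L94061)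
theorem L605054 : N10994 = N5374 := (eqc rfl L605053 rfl).symm
theorem L605056 : sm gh N7573 = N11304 := trfs L605025 L96715 rfl
theorem L605057 : N11304 = N6064 := eqes L605056 L589758
theorem L605058 : N11304 = N6064 := eqc rfl L605057 rfl
theorem L605059 : sm gi N7573 = N5391 := trfs L605025 L66887 rfl
theorem L605060 : N5391 = N5223 := eqes L605059 (flp_i L65019)
theorem L605061 : N5391 = N5223 := eqc rfl L605060 rfl
theorem L605062 : sm ga N5223 = N4220 := trfs L605061 L46482 rfl
theorem L605063 : N4220 = N4052 := eqes L605062 L45016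
theorem L605064 : N4220 = N4052 := eqc rfl L605063 rfl
theorem L605070 : sm gg N5223 = N3728 := trfs L605061 (flp_g L46480) rfl
theorem L605071 : N3728 = N7571 := eqes L605070 (flp_g L65004)
theorem L605072 : N7571 = N3728 := (eqc rfl L605071 rfl).symm
theorem L605086 : sm gg N3728 = N5223 := trfs L605072 L65004 rfl
theorem L605088 : sm gj N3728 = N10992 := trfs L605072 (flp_j L94037) rfl
theorem L605089 : N10992 = N2582 := eqes L605088 (flp_j L32298)
theorem L605090 : N10992 = N2582 := eqc rfl L605089 rfl
theorem L605105 : sm gi N2582 = N15987 := trfs L605090 L136363 rfl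
theorem L605106 : N15987 = N3713 := eqes L605105 (flp_i L32173)
theorem L605107 : N15987 = N3713 := eqc rfl L605106 rfl
theorem L605120 : sm gh N3713 = N12767 := trfs L605107 (flp_h L579701) rfl
theorem L605121 : N12767 = N5375 := eqes L605120 L46344
theorem L605122 : N12767 = N5375 := eqc rfl L605121 rfl
theorem L605123 : sm ga N5375 = N8813 := trfs L605122 L108785 rfl
theorem L605124 : N8813 = N4204 := eqes L605123 L46346
theorem L605125 : N8813 = N4204 := eqc rfl L605124 rfl
theorem L605132 : sm gj N5375 = N8793 := trfs L605122 L108788 rfl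
theorem L605133 : N8793 = N7789 := eqes L605132 (flp_j L66899)
theorem L605134 : N8793 = N7789 := eqc rfl L605133 rfl
theorem L605136 : sm ga N7789 = N6079 := trfs L605134 L75173 rfl
theorem L605137 : N6079 = N6082 := eqes L605136 L66893
theorem L605138 : N6082 = N6079 := (eqc rfl L605137 rfl).symm
theorem L605150 : sm ga N6079 = N7789 := trfs L605138 (flp_a L66893) rfl
theorem L605158 : sm gf N6079 = N4205 := trfs L605138 L52186 rfl
theorem L605159 : N4205 = N8812 := eqes L605158 (flp_f L75334)
theorem L605160 : N8812 = N4205 := (eqc rfl L605159 rfl).symm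
theorem L605166 : sm gh N6079 = N4203 := trfs L605138 (flp_h L52182) rfl
theorem L605167 : N4203 = N8477 := eqes L605166 L579879
theorem L605168 : N8477 = N4203 := (eqc rfl L605167 rfl).symm
theorem L605171 : sm gb N4203 = N6001 := trfs L605168 (flp_b L560585) rfl
theorem L605172 : N6001 = N6076 := eqes L605171 (flp_b L52134)
theorem L605173 : N6076 = N6001 := (eqc rfl L605172 rfl).symm
theorem L605178 : sm gf N4203 = N12313 := trfs L605168 L105075 rfl
theorem L605179 : N12313 = N2908 := eqes L605178 L36215
theorem L605180 : N12313 = N2908 := eqc rfl L605179 rfl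
theorem L605184 : sm gh N4203 = N6079 := trfs L605168 (flp_h L579879) rfl
theorem L605194 : sm gd N2908 = N8479 := trfs L605180 L105080 rfl
theorem L605195 : N8479 = N4143 := eqes L605194 (flp_d L35729)
theorem L605196 : N8479 = N4143 := eqc rfl L605195 rfl
theorem L605205 : sm gi N2908 = N8502 := trfs L605180 (flp_i L587820) rfl
theorem L605206 : N8502 = N2029 := eqes L605205 L25178
theorem L605207 : N8502 = N2029 := eqc rfl L605206 rfl
theorem L605213 : sm gd N2029 = N5862 := trfs L605207 (flp_d L72804) rfl
theorem L605214 : N5862 = N2887 := eqes L605213 (flp_d L24998)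
theorem L605215 : N5862 = N2887 := eqc rfl L605214 rfl
theorem L605221 : sm gj N2029 = N12347 := trfs L605207 (flp_j L105360) rfl
theorem L605222 : N12347 = N1408 := eqes L605221 (flp_j L17641)
theorem L605223 : N12347 = N1408 := eqc rfl L605222 rfl
theorem L605233 : sm gg N1408 = N17964 := trfs L605223 (flp_g L152822) rfl
theorem L605234 : N17964 = N978 := eqes L605233 (flp_g L12307)
theorem L605235 : N17964 = N978 := eqc rfl L605234 rfl
theorem L605254 : sm gi N978 = N26099 := trfs L605235 (flp_i L533922) rfl
theorem L605255 : N26099 = N1397 := eqes L605254 (flp_i L12222)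
theorem L605256 : N26099 = N1397 := eqc rfl L605255 rfl
theorem L605273 : sm gh N1397 = N18608 := trfs L605256 (flp_h L560440) rfl
theorem L605274 : N18608 = N2016 := eqes L605273 L17537
theorem L605275 : N18608 = N2016 := eqc rfl L605274 rfl
theorem L605286 : sm gg N2016 = N12793 := trfs L605275 L158064 rfl
theorem L605287 : N12793 = N2909 := eqes L605286 (flp_g L25186)
theorem L605288 : N12793 = N2909 := eqc rfl L605287 rfl
theorem L605295 : sm ge N2909 = N18610 := trfs L605288 L158075 rfl
theorem L605296 : N18610 = N2018 := eqes L605295 L25184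
theorem L605297 : N18610 = N2018 := eqc rfl L605296 rfl
theorem L605315 : sm gh N2018 = N26097 := trfs L605297 L560444 rfl
theorem L605316 : N26097 = N1398 := eqes L605315 (flp_h L17554)
theorem L605317 : N26097 = N1398 := eqc rfl L605316 rfl
theorem L605326 : sm gd N1398 = N37400 := trfs L605317 (flp_d L316594) rfl
theorem L605327 : N37400 = N971 := eqes L605326 L12228
theorem L605328 : N37400 = N971 := eqc rfl L605327 rfl
theorem L605345 : sm gi N971 = N25707 := trfs L605328 L542070 rfl
theorem L605346 : N25707 = N676 := eqes L605345 L8538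
theorem L605347 : N25707 = N676 := eqc rfl L605346 rfl
theorem L605368 : sm gh N676 = N36689 := trfs L605347 (flp_h L310596) rfl
theorem L605369 : N36689 = N478 := eqes L605368 L5956
theorem L605370 : N36689 = N478 := eqc rfl L605369 rfl
theorem L605376 : sm gj N478 = N25181 := trfs L605370 L310594 rfl
theorem L605377 : N25181 = N695 := eqes L605376 L6101
theorem L605378 : N25181 = N695 := eqc rfl L605377 rfl
theorem L605389 : sm ge N695 = N17303 := trfs L605378 (flp_e L213771) rfl
theorem L605390 : N17303 = N1002 := eqes L605389 (flp_e L8781)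
theorem L605391 : N17303 = N1002 := eqc rfl L605390 rfl
theorem L605413 : sm gh N1002 = N12139 := trfs L605391 L147336 rfl
theorem L605414 : N12139 = N1390 := eqes L605413 (flp_h L12161)
theorem L605415 : N12139 = N1390 := eqc rfl L605414 rfl
theorem L605429 : sm gi N1390 = N17620 := trfs L605415 (flp_i L600117) rfl
theorem L605430 : N17620 = N1988 := eqes L605429 (flp_i L17321)
theorem L605431 : N17620 = N1988 := eqc rfl L605430 rfl
theorem L605441 : sm gf N1988 = N12114 := trfs L605431 (flp_f L150013) rfl
theorem L605442 : N12114 = N2835 := eqes L605441 (flp_f L24608)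
theorem L605443 : N12114 = N2835 := eqc rfl L605442 rfl
theorem L605458 : sm gg N2835 = N8344 := trfs L605443 (flp_g L103466) rfl
theorem L605459 : N8344 = N4066 := eqes L605458 (flp_g L35127)
theorem L605460 : N8344 = N4066 := eqc rfl L605459 rfl
theorem L605464 : sm ga N4066 = N10865 := trfs L605460 L599368 rfl
theorem L605465 : N10865 = N5237 := eqes L605464 (flp_a L45153)
theorem L605466 : N10865 = N5237 := eqc rfl L605465 rfl
theorem L605479 : sm gi N4066 = N5770 := trfs L605460 (flp_i L599396) rfl
theorem L605480 : N5770 = N2824 := eqes L605479 L35125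
theorem L605481 : N5770 = N2824 := eqc rfl L605480 rfl
theorem L605482 : sm ga N2824 = N7484 := trfs L605481 (flp_a L64244) rfl
theorem L605483 : N7484 = N3630 := eqes L605482 (flp_a L31456)
theorem L605484 : N7484 = N3630 := eqc rfl L605483 rfl
theorem L605494 : sm gj N2824 = N8269 := trfs L605481 (flp_j L70935) rfl
theorem L605495 : N8269 = N1958 := eqes L605494 (flp_j L24513)
theorem L605496 : N8269 = N1958 := eqc rfl L605495 rfl
theorem L605508 : sm gg N1958 = N12000 := trfs L605496 (flp_g L102547) rfl
theorem L605509 : N12000 = N1359 := eqes L605508 (flp_g L17081)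
theorem L605510 : N12000 = N1359 := eqc rfl L605509 rfl
theorem L605533 : sm gi N1359 = N17421 := trfs L605510 L599086 rfl
theorem L605534 : N17421 = N1951 := eqes L605533 (flp_i L17028)
theorem L605535 : N17421 = N1951 := eqc rfl L605534 rfl
theorem L605549 : sm gj N1951 = N25357 := trfs L605535 L215347 rfl
theorem L605550 : N25357 = N1364 := eqes L605549 L17025
theorem L605551 : N25357 = N1364 := eqc rfl L605550 rfl
theorem L605564 : sm gf N1364 = N36956 := trfs L605551 (flp_f L312977) rfl
theorem L605565 : N36956 = N947 := eqes L605564 (flp_f L11960)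
theorem L605566 : N36956 = N947 := eqc rfl L605565 rfl
theorem L605576 : sm gi N947 = N25391 := trfs L605566 L587924 rfl
theorem L605577 : N25391 = N657 := eqes L605576 L8348
theorem L605578 : N25391 = N657 := eqc rfl L605577 rfl
theorem L605595 : sm gh N657 = N36232 := trfs L605578 (flp_h L307057) rfl
theorem L605596 : N36232 = N469 := eqes L605595 L5805
theorem L605597 : N36232 = N469 := eqc rfl L605596 rfl
theorem L605604 : sm gj N469 = N24874 := trfs L605597 L307055 rfl
theorem L605605 : N24874 = N679 := eqes L605604 (flp_j L5982)
theorem L605606 : N24874 = N679 := eqc rfl L605605 rfl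
theorem L605620 : sm ge N679 = N36235 := trfs L605606 L307074 rfl
theorem L605621 : N36235 = N466 := eqes L605620 (flp_e L5977)
theorem L605622 : N36235 = N466 := eqc rfl L605621 rfl
theorem L605629 : sm gh N466 = N25394 := trfs L605622 L307077 rfl
theorem L605630 : N25394 = N652 := eqes L605629 (flp_h L5762)
theorem L605631 : N25394 = N652 := eqc rfl L605630 rfl
theorem L605646 : sm gi N652 = N36955 := trfs L605631 (flp_i L599043) rfl
theorem L605647 : N36955 = N941 := eqes L605646 (flp_i L8292)
theorem L605648 : N36955 = N941 := eqc rfl L605647 rfl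
theorem L605649 : sm gb N941 = N26236 := trfs L605648 L596671 rfl
theorem L605650 : N26236 = N1353 := eqes L605649 L11861
theorem L605651 : N26236 = N1353 := eqc rfl L605650 rfl
theorem L605657 : sm ga N1353 = N34005 := trfs L605651 (flp_a L288520) rfl
theorem L605658 : N34005 = N1948 := eqes L605657 L16991
theorem L605659 : N34005 = N1948 := eqc rfl L605658 rfl
theorem L605677 : sm ge N1948 = N23327 := trfs L605659 (flp_e L288518) rfl
theorem L605678 : N23327 = N2807 := eqes L605677 L24368
theorem L605679 : N23327 = N2807 := eqc rfl L605678 rfl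
theorem L605697 : sm gi N2807 = N34006 := trfs L605679 L288526 rfl
theorem L605698 : N34006 = N1953 := eqes L605697 L24377
theorem L605699 : N34006 = N1953 := eqc rfl L605698 rfl
theorem L605703 : sm gf N1953 = N23332 := trfs L605699 L288532 rfl
theorem L605704 : N23332 = N2815 := eqes L605703 L24442
theorem L605705 : N23332 = N2815 := eqc rfl L605704 rfl
theorem L605722 : sm gh N2815 = N34011 := trfs L605705 L288571 rfl
theorem L605723 : N34011 = N2031 := eqes L605722 L24449
theorem L605724 : N34011 = N2031 := eqc rfl L605723 rfl
theorem L605732 : sm gg N2031 = N23335 := trfs L605724 L288576 rfl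
theorem L605733 : N23335 = N2926 := eqes L605732 L25320
theorem L605734 : N23335 = N2926 := eqc rfl L605733 rfl
theorem L605748 : sm gj N2926 = N16134 := trfs L605734 L198544 rfl
theorem L605749 : N16134 = N4228 := eqes L605748 L36418
theorem L605750 : N16134 = N4228 := eqc rfl L605749 rfl
theorem L605766 : sm gh N4228 = N11091 := trfs L605750 (flp_h L137682) rfl
theorem L605767 : N11091 = N5891 := eqes L605766 (flp_h L50667)
theorem L605768 : N11091 = N5891 := eqc rfl L605767 rfl
theorem L605771 : sm gb N5891 = N15762 := trfs L605768 L596840 rfl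
theorem L605772 : N15762 = N7598 := eqes L605771 (flp_b L65270)
theorem L605773 : N15762 = N7598 := eqc rfl L605772 rfl
theorem L605783 : sm gi N5891 = N7637 := trfs L605768 (flp_i L94936) rfl
theorem L605784 : N7637 = N8515 := eqes L605783 (flp_i L72927)
theorem L605785 : N8515 = N7637 := (eqc rfl L605784 rfl).symm
theorem L605788 : sm gb N7637 = N11003 := trfs L605785 (flp_b L94153) rfl
theorem L605789 : N11003 = N11081 := eqes L605788 (flp_b L94849)
theorem L605790 : N11081 = N11003 := (eqc rfl L605789 rfl).symm
theorem L605795 : sm gg N7637 = N5916 := trfs L605785 L72929 rfl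
theorem L605796 : N5916 = N11088 := eqes L605795 (flp_g L94915)
theorem L605797 : N11088 = N5916 := (eqc rfl L605796 rfl).symm
theorem L605798 : sm gj N7637 = N5871 := trfs L605785 (flp_j L72919) rfl
theorem L605799 : N5871 = N11017 := eqes L605798 (flp_j L94283)
theorem L605800 : N11017 = N5871 := (eqc rfl L605799 rfl).symm
theorem L605802 : sm gi N7637 = N5891 := trfs L605785 L72927 rfl
theorem L605811 : sm gd N5871 = N7587 := trfs L605800 (flp_d L94278) rfl
theorem L605812 : N7587 = N8512 := eqes L605811 (flp_d L72894)
theorem L605813 : N8512 = N7587 := (eqc rfl L605812 rfl).symm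
theorem L605817 : sm gj N5871 = N7637 := trfs L605800 L94283 rfl
theorem L605823 : sm gb N7587 = N11000 := trfs L605813 (flp_b L94118) rfl
theorem L605824 : N11000 = N11010 := eqes L605823 (flp_b L94213)
theorem L605825 : N11010 = N11000 := (eqc rfl L605824 rfl).symm
theorem L605826 : sm gc N7587 = N11020 := trfs L605813 (flp_c L600675) rfl
theorem L605827 : N11020 = N5887 := eqes L605826 (flp_c L599296)
theorem L605828 : N11020 = N5887 := eqc rfl L605827 rfl
theorem L605829 : sm gd N7587 = N5871 := trfs L605813 L72894 rfl
theorem L605838 : sm gh N7587 = N10778 := trfs L605813 (flp_h L457799) rfl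
theorem L605839 : N10778 = N5233 := eqes L605838 (flp_h L65158)
theorem L605840 : N10778 = N5233 := eqc rfl L605839 rfl
theorem L605844 : sm gb N5233 = N15659 := trfs L605840 (flp_b L133506) rfl
theorem L605845 : N15659 = N7581 := eqes L605844 (flp_b L65101)
theorem L605846 : N15659 = N7581 := eqc rfl L605845 rfl
theorem L605847 : sm gc N5233 = N7615 := trfs L605840 L92170 rfl
theorem L605848 : N7615 = N7408 := eqes L605847 (flp_c L63568)
theorem L605849 : N7615 = N7408 := eqc rfl L605848 rfl
theorem L605858 : sm gi N5233 = N7427 := trfs L605840 (flp_i L92166) rfl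
theorem L605859 : N7427 = N3626 := eqes L605858 L45118
theorem L605860 : N7427 = N3626 := eqc rfl L605859 rfl
theorem L605862 : sm gb N3626 = N10770 := trfs L605860 (flp_b L92092) rfl
theorem L605863 : N10770 = N5244 := eqes L605862 (flp_b L45220)
theorem L605864 : N10770 = N5244 := eqc rfl L605863 rfl
theorem L605865 : sm gc N3626 = N5252 := trfs L605860 L63748 rfl
theorem L605866 : N5252 = N5124 := eqes L605865 (flp_c L44154)
theorem L605867 : N5252 = N5124 := eqc rfl L605866 rfl
theorem L605876 : sm gh N3626 = N5125 := trfs L605860 (flp_h L63744) rfl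
theorem L605877 : N5125 = N5250 := eqes L605876 L45270
theorem L605878 : N5250 = N5125 := (eqc rfl L605877 rfl).symm
theorem L605880 : sm gb N5125 = N7605 := trfs L605878 (flp_b L65322) rfl
theorem L605881 : N7605 = N7420 := eqes L605880 (flp_b L63683)
theorem L605882 : N7605 = N7420 := eqc rfl L605881 rfl
theorem L605883 : sm gc N5125 = N7425 := trfs L605878 (flp_c L63726) rfl
theorem L605884 : N7425 = N3627 := eqes L605883 L44163
theorem L605885 : N7425 = N3627 := eqc rfl L605884 rfl
theorem L605887 : sm ge N5125 = N3628 := trfs L605878 L45274 rfl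
theorem L605888 : N3628 = N7424 := eqes L605887 (flp_e L63720)
theorem L605889 : N7424 = N3628 := (eqc rfl L605888 rfl).symm
theorem L605894 : sm gh N5125 = N3626 := trfs L605878 (flp_h L45270) rfl
theorem L605898 : sm gb N3628 = N10767 := trfs L605889 (flp_b L92068) rfl
theorem L605899 : N10767 = N5246 := eqes L605898 (flp_b L45235)
theorem L605900 : N10767 = N5246 := eqc rfl L605899 rfl
theorem L605905 : sm ge N3628 = N5125 := trfs L605889 L63720 rfl
theorem L605914 : sm gi N3628 = N10749 := trfs L605889 (flp_i L91897) rfl
theorem L605915 : N10749 = N5253 := eqes L605914 L45297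
theorem L605916 : N10749 = N5253 := eqc rfl L605915 rfl
theorem L605918 : sm gb N5253 = N15620 := trfs L605916 (flp_b L133139) rfl
theorem L605919 : N15620 = N7414 := eqes L605918 (flp_b L594093)
theorem L605920 : N15620 = N7414 := eqc rfl L605919 rfl
theorem L605933 : sm gh N5253 = N8540 := trfs L605916 L589295 rfl
theorem L605934 : N8540 = N7590 := eqes L605933 (flp_h L65195)
theorem L605935 : N8540 = N7590 := eqc rfl L605934 rfl
theorem L605937 : sm gb N7590 = N11028 := trfs L605935 (flp_b L94385) rfl
theorem L605938 : N11028 = N10759 := eqes L605937 (flp_b L591197)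
theorem L605939 : N11028 = N10759 := eqc rfl L605938 rfl
theorem L605949 : sm gj N7590 = N12404 := trfs L605935 L105859 rfl
theorem L605950 : N12404 = N5269 := eqes L605949 L65193
theorem L605951 : N12404 = N5269 := eqc rfl L605950 rfl
theorem L605967 : sm gi N5269 = N17986 := trfs L605951 (flp_i L153027) rfl
theorem L605968 : N17986 = N3639 := eqes L605967 (flp_i L45441)
theorem L605969 : N17986 = N3639 := eqc rfl L605968 rfl
theorem L605984 : sm gh N3639 = N22800 := trfs L605969 L577522 rfl
theorem L605985 : N22800 = N2517 := eqes L605984 (flp_h L31538)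
theorem L605986 : N22800 = N2517 := eqc rfl L605985 rfl
theorem L606001 : sm gi N2517 = N15662 := trfs L605986 (flp_i L193878) rfl
theorem L606002 : N15662 = N1753 := eqes L606001 L21932
theorem L606003 : N15662 = N1753 := eqc rfl L606002 rfl
theorem L606015 : sm gf N1753 = N22796 := trfs L606003 (flp_f L193848) rfl
theorem L606016 : N22796 = N1218 := eqes L606015 (flp_f L15350)
theorem L606017 : N22796 = N1218 := eqc rfl L606016 rfl
theorem L606034 : sm gh N1218 = N15660 := trfs L606017 (flp_h L193841) rfl
theorem L606035 : N15660 = N1754 := eqes L606034 L15356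
theorem L606036 : N15660 = N1754 := eqc rfl L606035 rfl
theorem L606052 : sm gi N1754 = N22743 := trfs L606036 (flp_i L193354) rfl
theorem L606053 : N22743 = N2530 := eqes L606052 L22033
theorem L606054 : N22743 = N2530 := eqc rfl L606053 rfl
theorem L606060 : sm gd N2530 = N32718 := trfs L606054 (flp_d L277339) rfl
theorem L606061 : N32718 = N1810 := eqes L606060 L22037
theorem L606062 : N32718 = N1810 := eqc rfl L606061 rfl
theorem L606103 : sm gj N1810 = N22460 := trfs L606062 (flp_j L277334) rfl
theorem L606104 : N22460 = N2593 := eqes L606103 (flp_j L22600)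
theorem L606105 : N22460 = N2593 := eqc rfl L606104 rfl
theorem L606122 : sm gi N2593 = N15459 := trfs L606105 L190864 rfl
theorem L606123 : N15459 = N1798 := eqes L606122 (flp_i L22592)
theorem L606124 : N15459 = N1798 := eqc rfl L606123 rfl
theorem L606139 : sm gh N1798 = N22496 := trfs L606124 L191179 rfl
theorem L606140 : N22496 = N1250 := eqes L606139 (flp_h L15746)
theorem L606141 : N22496 = N1250 := eqc rfl L606140 rfl
theorem L606155 : sm gj N1250 = N32771 := trfs L606141 (flp_j L277813) rfl
theorem L606156 : N32771 = N872 := eqes L606155 L11009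
theorem L606157 : N32771 = N872 := eqc rfl L606156 rfl
theorem L606161 : sm gf N872 = N22497 := trfs L606157 L277811 rfl
theorem L606162 : N22497 = N1256 := eqes L606161 L11057
theorem L606163 : N22497 = N1256 := eqc rfl L606162 rfl
theorem L606178 : sm gh N1256 = N15460 := trfs L606163 (flp_h L191187) rfl
theorem L606179 : N15460 = N1809 := eqes L606178 L15844
theorem L606180 : N15460 = N1809 := eqc rfl L606179 rfl
theorem L606190 : sm gg N1809 = N10714 := trfs L606180 L131734 rfl
theorem L606191 : N10714 = N2609 := eqes L606190 (flp_g L22743)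
theorem L606192 : N10714 = N2609 := eqc rfl L606191 rfl
theorem L606198 : sm gd N2609 = N7482 := trfs L606192 L91559 rfl
theorem L606199 : N7482 = N3656 := eqes L606198 (flp_d L31685)
theorem L606200 : N7482 = N3656 := eqc rfl L606199 rfl
theorem L606218 : sm gb N3656 = N10853 := trfs L606200 (flp_b L92831) rfl
theorem L606219 : N10853 = N5286 := eqes L606218 (flp_b L45576)
theorem L606220 : N10853 = N5286 := eqc rfl L606219 rfl
theorem L606221 : sm gc N3656 = N5289 := trfs L606200 L64228 rfl
theorem L606222 : N5289 = N5166 := eqes L606221 (flp_c L44527)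
theorem L606223 : N5289 = N5166 := eqc rfl L606222 rfl
theorem L606233 : sm gb N5166 = N7663 := trfs L606223 (flp_b L65816) rfl
theorem L606234 : N7663 = N7479 := eqes L606233 (flp_b L64201)
theorem L606235 : N7663 = N7479 := eqc rfl L606234 rfl
theorem L606243 : sm gj N5166 = N3653 := trfs L606223 (flp_j L45600) rfl
theorem L606244 : N3653 = N7486 := eqes L606243 (flp_j L64265)
theorem L606245 : N7486 = N3653 := (eqc rfl L606244 rfl).symm
theorem L606247 : sm gi N5166 = N7635 := trfs L606223 (flp_i L65597) rfl
theorem L606248 : N7635 = N7487 := eqes L606247 L64268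
theorem L606249 : N7635 = N7487 := eqc rfl L606248 rfl
theorem L606251 : sm gb N7487 = N11079 := trfs L606249 (flp_b L94832) rfl
theorem L606252 : N11079 = N10858 := eqes L606251 (flp_b L92867)
theorem L606253 : N11079 = N10858 := eqc rfl L606252 rfl
theorem L606256 : sm ge N7487 = N5267 := trfs L606249 L65595 rfl
theorem L606257 : N5267 = N10863 := eqes L606256 (flp_e L92918)
theorem L606258 : N10863 = N5267 := (eqc rfl L606257 rfl).symm
theorem L606263 : sm gj N7487 = N5265 := trfs L606249 (flp_j L65590) rfl
theorem L606264 : N5265 = N10866 := eqes L606263 (flp_j L92947)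
theorem L606265 : N10866 = N5265 := (eqc rfl L606264 rfl).symm
theorem L606266 : sm gh N7487 = N11087 := trfs L606249 L94903 rfl
theorem L606267 : N11087 = N5913 := eqes L606266 (flp_h L589106)
theorem L606268 : N11087 = N5913 := eqc rfl L606267 rfl
theorem L606277 : sm ge N5913 = N7639 := trfs L606268 L94907 rfl
theorem L606278 : N7639 = N8576 := eqes L606277 (flp_e L73441)
theorem L606279 : N8576 = N7639 := (eqc rfl L606278 rfl).symm
theorem L606284 : sm gj N5913 = N7636 := trfs L606268 L94909 rfl
theorem L606285 : N7636 = N8578 := eqes L606284 L73452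
theorem L606286 : N8578 = N7636 := (eqc rfl L606285 rfl).symm
theorem L606287 : sm gi N5913 = N16129 := trfs L606268 L137642 rfl
theorem L606288 : N16129 = N4103 := eqes L606287 L50841
theorem L606289 : N16129 = N4103 := eqc rfl L606288 rfl
theorem L606298 : sm ge N4103 = N11092 := trfs L606289 L137646 rfl
theorem L606299 : N11092 = N5941 := eqes L606298 (flp_e L51062)
theorem L606300 : N11092 = N5941 := eqc rfl L606299 rfl
theorem L606308 : sm gh N4103 = N11142 := trfs L606289 L137650 rfl
theorem L606309 : N11142 = N5148 := eqes L606308 (flp_h L589166)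
theorem L606310 : N11142 = N5148 := eqc rfl L606309 rfl
theorem L606317 : sm ge N5148 = N7676 := trfs L606310 L95354 rfl
theorem L606318 : N7676 = N7458 := eqes L606317 (flp_e L64025)
theorem L606319 : N7676 = N7458 := eqc rfl L606318 rfl
theorem L606320 : sm gf N5148 = N16204 := trfs L606310 (flp_f L138244) rfl
theorem L606321 : N16204 = N3593 := eqes L606320 L44381
theorem L606322 : N16204 = N3593 := eqc rfl L606321 rfl
theorem L606336 : sm gi N3593 = N11138 := trfs L606322 (flp_i L138238) rfl
theorem L606337 : N11138 = N2498 := eqes L606336 L31133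
theorem L606338 : N11138 = N2498 := eqc rfl L606337 rfl
theorem L606340 : sm gb N2498 = N16192 := trfs L606338 (flp_b L138136) rfl
theorem L606341 : N16192 = N3604 := eqes L606340 (flp_b L31220)
theorem L606342 : N16192 = N3604 := eqc rfl L606341 rfl
theorem L606360 : sm gj N3604 = N11130 := trfs L606342 L138142 rfl
theorem L606361 : N11130 = N5217 := eqes L606360 L44964
theorem L606362 : N11130 = N5217 := eqc rfl L606361 rfl
theorem L606372 : sm gf N5217 = N7664 := trfs L606362 L95252 rfl
theorem L606373 : N7664 = N7478 := eqes L606372 (flp_f L64197)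
theorem L606374 : N7664 = N7478 := eqc rfl L606373 rfl
theorem L606376 : sm gh N5217 = N7662 := trfs L606362 (flp_h L95246) rfl
theorem L606377 : N7662 = N7566 := eqes L606376 L64956
theorem L606378 : N7662 = N7566 := eqc rfl L606377 rfl
theorem L606384 : sm gc N7566 = N11116 := trfs L606378 (flp_c L95152) rfl
theorem L606385 : N11116 = N10972 := eqes L606384 (flp_c L93874)
theorem L606386 : N11116 = N10972 := eqc rfl L606385 rfl
theorem L606390 : sm gf N7566 = N5283 := trfs L606378 (flp_f L65806) rfl
theorem L606391 : N5283 = N10857 := eqes L606390 (flp_f L92860)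
theorem L606392 : N10857 = N5283 := (eqc rfl L606391 rfl).symm
theorem L606395 : sm gi N7566 = N11078 := trfs L606378 (flp_i L94825) rfl
theorem L606396 : N11078 = N10987 := eqes L606395 L93987
theorem L606397 : N11078 = N10987 := eqc rfl L606396 rfl
theorem L606400 : sm gc N10987 = N16103 := trfs L606397 (flp_c L137436) rfl
theorem L606401 : N16103 = N15919 := eqes L606400 (flp_c L590717)
theorem L606402 : N16103 = N15919 := eqc rfl L606401 rfl
theorem L606406 : sm gf N10987 = N7629 := trfs L606397 (flp_f L94820) rfl
theorem L606407 : N7629 = N15788 := eqes L606406 (flp_f L134637)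
theorem L606408 : N15788 = N7629 := (eqc rfl L606407 rfl).symm
theorem L606411 : sm gh N10987 = N16117 := trfs L606397 L137536 rfl
theorem L606412 : N16117 = N7686 := eqes L606411 (flp_h L580578)
theorem L606413 : N16117 = N7686 := eqc rfl L606412 rfl
theorem L606423 : sm gf N7686 = N11080 := trfs L606413 L137542 rfl
theorem L606424 : N11080 = N11066 := eqes L606423 (flp_f L94731)
theorem L606425 : N11080 = N11066 := eqc rfl L606424 rfl
theorem L606429 : sm ga N11066 = N15785 := trfs L606425 L601099 rfl
theorem L606430 : N15785 = N7631 := eqes L606429 L94725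
theorem L606431 : N15785 = N7631 := eqc rfl L606430 rfl
theorem L606434 : sm gc N11066 = N16105 := trfs L606425 (flp_c L137453) rfl
theorem L606435 : N16105 = N16088 := eqes L606434 (flp_c L137296)
theorem L606436 : N16105 = N16088 := eqc rfl L606435 rfl
theorem L606442 : sm gg N11066 = N7630 := trfs L606425 L94845 rfl
theorem L606443 : N7630 = N15998 := eqes L606442 (flp_g L136486)
theorem L606444 : N15998 = N7630 := (eqc rfl L606443 rfl).symm
theorem L606448 : sm gi N11066 = N15761 := trfs L606425 L601102 rfl
theorem L606449 : N15761 = N7650 := eqes L606448 L94733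
theorem L606450 : N15761 = N7650 := eqc rfl L606449 rfl
theorem L606453 : sm gc N7650 = N22936 := trfs L606450 (flp_c L195084) rfl
theorem L606454 : N22936 = N11101 := eqes L606453 (flp_c L95020)
theorem L606455 : N22936 = N11101 := eqc rfl L606454 rfl
theorem L606459 : sm ge N7650 = N10841 := trfs L606450 L134419 rfl
theorem L606460 : N10841 = N11108 := eqes L606459 (flp_e L95086)
theorem L606461 : N11108 = N10841 := (eqc rfl L606460 rfl).symm
theorem L606463 : sm gg N7650 = N10839 := trfs L606450 L134421 rfl
theorem L606464 : N10839 = N11030 := eqes L606463 (flp_g L94410)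
theorem L606465 : N11030 = N10839 := (eqc rfl L606464 rfl).symm
theorem L606467 : sm gh N7650 = N10838 := trfs L606450 (flp_h L134413) rfl
theorem L606468 : N10838 = N10821 := eqes L606467 (flp_h L589181)
theorem L606469 : N10838 = N10821 := eqc rfl L606468 rfl
theorem L606473 : sm gc N10821 = N15751 := trfs L606469 (flp_c L134333) rfl
theorem L606474 : N15751 = N15724 := eqes L606473 (flp_c L134095)
theorem L606475 : N15751 = N15724 := eqc rfl L606474 rfl
theorem L606477 : sm ge N10821 = N7467 := trfs L606469 L92709 rfl
theorem L606478 : N7467 = N15731 := eqes L606477 (flp_e L134155)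
theorem L606479 : N15731 = N7467 := (eqc rfl L606478 rfl).symm
theorem L606481 : sm gg N10821 = N7466 := trfs L606469 (flp_g L92703) rfl
theorem L606482 : N7466 = N15622 := eqes L606481 (flp_g L133163)
theorem L606483 : N15622 = N7466 := (eqc rfl L606482 rfl).symm
theorem L606492 : sm gc N7466 = N22730 := trfs L606483 (flp_c L193230) rfl
theorem L606493 : N22730 = N10833 := eqes L606492 (flp_c L92668)
theorem L606494 : N22730 = N10833 := eqc rfl L606493 rfl
theorem L606495 : sm gd N7466 = N10748 := trfs L606483 L133158 rfl
theorem L606496 : N10748 = N10698 := eqes L606495 (flp_d L91437)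
theorem L606497 : N10748 = N10698 := eqc rfl L606496 rfl
theorem L606502 : sm gg N7466 = N10821 := trfs L606483 L133163 rfl
theorem L606504 : sm gj N7466 = N10745 := trfs L606483 (flp_j L133154) rfl
theorem L606505 : N10745 = N10757 := eqes L606504 (flp_j L91978)
theorem L606506 : N10757 = N10745 := (eqc rfl L606505 rfl).symm
theorem L606508 : sm gi N7466 = N10769 := trfs L606483 L133161 rfl
theorem L606509 : N10769 = N5284 := eqes L606508 (flp_i L577758)
theorem L606510 : N10769 = N5284 := eqc rfl L606509 rfl
theorem L606515 : sm gc N5284 = N15647 := trfs L606510 (flp_c L133403) rfl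
theorem L606516 : N15647 = N7655 := eqes L606515 (flp_c L65760)
theorem L606517 : N15647 = N7655 := eqc rfl L606516 rfl
theorem L606518 : sm gd N5284 = N7423 := trfs L606510 L92085 rfl
theorem L606519 : N7423 = N7665 := eqes L606518 L65829
theorem L606520 : N7665 = N7423 := (eqc rfl L606519 rfl).symm
theorem L606529 : sm gh N5284 = N15658 := trfs L606510 L133494 rfl
theorem L606530 : N15658 = N3648 := eqes L606529 (flp_h L45559)
theorem L606531 : N15658 = N3648 := eqc rfl L606530 rfl
theorem L606544 : sm gi N3648 = N22794 := trfs L606531 L193821 rfl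
theorem L606545 : N22794 = N5260 := eqes L606544 (flp_i L45365)
theorem L606546 : N22794 = N5260 := eqc rfl L606545 rfl
theorem L606551 : sm gc N5260 = N33156 := trfs L606546 L601019 rfl
theorem L606552 : N33156 = N7624 := eqes L606551 (flp_c L65503)
theorem L606553 : N33156 = N7624 := eqc rfl L606552 rfl
theorem L606570 : sm gg N7624 = N22925 := trfs L606553 L281196 rfl
theorem L606571 : N22925 = N11070 := eqes L606570 L94763
theorem L606572 : N22925 = N11070 := eqc rfl L606571 rfl
theorem L606573 : sm gj N7624 = N22752 := trfs L606553 (flp_j L281187) rfl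
theorem L606574 : N22752 = N11004 := eqes L606573 (flp_j L94166)
theorem L606575 : N22752 = N11004 := eqc rfl L606574 rfl
theorem L606576 : sm gh N7624 = N23289 := trfs L606553 L552733 rfl
theorem L606577 : N23289 = N11071 := eqes L606576 L94771
theorem L606578 : N23289 = N11071 := eqc rfl L606577 rfl
theorem L606580 : sm ga N11071 = N16004 := trfs L606578 L198113 rfl
theorem L606581 : N16004 = N15745 := eqes L606580 (flp_a L577654)
theorem L606582 : N16004 = N15745 := eqc rfl L606581 rfl
theorem L606587 : sm gd N11071 = N30839 := trfs L606578 (flp_d L261559) rfl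
theorem L606588 : N30839 = N16106 := eqes L606587 L137459
theorem L606589 : N30839 = N16106 := eqc rfl L606588 rfl
theorem L606596 : sm gj N11071 = N15992 := trfs L606578 (flp_j L198111) rfl
theorem L606597 : N15992 = N16003 := eqes L606596 (flp_j L136534)
theorem L606598 : N16003 = N15992 := (eqc rfl L606597 rfl).symm
theorem L606599 : sm gi N11071 = N16033 := trfs L606578 L198118 rfl
theorem L606600 : N16033 = N15752 := eqes L606599 (flp_i L473901)
theorem L606601 : N16033 = N15752 := eqc rfl L606600 rfl
theorem L606602 : sm ga N15752 = N11036 := trfs L606601 L136801 rfl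
theorem L606603 : N11036 = N10845 := eqes L606602 L134339
theorem L606604 : N11036 = N10845 := eqc rfl L606603 rfl
theorem L606607 : sm gd N15752 = N21210 := trfs L606601 (flp_d L180347) rfl
theorem L606608 : N21210 = N22937 := eqes L606607 L195090
theorem L606609 : N22937 = N21210 := (eqc rfl L606608 rfl).symm
theorem L606616 : sm gj N15752 = N11024 := trfs L606601 (flp_j L136799) rfl
theorem L606617 : N11024 = N22758 := eqes L606616 (flp_j L193504)
theorem L606618 : N22758 = N11024 := (eqc rfl L606617 rfl).symm
theorem L606620 : sm ga N11024 = N15646 := trfs L606618 L193497 rfl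
theorem L606621 : N15646 = N7600 := eqes L606620 L94347
theorem L606622 : N15646 = N7600 := eqc rfl L606621 rfl
theorem L606623 : sm gb N11024 = N15991 := trfs L606618 (flp_b L552434) rfl
theorem L606624 : N15991 = N16005 := eqes L606623 (flp_b L591211)
theorem L606625 : N16005 = N15991 := (eqc rfl L606624 rfl).symm
theorem L606632 : sm ge N11024 = N15636 := trfs L606618 L193501 rfl
theorem L606633 : N15636 = N16031 := eqes L606632 (flp_e L136786)
theorem L606634 : N16031 = N15636 := (eqc rfl L606633 rfl).symm
theorem L606639 : sm gj N11024 = N15752 := trfs L606618 L193504 rfl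
theorem L606641 : sm gh N11024 = N15634 := trfs L606618 (flp_h L193495) rfl
theorem L606642 : N15634 = N15616 := eqes L606641 L504293
theorem L606643 : N15634 = N15616 := eqc rfl L606642 rfl
theorem L606645 : sm ga N15616 = N10762 := trfs L606643 L133280 rfl
theorem L606646 : N10762 = N11037 := eqes L606645 (flp_a L591599)
theorem L606647 : N11037 = N10762 := (eqc rfl L606646 rfl).symm
theorem L606648 : sm gb N15616 = N22751 := trfs L606643 (flp_b L193431) rfl
theorem L606649 : N22751 = N11005 := eqes L606648 L133101
theorem L606650 : N22751 = N11005 := eqc rfl L606649 rfl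
theorem L606652 : sm gd N15616 = N22756 := trfs L606643 L193480 rfl
theorem L606653 : N22756 = N20826 := eqes L606652 (flp_d L177040)
theorem L606654 : N22756 = N20826 := eqc rfl L606653 rfl
theorem L606655 : sm ge N15616 = N10755 := trfs L606643 (flp_e L133278) rfl
theorem L606656 : N10755 = N22728 := eqes L606655 (flp_e L193211)
theorem L606657 : N22728 = N10755 := (eqc rfl L606656 rfl).symm
theorem L606664 : sm gi N15616 = N11035 := trfs L606643 (flp_i L591288) rfl
theorem L606665 : N11035 = N10763 := eqes L606664 L133105
theorem L606666 : N11035 = N10763 := eqc rfl L606665 rfl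
theorem L606667 : sm ga N10763 = N15615 := trfs L606666 L591284 rfl
theorem L606668 : N15615 = N15635 := eqes L606667 (flp_a L133289)
theorem L606669 : N15635 = N15615 := (eqc rfl L606668 rfl).symm
theorem L606672 : sm gd N10763 = N16051 := trfs L606666 L136968 rfl
theorem L606673 : N16051 = N14338 := eqes L606672 (flp_d L122220)
theorem L606674 : N16051 = N14338 := eqc rfl L606673 rfl
theorem L606675 : sm ge N10763 = N7601 := trfs L606666 L94451 rfl
theorem L606676 : N7601 = N15645 := eqes L606675 (flp_e L133386)
theorem L606677 : N15645 = N7601 := (eqc rfl L606676 rfl).symm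
theorem L606684 : sm gh N10763 = N7599 := trfs L606666 (flp_h L94447) rfl
theorem L606685 : N7599 = N15648 := eqes L606684 L133408
theorem L606686 : N15648 = N7599 := (eqc rfl L606685 rfl).symm
theorem L606692 : sm gd N7599 = N22780 := trfs L606686 L193703 rfl
theorem L606693 : N22780 = N11033 := eqes L606692 L94435
theorem L606694 : N22780 = N11033 := eqc rfl L606693 rfl
theorem L606699 : sm gg N7599 = N10764 := trfs L606686 L133415 rfl
theorem L606700 : N10764 = N11034 := eqes L606699 L94441
theorem L606701 : N11034 = N10764 := (eqc rfl L606700 rfl).symm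
theorem L606703 : sm gh N7599 = N10763 := trfs L606686 (flp_h L133408) rfl
theorem L606708 : sm gc N10764 = N7604 := trfs L606701 L94443 rfl
theorem L606709 : N7604 = N7421 := eqes L606708 L92042
theorem L606710 : N7604 = N7421 := eqc rfl L606709 rfl
theorem L606711 : sm gd N10764 = N16046 := trfs L606701 (flp_d L136938) rfl
theorem L606712 : N16046 = N15649 := eqes L606711 L133417
theorem L606713 : N16046 = N15649 := eqc rfl L606712 rfl
theorem L606719 : sm gg N10764 = N7599 := trfs L606701 (flp_g L94441) rfl
theorem L606725 : sm gi N10764 = N16002 := trfs L606701 (flp_i L136525) rfl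
theorem L606726 : N16002 = N15632 := eqes L606725 L591301
theorem L606727 : N16002 = N15632 := eqc rfl L606726 rfl
theorem L606732 : sm gc N15632 = N11009 := trfs L606727 L136521 rfl
theorem L606733 : N11009 = N10771 := eqes L606732 L591175
theorem L606734 : N11009 = N10771 := eqc rfl L606733 rfl
theorem L606735 : sm gd N15632 = N23302 := trfs L606727 (flp_d L198256) rfl
theorem L606736 : N23302 = N20842 := eqes L606735 (flp_d L177190)
theorem L606737 : N23302 = N20842 := eqc rfl L606736 rfl
theorem L606748 : sm gh N15632 = N23306 := trfs L606727 L198284 rfl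
theorem L606749 : N23306 = N10997 := eqes L606748 (flp_h L591256)
theorem L606750 : N23306 = N10997 := eqc rfl L606749 rfl
theorem L606766 : sm gj N10997 = N33974 := trfs L606750 (flp_j L288265) rfl
theorem L606767 : N33974 = N7617 := eqes L606766 L94088
theorem L606768 : N33974 = N7617 := eqc rfl L606767 rfl
theorem L606775 : sm gg N7617 = N23457 := trfs L606768 L288263 rfl
theorem L606776 : N23457 = N11060 := eqes L606775 L94667
theorem L606777 : N23457 = N11060 := eqc rfl L606776 rfl
theorem L606782 : sm gb N11060 = N16148 := trfs L606777 (flp_b L577893) rfl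
theorem L606783 : N16148 = N15754 := eqes L606782 L591475
theorem L606784 : N16148 = N15754 := eqc rfl L606783 rfl
theorem L606789 : sm ge N11060 = N16108 := trfs L606777 L199626 rfl
theorem L606790 : N16108 = N16086 := eqes L606789 (flp_e L137279)
theorem L606791 : N16108 = N16086 := eqc rfl L606790 rfl
theorem L606796 : sm gh N11060 = N16104 := trfs L606777 (flp_h L199622) rfl
theorem L606797 : N16104 = N15746 := eqes L606796 L591478
theorem L606798 : N16104 = N15746 := eqc rfl L606797 rfl
theorem L606799 : sm gi N11060 = N33432 := trfs L606777 (flp_i L473826) rfl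
theorem L606800 : N33432 = N7644 := eqes L606799 L94673
theorem L606801 : N33432 = N7644 := eqc rfl L606800 rfl
theorem L606809 : sm ge N7644 = N22939 := trfs L606801 L283607 rfl
theorem L606810 : N22939 = N11099 := eqes L606809 (flp_e L95005)
theorem L606811 : N22939 = N11099 := eqc rfl L606810 rfl
theorem L606813 : sm gh N7644 = N22935 := trfs L606801 (flp_h L283601) rfl
theorem L606814 : N22935 = N10815 := eqes L606813 L591488
theorem L606815 : N22935 = N10815 := eqc rfl L606814 rfl
theorem L606816 : sm ga N10815 = N15769 := trfs L606815 L195074 rfl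
theorem L606817 : N15769 = N7657 := eqes L606816 (flp_a L591500)
theorem L606818 : N15769 = N7657 := eqc rfl L606817 rfl
theorem L606824 : sm ge N10815 = N15753 := trfs L606815 L195078 rfl
theorem L606825 : N15753 = N15722 := eqes L606824 (flp_e L134078)
theorem L606826 : N15753 = N15722 := eqc rfl L606825 rfl
theorem L606834 : sm gi N10815 = N16175 := trfs L606815 (flp_i L591511) rfl
theorem L606835 : N16175 = N7472 := eqes L606834 L92506
theorem L606836 : N16175 = N7472 := eqc rfl L606835 rfl
theorem L606845 : sm ge N7472 = N11121 := trfs L606836 L138024 rfl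
theorem L606846 : N11121 = N10844 := eqes L606845 (flp_e L92761)
theorem L606847 : N11121 = N10844 := eqc rfl L606846 rfl
theorem L606852 : sm gj N7472 = N11118 := trfs L606836 L138026 rfl
theorem L606853 : N11118 = N10846 := eqes L606852 L92772
theorem L606854 : N11118 = N10846 := eqc rfl L606853 rfl
theorem L606855 : sm gh N7472 = N11117 := trfs L606836 (flp_h L138020) rfl
theorem L606856 : N11117 = N10847 := eqes L606855 L92780
theorem L606857 : N11117 = N10847 := eqc rfl L606856 rfl
theorem L606861 : sm gd N10847 = N16169 := trfs L606857 (flp_d L137987) rfl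
theorem L606862 : N16169 = N15774 := eqes L606861 L134524
theorem L606863 : N16169 = N15774 := eqc rfl L606862 rfl
theorem L606864 : sm ge N10847 = N7656 := trfs L606857 L95161 rfl
theorem L606865 : N7656 = N15770 := eqes L606864 (flp_e L134496)
theorem L606866 : N15770 = N7656 := (eqc rfl L606865 rfl).symm
theorem L606871 : sm gj N10847 = N7654 := trfs L606857 (flp_j L95157) rfl
theorem L606872 : N7654 = N15773 := eqes L606871 (flp_j L134522)
theorem L606873 : N15773 = N7654 := (eqc rfl L606872 rfl).symm
theorem L606878 : sm gd N7654 = N22968 := trfs L606873 L195343 rfl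
theorem L606879 : N22968 = N11114 := eqes L606878 (flp_d L95144)
theorem L606880 : N22968 = N11114 := eqc rfl L606879 rfl
theorem L606885 : sm gj N7654 = N10847 := trfs L606873 L134522 rfl
theorem L606890 : sm ga N11114 = N30970 := trfs L606880 (flp_a L576476) rfl
theorem L606891 : N30970 = N16145 := eqes L606890 (flp_a L137770)
theorem L606892 : N30970 = N16145 := eqc rfl L606891 rfl
theorem L606893 : sm gb N11114 = N16181 := trfs L606880 L195345 rfl
theorem L606894 : N16181 = N15766 := eqes L606893 (flp_b L134464)
theorem L606895 : N16181 = N15766 := eqc rfl L606894 rfl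
theorem L606900 : sm gf N11114 = N15962 := trfs L606880 L195347 rfl
theorem L606901 : N15962 = N16168 := eqes L606900 L137978
theorem L606902 : N16168 = N15962 := (eqc rfl L606901 rfl).symm
theorem L606908 : sm gh N11114 = N30538 := trfs L606880 (flp_h L259019) rfl
theorem L606909 : N30538 = N16170 := eqes L606908 L137989
theorem L606910 : N30538 = N16170 := eqc rfl L606909 rfl
theorem L606911 : sm gi N11114 = N30495 := trfs L606880 L534378 rfl
theorem L606912 : N30495 = N16101 := eqes L606911 (flp_i L137428)
theorem L606913 : N30495 = N16101 := eqc rfl L606912 rfl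
theorem L606914 : sm ga N16101 = N21315 := trfs L606913 L258654 rfl
theorem L606915 : N21315 = N23427 := eqes L606914 (flp_a L199356)
theorem L606916 : N23427 = N21315 := (eqc rfl L606915 rfl).symm
theorem L606917 : sm gb N16101 = N20947 := trfs L606913 L258656 rfl
theorem L606918 : N20947 = N22888 := eqes L606917 (flp_b L194673)
theorem L606919 : N22888 = N20947 := (eqc rfl L606918 rfl).symm
theorem L606922 : sm ge N16101 = N44464 := trfs L606913 (flp_e L376204) rfl
theorem L606923 : N44464 = N21278 := eqes L606922 (flp_e L180945)
theorem L606924 : N44464 = N21278 := eqc rfl L606923 rfl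
theorem L606925 : sm gf N16101 = N21088 := trfs L606913 L258661 rfl
theorem L606926 : N21088 = N23450 := eqes L606925 L199572
theorem L606927 : N23450 = N21088 := (eqc rfl L606926 rfl).symm
theorem L606929 : sm gj N16101 = N20940 := trfs L606913 (flp_j L258652) rfl
theorem L606930 : N20940 = N23451 := eqes L606929 L199580
theorem L606931 : N23451 = N20940 := (eqc rfl L606930 rfl).symm
theorem L606932 : sm gh N16101 = N44468 := trfs L606913 L376232 rfl
theorem L606933 : N44468 = N23452 := eqes L606932 L199587
theorem L606934 : N44468 = N23452 := eqc rfl L606933 rfl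
theorem L606935 : sm ga N23452 = N31013 := trfs L606934 (flp_a L554141) rfl
theorem L606936 : N31013 = N34158 := eqes L606935 (flp_a L289854)
theorem L606937 : N34158 = N31013 := (eqc rfl L606936 rfl).symm
theorem L606938 : sm gb N23452 = N30509 := trfs L606934 L376236 rfl
theorem L606939 : N30509 = N33360 := eqes L606938 (flp_b L283005)
theorem L606940 : N33360 = N30509 := (eqc rfl L606939 rfl).symm
theorem L606942 : sm gd N23452 = N30984 := trfs L606934 L534471 rfl
theorem L606943 : N30984 = N34194 := eqes L606942 L290174
theorem L606944 : N34194 = N30984 := (eqc rfl L606943 rfl).symm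
theorem L606945 : sm gf N23452 = N30717 := trfs L606934 L376239 rfl
theorem L606946 : N30717 = N34192 := eqes L606945 (flp_f L290166)
theorem L606947 : N34192 = N30717 := (eqc rfl L606946 rfl).symm
theorem L606948 : sm gj N23452 = N30496 := trfs L606934 L376241 rfl
theorem L606949 : N30496 = N34193 := eqes L606948 (flp_j L290172)
theorem L606950 : N34193 = N30496 := (eqc rfl L606949 rfl).symm
theorem L606952 : sm ge N30496 = N45224 := trfs L606950 (flp_e L382665) rfl
theorem L606953 : N45224 = N44465 := eqes L606952 (flp_e L376213)
theorem L606954 : N45224 = N44465 := eqc rfl L606953 rfl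
theorem L606955 : sm gj N30496 = N23452 := trfs L606950 L290172 rfl
theorem L606959 : sm gj N44465 = N31002 := trfs L606954 L382667 rfl
theorem L606961 : sm gh N44465 = N31001 := trfs L606954 (flp_h L382662) rfl
theorem L606962 : N31001 = N30493 := eqes L606961 (flp_h L376206)
theorem L606963 : N31001 = N30493 := eqc rfl L606962 rfl
theorem L606964 : sm ga N30493 = N45188 := trfs L606963 (flp_a L382342) rfl
theorem L606965 : N45188 = N21313 := eqes L606964 L258636
theorem L606966 : N45188 = N21313 := eqc rfl L606965 rfl
theorem L606967 : sm gb N30493 = N44413 := trfs L606963 (flp_b L375803) rfl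
theorem L606968 : N44413 = N20945 := eqes L606967 L258638
theorem L606969 : N44413 = N20945 := eqc rfl L606968 rfl
theorem L606971 : sm gd N30493 = N21281 := trfs L606963 L262985 rfl
theorem L606972 : N21281 = N44461 := eqes L606971 (flp_d L376176)
theorem L606973 : N44461 = N21281 := (eqc rfl L606972 rfl).symm
theorem L606975 : sm gf N30493 = N45222 := trfs L606963 (flp_f L382653) rfl
theorem L606976 : N45222 = N44463 := eqes L606975 L376188
theorem L606977 : N45222 = N44463 := eqc rfl L606976 rfl
theorem L606983 : sm gi N30493 = N21346 := trfs L606963 L262989 rfl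
theorem L606984 : N21346 = N22970 := eqes L606983 L591913
theorem L606985 : N22970 = N21346 := (eqc rfl L606984 rfl).symm
theorem L606986 : sm ga N21346 = N30968 := trfs L606985 L576506 rfl
theorem L606987 : N30968 = N31068 := eqes L606986 (flp_a L263482)
theorem L606988 : N31068 = N30968 := (eqc rfl L606987 rfl).symm
theorem L606989 : sm gb N21346 = N16183 := trfs L606985 L195364 rfl
theorem L606990 : N16183 = N30526 := eqes L606989 (flp_b L258922)
theorem L606991 : N30526 = N16183 := (eqc rfl L606990 rfl).symm
theorem L606998 : sm gf N21346 = N33485 := trfs L606985 L284024 rfl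
theorem L606999 : N33485 = N31102 := eqes L606998 (flp_f L263786)
theorem L607000 : N33485 = N31102 := eqc rfl L606999 rfl
theorem L607001 : sm gg N21346 = N15776 := trfs L606985 L195367 rfl
theorem L607002 : N15776 = N30920 := eqes L607001 (flp_g L262299)
theorem L607003 : N30920 = N15776 := (eqc rfl L607002 rfl).symm
theorem L607005 : sm gh N21346 = N30540 := trfs L606985 (flp_h L259038) rfl
theorem L607006 : N30540 = N31104 := eqes L607005 L263793
theorem L607007 : N31104 = N30540 := (eqc rfl L607006 rfl).symm
theorem L607008 : sm gi N21346 = N30493 := trfs L606985 (flp_i L591913) rfl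
theorem L607010 : sm ga N30540 = N45325 := trfs L607007 (flp_a L383411) rfl
theorem L607011 : N45325 = N44494 := eqes L607010 (flp_a L376464)
theorem L607012 : N45325 = N44494 := eqc rfl L607011 rfl
theorem L607013 : sm gb N30540 = N44516 := trfs L607007 (flp_b L376643) rfl
theorem L607014 : N44516 = N21360 := eqes L607013 L259033
theorem L607015 : N44516 = N21360 := eqc rfl L607014 rfl
theorem L607017 : sm gd N30540 = N45378 := trfs L607007 L383859 rfl
theorem L607018 : N45378 = N44529 := eqes L607017 (flp_d L376747)
theorem L607019 : N45378 = N44529 := eqc rfl L607018 rfl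
theorem L607023 : sm gf N30540 = N45375 := trfs L607007 (flp_f L383844) rfl
theorem L607024 : N45375 = N44539 := eqes L607023 L376812
theorem L607025 : N45375 = N44539 := eqc rfl L607024 rfl
theorem L607029 : sm gj N30540 = N21347 := trfs L607007 L263798 rfl
theorem L607030 : N21347 = N44537 := eqes L607029 (flp_j L376797)
theorem L607031 : N44537 = N21347 := (eqc rfl L607030 rfl).symm
theorem L607032 : sm gh N30540 = N21346 := trfs L607007 (flp_h L263793) rfl
theorem L607034 : sm gi N30540 = N45379 := trfs L607007 L383865 rfl
theorem L607035 : N45379 = N44540 := eqes L607034 L376821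
theorem L607036 : N45379 = N44540 := eqc rfl L607035 rfl
theorem L607038 : sm ge N44540 = N34347 := trfs L607036 L383868 rfl
theorem L607039 : N34347 = N30541 := eqes L607038 L376826
theorem L607040 : N34347 = N30541 := eqc rfl L607039 rfl
theorem L607041 : sm gj N44540 = N31106 := trfs L607036 L383870 rfl
theorem L607044 : sm gj N30541 = N23556 := trfs L607040 L291385 rfl
theorem L607045 : N23556 = N44538 := eqes L607044 (flp_j L376810)
theorem L607046 : N44538 = N23556 := (eqc rfl L607045 rfl).symm
theorem L607048 : sm gb N23556 = N31126 := trfs L607046 L376803 rfl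
theorem L607049 : N31126 = N33464 := eqes L607048 (flp_b L283868)
theorem L607050 : N33464 = N31126 := (eqc rfl L607049 rfl).symm
theorem L607052 : sm gd N23556 = N30539 := trfs L607046 L376806 rfl
theorem L607053 : N30539 = N34350 := eqes L607052 (flp_d L291402)
theorem L607054 : N34350 = N30539 := (eqc rfl L607053 rfl).symm
theorem L607055 : sm gf N23556 = N30787 := trfs L607046 L376808 rfl
theorem L607056 : N30787 = N34345 := eqes L607055 (flp_f L291373)
theorem L607057 : N34345 = N30787 := (eqc rfl L607056 rfl).symm
theorem L607058 : sm gj N23556 = N30541 := trfs L607046 L376810 rfl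
theorem L607062 : sm gf N30787 = N23556 := trfs L607057 L291373 rfl
theorem L607065 : sm gi N30787 = N23553 := trfs L607057 (flp_i L291370) rfl
theorem L607066 : N23553 = N21131 := eqes L607065 (flp_i L261120)
theorem L607067 : N23553 = N21131 := eqc rfl L607066 rfl
theorem L607068 : sm ga N21131 = N34293 := trfs L607067 (flp_a L290922) rfl
theorem L607069 : N34293 = N30741 := eqes L607068 (flp_a L260747)
theorem L607070 : N34293 = N30741 := eqc rfl L607069 rfl
theorem L607084 : sm gj N21131 = N34343 := trfs L607067 (flp_j L291361) rfl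
theorem L607085 : N34343 = N14521 := eqes L607084 L179663
theorem L607086 : N34343 = N14521 := eqc rfl L607085 rfl
theorem L607090 : sm gh N14521 = N23552 := trfs L607086 (flp_h L291356) rfl
theorem L607091 : N23552 = N10973 := eqes L607090 L123782
theorem L607092 : N23552 = N10973 := eqc rfl L607091 rfl
theorem L607109 : sm gi N10973 = N34191 := trfs L607092 (flp_i L290161) rfl
theorem L607110 : N34191 = N14493 := eqes L607109 L554026
theorem L607111 : N34191 = N14493 := eqc rfl L607110 rfl
theorem L607113 : sm gd N14493 = N23455 := trfs L607111 L290157 rfl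
theorem L607114 : N23455 = N10945 := eqes L607113 L123547
theorem L607115 : N23455 = N10945 := eqc rfl L607114 rfl
theorem L607125 : sm gg N10945 = N34199 := trfs L607115 L290202 rfl
theorem L607126 : N34199 = N7540 := eqes L607125 (flp_g L93639)
theorem L607127 : N34199 = N7540 := eqc rfl L607126 rfl
theorem L607136 : sm gi N7540 = N23560 := trfs L607127 L290208 rfl
theorem L607137 : N23560 = N5212 := eqes L607136 (flp_i L590860)
theorem L607138 : N23560 = N5212 := eqc rfl L607137 rfl
theorem L607144 : sm gf N5212 = N34077 := trfs L607138 (flp_f L289171) rfl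
theorem L607145 : N34077 = N3602 := eqes L607144 L44932
theorem L607146 : N34077 = N3602 := eqc rfl L607145 rfl
theorem L607160 : sm gg N3602 = N23374 := trfs L607146 (flp_g L289166) rfl
theorem L607161 : N23374 = N5157 := eqes L607160 (flp_g L44459)
theorem L607162 : N23374 = N5157 := eqc rfl L607161 rfl
theorem L607182 : sm gi N5157 = N33972 := trfs L607162 (flp_i L288247) rfl
theorem L607183 : N33972 = N7463 := eqes L607182 (flp_i L551696)
theorem L607184 : N33972 = N7463 := eqc rfl L607183 rfl
theorem L607185 : sm gc N7463 = N23317 := trfs L607184 L288242 rfl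
theorem L607186 : N23317 = N5161 := eqes L607185 L551689
theorem L607187 : N23317 = N5161 := eqc rfl L607186 rfl
theorem L607206 : sm gh N5161 = N33991 := trfs L607187 L288388 rfl
theorem L607207 : N33991 = N3631 := eqes L607206 (flp_h L551712)
theorem L607208 : N33991 = N3631 := eqc rfl L607207 rfl
theorem L607215 : sm gj N3631 = N23318 := trfs L607208 L288395 rfl
theorem L607216 : N23318 = N5227 := eqes L607215 (flp_j L45059)
theorem L607217 : N23318 = N5227 := eqc rfl L607216 rfl
theorem L607228 : sm gi N5227 = N33179 := trfs L607217 (flp_i L588823) rfl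
theorem L607229 : N33179 = N3620 := eqes L607228 L45061
theorem L607230 : N33179 = N3620 := eqc rfl L607229 rfl
theorem L607240 : sm gh N3620 = N22765 := trfs L607230 (flp_h L281403) rfl
theorem L607241 : N22765 = N5112 := eqes L607240 L589465
theorem L607242 : N22765 = N5112 := eqc rfl L607241 rfl
theorem L607263 : sm gi N5112 = N16062 := trfs L607242 (flp_i L588794) rfl
theorem L607264 : N16062 = N3542 := eqes L607263 L44047
theorem L607265 : N16062 = N3542 := eqc rfl L607264 rfl
theorem L607286 : sm gh N3542 = N11042 := trfs L607265 (flp_h L137053) rfl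
theorem L607287 : N11042 = N5122 := eqes L607286 L44135
theorem L607288 : N11042 = N5122 := eqc rfl L607287 rfl
theorem L607289 : sm ga N5122 = N16039 := trfs L607288 (flp_a L136860) rfl
theorem L607290 : N16039 = N7415 := eqes L607289 (flp_a L63639)
theorem L607291 : N16039 = N7415 := eqc rfl L607290 rfl
theorem L607334 : sm gi N7415 = N23295 := trfs L607291 (flp_i L198178) rfl
theorem L607335 : N23295 = N5231 := eqes L607334 (flp_i L591152)
theorem L607336 : N23295 = N5231 := eqc rfl L607335 rfl
theorem L607346 : sm gf N5231 = N15996 := trfs L607336 (flp_f L198171) rfl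
theorem L607347 : N15996 = N7583 := eqes L607346 (flp_f L65122)
theorem L607348 : N15996 = N7583 := eqc rfl L607347 rfl
theorem L607358 : sm gg N7583 = N10999 := trfs L607348 (flp_g L136453) rfl
theorem L607359 : N10999 = N11012 := eqes L607358 (flp_g L94236)
theorem L607360 : N11012 = N10999 := (eqc rfl L607359 rfl).symm
theorem L607362 : sm gh N7583 = N22791 := trfs L607348 L472024 rfl
theorem L607363 : N22791 = N5230 := eqes L607362 (flp_h L65118)
theorem L607364 : N22791 = N5230 := eqc rfl L607363 rfl
theorem L607374 : sm gg N5230 = N15657 := trfs L607364 L193803 rfl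
theorem L607375 : N15657 = N7582 := eqes L607374 L65109
theorem L607376 : N15657 = N7582 := eqc rfl L607375 rfl
theorem L607378 : sm gi N5230 = N15655 := trfs L607364 (flp_i L193797) rfl
theorem L607379 : N15655 = N3623 := eqes L607378 L45092
theorem L607380 : N15655 = N3623 := eqc rfl L607379 rfl
theorem L607389 : sm gg N3623 = N10768 := trfs L607380 L133475 rfl
theorem L607390 : N10768 = N5245 := eqes L607389 L45226
theorem L607391 : N10768 = N5245 := eqc rfl L607390 rfl
theorem L607403 : sm gj N5245 = N7477 := trfs L607391 L92079 rfl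
theorem L607404 : N7477 = N7606 := eqes L607403 L65329
theorem L607405 : N7606 = N7477 := (eqc rfl L607404 rfl).symm
theorem L607406 : sm gh N5245 = N7419 := trfs L607391 (flp_h L92072) rfl
theorem L607407 : N7419 = N7607 := eqes L607406 L65338
theorem L607408 : N7607 = N7419 := (eqc rfl L607407 rfl).symm
theorem L607414 : sm gd N7419 = N5408 := trfs L607408 L65345 rfl
theorem L607415 : N5408 = N10634 := eqes L607414 (flp_d L90888)
theorem L607416 : N10634 = N5408 := (eqc rfl L607415 rfl).symm
theorem L607422 : sm gh N7419 = N5245 := trfs L607408 (flp_h L65338) rfl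
theorem L607424 : sm gi N7419 = N10758 := trfs L607408 (flp_i L594076) rfl
theorem L607425 : N10758 = N10744 := eqes L607424 (flp_i L91850)
theorem L607426 : N10758 = N10744 := eqc rfl L607425 rfl
theorem L607431 : sm gd N10744 = N7416 := trfs L607426 L91987 rfl
theorem L607432 : N7416 = N15431 := eqes L607431 (flp_d L131476)
theorem L607433 : N15431 = N7416 := (eqc rfl L607432 rfl).symm
theorem L607456 : sm gc N7416 = N22450 := trfs L607433 (flp_c L190774) rfl
theorem L607457 : N22450 = N9872 := eqes L607456 (flp_c L84419)
theorem L607458 : N22450 = N9872 := eqc rfl L607457 rfl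
theorem L607459 : sm gd N7416 = N10744 := trfs L607433 L131476 rfl
theorem L607476 : sm ge N9872 = N15429 := trfs L607458 (flp_e L190771) rfl
theorem L607477 : N15429 = N14230 := eqes L607476 (flp_e L121297)
theorem L607478 : N15429 = N14230 := eqc rfl L607477 rfl
theorem L607483 : sm gj N9872 = N15527 := trfs L607458 L190776 rfl
theorem L607484 : N15527 = N14336 := eqes L607483 L122195
theorem L607485 : N15527 = N14336 := eqc rfl L607484 rfl
theorem L607487 : sm gi N9872 = N15449 := trfs L607458 L190778 rfl
theorem L607488 : N15449 = N7824 := eqes L607487 L594082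
theorem L607489 : N15449 = N7824 := eqc rfl L607488 rfl
theorem L607495 : sm gd N7824 = N22479 := trfs L607489 L191039 rfl
theorem L607496 : N22479 = N11357 := eqes L607495 L97200
theorem L607497 : N22479 = N11357 := eqc rfl L607496 rfl
theorem L607498 : sm ge N7824 = N10632 := trfs L607489 (flp_e L131640) rfl
theorem L607499 : N10632 = N11353 := eqes L607498 (flp_e L97167)
theorem L607500 : N11353 = N10632 := (eqc rfl L607499 rfl).symm
theorem L607505 : sm gj N7824 = N10703 := trfs L607489 L131645 rfl
theorem L607506 : N10703 = N11356 := eqes L607505 (flp_j L97198)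
theorem L607507 : N11356 = N10703 := (eqc rfl L607506 rfl).symm
theorem L607508 : sm gh N7824 = N22481 := trfs L607489 L191054 rfl
theorem L607509 : N22481 = N5401 := eqes L607508 (flp_h L67206)
theorem L607510 : N22481 = N5401 := eqc rfl L607509 rfl
theorem L607524 : sm gj N5401 = N15558 := trfs L607510 L191062 rfl
theorem L607525 : N15558 = N7823 := eqes L607524 L67197
theorem L607526 : N15558 = N7823 := eqc rfl L607525 rfl
theorem L607528 : sm ga N7823 = N22626 := trfs L607526 (flp_a L192288) rfl
theorem L607529 : N22626 = N11336 := eqes L607528 (flp_a L96996)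
theorem L607530 : N22626 = N11336 := eqc rfl L607529 rfl
theorem L607533 : sm gd N7823 = N22645 := trfs L607526 L192446 rfl
theorem L607534 : N22645 = N10337 := eqes L607533 (flp_d L88300)
theorem L607535 : N22645 = N10337 := eqc rfl L607534 rfl
theorem L607558 : sm gh N10337 = N32992 := trfs L607535 (flp_h L279682) rfl
theorem L607559 : N32992 = N15027 := eqes L607558 L127971
theorem L607560 : N32992 = N15027 := eqc rfl L607559 rfl
theorem L607563 : sm gd N15027 = N22641 := trfs L607560 (flp_d L279678) rfl
theorem L607564 : N22641 = N21875 := eqes L607563 L185811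
theorem L607565 : N22641 = N21875 := eqc rfl L607564 rfl
theorem L607567 : sm ga N21875 = N32967 := trfs L607565 (flp_a L279470) rfl
theorem L607568 : N32967 = N30336 := eqes L607567 L568115
theorem L607569 : N32967 = N30336 := eqc rfl L607568 rfl
theorem L607571 : sm gc N21875 = N15767 := trfs L607565 L192420 rfl
theorem L607572 : N15767 = N30932 := eqes L607571 (flp_c L262382)
theorem L607573 : N30932 = N15767 := (eqc rfl L607572 rfl).symm
theorem L607574 : sm ge N21875 = N30252 := trfs L607565 (flp_e L256530) rfl
theorem L607575 : N30252 = N31879 := eqes L607574 L270101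
theorem L607576 : N31879 = N30252 := (eqc rfl L607575 rfl).symm
theorem L607584 : sm gh N21875 = N15556 := trfs L607565 (flp_h L192417) rfl
theorem L607585 : N15556 = N16507 := eqes L607584 L185819
theorem L607586 : N16507 = N15556 := (eqc rfl L607585 rfl).symm
theorem L607587 : sm gi N21875 = N32993 := trfs L607565 L279684 rfl
theorem L607588 : N32993 = N31880 := eqes L607587 L270110
theorem L607589 : N32993 = N31880 := eqc rfl L607588 rfl
theorem L607591 : sm gc N31880 = N22959 := trfs L607589 L279687 rfl
theorem L607592 : N22959 = N45124 := eqes L607591 (flp_c L381801)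
theorem L607593 : N45124 = N22959 := (eqc rfl L607592 rfl).symm
theorem L607594 : sm ge N31880 = N44108 := trfs L607589 (flp_e L373092) rfl
theorem L607597 : sm gc N22959 = N31880 := trfs L607593 L381801 rfl
theorem L607599 : sm gd N22959 = N30933 := trfs L607593 L381803 rfl
theorem L607600 : N30933 = N33467 := eqes L607599 (flp_d L283887)
theorem L607601 : N33467 = N30933 := (eqc rfl L607600 rfl).symm
theorem L607605 : sm gj N22959 = N30935 := trfs L607593 L381808 rfl
theorem L607606 : N30935 = N33190 := eqes L607605 (flp_j L281511)
theorem L607607 : N33190 = N30935 := (eqc rfl L607606 rfl).symm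
theorem L607609 : sm gb N30935 = N23373 := trfs L607607 L281508 rfl
theorem L607610 : N23373 = N44292 := eqes L607609 (flp_b L374742)
theorem L607611 : N44292 = N23373 := (eqc rfl L607610 rfl).symm
theorem L607612 : sm ge N30935 = N44280 := trfs L607607 (flp_e L374636) rfl
theorem L607613 : N44280 = N45126 := eqes L607612 (flp_e L381821)
theorem L607614 : N45126 = N44280 := (eqc rfl L607613 rfl).symm
theorem L607616 : sm gj N30935 = N22959 := trfs L607607 L281511 rfl
theorem L607618 : sm gi N30935 = N22773 := trfs L607607 (flp_i L281506) rfl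
theorem L607619 : N22773 = N21231 := eqes L607618 (flp_i L262403)
theorem L607620 : N22773 = N21231 := eqc rfl L607619 rfl
theorem L607621 : sm ga N21231 = N33164 := trfs L607620 (flp_a L281270) rfl
theorem L607622 : N33164 = N30326 := eqes L607621 (flp_a L591647)
theorem L607623 : N33164 = N30326 := eqc rfl L607622 rfl
theorem L607624 : sm gb N21231 = N16047 := trfs L607620 L193641 rfl
theorem L607625 : N16047 = N30375 := eqes L607624 (flp_b L257624)
theorem L607626 : N30375 = N16047 := (eqc rfl L607625 rfl).symm
theorem L607631 : sm ge N21231 = N30368 := trfs L607620 (flp_e L257564) rfl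
theorem L607632 : N30368 = N30934 := eqes L607631 L262395
theorem L607633 : N30934 = N30368 := (eqc rfl L607632 rfl).symm
theorem L607640 : sm gh N21231 = N15644 := trfs L607620 (flp_h L193639) rfl
theorem L607641 : N15644 = N16054 := eqes L607640 L180535
theorem L607642 : N16054 = N15644 := (eqc rfl L607641 rfl).symm
theorem L607649 : sm ge N15644 = N23384 := trfs L607642 L198972 rfl
theorem L607650 : N23384 = N20854 := eqes L607649 (flp_e L177301)
theorem L607651 : N23384 = N20854 := eqc rfl L607650 rfl
theorem L607653 : sm gg N15644 = N11038 := trfs L607642 L136994 rfl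
theorem L607654 : N11038 = N22772 := eqes L607653 L193633
theorem L607655 : N22772 = N11038 := (eqc rfl L607654 rfl).symm
theorem L607659 : sm gh N15644 = N21231 := trfs L607642 (flp_h L180535) rfl
theorem L607661 : sm gi N15644 = N20845 := trfs L607642 (flp_i L455567) rfl
theorem L607662 : N20845 = N22727 := eqes L607661 (flp_i L193203)
theorem L607663 : N22727 = N20845 := (eqc rfl L607662 rfl).symm
theorem L607665 : sm gb N20845 = N16001 := trfs L607663 L193198 rfl
theorem L607666 : N16001 = N30347 := eqes L607665 (flp_b L257366)
theorem L607667 : N30347 = N16001 := (eqc rfl L607666 rfl).symm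
theorem L607671 : sm ge N20845 = N30322 := trfs L607663 (flp_e L257139) rfl
theorem L607672 : N30322 = N30352 := eqes L607671 (flp_e L257418)
theorem L607673 : N30352 = N30322 := (eqc rfl L607672 rfl).symm
theorem L607678 : sm gj N20845 = N15721 := trfs L607663 L193201 rfl
theorem L607679 : N15721 = N30354 := eqes L607678 L257430
theorem L607680 : N30354 = N15721 := (eqc rfl L607679 rfl).symm
theorem L607681 : sm gh N20845 = N33120 := trfs L607663 L280850 rfl
theorem L607682 : N33120 = N30355 := eqes L607681 L257441
theorem L607683 : N33120 = N30355 := eqc rfl L607682 rfl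
theorem L607684 : sm gi N20845 = N15644 := trfs L607663 L193203 rfl
theorem L607686 : sm ga N30355 = N23372 := trfs L607683 L576795 rfl
theorem L607687 : N23372 = N20858 := eqes L607686 L257443
theorem L607688 : N23372 = N20858 := eqc rfl L607687 rfl
theorem L607689 : sm gb N30355 = N23303 := trfs L607683 L280852 rfl
theorem L607690 : N23303 = N44247 := eqes L607689 (flp_b L374328)
theorem L607691 : N44247 = N23303 := (eqc rfl L607690 rfl).symm
theorem L607692 : sm gd N30355 = N23347 := trfs L607683 L576797 rfl
theorem L607693 : N23347 = N44261 := eqes L607692 L374460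
theorem L607694 : N44261 = N23347 := (eqc rfl L607693 rfl).symm
theorem L607695 : sm ge N30355 = N44210 := trfs L607683 (flp_e L373996) rfl
theorem L607696 : N44210 = N44257 := eqes L607695 (flp_e L374429)
theorem L607697 : N44257 = N44210 := (eqc rfl L607696 rfl).symm
theorem L607699 : sm gj N30355 = N22889 := trfs L607683 L280855 rfl
theorem L607700 : N22889 = N44260 := eqes L607699 (flp_j L374458)
theorem L607701 : N44260 = N22889 := (eqc rfl L607700 rfl).symm
theorem L607702 : sm ga N22889 = N30374 := trfs L607701 L374451 rfl
theorem L607703 : N30374 = N16171 := eqes L607702 L576778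
theorem L607704 : N30374 = N16171 := eqc rfl L607703 rfl
theorem L607705 : sm gc N22889 = N30365 := trfs L607701 L374453 rfl
theorem L607706 : N30365 = N32923 := eqes L607705 (flp_c L279118)
theorem L607707 : N32923 = N30365 := (eqc rfl L607706 rfl).symm
theorem L607711 : sm gj N22889 = N30355 := trfs L607701 L374458 rfl
theorem L607714 : sm ga N30365 = N23557 := trfs L607707 L530124 rfl
theorem L607715 : N23557 = N20868 := eqes L607714 L257534
theorem L607716 : N23557 = N20868 := eqc rfl L607715 rfl
theorem L607718 : sm gc N30365 = N22889 := trfs L607707 L279118 rfl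
theorem L607721 : sm ge N30365 = N44038 := trfs L607707 (flp_e L372539) rfl
theorem L607722 : N44038 = N44270 := eqes L607721 (flp_e L374549)
theorem L607723 : N44270 = N44038 := (eqc rfl L607722 rfl).symm
theorem L607725 : sm gh N30365 = N22595 := trfs L607707 (flp_h L279115) rfl
theorem L607726 : N22595 = N20851 := eqes L607725 (flp_h L257532)
theorem L607727 : N22595 = N20851 := eqc rfl L607726 rfl
theorem L607728 : sm ga N20851 = N16178 := trfs L607727 (flp_a L576805) rfl
theorem L607729 : N16178 = N14344 := eqes L607728 L177268
theorem L607730 : N16178 = N14344 := eqc rfl L607729 rfl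
theorem L607735 : sm ge N20851 = N30206 := trfs L607727 (flp_e L256160) rfl
theorem L607736 : N30206 = N30361 := eqes L607735 (flp_e L257502)
theorem L607737 : N30361 = N30206 := (eqc rfl L607736 rfl).symm
theorem L607739 : sm gg N20851 = N32922 := trfs L607727 L279106 rfl
theorem L607740 : N32922 = N14404 := eqes L607739 L177274
theorem L607741 : N32922 = N14404 := eqc rfl L607740 rfl
theorem L607751 : sm ge N14404 = N44037 := trfs L607741 (flp_e L372530) rfl
theorem L607752 : N44037 = N20954 := eqes L607751 (flp_e L178172)
theorem L607753 : N44037 = N20954 := eqc rfl L607752 rfl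
theorem L607754 : sm gi N14404 = N22640 := trfs L607741 L279113 rfl
theorem L607755 : N22640 = N11422 := eqes L607754 L593492
theorem L607756 : N22640 = N11422 := eqc rfl L607755 rfl
theorem L607764 : sm ge N11422 = N30251 := trfs L607756 (flp_e L256523) rfl
theorem L607765 : N30251 = N16602 := eqes L607764 L141598
theorem L607766 : N30251 = N16602 := eqc rfl L607765 rfl
theorem L607772 : sm gj N11422 = N32990 := trfs L607756 L279664 rfl
theorem L607773 : N32990 = N7871 := eqes L607772 L97773
theorem L607774 : N32990 = N7871 := eqc rfl L607773 rfl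
theorem L607783 : sm ge N7871 = N44105 := trfs L607774 (flp_e L373071) rfl
theorem L607784 : N44105 = N11424 := eqes L607783 L97785
theorem L607785 : N44105 = N11424 := eqc rfl L607784 rfl
theorem L607788 : sm gd N11424 = N30254 := trfs L607785 L373069 rfl
theorem L607789 : N30254 = N16594 := eqes L607788 (flp_d L141549)
theorem L607790 : N30254 = N16594 := eqc rfl L607789 rfl
theorem L607796 : sm gc N16594 = N20787 := trfs L607790 L256541 rfl
theorem L607797 : N20787 = N24154 := eqes L607796 (flp_c L205378)
theorem L607798 : N24154 = N20787 := (eqc rfl L607797 rfl).symm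
theorem L607799 : sm ge N16594 = N20780 := trfs L607790 L256543 rfl
theorem L607800 : N20780 = N11417 := eqes L607799 (flp_e L141544)
theorem L607801 : N20780 = N11417 := eqc rfl L607800 rfl
theorem L607802 : sm gf N16594 = N44109 := trfs L607790 (flp_f L373100) rfl
theorem L607803 : N44109 = N24156 := eqes L607802 L205391
theorem L607804 : N44109 = N24156 := eqc rfl L607803 rfl
theorem L607808 : sm gj N16594 = N20778 := trfs L607790 (flp_j L256538) rfl
theorem L607809 : N20778 = N24151 := eqes L607808 (flp_j L205356)
theorem L607810 : N24151 = N20778 := (eqc rfl L607809 rfl).symm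
theorem L607811 : sm gh N16594 = N44111 := trfs L607790 L373110 rfl
theorem L607812 : N44111 = N24142 := eqes L607811 (flp_h L205295)
theorem L607813 : N44111 = N24142 := eqc rfl L607812 rfl
theorem L607814 : sm gi N16594 = N44040 := trfs L607790 (flp_i L372556) rfl
theorem L607815 : N44040 = N20772 := eqes L607814 (flp_i L567696)
theorem L607816 : N44040 = N20772 := eqc rfl L607815 rfl
theorem L607818 : sm gc N20772 = N30216 := trfs L607816 L372552 rfl
theorem L607819 : N30216 = N30236 := eqes L607818 (flp_c L256394)
theorem L607820 : N30236 = N30216 := (eqc rfl L607819 rfl).symm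
theorem L607821 : sm ge N20772 = N30209 := trfs L607816 L372554 rfl
theorem L607822 : N30209 = N14281 := eqes L607821 L176571
theorem L607823 : N30209 = N14281 := eqc rfl L607822 rfl
theorem L607824 : sm gj N20772 = N30207 := trfs L607816 (flp_j L372549) rfl
theorem L607825 : N30207 = N30245 := eqes L607824 L256465
theorem L607826 : N30245 = N30207 := (eqc rfl L607825 rfl).symm
theorem L607833 : sm ge N30207 = N20774 := trfs L607826 L256472 rfl
theorem L607834 : N20774 = N20749 := eqes L607833 L256167
theorem L607835 : N20774 = N20749 := eqc rfl L607834 rfl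
theorem L607836 : sm gf N30207 = N44096 := trfs L607826 (flp_f L372995) rfl
theorem L607837 : N44096 = N44039 := eqes L607836 L372541
theorem L607838 : N44096 = N44039 := eqc rfl L607837 rfl
theorem L607842 : sm gj N30207 = N20772 := trfs L607826 (flp_j L256465) rfl
theorem L607844 : sm gh N30207 = N44098 := trfs L607826 L373005 rfl
theorem L607845 : N44098 = N44041 := eqes L607844 L372558
theorem L607846 : N44098 = N44041 := eqc rfl L607845 rfl
theorem L607848 : sm ga N44041 = N30268 := trfs L607846 L373007 rfl
theorem L607851 : sm ge N44041 = N30249 := trfs L607846 L373010 rfl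
theorem L607852 : N30249 = N30210 := eqes L607851 L372563
theorem L607853 : N30249 = N30210 := eqc rfl L607852 rfl
theorem L607856 : sm ga N30210 = N20791 := trfs L607853 L256500 rfl
theorem L607857 : N20791 = N24141 := eqes L607856 L566901
theorem L607858 : N24141 = N20791 := (eqc rfl L607857 rfl).symm
theorem L607868 : sm gj N30210 = N20775 := trfs L607853 L256504 rfl
theorem L607869 : N20775 = N44044 := eqes L607868 (flp_j L372585)
theorem L607870 : N44044 = N20775 := (eqc rfl L607869 rfl).symm
theorem L607872 : sm gi N30210 = N44103 := trfs L607853 L373048 rfl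
theorem L607873 : N44103 = N44046 := eqes L607872 L372595
theorem L607874 : N44103 = N44046 := eqc rfl L607873 rfl
theorem L607875 : sm ga N44046 = N30273 := trfs L607874 L373050 rfl
theorem L607880 : sm gj N44046 = N30250 := trfs L607874 L373055 rfl
theorem L607883 : sm gc N20775 = N30220 := trfs L607870 L372582 rfl
theorem L607884 : N30220 = N30239 := eqes L607883 (flp_c L256419)
theorem L607885 : N30239 = N30220 := (eqc rfl L607884 rfl).symm
theorem L607887 : sm gj N20775 = N30210 := trfs L607870 L372585 rfl
theorem L607890 : sm ga N30220 = N20781 := trfs L607885 L256417 rfl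
theorem L607891 : N20781 = N24139 := eqes L607890 (flp_a L566889)
theorem L607892 : N24139 = N20781 := (eqc rfl L607891 rfl).symm
theorem L607901 : sm ge N30220 = N44085 := trfs L607885 (flp_e L372904) rfl
theorem L607902 : N44085 = N44054 := eqes L607901 (flp_e L372658)
theorem L607903 : N44085 = N44054 := eqc rfl L607902 rfl
theorem L607909 : sm gh N30220 = N20768 := trfs L607885 (flp_h L256415) rfl
theorem L607910 : N20768 = N20755 := eqes L607909 (flp_h L256265)
theorem L607911 : N20768 = N20755 := eqc rfl L607910 rfl
theorem L607922 : sm ga N20755 = N14286 := trfs L607911 L176534 rfl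
theorem L607923 : N14286 = N16591 := eqes L607922 (flp_a L566872)
theorem L607924 : N16591 = N14286 := (eqc rfl L607923 rfl).symm
theorem L607930 : sm gd N20755 = N15547 := trfs L607911 L176538 rfl
theorem L607931 : N15547 = N14271 := eqes L607930 L176435
theorem L607932 : N15547 = N14271 := eqc rfl L607931 rfl
theorem L607935 : sm gg N20755 = N14278 := trfs L607911 (flp_g L176532) rfl
theorem L607936 : N14278 = N30107 := eqes L607935 (flp_g L255321)
theorem L607937 : N30107 = N14278 := (eqc rfl L607936 rfl).symm
theorem L607941 : sm gi N20755 = N16593 := trfs L607911 (flp_i L485002) rfl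
theorem L607942 : N16593 = N14292 := eqes L607941 L176438
theorem L607943 : N16593 = N14292 := eqc rfl L607942 rfl
theorem L607951 : sm gd N14292 = N11434 := trfs L607943 L141542 rfl
theorem L607952 : N11434 = N9845 := eqes L607951 L121799
theorem L607953 : N11434 = N9845 := eqc rfl L607952 rfl
theorem L607956 : sm gg N14292 = N11419 := trfs L607943 L141540 rfl
theorem L607957 : N11419 = N20703 := eqes L607956 (flp_g L176003)
theorem L607958 : N20703 = N11419 := (eqc rfl L607957 rfl).symm
theorem L607959 : sm gj N14292 = N24150 := trfs L607943 (flp_j L205349) rfl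
theorem L607960 : N24150 = N9842 := eqes L607959 (flp_j L121795)
theorem L607961 : N24150 = N9842 := eqc rfl L607960 rfl
theorem L607975 : sm gg N9842 = N35000 := trfs L607961 (flp_g L296742) rfl
theorem L607976 : N35000 = N6788 := eqes L607975 (flp_g L84142)
theorem L607977 : N35000 = N6788 := eqc rfl L607976 rfl
theorem L607992 : sm gj N6788 = N24022 := trfs L607977 L296744 rfl
theorem L607993 : N24022 = N9804 := eqes L607992 (flp_j L83832)
theorem L607994 : N24022 = N9804 := eqc rfl L607993 rfl
theorem L607995 : sm ga N9804 = N30101 := trfs L607994 L567541 rfl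
theorem L607996 : N30101 = N14228 := eqes L607995 (flp_a L121275)
theorem L607997 : N30101 = N14228 := eqc rfl L607996 rfl
theorem L608001 : sm gc N9804 = N16502 := trfs L607994 (flp_c L204280) rfl
theorem L608002 : N16502 = N14231 := eqes L608001 (flp_c L121303)
theorem L608003 : N16502 = N14231 := eqc rfl L608002 rfl
theorem L608013 : sm gg N9804 = N16504 := trfs L607994 L204282 rfl
theorem L608014 : N16504 = N14234 := eqes L608013 L121324
theorem L608015 : N16504 = N14234 := eqc rfl L608014 rfl
theorem L608019 : sm gi N9804 = N30120 := trfs L607994 L567543 rfl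
theorem L608020 : N30120 = N14219 := eqes L608019 (flp_i L121202)
theorem L608021 : N30120 = N14219 := eqc rfl L608020 rfl
theorem L608046 : sm gh N14219 = N43909 := trfs L608021 L371431 rfl
theorem L608047 : N43909 = N20680 := eqes L608046 L175799
theorem L608048 : N43909 = N20680 := eqc rfl L608047 rfl
theorem L608049 : sm ga N20680 = N30133 := trfs L608048 L371433 rfl
theorem L608050 : N30133 = N16497 := eqes L608049 L567504
theorem L608051 : N30133 = N16497 := eqc rfl L608050 rfl
theorem L608052 : sm gc N20680 = N30127 := trfs L608048 L371435 rfl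
theorem L608053 : N30127 = N30102 := eqes L608052 (flp_c L255273)
theorem L608054 : N30127 = N30102 := eqc rfl L608053 rfl
theorem L608055 : sm gg N20680 = N30121 := trfs L608048 L371437 rfl
theorem L608056 : N30121 = N30108 := eqes L608055 (flp_g L255327)
theorem L608057 : N30121 = N30108 := eqc rfl L608056 rfl
theorem L608073 : sm gf N30108 = N20690 := trfs L608057 L255440 rfl
theorem L608074 : N20690 = N43778 := eqes L608073 (flp_f L370263)
theorem L608075 : N43778 = N20690 := (eqc rfl L608074 rfl).symm
theorem L608098 : sm gh N20690 = N30031 := trfs L608075 (flp_h L370259) rfl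
theorem L608099 : N30031 = N14227 := eqes L608098 (flp_h L175889)
theorem L608100 : N30031 = N14227 := eqc rfl L608099 rfl
theorem L608110 : sm gd N14227 = N20632 := trfs L608100 L254631 rfl
theorem L608111 : N20632 = N10628 := eqes L608110 L121271
theorem L608112 : N20632 = N10628 := eqc rfl L608111 rfl
theorem L608118 : sm gg N14227 = N20630 := trfs L608100 (flp_g L254627) rfl
theorem L608119 : N20630 = N20638 := eqes L608118 (flp_g L175420)
theorem L608120 : N20638 = N20630 := (eqc rfl L608119 rfl).symm
theorem L608124 : sm gi N14227 = N20645 := trfs L608100 L254633 rfl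
theorem L608125 : N20645 = N11514 := eqes L608124 (flp_i L567466)
theorem L608126 : N20645 = N11514 := eqc rfl L608125 rfl
theorem L608136 : sm gd N11514 = N14198 := trfs L608126 L175479 rfl
theorem L608137 : N14198 = N7951 := eqes L608136 L98539
theorem L608138 : N14198 = N7951 := eqc rfl L608137 rfl
theorem L608144 : sm gg N11514 = N14196 := trfs L608126 (flp_g L175475) rfl
theorem L608145 : N14196 = N16725 := eqes L608144 (flp_g L142623)
theorem L608146 : N16725 = N14196 := (eqc rfl L608145 rfl).symm
theorem L608150 : sm gh N11514 = N30056 := trfs L608126 L254845 rfl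
theorem L608151 : N30056 = N16720 := eqes L608150 (flp_h L142587)
theorem L608152 : N30056 = N16720 := eqc rfl L608151 rfl
theorem L608156 : sm gb N16720 = N20652 := trfs L608152 L254847 rfl
theorem L608157 : N20652 = N24326 := eqes L608156 L206804
theorem L608158 : N24326 = N20652 := (eqc rfl L608157 rfl).symm
theorem L608166 : sm gf N16720 = N20704 := trfs L608152 L254849 rfl
theorem L608167 : N20704 = N24014 := eqes L608166 (flp_f L204209)
theorem L608168 : N24014 = N20704 := (eqc rfl L608167 rfl).symm
theorem L608169 : sm gg N16720 = N20646 := trfs L608152 L254851 rfl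
theorem L608170 : N20646 = N24323 := eqes L608169 (flp_g L206781)
theorem L608171 : N24323 = N20646 := (eqc rfl L608170 rfl).symm
theorem L608175 : sm gi N16720 = N43814 := trfs L608152 L370567 rfl
theorem L608176 : N43814 = N24328 := eqes L608175 L206820
theorem L608177 : N43814 = N24328 := eqc rfl L608176 rfl
theorem L608178 : sm gb N24328 = N30064 := trfs L608177 L370569 rfl
theorem L608179 : N30064 = N35434 := eqes L608178 (flp_b L300359)
theorem L608180 : N35434 = N30064 := (eqc rfl L608179 rfl).symm
theorem L608182 : sm gf N24328 = N30144 := trfs L608177 L370572 rfl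
theorem L608183 : N30144 = N34991 := eqes L608182 (flp_f L296667)
theorem L608184 : N34991 = N30144 := (eqc rfl L608183 rfl).symm
theorem L608185 : sm gg N24328 = N30057 := trfs L608177 L370574 rfl
theorem L608186 : N30057 = N35428 := eqes L608185 (flp_g L300312)
theorem L608187 : N35428 = N30057 := (eqc rfl L608186 rfl).symm
theorem L608188 : sm gc N30057 = N24325 := trfs L608187 L300309 rfl
theorem L608189 : N24325 = N43805 := eqes L608188 (flp_c L370497)
theorem L608190 : N43805 = N24325 := (eqc rfl L608189 rfl).symm
theorem L608197 : sm gc N24325 = N30057 := trfs L608190 L370497 rfl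
theorem L608199 : sm gf N24325 = N30052 := trfs L608190 L370499 rfl
theorem L608200 : N30052 = N35425 := eqes L608199 (flp_f L300286)
theorem L608201 : N35425 = N30052 := (eqc rfl L608200 rfl).symm
theorem L608203 : sm gi N24325 = N30050 := trfs L608190 (flp_i L370494) rfl
theorem L608204 : N30050 = N16718 := eqes L608203 (flp_i L206796)
theorem L608205 : N30050 = N16718 := eqc rfl L608204 rfl
theorem L608215 : sm ge N16718 = N43801 := trfs L608205 (flp_e L370463) rfl
theorem L608216 : N43801 = N24324 := eqes L608215 L206787
theorem L608217 : N43801 = N24324 := eqc rfl L608216 rfl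
theorem L608218 : sm gf N16718 = N20643 := trfs L608205 L254802 rfl
theorem L608219 : N20643 = N24321 := eqes L608218 (flp_f L206766)
theorem L608220 : N24321 = N20643 := (eqc rfl L608219 rfl).symm
theorem L608223 : sm gh N16718 = N20642 := trfs L608205 (flp_h L254797) rfl
theorem L608224 : N20642 = N11512 := eqes L608223 L142572
theorem L608225 : N20642 = N11512 := eqc rfl L608224 rfl
theorem L608232 : sm gd N11512 = N15378 := trfs L608225 L175458 rfl
theorem L608233 : N15378 = N7938 := eqes L608232 (flp_d L98518)
theorem L608234 : N15378 = N7938 := eqc rfl L608233 rfl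
theorem L608235 : sm ge N11512 = N30048 := trfs L608225 L254782 rfl
theorem L608236 : N30048 = N16726 := eqes L608235 L142628
theorem L608237 : N30048 = N16726 := eqc rfl L608236 rfl
theorem L608238 : sm gf N11512 = N14195 := trfs L608225 (flp_f L175453) rfl
theorem L608239 : N14195 = N16723 := eqes L608238 (flp_f L142608)
theorem L608240 : N16723 = N14195 := (eqc rfl L608239 rfl).symm
theorem L608243 : sm gi N11512 = N30028 := trfs L608225 (flp_i L254609) rfl
theorem L608244 : N30028 = N14193 := eqes L608243 (flp_i L593753)
theorem L608245 : N30028 = N14193 := eqc rfl L608244 rfl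
theorem L608258 : sm gf N14193 = N20629 := trfs L608245 (flp_f L254601) rfl
theorem L608259 : N20629 = N20639 := eqes L608258 L175425
theorem L608260 : N20639 = N20629 := (eqc rfl L608259 rfl).symm
theorem L608263 : sm gh N14193 = N43772 := trfs L608245 L370206 rfl
theorem L608264 : N43772 = N20640 := eqes L608263 L175433
theorem L608265 : N43772 = N20640 := eqc rfl L608264 rfl
theorem L608269 : sm gf N20640 = N30029 := trfs L608265 L370211 rfl
theorem L608270 : N30029 = N30045 := eqes L608269 (flp_f L254757)
theorem L608271 : N30045 = N30029 := (eqc rfl L608270 rfl).symm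
theorem L608278 : sm ge N30029 = N43795 := trfs L608271 (flp_e L370412) rfl
theorem L608279 : N43795 = N41693 := eqes L608278 (flp_e L352198)
theorem L608280 : N43795 = N41693 := eqc rfl L608279 rfl
theorem L608281 : sm gf N30029 = N20640 := trfs L608271 L254757 rfl
theorem L608296 : sm ga N41693 = N30054 := trfs L608280 L370409 rfl
theorem L608300 : sm gh N41693 = N30043 := trfs L608280 (flp_h L370407) rfl
theorem L608301 : N30043 = N28629 := eqes L608300 (flp_h L352193)
theorem L608302 : N30043 = N28629 := eqc rfl L608301 rfl
theorem L608303 : sm ga N28629 = N20644 := trfs L608302 L254738 rfl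
theorem L608304 : N20644 = N24336 := eqes L608303 (flp_a L531841)
theorem L608305 : N24336 = N20644 := (eqc rfl L608304 rfl).symm
theorem L608312 : sm gf N28629 = N41707 := trfs L608302 (flp_f L352339) rfl
theorem L608313 : N41707 = N41692 := eqes L608312 L352184
theorem L608314 : N41707 = N41692 := eqc rfl L608313 rfl
theorem L608319 : sm gi N28629 = N24333 := trfs L608302 L566047 rfl
theorem L608320 : N24333 = N19697 := eqes L608319 L242451
theorem L608321 : N24333 = N19697 := eqc rfl L608320 rfl
theorem L608322 : sm ga N19697 = N30030 := trfs L608321 L565915 rfl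
theorem L608323 : N30030 = N28638 := eqes L608322 (flp_a L242539)
theorem L608324 : N30030 = N28638 := eqc rfl L608323 rfl
theorem L608368 : sm gb N28638 = N20633 := trfs L608324 L254621 rfl
theorem L608369 : N20633 = N41704 := eqes L608368 L352303
theorem L608370 : N41704 = N20633 := (eqc rfl L608369 rfl).symm
theorem L608406 : sm gg N20633 = N28670 := trfs L608370 L352308 rfl
theorem L608407 : N28670 = N30035 := eqes L608406 L254665
theorem L608408 : N30035 = N28670 := (eqc rfl L608407 rfl).symm
theorem L608416 : sm gf N28670 = N43780 := trfs L608408 L370276 rfl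
theorem L608417 : N43780 = N41754 := eqes L608416 L352770
theorem L608418 : N43780 = N41754 := eqc rfl L608417 rfl
theorem L608427 : sm gi N28670 = N20649 := trfs L608408 L254672 rfl
theorem L608428 : N20649 = N24342 := eqes L608427 (flp_i L566613)
theorem L608429 : N24342 = N20649 := (eqc rfl L608428 rfl).symm
theorem L608445 : sm gh N20649 = N35433 := trfs L608429 (flp_h L300355) rfl
theorem L608446 : N35433 = N30060 := eqes L608445 L254877
theorem L608447 : N35433 = N30060 := eqc rfl L608446 rfl
theorem L608454 : sm gj N30060 = N24441 := trfs L608447 L300353 rfl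
theorem L608455 : N24441 = N43817 := eqes L608454 (flp_j L370600)
theorem L608456 : N43817 = N24441 := (eqc rfl L608455 rfl).symm
theorem L608459 : sm ge N24441 = N30063 := trfs L608456 L370597 rfl
theorem L608460 : N30063 = N16801 := eqes L608459 (flp_e L207751)
theorem L608461 : N30063 = N16801 := eqc rfl L608460 rfl
theorem L608476 : sm gh N16801 = N20651 := trfs L608461 (flp_h L254898) rfl
theorem L608477 : N20651 = N11570 := eqes L608476 L143254
theorem L608478 : N20651 = N11570 := eqc rfl L608477 rfl
theorem L608479 : sm gi N16801 = N43822 := trfs L608461 L370631 rfl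
theorem L608480 : N43822 = N24442 := eqes L608479 L207759
theorem L608481 : N43822 = N24442 := eqc rfl L608480 rfl
theorem L608485 : sm gf N24442 = N30152 := trfs L608481 L370636 rfl
theorem L608486 : N30152 = N35180 := eqes L608485 (flp_f L298258)
theorem L608487 : N35180 = N30152 := (eqc rfl L608486 rfl).symm
theorem L608491 : sm gb N30152 = N24146 := trfs L608487 L298254 rfl
theorem L608492 : N24146 = N43943 := eqes L608491 (flp_b L371722)
theorem L608493 : N43943 = N24146 := (eqc rfl L608492 rfl).symm
theorem L608502 : sm gg N24146 = N30273 := trfs L608493 L371725 rfl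
theorem L608503 : N30273 = N35174 := eqes L608502 (flp_g L298213)
theorem L608504 : N35174 = N30273 := (eqc rfl L608503 rfl).symm
theorem L608507 : sm gi N24146 = N30143 := trfs L608493 (flp_i L371720) rfl
theorem L608508 : N30143 = N16588 := eqes L608507 (flp_i L205319)
theorem L608509 : N30143 = N16588 := eqc rfl L608508 rfl
theorem L608517 : sm ge N16588 = N43938 := trfs L608509 (flp_e L371681) rfl
theorem L608518 : N43938 = N24145 := eqes L608517 L205313
theorem L608519 : N43938 = N24145 := eqc rfl L608518 rfl
theorem L608526 : sm gb N24145 = N30147 := trfs L608519 L371679 rfl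
theorem L608527 : N30147 = N35179 := eqes L608526 (flp_b L298247)
theorem L608528 : N35179 = N30147 := (eqc rfl L608527 rfl).symm
theorem L608529 : sm gg N24145 = N30268 := trfs L608519 L371683 rfl
theorem L608530 : N30268 = N35173 := eqes L608529 (flp_g L298203)
theorem L608531 : N35173 = N30268 := (eqc rfl L608530 rfl).symm
theorem L608532 : sm gj N24145 = N30140 := trfs L608519 L371685 rfl
theorem L608533 : N30140 = N34990 := eqes L608532 (flp_j L296658)
theorem L608534 : N34990 = N30140 := (eqc rfl L608533 rfl).symm
theorem L608535 : sm gh N24145 = N30139 := trfs L608519 (flp_h L371677) rfl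
theorem L608536 : N30139 = N16597 := eqes L608535 L205317
theorem L608537 : N30139 = N16597 := eqc rfl L608536 rfl
theorem L608539 : sm gb N16597 = N20707 := trfs L608537 L255590 rfl
theorem L608540 : N20707 = N24160 := eqes L608539 (flp_b L205422)
theorem L608541 : N24160 = N20707 := (eqc rfl L608540 rfl).symm
theorem L608543 : sm gd N16597 = N20864 := trfs L608537 L255592 rfl
theorem L608544 : N20864 = N23570 := eqes L608543 (flp_d L200510)
theorem L608545 : N23570 = N20864 := (eqc rfl L608544 rfl).symm
theorem L608547 : sm gf N16597 = N43936 := trfs L608537 (flp_f L371669) rfl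
theorem L608548 : N43936 = N24162 := eqes L608547 L205434
theorem L608549 : N43936 = N24162 := eqc rfl L608548 rfl
theorem L608552 : sm gj N16597 = N20701 := trfs L608537 (flp_j L255588) rfl
theorem L608553 : N20701 = N24026 := eqes L608552 (flp_j L204313)
theorem L608554 : N24026 = N20701 := (eqc rfl L608553 rfl).symm
theorem L608555 : sm gi N16597 = N43886 := trfs L608537 (flp_i L371236) rfl
theorem L608556 : N43886 = N20767 := eqes L608555 (flp_i L567615)
theorem L608557 : N43886 = N20767 := eqc rfl L608556 rfl
theorem L608561 : sm gd N20767 = N30332 := trfs L608557 L371232 rfl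
theorem L608562 : N30332 = N30235 := eqes L608561 L256382
theorem L608563 : N30332 = N30235 := eqc rfl L608562 rfl
theorem L608567 : sm gj N20767 = N30105 := trfs L608557 (flp_j L371228) rfl
theorem L608568 : N30105 = N30119 := eqes L608567 (flp_j L255424)
theorem L608569 : N30119 = N30105 := (eqc rfl L608568 rfl).symm
theorem L608570 : sm ga N30105 = N20696 := trfs L608569 L255420 rfl
theorem L608571 : N20696 = N24023 := eqes L608570 L567566
theorem L608572 : N24023 = N20696 := (eqc rfl L608571 rfl).symm
theorem L608576 : sm gc N30105 = N20691 := trfs L608569 L255422 rfl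
theorem L608577 : N20691 = N43877 := eqes L608576 (flp_c L371153)
theorem L608578 : N43877 = N20691 := (eqc rfl L608577 rfl).symm
theorem L608579 : sm gd N30105 = N43905 := trfs L608569 L371393 rfl
theorem L608580 : N43905 = N20830 := eqes L608579 L255299
theorem L608581 : N43905 = N20830 := eqc rfl L608580 rfl
theorem L608583 : sm gf N30105 = N41756 := trfs L608569 (flp_f L352797) rfl
theorem L608584 : N41756 = N43885 := eqes L608583 L371220
theorem L608585 : N43885 = N41756 := (eqc rfl L608584 rfl).symm
theorem L608597 : sm gi N41756 = N30138 := trfs L608585 L371226 rfl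
theorem L608599 : sm ga N20830 = N30129 := trfs L608581 L371395 rfl
theorem L608600 : N30129 = N16509 := eqes L608599 L592063
theorem L608601 : N30129 = N16509 := eqc rfl L608600 rfl
theorem L608602 : sm gc N20830 = N30351 := trfs L608581 L371399 rfl
theorem L608603 : N30351 = N30323 := eqes L608602 (flp_c L257145)
theorem L608604 : N30351 = N30323 := eqc rfl L608603 rfl
theorem L608605 : sm ge N20830 = N32731 := trfs L608581 L371401 rfl
theorem L608606 : N32731 = N14320 := eqes L608605 L177079
theorem L608607 : N32731 = N14320 := eqc rfl L608606 rfl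
theorem L608614 : sm gj N14320 = N22624 := trfs L608607 L277463 rfl
theorem L608615 : N22624 = N20832 := eqes L608614 L177091
theorem L608616 : N22624 = N20832 := eqc rfl L608615 rfl
theorem L608617 : sm gi N14320 = N23379 := trfs L608607 L576834 rfl
theorem L608618 : N23379 = N9876 := eqes L608617 L122052
theorem L608619 : N23379 = N9876 := eqc rfl L608618 rfl
theorem L608630 : sm gg N9876 = N34083 := trfs L608619 (flp_g L289214) rfl
theorem L608631 : N34083 = N6811 := eqes L608630 (flp_g L84448)
theorem L608632 : N34083 = N6811 := eqc rfl L608631 rfl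
theorem L608644 : sm gd N6811 = N23398 := trfs L608632 L289216 rfl
theorem L608645 : N23398 = N4709 := eqes L608644 L58463
theorem L608646 : N23398 = N4709 := eqc rfl L608645 rfl
theorem L608663 : sm gi N4709 = N32732 := trfs L608646 (flp_i L566296) rfl
theorem L608664 : N32732 = N6803 := eqes L608663 (flp_i L58391)
theorem L608665 : N32732 = N6803 := eqc rfl L608664 rfl
theorem L608667 : sm gc N6803 = N22474 := trfs L608665 L277471 rfl
theorem L608668 : N22474 = N5113 := eqes L608667 L58387
theorem L608669 : N22474 = N5113 := eqc rfl L608668 rfl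
theorem L608680 : sm gj N5113 = N32741 := trfs L608669 L277547 rfl
theorem L608681 : N32741 = N3558 := eqes L608680 L44054
theorem L608682 : N32741 = N3558 := eqc rfl L608681 rfl
theorem L608727 : sm gi N3558 = N23396 := trfs L608682 L473514 rfl
theorem L608728 : N23396 = N2471 := eqes L608727 L30825
theorem L608729 : N23396 = N2471 := eqc rfl L608728 rfl
theorem L608737 : sm gf N2471 = N34105 := trfs L608729 (flp_f L289381) rfl
theorem L608738 : N34105 = N1716 := eqes L608737 (flp_f L21515)
theorem L608739 : N34105 = N1716 := eqc rfl L608738 rfl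
theorem L608743 : sm gb N1716 = N23404 := trfs L608739 L289379 rfl
theorem L608744 : N23404 = N1195 := eqes L608743 L15021
theorem L608745 : N23404 = N1195 := eqc rfl L608744 rfl
theorem L608765 : sm gi N1195 = N34122 := trfs L608745 L289536 rfl
theorem L608766 : N34122 = N1713 := eqes L608765 (flp_i L15001)
theorem L608767 : N34122 = N1713 := eqc rfl L608766 rfl
theorem L608771 : sm gj N1713 = N23408 := trfs L608767 L289544 rfl
theorem L608772 : N23408 = N2452 := eqes L608771 (flp_j L21349)
theorem L608773 : N23408 = N2452 := eqc rfl L608772 rfl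
theorem L608787 : sm gh N2452 = N34127 := trfs L608773 L289581 rfl
theorem L608788 : N34127 = N2030 := eqes L608787 (flp_h L511643)
theorem L608789 : N34127 = N2030 := eqc rfl L608788 rfl
theorem L608791 : sm ga N2030 = N24865 := trfs L608789 (flp_a L597247) rfl
theorem L608792 : N24865 = N1411 := eqes L608791 L17650
theorem L608793 : N24865 = N1411 := eqc rfl L608792 rfl
theorem L608809 : sm gj N1411 = N36221 := trfs L608793 (flp_j L306960) rfl
theorem L608810 : N36221 = N987 := eqes L608809 L12335
theorem L608811 : N36221 = N987 := eqc rfl L608810 rfl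
theorem L608815 : sm gf N987 = N24866 := trfs L608811 L306958 rfl
theorem L608816 : N24866 = N1420 := eqes L608815 L12406
theorem L608817 : N24866 = N1420 := eqc rfl L608816 rfl
theorem L608835 : sm gh N1420 = N17092 := trfs L608817 (flp_h L211335) rfl
theorem L608836 : N17092 = N1911 := eqes L608835 (flp_h L583549)
theorem L608837 : N17092 = N1911 := eqc rfl L608836 rfl
theorem L608845 : sm ge N1911 = N11763 := trfs L608837 L145717 rfl
theorem L608846 : N11763 = N2710 := eqes L608845 (flp_e L23614)
theorem L608847 : N11763 = N2710 := eqc rfl L608846 rfl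
theorem L608864 : sm gb N2710 = N8115 := trfs L608847 L100628 rfl
theorem L608865 : N8115 = N2053 := eqes L608864 (flp_b L598010)
theorem L608866 : N8115 = N2053 := eqc rfl L608865 rfl
theorem L608881 : sm gg N2053 = N5665 := trfs L608866 L69706 rfl
theorem L608882 : N5665 = N2958 := eqes L608881 (flp_g L25595)
theorem L608883 : N5665 = N2958 := eqc rfl L608882 rfl
theorem L608890 : sm gi N2053 = N11745 := trfs L608866 (flp_i L100486) rfl
theorem L608891 : N11745 = N2714 := eqes L608890 (flp_i L598044)
theorem L608892 : N11745 = N2714 := eqc rfl L608891 rfl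
theorem L608901 : sm gg N2714 = N8181 := trfs L608892 L100488 rfl
theorem L608902 : N8181 = N3916 := eqes L608901 L33921
theorem L608903 : N8181 = N3916 := eqc rfl L608902 rfl
theorem L608904 : sm gj N2714 = N8098 := trfs L608892 (flp_j L100481) rfl
theorem L608905 : N8098 = N3877 := eqes L608904 (flp_j L33626)
theorem L608906 : N8098 = N3877 := eqc rfl L608905 rfl
theorem L608911 : sm gd N3877 = N5595 := trfs L608906 L69567 rfl
theorem L608912 : N5595 = N5600 := eqes L608911 (flp_d L48324)
theorem L608913 : N5600 = N5595 := (eqc rfl L608912 rfl).symm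
theorem L608915 : sm gf N3877 = N11662 := trfs L608906 (flp_f L99778) rfl
theorem L608916 : N11662 = N2688 := eqes L608915 (flp_f L33621)
theorem L608917 : N11662 = N2688 := eqc rfl L608916 rfl
theorem L608936 : sm gi N2688 = N8054 := trfs L608917 L99776 rfl
theorem L608937 : N8054 = N2084 := eqes L608936 L598057
theorem L608938 : N8054 = N2084 := eqc rfl L608937 rfl
theorem L608951 : sm gh N2084 = N11680 := trfs L608938 L99918 rfl
theorem L608952 : N11680 = N1448 := eqes L608951 (flp_h L18100)
theorem L608953 : N11680 = N1448 := eqc rfl L608952 rfl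
theorem L608967 : sm gj N1448 = N16967 := trfs L608953 (flp_j L144649) rfl
theorem L608968 : N16967 = N1016 := eqes L608967 L12639
theorem L608969 : N16967 = N1016 := eqc rfl L608968 rfl
theorem L608977 : sm ge N1016 = N24672 := trfs L608969 (flp_e L209684) rfl
theorem L608978 : N24672 = N704 := eqes L608977 (flp_e L8896)
theorem L608979 : N24672 = N704 := eqc rfl L608978 rfl
theorem L608999 : sm gh N704 = N16963 := trfs L608979 (flp_h L209681) rfl
theorem L609000 : N16963 = N1017 := eqes L608999 L8902
theorem L609001 : N16963 = N1017 := eqc rfl L609000 rfl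
theorem L609015 : sm gi N1017 = N24636 := trfs L609001 (flp_i L209388) rfl
theorem L609016 : N24636 = N1312 := eqes L609015 L597599
theorem L609017 : N24636 = N1312 := eqc rfl L609016 rfl
theorem L609025 : sm gf N1312 = N35875 := trfs L609017 (flp_f L304010) rfl
theorem L609026 : N35875 = N926 := eqes L609025 L11545
theorem L609027 : N35875 = N926 := eqc rfl L609026 rfl
theorem L609037 : sm gj N926 = N24635 := trfs L609027 (flp_j L304004) rfl
theorem L609038 : N24635 = N1320 := eqes L609037 (flp_j L11614)
theorem L609039 : N24635 = N1320 := eqc rfl L609038 rfl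
theorem L609052 : sm gi N1320 = N16962 := trfs L609039 L209377 rfl
theorem L609053 : N16962 = N1009 := eqes L609052 L598089
theorem L609054 : N16962 = N1009 := eqc rfl L609053 rfl
theorem L609065 : sm gh N1009 = N24671 := trfs L609054 L209673 rfl
theorem L609066 : N24671 = N698 := eqes L609065 (flp_h L8840)
theorem L609067 : N24671 = N698 := eqc rfl L609066 rfl
theorem L609071 : sm gd N698 = N35929 := trfs L609067 L304456 rfl
theorem L609072 : N35929 = N481 := eqes L609071 (flp_d L6130)
theorem L609073 : N35929 = N481 := eqc rfl L609072 rfl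
theorem L609079 : sm gf N481 = N24673 := trfs L609073 L304458 rfl
theorem L609080 : N24673 = N699 := eqes L609079 L6137
theorem L609081 : N24673 = N699 := eqc rfl L609080 rfl
theorem L609095 : sm gg N699 = N16965 := trfs L609081 L209691 rfl
theorem L609096 : N16965 = N1010 := eqes L609095 L8847
theorem L609097 : N16965 = N1010 := eqc rfl L609096 rfl
theorem L609110 : sm gd N1010 = N11678 := trfs L609097 (flp_d L144630) rfl
theorem L609111 : N11678 = N1449 := eqes L609110 (flp_d L12646)
theorem L609112 : N11678 = N1449 := eqc rfl L609111 rfl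
theorem L609127 : sm gh N1449 = N8053 := trfs L609112 (flp_h L99903) rfl
theorem L609128 : N8053 = N2085 := eqes L609127 L18107
theorem L609129 : N8053 = N2085 := eqc rfl L609128 rfl
theorem L609141 : sm gi N2085 = N11661 := trfs L609129 (flp_i L99767) rfl
theorem L609142 : N11661 = N2671 := eqes L609141 (flp_i L597700)
theorem L609143 : N11661 = N2671 := eqc rfl L609142 rfl
theorem L609144 : sm ga N2671 = N15369 := trfs L609143 (flp_a L130883) rfl
theorem L609145 : N15369 = N3807 := eqes L609144 L597693
theorem L609146 : N15369 = N3807 := eqc rfl L609145 rfl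
theorem L609160 : sm ge N3807 = N10579 := trfs L609146 (flp_e L130881) rfl
theorem L609161 : N10579 = N5497 := eqes L609160 (flp_e L47442)
theorem L609162 : N10579 = N5497 := eqc rfl L609161 rfl
theorem L609164 : sm gg N3807 = N22359 := trfs L609146 L189914 rfl
theorem L609165 : N22359 = N2640 := eqes L609164 L33021
theorem L609166 : N22359 = N2640 := eqc rfl L609165 rfl
theorem L609180 : sm gi N2640 = N15385 := trfs L609166 L189922 rfl
theorem L609181 : N15385 = N1834 := eqes L609180 (flp_i L23015)
theorem L609182 : N15385 = N1834 := eqc rfl L609181 rfl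
theorem L609193 : sm gh N1834 = N22384 := trfs L609182 L190138 rfl
theorem L609194 : N22384 = N1275 := eqes L609193 (flp_h L16070)
theorem L609195 : N22384 = N1275 := eqc rfl L609194 rfl
theorem L609197 : sm gb N1275 = N32597 := trfs L609195 (flp_b L276205) rfl
theorem L609198 : N32597 = N1829 := eqes L609197 (flp_b L16026)
theorem L609199 : N32597 = N1829 := eqc rfl L609198 rfl
theorem L609208 : sm gg N1829 = N22378 := trfs L609199 L276209 rfl
theorem L609209 : N22378 = N2634 := eqes L609208 L22959
theorem L609210 : N22378 = N2634 := eqc rfl L609209 rfl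
theorem L609227 : sm gh N2634 = N15380 := trfs L609210 (flp_h L190086) rfl
theorem L609228 : N15380 = N3801 := eqes L609227 L32958
theorem L609229 : N15380 = N3801 := eqc rfl L609228 rfl
theorem L609239 : sm ge N3801 = N10586 := trfs L609229 (flp_e L130986) rfl
theorem L609240 : N10586 = N5491 := eqes L609239 (flp_e L47387)
theorem L609241 : N10586 = N5491 := eqc rfl L609240 rfl
theorem L609249 : sm gb N5491 = N7303 := trfs L609241 L90428 rfl
theorem L609250 : N7303 = N3804 := eqes L609249 L47385
theorem L609251 : N7303 = N3804 := eqc rfl L609250 rfl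
theorem L609253 : sm gd N5491 = N7302 := trfs L609241 L90430 rfl
theorem L609254 : N7302 = N7949 := eqes L609253 L68301
theorem L609255 : N7949 = N7302 := (eqc rfl L609254 rfl).symm
theorem L609261 : sm gi N5491 = N15366 := trfs L609241 (flp_i L130862) rfl
theorem L609262 : N15366 = N7300 := eqes L609261 (flp_i L594295)
theorem L609263 : N15366 = N7300 := eqc rfl L609262 rfl
theorem L609269 : sm gd N7300 = N10578 := trfs L609263 L130859 rfl
theorem L609270 : N10578 = N10583 := eqes L609269 L90400
theorem L609271 : N10583 = N10578 := (eqc rfl L609270 rfl).symm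
theorem L609280 : sm gb N10578 = N7956 := trfs L609271 (flp_b L588651) rfl
theorem L609281 : N7956 = N7298 := eqes L609280 L90353
theorem L609282 : N7956 = N7298 := eqc rfl L609281 rfl
theorem L609283 : sm gc N10578 = N15374 := trfs L609271 L130933 rfl
theorem L609284 : N15374 = N14188 := eqes L609283 (flp_c L120907)
theorem L609285 : N15374 = N14188 := eqc rfl L609284 rfl
theorem L609286 : sm gd N10578 = N7300 := trfs L609271 (flp_d L90400) rfl
theorem L609293 : sm gh N10578 = N15376 := trfs L609271 L130950 rfl
theorem L609294 : N15376 = N7930 := eqes L609293 (flp_h L471631)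
theorem L609295 : N15376 = N7930 := eqc rfl L609294 rfl
theorem L609300 : sm gb N7930 = N11537 := trfs L609295 (flp_b L588614) rfl
theorem L609301 : N11537 = N6223 := eqes L609300 L68133
theorem L609302 : N11537 = N6223 := eqc rfl L609301 rfl
theorem L609303 : sm gc N7930 = N22366 := trfs L609295 (flp_c L189984) rfl
theorem L609304 : N22366 = N11491 := eqes L609303 (flp_c L98325)
theorem L609305 : N22366 = N11491 := eqc rfl L609304 rfl
theorem L609311 : sm gg N7930 = N10630 := trfs L609295 L130957 rfl
theorem L609312 : N10630 = N11342 := eqes L609311 (flp_g L97059)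
theorem L609313 : N11342 = N10630 := (eqc rfl L609312 rfl).symm
theorem L609327 : sm gg N10630 = N7930 := trfs L609313 L97059 rfl
theorem L609329 : sm gj N10630 = N16486 := trfs L609313 L140598 rfl
theorem L609330 : N16486 = N7376 := eqes L609329 L90855
theorem L609331 : N16486 = N7376 := eqc rfl L609330 rfl
theorem L609343 : sm gh N7376 = N22358 := trfs L609331 (flp_h L471554) rfl
theorem L609344 : N22358 = N5092 := eqes L609343 (flp_h L63276)
theorem L609345 : N22358 = N5092 := eqc rfl L609344 rfl
theorem L609349 : sm gc N5092 = N30034 := trfs L609345 (flp_c L254657) rfl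
theorem L609350 : N30034 = N7374 := eqes L609349 L63262
theorem L609351 : N30034 = N7374 := eqc rfl L609350 rfl
theorem L609366 : sm gf N7374 = N20682 := trfs L609351 L254660 rfl
theorem L609367 : N20682 = N10696 := eqes L609366 L91417
theorem L609368 : N20682 = N10696 := eqc rfl L609367 rfl
theorem L609372 : sm gi N7374 = N20648 := trfs L609351 L254662 rfl
theorem L609373 : N20648 = N5520 := eqes L609372 L566673
theorem L609374 : N20648 = N5520 := eqc rfl L609373 rfl
theorem L609376 : sm gb N5520 = N14203 := trfs L609374 L175501 rfl
theorem L609377 : N14203 = N7988 := eqes L609376 L68618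
theorem L609378 : N14203 = N7988 := eqc rfl L609377 rfl
theorem L609382 : sm gf N5520 = N14237 := trfs L609374 L175506 rfl
theorem L609383 : N14237 = N7881 := eqes L609382 (flp_f L67713)
theorem L609384 : N14237 = N7881 := eqc rfl L609383 rfl
theorem L609389 : sm gb N7881 = N9811 := trfs L609384 L121348 rfl
theorem L609390 : N9811 = N11436 := eqes L609389 L97869
theorem L609391 : N11436 = N9811 := (eqc rfl L609390 rfl).symm
theorem L609394 : sm ge N7881 = N9879 := trfs L609384 L121352 rfl
theorem L609395 : N9879 = N11134 := eqes L609394 (flp_e L95282)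
theorem L609396 : N11134 = N9879 := (eqc rfl L609395 rfl).symm
theorem L609399 : sm gj N7881 = N9806 := trfs L609384 (flp_j L121346) rfl
theorem L609400 : N9806 = N11369 := eqes L609399 (flp_j L97302)
theorem L609401 : N11369 = N9806 := (eqc rfl L609400 rfl).symm
theorem L609414 : sm gj N9806 = N7881 := trfs L609401 L97302 rfl
theorem L609417 : sm gi N9806 = N15442 := trfs L609401 (flp_i L485518) rfl
theorem L609418 : N15442 = N14221 := eqes L609417 (flp_i L121218)
theorem L609419 : N15442 = N14221 := eqc rfl L609418 rfl
theorem L609433 : sm gh N14221 = N22471 := trfs L609419 L190962 rfl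
theorem L609434 : N22471 = N11334 := eqes L609433 (flp_h L592827)
theorem L609435 : N22471 = N11334 := eqc rfl L609434 rfl
theorem L609450 : sm gj N11334 = N15548 := trfs L609435 L190970 rfl
theorem L609451 : N15548 = N16474 := eqes L609450 L140485
theorem L609452 : N16474 = N15548 := (eqc rfl L609451 rfl).symm
theorem L609465 : sm gg N15548 = N11394 := trfs L609452 L140494 rfl
theorem L609466 : N11394 = N22628 := eqes L609465 (flp_g L192309)
theorem L609467 : N22628 = N11394 := (eqc rfl L609466 rfl).symm
theorem L609472 : sm ga N11394 = N15560 := trfs L609467 L192304 rfl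
theorem L609473 : N15560 = N7866 := eqes L609472 L97533
theorem L609474 : N15560 = N7866 := eqc rfl L609473 rfl
theorem L609486 : sm gg N11394 = N15548 := trfs L609467 L192309 rfl
theorem L609488 : sm gj N11394 = N32973 := trfs L609467 (flp_j L279522) rfl
theorem L609489 : N32973 = N7850 := eqes L609488 (flp_j L97531)
theorem L609490 : N32973 = N7850 := eqc rfl L609489 rfl
theorem L609496 : sm gh N7850 = N22627 := trfs L609490 (flp_h L279515) rfl
theorem L609497 : N22627 = N9829 := eqes L609496 (flp_h L538255)
theorem L609498 : N22627 = N9829 := eqc rfl L609497 rfl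
theorem L609510 : sm gg N9829 = N32734 := trfs L609498 (flp_g L277492) rfl
theorem L609511 : N32734 = N6780 := eqes L609510 (flp_g L84040)
theorem L609512 : N32734 = N6780 := eqc rfl L609511 rfl
theorem L609515 : sm ga N6780 = N22482 := trfs L609512 L277488 rfl
theorem L609516 : N22482 = N5431 := eqes L609515 (flp_a L593836)
theorem L609517 : N22482 = N5431 := eqc rfl L609516 rfl
theorem L609530 : sm gf N5431 = N32589 := trfs L609517 (flp_f L276143) rfl
theorem L609531 : N32589 = N3817 := eqes L609530 L46868
theorem L609532 : N32589 = N3817 := eqc rfl L609531 rfl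
theorem L609551 : sm gj N3817 = N22373 := trfs L609532 (flp_j L276138) rfl
theorem L609552 : N22373 = N5484 := eqes L609551 (flp_j L47328)
theorem L609553 : N22373 = N5484 := eqc rfl L609552 rfl
theorem L609568 : sm gi N5484 = N32558 := trfs L609553 (flp_i L275859) rfl
theorem L609569 : N32558 = N6763 := eqes L609568 L593782
theorem L609570 : N32558 = N6763 := eqc rfl L609569 rfl
theorem L609571 : sm ga N6763 = N24045 := trfs L609570 L531053 rfl
theorem L609572 : N24045 = N4678 := eqes L609571 L58034
theorem L609573 : N24045 = N4678 := eqc rfl L609572 rfl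
theorem L609589 : sm gg N4678 = N16744 := trfs L609573 L204464 rfl
theorem L609590 : N16744 = N6749 := eqes L609589 (flp_g L57899)
theorem L609591 : N16744 = N6749 := eqc rfl L609590 rfl
theorem L609615 : sm gi N6749 = N22365 := trfs L609591 (flp_i L566111) rfl
theorem L609616 : N22365 = N9775 := eqes L609615 (flp_i L83555)
theorem L609617 : N22365 = N9775 := eqc rfl L609616 rfl
theorem L609630 : sm gh N9775 = N32578 := trfs L609617 L276038 rfl
theorem L609631 : N32578 = N7923 := eqes L609630 L593741
theorem L609632 : N32578 = N7923 := eqc rfl L609631 rfl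
theorem L609633 : sm ga N7923 = N22374 := trfs L609632 L276040 rfl
theorem L609634 : N22374 = N5483 := eqes L609633 L68061
theorem L609635 : N22374 = N5483 := eqc rfl L609634 rfl
theorem L609646 : sm gf N5483 = N15379 := trfs L609635 L190060 rfl
theorem L609647 : N15379 = N7937 := eqes L609646 L68199
theorem L609648 : N15379 = N7937 := eqc rfl L609647 rfl
theorem L609656 : sm gd N7937 = N22375 := trfs L609648 L190063 rfl
theorem L609657 : N22375 = N11507 := eqes L609656 (flp_d L98482)
theorem L609658 : N22375 = N11507 := eqc rfl L609657 rfl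
theorem L609660 : sm gg N7937 = N10633 := trfs L609648 L130983 rfl
theorem L609661 : N10633 = N11351 := eqes L609660 (flp_g L97150)
theorem L609662 : N11351 = N10633 := (eqc rfl L609661 rfl).symm
theorem L609664 : sm gh N7937 = N10585 := trfs L609648 (flp_h L130977) rfl
theorem L609665 : N10585 = N11511 := eqes L609664 L98509
theorem L609666 : N11511 = N10585 := (eqc rfl L609665 rfl).symm
theorem L609678 : sm gh N10585 = N7937 := trfs L609666 (flp_h L98509) rfl
theorem L609680 : sm gi N10585 = N14194 := trfs L609666 (flp_i L593748) rfl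
theorem L609681 : N14194 = N15365 := eqes L609680 (flp_i L130852)
theorem L609682 : N15365 = N14194 := (eqc rfl L609681 rfl).symm
theorem L609695 : sm gi N14194 = N10585 := trfs L609682 L130852 rfl
theorem L609700 : sm gd N10633 = N16494 := trfs L609662 (flp_d L140690) rfl
theorem L609701 : N16494 = N15452 := eqes L609700 L131662
theorem L609702 : N16494 = N15452 := eqc rfl L609701 rfl
theorem L609706 : sm gg N10633 = N7937 := trfs L609662 L97150 rfl
theorem L609708 : sm gj N10633 = N16499 := trfs L609662 L140728 rfl
theorem L609709 : N16499 = N7379 := eqes L609708 L90880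
theorem L609710 : N16499 = N7379 := eqc rfl L609709 rfl
theorem L609716 : sm gd N7379 = N24009 := trfs L609710 (flp_d L204171) rfl
theorem L609717 : N24009 = N10706 := eqes L609716 L91496
theorem L609718 : N24009 = N10706 := eqc rfl L609717 rfl
theorem L609732 : sm gf N10706 = N16495 := trfs L609718 L204173 rfl
theorem L609733 : N16495 = N15561 := eqes L609732 (flp_f L132588)
theorem L609734 : N16495 = N15561 := eqc rfl L609733 rfl
theorem L609737 : sm gh N10706 = N34981 := trfs L609718 L296578 rfl
theorem L609738 : N34981 = N14288 := eqes L609737 (flp_h L121773)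
theorem L609739 : N34981 = N14288 := eqc rfl L609738 rfl
theorem L609747 : sm gj N14288 = N24010 := trfs L609739 L296585 rfl
theorem L609748 : N24010 = N20699 := eqes L609747 (flp_j L175969)
theorem L609749 : N24010 = N20699 := eqc rfl L609748 rfl
theorem L609764 : sm gg N20699 = N16717 := trfs L609749 L204183 rfl
theorem L609765 : N16717 = N30051 := eqes L609764 (flp_g L254808)
theorem L609766 : N30051 = N16717 := (eqc rfl L609765 rfl).symm
theorem L609768 : sm gi N20699 = N34983 := trfs L609749 L296596 rfl
theorem L609769 : N34983 = N30137 := eqes L609768 L255574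
theorem L609770 : N34983 = N30137 := eqc rfl L609769 rfl
theorem L609773 : sm gf N30137 = N24013 := trfs L609770 L296600 rfl
theorem L609774 : N24013 = N43932 := eqes L609773 (flp_f L371635)
theorem L609775 : N43932 = N24013 := (eqc rfl L609774 rfl).symm
theorem L609776 : sm gg N30137 = N24322 := trfs L609770 L296602 rfl
theorem L609777 : N24322 = N43807 := eqes L609776 (flp_g L370517)
theorem L609778 : N43807 = N24322 := (eqc rfl L609777 rfl).symm
theorem L609784 : sm gg N24322 = N30137 := trfs L609778 L370517 rfl
theorem L609790 : sm gd N24013 = N30135 := trfs L609775 L371633 rfl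
theorem L609791 : N30135 = N34988 := eqes L609790 (flp_d L296640)
theorem L609792 : N34988 = N30135 := (eqc rfl L609791 rfl).symm
theorem L609795 : sm gj N24013 = N30262 := trfs L609775 L371637 rfl
theorem L609796 : N30262 = N34985 := eqes L609795 (flp_j L296620)
theorem L609797 : N34985 = N30262 := (eqc rfl L609796 rfl).symm
theorem L609801 : sm gg N30262 = N24140 := trfs L609797 L296618 rfl
theorem L609802 : N24140 = N44120 := eqes L609801 (flp_g L373179)
theorem L609803 : N44120 = N24140 := (eqc rfl L609802 rfl).symm
theorem L609810 : sm gd N24140 = N30260 := trfs L609803 L373176 rfl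
theorem L609811 : N30260 = N35171 := eqes L609810 (flp_d L298185)
theorem L609812 : N35171 = N30260 := (eqc rfl L609811 rfl).symm
theorem L609814 : sm gg N24140 = N30262 := trfs L609803 L373179 rfl
theorem L609816 : sm gi N24140 = N30259 := trfs L609803 (flp_i L373172) rfl
theorem L609817 : N30259 = N16585 := eqes L609816 (flp_i L205274)
theorem L609818 : N30259 = N16585 := eqc rfl L609817 rfl
theorem L609833 : sm gh N16585 = N22648 := trfs L609818 L256579 rfl
theorem L609834 : N22648 = N11412 := eqes L609833 (flp_h L141478)
theorem L609835 : N22648 = N11412 := eqc rfl L609834 rfl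
theorem L609840 : sm ge N11412 = N33004 := trfs L609835 L279761 rfl
theorem L609841 : N33004 = N15088 := eqes L609840 (flp_e L128512)
theorem L609842 : N33004 = N15088 := eqc rfl L609841 rfl
theorem L609857 : sm gg N15088 = N22650 := trfs L609842 L279765 rfl
theorem L609858 : N22650 = N21863 := eqes L609857 (flp_g L185717)
theorem L609859 : N22650 = N21863 := eqc rfl L609858 rfl
theorem L609875 : sm gh N21863 = N30261 := trfs L609859 (flp_h L256593) rfl
theorem L609876 : N30261 = N31858 := eqes L609875 L269928
theorem L609877 : N31858 = N30261 := (eqc rfl L609876 rfl).symm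
theorem L609884 : sm gj N30261 = N21864 := trfs L609877 L269936 rfl
theorem L609885 : N21864 = N43931 := eqes L609884 (flp_j L371625)
theorem L609886 : N43931 = N21864 := (eqc rfl L609885 rfl).symm
theorem L609892 : sm gj N21864 = N30261 := trfs L609886 L371625 rfl
theorem L609965 : sm gd N30260 = N24140 := trfs L609812 L298185 rfl
theorem L609968 : sm gj N30260 = N24143 := trfs L609812 L298188 rfl
theorem L609972 : sm gd N30135 = N24013 := trfs L609792 L296640 rfl
theorem L609974 : sm gg N30135 = N24016 := trfs L609792 L296642 rfl
theorem L609975 : N24016 = N43930 := eqes L609974 (flp_g L371619)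
theorem L609976 : N43930 = N24016 := (eqc rfl L609975 rfl).symm
theorem L609981 : sm gg N24016 = N30135 := trfs L609976 L371619 rfl
theorem L609991 : sm ge N16717 = N43806 := trfs L609766 L370502 rfl
theorem L609992 : N43806 = N24320 := eqes L609991 (flp_e L206759)
theorem L609993 : N43806 = N24320 := eqc rfl L609992 rfl
theorem L610004 : sm gh N24320 = N32593 := trfs L609993 L370509 rfl
theorem L610005 : N32593 = N16716 := eqes L610004 (flp_h L206755)
theorem L610006 : N32593 = N16716 := eqc rfl L610005 rfl
theorem L610011 : sm gg N16716 = N22486 := trfs L610006 L276174 rfl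
theorem L610012 : N22486 = N24008 := eqes L610011 (flp_g L204163)
theorem L610013 : N24008 = N22486 := (eqc rfl L610012 rfl).symm
theorem L610015 : sm ga N22486 = N34931 := trfs L610013 (flp_a L296112) rfl
theorem L610016 : N34931 = N32738 := eqes L610015 (flp_a L277523)
theorem L610017 : N34931 = N32738 := eqc rfl L610016 rfl
theorem L610041 : sm ge N32738 = N23975 := trfs L610017 (flp_e L296110) rfl
theorem L610042 : N23975 = N22472 := eqes L610041 (flp_e L277521)
theorem L610043 : N23975 = N22472 := eqc rfl L610042 rfl
theorem L610048 : sm gb N22472 = N30020 := trfs L610043 (flp_b L537993) rfl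
theorem L610049 : N30020 = N32729 := eqes L610048 (flp_b L277444)
theorem L610050 : N32729 = N30020 := (eqc rfl L610049 rfl).symm
theorem L610075 : sm gj N30020 = N22622 := trfs L610050 L277446 rfl
theorem L610076 : N22622 = N43759 := eqes L610075 L370078
theorem L610077 : N43759 = N22622 := (eqc rfl L610076 rfl).symm
theorem L610092 : sm gf N22622 = N30089 := trfs L610077 L370083 rfl
theorem L610093 : N30089 = N32961 := eqes L610092 (flp_f L279427)
theorem L610094 : N32961 = N30089 := (eqc rfl L610093 rfl).symm
theorem L610105 : sm gh N30089 = N44076 := trfs L610094 (flp_h L372831) rfl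
theorem L610106 : N44076 = N43862 := eqes L610105 L371005
theorem L610107 : N44076 = N43862 := eqc rfl L610106 rfl
theorem L610112 : sm gd N43862 = N30232 := trfs L610107 (flp_d L372824) rfl
theorem L610113 : N30232 = N30115 := eqes L610112 L371012
theorem L610114 : N30232 = N30115 := eqc rfl L610113 rfl
theorem L610129 : sm gh N30115 = N20765 := trfs L610114 (flp_h L256359) rfl
theorem L610130 : N20765 = N20685 := eqes L610129 (flp_h L255384)
theorem L610131 : N20765 = N20685 := eqc rfl L610130 rfl
theorem L610145 : sm gd N20685 = N15544 := trfs L610131 L176517 rfl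
theorem L610146 : N15544 = N14226 := eqes L610145 L175849
theorem L610147 : N15544 = N14226 := eqc rfl L610146 rfl
theorem L610216 : sm gc N14226 = N11445 := trfs L610147 (flp_c L588330) rfl
theorem L610217 : N11445 = N9800 := eqes L610216 L121257
theorem L610218 : N11445 = N9800 := eqc rfl L610217 rfl
theorem L610224 : sm gg N14226 = N22620 := trfs L610147 L192239 rfl
theorem L610225 : N22620 = N9834 := eqes L610224 L121263
theorem L610226 : N22620 = N9834 := eqc rfl L610225 rfl
theorem L610242 : sm gi N9834 = N16616 := trfs L610226 (flp_i L588181) rfl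
theorem L610243 : N16616 = N6795 := eqes L610242 L84089
theorem L610244 : N16616 = N6795 := eqc rfl L610243 rfl
theorem L610256 : sm gj N6795 = N24182 := trfs L610244 (flp_j L205572) rfl
theorem L610257 : N24182 = N4697 := eqes L610256 (flp_j L58300)
theorem L610258 : N24182 = N4697 := eqc rfl L610257 rfl
theorem L610270 : sm gg N4697 = N35040 := trfs L610258 (flp_g L297061) rfl
theorem L610271 : N35040 = N3252 := eqes L610270 (flp_g L40459)
theorem L610272 : N35040 = N3252 := eqc rfl L610271 rfl
theorem L610279 : sm gj N3252 = N24050 := trfs L610272 L297063 rfl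
theorem L610280 : N24050 = N4680 := eqes L610279 (flp_j L40316)
theorem L610281 : N24050 = N4680 := eqc rfl L610280 rfl
theorem L610293 : sm gi N4680 = N32727 := trfs L610281 (flp_i L539941) rfl
theorem L610294 : N32727 = N6761 := eqes L610293 (flp_i L58018)
theorem L610295 : N32727 = N6761 := eqc rfl L610294 rfl
theorem L610298 : sm gc N6761 = N24068 := trfs L610295 L539938 rfl
theorem L610299 : N24068 = N4676 := eqes L610298 L58014
theorem L610300 : N24068 = N4676 := eqc rfl L610299 rfl
theorem L610318 : sm gh N4676 = N35065 := trfs L610300 L297292 rfl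
theorem L610319 : N35065 = N6757 := eqes L610318 (flp_h L57977)
theorem L610320 : N35065 = N6757 := eqc rfl L610319 rfl
theorem L610324 : sm gg N6757 = N24071 := trfs L610320 L297296 rfl
theorem L610325 : N24071 = N9793 := eqes L610324 L83722
theorem L610326 : N24071 = N9793 := eqc rfl L610325 rfl
theorem L610342 : sm gj N9793 = N16629 := trfs L610326 L204699 rfl
theorem L610343 : N16629 = N14215 := eqes L610342 L121151
theorem L610344 : N16629 = N14215 := eqc rfl L610343 rfl
theorem L610359 : sm gg N14215 = N24195 := trfs L610344 (flp_g L205683) rfl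
theorem L610360 : N24195 = N9823 := eqes L610359 L121161
theorem L610361 : N24195 = N9823 := eqc rfl L610360 rfl
theorem L610374 : sm gj N9823 = N35242 := trfs L610361 (flp_j L298706) rfl
theorem L610375 : N35242 = N6777 := eqes L610374 (flp_j L83989)
theorem L610376 : N35242 = N6777 := eqc rfl L610375 rfl
theorem L610382 : sm gh N6777 = N24192 := trfs L610376 (flp_h L298701) rfl
theorem L610383 : N24192 = N4691 := eqes L610382 L58165
theorem L610384 : N24192 = N4691 := eqc rfl L610383 rfl
theorem L610390 : sm ge N4691 = N34420 := trfs L610384 (flp_e L291922) rfl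
theorem L610391 : N34420 = N3271 := eqes L610390 L40419
theorem L610392 : N34420 = N3271 := eqc rfl L610391 rfl
theorem L610404 : sm gi N3271 = N23607 := trfs L610392 (flp_i L291918) rfl
theorem L610405 : N23607 = N2275 := eqes L610404 L28324
theorem L610406 : N23607 = N2275 := eqc rfl L610405 rfl
theorem L610420 : sm gj N2275 = N16209 := trfs L610406 L200801 rfl
theorem L610421 : N16209 = N3278 := eqes L610420 L28374
theorem L610422 : N16209 = N3278 := eqc rfl L610421 rfl
theorem L610434 : sm gg N3278 = N11145 := trfs L610422 L138290 rfl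
theorem L610435 : N11145 = N4713 := eqes L610434 (flp_g L40622)
theorem L610436 : N11145 = N4713 := eqc rfl L610435 rfl
theorem L610449 : sm ge N4713 = N7888 := trfs L610436 L95379 rfl
theorem L610450 : N7888 = N6769 := eqes L610449 (flp_e L58088)
theorem L610451 : N7888 = N6769 := eqc rfl L610450 rfl
theorem L610453 : sm gj N4713 = N16077 := trfs L610436 (flp_j L137197) rfl
theorem L610454 : N16077 = N3263 := eqes L610453 (flp_j L40613)
theorem L610455 : N16077 = N3263 := eqc rfl L610454 rfl
theorem L610457 : sm gi N4713 = N16213 := trfs L610436 L138320 rfl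
theorem L610458 : N16213 = N6807 := eqes L610457 (flp_i L58428)
theorem L610459 : N16213 = N6807 := eqc rfl L610458 rfl
theorem L610471 : sm gj N6807 = N23415 := trfs L610459 (flp_j L199256) rfl
theorem L610472 : N23415 = N4706 := eqes L610471 (flp_j L58420)
theorem L610473 : N23415 = N4706 := eqc rfl L610472 rfl
theorem L610482 : sm gd N4706 = N33232 := trfs L610473 (flp_d L281882) rfl
theorem L610483 : N33232 = N3306 := eqes L610482 L40556
theorem L610484 : N33232 = N3306 := eqc rfl L610483 rfl
theorem L610498 : sm gi N3306 = N22803 := trfs L610484 (flp_i L281878) rfl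
theorem L610499 : N22803 = N2298 := eqes L610498 L28626
theorem L610500 : N22803 = N2298 := eqc rfl L610499 rfl
theorem L610515 : sm gh N2298 = N32778 := trfs L610500 (flp_h L277880) rfl
theorem L610516 : N32778 = N1641 := eqes L610515 L19997
theorem L610517 : N32778 = N1641 := eqc rfl L610516 rfl
theorem L610524 : sm gj N1641 = N22671 := trfs L610517 L277878 rfl
theorem L610525 : N22671 = N2362 := eqes L610524 L20535
theorem L610526 : N22671 = N2362 := eqc rfl L610525 rfl
theorem L610537 : sm gg N2362 = N33031 := trfs L610526 (flp_g L279983) rfl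
theorem L610538 : N33031 = N1648 := eqes L610537 L20544
theorem L610539 : N33031 = N1648 := eqc rfl L610538 rfl
theorem L610542 : sm gb N1648 = N22669 := trfs L610539 (flp_b L279979) rfl
theorem L610543 : N22669 = N1259 := eqes L610542 L14406
theorem L610544 : N22669 = N1259 := eqc rfl L610543 rfl
theorem L610563 : sm gh N1259 = N15795 := trfs L610544 L192637 rfl
theorem L610564 : N15795 = N1756 := eqes L610563 (flp_h L15383)
theorem L610565 : N15795 = N1756 := eqc rfl L610564 rfl
theorem L610585 : sm gi N1756 = N22998 := trfs L610565 L195588 rfl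
theorem L610586 : N22998 = N2520 := eqes L610585 (flp_i L21962)
theorem L610587 : N22998 = N2520 := eqc rfl L610586 rfl
theorem L610601 : sm gj N2520 = N33520 := trfs L610587 (flp_j L284315) rfl
theorem L610602 : N33520 = N1749 := eqes L610601 (flp_j L21954)
theorem L610603 : N33520 = N1749 := eqc rfl L610602 rfl
theorem L610608 : sm gc N1749 = N22996 := trfs L610603 L284310 rfl
theorem L610609 : N22996 = N2519 := eqes L610608 (flp_c L21946)
theorem L610610 : N22996 = N2519 := eqc rfl L610609 rfl
theorem L610627 : sm gi N2519 = N15793 := trfs L610610 (flp_i L195572) rfl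
theorem L610628 : N15793 = N1755 := eqes L610627 L21950
theorem L610629 : N15793 = N1755 := eqc rfl L610628 rfl
theorem L610642 : sm gh N1755 = N22667 := trfs L610629 (flp_h L192619) rfl
theorem L610643 : N22667 = N1258 := eqes L610642 L15372
theorem L610644 : N22667 = N1258 := eqc rfl L610643 rfl
theorem L610652 : sm gf N1258 = N33024 := trfs L610644 (flp_f L279916) rfl
theorem L610653 : N33024 = N880 := eqes L610652 L11082
theorem L610654 : N33024 = N880 := eqc rfl L610653 rfl
theorem L610659 : sm gd N880 = N22664 := trfs L610654 (flp_d L279912) rfl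
theorem L610660 : N22664 = N1266 := eqes L610659 (flp_d L11148)
theorem L610661 : N22664 = N1266 := eqc rfl L610660 rfl
theorem L610669 : sm gg N1266 = N33023 := trfs L610661 (flp_g L279909) rfl
theorem L610670 : N33023 = N878 := eqes L610669 (flp_g L11143)
theorem L610671 : N33023 = N878 := eqc rfl L610670 rfl
theorem L610697 : sm ga N878 = N25177 := trfs L610671 L279905 rfl
theorem L610698 : N25177 = N689 := eqes L610697 L7765
theorem L610699 : N25177 = N689 := eqc rfl L610698 rfl
theorem L610715 : sm gh N689 = N17301 := trfs L610699 (flp_h L213740) rfl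
theorem L610716 : N17301 = N1000 := eqes L610715 L8763
theorem L610717 : N17301 = N1000 := eqc rfl L610716 rfl
theorem L610729 : sm gi N1000 = N25099 := trfs L610717 (flp_i L213148) rfl
theorem L610730 : N25099 = N1348 := eqes L610729 (flp_i L598250)
theorem L610731 : N25099 = N1348 := eqc rfl L610730 rfl
theorem L610739 : sm gf N1348 = N36153 := trfs L610731 (flp_f L306383) rfl
theorem L610740 : N36153 = N937 := eqes L610739 (flp_f L11825)
theorem L610741 : N36153 = N937 := eqc rfl L610740 rfl
theorem L610745 : sm gb N937 = N26349 := trfs L610741 L516525 rfl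
theorem L610746 : N26349 = N649 := eqes L610745 L8260
theorem L610747 : N26349 = N649 := eqc rfl L610746 rfl
theorem L610755 : sm gc N649 = N38425 := trfs L610747 L325156 rfl
theorem L610756 : N38425 = N447 := eqes L610755 L5734
theorem L610757 : N38425 = N447 := eqc rfl L610756 rfl
theorem L610782 : sm gg N447 = N26351 := trfs L610757 L325160 rfl
theorem L610783 : N26351 = N642 := eqes L610782 (flp_g L5679)
theorem L610784 : N26351 = N642 := eqc rfl L610783 rfl
theorem L610797 : sm gi N642 = N36202 := trfs L610784 (flp_i L519761) rfl
theorem L610798 : N36202 = N925 := eqes L610797 (flp_i L8172)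
theorem L610799 : N36202 = N925 := eqc rfl L610798 rfl
theorem L610803 : sm gj N925 = N24851 := trfs L610799 (flp_j L306800) rfl
theorem L610804 : N24851 = N1319 := eqes L610803 (flp_j L11604)
theorem L610805 : N24851 = N1319 := eqc rfl L610804 rfl
theorem L610809 : sm gd N1319 = N36197 := trfs L610805 (flp_d L306762) rfl
theorem L610810 : N36197 = N942 := eqes L610809 L11608
theorem L610811 : N36197 = N942 := eqc rfl L610810 rfl
theorem L610829 : sm gi N942 = N25393 := trfs L610811 L519800 rfl
theorem L610830 : N25393 = N653 := eqes L610829 L8302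
theorem L610831 : N25393 = N653 := eqc rfl L610830 rfl
theorem L610832 : sm ga N653 = N33223 := trfs L610831 (flp_a L281798) rfl
theorem L610833 : N33223 = N842 := eqes L610832 (flp_a L7444)
theorem L610834 : N33223 = N842 := eqc rfl L610833 rfl
theorem L610849 : sm gf N842 = N22801 := trfs L610834 L281800 rfl
theorem L610850 : N22801 = N1212 := eqes L610849 L10663
theorem L610851 : N22801 = N1212 := eqc rfl L610850 rfl
theorem L610864 : sm gh N1212 = N32776 := trfs L610851 (flp_h L277861) rfl
theorem L610865 : N32776 = N869 := eqes L610864 L10669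
theorem L610866 : N32776 = N869 := eqc rfl L610865 rfl
theorem L611028 : sm gc N869 = N22498 := trfs L610866 (flp_c L277854) rfl
theorem L611029 : N22498 = N1251 := eqes L611028 (flp_c L11019)
theorem L611030 : N22498 = N1251 := eqc rfl L611029 rfl
theorem L611041 : sm gg N1251 = N15462 := trfs L611030 L191202 rfl
theorem L611042 : N15462 = N1799 := eqes L611041 L15756
theorem L611043 : N15462 = N1799 := eqc rfl L611042 rfl
theorem L611055 : sm gj N1799 = N10716 := trfs L611043 L131750 rfl
theorem L611056 : N10716 = N2594 := eqes L611055 L22603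
theorem L611057 : N10716 = N2594 := eqc rfl L611056 rfl
theorem L611061 : sm gb N2594 = N15568 := trfs L611057 (flp_b L132637) rfl
theorem L611062 : N15568 = N3739 := eqes L611061 (flp_b L32404)
theorem L611063 : N15568 = N3739 := eqc rfl L611062 rfl
theorem L611080 : sm gh N3739 = N10855 := trfs L611063 L132641 rfl
theorem L611081 : N10855 = N5248 := eqes L611080 (flp_h L45259)
theorem L611082 : N10855 = N5248 := eqc rfl L611081 rfl
theorem L611097 : sm gi N5248 = N15787 := trfs L611082 L134624 rfl
theorem L611098 : N15787 = N7585 := eqes L611097 (flp_i L65145)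
theorem L611099 : N15787 = N7585 := eqc rfl L611098 rfl
theorem L611105 : sm gd N7585 = N10856 := trfs L611099 L134628 rfl
theorem L611106 : N10856 = N11011 := eqes L611105 (flp_d L94224)
theorem L611107 : N11011 = N10856 := (eqc rfl L611106 rfl).symm
theorem L611113 : sm gj N7585 = N22793 := trfs L611099 (flp_j L193819) rfl
theorem L611114 : N22793 = N5232 := eqes L611113 (flp_j L65138)
theorem L611115 : N22793 = N5232 := eqc rfl L611114 rfl
theorem L611118 : sm gb N5232 = N15666 := trfs L611115 L193813 rfl
theorem L611119 : N15666 = N3618 := eqes L611118 L45105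
theorem L611120 : N15666 = N3618 := eqc rfl L611119 rfl
theorem L611121 : sm gc N5232 = N33218 := trfs L611115 (flp_c L281751) rfl
theorem L611122 : N33218 = N6910 := eqes L611121 (flp_c L59295)
theorem L611123 : N33218 = N6910 := eqc rfl L611122 rfl
theorem L611137 : sm gi N6910 = N22792 := trfs L611123 (flp_i L281749) rfl
theorem L611138 : N22792 = N4783 := eqes L611137 L59299
theorem L611139 : N22792 = N4783 := eqc rfl L611138 rfl
theorem L611145 : sm gd N4783 = N33196 := trfs L611139 (flp_d L281565) rfl
theorem L611146 : N33196 = N6923 := eqes L611145 (flp_d L59412)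
theorem L611147 : N33196 = N6923 := eqc rfl L611146 rfl
theorem L611167 : sm gj N6923 = N22965 := trfs L611147 L281563 rfl
theorem L611168 : N22965 = N10045 := eqes L611167 L85889
theorem L611169 : N22965 = N10045 := eqc rfl L611168 rfl
theorem L611176 : sm gc N10045 = N15771 := trfs L611169 (flp_c L195325) rfl
theorem L611177 : N15771 = N14587 := eqes L611176 (flp_c L124347)
theorem L611178 : N15771 = N14587 := eqc rfl L611177 rfl
theorem L611190 : sm gi N10045 = N33406 := trfs L611169 (flp_i L588037) rfl
theorem L611191 : N33406 = N14562 := eqes L611190 (flp_i L124131)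
theorem L611192 : N33406 = N14562 := eqc rfl L611191 rfl
theorem L611196 : sm gc N14562 = N22922 := trfs L611192 (flp_c L283371) rfl
theorem L611197 : N22922 = N21181 := eqes L611196 (flp_c L180091)
theorem L611198 : N22922 = N21181 := eqc rfl L611197 rfl
theorem L611200 : sm ge N14562 = N44460 := trfs L611192 (flp_e L376167) rfl
theorem L611201 : N44460 = N21188 := eqes L611200 (flp_e L180155)
theorem L611202 : N44460 = N21188 := eqc rfl L611201 rfl
theorem L611204 : sm ga N21188 = N31048 := trfs L611202 L376165 rfl
theorem L611205 : N31048 = N30846 := eqes L611204 (flp_a L261629)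
theorem L611206 : N31048 = N30846 := eqc rfl L611205 rfl
theorem L611207 : sm gc N21188 = N30492 := trfs L611202 (flp_c L376163) rfl
theorem L611208 : N30492 = N30855 := eqes L611207 (flp_c L261715)
theorem L611209 : N30855 = N30492 := (eqc rfl L611208 rfl).symm
theorem L611211 : sm ga N30492 = N44978 := trfs L611209 (flp_a L380537) rfl
theorem L611212 : N44978 = N21312 := eqes L611211 L258628
theorem L611213 : N44978 = N21312 := eqc rfl L611212 rfl
theorem L611214 : sm gb N30492 = N44212 := trfs L611209 (flp_b L374011) rfl
theorem L611215 : N44212 = N20944 := eqes L611214 L258630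
theorem L611216 : N44212 = N20944 := eqc rfl L611215 rfl
theorem L611217 : sm gc N30492 = N21188 := trfs L611209 L261715 rfl
theorem L611222 : sm gf N30492 = N45003 := trfs L611209 (flp_f L380784) rfl
theorem L611223 : N45003 = N42027 := eqes L611222 (flp_f L355250)
theorem L611224 : N45003 = N42027 := eqc rfl L611223 rfl
theorem L611227 : sm gj N30492 = N21179 := trfs L611209 (flp_j L261713) rfl
theorem L611228 : N21179 = N44243 := eqes L611227 (flp_j L374288)
theorem L611229 : N44243 = N21179 := (eqc rfl L611228 rfl).symm
theorem L611230 : sm gh N30492 = N45005 := trfs L611209 L380795 rfl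
theorem L611231 : N45005 = N44462 := eqes L611230 L376180
theorem L611232 : N45005 = N44462 := eqc rfl L611231 rfl
theorem L611233 : sm gi N30492 = N21226 := trfs L611209 L261719 rfl
theorem L611234 : N21226 = N22966 := eqes L611233 L550182
theorem L611235 : N22966 = N21226 := (eqc rfl L611234 rfl).symm
theorem L611236 : sm ga N21226 = N30967 := trfs L611235 L550169 rfl
theorem L611237 : N30967 = N30899 := eqes L611236 (flp_a L262089)
theorem L611238 : N30967 = N30899 := eqc rfl L611237 rfl
theorem L611239 : sm gb N21226 = N16179 := trfs L611235 L195332 rfl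
theorem L611240 : N16179 = N30370 := eqes L611239 (flp_b L257577)
theorem L611241 : N30370 = N16179 := (eqc rfl L611240 rfl).symm
theorem L611246 : sm gf N21226 = N33480 := trfs L611235 L283986 rfl
theorem L611247 : N33480 = N30924 := eqes L611246 (flp_f L262326)
theorem L611248 : N33480 = N30924 := eqc rfl L611247 rfl
theorem L611253 : sm gh N21226 = N33466 := trfs L611235 (flp_h L283881) rfl
theorem L611254 : N33466 = N30926 := eqes L611253 L262335
theorem L611255 : N33466 = N30926 := eqc rfl L611254 rfl
theorem L611256 : sm gi N21226 = N30492 := trfs L611235 (flp_i L550182) rfl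
theorem L611258 : sm gb N30926 = N23558 := trfs L611255 L283879 rfl
theorem L611259 : N23558 = N44283 := eqes L611258 (flp_b L374660)
theorem L611260 : N44283 = N23558 := (eqc rfl L611259 rfl).symm
theorem L611261 : sm gd N30926 = N44520 := trfs L611255 (flp_d L376675) rfl
theorem L611262 : N44520 = N45112 := eqes L611261 L381715
theorem L611263 : N45112 = N44520 := (eqc rfl L611262 rfl).symm
theorem L611264 : sm ge N30926 = N22958 := trfs L611255 (flp_e L283877) rfl
theorem L611265 : N22958 = N21230 := eqes L611264 L262339
theorem L611266 : N22958 = N21230 := eqc rfl L611265 rfl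
theorem L611267 : sm ga N21230 = N33428 := trfs L611266 (flp_a L283570) rfl
theorem L611268 : N33428 = N30903 := eqes L611267 (flp_a L262125)
theorem L611269 : N33428 = N30903 := eqc rfl L611268 rfl
theorem L611276 : sm gg N21230 = N33463 := trfs L611266 (flp_g L283862) rfl
theorem L611277 : N33463 = N14672 := eqes L611276 L180524
theorem L611278 : N33463 = N14672 := eqc rfl L611277 rfl
theorem L611285 : sm gd N14672 = N22957 := trfs L611278 (flp_d L283858) rfl
theorem L611286 : N22957 = N21358 := eqes L611285 L181555
theorem L611287 : N22957 = N21358 := eqc rfl L611286 rfl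
theorem L611288 : sm gh N14672 = N22963 := trfs L611278 L283864 rfl
theorem L611289 : N22963 = N10095 := eqes L611288 (flp_h L125040)
theorem L611290 : N22963 = N10095 := eqc rfl L611289 rfl
theorem L611294 : sm gb N10095 = N16176 := trfs L611290 L195311 rfl
theorem L611295 : N16176 = N14410 := eqes L611294 (flp_b L122836)
theorem L611296 : N16176 = N14410 := eqc rfl L611295 rfl
theorem L611307 : sm gi N10095 = N33407 := trfs L611290 (flp_i L576731) rfl
theorem L611308 : N33407 = N14623 := eqes L611307 (flp_i L124661)
theorem L611309 : N33407 = N14623 := eqc rfl L611308 rfl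
theorem L611313 : sm gb N14623 = N22932 := trfs L611309 L283382 rfl
theorem L611314 : N22932 = N20918 := eqes L611313 (flp_b L177863)
theorem L611315 : N22932 = N20918 := eqc rfl L611314 rfl
theorem L611316 : sm gd N14623 = N22923 := trfs L611309 L283384 rfl
theorem L611317 : N22923 = N11072 := eqes L611316 L124657
theorem L611318 : N22923 = N11072 := eqc rfl L611317 rfl
theorem L611326 : sm gf N11072 = N33409 := trfs L611318 L283393 rfl
theorem L611327 : N33409 = N7692 := eqes L611326 L94782
theorem L611328 : N33409 = N7692 := eqc rfl L611327 rfl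
theorem L611342 : sm gh N7692 = N23429 := trfs L611328 L544963 rfl
theorem L611343 : N23429 = N11176 := eqes L611342 L95653
theorem L611344 : N23429 = N11176 := eqc rfl L611343 rfl
theorem L611360 : sm gi N11176 = N16147 := trfs L611344 L199375 rfl
theorem L611361 : N16147 = N15933 := eqes L611360 (flp_i L456371)
theorem L611362 : N16147 = N15933 := eqc rfl L611361 rfl
theorem L611377 : sm gh N15933 = N22890 := trfs L611362 (flp_h L530029) rfl
theorem L611378 : N22890 = N10952 := eqes L611377 (flp_h L135911)
theorem L611379 : N22890 = N10952 := eqc rfl L611378 rfl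
theorem L611383 : sm gd N10952 = N33358 := trfs L611379 (flp_d L282990) rfl
theorem L611384 : N33358 = N14500 := eqes L611383 (flp_d L123607)
theorem L611385 : N33358 = N14500 := eqc rfl L611384 rfl
theorem L611399 : sm gi N14500 = N22955 := trfs L611385 L282992 rfl
theorem L611400 : N22955 = N11244 := eqes L611399 L590708
theorem L611401 : N22955 = N11244 := eqc rfl L611400 rfl
theorem L611408 : sm ge N11244 = N33459 := trfs L611401 L283830 rfl
theorem L611409 : N33459 = N16357 := eqes L611408 L139506
theorem L611410 : N33459 = N16357 := eqc rfl L611409 rfl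
theorem L611416 : sm gb N16357 = N23551 := trfs L611410 L283832 rfl
theorem L611417 : N23551 = N23251 := eqes L611416 (flp_b L197781)
theorem L611418 : N23551 = N23251 := eqc rfl L611417 rfl
theorem L611419 : sm gd N16357 = N23228 := trfs L611410 L283835 rfl
theorem L611420 : N23228 = N23813 := eqes L611419 (flp_d L202491)
theorem L611421 : N23813 = N23228 := (eqc rfl L611420 rfl).symm
theorem L611422 : sm gf N16357 = N44513 := trfs L611410 (flp_f L376625) rfl
theorem L611423 : N44513 = N23821 := eqes L611422 L202541
theorem L611424 : N44513 = N23821 := eqc rfl L611423 rfl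
theorem L611426 : sm gb N23821 = N31101 := trfs L611424 L376621 rfl
theorem L611427 : N31101 = N33902 := eqes L611426 (flp_b L287606)
theorem L611428 : N33902 = N31101 := (eqc rfl L611427 rfl).symm
theorem L611429 : sm gd N23821 = N30762 := trfs L611424 L376623 rfl
theorem L611430 : N30762 = N34711 := eqes L611429 (flp_d L294281)
theorem L611431 : N34711 = N30762 := (eqc rfl L611430 rfl).symm
theorem L611432 : sm ge N23821 = N30525 := trfs L611424 (flp_e L376619) rfl
theorem L611433 : N30525 = N34381 := eqes L611432 (flp_e L291598)
theorem L611434 : N34381 = N30525 := (eqc rfl L611433 rfl).symm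
theorem L611435 : sm gc N30525 = N24168 := trfs L611434 L291594 rfl
theorem L611436 : N24168 = N44104 := eqes L611435 (flp_c L373060)
theorem L611437 : N44104 = N24168 := (eqc rfl L611436 rfl).symm
theorem L611438 : sm ge N30525 = N23821 := trfs L611434 L291598 rfl
theorem L611440 : sm gf N30525 = N23575 := trfs L611434 (flp_f L291592) rfl
theorem L611441 : N23575 = N20960 := eqes L611440 (flp_f L258914)
theorem L611442 : N23575 = N20960 := eqc rfl L611441 rfl
theorem L611443 : sm gj N30525 = N23577 := trfs L611434 L291596 rfl
theorem L611444 : N23577 = N44514 := eqes L611443 L376627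
theorem L611445 : N44514 = N23577 := (eqc rfl L611444 rfl).symm
theorem L611446 : sm gh N30525 = N45413 := trfs L611434 (flp_h L384075) rfl
theorem L611447 : N45413 = N44515 := eqes L611446 L376635
theorem L611448 : N45413 = N44515 := eqc rfl L611447 rfl
theorem L611449 : sm gc N44515 = N32044 := trfs L611448 L384071 rfl
theorem L611451 : sm ge N44515 = N31415 := trfs L611448 L384077 rfl
theorem L611453 : sm gf N44515 = N31125 := trfs L611448 (flp_f L384069) rfl
theorem L611454 : N31125 = N30527 := eqes L611453 L376639
theorem L611455 : N31125 = N30527 := eqc rfl L611454 rfl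
theorem L611456 : sm gj N44515 = N31127 := trfs L611448 L384073 rfl
theorem L611458 : sm ga N30527 = N44419 := trfs L611455 (flp_a L455208) rfl
theorem L611459 : N44419 = N44481 := eqes L611458 (flp_a L376359)
theorem L611460 : N44481 = N44419 := (eqc rfl L611459 rfl).symm
theorem L611462 : sm gc N30527 = N21986 := trfs L611455 L263916 rfl
theorem L611463 : N21986 = N44106 := eqes L611462 (flp_c L373076)
theorem L611464 : N44106 = N21986 := (eqc rfl L611463 rfl).symm
theorem L611465 : sm gd N30527 = N45396 := trfs L611455 (flp_d L383975) rfl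
theorem L611466 : N45396 = N44517 := eqes L611465 L376649
theorem L611467 : N45396 = N44517 := eqc rfl L611466 rfl
theorem L611470 : sm gg N30527 = N45123 := trfs L611455 (flp_g L381793) rfl
theorem L611471 : N45123 = N20961 := eqes L611470 L258934
theorem L611472 : N45123 = N20961 := eqc rfl L611471 rfl
theorem L611476 : sm gi N30527 = N45414 := trfs L611455 L384079 rfl
theorem L611477 : N45414 = N44518 := eqes L611476 L376657
theorem L611478 : N45414 = N44518 := eqc rfl L611477 rfl
theorem L611479 : sm gc N44518 = N32045 := trfs L611478 L384081 rfl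
theorem L611483 : sm gj N44518 = N31128 := trfs L611478 L384085 rfl
theorem L611488 : sm gh N20961 = N34092 := trfs L611472 L381797 rfl
theorem L611489 : N34092 = N14407 := eqes L611488 (flp_h L178224)
theorem L611490 : N34092 = N14407 := eqc rfl L611489 rfl
theorem L611491 : sm gc N14407 = N24031 := trfs L611490 L289276 rfl
theorem L611492 : N24031 = N20777 := eqes L611491 (flp_c L176608)
theorem L611493 : N24031 = N20777 := eqc rfl L611492 rfl
theorem L611503 : sm gf N20777 = N35018 := trfs L611493 L296883 rfl
theorem L611504 : N35018 = N28732 := eqes L611503 (flp_f L243375)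
theorem L611505 : N35018 = N28732 := eqc rfl L611504 rfl
theorem L611514 : sm gj N28732 = N24033 := trfs L611505 L296886 rfl
theorem L611515 : N24033 = N41766 := eqes L611514 (flp_j L352883)
theorem L611516 : N41766 = N24033 := (eqc rfl L611515 rfl).symm
theorem L611518 : sm gc N24033 = N28793 := trfs L611516 L352885 rfl
theorem L611519 : N28793 = N34094 := eqes L611518 (flp_c L289295)
theorem L611520 : N34094 = N28793 := (eqc rfl L611519 rfl).symm
theorem L611521 : sm gd N24033 = N28678 := trfs L611516 (flp_d L352878) rfl
theorem L611522 : N28678 = N35006 := eqes L611521 (flp_d L296790)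
theorem L611523 : N35006 = N28678 := (eqc rfl L611522 rfl).symm
theorem L611526 : sm gj N24033 = N28732 := trfs L611516 L352883 rfl
theorem L611529 : sm gd N28678 = N24033 := trfs L611523 L296790 rfl
theorem L611532 : sm gc N28793 = N24033 := trfs L611520 L289295 rfl
theorem L611536 : sm gh N28793 = N45125 := trfs L611520 (flp_h L381814) rfl
theorem L611537 : N45125 = N41939 := eqes L611536 L354430
theorem L611538 : N45125 = N41939 := eqc rfl L611537 rfl
theorem L611539 : sm gc N41939 = N31881 := trfs L611538 L381812 rfl
theorem L611547 : sm ge N44517 = N31114 := trfs L611467 (flp_e L383971) rfl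
theorem L611549 : sm gj N44517 = N31117 := trfs L611467 L383973 rfl
theorem L611552 : sm gc N21986 = N30527 := trfs L611464 L373076 rfl
theorem L611558 : sm ga N44419 = N30527 := trfs L611460 L376359 rfl
theorem L611560 : sm ge N44419 = N33427 := trfs L611460 L376361 rfl
theorem L611561 : N33427 = N30465 := eqes L611560 L375861
theorem L611562 : N33427 = N30465 := eqc rfl L611561 rfl
theorem L611563 : sm gg N44419 = N30503 := trfs L611460 L376363 rfl
theorem L611565 : sm gh N44419 = N30502 := trfs L611460 (flp_h L376357) rfl
theorem L611566 : N30502 = N30461 := eqes L611565 (flp_h L375855)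
theorem L611567 : N30502 = N30461 := eqc rfl L611566 rfl
theorem L611577 : sm gf N30461 = N44479 := trfs L611567 L376343 rfl
theorem L611578 : N44479 = N44417 := eqes L611577 (flp_f L375841)
theorem L611579 : N44479 = N44417 := eqc rfl L611578 rfl
theorem L611585 : sm gi N30461 = N23567 := trfs L611567 L591910 rfl
theorem L611586 : N23567 = N20963 := eqes L611585 L258388
theorem L611587 : N23567 = N20963 := eqc rfl L611586 rfl
theorem L611588 : sm ga N20963 = N30458 := trfs L611587 L576762 rfl
theorem L611589 : N30458 = N30505 := eqes L611588 (flp_a L258747)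
theorem L611590 : N30505 = N30458 := (eqc rfl L611589 rfl).symm
theorem L611606 : sm gh N20963 = N34349 := trfs L611587 (flp_h L291398) rfl
theorem L611607 : N34349 = N30532 := eqes L611606 L258968
theorem L611608 : N34349 = N30532 := eqc rfl L611607 rfl
theorem L611609 : sm gd N30532 = N45381 := trfs L611608 (flp_d L383885) rfl
theorem L611610 : N45381 = N44526 := eqes L611609 L376719
theorem L611611 : N45381 = N44526 := eqc rfl L611610 rfl
theorem L611615 : sm ge N44526 = N31105 := trfs L611611 (flp_e L383879) rfl
theorem L611617 : sm gg N44526 = N31108 := trfs L611611 L383881 rfl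
theorem L611619 : sm gh N44526 = N31117 := trfs L611611 L383883 rfl
theorem L611628 : sm ga N30458 = N20963 := trfs L611590 L258747 rfl
theorem L611636 : sm gf N30458 = N44484 := trfs L611590 (flp_f L376385) rfl
theorem L611637 : N44484 = N44412 := eqes L611636 L375793
theorem L611638 : N44484 = N44412 := eqc rfl L611637 rfl
theorem L611644 : sm gh N30458 = N44486 := trfs L611590 L376397 rfl
theorem L611645 : N44486 = N44414 := eqes L611644 L375811
theorem L611646 : N44486 = N44414 := eqc rfl L611645 rfl
theorem L611648 : sm ga N44414 = N30532 := trfs L611646 L376399 rfl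
theorem L611650 : sm gc N44414 = N30519 := trfs L611646 L376401 rfl
theorem L611654 : sm gj N44414 = N30506 := trfs L611646 L376405 rfl
theorem L611660 : sm ga N44412 = N30530 := trfs L611638 L376379 rfl
theorem L611662 : sm gc N44412 = N30517 := trfs L611638 L376381 rfl
theorem L611664 : sm ge N44412 = N30733 := trfs L611638 L376383 rfl
theorem L611666 : sm gj N44412 = N30504 := trfs L611638 (flp_j L376377) rfl
theorem L611670 : sm ga N44417 = N30525 := trfs L611579 L376345 rfl
theorem L611672 : sm gd N44417 = N30504 := trfs L611579 L376347 rfl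
theorem L611680 : sm gg N30465 = N22933 := trfs L611562 L283566 rfl
theorem L611681 : N22933 = N44216 := eqes L611680 (flp_g L374056)
theorem L611682 : N44216 = N22933 := (eqc rfl L611681 rfl).symm
theorem L611685 : sm gb N22933 = N30859 := trfs L611682 L374051 rfl
theorem L611686 : N30859 = N33408 := eqes L611685 (flp_b L283390)
theorem L611687 : N33408 = N30859 := (eqc rfl L611686 rfl).symm
theorem L611693 : sm gg N22933 = N30465 := trfs L611682 L374056 rfl
theorem L611728 : sm ga N30859 = N23453 := trfs L611687 L552255 rfl
theorem L611729 : N23453 = N44982 := eqes L611728 (flp_a L380577)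
theorem L611730 : N44982 = N23453 := (eqc rfl L611729 rfl).symm
theorem L611731 : sm gb N30859 = N22933 := trfs L611687 L283390 rfl
theorem L611733 : sm gd N30859 = N23428 := trfs L611687 L552257 rfl
theorem L611734 : N23428 = N45011 := eqes L611733 L380837
theorem L611735 : N45011 = N23428 := (eqc rfl L611734 rfl).symm
theorem L611743 : sm gd N23428 = N30859 := trfs L611735 (flp_d L380837) rfl
theorem L611748 : sm gj N23428 = N30860 := trfs L611735 L380842 rfl
theorem L611749 : N30860 = N33945 := eqes L611748 (flp_j L287981)
theorem L611750 : N33945 = N30860 := (eqc rfl L611749 rfl).symm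
theorem L611751 : sm gh N23428 = N30889 := trfs L611735 L552800 rfl
theorem L611752 : N30889 = N16085 := eqes L611751 (flp_h L199363)
theorem L611753 : N30889 = N16085 := eqc rfl L611752 rfl
theorem L611759 : sm ge N16085 = N45050 := trfs L611753 (flp_e L381165) rfl
theorem L611760 : N45050 = N21262 := eqes L611759 (flp_e L180794)
theorem L611761 : N45050 = N21262 := eqc rfl L611760 rfl
theorem L611765 : sm gj N16085 = N21203 := trfs L611753 (flp_j L261997) rfl
theorem L611766 : N21203 = N23286 := eqes L611765 (flp_j L198085)
theorem L611767 : N23286 = N21203 := (eqc rfl L611766 rfl).symm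
theorem L611768 : sm gi N16085 = N44968 := trfs L611753 (flp_i L380446) rfl
theorem L611769 : N44968 = N11098 := eqes L611768 L137270
theorem L611770 : N44968 = N11098 := eqc rfl L611769 rfl
theorem L611776 : sm gj N11098 = N30832 := trfs L611770 (flp_j L380438) rfl
theorem L611777 : N30832 = N16030 := eqes L611776 (flp_j L136777)
theorem L611778 : N30832 = N16030 := eqc rfl L611777 rfl
theorem L611780 : sm gb N16030 = N21169 := trfs L611778 L261486 rfl
theorem L611781 : N21169 = N23307 := eqes L611780 L552272
theorem L611782 : N23307 = N21169 := (eqc rfl L611781 rfl).symm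
theorem L611785 : sm ge N16030 = N44966 := trfs L611778 (flp_e L380425) rfl
theorem L611786 : N44966 = N21207 := eqes L611785 (flp_e L180321)
theorem L611787 : N44966 = N21207 := eqc rfl L611786 rfl
theorem L611789 : sm gg N16030 = N21166 := trfs L611778 (flp_g L261484) rfl
theorem L611790 : N21166 = N23346 := eqes L611789 L198637
theorem L611791 : N23346 = N21166 := (eqc rfl L611790 rfl).symm
theorem L611799 : sm ge N21166 = N30896 := trfs L611791 (flp_e L262069) rfl
theorem L611800 : N30896 = N30831 := eqes L611799 L261475
theorem L611801 : N30896 = N30831 := eqc rfl L611800 rfl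
theorem L611805 : sm gg N21166 = N16030 := trfs L611791 (flp_g L198637) rfl
theorem L611807 : sm gj N21166 = N34035 := trfs L611791 L288781 rfl
theorem L611808 : N34035 = N14608 := eqes L611807 L179948
theorem L611809 : N34035 = N14608 := eqc rfl L611808 rfl
theorem L611813 : sm gi N21166 = N33944 := trfs L611791 (flp_i L287973) rfl
theorem L611814 : N33944 = N14572 := eqes L611813 L179950
theorem L611815 : N33944 = N14572 := eqc rfl L611814 rfl
theorem L611819 : sm ge N14572 = N44975 := trfs L611815 (flp_e L380513) rfl
theorem L611820 : N44975 = N21202 := eqes L611819 L180273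
theorem L611821 : N44975 = N21202 := eqc rfl L611820 rfl
theorem L611823 : sm ga N21202 = N30852 := trfs L611821 L380508 rfl
theorem L611824 : N30852 = N30346 := eqes L611823 (flp_a L257355)
theorem L611825 : N30852 = N30346 := eqc rfl L611824 rfl
theorem L611827 : sm gd N21202 = N30837 := trfs L611821 L380511 rfl
theorem L611828 : N30837 = N30886 := eqes L611827 L261973
theorem L611829 : N30886 = N30837 := (eqc rfl L611828 rfl).symm
theorem L611830 : sm gg N21202 = N30836 := trfs L611821 (flp_g L380506) rfl
theorem L611831 : N30836 = N30887 := eqes L611830 L261981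
theorem L611832 : N30887 = N30836 := (eqc rfl L611831 rfl).symm
theorem L611837 : sm gb N30836 = N21208 := trfs L611832 L261983 rfl
theorem L611838 : N21208 = N44965 := eqes L611837 (flp_b L380412)
theorem L611839 : N44965 = N21208 := (eqc rfl L611838 rfl).symm
theorem L611846 : sm gf N30836 = N45049 := trfs L611832 L381154 rfl
theorem L611847 : N45049 = N42352 := eqes L611846 (flp_f L358123)
theorem L611848 : N45049 = N42352 := eqc rfl L611847 rfl
theorem L611849 : sm gg N30836 = N21202 := trfs L611832 (flp_g L261981) rfl
theorem L611852 : sm gh N30836 = N45013 := trfs L611832 (flp_h L552806) rfl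
theorem L611853 : N45013 = N44976 := eqes L611852 L380517
theorem L611854 : N45013 = N44976 := eqc rfl L611853 rfl
theorem L611856 : sm gb N44976 = N30900 := trfs L611854 L552802 rfl
theorem L611861 : sm gg N44976 = N30862 := trfs L611854 L380861 rfl
theorem L611863 : sm gb N42352 = N30898 := trfs L611848 L381156 rfl
theorem L611870 : sm gb N21208 = N30836 := trfs L611839 L380412 rfl
theorem L611888 : sm gd N30837 = N21202 := trfs L611829 (flp_d L261973) rfl
theorem L611891 : sm gf N30837 = N42402 := trfs L611829 (flp_f L358584) rfl
theorem L611892 : N42402 = N44977 := eqes L611891 L380526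
theorem L611893 : N44977 = N42402 := (eqc rfl L611892 rfl).symm
theorem L611896 : sm gh N30837 = N45048 := trfs L611829 L381146 rfl
theorem L611897 : N45048 = N44979 := eqes L611896 L380547
theorem L611898 : N45048 = N44979 := eqc rfl L611897 rfl
theorem L611899 : sm gb N44979 = N30897 := trfs L611898 L381148 rfl
theorem L611904 : sm gj N44979 = N31050 := trfs L611898 L381152 rfl
theorem L611914 : sm ga N42402 = N30854 := trfs L611893 L380528 rfl
theorem L611916 : sm gc N42402 = N30845 := trfs L611893 L380530 rfl
theorem L611919 : sm gf N42402 = N30837 := trfs L611893 (flp_f L380526) rfl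
theorem L611921 : sm gi N42402 = N30898 := trfs L611893 L380532 rfl
theorem L611941 : sm gf N30346 = N44998 := trfs L611825 L380739 rfl
theorem L611942 : N44998 = N41917 := eqes L611941 (flp_f L354229)
theorem L611943 : N44998 = N41917 := eqc rfl L611942 rfl
theorem L611944 : sm gg N30346 = N21178 := trfs L611825 (flp_g L261690) rfl
theorem L611947 : sm gh N30346 = N45000 := trfs L611825 L380757 rfl
theorem L611948 : N45000 = N44245 := eqes L611947 L374301
theorem L611949 : N45000 = N44245 := eqc rfl L611948 rfl
theorem L611950 : sm gi N30346 = N21223 := trfs L611825 L261697 rfl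
theorem L611951 : N21223 = N22782 := eqes L611950 (flp_i L591800)
theorem L611952 : N22782 = N21223 := (eqc rfl L611951 rfl).symm
theorem L611955 : sm gb N21223 = N16056 := trfs L611952 L193722 rfl
theorem L611956 : N16056 = N30367 := eqes L611955 (flp_b L257554)
theorem L611957 : N30367 = N16056 := (eqc rfl L611956 rfl).symm
theorem L611962 : sm gf N21223 = N33203 := trfs L611952 L281622 rfl
theorem L611963 : N33203 = N30919 := eqes L611962 L262287
theorem L611964 : N33203 = N30919 := eqc rfl L611963 rfl
theorem L611970 : sm gh N21223 = N30377 := trfs L611952 (flp_h L257648) rfl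
theorem L611971 : N30377 = N30921 := eqes L611970 L262301
theorem L611972 : N30921 = N30377 := (eqc rfl L611971 rfl).symm
theorem L611973 : sm gi N21223 = N30346 := trfs L611952 L591800 rfl
theorem L611975 : sm ga N30377 = N45067 := trfs L611972 (flp_a L381316) rfl
theorem L611976 : N45067 = N44263 := eqes L611975 (flp_a L374481)
theorem L611977 : N45067 = N44263 := eqc rfl L611976 rfl
theorem L611982 : sm gd N30377 = N45103 := trfs L611972 L381654 rfl
theorem L611983 : N45103 = N44287 := eqes L611982 (flp_d L374698)
theorem L611984 : N45103 = N44287 := eqc rfl L611983 rfl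
theorem L611991 : sm gg N30377 = N21224 := trfs L611972 L262306 rfl
theorem L611992 : N21224 = N44291 := eqes L611991 (flp_g L374736)
theorem L611993 : N44291 = N21224 := (eqc rfl L611992 rfl).symm
theorem L611995 : sm gh N30377 = N21223 := trfs L611972 (flp_h L262301) rfl
theorem L611997 : sm gi N30377 = N45104 := trfs L611972 L381660 rfl
theorem L611998 : N45104 = N44294 := eqes L611997 L374761
theorem L611999 : N45104 = N44294 := eqc rfl L611998 rfl
theorem L612004 : sm gg N44294 = N30923 := trfs L611999 L381665 rfl
theorem L612013 : sm gg N21224 = N30377 := trfs L611993 L374736 rfl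
theorem L612161 : sm gg N44287 = N30922 := trfs L611984 L381656 rfl
theorem L612163 : sm gh N44287 = N30927 := trfs L611984 L381658 rfl
theorem L612171 : sm gg N44263 = N30897 := trfs L611977 L381321 rfl
theorem L612177 : sm gb N30919 = N23386 := trfs L611964 L281624 rfl
theorem L612178 : N23386 = N44276 := eqes L612177 (flp_b L374602)
theorem L612179 : N44276 = N23386 := (eqc rfl L612178 rfl).symm
theorem L612181 : sm ge N30919 = N22784 := trfs L611964 L281629 rfl
theorem L612183 : sm gj N30919 = N22972 := trfs L611964 L281627 rfl
theorem L612184 : N22972 = N45100 := eqes L612183 L381633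
theorem L612185 : N45100 = N22972 := (eqc rfl L612184 rfl).symm
theorem L612186 : sm gh N30919 = N44293 := trfs L611964 (flp_h L374757) rfl
theorem L612192 : sm gj N22972 = N30919 := trfs L612185 (flp_j L381633) rfl
theorem L612194 : sm gb N23386 = N30919 := trfs L612179 L374602 rfl
theorem L612196 : sm gd N23386 = N30369 := trfs L612179 L374604 rfl
theorem L612197 : N30369 = N34089 := eqes L612196 (flp_d L289256)
theorem L612198 : N34089 = N30369 := (eqc rfl L612197 rfl).symm
theorem L612200 : sm gd N30369 = N23386 := trfs L612198 L289256 rfl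
theorem L612203 : sm gf N30369 = N23380 := trfs L612198 (flp_f L289254) rfl
theorem L612204 : N23380 = N20855 := eqes L612203 (flp_f L257568)
theorem L612205 : N23380 = N20855 := eqc rfl L612204 rfl
theorem L612206 : sm gj N30369 = N23572 := trfs L612198 L289258 rfl
theorem L612207 : N23572 = N44281 := eqes L612206 L374640
theorem L612208 : N44281 = N23572 := (eqc rfl L612207 rfl).symm
theorem L612211 : sm gc N23572 = N30382 := trfs L612208 L374644 rfl
theorem L612212 : N30382 = N34375 := eqes L612211 (flp_c L291558)
theorem L612213 : N34375 = N30382 := (eqc rfl L612212 rfl).symm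
theorem L612216 : sm gj N23572 = N30369 := trfs L612208 (flp_j L374640) rfl
theorem L612218 : sm gc N30382 = N23572 := trfs L612213 L291558 rfl
theorem L612236 : sm gh N20855 = N34075 := trfs L612205 (flp_h L289157) rfl
theorem L612237 : N34075 = N30371 := eqes L612236 L257585
theorem L612238 : N34075 = N30371 := eqc rfl L612237 rfl
theorem L612240 : sm gd N30371 = N45106 := trfs L612238 (flp_d L381680) rfl
theorem L612241 : N45106 = N44284 := eqes L612240 L374670
theorem L612242 : N45106 = N44284 := eqc rfl L612241 rfl
theorem L612246 : sm ge N44284 = N30922 := trfs L612242 (flp_e L381674) rfl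
theorem L612248 : sm gj N44284 = N31108 := trfs L612242 L381676 rfl
theorem L612250 : sm gh N44284 = N30930 := trfs L612242 L381678 rfl
theorem L612257 : sm gb N16056 = N21223 := trfs L611957 L257554 rfl
theorem L612259 : sm gc N16056 = N43921 := trfs L611957 (flp_c L371545) rfl
theorem L612260 : N43921 = N11359 := eqes L612259 L137007
theorem L612261 : N43921 = N11359 := eqc rfl L612260 rfl
theorem L612262 : sm gd N16056 = N20855 := trfs L611957 L257556 rfl
theorem L612269 : sm gd N11359 = N30130 := trfs L612261 L371547 rfl
theorem L612270 : N30130 = N16505 := eqes L612269 (flp_d L140787)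
theorem L612271 : N30130 = N16505 := eqc rfl L612270 rfl
theorem L612285 : sm gf N16505 = N43923 := trfs L612271 L371560 rfl
theorem L612286 : N43923 = N24028 := eqes L612285 L204325
theorem L612287 : N43923 = N24028 := eqc rfl L612286 rfl
theorem L612291 : sm gh N16505 = N43925 := trfs L612271 L371574 rfl
theorem L612292 : N43925 = N24015 := eqes L612291 (flp_h L204221)
theorem L612293 : N43925 = N24015 := eqc rfl L612292 rfl
theorem L612299 : sm gg N24015 = N30131 := trfs L612293 L371581 rfl
theorem L612300 : N30131 = N34987 := eqes L612299 (flp_g L296633)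
theorem L612301 : N34987 = N30131 := (eqc rfl L612300 rfl).symm
theorem L612304 : sm gg N30131 = N24015 := trfs L612301 L296633 rfl
theorem L612308 : sm gc N24028 = N30138 := trfs L612287 L371563 rfl
theorem L612309 : N30138 = N35012 := eqes L612308 (flp_c L296836)
theorem L612310 : N35012 = N30138 := (eqc rfl L612309 rfl).symm
theorem L612311 : sm gc N30138 = N24028 := trfs L612310 L296836 rfl
theorem L612313 : sm ge N30138 = N24344 := trfs L612310 L296840 rfl
theorem L612314 : N24344 = N43808 := eqes L612313 (flp_e L370525)
theorem L612315 : N43808 = N24344 := (eqc rfl L612314 rfl).symm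
theorem L612322 : sm ge N24344 = N30138 := trfs L612315 L370525 rfl
theorem L612338 : sm gg N44245 = N30853 := trfs L611949 L380762 rfl
theorem L612345 : sm gd N41917 = N30854 := trfs L611943 L380742 rfl
theorem L612347 : sm gi N41917 = N30919 := trfs L611943 L380744 rfl
theorem L612362 : sm gg N14608 = N23518 := trfs L611809 L288788 rfl
theorem L612363 : N23518 = N21258 := eqes L612362 L180752
theorem L612364 : N23518 = N21258 := eqc rfl L612363 rfl
theorem L612373 : sm gh N21258 = N34294 := trfs L612364 L290928 rfl
theorem L612374 : N34294 = N30510 := eqes L612373 (flp_h L474104)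
theorem L612375 : N34294 = N30510 := eqc rfl L612374 rfl
theorem L612387 : sm gj N30510 = N23519 := trfs L612375 L290933 rfl
theorem L612388 : N23519 = N44492 := eqes L612387 (flp_j L376447)
theorem L612389 : N44492 = N23519 := (eqc rfl L612388 rfl).symm
theorem L612398 : sm gj N23519 = N30510 := trfs L612389 L376447 rfl
theorem L612410 : sm ga N30831 = N21223 := trfs L611801 L262064 rfl
theorem L612413 : sm gd N30831 = N21208 := trfs L611801 L262067 rfl
theorem L612415 : sm gf N30831 = N45065 := trfs L611801 L381296 rfl
theorem L612416 : N45065 = N42347 := eqes L612415 (flp_f L358079)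
theorem L612417 : N45065 = N42347 := eqc rfl L612416 rfl
theorem L612420 : sm ga N42347 = N30919 := trfs L612417 L381298 rfl
theorem L612423 : sm gd N42347 = N30898 := trfs L612417 L381301 rfl
theorem L612425 : sm gb N21207 = N30837 := trfs L611787 L380422 rfl
theorem L612428 : sm gg N21207 = N30831 := trfs L611787 (flp_g L380420) rfl
theorem L612433 : sm gb N21169 = N16030 := trfs L611782 (flp_b L552272) rfl
theorem L612453 : sm ge N21203 = N30836 := trfs L611767 (flp_e L261531) rfl
theorem L612456 : sm gj N21203 = N16085 := trfs L611767 L198085 rfl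
theorem L612459 : sm gi N21203 = N16030 := trfs L611767 L198087 rfl
theorem L612464 : sm gg N21262 = N31052 := trfs L611761 L381167 rfl
theorem L612465 : N31052 = N30977 := eqes L612464 L262761
theorem L612466 : N31052 = N30977 := eqc rfl L612465 rfl
theorem L612468 : sm gb N30977 = N21325 := trfs L612466 L263356 rfl
theorem L612469 : N21325 = N45169 := eqes L612468 (flp_b L382184)
theorem L612470 : N45169 = N21325 := (eqc rfl L612469 rfl).symm
theorem L612477 : sm gf N30977 = N45297 := trfs L612466 (flp_f L383188) rfl
theorem L612478 : N45297 = N45187 := eqes L612477 L382331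
theorem L612479 : N45297 = N45187 := eqc rfl L612478 rfl
theorem L612482 : sm gh N30977 = N45245 := trfs L612466 (flp_h L552219) rfl
theorem L612483 : N45245 = N45189 := eqes L612482 L382351
theorem L612484 : N45245 = N45189 := eqc rfl L612483 rfl
theorem L612485 : sm gi N30977 = N45172 := trfs L612466 (flp_i L382214) rfl
theorem L612486 : N45172 = N21322 := eqes L612485 L262770
theorem L612487 : N45172 = N21322 := eqc rfl L612486 rfl
theorem L612488 : sm gb N21322 = N30980 := trfs L612487 L382209 rfl
theorem L612489 : N30980 = N31049 := eqes L612488 (flp_b L263335)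
theorem L612490 : N31049 = N30980 := (eqc rfl L612489 rfl).symm
theorem L612496 : sm gb N30980 = N21322 := trfs L612490 L263335 rfl
theorem L612498 : sm gc N30980 = N45290 := trfs L612490 (flp_c L383135) rfl
theorem L612499 : N45290 = N21272 := eqes L612498 L262793
theorem L612500 : N45290 = N21272 := eqc rfl L612499 rfl
theorem L612504 : sm gf N30980 = N45292 := trfs L612490 L383147 rfl
theorem L612505 : N45292 = N45192 := eqes L612504 (flp_f L382383)
theorem L612506 : N45292 = N45192 := eqc rfl L612505 rfl
theorem L612510 : sm gh N30980 = N45294 := trfs L612490 L383161 rfl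
theorem L612511 : N45294 = N45194 := eqes L612510 L382397
theorem L612512 : N45294 = N45194 := eqc rfl L612511 rfl
theorem L612514 : sm gb N45194 = N31069 := trfs L612512 L383163 rfl
theorem L612517 : sm gg N45194 = N31050 := trfs L612512 L383167 rfl
theorem L612519 : sm gb N45192 = N31067 := trfs L612506 L383149 rfl
theorem L612521 : sm gd N45192 = N31051 := trfs L612506 L383151 rfl
theorem L612525 : sm ge N21272 = N34205 := trfs L612500 (flp_e L544553) rfl
theorem L612526 : N34205 = N14617 := eqes L612525 L180889
theorem L612527 : N34205 = N14617 := eqc rfl L612526 rfl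
theorem L612531 : sm gd N14617 = N23479 := trfs L612527 L290255 rfl
theorem L612532 : N23479 = N10062 := eqes L612531 L124606
theorem L612533 : N23479 = N10062 := eqc rfl L612532 rfl
theorem L612547 : sm gj N10062 = N34232 := trfs L612533 (flp_j L290437) rfl
theorem L612548 : N34232 = N6935 := eqes L612547 (flp_j L86034)
theorem L612549 : N34232 = N6935 := eqc rfl L612548 rfl
theorem L612627 : sm gc N6935 = N23477 := trfs L612549 (flp_c L290434) rfl
theorem L612628 : N23477 = N5257 := eqes L612627 L59516
theorem L612629 : N23477 = N5257 := eqc rfl L612628 rfl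
theorem L612636 : sm gf N5257 = N34227 := trfs L612629 (flp_f L290393) rfl
theorem L612637 : N34227 = N3661 := eqes L612636 L45346
theorem L612638 : N34227 = N3661 := eqc rfl L612637 rfl
theorem L612685 : sm gb N3661 = N23485 := trfs L612638 L290391 rfl
theorem L612686 : N23485 = N2855 := eqes L612685 L31727
theorem L612687 : N23485 = N2855 := eqc rfl L612686 rfl
theorem L612707 : sm gi N2855 = N34244 := trfs L612687 L290534 rfl
theorem L612708 : N34244 = N1992 := eqes L612707 L24762
theorem L612709 : N34244 = N1992 := eqc rfl L612708 rfl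
theorem L612716 : sm gj N1992 = N23489 := trfs L612709 L290542 rfl
theorem L612717 : N23489 = N2875 := eqes L612716 L24910
theorem L612718 : N23489 = N2875 := eqc rfl L612717 rfl
theorem L612725 : sm ge N2875 = N34248 := trfs L612718 (flp_e L290574) rfl
theorem L612726 : N34248 = N2023 := eqes L612725 L24915
theorem L612727 : N34248 = N2023 := eqc rfl L612726 rfl
theorem L612741 : sm gi N2023 = N23488 := trfs L612727 (flp_i L290568) rfl
theorem L612742 : N23488 = N2898 := eqes L612741 (flp_i L25092)
theorem L612743 : N23488 = N2898 := eqc rfl L612742 rfl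
theorem L612751 : sm gd N2898 = N16285 := trfs L612743 L199863 rfl
theorem L612752 : N16285 = N4189 := eqes L612751 (flp_d L36088)
theorem L612753 : N16285 = N4189 := eqc rfl L612752 rfl
theorem L612770 : sm gh N4189 = N11307 := trfs L612753 L138929 rfl
theorem L612771 : N11307 = N6065 := eqes L612770 L52039
theorem L612772 : N11307 = N6065 := eqc rfl L612771 rfl
theorem L612778 : sm gc N6065 = N16439 := trfs L612772 (flp_c L140188) rfl
theorem L612779 : N16439 = N8786 := eqes L612778 (flp_c L75109)
theorem L612780 : N16439 = N8786 := eqc rfl L612779 rfl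
theorem L612786 : sm gj N6065 = N16437 := trfs L612772 (flp_j L140172) rfl
theorem L612787 : N16437 = N4190 := eqes L612786 L52045
theorem L612788 : N16437 = N4190 := eqc rfl L612787 rfl
theorem L612798 : sm gg N4190 = N23926 := trfs L612788 (flp_g L203410) rfl
theorem L612799 : N23926 = N2897 := eqes L612798 L36099
theorem L612800 : N23926 = N2897 := eqc rfl L612799 rfl
theorem L612816 : sm gh N2897 = N34578 := trfs L612800 (flp_h L293200) rfl
theorem L612817 : N34578 = N2006 := eqes L612816 (flp_h L25076)
theorem L612818 : N34578 = N2006 := eqc rfl L612817 rfl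
theorem L612823 : sm gc N2006 = N27117 := trfs L612818 L542155 rfl
theorem L612824 : N27117 = N2893 := eqes L612823 (flp_c L25043)
theorem L612825 : N27117 = N2893 := eqc rfl L612824 rfl
theorem L612847 : sm gi N2893 = N39363 := trfs L612825 (flp_i L332584) rfl
theorem L612848 : N39363 = N2020 := eqes L612847 L25047
theorem L612849 : N39363 = N2020 := eqc rfl L612848 rfl
theorem L612857 : sm gg N2020 = N27002 := trfs L612849 (flp_g L332577) rfl
theorem L612858 : N27002 = N2914 := eqes L612857 L25221
theorem L612859 : N27002 = N2914 := eqc rfl L612858 rfl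
theorem L612871 : sm gj N2914 = N18547 := trfs L612859 (flp_j L228751) rfl
theorem L612872 : N18547 = N4212 := eqes L612871 L36281
theorem L612873 : N18547 = N4212 := eqc rfl L612872 rfl
theorem L612884 : sm ge N4212 = N12749 := trfs L612873 (flp_e L157552) rfl
theorem L612885 : N12749 = N6093 := eqes L612884 (flp_e L52273)
theorem L612886 : N12749 = N6093 := eqc rfl L612885 rfl
theorem L612891 : sm ga N6093 = N8795 := trfs L612886 L108618 rfl
theorem L612892 : N8795 = N4218 := eqes L612891 L52269
theorem L612893 : N8795 = N4218 := eqc rfl L612892 rfl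
theorem L612894 : sm gb N6093 = N18528 := trfs L612886 (flp_b L157379) rfl
theorem L612895 : N18528 = N8827 := eqes L612894 (flp_b L75446)
theorem L612896 : N18528 = N8827 := eqc rfl L612895 rfl
theorem L612905 : sm gi N6093 = N8828 := trfs L612886 L108622 rfl
theorem L612906 : N8828 = N8783 := eqes L612905 (flp_i L75084)
theorem L612907 : N8828 = N8783 := eqc rfl L612906 rfl
theorem L612908 : sm ga N8783 = N6095 := trfs L612907 L75454 rfl
theorem L612909 : N6095 = N6069 := eqes L612908 L75078
theorem L612910 : N6095 = N6069 := eqc rfl L612909 rfl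
theorem L612911 : sm gb N8783 = N12808 := trfs L612907 (flp_b L109102) rfl
theorem L612912 : N12808 = N12740 := eqes L612911 (flp_b L108535)
theorem L612913 : N12808 = N12740 := eqc rfl L612912 rfl
theorem L612915 : sm gd N8783 = N6092 := trfs L612907 L75456 rfl
theorem L612916 : N6092 = N12750 := eqes L612915 (flp_d L108629)
theorem L612917 : N12750 = N6092 := (eqc rfl L612916 rfl).symm
theorem L612919 : sm gf N8783 = N6090 := trfs L612907 (flp_f L75452) rfl
theorem L612920 : N6090 = N12754 := eqes L612919 (flp_f L108666)
theorem L612921 : N12754 = N6090 := (eqc rfl L612920 rfl).symm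
theorem L612924 : sm gh N8783 = N11306 := trfs L612907 L561236 rfl
theorem L612925 : N11306 = N12756 := eqes L612924 L108681
theorem L612926 : N12756 = N11306 := (eqc rfl L612925 rfl).symm
theorem L612927 : sm ga N11306 = N8802 := trfs L612926 L108683 rfl
theorem L612928 : N8802 = N8818 := eqes L612927 L96737
theorem L612929 : N8818 = N8802 := (eqc rfl L612928 rfl).symm
theorem L612930 : sm gb N11306 = N14005 := trfs L612926 L579710 rfl
theorem L612931 : N14005 = N16438 := eqes L612930 L140177
theorem L612932 : N16438 = N14005 := (eqc rfl L612931 rfl).symm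
theorem L612939 : sm gj N11306 = N8784 := trfs L612926 L108690 rfl
theorem L612940 : N8784 = N16436 := eqes L612939 (flp_j L140164)
theorem L612941 : N16436 = N8784 := (eqc rfl L612940 rfl).symm
theorem L612942 : sm gh N11306 = N8783 := trfs L612926 (flp_h L108681) rfl
theorem L612956 : sm gg N8784 = N23925 := trfs L612941 (flp_g L203401) rfl
theorem L612957 : N23925 = N6056 := eqes L612956 L75095
theorem L612958 : N23925 = N6056 := eqc rfl L612957 rfl
theorem L612959 : sm gj N8784 = N11306 := trfs L612941 L140164 rfl
theorem L612966 : sm gb N6056 = N34863 := trfs L612958 L295510 rfl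
theorem L612967 : N34863 = N6660 := eqes L612966 (flp_b L561043)
theorem L612968 : N34863 = N6660 := eqc rfl L612967 rfl
theorem L612981 : sm gh N6660 = N27113 := trfs L612968 L561262 rfl
theorem L612982 : N27113 = N6050 := eqes L612981 (flp_h L561085)
theorem L612983 : N27113 = N6050 := eqc rfl L612982 rfl
theorem L612999 : sm gi N6050 = N39321 := trfs L612983 (flp_i L332210) rfl
theorem L613000 : N39321 = N4208 := eqes L612999 L51904
theorem L613001 : N39321 = N4208 := eqc rfl L613000 rfl
theorem L613008 : sm gg N4208 = N26974 := trfs L613001 (flp_g L332203) rfl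
theorem L613009 : N26974 = N6088 := eqes L613008 L52226
theorem L613010 : N26974 = N6088 := eqc rfl L613009 rfl
theorem L613017 : sm gd N6088 = N18533 := trfs L613010 L228504 rfl
theorem L613018 : N18533 = N8824 := eqes L613017 (flp_d L75423)
theorem L613019 : N18533 = N8824 := eqc rfl L613018 rfl
theorem L613021 : sm gf N6088 = N18529 := trfs L613010 L228506 rfl
theorem L613022 : N18529 = N8826 := eqes L613021 L75435
theorem L613023 : N18529 = N8826 := eqc rfl L613022 rfl
theorem L613036 : sm gj N8826 = N12737 := trfs L613023 (flp_j L157386) rfl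
theorem L613037 : N12737 = N12812 := eqes L613036 L109134
theorem L613038 : N12812 = N12737 := (eqc rfl L613037 rfl).symm
theorem L613040 : sm gi N8826 = N12809 := trfs L613023 L157394 rfl
theorem L613041 : N12809 = N12739 := eqes L613040 (flp_i L108528)
theorem L613042 : N12809 = N12739 := eqc rfl L613041 rfl
theorem L613045 : sm gc N12739 = N18624 := trfs L613042 (flp_c L158185) rfl
theorem L613046 : N18624 = N14040 := eqes L613045 L561212
theorem L613047 : N18624 = N14040 := eqc rfl L613046 rfl
theorem L613055 : sm gh N12739 = N16440 := trfs L613042 (flp_h L561281) rfl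
theorem L613056 : N16440 = N14004 := eqes L613055 L561216
theorem L613057 : N16440 = N14004 := eqc rfl L613056 rfl
theorem L613068 : sm gj N14004 = N11309 := trfs L613057 L140198 rfl
theorem L613069 : N11309 = N20360 := eqes L613068 L173018
theorem L613070 : N20360 = N11309 := (eqc rfl L613069 rfl).symm
theorem L613074 : sm gc N11309 = N14039 := trfs L613070 L173021 rfl
theorem L613075 : N14039 = N16433 := eqes L613074 (flp_c L140139)
theorem L613076 : N16433 = N14039 := (eqc rfl L613075 rfl).symm
theorem L613081 : sm gg N11309 = N29634 := trfs L613070 L251229 rfl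
theorem L613082 : N29634 = N7793 := eqes L613081 L96766
theorem L613083 : N29634 = N7793 := eqc rfl L613082 rfl
theorem L613084 : sm gj N11309 = N14004 := trfs L613070 (flp_j L173018) rfl
theorem L613090 : sm gc N7793 = N20412 := trfs L613083 L251232 rfl
theorem L613091 : N20412 = N11303 := eqes L613090 (flp_c L96713)
theorem L613092 : N20412 = N11303 := eqc rfl L613091 rfl
theorem L613103 : sm gd N11303 = N29376 := trfs L613092 (flp_d L249045) rfl
theorem L613104 : N29376 = N16421 := eqes L613103 (flp_d L140043)
theorem L613105 : N29376 = N16421 := eqc rfl L613104 rfl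
theorem L613111 : sm gh N11303 = N29712 := trfs L613092 L251889 rfl
theorem L613112 : N29712 = N8823 := eqes L613111 (flp_h L561333)
theorem L613113 : N29712 = N8823 := eqc rfl L613112 rfl
theorem L613125 : sm gg N8823 = N20413 := trfs L613113 L251894 rfl
theorem L613126 : N20413 = N12806 := eqes L613125 L109085
theorem L613127 : N20413 = N12806 := eqc rfl L613126 rfl
theorem L613129 : sm gi N8823 = N23943 := trfs L613113 (flp_i L536978) rfl
theorem L613130 : N23943 = N12736 := eqes L613129 (flp_i L108503)
theorem L613131 : N23943 = N12736 := eqc rfl L613130 rfl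
theorem L613133 : sm gb N12736 = N16454 := trfs L613131 L203551 rfl
theorem L613134 : N16454 = N15946 := eqes L613133 (flp_b L545349)
theorem L613135 : N16454 = N15946 := eqc rfl L613134 rfl
theorem L613142 : sm gg N12736 = N16448 := trfs L613131 (flp_g L203548) rfl
theorem L613143 : N16448 = N18526 := eqes L613142 L157360
theorem L613144 : N18526 = N16448 := (eqc rfl L613143 rfl).symm
theorem L613148 : sm gb N16448 = N23223 := trfs L613144 (flp_b L561366) rfl
theorem L613149 : N23223 = N11320 := eqes L613148 L140259
theorem L613150 : N23223 = N11320 := eqc rfl L613149 rfl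
theorem L613153 : sm gd N16448 = N20418 := trfs L613144 (flp_d L561439) rfl
theorem L613154 : N20418 = N23939 := eqes L613153 (flp_d L203518)
theorem L613155 : N23939 = N20418 := (eqc rfl L613154 rfl).symm
theorem L613157 : sm gf N16448 = N26968 := trfs L613144 L228449 rfl
theorem L613158 : N26968 = N11315 := eqes L613157 L140264
theorem L613159 : N26968 = N11315 := eqc rfl L613158 rfl
theorem L613160 : sm gg N16448 = N12736 := trfs L613144 (flp_g L157360) rfl
theorem L613169 : sm gd N11315 = N29715 := trfs L613159 L561358 rfl
theorem L613170 : N29715 = N16445 := eqes L613169 (flp_d L140237)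
theorem L613171 : N29715 = N16445 := eqc rfl L613170 rfl
theorem L613178 : sm gi N11315 = N18623 := trfs L613159 L228454 rfl
theorem L613179 : N18623 = N14041 := eqes L613178 L561143
theorem L613180 : N18623 = N14041 := eqc rfl L613179 rfl
theorem L613184 : sm gd N14041 = N23933 := trfs L613180 (flp_d L203473) rfl
theorem L613185 : N23933 = N20416 := eqes L613184 L173493
theorem L613186 : N23933 = N20416 := eqc rfl L613185 rfl
theorem L613196 : sm gh N14041 = N23921 := trfs L613180 L561339 rfl
theorem L613197 : N23921 = N9674 := eqes L613196 (flp_h L119617)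
theorem L613198 : N23921 = N9674 := eqc rfl L613197 rfl
theorem L613205 : sm ge N9674 = N34860 := trfs L613198 L295486 rfl
theorem L613206 : N34860 = N6678 := eqes L613205 L82666
theorem L613207 : N34860 = N6678 := eqc rfl L613206 rfl
theorem L613221 : sm gb N6678 = N23922 := trfs L613207 L295488 rfl
theorem L613222 : N23922 = N9670 := eqes L613221 (flp_b L82631)
theorem L613223 : N23922 = N9670 := eqc rfl L613222 rfl
theorem L613224 : sm gc N6678 = N23930 := trfs L613207 L295490 rfl
theorem L613225 : N23930 = N9652 := eqes L613224 (flp_c L82477)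
theorem L613226 : N23930 = N9652 := eqc rfl L613225 rfl
theorem L613233 : sm gd N9652 = N34870 := trfs L613226 L295574 rfl
theorem L613234 : N34870 = N6664 := eqes L613233 L82479
theorem L613235 : N34870 = N6664 := eqc rfl L613234 rfl
theorem L613278 : sm gb N6664 = N23931 := trfs L613235 L295576 rfl
theorem L613279 : N23931 = N9649 := eqes L613278 (flp_b L82448)
theorem L613280 : N23931 = N9649 := eqc rfl L613279 rfl
theorem L613294 : sm gj N9649 = N34868 := trfs L613280 (flp_j L295560) rfl
theorem L613295 : N34868 = N6659 := eqes L613294 (flp_j L82446)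
theorem L613296 : N34868 = N6659 := eqc rfl L613295 rfl
theorem L613299 : sm ga N6659 = N27099 := trfs L613296 L295557 rfl
theorem L613300 : N27099 = N6073 := eqes L613299 (flp_a L560964)
theorem L613301 : N27099 = N6073 := eqc rfl L613300 rfl
theorem L613310 : sm gd N6073 = N18618 := trfs L613301 (flp_d L229552) rfl
theorem L613311 : N18618 = N4195 := eqes L613310 (flp_d L52108)
theorem L613312 : N18618 = N4195 := eqc rfl L613311 rfl
theorem L613400 : sm gh N4195 = N12819 := trfs L613312 L542179 rfl
theorem L613401 : N12819 = N2900 := eqes L613400 (flp_h L36140)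
theorem L613402 : N12819 = N2900 := eqc rfl L613401 rfl
theorem L613408 : sm ge N2900 = N8835 := trfs L613402 L109197 rfl
theorem L613409 : N8835 = N4192 := eqes L613408 (flp_e L36116)
theorem L613410 : N8835 = N4192 := eqc rfl L613409 rfl
theorem L613429 : sm gd N4192 = N6099 := trfs L613410 L75510 rfl
theorem L613430 : N6099 = N6066 := eqes L613429 (flp_d L52052)
theorem L613431 : N6099 = N6066 := eqc rfl L613430 rfl
theorem L613432 : sm gf N4192 = N6096 := trfs L613410 L75512 rfl
theorem L613433 : N6096 = N6068 := eqes L613432 L52063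
theorem L613434 : N6096 = N6068 := eqc rfl L613433 rfl
theorem L613440 : sm gi N4192 = N12771 := trfs L613410 (flp_i L108821) rfl
theorem L613441 : N12771 = N2918 := eqes L613440 L36118
theorem L613442 : N12771 = N2918 := eqc rfl L613441 rfl
theorem L613450 : sm gf N2918 = N8796 := trfs L613442 L108819 rfl
theorem L613451 : N8796 = N4217 := eqes L613450 L36319
theorem L613452 : N8796 = N4217 := eqc rfl L613451 rfl
theorem L613453 : sm gg N2918 = N18578 := trfs L613442 L157821 rfl
theorem L613454 : N18578 = N2024 := eqes L613453 (flp_g L25252)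
theorem L613455 : N18578 = N2024 := eqc rfl L613454 rfl
theorem L613461 : sm gd N2024 = N12779 := trfs L613455 L157824 rfl
theorem L613462 : N12779 = N2917 := eqes L613461 L25246
theorem L613463 : N12779 = N2917 := eqc rfl L613462 rfl
theorem L613476 : sm gh N2917 = N18592 := trfs L613463 L157929 rfl
theorem L613477 : N18592 = N4207 := eqes L613476 (flp_h L491607)
theorem L613478 : N18592 = N4207 := eqc rfl L613477 rfl
theorem L613497 : sm gg N4207 = N12780 := trfs L613478 L157936 rfl
theorem L613498 : N12780 = N6085 := eqes L613497 (flp_g L52207)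
theorem L613499 : N12780 = N6085 := eqc rfl L613498 rfl
theorem L613509 : sm gj N6085 = N8801 := trfs L613499 L108890 rfl
theorem L613510 : N8801 = N8820 := eqes L613509 (flp_j L75394)
theorem L613511 : N8820 = N8801 := (eqc rfl L613510 rfl).symm
theorem L613522 : sm gj N8801 = N6085 := trfs L613511 L75394 rfl
theorem L613528 : sm gc N4217 = N12340 := trfs L613452 L579797 rfl
theorem L613529 : N12340 = N2920 := eqes L613528 L36322
theorem L613530 : N12340 = N2920 := eqc rfl L613529 rfl
theorem L613541 : sm gd N2920 = N8494 := trfs L613530 (flp_d L105298) rfl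
theorem L613542 : N8494 = N4170 := eqes L613541 (flp_d L35929)
theorem L613543 : N8494 = N4170 := eqc rfl L613542 rfl
theorem L613564 : sm gh N4170 = N5855 := trfs L613543 (flp_h L72740) rfl
theorem L613565 : N5855 = N5826 := eqes L613564 (flp_h L589908)
theorem L613566 : N5855 = N5826 := eqc rfl L613565 rfl
theorem L613606 : sm gj N5826 = N4044 := trfs L613566 (flp_j L50352) rfl
theorem L613607 : N4044 = N8448 := eqes L613606 L72371
theorem L613608 : N8448 = N4044 := (eqc rfl L613607 rfl).symm
theorem L613643 : sm gj N4044 = N5826 := trfs L613608 (flp_j L72371) rfl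
theorem L613696 : sm gj N6068 = N4215 := trfs L613434 (flp_j L52291) rfl
theorem L613705 : sm gj N6066 = N4217 := trfs L613431 (flp_j L52312) rfl
theorem L613723 : sm ga N9670 = N34807 := trfs L613223 (flp_a L295077) rfl
theorem L613724 : N34807 = N7779 := eqes L613723 L543892
theorem L613725 : N34807 = N7779 := eqc rfl L613724 rfl
theorem L613756 : sm ge N7779 = N23881 := trfs L613725 (flp_e L295075) rfl
theorem L613757 : N23881 = N11290 := eqes L613756 (flp_e L96608)
theorem L613758 : N23881 = N11290 := eqc rfl L613757 rfl
theorem L613765 : sm gd N11290 = N29355 := trfs L613758 (flp_d L533170) rfl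
theorem L613766 : N29355 = N16418 := eqes L613765 L140019
theorem L613767 : N29355 = N16418 := eqc rfl L613766 rfl
theorem L613768 : sm gf N11290 = N16404 := trfs L613758 L203053 rfl
theorem L613769 : N16404 = N16416 := eqes L613768 (flp_f L140007)
theorem L613770 : N16416 = N16404 := (eqc rfl L613769 rfl).symm
theorem L613775 : sm gh N11290 = N33922 := trfs L613758 (flp_h L545624) rfl
theorem L613776 : N33922 = N7776 := eqes L613775 (flp_h L96603)
theorem L613777 : N33922 = N7776 := eqc rfl L613776 rfl
theorem L613782 : sm gf N7776 = N23271 := trfs L613777 L287769 rfl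
theorem L613783 : N23271 = N11288 := eqes L613782 (flp_f L96589)
theorem L613784 : N23271 = N11288 := eqc rfl L613783 rfl
theorem L613786 : sm gi N7776 = N23266 := trfs L613777 (flp_i L287764) rfl
theorem L613787 : N23266 = N5389 := eqes L613786 L66789
theorem L613788 : N23266 = N5389 := eqc rfl L613787 rfl
theorem L613798 : sm gf N5389 = N15978 := trfs L613788 L197899 rfl
theorem L613799 : N15978 = N7806 := eqes L613798 (flp_f L67034)
theorem L613800 : N15978 = N7806 := eqc rfl L613799 rfl
theorem L613802 : sm gj N5389 = N33918 := trfs L613788 (flp_j L287734) rfl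
theorem L613803 : N33918 = N3724 := eqes L613802 (flp_j L46463)
theorem L613804 : N33918 = N3724 := eqc rfl L613803 rfl
theorem L613808 : sm gf N3724 = N23269 := trfs L613804 L287732 rfl
theorem L613809 : N23269 = N5388 := eqes L613808 L46455
theorem L613810 : N23269 = N5388 := eqc rfl L613809 rfl
theorem L613824 : sm gi N5388 = N33925 := trfs L613810 L287788 rfl
theorem L613825 : N33925 = N7775 := eqes L613824 (flp_i L66778)
theorem L613826 : N33925 = N7775 := eqc rfl L613825 rfl
theorem L613827 : sm ga N7775 = N23710 := trfs L613826 L509746 rfl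
theorem L613828 : N23710 = N11270 := eqes L613827 (flp_a L96424)
theorem L613829 : N23710 = N11270 := eqc rfl L613828 rfl
theorem L613835 : sm gh N7775 = N23883 := trfs L613826 L509751 rfl
theorem L613836 : N23883 = N11289 := eqes L613835 L96593
theorem L613837 : N23883 = N11289 := eqc rfl L613836 rfl
theorem L613838 : sm ga N11289 = N16432 := trfs L613837 L203069 rfl
theorem L613839 : N16432 = N14032 := eqes L613838 (flp_a L543908)
theorem L613840 : N16432 = N14032 := eqc rfl L613839 rfl
theorem L613843 : sm gd N11289 = N29356 := trfs L613837 (flp_d L536996) rfl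
theorem L613844 : N29356 = N16417 := eqes L613843 L140012
theorem L613845 : N29356 = N16417 := eqc rfl L613844 rfl
theorem L613852 : sm ga N16417 = N23906 := trfs L613845 L536993 rfl
theorem L613853 : N23906 = N20181 := eqes L613852 (flp_a L543784)
theorem L613854 : N23906 = N20181 := eqc rfl L613853 rfl
theorem L613856 : sm gc N16417 = N20182 := trfs L613845 L248873 rfl
theorem L613857 : N20182 = N23904 := eqes L613856 L203231
theorem L613858 : N23904 = N20182 := (eqc rfl L613857 rfl).symm
theorem L613859 : sm ge N16417 = N20175 := trfs L613845 L248875 rfl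
theorem L613860 : N20175 = N23905 := eqes L613859 L203239
theorem L613861 : N23905 = N20175 := (eqc rfl L613860 rfl).symm
theorem L613866 : sm gj N16417 = N20173 := trfs L613845 (flp_j L248870) rfl
theorem L613867 : N20173 = N23903 := eqes L613866 (flp_j L203228)
theorem L613868 : N23903 = N20173 := (eqc rfl L613867 rfl).symm
theorem L613869 : sm gh N16417 = N42781 := trfs L613845 L361774 rfl
theorem L613870 : N42781 = N23890 := eqes L613869 (flp_h L203130)
theorem L613871 : N42781 = N23890 := eqc rfl L613870 rfl
theorem L613874 : sm gc N23890 = N29370 := trfs L613871 L361777 rfl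
theorem L613875 : N29370 = N34817 := eqes L613874 L295157
theorem L613876 : N34817 = N29370 := (eqc rfl L613875 rfl).symm
theorem L613877 : sm ge N23890 = N29360 := trfs L613871 L361779 rfl
theorem L613878 : N29360 = N34818 := eqes L613877 L295164
theorem L613879 : N34818 = N29360 := (eqc rfl L613878 rfl).symm
theorem L613881 : sm gj N23890 = N29357 := trfs L613871 L361782 rfl
theorem L613882 : N29357 = N34815 := eqes L613881 (flp_j L295144)
theorem L613883 : N34815 = N29357 := (eqc rfl L613882 rfl).symm
theorem L613885 : sm gd N29357 = N23889 := trfs L613883 (flp_d L295139) rfl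
theorem L613886 : N23889 = N42782 := eqes L613885 L361784
theorem L613887 : N42782 = N23889 := (eqc rfl L613886 rfl).symm
theorem L613888 : sm gf N29357 = N23892 := trfs L613883 L295142 rfl
theorem L613889 : N23892 = N42780 := eqes L613888 (flp_f L361771)
theorem L613890 : N42780 = N23892 := (eqc rfl L613889 rfl).symm
theorem L613891 : sm gj N29357 = N23890 := trfs L613883 L295144 rfl
theorem L613895 : sm gc N23892 = N29369 := trfs L613890 L361769 rfl
theorem L613896 : N29369 = N34820 := eqes L613895 L295179
theorem L613897 : N34820 = N29369 := (eqc rfl L613896 rfl).symm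
theorem L613898 : sm gf N23892 = N29357 := trfs L613890 L361771 rfl
theorem L613902 : sm gc N29369 = N23892 := trfs L613897 (flp_c L295179) rfl
theorem L613905 : sm gj N29369 = N23894 := trfs L613897 L295182 rfl
theorem L613906 : N23894 = N42798 := eqes L613905 (flp_j L361920)
theorem L613907 : N42798 = N23894 := (eqc rfl L613906 rfl).symm
theorem L613909 : sm gb N23894 = N29377 := trfs L613907 L361916 rfl
theorem L613910 : N29377 = N34823 := eqes L613909 L295203
theorem L613911 : N34823 = N29377 := (eqc rfl L613910 rfl).symm
theorem L613914 : sm gj N23894 = N29369 := trfs L613907 L361920 rfl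
theorem L613916 : sm gh N23894 = N29368 := trfs L613907 (flp_h L361914) rfl
theorem L613917 : N29368 = N16419 := eqes L613916 L203160
theorem L613918 : N29368 = N16419 := eqc rfl L613917 rfl
theorem L613920 : sm gb N16419 = N20188 := trfs L613918 L248971 rfl
theorem L613921 : N20188 = N23908 := eqes L613920 L203262
theorem L613922 : N23908 = N20188 := (eqc rfl L613921 rfl).symm
theorem L613924 : sm gd N16419 = N20404 := trfs L613918 L248973 rfl
theorem L613925 : N20404 = N11302 := eqes L613924 L140031
theorem L613926 : N20404 = N11302 := eqc rfl L613925 rfl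
theorem L613927 : sm ge N16419 = N42519 := trfs L613918 (flp_e L359619) rfl
theorem L613928 : N42519 = N20163 := eqes L613927 (flp_e L537086)
theorem L613929 : N42519 = N20163 := eqc rfl L613928 rfl
theorem L613943 : sm gb N20163 = N29188 := trfs L613929 L359616 rfl
theorem L613944 : N29188 = N29333 := eqes L613943 (flp_b L248662)
theorem L613945 : N29333 = N29188 := (eqc rfl L613944 rfl).symm
theorem L613947 : sm gf N20163 = N29182 := trfs L613929 L359621 rfl
theorem L613948 : N29182 = N29163 := eqes L613947 (flp_f L247258)
theorem L613949 : N29182 = N29163 := eqc rfl L613948 rfl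
theorem L613950 : sm gj N20163 = N29181 := trfs L613929 (flp_j L359614) rfl
theorem L613951 : N29181 = N29340 := eqes L613950 L248721
theorem L613952 : N29340 = N29181 := (eqc rfl L613951 rfl).symm
theorem L613959 : sm gc N29181 = N20169 := trfs L613952 L248725 rfl
theorem L613960 : N20169 = N42506 := eqes L613959 (flp_c L359508)
theorem L613961 : N42506 = N20169 := (eqc rfl L613960 rfl).symm
theorem L613964 : sm gf N29181 = N42491 := trfs L613952 (flp_f L359371) rfl
theorem L613965 : N42491 = N20057 := eqes L613964 (flp_f L247410)
theorem L613966 : N42491 = N20057 := eqc rfl L613965 rfl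
theorem L613968 : sm gj N29181 = N20163 := trfs L613952 (flp_j L248721) rfl
theorem L613970 : sm gh N29181 = N42758 := trfs L613952 L361560 rfl
theorem L613971 : N42758 = N42520 := eqes L613970 L359624
theorem L613972 : N42758 = N42520 := eqc rfl L613971 rfl
theorem L613974 : sm ga N42520 = N29360 := trfs L613972 L361562 rfl
theorem L613976 : sm gc N42520 = N29351 := trfs L613972 L361564 rfl
theorem L613979 : sm gj N42520 = N29341 := trfs L613972 L361567 rfl
theorem L613981 : sm ga N20057 = N29175 := trfs L613966 L359366 rfl
theorem L613982 : N29175 = N29167 := eqes L613981 (flp_a L247289)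
theorem L613983 : N29175 = N29167 := eqc rfl L613982 rfl
theorem L613984 : sm gc N20057 = N29169 := trfs L613966 L359368 rfl
theorem L613985 : N29169 = N29173 := eqes L613984 (flp_c L247345)
theorem L613986 : N29173 = N29169 := (eqc rfl L613985 rfl).symm
theorem L613995 : sm gc N29169 = N20057 := trfs L613986 L247345 rfl
theorem L614000 : sm ge N29169 = N20053 := trfs L613986 L247347 rfl
theorem L614001 : N20053 = N42498 := eqes L614000 (flp_e L359438)
theorem L614002 : N42498 = N20053 := (eqc rfl L614001 rfl).symm
theorem L614004 : sm gg N29169 = N20052 := trfs L613986 (flp_g L247342) rfl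
theorem L614005 : N20052 = N42320 := eqes L614004 (flp_g L357818)
theorem L614006 : N42320 = N20052 := (eqc rfl L614005 rfl).symm
theorem L614010 : sm gh N29169 = N42508 := trfs L613986 L359522 rfl
theorem L614011 : N42508 = N42502 := eqes L614010 L359468
theorem L614012 : N42508 = N42502 := eqc rfl L614011 rfl
theorem L614015 : sm gc N42502 = N29183 := trfs L614012 L359525 rfl
theorem L614017 : sm ge N42502 = N29176 := trfs L614012 L359527 rfl
theorem L614019 : sm gg N42502 = N29174 := trfs L614012 L359529 rfl
theorem L614025 : sm ga N20052 = N29059 := trfs L614006 L357811 rfl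
theorem L614026 : N29059 = N29162 := eqes L614025 (flp_a L247244)
theorem L614027 : N29162 = N29059 := (eqc rfl L614026 rfl).symm
theorem L614029 : sm gd N20052 = N29051 := trfs L614006 L357814 rfl
theorem L614030 : N29051 = N29172 := eqes L614029 L247335
theorem L614031 : N29172 = N29051 := (eqc rfl L614030 rfl).symm
theorem L614033 : sm gg N20052 = N29169 := trfs L614006 L357818 rfl
theorem L614035 : sm gj N20052 = N29048 := trfs L614006 (flp_j L357809) rfl
theorem L614036 : N29048 = N29052 := eqes L614035 (flp_j L246250)
theorem L614037 : N29052 = N29048 := (eqc rfl L614036 rfl).symm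
theorem L614039 : sm ga N29048 = N42313 := trfs L614037 (flp_a L357742) rfl
theorem L614040 : N42313 = N19974 := eqes L614039 L246202
theorem L614041 : N42313 = N19974 := eqc rfl L614040 rfl
theorem L614043 : sm gc N29048 = N19973 := trfs L614037 L246248 rfl
theorem L614044 : N19973 = N42314 := eqes L614043 (flp_c L357754)
theorem L614045 : N42314 = N19973 := (eqc rfl L614044 rfl).symm
theorem L614049 : sm ge N29048 = N19971 := trfs L614037 (flp_e L246245) rfl
theorem L614050 : N19971 = N42318 := eqes L614049 (flp_e L357796)
theorem L614051 : N42318 = N19971 := (eqc rfl L614050 rfl).symm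
theorem L614053 : sm gg N29048 = N42324 := trfs L614037 L357851 rfl
theorem L614054 : N42324 = N19968 := eqes L614053 (flp_g L246200)
theorem L614055 : N42324 = N19968 := eqc rfl L614054 rfl
theorem L614056 : sm gj N29048 = N20052 := trfs L614037 L246250 rfl
theorem L614058 : sm gh N29048 = N42325 := trfs L614037 L357859 rfl
theorem L614059 : N42325 = N42321 := eqes L614058 L357820
theorem L614060 : N42325 = N42321 := eqc rfl L614059 rfl
theorem L614063 : sm gc N42321 = N29058 := trfs L614060 L357862 rfl
theorem L614065 : sm ge N42321 = N29054 := trfs L614060 L357864 rfl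
theorem L614068 : sm gj N42321 = N29174 := trfs L614060 L357867 rfl
theorem L614071 : sm gc N19968 = N29057 := trfs L614055 L357854 rfl
theorem L614072 : N29057 = N29045 := eqes L614071 (flp_c L246174)
theorem L614073 : N29057 = N29045 := eqc rfl L614072 rfl
theorem L614074 : sm ge N19968 = N29053 := trfs L614055 L357856 rfl
theorem L614075 : N29053 = N29047 := eqes L614074 L246190
theorem L614076 : N29053 = N29047 := eqc rfl L614075 rfl
theorem L614089 : sm gh N29047 = N42327 := trfs L614076 L357879 rfl
theorem L614090 : N42327 = N42319 := eqes L614089 L357799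
theorem L614091 : N42327 = N42319 := eqc rfl L614090 rfl
theorem L614094 : sm gc N42319 = N29060 := trfs L614091 L357882 rfl
theorem L614097 : sm gg N42319 = N29054 := trfs L614091 L357885 rfl
theorem L614107 : sm gb N29045 = N19978 := trfs L614073 L246292 rfl
theorem L614108 : N19978 = N42311 := eqes L614107 (flp_b L357723)
theorem L614109 : N42311 = N19978 := (eqc rfl L614108 rfl).symm
theorem L614118 : sm gj N29045 = N42333 := trfs L614073 L357935 rfl
theorem L614119 : N42333 = N20045 := eqes L614118 L246177
theorem L614120 : N42333 = N20045 := eqc rfl L614119 rfl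
theorem L614121 : sm gh N29045 = N42334 := trfs L614073 L357945 rfl
theorem L614122 : N42334 = N42315 := eqes L614121 L357759
theorem L614123 : N42334 = N42315 := eqc rfl L614122 rfl
theorem L614125 : sm gb N42315 = N29064 := trfs L614123 L357947 rfl
theorem L614127 : sm ge N42315 = N29060 := trfs L614123 L357949 rfl
theorem L614129 : sm gg N42315 = N29058 := trfs L614123 L357951 rfl
theorem L614131 : sm gb N20045 = N29063 := trfs L614120 L357937 rfl
theorem L614132 : N29063 = N29160 := eqes L614131 (flp_b L247228)
theorem L614133 : N29160 = N29063 := (eqc rfl L614132 rfl).symm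
theorem L614140 : sm gb N29063 = N20045 := trfs L614133 L247228 rfl
theorem L614147 : sm gf N29063 = N20044 := trfs L614133 (flp_f L247225) rfl
theorem L614148 : N20044 = N42339 := eqes L614147 (flp_f L358000)
theorem L614149 : N42339 = N20044 := (eqc rfl L614148 rfl).symm
theorem L614154 : sm gh N29063 = N42485 := trfs L614133 L359312 rfl
theorem L614155 : N42485 = N42341 := eqes L614154 L358011
theorem L614156 : N42485 = N42341 := eqc rfl L614155 rfl

end Cfsg.Agent.Helper28.FicA
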