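import Cfsg.Agent.Helper28.FicB31

/-! # The Fi₂₃ presentation, cosets of the subgroup generated by a, …, i: the coset enumeration, part 32 (helper28; generated) -/

set_option autoImplicit false

noncomputable section

namespace Cfsg.Agent.Helper28.FicA

open Cfsg.Agent.Helper28.CosetTable

theorem L614159 : sm gb N42341 = N29164 := trfs L614156 L359315 rfl
theorem L614162 : sm gf N42341 = N29161 := trfs L614156 L359318 rfl
theorem L614175 : sm gf N20044 = N29063 := trfs L614149 L358000 rfl
theorem L614177 : sm gj N20044 = N29062 := trfs L614149 (flp_j L357994) rfl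
theorem L614178 : N29062 = N29044 := eqes L614177 (flp_j L246165)
theorem L614179 : N29062 = N29044 := eqc rfl L614178 rfl
theorem L614189 : sm gh N29044 = N42340 := trfs L614179 L358003 rfl
theorem L614190 : N42340 = N42312 := eqes L614189 L357730
theorem L614191 : N42340 = N42312 := eqc rfl L614190 rfl
theorem L614196 : sm gf N42312 = N29064 := trfs L614191 L358008 rfl
theorem L614209 : sm gb N19978 = N29045 := trfs L614109 L357723 rfl
theorem L614213 : sm gf N19978 = N29044 := trfs L614109 (flp_f L357720) rfl
theorem L614218 : sm ge N19971 = N29048 := trfs L614051 L357796 rfl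
theorem L614220 : sm gg N19971 = N29047 := trfs L614051 (flp_g L357790) rfl
theorem L614229 : sm gc N19973 = N29048 := trfs L614045 L357754 rfl
theorem L614233 : sm gg N19973 = N29045 := trfs L614045 (flp_g L357750) rfl
theorem L614236 : sm gc N19974 = N29047 := trfs L614041 L357744 rfl
theorem L614238 : sm ge N19974 = N29045 := trfs L614041 (flp_e L357740) rfl
theorem L614248 : sm gd N29051 = N20052 := trfs L614031 (flp_d L247335) rfl
theorem L614266 : sm ga N29059 = N20052 := trfs L614027 L247244 rfl
theorem L614268 : sm gc N29059 = N20047 := trfs L614027 L247246 rfl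
theorem L614270 : sm ge N29059 = N20045 := trfs L614027 (flp_e L247242) rfl
theorem L614274 : sm gh N29059 = N42490 := trfs L614027 L359355 rfl
theorem L614275 : N42490 = N42337 := eqes L614274 L357973
theorem L614276 : N42490 = N42337 := eqc rfl L614275 rfl
theorem L614278 : sm ga N42337 = N29174 := trfs L614276 L359357 rfl
theorem L614280 : sm gc N42337 = N29168 := trfs L614276 L359359 rfl
theorem L614282 : sm ge N42337 = N29164 := trfs L614276 L359361 rfl
theorem L614288 : sm ge N20053 = N29169 := trfs L614002 L359438 rfl
theorem L614303 : sm gc N29167 = N20059 := trfs L613983 L247361 rfl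
theorem L614308 : sm gj N29167 = N20053 := trfs L613983 (flp_j L247358) rfl
theorem L614310 : sm gh N29167 = N42511 := trfs L613983 L359544 rfl
theorem L614311 : N42511 = N42499 := eqes L614310 L359441
theorem L614312 : N42511 = N42499 := eqc rfl L614311 rfl
theorem L614315 : sm gc N42499 = N29186 := trfs L614312 L359547 rfl
theorem L614317 : sm gf N42499 = N29360 := trfs L614312 L359549 rfl
theorem L614319 : sm gj N42499 = N29176 := trfs L614312 L359551 rfl
theorem L614322 : sm gc N20169 = N29181 := trfs L613961 L359508 rfl
theorem L614333 : sm gb N29163 = N20063 := trfs L613949 L247421 rfl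
theorem L614336 : sm ge N29163 = N20059 := trfs L613949 L247424 rfl
theorem L614338 : sm gj N29163 = N20057 := trfs L613949 (flp_j L247419) rfl
theorem L614340 : sm gh N29163 = N42521 := trfs L613949 L359633 rfl
theorem L614341 : N42521 = N42492 := eqes L614340 L359374
theorem L614342 : N42521 = N42492 := eqc rfl L614341 rfl
theorem L614344 : sm gb N42492 = N29190 := trfs L614342 L359635 rfl
theorem L614346 : sm ge N42492 = N29186 := trfs L614342 L359637 rfl
theorem L614348 : sm gj N42492 = N29183 := trfs L614342 L359639 rfl
theorem L614351 : sm gb N29188 = N20163 := trfs L613945 L248662 rfl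
theorem L614356 : sm gg N29188 = N20160 := trfs L613945 (flp_g L248659) rfl
theorem L614357 : N20160 = N42527 := eqes L614356 L359685
theorem L614358 : N42527 = N20160 := (eqc rfl L614357 rfl).symm
theorem L614359 : sm gh N29188 = N42745 := trfs L613945 L361445 rfl
theorem L614360 : N42745 = N42528 := eqes L614359 L359694
theorem L614361 : N42745 = N42528 := eqc rfl L614360 rfl
theorem L614364 : sm gb N42528 = N29341 := trfs L614361 L361448 rfl
theorem L614367 : sm gg N42528 = N29334 := trfs L614361 L361451 rfl
theorem L614373 : sm gg N20160 = N29188 := trfs L614358 (flp_g L359685) rfl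
theorem L614387 : sm gh N11302 = N16390 := trfs L613926 L543889 rfl
theorem L614388 : N16390 = N16277 := eqes L614387 (flp_h L138858)
theorem L614389 : N16390 = N16277 := eqc rfl L614388 rfl
theorem L614395 : sm gd N16277 = N23858 := trfs L614389 (flp_d L202851) rfl
theorem L614396 : N23858 = N23683 := eqes L614395 (flp_d L201454)
theorem L614397 : N23858 = N23683 := eqc rfl L614396 rfl
theorem L614406 : sm ga N23683 = N16407 := trfs L614397 L202849 rfl
theorem L614407 : N16407 = N33785 := eqes L614406 L547220
theorem L614408 : N33785 = N16407 := (eqc rfl L614407 rfl).symm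
theorem L614409 : sm gb N23683 = N29713 := trfs L614397 L542763 rfl
theorem L614410 : N29713 = N16442 := eqes L614409 (flp_b L561420)
theorem L614411 : N29713 = N16442 := eqc rfl L614410 rfl
theorem L614412 : sm gc N23683 = N34461 := trfs L614397 (flp_c L292251) rfl
theorem L614413 : N34461 = N16256 := eqes L614412 (flp_c L201450)
theorem L614414 : N34461 = N16256 := eqc rfl L614413 rfl
theorem L614415 : sm ge N23683 = N34771 := trfs L614397 (flp_e L294763) rfl
theorem L614416 : N34771 = N29842 := eqes L614415 L420426
theorem L614417 : N34771 = N29842 := eqc rfl L614416 rfl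
theorem L614418 : sm gf N23683 = N16386 := trfs L614397 L202853 rfl
theorem L614419 : N16386 = N34528 := eqes L614418 (flp_f L292829)
theorem L614420 : N34528 = N16386 := (eqc rfl L614419 rfl).symm
theorem L614424 : sm gj N23683 = N16385 := trfs L614397 (flp_j L202847) rfl
theorem L614425 : N16385 = N34531 := eqes L614424 (flp_j L292847)
theorem L614426 : N34531 = N16385 := (eqc rfl L614425 rfl).symm
theorem L614427 : sm gh N23683 = N34774 := trfs L614397 L294784 rfl
theorem L614428 : N34774 = N34516 := eqes L614427 (flp_h L292745)
theorem L614429 : N34774 = N34516 := eqc rfl L614428 rfl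
theorem L614430 : sm gi N23683 = N16450 := trfs L614397 L202855 rfl
theorem L614431 : N16450 = N29720 := eqes L614430 (flp_i L420471)
theorem L614432 : N29720 = N16450 := (eqc rfl L614431 rfl).symm
theorem L614433 : sm ga N16450 = N23243 := trfs L614432 L547118 rfl
theorem L614434 : N23243 = N11323 := eqes L614433 L140275
theorem L614435 : N23243 = N11323 := eqc rfl L614434 rfl
theorem L614438 : sm gc N16450 = N23202 := trfs L614432 L547120 rfl
theorem L614439 : N23202 = N23763 := eqes L614438 (flp_c L202075)
theorem L614440 : N23763 = N23202 := (eqc rfl L614439 rfl).symm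
theorem L614442 : sm ge N16450 = N20498 := trfs L614432 L251954 rfl
theorem L614443 : N20498 = N23944 := eqes L614442 (flp_e L203564)
theorem L614444 : N23944 = N20498 := (eqc rfl L614443 rfl).symm
theorem L614448 : sm gg N16450 = N20420 := trfs L614432 L251956 rfl
theorem L614449 : N20420 = N23946 := eqes L614448 L203573
theorem L614450 : N23946 = N20420 := (eqc rfl L614449 rfl).symm
theorem L614454 : sm gh N16450 = N42816 := trfs L614432 (flp_h L362086) rfl
theorem L614455 : N42816 = N23947 := eqes L614454 L203581
theorem L614456 : N42816 = N23947 := eqc rfl L614455 rfl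
theorem L614457 : sm gi N16450 = N23683 := trfs L614432 L420471 rfl
theorem L614459 : sm gb N23947 = N29382 := trfs L614456 (flp_b L362079) rfl
theorem L614460 : N29382 = N34883 := eqes L614459 (flp_b L295679)
theorem L614461 : N34883 = N29382 := (eqc rfl L614460 rfl).symm
theorem L614463 : sm ge N23947 = N29462 := trfs L614456 L362082 rfl
theorem L614464 : N29462 = N34887 := eqes L614463 (flp_e L295716)
theorem L614465 : N34887 = N29462 := (eqc rfl L614464 rfl).symm
theorem L614466 : sm gg N23947 = N29384 := trfs L614456 L362084 rfl
theorem L614467 : N29384 = N34890 := eqes L614466 (flp_g L295739)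
theorem L614468 : N34890 = N29384 := (eqc rfl L614467 rfl).symm
theorem L614469 : sm ga N29384 = N23954 := trfs L614468 L295736 rfl
theorem L614470 : N23954 = N23234 := eqes L614469 L513594
theorem L614471 : N23954 = N23234 := eqc rfl L614470 rfl
theorem L614474 : sm gg N29384 = N23947 := trfs L614468 L295739 rfl
theorem L614483 : sm ge N23234 = N34893 := trfs L614471 (flp_e L295761) rfl
theorem L614484 : N34893 = N29465 := eqes L614483 L513589
theorem L614485 : N34893 = N29465 := eqc rfl L614484 rfl
theorem L614487 : sm gg N23234 = N16458 := trfs L614471 L203636 rfl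
theorem L614488 : N16458 = N33874 := eqes L614487 (flp_g L287380)
theorem L614489 : N33874 = N16458 := (eqc rfl L614488 rfl).symm
theorem L614491 : sm gh N23234 = N16457 := trfs L614471 (flp_h L203632) rfl
theorem L614492 : N16457 = N15959 := eqes L614491 L197646
theorem L614493 : N16457 = N15959 := eqc rfl L614492 rfl
theorem L614494 : sm gi N23234 = N34898 := trfs L614471 L295792 rfl
theorem L614495 : N34898 = N33878 := eqes L614494 L287410
theorem L614496 : N34898 = N33878 := eqc rfl L614495 rfl
theorem L614500 : sm gg N33878 = N23955 := trfs L614496 L295797 rfl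
theorem L614511 : sm ge N15959 = N23950 := trfs L614493 (flp_e L203610) rfl
theorem L614512 : N23950 = N20501 := eqes L614511 L542391
theorem L614513 : N23950 = N20501 := eqc rfl L614512 rfl
theorem L614518 : sm gi N15959 = N23888 := trfs L614493 (flp_i L203113) rfl
theorem L614519 : N23888 = N23175 := eqes L614518 L551365
theorem L614520 : N23888 = N23175 := eqc rfl L614519 rfl
theorem L614529 : sm ge N23175 = N34810 := trfs L614520 (flp_e L295107) rfl
theorem L614530 : N34810 = N29844 := eqes L614529 L551388
theorem L614531 : N34810 = N29844 := eqc rfl L614530 rfl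
theorem L614546 : sm gg N29844 = N23886 := trfs L614531 (flp_g L295103) rfl
theorem L614547 : N23886 = N43498 := eqes L614546 (flp_g L367843)
theorem L614548 : N43498 = N23886 := (eqc rfl L614547 rfl).symm
theorem L614554 : sm gc N23886 = N30710 := trfs L614548 L542465 rfl
theorem L614555 : N30710 = N34508 := eqes L614554 (flp_c L292678)
theorem L614556 : N34508 = N30710 := (eqc rfl L614555 rfl).symm
theorem L614559 : sm gg N23886 = N29844 := trfs L614548 L367843 rfl
theorem L614561 : sm gi N23886 = N29841 := trfs L614548 (flp_i L367837) rfl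
theorem L614562 : N29841 = N16455 := eqes L614561 L203100
theorem L614563 : N29841 = N16455 := eqc rfl L614562 rfl
theorem L614567 : sm gc N16455 = N23244 := trfs L614563 (flp_c L542332) rfl
theorem L614568 : N23244 = N23795 := eqes L614567 (flp_c L202359)
theorem L614569 : N23795 = N23244 := (eqc rfl L614568 rfl).symm
theorem L614572 : sm gf N16455 = N43488 := trfs L614563 (flp_f L367762) rfl
theorem L614573 : N43488 = N21759 := eqes L614572 (flp_f L184847)
theorem L614574 : N43488 = N21759 := eqc rfl L614573 rfl
theorem L614577 : sm gj N16455 = N43495 := trfs L614563 (flp_j L367818) rfl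
theorem L614578 : N43495 = N11322 := eqes L614577 (flp_j L140314)
theorem L614579 : N43495 = N11322 := eqc rfl L614578 rfl
theorem L614588 : sm ga N11322 = N29838 := trfs L614579 (flp_a L367814) rfl
theorem L614589 : N29838 = N16449 := eqes L614588 (flp_a L140269)
theorem L614590 : N29838 = N16449 := eqc rfl L614589 rfl
theorem L614594 : sm gb N16449 = N20496 := trfs L614590 (flp_b L252963) rfl
theorem L614595 : N20496 = N23938 := eqes L614594 (flp_b L203509)
theorem L614596 : N23938 = N20496 := (eqc rfl L614595 rfl).symm
theorem L614597 : sm gc N16449 = N43471 := trfs L614590 (flp_c L367628) rfl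
theorem L614598 : N43471 = N23762 := eqes L614597 (flp_c L202068)
theorem L614599 : N43471 = N23762 := eqc rfl L614598 rfl
theorem L614602 : sm gf N16449 = N43483 := trfs L614590 (flp_f L367721) rfl
theorem L614603 : N43483 = N21726 := eqes L614602 (flp_f L184567)
theorem L614604 : N43483 = N21726 := eqc rfl L614603 rfl
theorem L614608 : sm gh N16449 = N42935 := trfs L614590 (flp_h L363088) rfl
theorem L614609 : N42935 = N23945 := eqes L614608 L203566
theorem L614610 : N42935 = N23945 := eqc rfl L614609 rfl
theorem L614611 : sm gi N16449 = N43496 := trfs L614590 L367821 rfl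
theorem L614612 : N43496 = N23857 := eqes L614611 (flp_i L202844)
theorem L614613 : N43496 = N23857 := eqc rfl L614612 rfl
theorem L614614 : sm gb N23857 = N29839 := trfs L614613 L367823 rfl
theorem L614615 : N29839 = N29716 := eqes L614614 L542807
theorem L614616 : N29839 = N29716 := eqc rfl L614615 rfl
theorem L614617 : sm gc N23857 = N31295 := trfs L614613 L561398 rfl
theorem L614618 : N31295 = N34460 := eqes L614617 (flp_c L292242)
theorem L614619 : N34460 = N31295 := (eqc rfl L614618 rfl).symm
theorem L614625 : sm ga N31295 = N23668 := trfs L614619 L292240 rfl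
theorem L614626 : N23668 = N44788 := eqes L614625 (flp_a L378927)
theorem L614627 : N44788 = N23668 := (eqc rfl L614626 rfl).symm
theorem L614628 : sm gc N31295 = N23857 := trfs L614619 L292242 rfl
theorem L614630 : sm ge N31295 = N23635 := trfs L614619 (flp_e L292238) rfl
theorem L614631 : N23635 = N23681 := eqes L614630 L547182
theorem L614632 : N23681 = N23635 := (eqc rfl L614631 rfl).symm
theorem L614633 : sm gf N31295 = N43467 := trfs L614619 (flp_f L542817) rfl
theorem L614634 : N43467 = N45656 := eqes L614633 (flp_f L386043)
theorem L614635 : N45656 = N43467 := (eqc rfl L614634 rfl).symm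
theorem L614639 : sm gb N43467 = N31325 := trfs L614635 L386039 rfl
theorem L614641 : sm gd N43467 = N31299 := trfs L614635 L386041 rfl
theorem L614643 : sm gf N43467 = N31295 := trfs L614635 L386043 rfl
theorem L614645 : sm gj N43467 = N31294 := trfs L614635 (flp_j L386037) rfl
theorem L614647 : sm ga N23635 = N33788 := trfs L614632 L547170 rfl
theorem L614648 : N33788 = N16248 := eqes L614647 L201030
theorem L614649 : N33788 = N16248 := eqc rfl L614648 rfl
theorem L614650 : sm gb N23635 = N16313 := trfs L614632 (flp_b L547186) rfl
theorem L614651 : N16313 = N33828 := eqes L614650 (flp_b L547156)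
theorem L614652 : N33828 = N16313 := (eqc rfl L614651 rfl).symm
theorem L614655 : sm ge N23635 = N31295 := trfs L614632 (flp_e L547182) rfl
theorem L614663 : sm gh N23635 = N34514 := trfs L614632 (flp_h L292730) rfl
theorem L614664 : N34514 = N34462 := eqes L614663 L292259
theorem L614665 : N34514 = N34462 := eqc rfl L614664 rfl
theorem L614666 : sm gi N23635 = N33830 := trfs L614632 (flp_i L547140) rfl
theorem L614667 : N33830 = N16312 := eqes L614666 L201036
theorem L614668 : N33830 = N16312 := eqc rfl L614667 rfl
theorem L614669 : sm ga N16312 = N23241 := trfs L614668 L287002 rfl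
theorem L614670 : N23241 = N11232 := eqes L614669 L139142
theorem L614671 : N23241 = N11232 := eqc rfl L614670 rfl
theorem L614672 : sm gb N16312 = N23636 := trfs L614668 L547110 rfl
theorem L614673 : N23636 = N23679 := eqes L614672 (flp_b L547194)
theorem L614674 : N23679 = N23636 := (eqc rfl L614673 rfl).symm
theorem L614680 : sm ga N23636 = N33787 := trfs L614674 (flp_a L547206) rfl
theorem L614681 : N33787 = N16249 := eqes L614680 L201041
theorem L614682 : N33787 = N16249 := eqc rfl L614681 rfl
theorem L614683 : sm gb N23636 = N16312 := trfs L614674 L547194 rfl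
theorem L614686 : sm gd N23636 = N16254 := trfs L614674 (flp_d L201420) rfl
theorem L614687 : N16254 = N16228 := eqes L614686 L201045
theorem L614688 : N16254 = N16228 := eqc rfl L614687 rfl
theorem L614689 : sm ge N23636 = N34529 := trfs L614674 L292834 rfl
theorem L614690 : N34529 = N29820 := eqes L614689 L546949
theorem L614691 : N34529 = N29820 := eqc rfl L614690 rfl
theorem L614696 : sm gh N23636 = N34512 := trfs L614674 (flp_h L292714) rfl
theorem L614697 : N34512 = N34463 := eqes L614696 L292268
theorem L614698 : N34512 = N34463 := eqc rfl L614697 rfl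
theorem L614700 : sm gb N34463 = N23764 := trfs L614698 L547232 rfl
theorem L614702 : sm gd N34463 = N23670 := trfs L614698 (flp_d L292709) rfl
theorem L614704 : sm gf N34463 = N23672 := trfs L614698 L292711 rfl
theorem L614709 : sm gf N29820 = N45655 := trfs L614691 L547203 rfl
theorem L614710 : N45655 = N43463 := eqes L614709 (flp_f L367561)
theorem L614711 : N45655 = N43463 := eqc rfl L614710 rfl
theorem L614713 : sm gb N43463 = N31324 := trfs L614711 L386033 rfl
theorem L614715 : sm ge N43463 = N31294 := trfs L614711 (flp_e L386031) rfl
theorem L614722 : sm gf N16228 = N11173 := trfs L614688 L138689 rfl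
theorem L614723 : N11173 = N23640 := eqes L614722 (flp_f L201082)
theorem L614724 : N23640 = N11173 := (eqc rfl L614723 rfl).symm
theorem L614729 : sm gh N16228 = N11171 := trfs L614688 (flp_h L138685) rfl
theorem L614730 : N11171 = N23179 := eqes L614729 L551521
theorem L614731 : N23179 = N11171 := (eqc rfl L614730 rfl).symm
theorem L614732 : sm gi N16228 = N23200 := trfs L614688 L456771 rfl
theorem L614733 : N23200 = N11215 := eqes L614732 L138454
theorem L614734 : N23200 = N11215 := eqc rfl L614733 rfl
theorem L614743 : sm gf N11215 = N15930 := trfs L614734 L197356 rfl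
theorem L614744 : N15930 = N16317 := eqes L614743 (flp_f L139189)
theorem L614745 : N16317 = N15930 := (eqc rfl L614744 rfl).symm
theorem L614750 : sm gh N11215 = N15928 := trfs L614734 (flp_h L197350) rfl
theorem L614751 : N15928 = N15885 := eqes L614750 (flp_h L590677)
theorem L614752 : N15928 = N15885 := eqc rfl L614751 rfl
theorem L614757 : sm gd N15885 = N23194 := trfs L614752 (flp_d L197309) rfl
theorem L614758 : N23194 = N23128 := eqes L614757 (flp_d L196738)
theorem L614759 : N23194 = N23128 := eqc rfl L614758 rfl
theorem L614761 : sm gf N15885 = N10950 := trfs L614752 (flp_f L135869) rfl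
theorem L614762 : N10950 = N23132 := eqes L614761 (flp_f L196773)
theorem L614763 : N23132 = N10950 := (eqc rfl L614762 rfl).symm
theorem L614768 : sm gi N15885 = N11238 := trfs L614752 L456736 rfl
theorem L614769 : N11238 = N10968 := eqes L614768 L135502
theorem L614770 : N11238 = N10968 := eqc rfl L614769 rfl
theorem L614775 : sm gd N10968 = N16348 := trfs L614770 L139444 rfl
theorem L614776 : N16348 = N15950 := eqes L614775 (flp_d L136064)
theorem L614777 : N16348 = N15950 := eqc rfl L614776 rfl
theorem L614779 : sm gf N10968 = N7737 := trfs L614770 L96167 rfl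
theorem L614780 : N7737 = N15954 := eqes L614779 (flp_f L136095)
theorem L614781 : N15954 = N7737 := (eqc rfl L614780 rfl).symm
theorem L614786 : sm gh N10968 = N7735 := trfs L614770 (flp_h L96163) rfl
theorem L614787 : N7735 = N15956 := eqes L614786 L136106
theorem L614788 : N15956 = N7735 := (eqc rfl L614787 rfl).symm
theorem L614795 : sm gf N7735 = N23238 := trfs L614788 (flp_f L197679) rfl
theorem L614796 : N23238 = N5333 := eqes L614795 (flp_f L66436)
theorem L614797 : N23238 = N5333 := eqc rfl L614796 rfl
theorem L614801 : sm gh N7735 = N10968 := trfs L614788 (flp_h L136106) rfl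
theorem L614811 : sm gg N5333 = N33882 := trfs L614797 (flp_g L287448) rfl
theorem L614812 : N33882 = N3682 := eqes L614811 (flp_g L45981)
theorem L614813 : N33882 = N3682 := eqc rfl L614812 rfl
theorem L614829 : sm gh N3682 = N23237 := trfs L614813 (flp_h L287441) rfl
theorem L614830 : N23237 = N5334 := eqes L614829 L45987
theorem L614831 : N23237 = N5334 := eqc rfl L614830 rfl
theorem L614835 : sm gd N5334 = N33868 := trfs L614831 (flp_d L287331) rfl
theorem L614836 : N33868 = N7738 := eqes L614835 L66456
theorem L614837 : N33868 = N7738 := eqc rfl L614836 rfl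
theorem L614880 : sm gg N7738 = N23229 := trfs L614837 (flp_g L287326) rfl
theorem L614881 : N23229 = N11240 := eqes L614880 (flp_g L96181)
theorem L614882 : N23229 = N11240 := eqc rfl L614881 rfl
theorem L614887 : sm gb N11240 = N16339 := trfs L614882 L197604 rfl
theorem L614888 : N16339 = N15957 := eqes L614887 (flp_b L136119)
theorem L614889 : N16339 = N15957 := eqc rfl L614888 rfl
theorem L614897 : sm gj N11240 = N15949 := trfs L614882 (flp_j L197602) rfl
theorem L614898 : N15949 = N16350 := eqes L614897 (flp_j L139460)
theorem L614899 : N16350 = N15949 := (eqc rfl L614898 rfl).symm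
theorem L614900 : sm gh N11240 = N33869 := trfs L614882 L287335 rfl
theorem L614901 : N33869 = N16342 := eqes L614900 (flp_h L139409)
theorem L614902 : N33869 = N16342 := eqc rfl L614901 rfl
theorem L614903 : sm gi N11240 = N33718 := trfs L614882 (flp_i L286055) rfl
theorem L614904 : N33718 = N15926 := eqes L614903 L456686
theorem L614905 : N33718 = N15926 := eqc rfl L614904 rfl
theorem L614909 : sm gb N15926 = N23669 := trfs L614905 L286048 rfl
theorem L614910 : N23669 = N23176 := eqes L614909 (flp_b L197140)
theorem L614911 : N23669 = N23176 := eqc rfl L614910 rfl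
theorem L614916 : sm gj N15926 = N23127 := trfs L614905 (flp_j L286046) rfl
theorem L614917 : N23127 = N23195 := eqes L614916 L197312
theorem L614918 : N23195 = N23127 := (eqc rfl L614917 rfl).symm
theorem L614924 : sm ge N23127 = N30729 := trfs L614918 (flp_e L260654) rfl
theorem L614925 : N30729 = N33717 := eqes L614924 L286038
theorem L614926 : N33717 = N30729 := (eqc rfl L614925 rfl).symm
theorem L614929 : sm gj N23127 = N15926 := trfs L614918 (flp_j L197312) rfl
theorem L614931 : sm gh N23127 = N33820 := trfs L614918 L286919 rfl
theorem L614932 : N33820 = N33719 := eqes L614931 L286057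
theorem L614933 : N33820 = N33719 := eqc rfl L614932 rfl
theorem L614935 : sm ga N33719 = N23231 := trfs L614933 L286921 rfl
theorem L614936 : N23231 = N23799 := eqes L614935 L534067
theorem L614937 : N23799 = N23231 := (eqc rfl L614936 rfl).symm
theorem L614939 : sm ge N33719 = N44820 := trfs L614933 (flp_e L379233) rfl
theorem L614942 : sm gj N33719 = N23196 := trfs L614933 L286925 rfl
theorem L614944 : sm ga N23231 = N33719 := trfs L614937 (flp_a L534067) rfl
theorem L614946 : sm gb N23231 = N33870 := trfs L614937 (flp_b L287346) rfl
theorem L614947 : N33870 = N16341 := eqes L614946 L197621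
theorem L614948 : N33870 = N16341 := eqc rfl L614947 rfl
theorem L614950 : sm gd N23231 = N16340 := trfs L614937 (flp_d L202386) rfl
theorem L614951 : N16340 = N33872 := eqes L614950 L287361
theorem L614952 : N33872 = N16340 := (eqc rfl L614951 rfl).symm
theorem L614953 : sm ge N23231 = N34694 := trfs L614937 L294162 rfl
theorem L614954 : N34694 = N30765 := eqes L614953 (flp_e L260954)
theorem L614955 : N34694 = N30765 := eqc rfl L614954 rfl
theorem L614959 : sm gj N23231 = N34692 := trfs L614937 (flp_j L294149) rfl
theorem L614960 : N34692 = N15951 := eqes L614959 L197625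
theorem L614961 : N34692 = N15951 := eqc rfl L614960 rfl
theorem L614963 : sm gi N23231 = N34695 := trfs L614937 L294168 rfl
theorem L614964 : N34695 = N33873 := eqes L614963 L287370
theorem L614965 : N34695 = N33873 := eqc rfl L614964 rfl
theorem L614967 : sm gd N33873 = N23800 := trfs L614965 L294171 rfl
theorem L614969 : sm gf N33873 = N23804 := trfs L614965 L294173 rfl
theorem L614973 : sm gd N15951 = N23798 := trfs L614961 (flp_d L294145) rfl
theorem L614974 : N23798 = N23232 := eqes L614973 L197627
theorem L614975 : N23798 = N23232 := eqc rfl L614974 rfl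
theorem L614976 : sm gf N15951 = N23801 := trfs L614961 L294147 rfl
theorem L614977 : N23801 = N23230 := eqes L614976 (flp_f L197616)
theorem L614978 : N23801 = N23230 := eqc rfl L614977 rfl
theorem L614980 : sm ga N23230 = N33720 := trfs L614978 (flp_a L534035) rfl
theorem L614981 : N33720 = N33819 := eqes L614980 (flp_a L286913)
theorem L614982 : N33819 = N33720 := (eqc rfl L614981 rfl).symm
theorem L614987 : sm ge N23230 = N34696 := trfs L614978 L294176 rfl
theorem L614988 : N34696 = N33867 := eqes L614987 (flp_e L287323)
theorem L614989 : N34696 = N33867 := eqc rfl L614988 rfl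
theorem L614994 : sm gi N23230 = N34697 := trfs L614978 L294184 rfl
theorem L614995 : N34697 = N33871 := eqes L614994 L287353
theorem L614996 : N34697 = N33871 := eqc rfl L614995 rfl
theorem L614998 : sm gd N33871 = N23802 := trfs L614996 L294187 rfl
theorem L615001 : sm gj N33871 = N23804 := trfs L614996 L294190 rfl
theorem L615004 : sm gd N33867 = N45790 := trfs L614989 (flp_d L387177) rfl
theorem L615007 : sm gj N33867 = N23803 := trfs L614989 L294180 rfl
theorem L615010 : sm ga N33720 = N23230 := trfs L614982 L286913 rfl
theorem L615013 : sm gf N33720 = N23196 := trfs L614982 L286916 rfl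
theorem L615017 : sm ga N23232 = N34649 := trfs L614975 (flp_a L293771) rfl
theorem L615018 : N34649 = N33821 := eqes L615017 (flp_a L286929)
theorem L615019 : N34649 = N33821 := eqc rfl L615018 rfl
theorem L615023 : sm ge N23232 = N34688 := trfs L614975 (flp_e L294123) rfl
theorem L615024 : N34688 = N33875 := eqes L615023 L287386
theorem L615025 : N34688 = N33875 := eqc rfl L615024 rfl
theorem L615032 : sm gi N23232 = N34693 := trfs L614975 L294154 rfl
theorem L615033 : N34693 = N33876 := eqes L615032 L287394
theorem L615034 : N34693 = N33876 := eqc rfl L615033 rfl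
theorem L615035 : sm gc N33876 = N23955 := trfs L615034 L294156 rfl
theorem L615037 : sm gf N33876 = N23802 := trfs L615034 L294158 rfl
theorem L615039 : sm gj N33876 = N23800 := trfs L615034 L294160 rfl
theorem L615041 : sm gc N33875 = N23951 := trfs L615025 L294121 rfl
theorem L615043 : sm gf N33875 = N45780 := trfs L615025 (flp_f L387104) rfl
theorem L615045 : sm gj N33875 = N23796 := trfs L615025 L294125 rfl
theorem L615048 : sm gc N33821 = N23947 := trfs L615019 L293773 rfl
theorem L615050 : sm gf N33821 = N23765 := trfs L615019 L293775 rfl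
theorem L615052 : sm gj N33821 = N23764 := trfs L615019 L293777 rfl
theorem L615057 : sm gh N30765 = N23811 := trfs L614955 L294166 rfl
theorem L615058 : N23811 = N21119 := eqes L615057 (flp_h L260949)
theorem L615059 : N23811 = N21119 := eqc rfl L615058 rfl
theorem L615069 : sm gf N21119 = N34708 := trfs L615059 L294261 rfl
theorem L615070 : N34708 = N30763 := eqes L615069 (flp_f L260940)
theorem L615071 : N34708 = N30763 := eqc rfl L615070 rfl
theorem L615076 : sm gi N21119 = N33817 := trfs L615059 (flp_i L590444) rfl
theorem L615077 : N33817 = N30662 := eqes L615076 (flp_i L260091)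
theorem L615078 : N33817 = N30662 := eqc rfl L615077 rfl
theorem L615083 : sm gf N30662 = N44817 := trfs L615078 (flp_f L379210) rfl
theorem L615084 : N44817 = N44717 := eqes L615083 (flp_f L378366)
theorem L615085 : N44817 = N44717 := eqc rfl L615084 rfl
theorem L615087 : sm ga N44717 = N30762 := trfs L615085 L379207 rfl
theorem L615090 : sm ge N44717 = N30728 := trfs L615085 (flp_e L379205) rfl
theorem L615095 : sm ge N30763 = N23815 := trfs L615071 L294264 rfl
theorem L615096 : N23815 = N44867 := eqes L615095 (flp_e L379625)
theorem L615097 : N44867 = N23815 := (eqc rfl L615096 rfl).symm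
theorem L615098 : sm gb N23815 = N31374 := trfs L615097 L379622 rfl
theorem L615099 : N31374 = N33893 := eqes L615098 (flp_b L287536)
theorem L615100 : N33893 = N31374 := (eqc rfl L615099 rfl).symm
theorem L615102 : sm ge N23815 = N30763 := trfs L615097 L379625 rfl
theorem L615107 : sm gb N31374 = N23815 := trfs L615100 L287536 rfl
theorem L615109 : sm gd N31374 = N23253 := trfs L615100 L287538 rfl
theorem L615110 : N23253 = N45372 := eqes L615109 (flp_d L383823)
theorem L615111 : N45372 = N23253 := (eqc rfl L615110 rfl).symm
theorem L615115 : sm gd N23253 = N31374 := trfs L615111 L383823 rfl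
theorem L615138 : sm gd N16340 = N23231 := trfs L614952 (flp_d L287361) rfl
theorem L615141 : sm gj N16340 = N23232 := trfs L614952 L287366 rfl
theorem L615144 : sm gd N16341 = N23230 := trfs L614948 (flp_d L287344) rfl
theorem L615146 : sm gf N16341 = N23232 := trfs L614948 L287348 rfl
theorem L615152 : sm ge N30729 = N23127 := trfs L614926 (flp_e L286038) rfl
theorem L615154 : sm gf N30729 = N44716 := trfs L614926 (flp_f L378357) rfl
theorem L615155 : N44716 = N44818 := eqes L615154 (flp_f L379219)
theorem L615156 : N44818 = N44716 := (eqc rfl L615155 rfl).symm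
theorem L615160 : sm ga N44716 = N30763 := trfs L615156 L379214 rfl
theorem L615163 : sm gd N44716 = N30733 := trfs L615156 L379217 rfl
theorem L615165 : sm gf N44716 = N30729 := trfs L615156 L379219 rfl
theorem L615167 : sm gj N44716 = N30728 := trfs L615156 (flp_j L379212) rfl
theorem L615179 : sm gh N23176 = N34511 := trfs L614911 L292701 rfl
theorem L615180 : N34511 = N33789 := eqes L615179 L286634
theorem L615181 : N34511 = N33789 := eqc rfl L615180 rfl
theorem L615183 : sm gc N33789 = N23889 := trfs L615181 L292703 rfl
theorem L615185 : sm gf N33789 = N23671 := trfs L615181 L292705 rfl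
theorem L615187 : sm gj N33789 = N23670 := trfs L615181 L292707 rfl
theorem L615203 : sm gf N16342 = N23231 := trfs L614902 L287340 rfl
theorem L615205 : sm gj N16342 = N23230 := trfs L614902 L287342 rfl
theorem L615214 : sm gj N15949 = N11240 := trfs L614899 L139460 rfl
theorem L615225 : sm gf N15957 = N11233 := trfs L614889 L139388 rfl
theorem L615247 : sm gf N7737 = N10968 := trfs L614781 L136095 rfl
theorem L615261 : sm ga N15950 = N23127 := trfs L614777 (flp_a L590398) rfl
theorem L615264 : sm gf N15950 = N11240 := trfs L614777 L139446 rfl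
theorem L615276 : sm gf N10950 = N15885 := trfs L614763 L196773 rfl
theorem L615281 : sm ga N23128 = N15949 := trfs L614759 L197306 rfl
theorem L615285 : sm gf N23128 = N15926 := trfs L614759 (flp_f L197304) rfl
theorem L615297 : sm gf N15930 = N11215 := trfs L614745 L139189 rfl
theorem L615319 : sm gh N11171 = N16228 := trfs L614731 (flp_h L551521) rfl
theorem L615331 : sm gf N11173 = N16228 := trfs L614724 L201082 rfl
theorem L615336 : sm gf N16249 = N23176 := trfs L614682 (flp_f L286616) rfl
theorem L615344 : sm gj N11232 = N15957 := trfs L614671 L197704 rfl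
theorem L615353 : sm gb N34462 = N23765 := trfs L614665 L547227 rfl
theorem L615355 : sm gd N34462 = N23671 := trfs L614665 (flp_d L292725) rfl
theorem L615357 : sm ge N34462 = N45658 := trfs L614665 L547229 rfl
theorem L615360 : sm gj N34462 = N23672 := trfs L614665 L292728 rfl
theorem L615363 : sm gb N16313 = N23635 := trfs L614652 L547156 rfl
theorem L615370 : sm gj N16248 = N23176 := trfs L614649 (flp_j L286625) rfl
theorem L615372 : sm ga N23668 = N31295 := trfs L614627 L378927 rfl
theorem L615374 : sm gb N23668 = N30729 := trfs L614627 L378929 rfl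
theorem L615376 : sm gd N23668 = N30713 := trfs L614627 L378931 rfl
theorem L615377 : N30713 = N34190 := eqes L615376 (flp_d L290152)
theorem L615378 : N34190 = N30713 := (eqc rfl L615377 rfl).symm
theorem L615383 : sm gd N30713 = N23668 := trfs L615378 L290152 rfl
theorem L615386 : sm gf N30713 = N45221 := trfs L615378 (flp_f L382646) rfl
theorem L615387 : N45221 = N44792 := eqes L615386 (flp_f L378971)
theorem L615388 : N45221 = N44792 := eqc rfl L615387 rfl
theorem L615392 : sm gd N44792 = N31223 := trfs L615388 L382644 rfl
theorem L615394 : sm ge N44792 = N31000 := trfs L615388 (flp_e L382639) rfl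
theorem L615396 : sm gi N44792 = N31101 := trfs L615388 L382642 rfl
theorem L615399 : sm gc N29716 = N20497 := trfs L614616 L252972 rfl
theorem L615400 : N20497 = N43314 := eqes L615399 (flp_c L366284)
theorem L615401 : N43314 = N20497 := (eqc rfl L615400 rfl).symm
theorem L615406 : sm gf N29716 = N43485 := trfs L614616 (flp_f L367738) rfl
theorem L615407 : N43485 = N20494 := eqes L615406 L251924
theorem L615408 : N43485 = N20494 := eqc rfl L615407 rfl
theorem L615410 : sm gj N29716 = N20499 := trfs L614616 L252976 rfl
theorem L615411 : N20499 = N43311 := eqes L615410 (flp_j L366262)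
theorem L615412 : N43311 = N20499 := (eqc rfl L615411 rfl).symm
theorem L615413 : sm gh N29716 = N43497 := trfs L614616 L367829 rfl
theorem L615414 : N43497 = N42812 := eqes L615413 (flp_h L362046)
theorem L615415 : N43497 = N42812 := eqc rfl L615414 rfl
theorem L615419 : sm gc N42812 = N29840 := trfs L615415 L367832 rfl
theorem L615421 : sm ge N42812 = N34875 := trfs L615415 L490985 rfl
theorem L615422 : N34875 = N29378 := eqes L615421 (flp_e L362042)
theorem L615423 : N34875 = N29378 := eqc rfl L615422 rfl
theorem L615425 : sm gj N42812 = N29843 := trfs L615415 L367835 rfl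
theorem L615428 : sm gc N29378 = N23941 := trfs L615423 L295616 rfl
theorem L615429 : N23941 = N42811 := eqes L615428 L362033
theorem L615430 : N42811 = N23941 := (eqc rfl L615429 rfl).symm
theorem L615432 : sm gj N29378 = N23935 := trfs L615423 L295619 rfl
theorem L615433 : N23935 = N42809 := eqes L615432 (flp_j L362020)
theorem L615434 : N42809 = N23935 := (eqc rfl L615433 rfl).symm
theorem L615439 : sm gf N23935 = N29380 := trfs L615434 L362018 rfl
theorem L615440 : N29380 = N34874 := eqes L615439 (flp_f L295610)
theorem L615441 : N34874 = N29380 := (eqc rfl L615440 rfl).symm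
theorem L615442 : sm gj N23935 = N29378 := trfs L615434 L362020 rfl
theorem L615446 : sm gc N29380 = N23940 := trfs L615441 L295608 rfl
theorem L615447 : N23940 = N42814 := eqes L615446 L362058
theorem L615448 : N42814 = N23940 := (eqc rfl L615447 rfl).symm
theorem L615449 : sm gf N29380 = N23935 := trfs L615441 L295610 rfl
theorem L615454 : sm gc N23940 = N29380 := trfs L615448 (flp_c L362058) rfl
theorem L615457 : sm ge N23940 = N29460 := trfs L615448 L362061 rfl
theorem L615458 : N29460 = N34881 := eqes L615457 (flp_e L295664)
theorem L615459 : N34881 = N29460 := (eqc rfl L615458 rfl).symm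
theorem L615486 : sm ge N29460 = N23940 := trfs L615459 L295664 rfl
theorem L615488 : sm gf N29460 = N43494 := trfs L615459 (flp_f L542699) rfl
theorem L615489 : N43494 = N42927 := eqes L615488 (flp_f L363017)
theorem L615490 : N43494 = N42927 := eqc rfl L615489 rfl
theorem L615494 : sm gb N42927 = N31663 := trfs L615490 L542696 rfl
theorem L615496 : sm ge N42927 = N29837 := trfs L615490 L367810 rfl
theorem L615498 : sm gg N42927 = N31628 := trfs L615490 L367812 rfl
theorem L615500 : sm gh N42927 = N29836 := trfs L615490 (flp_h L367807) rfl
theorem L615501 : N29836 = N29830 := eqes L615500 L363021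
theorem L615502 : N29836 = N29830 := eqc rfl L615501 rfl
theorem L615510 : sm ge N29830 = N20495 := trfs L615502 L252950 rfl
theorem L615511 : N20495 = N43484 := eqes L615510 L367725
theorem L615512 : N43484 = N20495 := (eqc rfl L615511 rfl).symm
theorem L615514 : sm gg N29830 = N21700 := trfs L615502 L252952 rfl
theorem L615515 : N21700 = N43480 := eqes L615514 (flp_g L367695)
theorem L615516 : N43480 = N21700 := (eqc rfl L615515 rfl).symm
theorem L615517 : sm gj N29830 = N43486 := trfs L615502 (flp_j L367748) rfl
theorem L615518 : N43486 = N20493 := eqes L615517 L252904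
theorem L615519 : N43486 = N20493 := eqc rfl L615518 rfl
theorem L615523 : sm gb N20493 = N31662 := trfs L615519 L542702 rfl
theorem L615524 : N31662 = N29833 := eqes L615523 L252922
theorem L615525 : N31662 = N29833 := eqc rfl L615524 rfl
theorem L615527 : sm ge N20493 = N29832 := trfs L615519 L367746 rfl
theorem L615528 : N29832 = N29834 := eqes L615527 L252929
theorem L615529 : N29834 = N29832 := (eqc rfl L615528 rfl).symm
theorem L615533 : sm gi N20493 = N29831 := trfs L615519 (flp_i L367742) rfl
theorem L615534 : N29831 = N29835 := eqes L615533 L252936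
theorem L615535 : N29835 = N29831 := (eqc rfl L615534 rfl).symm
theorem L615537 : sm gb N29831 = N43490 := trfs L615535 (flp_b L367775) rfl
theorem L615538 : N43490 = N43464 := eqes L615537 (flp_b L367567)
theorem L615539 : N43490 = N43464 := eqc rfl L615538 rfl
theorem L615546 : sm gg N29831 = N21699 := trfs L615535 L252944 rfl
theorem L615547 : N21699 = N43481 := eqes L615546 (flp_g L367703)
theorem L615548 : N43481 = N21699 := (eqc rfl L615547 rfl).symm
theorem L615550 : sm gh N29831 = N43493 := trfs L615535 L367798 rfl
theorem L615551 : N43493 = N42928 := eqes L615550 (flp_h L363028)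
theorem L615552 : N43493 = N42928 := eqc rfl L615551 rfl
theorem L615553 : sm gi N29831 = N20493 := trfs L615535 (flp_i L252936) rfl
theorem L615556 : sm gc N42928 = N29837 := trfs L615552 L367801 rfl
theorem L615558 : sm gf N42928 = N29843 := trfs L615552 L367803 rfl
theorem L615560 : sm gg N42928 = N31627 := trfs L615552 L367805 rfl
theorem L615564 : sm ge N21699 = N29828 := trfs L615548 (flp_e L367700) rfl
theorem L615565 : N29828 = N31626 := eqes L615564 (flp_e L267993)
theorem L615566 : N31626 = N29828 := (eqc rfl L615565 rfl).symm
theorem L615567 : sm gg N21699 = N29831 := trfs L615548 L367703 rfl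
theorem L615569 : sm gj N21699 = N31615 := trfs L615548 L367705 rfl
theorem L615570 : N31615 = N31619 := eqes L615569 (flp_j L267944)
theorem L615571 : N31619 = N31615 := (eqc rfl L615570 rfl).symm
theorem L615573 : sm gb N31615 = N46138 := trfs L615571 (flp_b L389953) rfl
theorem L615574 : N46138 = N46107 := eqes L615573 (flp_b L389721)
theorem L615575 : N46138 = N46107 := eqc rfl L615574 rfl
theorem L615576 : sm gc N31615 = N21696 := trfs L615571 L267939 rfl
theorem L615577 : N21696 = N46131 := eqes L615576 (flp_c L389901)
theorem L615578 : N46131 = N21696 := (eqc rfl L615577 rfl).symm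
theorem L615583 : sm gf N31615 = N21703 := trfs L615571 L267942 rfl
theorem L615584 : N21703 = N46133 := eqes L615583 L389914
theorem L615585 : N46133 = N21703 := (eqc rfl L615584 rfl).symm
theorem L615586 : sm gg N31615 = N46132 := trfs L615571 (flp_g L389912) rfl
theorem L615587 : N46132 = N21695 := eqes L615586 L267910
theorem L615588 : N46132 = N21695 := eqc rfl L615587 rfl
theorem L615589 : sm gj N31615 = N21699 := trfs L615571 L267944 rfl
theorem L615591 : sm gh N31615 = N46141 := trfs L615571 L389978 rfl
theorem L615592 : N46141 = N45627 := eqes L615591 (flp_h L385805)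
theorem L615593 : N46141 = N45627 := eqc rfl L615592 rfl
theorem L615594 : sm gi N31615 = N21694 := trfs L615571 (flp_i L267936) rfl
theorem L615595 : N21694 = N46134 := eqes L615594 L389920
theorem L615596 : N46134 = N21694 := (eqc rfl L615595 rfl).symm
theorem L615599 : sm ge N21694 = N31616 := trfs L615596 L389924 rfl
theorem L615600 : N31616 = N31618 := eqes L615599 L267928
theorem L615601 : N31618 = N31616 := (eqc rfl L615600 rfl).symm
theorem L615602 : sm gg N21694 = N31620 := trfs L615596 L389926 rfl
theorem L615603 : N31620 = N31614 := eqes L615602 (flp_g L267904)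
theorem L615604 : N31620 = N31614 := eqc rfl L615603 rfl
theorem L615605 : sm gi N21694 = N31615 := trfs L615596 (flp_i L389920) rfl
theorem L615608 : sm gb N31614 = N43545 := trfs L615604 (flp_b L513279) rfl
theorem L615609 : N43545 = N46130 := eqes L615608 L389892
theorem L615610 : N46130 = N43545 := (eqc rfl L615609 rfl).symm
theorem L615618 : sm gh N31614 = N46142 := trfs L615604 L389987 rfl
theorem L615619 : N46142 = N45626 := eqes L615618 (flp_h L385798)
theorem L615620 : N46142 = N45626 := eqc rfl L615619 rfl
theorem L615624 : sm ge N45626 = N31621 := trfs L615620 L389990 rfl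
theorem L615627 : sm gj N45626 = N31628 := trfs L615620 L389993 rfl
theorem L615629 : sm gb N43545 = N31614 := trfs L615610 (flp_b L389892) rfl
theorem L615633 : sm gg N43545 = N31617 := trfs L615610 L389896 rfl
theorem L615636 : sm gb N31616 = N46137 := trfs L615601 (flp_b L389946) rfl
theorem L615637 : N46137 = N43547 := eqes L615636 (flp_b L562970)
theorem L615638 : N46137 = N43547 := eqc rfl L615637 rfl
theorem L615644 : sm ge N31616 = N21694 := trfs L615601 (flp_e L267928) rfl
theorem L615648 : sm gj N31616 = N21698 := trfs L615601 L267933 rfl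
theorem L615649 : N21698 = N43482 := eqes L615648 (flp_j L367716)
theorem L615650 : N43482 = N21698 := (eqc rfl L615649 rfl).symm
theorem L615651 : sm gh N31616 = N45630 := trfs L615601 (flp_h L385830) rfl
theorem L615652 : N45630 = N46135 := eqes L615651 L389928
theorem L615653 : N46135 = N45630 := (eqc rfl L615652 rfl).symm
theorem L615659 : sm gg N45630 = N31621 := trfs L615653 L389932 rfl
theorem L615661 : sm gh N45630 = N31616 := trfs L615653 (flp_h L389928) rfl
theorem L615664 : sm gb N21698 = N31664 := trfs L615650 L563148 rfl
theorem L615665 : N31664 = N31623 := eqes L615664 (flp_b L267972)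
theorem L615666 : N31664 = N31623 := eqc rfl L615665 rfl
theorem L615667 : sm gd N21698 = N29829 := trfs L615650 L367711 rfl
theorem L615668 : N29829 = N31625 := eqes L615667 L267982
theorem L615669 : N31625 = N29829 := (eqc rfl L615668 rfl).symm
theorem L615673 : sm gj N21698 = N31616 := trfs L615650 L367716 rfl
theorem L615682 : sm gd N29829 = N21698 := trfs L615669 (flp_d L267982) rfl
theorem L615713 : sm ga N31623 = N21761 := trfs L615666 L268299 rfl
theorem L615714 : N21761 = N46143 := eqes L615713 (flp_a L389997)
theorem L615715 : N46143 = N21761 := (eqc rfl L615714 rfl).symm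
theorem L615716 : sm gc N31623 = N45707 := trfs L615666 (flp_c L386445) rfl
theorem L615717 : N45707 = N46115 := eqes L615716 (flp_c L389788)
theorem L615718 : N46115 = N45707 := (eqc rfl L615717 rfl).symm
theorem L615719 : sm gd N31623 = N21734 := trfs L615666 L268301 rfl
theorem L615721 : sm ge N31623 = N46199 := trfs L615666 (flp_e L390451) rfl
theorem L615722 : N46199 = N21697 := eqes L615721 (flp_e L267970)
theorem L615723 : N46199 = N21697 := eqc rfl L615722 rfl
theorem L615725 : sm gg N31623 = N21727 := trfs L615666 (flp_g L268297) rfl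
theorem L615726 : N21727 = N43489 := eqes L615725 (flp_g L367771)
theorem L615727 : N43489 = N21727 := (eqc rfl L615726 rfl).symm
theorem L615730 : sm gh N31623 = N46203 := trfs L615666 L390478 rfl
theorem L615731 : N46203 = N45635 := eqes L615730 (flp_h L385872)
theorem L615732 : N46203 = N45635 := eqc rfl L615731 rfl
theorem L615733 : sm gi N31623 = N43461 := trfs L615666 (flp_i L562252) rfl
theorem L615734 : N43461 = N46146 := eqes L615733 L390015
theorem L615735 : N46146 = N43461 := (eqc rfl L615734 rfl).symm
theorem L615737 : sm ge N43461 = N31624 := trfs L615735 L390019 rfl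
theorem L615740 : sm gi N43461 = N31623 := trfs L615735 (flp_i L390015) rfl
theorem L615742 : sm ga N45635 = N31712 := trfs L615732 L390480 rfl
theorem L615745 : sm gg N45635 = N31665 := trfs L615732 L390483 rfl
theorem L615750 : sm gg N21727 = N31623 := trfs L615727 L367771 rfl
theorem L615752 : sm ga N21697 = N31708 := trfs L615723 L390448 rfl
theorem L615753 : N31708 = N31622 := eqes L615752 L267964
theorem L615754 : N31708 = N31622 := eqc rfl L615753 rfl
theorem L615758 : sm gc N31622 = N45779 := trfs L615754 (flp_c L387094) rfl
theorem L615759 : N45779 = N46114 := eqes L615758 (flp_c L389780)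
theorem L615760 : N46114 = N45779 := (eqc rfl L615759 rfl).symm
theorem L615769 : sm gj N31622 = N43607 := trfs L615754 (flp_j L368808) rfl
theorem L615770 : N43607 = N46136 := eqes L615769 (flp_j L389941)
theorem L615771 : N46136 = N43607 := (eqc rfl L615770 rfl).symm
theorem L615772 : sm gh N31622 = N46261 := trfs L615754 L390969 rfl
theorem L615773 : N46261 = N45634 := eqes L615772 (flp_h L385865)
theorem L615774 : N46261 = N45634 := eqc rfl L615773 rfl
theorem L615775 : sm gi N31622 = N46034 := trfs L615754 (flp_i L389179) rfl
theorem L615776 : N46034 = N46144 := eqes L615775 L390001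
theorem L615777 : N46144 = N46034 := (eqc rfl L615776 rfl).symm
theorem L615778 : sm ga N46034 = N31624 := trfs L615777 L390003 rfl
theorem L615782 : sm gf N46034 = N31632 := trfs L615777 L390007 rfl
theorem L615784 : sm gi N46034 = N31622 := trfs L615777 (flp_i L390001) rfl
theorem L615787 : sm ge N45634 = N31712 := trfs L615774 L390972 rfl
theorem L615789 : sm gg N45634 = N31709 := trfs L615774 L390974 rfl
theorem L615791 : sm ga N43607 = N31617 := trfs L615771 (flp_a L389936) rfl
theorem L615795 : sm gf N43607 = N31629 := trfs L615771 L389939 rfl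
theorem L615797 : sm gj N43607 = N31622 := trfs L615771 L389941 rfl
theorem L615810 : sm ga N45779 = N31600 := trfs L615760 (flp_a L389778) rfl
theorem L615812 : sm gc N45779 = N31622 := trfs L615760 L389780 rfl
theorem L615814 : sm gf N45779 = N31608 := trfs L615760 L389782 rfl
theorem L615816 : sm gb N45707 = N31601 := trfs L615718 L389786 rfl
theorem L615818 : sm gc N45707 = N31623 := trfs L615718 L389788 rfl
theorem L615820 : sm ge N45707 = N31600 := trfs L615718 (flp_e L389784) rfl
theorem L615823 : sm ga N21761 = N31623 := trfs L615715 L389997 rfl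
theorem L615826 : sm ge N21761 = N31622 := trfs L615715 (flp_e L389995) rfl
theorem L615833 : sm ge N43547 = N31617 := trfs L615638 (flp_e L389944) rfl
theorem L615836 : sm gj N43547 = N31623 := trfs L615638 L389948 rfl
theorem L615839 : sm gc N45627 = N31621 := trfs L615593 L389981 rfl
theorem L615841 : sm gf N45627 = N31631 := trfs L615593 L389983 rfl
theorem L615843 : sm gj N45627 = N31627 := trfs L615593 L389985 rfl
theorem L615846 : sm gc N21695 = N31616 := trfs L615588 L389908 rfl
theorem L615850 : sm gi N21695 = N31614 := trfs L615588 (flp_i L389905) rfl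
theorem L615855 : sm gf N21703 = N31615 := trfs L615585 (flp_f L389914) rfl
theorem L615862 : sm gc N21696 = N31615 := trfs L615578 L389901 rfl
theorem L615864 : sm ge N21696 = N31614 := trfs L615578 (flp_e L389898) rfl
theorem L615867 : sm gf N46107 = N31630 := trfs L615575 L389956 rfl
theorem L615869 : sm gj N46107 = N31624 := trfs L615575 L389958 rfl
theorem L615871 : sm gi N46107 = N31617 := trfs L615575 (flp_i L389951) rfl
theorem L615876 : sm ge N29828 = N21699 := trfs L615566 L267993 rfl
theorem L615880 : sm gh N29828 = N46150 := trfs L615566 L390042 rfl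
theorem L615881 : N46150 = N42925 := eqes L615880 (flp_h L363002)
theorem L615882 : N46150 = N42925 := eqc rfl L615881 rfl
theorem L615883 : sm gi N29828 = N21698 := trfs L615566 (flp_i L267988) rfl
theorem L615886 : sm gc N42925 = N31628 := trfs L615882 L390045 rfl
theorem L615888 : sm ge N42925 = N31627 := trfs L615882 L390047 rfl
theorem L615891 : sm gc N43464 = N31294 := trfs L615539 L561415 rfl
theorem L615896 : sm gg N43464 = N31624 := trfs L615539 L367780 rfl
theorem L615908 : sm ge N29832 = N20493 := trfs L615529 (flp_e L252929) rfl
theorem L615911 : sm gg N29832 = N21698 := trfs L615529 L252934 rfl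
theorem L615914 : sm gh N29832 = N42931 := trfs L615529 (flp_h L363054) rfl
theorem L615915 : N42931 = N43487 := eqes L615914 L367750
theorem L615916 : N43487 = N42931 := (eqc rfl L615915 rfl).symm
theorem L615919 : sm gb N42931 = N31665 := trfs L615916 L561506 rfl
theorem L615921 : sm gd N42931 = N29984 := trfs L615916 L367757 rfl
theorem L615923 : sm gf N42931 = N29840 := trfs L615916 L367753 rfl
theorem L615925 : sm gj N42931 = N29837 := trfs L615916 L367755 rfl
theorem L615927 : sm gh N42931 = N29832 := trfs L615916 (flp_h L367750) rfl
theorem L615931 : sm gc N29833 = N45705 := trfs L615525 (flp_c L386425) rfl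
theorem L615932 : N45705 = N43466 := eqes L615931 (flp_c L367588)
theorem L615933 : N45705 = N43466 := eqc rfl L615932 rfl
theorem L615935 : sm ge N29833 = N21727 := trfs L615525 L268285 rfl
theorem L615940 : sm gh N29833 = N46200 := trfs L615525 L390453 rfl
theorem L615941 : N46200 = N42930 := eqes L615940 (flp_h L363045)
theorem L615942 : N46200 = N42930 := eqc rfl L615941 rfl
theorem L615943 : sm gi N29833 = N43464 := trfs L615525 (flp_i L561816) rfl
theorem L615945 : sm ga N42930 = N31709 := trfs L615942 L390455 rfl
theorem L615947 : sm ge N42930 = N31665 := trfs L615942 L390457 rfl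
theorem L615950 : sm gj N42930 = N31663 := trfs L615942 L390461 rfl
theorem L615952 : sm ga N43466 = N31374 := trfs L615933 L386423 rfl
theorem L615954 : sm ge N43466 = N31325 := trfs L615933 L386427 rfl
theorem L615959 : sm gj N43466 = N31324 := trfs L615933 (flp_j L386421) rfl
theorem L615967 : sm gc N21700 = N29828 := trfs L615516 (flp_c L367691) rfl
theorem L615971 : sm gg N21700 = N29830 := trfs L615516 L367695 rfl
theorem L615973 : sm gj N21700 = N31614 := trfs L615516 L367697 rfl
theorem L615976 : sm gc N20495 = N29831 := trfs L615512 L367728 rfl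
theorem L615978 : sm ge N20495 = N29830 := trfs L615512 (flp_e L367725) rfl
theorem L615989 : sm gc N23941 = N29378 := trfs L615430 (flp_c L362033) rfl
theorem L615999 : sm gf N20499 = N29831 := trfs L615412 L366265 rfl
theorem L616001 : sm gj N20499 = N29716 := trfs L615412 L366262 rfl
theorem L616004 : sm gc N20494 = N29832 := trfs L615408 L367735 rfl
theorem L616007 : sm gi N20494 = N29830 := trfs L615408 (flp_i L367732) rfl
theorem L616025 : sm gc N20497 = N29716 := trfs L615401 L366284 rfl
theorem L616029 : sm gb N23945 = N29460 := trfs L614610 (flp_b L363083) rfl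
theorem L616034 : sm gb N21726 = N29830 := trfs L614604 (flp_b L367718) rfl
theorem L616037 : sm gj N21726 = N29833 := trfs L614604 L367723 rfl
theorem L616039 : sm gb N23762 = N29820 := trfs L614599 (flp_b L367623) rfl
theorem L616041 : sm gd N23762 = N31174 := trfs L614599 L546953 rfl
theorem L616042 : N31174 = N34291 := eqes L616041 (flp_d L290909)
theorem L616043 : N34291 = N31174 := (eqc rfl L616042 rfl).symm
theorem L616045 : sm gj N23762 = N29822 := trfs L614599 L367626 rfl
theorem L616047 : sm gi N23762 = N31295 := trfs L614599 L546959 rfl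
theorem L616051 : sm gd N31174 = N23762 := trfs L616043 L290909 rfl
theorem L616054 : sm gf N31174 = N45322 := trfs L616043 (flp_f L383391) rfl
theorem L616055 : N45322 = N45477 := eqes L616054 (flp_f L384595)
theorem L616056 : N45477 = N45322 := (eqc rfl L616055 rfl).symm
theorem L616058 : sm gb N45322 = N31194 := trfs L616056 L384592 rfl
theorem L616061 : sm gf N45322 = N31174 := trfs L616056 L384595 rfl
theorem L616063 : sm gj N45322 = N31173 := trfs L616056 (flp_j L384590) rfl
theorem L616065 : sm gi N45322 = N31299 := trfs L616056 L384597 rfl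
theorem L616068 : sm gb N20496 = N16449 := trfs L614596 L203509 rfl
theorem L616071 : sm ge N20496 = N16444 := trfs L614596 (flp_e L203506) rfl
theorem L616074 : sm gi N20496 = N29716 := trfs L614596 (flp_i L542726) rfl
theorem L616076 : sm ga N21759 = N29833 := trfs L614574 (flp_a L367759) rfl
theorem L616080 : sm gg N21759 = N31622 := trfs L614574 L367764 rfl
theorem L616082 : sm gc N23244 = N16455 := trfs L614569 L202359 rfl
theorem L616085 : sm gf N23244 = N31374 := trfs L614569 (flp_f L265973) rfl
theorem L616090 : sm gj N23244 = N16338 := trfs L614569 (flp_j L202357) rfl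
theorem L616096 : sm gc N30710 = N23886 := trfs L614556 L292678 rfl
theorem L616098 : sm gf N30710 = N45552 := trfs L614556 (flp_f L385246) rfl
theorem L616099 : N45552 = N44787 := eqes L616098 L378917
theorem L616100 : N45552 = N44787 := eqc rfl L616099 rfl
theorem L616101 : sm gj N30710 = N23668 := trfs L614556 (flp_j L292676) rfl
theorem L616103 : sm gc N44787 = N31547 := trfs L616100 L385242 rfl
theorem L616105 : sm ge N44787 = N31224 := trfs L616100 L385244 rfl
theorem L616107 : sm gj N44787 = N31223 := trfs L616100 (flp_j L385240) rfl
theorem L616109 : sm gi N44787 = N31374 := trfs L616100 L385248 rfl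
theorem L616148 : sm gg N20501 = N16455 := trfs L614513 (flp_g L203606) rfl
theorem L616170 : sm gc N16458 = N23232 := trfs L614489 (flp_c L287378) rfl
theorem L616173 : sm gg N16458 = N23234 := trfs L614489 L287380 rfl
theorem L616177 : sm gg N29465 = N23951 := trfs L614485 L295763 rfl
theorem L616182 : sm ga N29462 = N23951 := trfs L614465 L295714 rfl
theorem L616184 : sm ge N29462 = N23947 := trfs L614465 L295716 rfl
theorem L616186 : sm gj N29462 = N23945 := trfs L614465 L295718 rfl
theorem L616190 : sm gb N29382 = N23947 := trfs L614461 L295679 rfl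
theorem L616193 : sm gf N29382 = N23941 := trfs L614461 L295681 rfl
theorem L616195 : sm gj N29382 = N23940 := trfs L614461 L295683 rfl
theorem L616202 : sm gg N20420 = N16450 := trfs L614450 (flp_g L203573) rfl
theorem L616208 : sm ga N20498 = N16455 := trfs L614444 L203561 rfl
theorem L616211 : sm ge N20498 = N16450 := trfs L614444 L203564 rfl
theorem L616213 : sm gj N20498 = N16449 := trfs L614444 (flp_j L203559) rfl
theorem L616216 : sm gc N23202 = N16450 := trfs L614440 L202075 rfl
theorem L616218 : sm gf N23202 = N16313 := trfs L614440 L202079 rfl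
theorem L616220 : sm gj N23202 = N16312 := trfs L614440 (flp_j L202071) rfl
theorem L616224 : sm gc N11323 = N15957 := trfs L614435 (flp_c L197717) rfl
theorem L616228 : sm gg N11323 = N15959 := trfs L614435 L197719 rfl
theorem L616232 : sm ga N34516 = N23889 := trfs L614429 L294786 rfl
theorem L616234 : sm gf N34516 = N23860 := trfs L614429 L294788 rfl
theorem L616236 : sm gj N34516 = N23859 := trfs L614429 L294790 rfl
theorem L616240 : sm gj N16385 = N23683 := trfs L614426 L292847 rfl
theorem L616247 : sm gf N16386 = N23683 := trfs L614420 L292829 rfl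
theorem L616250 : sm ga N29842 = N23886 := trfs L614417 L294760 rfl
theorem L616253 : sm gf N29842 = N43464 := trfs L614417 (flp_f L561814) rfl
theorem L616255 : sm gj N29842 = N23857 := trfs L614417 (flp_j L294758) rfl
theorem L616257 : sm gf N16256 = N23636 := trfs L614414 L292255 rfl
theorem L616259 : sm gj N16256 = N23635 := trfs L614414 (flp_j L292247) rfl
theorem L616266 : sm gj N16442 = N20414 := trfs L614411 L251902 rfl
theorem L616269 : sm ga N16407 = N23683 := trfs L614408 (flp_a L547220) rfl
theorem L616272 : sm gc N16407 = N23176 := trfs L614408 L286603 rfl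
theorem L616275 : sm gg N16407 = N23175 := trfs L614408 (flp_g L286598) rfl
theorem L616278 : sm gb N20188 = N16419 := trfs L613922 (flp_b L203262) rfl
theorem L616297 : sm gb N29377 = N23894 := trfs L613911 (flp_b L295203) rfl
theorem L616300 : sm gd N29377 = N23935 := trfs L613911 L532940 rfl
theorem L616302 : sm gg N29377 = N23897 := trfs L613911 L295205 rfl
theorem L616303 : N23897 = N42808 := eqes L616302 (flp_g L362012)
theorem L616304 : N42808 = N23897 := (eqc rfl L616303 rfl).symm
theorem L616308 : sm gg N23897 = N29377 := trfs L616304 L362012 rfl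
theorem L616313 : sm gd N23889 = N29357 := trfs L613887 (flp_d L361784) rfl
theorem L616315 : sm gg N23889 = N29358 := trfs L613887 L361787 rfl
theorem L616318 : sm ge N29360 = N23890 := trfs L613879 (flp_e L295164) rfl
theorem L616322 : sm gc N29370 = N23890 := trfs L613876 (flp_c L295157) rfl
theorem L616324 : sm gf N29370 = N23894 := trfs L613876 L295159 rfl
theorem L616338 : sm gj N20173 = N16417 := trfs L613868 L203228 rfl
theorem L616352 : sm ga N20175 = N29181 := trfs L613861 (flp_a L536878) rfl
theorem L616359 : sm ge N20175 = N16417 := trfs L613861 (flp_e L203239) rfl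
theorem L616361 : sm gf N20175 = N29167 := trfs L613861 (flp_f L523564) rfl
theorem L616370 : sm gc N20182 = N16417 := trfs L613858 (flp_c L203231) rfl
theorem L616373 : sm gf N20182 = N16419 := trfs L613858 L203233 rfl
theorem L616381 : sm gj N20181 = N16419 := trfs L613854 L203248 rfl
theorem L616389 : sm gj N14032 = N11302 := trfs L613840 L140130 rfl
theorem L616400 : sm gj N11270 = N16277 := trfs L613829 L201637 rfl
theorem L616419 : sm gg N7806 = N10985 := trfs L613800 L136286 rfl
theorem L616554 : sm ga N11288 = N16277 := trfs L613784 L545626 rfl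
theorem L616559 : sm gg N11288 = N15980 := trfs L613784 L197944 rfl
theorem L616569 : sm gf N16404 = N11290 := trfs L613770 L140007 rfl
theorem L616571 : sm gj N16404 = N11289 := trfs L613770 L140009 rfl
theorem L616573 : sm gh N16404 = N11288 := trfs L613770 (flp_h L140001) rfl
theorem L616577 : sm gc N16418 = N20181 := trfs L613767 L248866 rfl
theorem L616579 : sm gf N16418 = N20173 := trfs L613767 (flp_f L248863) rfl
theorem L616619 : sm gc N20416 = N16444 := trfs L613186 L203471 rfl
theorem L616621 : sm gf N20416 = N16442 := trfs L613186 (flp_f L203468) rfl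
theorem L616630 : sm gc N16445 = N20414 := trfs L613171 (flp_c L251913) rfl
theorem L616636 : sm gb N20418 = N16450 := trfs L613155 L203516 rfl
theorem L616638 : sm gd N20418 = N16448 := trfs L613155 L203518 rfl
theorem L616640 : sm gf N20418 = N16445 := trfs L613155 L203520 rfl
theorem L616643 : sm gj N20418 = N16444 := trfs L613155 (flp_j L203513) rfl
theorem L616651 : sm gi N11320 = N16277 := trfs L613150 (flp_i L513657) rfl
theorem L616659 : sm gg N15946 = N11320 := trfs L613135 (flp_g L140304) rfl
theorem L616667 : sm gf N12806 = N14041 := trfs L613127 L173475 rfl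
theorem L616673 : sm gi N12806 = N16448 := trfs L613127 L561201 rfl
theorem L616686 : sm gg N16421 = N20188 := trfs L613105 (flp_g L249041) rfl
theorem L616696 : sm gb N14039 = N11302 := trfs L613076 (flp_b L140133) rfl
theorem L616698 : sm gc N14039 = N11309 := trfs L613076 L140139 rfl
theorem L616701 : sm gg N14039 = N11303 := trfs L613076 L140136 rfl
theorem L616704 : sm gh N14039 = N12806 := trfs L613076 L491089 rfl
theorem L616715 : sm gj N14040 = N12806 := trfs L613047 (flp_j L158182) rfl
theorem L616720 : sm gc N12737 = N16448 := trfs L613038 (flp_c L140261) rfl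
theorem L616727 : sm gj N12737 = N8826 := trfs L613038 (flp_j L109134) rfl
theorem L616742 : sm gj N8824 = N12739 := trfs L613019 (flp_j L157424) rfl
theorem L616781 : sm gb N14005 = N11306 := trfs L612932 (flp_b L140177) rfl
theorem L616784 : sm gf N14005 = N11309 := trfs L612932 L140180 rfl
theorem L616789 : sm ga N8802 = N11306 := trfs L612929 (flp_a L96737) rfl
theorem L616796 : sm gf N8802 = N6085 := trfs L612929 L75379 rfl
theorem L616816 : sm gf N6090 = N8783 := trfs L612921 L108666 rfl
theorem L616824 : sm gd N6092 = N8783 := trfs L612917 L108629 rfl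
theorem L616834 : sm gd N12740 = N8826 := trfs L612913 L109104 rfl
theorem L616836 : sm gf N12740 = N8824 := trfs L612913 (flp_f L109099) rfl
theorem L616842 : sm gd N6069 = N4217 := trfs L612910 L52288 rfl
theorem L616844 : sm gf N6069 = N4215 := trfs L612910 (flp_f L52285) rfl
theorem L616849 : sm gd N8827 = N12739 := trfs L612896 L157381 rfl
theorem L616852 : sm gf N8827 = N12737 := trfs L612896 (flp_f L157376) rfl
theorem L616858 : sm gd N4218 = N6068 := trfs L612893 L75190 rfl
theorem L616861 : sm gf N4218 = N6066 := trfs L612893 (flp_f L75187) rfl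
theorem L616980 : sm ge N8786 = N11306 := trfs L612780 (flp_e L140184) rfl
theorem L617166 : sm gb N45189 = N31074 := trfs L612484 L552215 rfl
theorem L617171 : sm gj N45189 = N31015 := trfs L612484 L382795 rfl
theorem L617173 : sm gb N45187 = N31072 := trfs L612479 L383183 rfl
theorem L617176 : sm ge N45187 = N31299 := trfs L612479 L383186 rfl
theorem L617178 : sm gj N45187 = N31051 := trfs L612479 (flp_j L383181) rfl
theorem L617182 : sm gb N21325 = N30977 := trfs L612470 L382184 rfl
theorem L617191 : sm ge N30860 = N44976 := trfs L611750 (flp_e L380522) rfl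
theorem L617194 : sm gj N30860 = N23428 := trfs L611750 L287981 rfl
theorem L617196 : sm ga N23453 = N30859 := trfs L611730 L380577 rfl
theorem L617198 : sm gc N23453 = N30850 := trfs L611730 L380579 rfl
theorem L617199 : N30850 = N34196 := eqes L617198 L290187
theorem L617200 : N34196 = N30850 := (eqc rfl L617199 rfl).symm
theorem L617204 : sm gj N23453 = N30840 := trfs L611730 L380584 rfl
theorem L617208 : sm gc N30850 = N23453 := trfs L617200 (flp_c L290187) rfl
theorem L617211 : sm ge N30850 = N45291 := trfs L617200 L552245 rfl
theorem L617212 : N45291 = N44992 := eqes L617211 (flp_e L380682)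
theorem L617213 : N45291 = N44992 := eqc rfl L617212 rfl
theorem L617217 : sm gc N44992 = N31050 := trfs L617213 L383143 rfl
theorem L617222 : sm gd N23577 = N30530 := trfs L611445 L376631 rfl
theorem L617225 : sm gj N23577 = N30525 := trfs L611445 (flp_j L376627) rfl
theorem L617227 : sm ga N20960 = N30461 := trfs L611442 L455223 rfl
theorem L617236 : sm gc N24168 = N30525 := trfs L611437 L373060 rfl
theorem L617238 : sm gd N24168 = N30253 := trfs L611437 L373062 rfl
theorem L617239 : N30253 = N35191 := eqes L617238 (flp_d L298332)
theorem L617240 : N35191 = N30253 := (eqc rfl L617239 rfl).symm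
theorem L617243 : sm gd N30253 = N24168 := trfs L617240 L298332 rfl
theorem L617250 : sm gd N30762 = N23821 := trfs L611431 L294281 rfl
theorem L617253 : sm gj N30762 = N23815 := trfs L611431 L294283 rfl
theorem L617255 : sm gb N31101 = N23821 := trfs L611428 L287606 rfl
theorem L617260 : sm gj N31101 = N23253 := trfs L611428 L287609 rfl
theorem L617262 : sm gh N31101 = N44908 := trfs L611428 (flp_h L379947) rfl
theorem L617263 : N44908 = N45373 := eqes L617262 L383829
theorem L617264 : N45373 = N44908 := (eqc rfl L617263 rfl).symm
theorem L617266 : sm ge N44908 = N31103 := trfs L617264 L383832 rfl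
theorem L617269 : sm gh N44908 = N31101 := trfs L617264 (flp_h L383829) rfl
theorem L617271 : sm ga N23228 = N30662 := trfs L611421 L575968 rfl
theorem L617274 : sm gd N23228 = N16357 := trfs L611421 L202491 rfl
theorem L617277 : sm gj N23228 = N16352 := trfs L611421 L202489 rfl
theorem L617279 : sm gi N23228 = N30729 := trfs L611421 (flp_i L575983) rfl
theorem L617282 : sm gd N23251 = N16338 := trfs L611418 L200394 rfl
theorem L617285 : sm gf N23251 = N31101 := trfs L611418 (flp_f L263779) rfl
theorem L617458 : sm gg N20918 = N15750 := trfs L611315 (flp_g L195052) rfl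
theorem L617477 : sm gg N14410 = N11119 := trfs L611296 L138030 rfl
theorem L617487 : sm ge N21358 = N30527 := trfs L611287 (flp_e L258932) rfl
theorem L617519 : sm gb N30903 = N23428 := trfs L611269 L550153 rfl
theorem L617521 : sm gd N30903 = N22933 := trfs L611269 (flp_d L283568) rfl
theorem L617523 : sm ge N30903 = N45170 := trfs L611269 L550155 rfl
theorem L617524 : N45170 = N45072 := eqes L617523 (flp_e L381364)
theorem L617525 : N45170 = N45072 := eqc rfl L617524 rfl
theorem L617528 : sm gb N45072 = N30978 := trfs L617525 L382194 rfl
theorem L617531 : sm gd N44520 = N30926 := trfs L611263 (flp_d L381715) rfl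
theorem L617533 : sm gg N44520 = N31114 := trfs L611263 L381717 rfl
theorem L617535 : sm gj N44520 = N30927 := trfs L611263 L381719 rfl
theorem L617537 : sm gb N23558 = N30926 := trfs L611260 L374660 rfl
theorem L617539 : sm gc N23558 = N30384 := trfs L611260 L374662 rfl
theorem L617540 : N30384 = N34352 := eqes L617539 (flp_c L291414)
theorem L617541 : N34352 = N30384 := (eqc rfl L617540 rfl).symm
theorem L617543 : sm gg N23558 = N30532 := trfs L611260 L374666 rfl
theorem L617545 : sm gj N23558 = N30371 := trfs L611260 L374668 rfl
theorem L617548 : sm gc N30384 = N23558 := trfs L617541 L291414 rfl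
theorem L617553 : sm gb N30924 = N23572 := trfs L611248 L283988 rfl
theorem L617555 : sm gd N30924 = N22972 := trfs L611248 L283990 rfl
theorem L617558 : sm gb N16179 = N21226 := trfs L611241 L257577 rfl
theorem L617562 : sm gg N16179 = N20963 := trfs L611241 L257583 rfl
theorem L617564 : sm gj N16179 = N20855 := trfs L611241 (flp_j L257575) rfl
theorem L617567 : sm gb N30899 = N21262 := trfs L611238 L262678 rfl
theorem L617572 : sm gd N30899 = N21257 := trfs L611238 (flp_d L262676) rfl
theorem L617575 : sm gf N30899 = N42538 := trfs L611238 (flp_f L359784) rfl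
theorem L617576 : N42538 = N45070 := eqes L617575 (flp_f L381347)
theorem L617577 : N45070 = N42538 := (eqc rfl L617576 rfl).symm
theorem L617580 : sm ga N42538 = N30924 := trfs L617577 L381342 rfl
theorem L617582 : sm gc N42538 = N30911 := trfs L617577 L381344 rfl
theorem L617585 : sm gf N42538 = N30899 := trfs L617577 L381347 rfl
theorem L617587 : sm gj N42538 = N30898 := trfs L617577 (flp_j L381340) rfl
theorem L617595 : sm ge N44462 = N30859 := trfs L611232 L380799 rfl
theorem L617597 : sm gg N44462 = N31007 := trfs L611232 L380801 rfl
theorem L617599 : sm gj N44462 = N30856 := trfs L611232 L380803 rfl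
theorem L617602 : sm gd N21179 = N30346 := trfs L611229 (flp_d L374282) rfl
theorem L617604 : sm gj N21179 = N30492 := trfs L611229 L374288 rfl
theorem L617606 : sm gc N42027 = N30867 := trfs L611224 L380781 rfl
theorem L617609 : sm gj N42027 = N30854 := trfs L611224 (flp_j L380779) rfl
theorem L617611 : sm gi N42027 = N30924 := trfs L611224 L380786 rfl
theorem L617614 : sm gg N20944 = N30461 := trfs L611216 L374019 rfl
theorem L617621 : sm gg N21312 = N30980 := trfs L611213 L380545 rfl
theorem L617623 : sm gj N21312 = N30837 := trfs L611213 (flp_j L380535) rfl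
theorem L617625 : sm gi N21312 = N30899 := trfs L611213 L380543 rfl
theorem L617628 : sm gc N30846 = N21312 := trfs L611206 (flp_c L263327) rfl
theorem L617632 : sm gf N30846 = N42619 := trfs L611206 (flp_f L360445) rfl
theorem L617633 : N42619 = N44990 := eqes L617632 (flp_f L380665)
theorem L617634 : N44990 = N42619 := (eqc rfl L617633 rfl).symm
theorem L617635 : sm ga N42619 = N30867 := trfs L617634 L380660 rfl
theorem L617640 : sm gf N42619 = N30846 := trfs L617634 L380665 rfl
theorem L617642 : sm gj N42619 = N30845 := trfs L617634 (flp_j L380658) rfl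
theorem L617644 : sm gi N42619 = N30911 := trfs L617634 L380667 rfl
theorem L617648 : sm gb N21181 = N15750 := trfs L611198 L194960 rfl
theorem L617652 : sm ge N21181 = N30492 := trfs L611198 (flp_e L258632) rfl
theorem L617664 : sm gb N14587 = N11119 := trfs L611178 L134502 rfl
theorem L617745 : sm gd N3618 = N10776 := trfs L611120 L133574 rfl
theorem L617746 : N10776 = N5234 := eqes L617745 (flp_d L45126)
theorem L617747 : N10776 = N5234 := eqc rfl L617746 rfl
theorem L617761 : sm gj N5234 = N7485 := trfs L617747 L92152 rfl
theorem L617762 : N7485 = N7588 := eqes L617761 L65167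
theorem L617763 : N7588 = N7485 := (eqc rfl L617762 rfl).symm
theorem L617764 : sm gh N5234 = N8511 := trfs L617747 (flp_h L599330) rfl
theorem L617765 : N8511 = N7589 := eqes L617764 L65178
theorem L617766 : N8511 = N7589 := eqc rfl L617765 rfl
theorem L617778 : sm gj N7589 = N5912 := trfs L617766 L72884 rfl
theorem L617779 : N5912 = N11019 := eqes L617778 (flp_j L94305)
theorem L617780 : N11019 = N5912 := (eqc rfl L617779 rfl).symm
theorem L617791 : sm gj N5912 = N7589 := trfs L617780 L94305 rfl
theorem L617865 : sm gj N7485 = N5234 := trfs L617763 (flp_j L65167) rfl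
theorem L617885 : sm gd N10856 = N7585 := trfs L611107 L94224 rfl
theorem L618705 : sm ge N3263 = N11379 := trfs L610455 L137194 rfl
theorem L618706 : N11379 = N4681 := eqes L618705 (flp_e L40327)
theorem L618707 : N11379 = N4681 := eqc rfl L618706 rfl
theorem L618714 : sm gf N4681 = N7957 := trfs L618707 L97396 rfl
theorem L618715 : N7957 = N6752 := eqes L618714 (flp_f L57926)
theorem L618716 : N7957 = N6752 := eqc rfl L618715 rfl
theorem L618731 : sm gj N6752 = N5522 := trfs L618716 L68377 rfl
theorem L618732 : N5522 = N9785 := eqes L618731 L83637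
theorem L618733 : N9785 = N5522 := (eqc rfl L618732 rfl).symm
theorem L618735 : sm gi N6752 = N11539 := trfs L618716 L98746 rfl
theorem L618736 : N11539 = N9778 := eqes L618735 (flp_i L83582)
theorem L618737 : N11539 = N9778 := eqc rfl L618736 rfl
theorem L618749 : sm gj N9778 = N7992 := trfs L618737 L98752 rfl
theorem L618750 : N7992 = N14192 := eqes L618749 L120939
theorem L618751 : N14192 = N7992 := (eqc rfl L618750 rfl).symm
theorem L618754 : sm gb N7992 = N10582 := trfs L618751 L120942 rfl
theorem L618755 : N10582 = N5523 := eqes L618754 L68649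
theorem L618756 : N10582 = N5523 := eqc rfl L618755 rfl
theorem L618763 : sm gj N7992 = N9778 := trfs L618751 (flp_j L120939) rfl
theorem L618776 : sm gh N5523 = N15362 := trfs L618756 (flp_h L130820) rfl
theorem L618777 : N15362 = N7993 := eqes L618776 L68654
theorem L618778 : N15362 = N7993 := eqc rfl L618777 rfl
theorem L618783 : sm gd N7993 = N22336 := trfs L618778 (flp_d L189700) rfl
theorem L618784 : N22336 = N11588 := eqes L618783 L99126
theorem L618785 : N22336 = N11588 := eqc rfl L618784 rfl
theorem L618803 : sm gf N11588 = N15413 := trfs L618785 L189702 rfl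
theorem L618804 : N15413 = N16630 := eqes L618803 (flp_f L141812)
theorem L618805 : N16630 = N15413 := (eqc rfl L618804 rfl).symm
theorem L619033 : sm gf N15413 = N11588 := trfs L618805 L141812 rfl
theorem L619109 : sm gj N5522 = N6752 := trfs L618733 (flp_j L83637) rfl
theorem L619132 : sm gf N6769 = N5522 := trfs L610451 L67773 rfl
theorem L619317 : sm gf N9800 = N7992 := trfs L610218 L97947 rfl
theorem L619405 : sm gg N15561 = N11412 := trfs L609734 L140702 rfl
theorem L619407 : sm gj N15561 = N11349 := trfs L609734 (flp_j L140695) rfl
theorem L619422 : sm gf N15452 = N11349 := trfs L609702 (flp_f L140686) rfl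
theorem L619430 : sm gg N11507 = N15452 := trfs L609658 L190066 rfl
theorem L619695 : sm gh N7866 = N10704 := trfs L609474 (flp_h L132577) rfl
theorem L619696 : N10704 = N11416 := eqes L619695 L97723
theorem L619697 : N11416 = N10704 := (eqc rfl L619696 rfl).symm
theorem L619710 : sm gh N10704 = N7866 := trfs L619697 (flp_h L97723) rfl
theorem L619712 : sm gi N10704 = N14284 := trfs L619697 L593939 rfl
theorem L619713 : N14284 = N15528 := eqes L619712 (flp_i L132321)
theorem L619714 : N15528 = N14284 := (eqc rfl L619713 rfl).symm
theorem L619727 : sm gi N14284 = N10704 := trfs L619714 L132321 rfl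
theorem L619768 : sm ge N9879 = N7881 := trfs L609396 L95282 rfl
theorem L619774 : sm gb N9811 = N7881 := trfs L609391 (flp_b L97869) rfl
theorem L619782 : sm gf N7988 = N9811 := trfs L609378 L121038 rfl
theorem L619785 : sm gj N7988 = N9784 := trfs L609378 (flp_j L121032) rfl
theorem L619794 : sm ge N10696 = N14323 := trfs L609368 L175821 rfl
theorem L619798 : sm gj N10696 = N14221 := trfs L609368 (flp_j L175815) rfl
theorem L619869 : sm gg N11491 = N15443 := trfs L609305 L189987 rfl
theorem L619879 : sm gg N6223 = N7959 := trfs L609302 L98732 rfl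
theorem L619894 : sm ga N14188 = N10585 := trfs L609285 L130935 rfl
theorem L619907 : sm gg N7298 = N5499 := trfs L609282 L68370 rfl
theorem L619933 : sm gd N7302 = N5491 := trfs L609255 (flp_d L68301) rfl
theorem L619942 : sm gd N3804 = N5046 := trfs L609251 L62612 rfl
theorem L620021 : sm gd N5497 = N7298 := trfs L609162 L90364 rfl
theorem L620206 : sm gd N5595 = N3877 := trfs L608913 L48324 rfl
theorem L620232 : sm gd N3916 = N5651 := trfs L608903 L70210 rfl
theorem L620233 : N5651 = N5659 := eqes L620232 (flp_d L48775)
theorem L620234 : N5659 = N5651 := (eqc rfl L620233 rfl).symm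
theorem L620245 : sm gd N5651 = N3916 := trfs L620234 L48775 rfl
theorem L620291 : sm gd N2958 = N3921 := trfs L608883 L48817 rfl
theorem L620488 : sm gc N20832 = N15750 := trfs L608616 L192276 rfl
theorem L620498 : sm gd N30323 = N20844 := trfs L608604 (flp_d L257404) rfl
theorem L620501 : sm gf N30323 = N41922 := trfs L608604 (flp_f L354277) rfl
theorem L620502 : N41922 = N44211 := eqes L620501 L374000
theorem L620503 : N44211 = N41922 := (eqc rfl L620502 rfl).symm
theorem L620504 : sm gj N30323 = N20944 := trfs L608604 L257408 rfl
theorem L620506 : sm gh N30323 = N44254 := trfs L608604 L374398 rfl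
theorem L620507 : N44254 = N44213 := eqes L620506 L374021
theorem L620508 : N44254 = N44213 := eqc rfl L620507 rfl
theorem L620512 : sm gj N44213 = N30503 := trfs L620508 L374404 rfl
theorem L620514 : sm gb N41922 = N30854 := trfs L620503 L374002 rfl
theorem L620516 : sm gc N41922 = N30331 := trfs L620503 L374004 rfl
theorem L620519 : sm gf N41922 = N30323 := trfs L620503 (flp_f L374000) rfl
theorem L620521 : sm gi N41922 = N30369 := trfs L620503 L374006 rfl
theorem L620529 : sm gj N16509 = N20777 := trfs L608601 L255509 rfl
theorem L620534 : sm gi N16509 = N43876 := trfs L608601 (flp_i L371144) rfl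
theorem L620535 : N43876 = N20849 := eqes L620534 L567559
theorem L620536 : N43876 = N20849 := eqc rfl L620535 rfl
theorem L620540 : sm gd N20849 = N30100 := trfs L620536 (flp_d L371139) rfl
theorem L620541 : N30100 = N30124 := eqes L620540 (flp_d L255466)
theorem L620542 : N30124 = N30100 := (eqc rfl L620541 rfl).symm
theorem L620550 : sm gd N30100 = N20849 := trfs L620542 L255466 rfl
theorem L620553 : sm gf N30100 = N43914 := trfs L620542 L371478 rfl
theorem L620554 : N43914 = N41737 := eqes L620553 (flp_f L352615)
theorem L620555 : N43914 = N41737 := eqc rfl L620554 rfl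
theorem L620559 : sm gh N30100 = N43916 := trfs L620542 L371496 rfl
theorem L620560 : N43916 = N43878 := eqes L620559 L371159
theorem L620561 : N43916 = N43878 := eqc rfl L620560 rfl
theorem L620563 : sm ga N43878 = N30140 := trfs L620561 L371498 rfl
theorem L620567 : sm gg N43878 = N30125 := trfs L620561 L371503 rfl
theorem L620569 : sm ga N41737 = N30138 := trfs L620555 L371480 rfl
theorem L620572 : sm gd N41737 = N30360 := trfs L620555 L371483 rfl
theorem L620584 : sm gg N20691 = N30100 := trfs L608578 (flp_g L371150) rfl
theorem L620589 : sm ga N20696 = N30105 := trfs L608572 (flp_a L567566) rfl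
theorem L620593 : sm gd N20696 = N16509 := trfs L608572 L204291 rfl
theorem L620596 : sm gg N20696 = N16505 := trfs L608572 L204289 rfl
theorem L620600 : sm ge N30235 = N20832 := trfs L608563 L257234 rfl
theorem L620605 : sm gg N30235 = N20925 := trfs L608563 L257238 rfl
theorem L620607 : sm gj N30235 = N20830 := trfs L608563 (flp_j L257230) rfl
theorem L620654 : sm ga N20701 = N30100 := trfs L608554 L567581 rfl
theorem L620656 : sm gc N20701 = N16505 := trfs L608554 L204311 rfl
theorem L620660 : sm gj N20701 = N16597 := trfs L608554 L204313 rfl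
theorem L620668 : sm gj N24162 = N30138 := trfs L608549 (flp_j L371663) rfl
theorem L620687 : sm gc N20864 = N16179 := trfs L608545 L200508 rfl
theorem L620689 : sm gd N20864 = N16597 := trfs L608545 L200510 rfl
theorem L620692 : sm gi N20864 = N30235 := trfs L608545 (flp_i L485405) rfl
theorem L620695 : sm gb N20707 = N16597 := trfs L608541 L205422 rfl
theorem L620705 : sm gc N30140 = N24015 := trfs L608534 L296656 rfl
theorem L620708 : sm gj N30140 = N24145 := trfs L608534 L296658 rfl
theorem L620713 : sm gg N30268 = N24145 := trfs L608531 L298203 rfl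
theorem L620716 : sm gb N30147 = N24145 := trfs L608528 L298247 rfl
theorem L620722 : sm gc N30273 = N24143 := trfs L608504 L298209 rfl
theorem L620726 : sm gg N30273 = N24146 := trfs L608504 L298213 rfl
theorem L620733 : sm gf N11570 = N14240 := trfs L608478 L175530 rfl
theorem L620790 : sm ge N41754 = N30110 := trfs L608418 L370283 rfl
theorem L620792 : sm gi N41754 = N30058 := trfs L608418 L370281 rfl
theorem L620811 : sm ga N41692 = N28644 := trfs L608314 L352334 rfl
theorem L620821 : sm ga N20644 = N28629 := trfs L608305 L531841 rfl
theorem L620833 : sm gi N20644 = N28638 := trfs L608305 (flp_i L531856) rfl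
theorem L620845 : sm gd N20629 = N14194 := trfs L608260 L175430 rfl
theorem L620847 : sm gf N20629 = N14193 := trfs L608260 (flp_f L175425) rfl
theorem L620874 : sm gf N14195 = N11512 := trfs L608240 L142608 rfl
theorem L620880 : sm gc N16726 = N20644 := trfs L608237 L254785 rfl
theorem L620891 : sm gf N7938 = N10585 := trfs L608234 (flp_f L130971) rfl
theorem L620901 : sm gd N20643 = N16717 := trfs L608220 (flp_d L206763) rfl
theorem L620903 : sm gf N20643 = N16718 := trfs L608220 L206766 rfl
theorem L620908 : sm gc N24324 = N30054 := trfs L608217 L370461 rfl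
theorem L620917 : sm gd N30052 = N24322 := trfs L608201 L300284 rfl
theorem L620919 : sm gf N30052 = N24325 := trfs L608201 L300286 rfl
theorem L620922 : sm gc N30144 = N24016 := trfs L608184 L296664 rfl
theorem L620925 : sm gf N30144 = N24328 := trfs L608184 L296667 rfl
theorem L620927 : sm gj N30144 = N24146 := trfs L608184 L296669 rfl
theorem L620934 : sm gj N30064 = N24442 := trfs L608180 L300363 rfl
theorem L620940 : sm ga N20646 = N30029 := trfs L608171 L566006 rfl
theorem L620942 : sm gc N20646 = N16718 := trfs L608171 (flp_c L206779) rfl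
theorem L620945 : sm gg N20646 = N16720 := trfs L608171 L206781 rfl
theorem L620954 : sm gf N20704 = N16720 := trfs L608168 L204209 rfl
theorem L620957 : sm gj N20704 = N16588 := trfs L608168 L204211 rfl
theorem L620973 : sm gj N20652 = N16801 := trfs L608158 L206807 rfl
theorem L621002 : sm ga N14196 = N20629 := trfs L608146 L566077 rfl
theorem L621004 : sm gc N14196 = N11512 := trfs L608146 (flp_c L142621) rfl
theorem L621006 : sm gg N14196 = N11514 := trfs L608146 L142623 rfl
theorem L621017 : sm gb N7951 = N9784 := trfs L608138 L120994 rfl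
theorem L621021 : sm gf N7951 = N9806 := trfs L608138 L121000 rfl
theorem L621023 : sm gg N7951 = N9781 := trfs L608138 (flp_g L120992) rfl
theorem L621045 : sm ga N20630 = N14195 := trfs L608120 L175418 rfl
theorem L621047 : sm gc N20630 = N14193 := trfs L608120 (flp_c L175416) rfl
theorem L621057 : sm gb N10628 = N14191 := trfs L608112 L175362 rfl
theorem L621061 : sm gf N10628 = N14221 := trfs L608112 L175369 rfl
theorem L621063 : sm gg N10628 = N14188 := trfs L608112 (flp_g L175360) rfl
theorem L621145 : sm ga N30102 = N20704 := trfs L608054 L255490 rfl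
theorem L621153 : sm gi N30102 = N43920 := trfs L608054 L371534 rfl
theorem L621154 : N43920 = N43882 := eqes L621153 L371195
theorem L621155 : N43920 = N43882 := eqc rfl L621154 rfl
theorem L621160 : sm gg N43882 = N30128 := trfs L621155 L371540 rfl
theorem L621163 : sm gc N16497 = N20704 := trfs L608051 L255543 rfl
theorem L621165 : sm gg N16497 = N20698 := trfs L608051 L255545 rfl
theorem L621199 : sm ga N14234 = N20676 := trfs L608015 L566335 rfl
theorem L621201 : sm gc N14234 = N11354 := trfs L608015 (flp_c L140774) rfl
theorem L621203 : sm gf N14234 = N11514 := trfs L608015 L140776 rfl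
theorem L621215 : sm gg N14231 = N11354 := trfs L608003 L140762 rfl
theorem L621220 : sm gc N14228 = N20679 := trfs L607997 L255264 rfl
theorem L621223 : sm gg N14228 = N20676 := trfs L607997 (flp_g L255261) rfl
theorem L621245 : sm gg N11419 = N14292 := trfs L607958 L176003 rfl
theorem L621247 : sm gj N11419 = N14234 := trfs L607958 (flp_j L175997) rfl
theorem L621252 : sm gg N9845 = N7881 := trfs L607953 L97857 rfl
theorem L621267 : sm gg N14278 = N20755 := trfs L607937 L255321 rfl
theorem L621272 : sm ga N14271 = N10704 := trfs L607932 L132476 rfl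
theorem L621276 : sm gg N14271 = N10696 := trfs L607932 (flp_g L132474) rfl
theorem L621282 : sm ga N14286 = N20755 := trfs L607924 L566872 rfl
theorem L621299 : sm gc N44054 = N30246 := trfs L607903 L372902 rfl
theorem L621314 : sm gd N20781 = N16585 := trfs L607892 (flp_d L205266) rfl
theorem L621320 : sm gj N20781 = N16586 := trfs L607892 L205270 rfl
theorem L621329 : sm ga N20791 = N30210 := trfs L607858 (flp_a L566901) rfl
theorem L621331 : sm gc N20791 = N16586 := trfs L607858 (flp_c L205282) rfl
theorem L621335 : sm gg N20791 = N16588 := trfs L607858 L205285 rfl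
theorem L621339 : sm ga N44039 = N30266 := trfs L607838 L372989 rfl
theorem L621342 : sm gd N44039 = N30517 := trfs L607838 L372992 rfl
theorem L621345 : sm gj N44039 = N30244 := trfs L607838 (flp_j L372987) rfl
theorem L621347 : sm ga N20749 = N14292 := trfs L607835 L176582 rfl
theorem L621350 : sm gd N20749 = N14284 := trfs L607835 L176585 rfl
theorem L621356 : sm gc N14281 = N20755 := trfs L607823 L256181 rfl
theorem L621360 : sm gj N14281 = N20749 := trfs L607823 (flp_j L256178) rfl
theorem L621365 : sm gc N30216 = N20772 := trfs L607820 L256394 rfl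
theorem L621367 : sm gf N30216 = N44083 := trfs L607820 L372883 rfl
theorem L621368 : N44083 = N44052 := eqes L621367 (flp_f L372643)
theorem L621369 : N44083 = N44052 := eqc rfl L621368 rfl
theorem L621374 : sm ga N44052 = N30253 := trfs L621369 L372885 rfl
theorem L621376 : sm gc N44052 = N30244 := trfs L621369 L372887 rfl
theorem L621380 : sm gc N24142 = N30268 := trfs L607813 L373113 rfl
theorem L621382 : sm gj N24142 = N30255 := trfs L607813 L373117 rfl
theorem L621384 : sm ga N20778 = N30216 := trfs L607810 L567666 rfl
theorem L621389 : sm gj N20778 = N16594 := trfs L607810 L205356 rfl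
theorem L621393 : sm gc N24156 = N30266 := trfs L607804 L373097 rfl
theorem L621394 : N30266 = N35197 := eqes L621393 (flp_c L298380)
theorem L621395 : N35197 = N30266 := (eqc rfl L621394 rfl).symm
theorem L621397 : sm gj N24156 = N30253 := trfs L607804 (flp_j L373094) rfl
theorem L621399 : sm gc N30266 = N24156 := trfs L621395 L298380 rfl
theorem L621404 : sm gc N11417 = N14292 := trfs L607801 L176629 rfl
theorem L621408 : sm gj N11417 = N14286 := trfs L607801 (flp_j L176626) rfl
theorem L621410 : sm ga N20787 = N30207 := trfs L607798 L567684 rfl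
theorem L621412 : sm gc N20787 = N16594 := trfs L607798 L205378 rfl
theorem L621414 : sm gg N20787 = N16597 := trfs L607798 L205380 rfl
theorem L621440 : sm gc N16602 = N20960 := trfs L607766 L256519 rfl
theorem L621442 : sm gd N16602 = N20778 := trfs L607766 L256521 rfl
theorem L621444 : sm gg N16602 = N20777 := trfs L607766 (flp_g L256516) rfl
theorem L621449 : sm gc N20954 = N30458 := trfs L607753 L372526 rfl
theorem L621451 : sm gd N20954 = N30207 := trfs L607753 L372528 rfl
theorem L621456 : sm ga N30206 = N20864 := trfs L607737 L257499 rfl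
theorem L621459 : sm ge N30206 = N20851 := trfs L607737 L257502 rfl
theorem L621461 : sm gf N30206 = N44268 := trfs L607737 (flp_f L374534) rfl
theorem L621462 : N44268 = N41802 := eqes L621461 (flp_f L353197)
theorem L621463 : N44268 = N41802 := eqc rfl L621462 rfl
theorem L621464 : sm gg N30206 = N20954 := trfs L607737 L257504 rfl
theorem L621466 : sm gj N30206 = N20849 := trfs L607737 (flp_j L257497) rfl
theorem L621469 : sm ga N41802 = N30382 := trfs L621463 L374530 rfl
theorem L621473 : sm gj N41802 = N30360 := trfs L621463 (flp_j L374528) rfl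
theorem L621475 : sm gc N14344 = N11119 := trfs L607730 (flp_c L138040) rfl
theorem L621479 : sm ga N44038 = N30384 := trfs L607723 L374546 rfl
theorem L621482 : sm ge N44038 = N30365 := trfs L607723 L374549 rfl
theorem L621484 : sm gg N44038 = N30519 := trfs L607723 L374551 rfl
theorem L621486 : sm gj N44038 = N30362 := trfs L607723 L374553 rfl
theorem L621492 : sm gi N20868 = N34353 := trfs L607716 L291418 rfl
theorem L621493 : N34353 = N30389 := eqes L621492 L257743
theorem L621494 : N34353 = N30389 := eqc rfl L621493 rfl
theorem L621495 : sm gc N30389 = N23559 := trfs L621494 L291420 rfl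
theorem L621496 : N23559 = N44290 := eqes L621495 (flp_c L374724)
theorem L621497 : N44290 = N23559 := (eqc rfl L621496 rfl).symm
theorem L621502 : sm gc N23559 = N30389 := trfs L621497 L374724 rfl
theorem L621507 : sm gj N23559 = N30376 := trfs L621497 L374729 rfl
theorem L621508 : N30376 = N34076 := eqes L621507 (flp_j L289164)
theorem L621509 : N34076 = N30376 := (eqc rfl L621508 rfl).symm
theorem L621514 : sm gj N30376 = N23559 := trfs L621509 L289164 rfl
theorem L621517 : sm gb N16171 = N21230 := trfs L607704 L257613 rfl
theorem L621519 : sm gc N16171 = N20868 := trfs L607704 L257615 rfl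
theorem L621525 : sm gg N16171 = N20967 := trfs L607704 L257618 rfl
theorem L621535 : sm ga N44210 = N30371 := trfs L607697 L374425 rfl
theorem L621537 : sm gc N44210 = N30362 := trfs L607697 L374427 rfl
theorem L621539 : sm ge N44210 = N30355 := trfs L607697 L374429 rfl
theorem L621541 : sm gg N44210 = N30353 := trfs L607697 L374431 rfl
theorem L621545 : sm gb N23347 = N30840 := trfs L607694 L552745 rfl
theorem L621548 : sm gd N23347 = N30355 := trfs L607694 (flp_d L374460) rfl
theorem L621551 : sm gg N23347 = N30356 := trfs L607694 L374465 rfl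
theorem L621553 : sm ga N23303 = N30860 := trfs L607691 L552817 rfl
theorem L621555 : sm gb N23303 = N30355 := trfs L607691 L374328 rfl
theorem L621558 : sm gd N23303 = N30840 := trfs L607691 L552820 rfl
theorem L621561 : sm gg N23303 = N30348 := trfs L607691 L374332 rfl
theorem L621568 : sm gj N20858 = N16171 := trfs L607688 L198887 rfl
theorem L621572 : sm gc N15721 = N20851 := trfs L607680 L257434 rfl
theorem L621578 : sm gj N15721 = N20845 := trfs L607680 (flp_j L257430) rfl
theorem L621584 : sm ga N30322 = N20855 := trfs L607673 L257414 rfl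
theorem L621586 : sm gc N30322 = N20849 := trfs L607673 L257416 rfl
theorem L621588 : sm ge N30322 = N20845 := trfs L607673 L257418 rfl
theorem L621590 : sm gf N30322 = N44255 := trfs L607673 L374406 rfl
theorem L621591 : N44255 = N41893 := eqes L621590 (flp_f L353978)
theorem L621592 : N44255 = N41893 := eqc rfl L621591 rfl
theorem L621593 : sm gg N30322 = N20844 := trfs L607673 (flp_g L257412) rfl
theorem L621596 : sm ga N41893 = N30369 := trfs L621592 L374408 rfl
theorem L621598 : sm gc N41893 = N30360 := trfs L621592 L374410 rfl
theorem L621601 : sm ga N16001 = N21203 := trfs L607667 L257364 rfl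
theorem L621603 : sm gb N16001 = N20845 := trfs L607667 L257366 rfl
theorem L621631 : sm gg N11038 = N15644 := trfs L607655 (flp_g L193633) rfl
theorem L621634 : sm ga N20854 = N30323 := trfs L607651 L591776 rfl
theorem L621636 : sm gc N20854 = N16509 := trfs L607651 L198974 rfl
theorem L621638 : sm gg N20854 = N16056 := trfs L607651 L198976 rfl
theorem L621641 : sm ga N30368 = N44213 := trfs L607633 (flp_a L591637) rfl
theorem L621643 : sm gc N30368 = N21877 := trfs L607633 L262397 rfl
theorem L621645 : sm gd N30368 = N45115 := trfs L607633 (flp_d L381741) rfl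
theorem L621646 : N45115 = N44279 := eqes L621645 L374624
theorem L621647 : N45115 = N44279 := eqc rfl L621646 rfl
theorem L621648 : sm ge N30368 = N21231 := trfs L607633 (flp_e L262395) rfl
theorem L621650 : sm gg N30368 = N21233 := trfs L607633 L262399 rfl
theorem L621653 : sm ge N44279 = N30927 := trfs L621647 (flp_e L381737) rfl
theorem L621655 : sm gg N44279 = N30930 := trfs L621647 L381739 rfl
theorem L621658 : sm gb N16047 = N21231 := trfs L607626 L257624 rfl
theorem L621661 : sm gd N16047 = N20858 := trfs L607626 (flp_d L257622) rfl
theorem L621664 : sm gg N16047 = N20859 := trfs L607626 L257627 rfl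
theorem L621669 : sm gj N30326 = N22933 := trfs L607623 L281273 rfl
theorem L621672 : sm gc N44280 = N31882 := trfs L607614 L381819 rfl
theorem L621674 : sm ge N44280 = N30935 := trfs L607614 L381821 rfl
theorem L621676 : sm gg N44280 = N30937 := trfs L607614 L381823 rfl
theorem L621678 : sm gb N23373 = N30935 := trfs L607611 L374742 rfl
theorem L621681 : sm gd N23373 = N30376 := trfs L607611 L374745 rfl
theorem L621684 : sm gg N23373 = N30378 := trfs L607611 L374748 rfl
theorem L621686 : sm gb N30933 = N23559 := trfs L607601 L283885 rfl
theorem L621688 : sm gd N30933 = N22959 := trfs L607601 L283887 rfl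
theorem L621691 : sm ga N15556 = N20832 := trfs L607586 L593610 rfl
theorem L621696 : sm gg N15556 = N11422 := trfs L607586 L140802 rfl
theorem L621700 : sm gh N15556 = N21875 := trfs L607586 (flp_h L185819) rfl
theorem L621702 : sm gi N15556 = N20851 := trfs L607586 L593614 rfl
theorem L621709 : sm ge N30252 = N21875 := trfs L607576 (flp_e L270101) rfl
theorem L621711 : sm gg N30252 = N21986 := trfs L607576 L270104 rfl
theorem L621713 : sm gj N30252 = N21877 := trfs L607576 L270106 rfl
theorem L621715 : sm gc N15767 = N21875 := trfs L607573 L262382 rfl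
theorem L621717 : sm gd N15767 = N21230 := trfs L607573 (flp_d L262375) rfl
theorem L621720 : sm gg N15767 = N21358 := trfs L607573 L262378 rfl
theorem L621722 : sm gj N15767 = N21231 := trfs L607573 L262380 rfl
theorem L621724 : sm gc N30336 = N22933 := trfs L607569 L279472 rfl
theorem L621736 : sm ge N11336 = N15548 := trfs L607530 L192292 rfl
theorem L621750 : sm ga N10703 = N14323 := trfs L607507 (flp_a L593616) rfl
theorem L621758 : sm gj N10703 = N7824 := trfs L607507 L97198 rfl
theorem L621760 : sm gh N10703 = N7823 := trfs L607507 (flp_h L97190) rfl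
theorem L621774 : sm ga N10632 = N14221 := trfs L607500 L594030 rfl
theorem L621778 : sm ge N10632 = N7824 := trfs L607500 L97167 rfl
theorem L621789 : sm gc N11357 = N15644 := trfs L607497 L191045 rfl
theorem L621792 : sm gj N11357 = N15556 := trfs L607497 L191043 rfl
theorem L621805 : sm gi N14336 = N10703 := trfs L607485 L132313 rfl
theorem L621814 : sm gd N14230 = N20676 := trfs L607478 (flp_d L175768) rfl
theorem L621822 : sm gi N14230 = N10632 := trfs L607478 L131458 rfl
theorem L621836 : sm gd N5408 = N7419 := trfs L607416 L90888 rfl
theorem L621847 : sm gd N7477 = N5248 := trfs L607405 L65333 rfl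
theorem L621852 : sm gj N7477 = N5245 := trfs L607405 (flp_j L65329) rfl
theorem L621868 : sm gj N7582 = N10856 := trfs L607376 L133492 rfl
theorem L621876 : sm gb N10999 = N7589 := trfs L607360 L94233 rfl
theorem L621882 : sm gg N10999 = N7583 := trfs L607360 L94236 rfl
theorem L621885 : sm gh N10999 = N7582 := trfs L607360 (flp_h L94231) rfl
theorem L622054 : sm gf N30741 = N23519 := trfs L607070 L290925 rfl
theorem L622057 : sm gd N30539 = N23556 := trfs L607054 L291402 rfl
theorem L622059 : sm gg N30539 = N23559 := trfs L607054 L291404 rfl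
theorem L622061 : sm gb N31126 = N23556 := trfs L607050 L283868 rfl
theorem L622063 : sm ge N31126 = N44518 := trfs L607050 (flp_e L376661) rfl
theorem L622065 : sm gg N31126 = N22959 := trfs L607050 L283870 rfl
theorem L622069 : sm gj N21347 = N30540 := trfs L607031 L376797 rfl
theorem L622075 : sm gj N44539 = N31103 := trfs L607025 L383846 rfl
theorem L622083 : sm gj N44529 = N31105 := trfs L607019 L383861 rfl
theorem L622085 : sm gh N44529 = N31114 := trfs L607019 L383863 rfl
theorem L622087 : sm gj N21360 = N30527 := trfs L607015 L376647 rfl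
theorem L622091 : sm gj N44494 = N31069 := trfs L607012 L383416 rfl
theorem L622095 : sm gd N15776 = N21226 := trfs L607003 L262295 rfl
theorem L622097 : sm gg N15776 = N21346 := trfs L607003 L262299 rfl
theorem L622099 : sm gj N15776 = N21223 := trfs L607003 (flp_j L262292) rfl
theorem L622102 : sm gb N31102 = N23577 := trfs L607000 L284026 rfl
theorem L622105 : sm ge N31102 = N23253 := trfs L607000 L284029 rfl
theorem L622107 : sm gh N31102 = N44539 := trfs L607000 (flp_h L376817) rfl
theorem L622109 : sm gb N16183 = N21346 := trfs L606991 L258922 rfl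
theorem L622111 : sm gd N16183 = N20963 := trfs L606991 L258924 rfl
theorem L622113 : sm gj N16183 = N20960 := trfs L606991 (flp_j L258920) rfl
theorem L622116 : sm ga N30968 = N21346 := trfs L606988 L263482 rfl
theorem L622119 : sm gd N30968 = N21325 := trfs L606988 L263485 rfl
theorem L622121 : sm gf N30968 = N45323 := trfs L606988 (flp_f L383400) rfl
theorem L622122 : N45323 = N45171 := eqes L622121 L382198
theorem L622123 : N45323 = N45171 := eqc rfl L622122 rfl
theorem L622124 : sm gj N30968 = N21322 := trfs L606988 (flp_j L263480) rfl
theorem L622127 : sm ga N45171 = N31102 := trfs L622123 L383395 rfl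
theorem L622130 : sm gd N45171 = N31072 := trfs L622123 L383398 rfl
theorem L622132 : sm gj N45171 = N31067 := trfs L622123 (flp_j L383393) rfl
theorem L622136 : sm gd N44463 = N31005 := trfs L606977 L382651 rfl
theorem L622138 : sm gj N44463 = N31000 := trfs L606977 (flp_j L382648) rfl
theorem L622140 : sm gi N44463 = N31102 := trfs L606977 L382655 rfl
theorem L622142 : sm gd N21281 = N30493 := trfs L606973 L376176 rfl
theorem L622144 : sm gg N21281 = N30492 := trfs L606973 (flp_g L376170) rfl
theorem L622146 : sm gd N20945 = N30461 := trfs L606969 L375805 rfl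
theorem L622148 : sm gj N20945 = N30458 := trfs L606969 (flp_j L375801) rfl
theorem L622151 : sm gd N21313 = N30980 := trfs L606966 L382345 rfl
theorem L622153 : sm gj N21313 = N30977 := trfs L606966 (flp_j L382340) rfl
theorem L622156 : sm gf N30717 = N23452 := trfs L606947 L290166 rfl
theorem L622160 : sm gb N30984 = N23519 := trfs L606944 L504818 rfl
theorem L622162 : sm gd N30984 = N23452 := trfs L606944 (flp_d L290174) rfl
theorem L622164 : sm gg N30984 = N23453 := trfs L606944 L290176 rfl
theorem L622166 : sm gb N30509 = N23452 := trfs L606940 L283005 rfl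
theorem L622168 : sm gd N30509 = N23519 := trfs L606940 L530097 rfl
theorem L622170 : sm ge N30509 = N44414 := trfs L606940 (flp_e L375815) rfl
theorem L622172 : sm gg N30509 = N22889 := trfs L606940 L283007 rfl
theorem L622175 : sm ga N31013 = N23452 := trfs L606937 L289854 rfl
theorem L622178 : sm ge N31013 = N45189 := trfs L606937 (flp_e L382356) rfl
theorem L622180 : sm gg N31013 = N23428 := trfs L606937 L289857 rfl
theorem L622185 : sm gj N20940 = N16101 := trfs L606931 (flp_j L199580) rfl
theorem L622190 : sm gf N21088 = N16101 := trfs L606927 (flp_f L199572) rfl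
theorem L622195 : sm gj N21278 = N30493 := trfs L606924 (flp_j L376197) rfl
theorem L622197 : sm gb N20947 = N16101 := trfs L606919 L194673 rfl
theorem L622201 : sm ge N20947 = N30458 := trfs L606919 (flp_e L258360) rfl
theorem L622203 : sm gg N20947 = N15721 := trfs L606919 (flp_g L194671) rfl
theorem L622207 : sm ga N21315 = N16101 := trfs L606916 L199356 rfl
theorem L622212 : sm ge N21315 = N30977 := trfs L606916 (flp_e L262768) rfl
theorem L622214 : sm gg N21315 = N16085 := trfs L606916 (flp_g L199354) rfl
theorem L622218 : sm gb N16170 = N21358 := trfs L606910 L259012 rfl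
theorem L622221 : sm gd N16170 = N20967 := trfs L606910 (flp_d L259010) rfl
theorem L622223 : sm gf N16170 = N21131 := trfs L606910 L259014 rfl
theorem L622225 : sm gj N16170 = N20968 := trfs L606910 L259016 rfl
theorem L622233 : sm gf N15962 = N11114 := trfs L606902 (flp_f L137978) rfl
theorem L622237 : sm ga N15766 = N20918 := trfs L606895 (flp_a L592457) rfl
theorem L622239 : sm gc N15766 = N11422 := trfs L606895 L138060 rfl
theorem L622242 : sm gf N15766 = N11244 := trfs L606895 L138056 rfl
theorem L622244 : sm gj N15766 = N11122 := trfs L606895 L138058 rfl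
theorem L622246 : sm gh N15766 = N21358 := trfs L606895 (flp_h L181563) rfl
theorem L622248 : sm gi N15766 = N20947 := trfs L606895 L591933 rfl
theorem L622250 : sm gb N16145 = N21265 := trfs L606892 L262702 rfl
theorem L622254 : sm gf N16145 = N21396 := trfs L606892 L262707 rfl
theorem L622256 : sm gj N16145 = N21258 := trfs L606892 (flp_j L262700) rfl
theorem L622258 : sm gi N16145 = N21315 := trfs L606892 L262709 rfl
theorem L622267 : sm ge N7656 = N10847 := trfs L606866 L134496 rfl
theorem L622276 : sm ge N15774 = N21346 := trfs L606863 (flp_e L181489) rfl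
theorem L622278 : sm gj N15774 = N11114 := trfs L606863 (flp_j L137984) rfl
theorem L622288 : sm gh N10846 = N7654 := trfs L606854 (flp_h L95163) rfl
theorem L622301 : sm gh N10844 = N7656 := trfs L606847 (flp_h L95181) rfl
theorem L622317 : sm ga N15722 = N10846 := trfs L606826 L134348 rfl
theorem L622321 : sm gd N15722 = N20947 := trfs L606826 (flp_d L178111) rfl
theorem L622323 : sm gf N15722 = N10952 := trfs L606826 L134352 rfl
theorem L622326 : sm gj N15722 = N10834 := trfs L606826 (flp_j L134346) rfl
theorem L622330 : sm ge N7657 = N10846 := trfs L606818 L134488 rfl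
theorem L622332 : sm gj N7657 = N10844 := trfs L606818 (flp_j L134482) rfl
theorem L622340 : sm gf N11099 = N15933 := trfs L606811 L195110 rfl
theorem L622386 : sm ge N15746 = N11072 := trfs L606798 L137447 rfl
theorem L622396 : sm gd N16086 = N21315 := trfs L606791 L591423 rfl
theorem L622398 : sm gf N16086 = N11176 := trfs L606791 L137475 rfl
theorem L622401 : sm gj N16086 = N11073 := trfs L606791 L137477 rfl
theorem L622403 : sm gh N16086 = N11072 := trfs L606791 (flp_h L137471) rfl
theorem L622409 : sm gj N15754 = N11099 := trfs L606784 (flp_j L137790) rfl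
theorem L622436 : sm gg N20842 = N16001 := trfs L606737 (flp_g L198253) rfl
theorem L622441 : sm ge N10771 = N7582 := trfs L606734 L94207 rfl
theorem L622458 : sm ge N15649 = N21223 := trfs L606713 (flp_e L180477) rfl
theorem L622465 : sm ge N7421 = N5245 := trfs L606710 L65318 rfl
theorem L622475 : sm gg N11033 = N15649 := trfs L606694 L193708 rfl
theorem L622491 : sm ge N7601 = N10763 := trfs L606677 L133386 rfl
theorem L622497 : sm gj N14338 = N11119 := trfs L606674 L136971 rfl
theorem L622500 : sm ga N15615 = N10763 := trfs L606669 L133289 rfl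
theorem L622503 : sm gd N15615 = N20845 := trfs L606669 (flp_d L177218) rfl
theorem L622513 : sm ge N10755 = N15616 := trfs L606657 L193211 rfl
theorem L622515 : sm gg N10755 = N15615 := trfs L606657 (flp_g L193205) rfl
theorem L622518 : sm ga N20826 = N15644 := trfs L606654 L193482 rfl
theorem L622521 : sm gj N20826 = N15750 := trfs L606654 L193485 rfl
theorem L622524 : sm ge N11005 = N15632 := trfs L606650 (flp_e L193427) rfl
theorem L622532 : sm ga N10762 = N15616 := trfs L606647 L591599 rfl
theorem L622535 : sm gg N10762 = N7601 := trfs L606647 L94468 rfl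
theorem L622540 : sm ge N15636 = N11024 := trfs L606634 L136786 rfl
theorem L622542 : sm gg N15636 = N11023 := trfs L606634 (flp_g L136780) rfl
theorem L622556 : sm gb N15991 = N11024 := trfs L606625 L591211 rfl
theorem L622558 : sm gd N15991 = N21203 := trfs L606625 L591213 rfl
theorem L622561 : sm gg N15991 = N11006 := trfs L606625 L136550 rfl
theorem L622564 : sm gh N15991 = N11005 := trfs L606625 (flp_h L136545) rfl
theorem L622566 : sm ge N7600 = N10764 := trfs L606622 L133394 rfl
theorem L622571 : sm gh N7600 = N10762 := trfs L606622 (flp_h L133388) rfl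
theorem L622575 : sm gb N21210 = N16085 := trfs L606609 (flp_b L576619) rfl
theorem L622577 : sm gd N21210 = N15752 := trfs L606609 (flp_d L195090) rfl
theorem L622583 : sm gd N10845 = N14587 := trfs L606604 (flp_d L124349) rfl
theorem L622586 : sm gg N10845 = N7656 := trfs L606604 L94461 rfl
theorem L622588 : sm gj N10845 = N7600 := trfs L606604 (flp_j L94456) rfl
theorem L622591 : sm gb N15992 = N11023 := trfs L606598 L591228 rfl
theorem L622594 : sm ge N15992 = N11006 := trfs L606598 L136531 rfl
theorem L622597 : sm gj N15992 = N11071 := trfs L606598 L136534 rfl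
theorem L622602 : sm ga N16106 = N21181 := trfs L606589 L261555 rfl
theorem L622604 : sm gc N16106 = N21175 := trfs L606589 L261557 rfl
theorem L622607 : sm gg N16106 = N21265 := trfs L606589 L261564 rfl
theorem L622609 : sm gj N16106 = N21169 := trfs L606589 (flp_j L261553) rfl
theorem L622611 : sm gi N16106 = N21210 := trfs L606589 L261562 rfl
theorem L622619 : sm gd N15745 = N21181 := trfs L606582 (flp_d L180093) rfl
theorem L622622 : sm gg N15745 = N11072 := trfs L606582 L136543 rfl
theorem L622624 : sm gj N15745 = N11005 := trfs L606582 (flp_j L136536) rfl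
theorem L622629 : sm gg N11004 = N15632 := trfs L606575 (flp_g L193438) rfl
theorem L622631 : sm gh N11004 = N15992 := trfs L606575 L552771 rfl
theorem L622636 : sm gj N11070 = N15746 := trfs L606572 (flp_j L194984) rfl
theorem L622665 : sm gd N7423 = N5284 := trfs L606520 (flp_d L65829) rfl
theorem L622675 : sm gg N7655 = N10846 := trfs L606517 L133406 rfl
theorem L622677 : sm gj N7655 = N10763 := trfs L606517 (flp_j L133399) rfl
theorem L622684 : sm ga N10745 = N7419 := trfs L606506 L91974 rfl
theorem L622690 : sm gj N10745 = N7466 := trfs L606506 L91978 rfl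
theorem L622702 : sm gc N10698 = N14323 := trfs L606497 (flp_c L122076) rfl
theorem L622708 : sm gj N10698 = N7407 := trfs L606497 (flp_j L91880) rfl
theorem L622710 : sm gh N10698 = N7817 := trfs L606497 L538212 rfl
theorem L622712 : sm gi N10698 = N7423 := trfs L606497 L91885 rfl
theorem L622717 : sm gj N10833 = N15616 := trfs L606494 (flp_j L193226) rfl
theorem L622736 : sm ge N7467 = N10821 := trfs L606479 L134155 rfl
theorem L622743 : sm ga N15724 = N10844 := trfs L606475 L134331 rfl
theorem L622745 : sm ge N15724 = N10834 := trfs L606475 L134335 rfl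
theorem L622747 : sm gg N15724 = N10833 := trfs L606475 (flp_g L134329) rfl
theorem L622755 : sm gg N10839 = N7650 := trfs L606465 L94410 rfl
theorem L622757 : sm gj N10839 = N7595 := trfs L606465 (flp_j L94401) rfl
theorem L622763 : sm ge N10841 = N7650 := trfs L606461 L95086 rfl
theorem L622767 : sm gj N10841 = N7648 := trfs L606461 (flp_j L95079) rfl
theorem L622783 : sm gb N11101 = N16086 := trfs L606455 (flp_b L576695) rfl
theorem L622785 : sm ge N11101 = N15754 := trfs L606455 L195086 rfl
theorem L622787 : sm gg N11101 = N15752 := trfs L606455 L195088 rfl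
theorem L622795 : sm gg N7630 = N11066 := trfs L606444 L136486 rfl
theorem L622804 : sm gb N16088 = N11099 := trfs L606436 L591446 rfl
theorem L622806 : sm ge N16088 = N11073 := trfs L606436 L137455 rfl
theorem L622809 : sm gg N16088 = N11071 := trfs L606436 L137457 rfl
theorem L622811 : sm gh N16088 = N11070 := trfs L606436 (flp_h L137451) rfl
theorem L622817 : sm gg N7631 = N10856 := trfs L606431 L134618 rfl
theorem L622820 : sm gh N7631 = N11064 := trfs L606431 (flp_h L577876) rfl
theorem L622830 : sm gf N7629 = N10987 := trfs L606408 L134637 rfl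
theorem L622834 : sm gh N7629 = N11066 := trfs L606408 (flp_h L589133) rfl
theorem L622837 : sm ge N15919 = N11171 := trfs L606402 L137440 rfl
theorem L622839 : sm gf N15919 = N11070 := trfs L606402 (flp_f L137434) rfl
theorem L622846 : sm gf N5283 = N7566 := trfs L606392 L92860 rfl
theorem L622853 : sm ge N10972 = N7735 := trfs L606386 L95154 rfl
theorem L622855 : sm gf N10972 = N7654 := trfs L606386 (flp_f L95150) rfl
theorem L622876 : sm gg N7478 = N5284 := trfs L606374 L65827 rfl
theorem L622879 : sm gh N7478 = N5283 := trfs L606374 (flp_h L65821) rfl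
theorem L622902 : sm gf N7458 = N5351 := trfs L606319 L65930 rfl
theorem L622903 : N5351 = N10824 := eqes L622902 L92576
theorem L622904 : N10824 = N5351 := (eqc rfl L622903 rfl).symm
theorem L622915 : sm gf N5351 = N7458 := trfs L622904 (flp_f L92576) rfl
theorem L622991 : sm gf N5941 = N7712 := trfs L606300 L94949 rfl
theorem L623007 : sm gb N7636 = N11066 := trfs L606286 (flp_b L94727) rfl
theorem L623015 : sm gj N7636 = N5913 := trfs L606286 (flp_j L73452) rfl
theorem L623018 : sm gi N7636 = N5943 := trfs L606286 L73460 rfl
theorem L623029 : sm gb N7639 = N11064 := trfs L606279 (flp_b L94707) rfl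
theorem L623032 : sm ge N7639 = N5913 := trfs L606279 L73441 rfl
theorem L623034 : sm gg N7639 = N5912 := trfs L606279 (flp_g L73436) rfl
theorem L623038 : sm gi N7639 = N5941 := trfs L606279 L73443 rfl
theorem L623053 : sm gj N5265 = N7487 := trfs L606265 L92947 rfl
theorem L623066 : sm ge N5267 = N7487 := trfs L606258 L92918 rfl
theorem L623068 : sm gg N5267 = N7485 := trfs L606258 L92920 rfl
theorem L623074 : sm ge N10858 = N7631 := trfs L606253 L94835 rfl
theorem L623077 : sm gj N10858 = N7629 := trfs L606253 (flp_j L94830) rfl
theorem L623084 : sm gf N3653 = N5225 := trfs L606245 L64263 rfl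
theorem L623087 : sm gj N3653 = N5166 := trfs L606245 L64265 rfl
theorem L623101 : sm gj N7479 = N5283 := trfs L606235 (flp_j L65814) rfl
theorem L623104 : sm ge N5286 = N7478 := trfs L606220 L92833 rfl
theorem L623281 : sm ge N10759 = N7595 := trfs L605939 L94388 rfl
theorem L623283 : sm gg N10759 = N7594 := trfs L605939 (flp_g L94381) rfl
theorem L623297 : sm ge N7414 = N10745 := trfs L605920 L133141 rfl
theorem L623299 : sm gg N7414 = N10744 := trfs L605920 (flp_g L133137) rfl
theorem L623312 : sm gg N5246 = N7419 := trfs L605900 (flp_g L92066) rfl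
theorem L623320 : sm gj N3627 = N5164 := trfs L605885 L63731 rfl
theorem L623324 : sm ga N7420 = N10744 := trfs L605882 L588870 rfl
theorem L623326 : sm ge N7420 = N5246 := trfs L605882 L65324 rfl
theorem L623329 : sm gj N7420 = N5284 := trfs L605882 L65327 rfl
theorem L623342 : sm gg N5124 = N3628 := trfs L605867 L45293 rfl
theorem L623344 : sm gh N5124 = N3627 := trfs L605867 (flp_h L45288) rfl
theorem L623349 : sm gg N5244 = N7421 := trfs L605864 L92095 rfl
theorem L623351 : sm gh N5244 = N7420 := trfs L605864 (flp_h L92090) rfl
theorem L623363 : sm gg N7408 = N5253 := trfs L605849 L65418 rfl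
theorem L623368 : sm gg N7581 = N10771 := trfs L605846 L133510 rfl
theorem L623381 : sm gg N5887 = N7590 := trfs L605828 L94314 rfl
theorem L623383 : sm gi N5887 = N7589 := trfs L605828 (flp_i L94308) rfl
theorem L623396 : sm gb N11000 = N7587 := trfs L605825 L94213 rfl
theorem L623399 : sm ge N11000 = N7583 := trfs L605825 L94215 rfl
theorem L623402 : sm gj N11000 = N7630 := trfs L605825 L94218 rfl
theorem L623404 : sm gh N11000 = N7581 := trfs L605825 (flp_h L94211) rfl
theorem L623421 : sm gd N5916 = N7636 := trfs L605797 (flp_d L94911) rfl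
theorem L623424 : sm gg N5916 = N7637 := trfs L605797 L94915 rfl
theorem L623428 : sm gb N11003 = N7637 := trfs L605790 L94849 rfl
theorem L623430 : sm gd N11003 = N7630 := trfs L605790 (flp_d L94847) rfl
theorem L623439 : sm gd N7598 = N10839 := trfs L605773 (flp_d L134423) rfl
theorem L623604 : sm gd N3630 = N5164 := trfs L605484 (flp_d L64242) rfl
theorem L623619 : sm gd N5237 = N7485 := trfs L605466 L92934 rfl
theorem L623878 : sm gh N2887 = N4049 := trfs L605215 (flp_h L50406) rfl
theorem L623904 : sm gh N4143 = N5991 := trfs L605196 (flp_h L600225) rfl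
theorem L623921 : sm gb N6001 = N4203 := trfs L605173 L52134 rfl
theorem L623925 : sm gf N6001 = N4199 := trfs L605173 L52137 rfl
theorem L623945 : sm gf N4205 = N6079 := trfs L605160 L75334 rfl
theorem L623955 : sm gd N4204 = N6078 := trfs L605125 (flp_d L75338) rfl
theorem L623959 : sm gj N4204 = N6079 := trfs L605125 L75343 rfl
theorem L624016 : sm gg N4052 = N2922 := trfs L605064 (flp_g L36344) rfl
theorem L624026 : sm gg N6064 = N7789 := trfs L605058 L96722 rfl
theorem L624035 : sm gg N5374 = N7573 := trfs L605054 L94061 rfl
theorem L624051 : sm gg N5845 = N4203 := trfs L605045 (flp_g L52174) rfl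
theorem L624079 : sm gf N5221 = N3694 := trfs L604986 L46096 rfl
theorem L624110 : sm gj N2888 = N4049 := trfs L604977 (flp_j L50399) rfl
theorem L624128 : sm ge N3692 = N5225 := trfs L604965 L64995 rfl
theorem L624133 : sm gh N3692 = N5221 := trfs L604965 (flp_h L64989) rfl
theorem L624190 : sm gj N4144 = N5991 := trfs L604918 (flp_j L74374) rfl
theorem L624196 : sm gf N5350 = N7534 := trfs L604912 L93558 rfl
theorem L624205 : sm gf N6021 = N7709 := trfs L604906 L95806 rfl
theorem L624209 : sm gi N6021 = N7706 := trfs L604906 (flp_i L95802) rfl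
theorem L624223 : sm gj N5856 = N4170 := trfs L604896 (flp_j L51827) rfl
theorem L624225 : sm gc N8780 = N6094 := trfs L604882 L75487 rfl
theorem L624229 : sm gf N8780 = N6093 := trfs L604882 L75490 rfl
theorem L624232 : sm gj N8780 = N6092 := trfs L604882 (flp_j L75483) rfl
theorem L624235 : sm gc N4219 = N6066 := trfs L604878 L560515 rfl
theorem L624237 : sm gd N4219 = N5856 := trfs L604878 (flp_d L72749) rfl
theorem L624243 : sm gi N4219 = N6001 := trfs L604878 L560754 rfl
theorem L624267 : sm gg N5857 = N4219 := trfs L604859 (flp_g L52321) rfl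
theorem L624324 : sm gf N4206 = N6078 := trfs L604804 L75325 rfl
theorem L624333 : sm ga N11308 = N8801 := trfs L604788 L108672 rfl
theorem L624335 : sm gb N11308 = N14004 := trfs L604788 L579735 rfl
theorem L624339 : sm gf N11308 = N8784 := trfs L604788 L108677 rfl
theorem L624345 : sm ga N6077 = N7791 := trfs L604783 (flp_a L66912) rfl
theorem L624347 : sm gd N6077 = N4205 := trfs L604783 (flp_d L52197) rfl
theorem L624351 : sm gj N6077 = N4206 := trfs L604783 L52200 rfl
theorem L624359 : sm gj N7708 = N6061 := trfs L604776 (flp_j L75143) rfl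
theorem L624361 : sm gi N7708 = N6094 := trfs L604776 L75150 rfl
theorem L624363 : sm gd N8782 = N6093 := trfs L604769 L75463 rfl
theorem L624368 : sm gj N8782 = N6090 := trfs L604769 (flp_j L75459) rfl
theorem L624370 : sm gh N8782 = N11308 := trfs L604769 (flp_h L560663) rfl
theorem L624375 : sm gj N4198 = N6001 := trfs L604765 L74477 rfl
theorem L624390 : sm gj N5977 = N7706 := trfs L604753 L95791 rfl
theorem L624420 : sm gg N7801 = N10961 := trfs L604705 L136008 rfl
theorem L624453 : sm gf N11187 = N7769 := trfs L604682 L96503 rfl
theorem L624458 : sm gi N11187 = N7801 := trfs L604682 L96505 rfl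
theorem L624463 : sm gf N11271 = N16277 := trfs L604675 L201610 rfl
theorem L624467 : sm gd N6062 = N7706 := trfs L604672 (flp_d L95793) rfl
theorem L624469 : sm gf N6062 = N7708 := trfs L604672 L95797 rfl
theorem L624477 : sm gf N7786 = N11280 := trfs L604663 L139887 rfl
theorem L624488 : sm gd N7784 = N11280 := trfs L604657 (flp_d L139902) rfl
theorem L624496 : sm gf N14033 = N11302 := trfs L604654 L140114 rfl
theorem L624501 : sm ga N7790 = N6078 := trfs L604651 L75163 rfl
theorem L624503 : sm gb N7790 = N11280 := trfs L604651 (flp_b L96522) rfl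
theorem L624505 : sm ge N7790 = N6065 := trfs L604651 L75165 rfl
theorem L624510 : sm gh N7790 = N6062 := trfs L604651 (flp_h L75161) rfl
theorem L624521 : sm gb N11279 = N7791 := trfs L604640 L96694 rfl
theorem L624523 : sm gd N11279 = N7785 := trfs L604640 (flp_d L96692) rfl
theorem L624527 : sm gj N11279 = N7786 := trfs L604640 L96697 rfl
theorem L624535 : sm gb N11281 = N7789 := trfs L604634 L96676 rfl
theorem L624538 : sm gf N11281 = N7785 := trfs L604634 L96679 rfl
theorem L624541 : sm gj N11281 = N7784 := trfs L604634 L96681 rfl
theorem L624548 : sm gd N6063 = N7789 := trfs L604628 (flp_d L96726) rfl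
theorem L624550 : sm gf N6063 = N7791 := trfs L604628 L96730 rfl
theorem L624553 : sm gj N6063 = N7790 := trfs L604628 L96732 rfl
theorem L624639 : sm gd N5390 = N7563 := trfs L604497 (flp_d L93955) rfl
theorem L624642 : sm gg N5390 = N7564 := trfs L604497 L93959 rfl
theorem L624646 : sm gf N10969 = N7736 := trfs L604494 L96161 rfl
theorem L624648 : sm gj N10969 = N7735 := trfs L604494 (flp_j L96157) rfl
theorem L624652 : sm gd N5222 = N3728 := trfs L604491 L46088 rfl
theorem L624655 : sm gf N5222 = N3693 := trfs L604491 L46090 rfl
theorem L624657 : sm gj N5222 = N3692 := trfs L604491 (flp_j L46084) rfl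
theorem L624664 : sm ga N7783 = N11187 := trfs L604475 (flp_a L580336) rfl
theorem L624666 : sm gd N7783 = N10984 := trfs L604475 L136294 rfl
theorem L624670 : sm gg N7783 = N10986 := trfs L604475 L136297 rfl
theorem L624672 : sm gh N7783 = N11281 := trfs L604475 (flp_h L580314) rfl
theorem L624676 : sm gj N15917 = N11171 := trfs L604472 (flp_j L138677) rfl
theorem L624679 : sm gd N7572 = N5374 := trfs L604469 L66179 rfl
theorem L624684 : sm gj N7572 = N5313 := trfs L604469 (flp_j L66175) rfl
theorem L624687 : sm gf N11172 = N15917 := trfs L604453 (flp_f L197152) rfl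
theorem L624692 : sm gf N5314 = N7572 := trfs L604450 L94029 rfl
theorem L624696 : sm gb N11163 = N7706 := trfs L604447 L95715 rfl
theorem L624709 : sm gj N7768 = N11187 := trfs L604433 L138837 rfl
theorem L624712 : sm gb N16227 = N11215 := trfs L604430 (flp_b L590646) rfl
theorem L624714 : sm ge N16227 = N11176 := trfs L604430 L138696 rfl
theorem L624717 : sm gj N16227 = N11173 := trfs L604430 L138699 rfl
theorem L624719 : sm gh N16227 = N11172 := trfs L604430 (flp_h L138692) rfl
theorem L624722 : sm ga N7707 = N5991 := trfs L604427 L74204 rfl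
theorem L624724 : sm gb N7707 = N11162 := trfs L604427 (flp_b L95527) rfl
theorem L624726 : sm gd N7707 = N6061 := trfs L604427 L74206 rfl
theorem L624728 : sm gf N7707 = N5977 := trfs L604427 (flp_f L74202) rfl
theorem L624733 : sm ge N7698 = N10987 := trfs L604424 L136278 rfl
theorem L624737 : sm gj N7698 = N10984 := trfs L604424 L136281 rfl
theorem L624739 : sm gh N7698 = N11163 := trfs L604424 (flp_h L580583) rfl
theorem L624742 : sm gd N10960 = N7801 := trfs L604418 L96076 rfl
theorem L624745 : sm gf N10960 = N7728 := trfs L604418 L96078 rfl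
theorem L624748 : sm gj N10960 = N7727 := trfs L604418 (flp_j L96070) rfl
theorem L624756 : sm ge N10963 = N7727 := trfs L604411 L95076 rfl
theorem L624758 : sm gf N10963 = N7648 := trfs L604411 (flp_f L95069) rfl
theorem L624767 : sm gb N11214 = N16228 := trfs L604405 L580630 rfl
theorem L624769 : sm ge N11214 = N15933 := trfs L604405 L197365 rfl
theorem L624772 : sm gj N11214 = N15930 := trfs L604405 L197368 rfl
theorem L624775 : sm ge N6020 = N7712 := trfs L604402 L95825 rfl
theorem L624778 : sm gj N6020 = N7709 := trfs L604402 L95828 rfl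
theorem L624781 : sm gi N6020 = N7707 := trfs L604402 (flp_i L95821) rfl
theorem L624783 : sm ge N5341 = N7566 := trfs L604399 L93950 rfl
theorem L624787 : sm gj N5341 = N7563 := trfs L604399 L93953 rfl
theorem L624797 : sm gj N7547 = N10929 := trfs L604393 (flp_j L135593) rfl
theorem L624804 : sm ga N15884 = N10968 := trfs L604383 L135878 rfl
theorem L624806 : sm ge N15884 = N10952 := trfs L604383 L135882 rfl
theorem L624809 : sm gj N15884 = N10950 := trfs L604383 (flp_j L135876) rfl
theorem L624813 : sm ge N7533 = N5351 := trfs L604380 L66595 rfl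
theorem L624816 : sm gj N7533 = N5350 := trfs L604380 L66598 rfl
theorem L624819 : sm ga N7562 = N10929 := trfs L604377 L590383 rfl
theorem L624826 : sm gh N7562 = N5341 := trfs L604377 (flp_h L66529) rfl
theorem L624831 : sm gf N5343 = N7562 := trfs L604369 L93937 rfl
theorem L624834 : sm gj N5343 = N7561 := trfs L604369 (flp_j L93932) rfl
theorem L624838 : sm ga N10967 = N15885 := trfs L604359 (flp_a L590674) rfl
theorem L624843 : sm gj N10967 = N7737 := trfs L604359 L96177 rfl
theorem L624845 : sm gh N10967 = N7736 := trfs L604359 (flp_h L96170) rfl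
theorem L624851 : sm gj N5220 = N3694 := trfs L604356 L46107 rfl
theorem L624853 : sm gh N5220 = N3693 := trfs L604356 (flp_h L46100) rfl
theorem L624855 : sm ga N10930 = N7561 := trfs L604353 L93749 rfl
theorem L624859 : sm gf N10930 = N7547 := trfs L604353 (flp_f L93747) rfl
theorem L624862 : sm ge N7740 = N10967 := trfs L604341 L134479 rfl
theorem L624864 : sm gf N7740 = N10844 := trfs L604341 (flp_f L134473) rfl
theorem L624869 : sm ge N3696 = N5220 := trfs L604338 L64221 rfl
theorem L624880 : sm ge N5285 = N7479 := trfs L604327 L92839 rfl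
theorem L624882 : sm gg N5285 = N7477 := trfs L604327 L92841 rfl
theorem L624887 : sm gf N5342 = N7563 := trfs L604324 L93943 rfl
theorem L624891 : sm gh N5342 = N7561 := trfs L604324 (flp_h L93939) rfl
theorem L624922 : sm ge N7703 = N11162 := trfs L604264 L137355 rfl
theorem L624924 : sm gf N7703 = N11064 := trfs L604264 (flp_f L137346) rfl
theorem L624929 : sm ge N7632 = N11066 := trfs L604261 L137365 rfl
theorem L624931 : sm gj N7632 = N11064 := trfs L604261 (flp_j L137358) rfl
theorem L624933 : sm gf N7700 = N11163 := trfs L604258 L138559 rfl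
theorem L624936 : sm gj N7700 = N11162 := trfs L604258 (flp_j L138551) rfl
theorem L625023 : sm ge N7549 = N10929 := trfs L604122 L134148 rfl
theorem L625045 : sm ga N10819 = N7478 := trfs L604101 L92722 rfl
theorem L625047 : sm gd N10819 = N7470 := trfs L604101 L92726 rfl
theorem L625049 : sm gf N10819 = N7549 := trfs L604101 L92728 rfl
theorem L625051 : sm gj N10819 = N7467 := trfs L604101 (flp_j L92720) rfl
theorem L625061 : sm ga N7476 = N10821 := trfs L604082 L591513 rfl
theorem L625064 : sm gd N7476 = N5442 := trfs L604082 L65852 rfl
theorem L625066 : sm gf N7476 = N5345 := trfs L604082 L65848 rfl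
theorem L625068 : sm gj N7476 = N5286 := trfs L604082 L65850 rfl
theorem L625070 : sm gh N7476 = N5285 := trfs L604082 (flp_h L65844) rfl
theorem L625073 : sm ge N7870 = N10704 := trfs L604079 L132561 rfl
theorem L625075 : sm gg N7870 = N10703 := trfs L604079 (flp_g L132556) rfl
theorem L625140 : sm gd N7384 = N5439 := trfs L604005 (flp_d L67693) rfl
theorem L625151 : sm gj N7867 = N10704 := trfs L604002 (flp_j L132571) rfl
theorem L625168 : sm gd N10689 = N7377 := trfs L603985 L91446 rfl
theorem L625206 : sm gd N10622 = N7330 := trfs L603946 L90844 rfl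
theorem L625235 : sm gg N7822 = N10632 := trfs L603920 (flp_g L131648) rfl
theorem L625267 : sm gf N7821 = N10633 := trfs L603880 L131658 rfl
theorem L625271 : sm gh N7821 = N10632 := trfs L603880 (flp_h L131653) rfl
theorem L625276 : sm gf N7815 = N10630 := trfs L603876 L131614 rfl
theorem L625285 : sm gg N5438 = N7382 := trfs L603869 L91535 rfl
theorem L625298 : sm ge N5407 = N7382 := trfs L603863 L91520 rfl
theorem L625305 : sm ge N10705 = N7823 := trfs L603859 L97157 rfl
theorem L625307 : sm gg N10705 = N7866 := trfs L603859 L97160 rfl
theorem L625309 : sm gj N10705 = N7821 := trfs L603859 (flp_j L97152) rfl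
theorem L625313 : sm ga N7381 = N10689 := trfs L603850 (flp_a L593949) rfl
theorem L625317 : sm ge N7381 = N5442 := trfs L603850 L67688 rfl
theorem L625320 : sm gj N7381 = N5439 := trfs L603850 L67691 rfl
theorem L625322 : sm gh N7381 = N5438 := trfs L603850 (flp_h L67684) rfl
theorem L625326 : sm gg N7380 = N5442 := trfs L603846 L67299 rfl
theorem L625328 : sm gj N7380 = N5408 := trfs L603846 L67301 rfl
theorem L625330 : sm gh N7380 = N5407 := trfs L603846 (flp_h L67294) rfl
theorem L625341 : sm ga N10686 = N7384 := trfs L603830 L91469 rfl
theorem L625344 : sm gc N10686 = N14284 := trfs L603830 (flp_c L121742) rfl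
theorem L625347 : sm ge N10686 = N7470 := trfs L603830 L91473 rfl
theorem L625350 : sm gj N10686 = N7377 := trfs L603830 (flp_j L91467) rfl
theorem L625353 : sm ga N10685 = N7423 := trfs L603827 L92014 rfl
theorem L625356 : sm gc N10685 = N14336 := trfs L603827 (flp_c L122200) rfl
theorem L625359 : sm gg N10685 = N7470 := trfs L603827 L92020 rfl
theorem L625361 : sm gj N10685 = N7416 := trfs L603827 (flp_j L92012) rfl
theorem L625369 : sm ge N10683 = N14336 := trfs L603821 L175938 rfl
theorem L625372 : sm gg N10683 = N14284 := trfs L603821 L175941 rfl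
theorem L625374 : sm gj N10683 = N14230 := trfs L603821 (flp_j L175931) rfl
theorem L625397 : sm ga N10577 = N7302 := trfs L603795 L90412 rfl
theorem L625400 : sm gc N10577 = N14194 := trfs L603795 (flp_c L120964) rfl
theorem L625403 : sm gf N10577 = N7300 := trfs L603795 (flp_f L90410) rfl
theorem L625411 : sm gc N10620 = N14230 := trfs L603792 (flp_c L121295) rfl
theorem L625414 : sm ge N10620 = N7416 := trfs L603792 L90864 rfl
theorem L625416 : sm gg N10620 = N7330 := trfs L603792 (flp_g L90858) rfl
theorem L625427 : sm gf N10619 = N14230 := trfs L603785 L175451 rfl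
theorem L625429 : sm gg N10619 = N14194 := trfs L603785 (flp_g L175442) rfl
theorem L625437 : sm gg N5492 = N7302 := trfs L603781 (flp_g L90442) rfl
theorem L625445 : sm ga N7301 = N10578 := trfs L603771 L578296 rfl
theorem L625449 : sm gf N7301 = N5491 := trfs L603771 L68298 rfl
theorem L625452 : sm gh N7301 = N5490 := trfs L603771 (flp_h L68293) rfl
theorem L625454 : sm ga N7332 = N10622 := trfs L603768 (flp_a L594043) rfl
theorem L625458 : sm ge N7332 = N5408 := trfs L603768 L67270 rfl
theorem L625460 : sm gg N7332 = N5406 := trfs L603768 L67272 rfl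
theorem L625462 : sm gh N7332 = N5405 := trfs L603768 (flp_h L67266) rfl
theorem L625471 : sm gf N7329 = N10622 := trfs L603758 L130879 rfl
theorem L625473 : sm gg N7329 = N10578 := trfs L603758 (flp_g L130872) rfl
theorem L625487 : sm gf N3740 = N5067 := trfs L603735 L62936 rfl
theorem L625496 : sm gf N7333 = N5405 := trfs L603729 (flp_f L67247) rfl
theorem L625498 : sm gg N7333 = N5490 := trfs L603729 L67254 rfl
theorem L625521 : sm gg N3803 = N5067 := trfs L603698 L62621 rfl
theorem L625531 : sm gf N2998 = N3852 := trfs L603690 (flp_f L48008) rfl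
theorem L625543 : sm gb N5559 = N3852 := trfs L603682 L47994 rfl
theorem L625558 : sm gf N5045 = N3804 := trfs L603679 L47425 rfl
theorem L625561 : sm gh N5045 = N3803 := trfs L603679 (flp_h L47419) rfl
theorem L625565 : sm gd N3851 = N5559 := trfs L603671 L69094 rfl
theorem L625567 : sm gf N3851 = N5558 := trfs L603671 (flp_f L69091) rfl
theorem L625576 : sm gb N3853 = N5558 := trfs L603663 L597677 rfl
theorem L625579 : sm gd N3853 = N2998 := trfs L603663 (flp_d L37241) rfl
theorem L625589 : sm gf N7297 = N5497 := trfs L603660 L68349 rfl
theorem L625639 : sm gg N2957 = N3919 := trfs L603597 L48824 rfl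
theorem L625653 : sm gg N5100 = N3763 := trfs L603586 L46681 rfl
theorem L625655 : sm gj N5100 = N3740 := trfs L603586 (flp_j L46672) rfl
theorem L625668 : sm gh N4236 = N5658 := trfs L603571 (flp_h L70327) rfl
theorem L625669 : N5658 = N5693 := eqes L625668 (flp_h L465057)
theorem L625670 : N5693 = N5658 := (eqc rfl L625669 rfl).symm
theorem L625684 : sm gh N5658 = N4236 := trfs L625670 L465057 rfl
theorem L625689 : sm ge N3742 = N5100 := trfs L603568 L63357 rfl
theorem L625693 : sm gh N3742 = N5098 := trfs L603568 (flp_h L63352) rfl
theorem L625701 : sm gf N2934 = N3879 := trfs L603557 L48360 rfl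
theorem L625703 : sm gj N2934 = N3919 := trfs L603557 L48362 rfl
theorem L625724 : sm gb N3878 = N5595 := trfs L603535 L598016 rfl
theorem L625728 : sm ge N3878 = N2937 := trfs L603535 L36537 rfl
theorem L625730 : sm gg N3878 = N2935 := trfs L603535 L36539 rfl
theorem L625732 : sm gh N3878 = N2934 := trfs L603535 (flp_h L36534) rfl
theorem L625736 : sm gd N3743 = N5124 := trfs L603528 L62921 rfl
theorem L625741 : sm gj N3743 = N5098 := trfs L603528 L62919 rfl
theorem L625754 : sm ge N5593 = N3944 := trfs L603515 L48341 rfl
theorem L625756 : sm gg N5593 = N3877 := trfs L603515 (flp_g L48336) rfl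
theorem L625769 : sm gd N5416 = N7408 := trfs L603506 L90788 rfl
theorem L625785 : sm gj N7369 = N5416 := trfs L603488 L67388 rfl
theorem L625789 : sm gb N5648 = N3921 := trfs L603479 L48794 rfl
theorem L625793 : sm ge N5648 = N3986 := trfs L603479 L48797 rfl
theorem L625796 : sm gj N5648 = N3916 := trfs L603479 (flp_j L48792) rfl
theorem L625801 : sm gd N5449 = N7458 := trfs L603472 L91369 rfl
theorem L625805 : sm gg N5449 = N7369 := trfs L603472 (flp_g L91364) rfl
theorem L625820 : sm gg N3917 = N2961 := trfs L603460 L36562 rfl
theorem L625822 : sm gj N3917 = N2937 := trfs L603460 L36564 rfl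
theorem L625824 : sm gh N3917 = N2936 := trfs L603460 (flp_h L36558) rfl
theorem L625834 : sm gb N3918 = N5651 := trfs L603454 L597925 rfl
theorem L625838 : sm ge N3918 = N2961 := trfs L603454 L36802 rfl
theorem L625841 : sm gj N3918 = N2958 := trfs L603454 L36805 rfl
theorem L625843 : sm gh N3918 = N2957 := trfs L603454 (flp_h L36799) rfl
theorem L625850 : sm gg N3767 = N5098 := trfs L603447 (flp_g L63343) rfl
theorem L625852 : sm gd N5163 = N3767 := trfs L603429 L45638 rfl
theorem L625855 : sm gf N5163 = N3696 := trfs L603429 L45634 rfl
theorem L625857 : sm gj N5163 = N3656 := trfs L603429 L45636 rfl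
theorem L625864 : sm ge N3655 = N5166 := trfs L603412 L64238 rfl
theorem L625866 : sm gg N3655 = N5164 := trfs L603412 L64240 rfl
theorem L625869 : sm gh N3655 = N5163 := trfs L603412 (flp_h L64232) rfl
theorem L625906 : sm ga N5922 = N7639 := trfs L603368 (flp_a L65625) rfl
theorem L625916 : sm gj N5922 = N4097 := trfs L603368 L50991 rfl
theorem L625918 : sm gh N5922 = N4096 := trfs L603368 (flp_h L50987) rfl
theorem L625935 : sm gj N4112 = N5765 := trfs L603350 L71655 rfl
theorem L625943 : sm ge N7640 = N5943 := trfs L603338 L73791 rfl
theorem L625945 : sm gj N7640 = N5941 := trfs L603338 (flp_j L73786) rfl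
theorem L625951 : sm gd N5744 = N3986 := trfs L603331 L49634 rfl
theorem L625956 : sm gj N5744 = N3983 := trfs L603331 (flp_j L49630) rfl
theorem L625972 : sm gj N5294 = N7458 := trfs L603318 (flp_j L92587) rfl
theorem L625982 : sm gj N2850 = N3987 := trfs L603295 (flp_j L49661) rfl
theorem L625987 : sm gb N3949 = N5647 := trfs L603274 (flp_b L597361) rfl
theorem L625990 : sm gd N3949 = N2848 := trfs L603274 (flp_d L35543) rfl
theorem L625997 : sm gi N3949 = N5658 := trfs L603274 L448577 rfl
theorem L626004 : sm gj N3654 = N5125 := trfs L603269 (flp_j L63733) rfl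
theorem L626047 : sm ga N5878 = N7637 := trfs L603219 (flp_a L65609) rfl
theorem L626050 : sm gd N5878 = N4095 := trfs L603219 (flp_d L50975) rfl
theorem L626061 : sm gd N5757 = N4066 := trfs L603213 L50577 rfl
theorem L626065 : sm gg N5757 = N4096 := trfs L603213 L50582 rfl
theorem L626079 : sm gd N4077 = N5763 := trfs L603195 (flp_d L71636) rfl
theorem L626088 : sm gd N3988 = N2824 := trfs L603189 L35240 rfl
theorem L626092 : sm gg N3988 = N2849 := trfs L603189 L35243 rfl
theorem L626096 : sm gd N7638 = N5891 := trfs L603186 L73157 rfl
theorem L626099 : sm gg N7638 = N5943 := trfs L603186 L73160 rfl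
theorem L626106 : sm ge N5888 = N7590 := trfs L603169 L94291 rfl
theorem L626109 : sm gj N5888 = N7638 := trfs L603169 L94294 rfl
theorem L626112 : sm gi N5888 = N7587 := trfs L603169 (flp_i L94287) rfl
theorem L626117 : sm gj N3982 = N5690 := trfs L603162 (flp_j L70726) rfl
theorem L626121 : sm gj N3937 = N5658 := trfs L603156 L69648 rfl
theorem L626123 : sm ge N7409 = N5253 := trfs L603150 L65395 rfl
theorem L626127 : sm gj N7409 = N5292 := trfs L603150 L65398 rfl
theorem L626132 : sm gd N5689 = N3944 := trfs L603141 L49131 rfl
theorem L626144 : sm gb N3946 = N5689 := trfs L603126 L599255 rfl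
theorem L626150 : sm gj N3946 = N2848 := trfs L603126 L35236 rfl
theorem L626154 : sm gb N3945 = N5690 := trfs L603122 (flp_b L598760) rfl
theorem L626157 : sm gd N3945 = N2937 := trfs L603122 L35250 rfl
theorem L626178 : sm gg N2820 = N3947 := trfs L603105 L49190 rfl
theorem L626180 : sm gh N2820 = N3946 := trfs L603105 (flp_h L49185) rfl
theorem L626183 : sm ge N2821 = N3947 := trfs L603101 L49171 rfl
theorem L626186 : sm gj N2821 = N3988 := trfs L603101 L49174 rfl
theorem L626188 : sm gh N2821 = N3945 := trfs L603101 (flp_h L49167) rfl
theorem L626191 : sm ge N2822 = N3946 := trfs L603097 L49165 rfl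
theorem L626193 : sm gg N2822 = N3945 := trfs L603097 (flp_g L49161) rfl
theorem L626197 : sm ge N5126 = N3627 := trfs L603093 L45268 rfl
theorem L626199 : sm gg N5126 = N3626 := trfs L603093 (flp_g L45263) rfl
theorem L626206 : sm gg N4062 = N5698 := trfs L603086 (flp_g L70832) rfl
theorem L626211 : sm ge N4063 = N5698 := trfs L603082 (flp_e L70823) rfl
theorem L626215 : sm gj N4063 = N5757 := trfs L603082 L70829 rfl
theorem L626219 : sm ge N3942 = N5690 := trfs L603078 L70713 rfl
theorem L626221 : sm gg N3942 = N5689 := trfs L603078 (flp_g L70709) rfl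
theorem L626234 : sm ge N7428 = N5234 := trfs L603072 L65154 rfl
theorem L626236 : sm gg N7428 = N5233 := trfs L603072 (flp_g L65149) rfl
theorem L626242 : sm ga N5875 = N7587 := trfs L603062 (flp_a L65160) rfl
theorem L626244 : sm gc N5875 = N4073 := trfs L603062 L599284 rfl
theorem L626246 : sm ge N5875 = N4064 := trfs L603062 L50570 rfl
theorem L626249 : sm gj N5875 = N4095 := trfs L603062 L50573 rfl
theorem L626251 : sm gh N5875 = N4062 := trfs L603062 (flp_h L50568) rfl
theorem L626253 : sm ga N5874 = N7589 := trfs L603059 (flp_a L65180) rfl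
theorem L626255 : sm gc N5874 = N4074 := trfs L603059 (flp_c L598740) rfl
theorem L626259 : sm gg N5874 = N4064 := trfs L603059 L50587 rfl
theorem L626261 : sm gh N5874 = N4063 := trfs L603059 (flp_h L50584) rfl
theorem L626268 : sm ge N5702 = N4074 := trfs L603053 L50713 rfl
theorem L626271 : sm gg N5702 = N4073 := trfs L603053 (flp_g L50708) rfl
theorem L626274 : sm ge N5869 = N7589 := trfs L603047 L94274 rfl
theorem L626277 : sm gg N5869 = N7587 := trfs L603047 L94276 rfl
theorem L626470 : sm ge N3990 = N2849 := trfs L602761 L35535 rfl
theorem L626472 : sm gj N3990 = N2847 := trfs L602761 (flp_j L35532) rfl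
theorem L626475 : sm gd N4051 = N2922 := trfs L602758 L35978 rfl
theorem L626477 : sm gf N4051 = N2887 := trfs L602758 L35980 rfl
theorem L626479 : sm gj N4051 = N2886 := trfs L602758 (flp_j L35976) rfl
theorem L626496 : sm ge N5758 = N4096 := trfs L602738 L50965 rfl
theorem L626500 : sm gd N5846 = N4203 := trfs L602735 L51507 rfl
theorem L626502 : sm gf N5846 = N4143 := trfs L602735 L51509 rfl
theorem L626515 : sm gf N4094 = N5848 := trfs L602717 L71569 rfl
theorem L626517 : sm gj N4094 = N5758 := trfs L602717 (flp_j L71562) rfl
theorem L626521 : sm ge N4142 = N5848 := trfs L602714 L72631 rfl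
theorem L626524 : sm gj N4142 = N5846 := trfs L602714 (flp_j L72625) rfl
theorem L626529 : sm ge N7574 = N5313 := trfs L602708 L65587 rfl
theorem L626531 : sm gf N7574 = N5265 := trfs L602708 (flp_f L65580) rfl
theorem L626536 : sm ga N5924 = N7636 := trfs L602698 (flp_a L65601) rfl
theorem L626538 : sm gc N5924 = N4112 := trfs L602698 (flp_c L599607) rfl
theorem L626540 : sm ge N5924 = N4097 := trfs L602698 L50971 rfl
theorem L626542 : sm gg N5924 = N4095 := trfs L602698 L50973 rfl
theorem L626544 : sm gh N5924 = N4094 := trfs L602698 (flp_h L50969) rfl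
theorem L626547 : sm ga N5992 = N7706 := trfs L602695 (flp_a L66187) rfl
theorem L626549 : sm gc N5992 = N4170 := trfs L602695 (flp_c L589880) rfl
theorem L626551 : sm gf N5992 = N4144 := trfs L602695 L51515 rfl
theorem L626554 : sm gh N5992 = N4142 := trfs L602695 (flp_h L51513) rfl
theorem L626563 : sm ge N5859 = N4170 := trfs L602689 L51164 rfl
theorem L626565 : sm gf N5859 = N4112 := trfs L602689 (flp_f L51159) rfl
theorem L626570 : sm ge N5979 = N7706 := trfs L602685 L94898 rfl
theorem L626572 : sm gf N5979 = N7636 := trfs L602685 L94900 rfl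
theorem L626577 : sm gc N4114 = N5922 := trfs L602675 L600506 rfl
theorem L626579 : sm ge N4114 = N5765 := trfs L602675 L71632 rfl
theorem L626581 : sm gg N4114 = N5763 := trfs L602675 L71634 rfl
theorem L626584 : sm gc N4171 = N5991 := trfs L602672 L600264 rfl
theorem L626586 : sm gf N4171 = N5856 := trfs L602672 L72737 rfl
theorem L626593 : sm ge N4147 = N5991 := trfs L602666 L73554 rfl
theorem L626595 : sm gf N4147 = N5922 := trfs L602666 (flp_f L73547) rfl
theorem L626602 : sm gb N5746 = N3987 := trfs L602654 L49619 rfl
theorem L626605 : sm ge N5746 = N3983 := trfs L602654 L49621 rfl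
theorem L626607 : sm gg N5746 = N3982 := trfs L602654 (flp_g L49617) rfl
theorem L626610 : sm gb N5827 = N4049 := trfs L602651 L50348 rfl
theorem L626613 : sm gf N5827 = N4044 := trfs L602651 (flp_f L50346) rfl
theorem L626620 : sm ge N2890 = N4049 := trfs L602644 L49658 rfl
theorem L626622 : sm gf N2890 = N3987 := trfs L602644 (flp_f L49654) rfl
theorem L626628 : sm ge N4054 = N2886 := trfs L602637 L35529 rfl
theorem L626630 : sm gf N4054 = N2847 := trfs L602637 (flp_f L35526) rfl
theorem L626634 : sm gb N3989 = N5744 := trfs L602632 (flp_b L599586) rfl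
theorem L626637 : sm ge N3989 = N2850 := trfs L602632 L35539 rfl
theorem L626639 : sm gg N3989 = N2848 := trfs L602632 L35541 rfl
theorem L626641 : sm gh N3989 = N2847 := trfs L602632 (flp_h L35537) rfl
theorem L626643 : sm gb N4050 = N5826 := trfs L602629 (flp_b L589903) rfl
theorem L626646 : sm gf N4050 = N2888 := trfs L602629 L35984 rfl
theorem L626649 : sm gh N4050 = N2886 := trfs L602629 (flp_h L35982) rfl
theorem L626653 : sm ge N4046 = N5826 := trfs L602623 L71396 rfl
theorem L626655 : sm gf N4046 = N5744 := trfs L602623 (flp_f L71390) rfl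
theorem L626747 : sm ge N7460 = N5294 := trfs L602487 L65903 rfl
theorem L626749 : sm gg N7460 = N5292 := trfs L602487 L65905 rfl
theorem L626753 : sm gg N7457 = N10698 := trfs L602481 (flp_g L132503) rfl
theorem L626756 : sm gg N3975 = N5658 := trfs L602478 (flp_g L70319) rfl
theorem L626763 : sm ge N5165 = N3656 := trfs L602466 L45611 rfl
theorem L626765 : sm gg N5165 = N3654 := trfs L602466 L45613 rfl
theorem L626768 : sm gh N5165 = N3653 := trfs L602466 (flp_h L45607) rfl
theorem L626790 : sm ge N5099 = N3767 := trfs L602424 L46970 rfl
theorem L626793 : sm gj N5099 = N3764 := trfs L602424 L46973 rfl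
theorem L626795 : sm gh N5099 = N3763 := trfs L602424 (flp_h L46965) rfl
theorem L626803 : sm ge N7370 = N5449 := trfs L602407 L67746 rfl
theorem L626806 : sm gj N7370 = N5446 := trfs L602407 L67749 rfl
theorem L626829 : sm ge N6110 = N7890 := trfs L602358 L95396 rfl
theorem L626835 : sm ge N10700 = N7817 := trfs L602352 L97068 rfl
theorem L626837 : sm gg N10700 = N7858 := trfs L602352 L97071 rfl
theorem L626839 : sm gj N10700 = N7815 := trfs L602352 (flp_j L97061) rfl
theorem L626843 : sm gd N7373 = N5446 := trfs L602343 L67765 rfl
theorem L626846 : sm gg N7373 = N5448 := trfs L602343 L67768 rfl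
theorem L626852 : sm ga N7412 = N5658 := trfs L602337 L597397 rfl
theorem L626854 : sm gb N7412 = N10698 := trfs L602337 L597399 rfl
theorem L626856 : sm gd N7412 = N5292 := trfs L602337 L65919 rfl
theorem L626858 : sm ge N7412 = N5448 := trfs L602337 L65921 rfl
theorem L626865 : sm gg N7375 = N10689 := trfs L602329 L131512 rfl
theorem L626867 : sm gj N7375 = N10622 := trfs L602329 (flp_j L131504) rfl
theorem L626870 : sm gd N5102 = N3764 := trfs L602319 (flp_d L46975) rfl
theorem L626873 : sm gg N5102 = N3765 := trfs L602319 L46980 rfl
theorem L626882 : sm gd N5128 = N3654 := trfs L602313 (flp_d L45615) rfl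
theorem L626884 : sm ge N5128 = N3765 := trfs L602313 L45620 rfl
theorem L626891 : sm ge N5440 = N7423 := trfs L602305 L90918 rfl
theorem L626893 : sm gg N5440 = N7384 := trfs L602305 L90921 rfl
theorem L626902 : sm gf N3805 = N5068 := trfs L602296 L62633 rfl
theorem L626904 : sm gg N3805 = N5046 := trfs L602296 (flp_g L62625) rfl
theorem L626911 : sm gd N3741 = N5068 := trfs L602290 L62929 rfl
theorem L626921 : sm ga N7334 = N10620 := trfs L602284 L578161 rfl
theorem L626923 : sm gd N7334 = N5406 := trfs L602284 (flp_d L67274) rfl
theorem L626925 : sm gf N7334 = N5492 := trfs L602284 L67278 rfl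
theorem L626928 : sm gj N7334 = N5440 := trfs L602284 L67280 rfl
theorem L626931 : sm gb N3880 = N5593 := trfs L602281 L598027 rfl
theorem L626934 : sm gd N3880 = N2935 := trfs L602281 (flp_d L36541) rfl
theorem L626945 : sm ge N5066 = N3743 := trfs L602269 L46688 rfl
theorem L626947 : sm gg N5066 = N3741 := trfs L602269 L46690 rfl
theorem L626949 : sm gh N5066 = N3740 := trfs L602269 (flp_h L46683) rfl
theorem L626954 : sm gd N7327 = N5414 := trfs L602257 L67374 rfl
theorem L626956 : sm gf N7327 = N5499 := trfs L602257 L67376 rfl
theorem L626958 : sm gj N7327 = N5448 := trfs L602257 L67378 rfl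
theorem L626963 : sm ge N7325 = N5416 := trfs L602250 L67355 rfl
theorem L626965 : sm gg N7325 = N5414 := trfs L602250 L67357 rfl
theorem L626970 : sm gf N6108 = N7959 := trfs L602237 L97416 rfl
theorem L626972 : sm gj N6108 = N7890 := trfs L602237 L97418 rfl
theorem L627099 : sm gj N11647 = N8195 := trfs L602015 L100597 rfl
theorem L627103 : sm gc N5601 = N8039 := trfs L602012 L597780 rfl
theorem L627107 : sm gf N5601 = N4234 := trfs L602012 (flp_f L52524) rfl
theorem L627109 : sm gg N5601 = N4319 := trfs L602012 L52531 rfl
theorem L627113 : sm gc N10575 = N7959 := trfs L602008 L98758 rfl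
theorem L627116 : sm gj N10575 = N7993 := trfs L602008 L98761 rfl
theorem L627126 : sm gc N3876 = N5560 := trfs L601994 L69108 rfl
theorem L627129 : sm gf N3876 = N5595 := trfs L601994 L69113 rfl
theorem L627131 : sm gg N3876 = N5559 := trfs L601994 (flp_g L69106) rfl
theorem L627134 : sm gc N7299 = N5499 := trfs L601990 L68384 rfl
theorem L627138 : sm gj N7299 = N5523 := trfs L601990 L68388 rfl
theorem L627147 : sm gc N2999 = N3854 := trfs L601975 L48024 rfl
theorem L627150 : sm gf N2999 = N3880 := trfs L601975 L48028 rfl
theorem L627152 : sm gg N2999 = N3853 := trfs L601975 (flp_g L48022) rfl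
theorem L627156 : sm gc N5047 = N3805 := trfs L601971 (flp_c L47448) rfl
theorem L627172 : sm gj N3824 = N5047 := trfs L601954 (flp_j L62635) rfl
theorem L627179 : sm gc N2959 = N3881 := trfs L601941 L48374 rfl
theorem L627181 : sm ge N2959 = N3949 := trfs L601941 L48376 rfl
theorem L627183 : sm gg N2959 = N3921 := trfs L601941 L48379 rfl
theorem L627185 : sm gj N2959 = N3880 := trfs L601941 (flp_j L48372) rfl
theorem L627189 : sm gc N5069 = N3765 := trfs L601937 (flp_c L46994) rfl
theorem L627192 : sm gf N5069 = N3824 := trfs L601937 L46998 rfl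
theorem L627199 : sm gf N3913 = N5596 := trfs L601929 L69120 rfl
theorem L627202 : sm gj N3913 = N5560 := trfs L601929 (flp_j L69115) rfl
theorem L627206 : sm gc N3938 = N5658 := trfs L601926 L70289 rfl
theorem L627210 : sm gc N3914 = N5596 := trfs L601922 L69588 rfl
theorem L627212 : sm gg N3914 = N5651 := trfs L601922 L69594 rfl
theorem L627214 : sm gj N3914 = N5595 := trfs L601922 (flp_j L69586) rfl
theorem L627217 : sm gc N7328 = N5448 := trfs L601918 L67780 rfl
theorem L627220 : sm gf N7328 = N5523 := trfs L601918 L67783 rfl
theorem L627225 : sm gf N5657 = N8090 := trfs L601910 L99701 rfl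
theorem L627228 : sm gj N5657 = N8039 := trfs L601910 (flp_j L99697) rfl
theorem L627239 : sm gf N11720 = N8195 := trfs L601904 L101599 rfl
theorem L627244 : sm gc N5660 = N8090 := trfs L601901 L597811 rfl
theorem L627247 : sm ge N5660 = N4236 := trfs L601901 L52538 rfl
theorem L627251 : sm gj N5660 = N4234 := trfs L601901 (flp_j L52533) rfl
theorem L627254 : sm gc N10616 = N7890 := trfs L601897 L97953 rfl
theorem L627256 : sm gf N10616 = N7993 := trfs L601897 L97955 rfl
theorem L627273 : sm gg N4267 = N5660 := trfs L601882 L70346 rfl
theorem L627509 : N28522 = N31846 := coi_56_19 L269824 L269822 L185924 L185921 (flp_e L180619) (flp_d L180613) (flp_c L180501) (flp_b L257587) (flp_a L621535) (flp_h L373992) (flp_f L353978) L353984 (flp_d L353974) L243650 L167971 L115963 L168029 L168036 L122097 (flp_d L121953) L121948 L592696 L88191 (flp_h L61073) (flp_f L42326) L29414 L29420 (flp_c L22529) L15720 L11006 L12357 (flp_f L17722) (flp_e L25403) (flp_d L626934) L33647 L23460 (flp_a L30367) L30372 (flp_f L43452) L43450 L43449 L627156 (flp_b L47394) (flp_a L578240) L400336 L90754 L625414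 L607459 (flp_c L133092) L133090 (flp_a L136405) L622564 L94177 L622524 (flp_d L177190) L177189 L177187 L122144 L122223 L122229 (flp_e L116067) L168177 (flp_c L241512)
theorem L627510 : N31846 = N28522 := (eqc rfl L627509 rfl).symm
theorem L627511 : sm ga N28522 = N21887 := trfs L627510 L269822 rfl
theorem L627512 : N21887 = N41521 := eqes L627511 (flp_a L350670)
theorem L627513 : N41521 = N21887 := (eqc rfl L627512 rfl).symm
theorem L627515 : sm gd N28522 = N21855 := trfs L627510 (flp_d L269820) rfl
theorem L627516 : N21855 = N19616 := eqes L627515 (flp_d L241506)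
theorem L627517 : N21855 = N19616 := eqc rfl L627516 rfl
theorem L627518 : sm gf N28522 = N21857 := trfs L627510 L269825 rfl
theorem L627519 : N21857 = N41533 := eqes L627518 (flp_f L350787)
theorem L627520 : N41533 = N21857 := (eqc rfl L627519 rfl).symm
theorem L627524 : sm gc N21857 = N28798 := trfs L627520 L350791 rfl
theorem L627525 : N28798 = N31850 := eqes L627524 L269861
theorem L627526 : N31850 = N28798 := (eqc rfl L627525 rfl).symm
theorem L627527 : sm gd N21857 = N28521 := trfs L627520 (flp_d L350784) rfl
theorem L627528 : N28521 = N15015 := eqes L627527 (flp_d L185653)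
theorem L627529 : N28521 = N15015 := eqc rfl L627528 rfl
theorem L627530 : sm gf N21857 = N28522 := trfs L627520 L350787 rfl
theorem L627532 : sm gj N21857 = N28553 := trfs L627520 L350789 rfl
theorem L627533 : N28553 = N31848 := eqes L627532 (flp_j L269846)
theorem L627534 : N31848 = N28553 := (eqc rfl L627533 rfl).symm
theorem L627536 : sm ga N28553 = N21889 := trfs L627534 L269841 rfl
theorem L627537 : N21889 = N41562 := eqes L627536 (flp_a L351052)
theorem L627538 : N41562 = N21889 := (eqc rfl L627537 rfl).symm
theorem L627540 : sm gd N28553 = N21856 := trfs L627534 (flp_d L269839) rfl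
theorem L627541 : N21856 = N19637 := eqes L627540 (flp_d L241783)
theorem L627542 : N21856 = N19637 := eqc rfl L627541 rfl
theorem L627543 : sm ge N28553 = N45092 := trfs L627534 (flp_e L381565) rfl
theorem L627544 : N45092 = N41583 := eqes L627543 L351234
theorem L627545 : N45092 = N41583 := eqc rfl L627544 rfl
theorem L627546 : sm gg N28553 = N21956 := trfs L627534 L269844 rfl
theorem L627547 : N21956 = N41581 := eqes L627546 (flp_g L351219)
theorem L627548 : N41581 = N21956 := (eqc rfl L627547 rfl).symm
theorem L627549 : sm gj N28553 = N21857 := trfs L627534 L269846 rfl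
theorem L627553 : sm gc N21956 = N28882 := trfs L627548 L351221 rfl
theorem L627554 : N28882 = N31997 := eqes L627553 L271120
theorem L627555 : N31997 = N28882 := (eqc rfl L627554 rfl).symm
theorem L627556 : sm gd N21956 = N28552 := trfs L627548 (flp_d L351214) rfl
theorem L627557 : N28552 = N15081 := eqes L627556 (flp_d L186521)
theorem L627558 : N28552 = N15081 := eqc rfl L627557 rfl
theorem L627559 : sm gf N21956 = N28601 := trfs L627548 L351217 rfl
theorem L627560 : N28601 = N31992 := eqes L627559 (flp_f L271076)
theorem L627561 : N31992 = N28601 := (eqc rfl L627560 rfl).symm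
theorem L627562 : sm gg N21956 = N28553 := trfs L627548 L351219 rfl
theorem L627565 : sm ga N28601 = N21999 := trfs L627561 L271073 rfl
theorem L627566 : N21999 = N41625 := eqes L627565 (flp_a L351593)
theorem L627567 : N41625 = N21999 := (eqc rfl L627566 rfl).symm
theorem L627569 : sm gd N28601 = N21953 := trfs L627561 (flp_d L271071) rfl
theorem L627570 : N21953 = N19668 := eqes L627569 (flp_d L242199)
theorem L627571 : N21953 = N19668 := eqc rfl L627570 rfl
theorem L627572 : sm gf N28601 = N21956 := trfs L627561 L271076 rfl
theorem L627574 : sm gj N28601 = N21954 := trfs L627561 L271078 rfl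
theorem L627575 : N21954 = N41653 := eqes L627574 (flp_j L351837)
theorem L627576 : N41653 = N21954 := (eqc rfl L627575 rfl).symm
theorem L627579 : sm gc N21954 = N29009 := trfs L627576 L351839 rfl
theorem L627580 : N29009 = N31994 := eqes L627579 L271093
theorem L627581 : N31994 = N29009 := (eqc rfl L627580 rfl).symm
theorem L627582 : sm gd N21954 = N28600 := trfs L627576 (flp_d L351833) rfl
theorem L627583 : N28600 = N15080 := eqes L627582 (flp_d L186501)
theorem L627584 : N28600 = N15080 := eqc rfl L627583 rfl
theorem L627586 : sm gj N21954 = N28601 := trfs L627576 L351837 rfl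
theorem L627593 : sm gc N15080 = N19678 := trfs L627584 L242194 rfl
theorem L627594 : N19678 = N21935 := eqes L627593 (flp_c L186338)
theorem L627595 : N21935 = N19678 := (eqc rfl L627594 rfl).symm
theorem L627605 : sm gh N15080 = N19667 := trfs L627584 (flp_h L242191) rfl
theorem L627606 : N19667 = N10372 := eqes L627605 (flp_h L128436)
theorem L627607 : N19667 = N10372 := eqc rfl L627606 rfl
theorem L627608 : sm gi N15080 = N41654 := trfs L627584 L351842 rfl
theorem L627609 : N41654 = N21955 := eqes L627608 L186510
theorem L627610 : N41654 = N21955 := eqc rfl L627609 rfl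
theorem L627612 : sm gc N21955 = N28615 := trfs L627610 L351845 rfl
theorem L627613 : N28615 = N31967 := eqes L627612 (flp_c L270866)
theorem L627614 : N31967 = N28615 := (eqc rfl L627613 rfl).symm
theorem L627616 : sm gj N21955 = N28602 := trfs L627610 L351848 rfl
theorem L627617 : N28602 = N31993 := eqes L627616 (flp_j L271090)
theorem L627618 : N31993 = N28602 := (eqc rfl L627617 rfl).symm
theorem L627620 : sm ga N28602 = N22000 := trfs L627618 L271083 rfl
theorem L627621 : N22000 = N41626 := eqes L627620 (flp_a L351602)
theorem L627622 : N41626 = N22000 := (eqc rfl L627621 rfl).symm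
theorem L627624 : sm ge N28602 = N22085 := trfs L627618 L271086 rfl
theorem L627625 : N22085 = N41649 := eqes L627624 (flp_e L351809)
theorem L627626 : N41649 = N22085 := (eqc rfl L627625 rfl).symm
theorem L627627 : sm gf N28602 = N21957 := trfs L627618 L271088 rfl
theorem L627628 : N21957 = N41582 := eqes L627627 (flp_f L351229)
theorem L627629 : N41582 = N21957 := (eqc rfl L627628 rfl).symm
theorem L627630 : sm gj N28602 = N21955 := trfs L627618 L271090 rfl
theorem L627635 : sm gc N21957 = N28563 := trfs L627629 L351227 rfl
theorem L627636 : N28563 = N31969 := eqes L627635 (flp_c L270884)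
theorem L627637 : N31969 = N28563 := (eqc rfl L627636 rfl).symm
theorem L627638 : sm gf N21957 = N28602 := trfs L627629 L351229 rfl
theorem L627640 : sm gg N21957 = N28554 := trfs L627629 L351231 rfl
theorem L627641 : N28554 = N31849 := eqes L627640 (flp_g L269856)
theorem L627642 : N31849 = N28554 := (eqc rfl L627641 rfl).symm
theorem L627645 : sm ga N28554 = N21890 := trfs L627642 L269851 rfl
theorem L627646 : N21890 = N41563 := eqes L627645 (flp_a L351061)
theorem L627647 : N41563 = N21890 := (eqc rfl L627646 rfl).symm
theorem L627649 : sm ge N28554 = N21861 := trfs L627642 L269854 rfl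
theorem L627650 : N21861 = N41579 := eqes L627649 (flp_e L351201)
theorem L627651 : N41579 = N21861 := (eqc rfl L627650 rfl).symm
theorem L627652 : sm gg N28554 = N21957 := trfs L627642 L269856 rfl
theorem L627654 : sm gj N28554 = N21858 := trfs L627642 L269858 rfl
theorem L627655 : N21858 = N41534 := eqes L627654 (flp_j L350801)
theorem L627656 : N41534 = N21858 := (eqc rfl L627655 rfl).symm
theorem L627660 : sm gc N21858 = N28528 := trfs L627656 L350797 rfl
theorem L627661 : N28528 = N31830 := eqes L627660 (flp_c L269669)
theorem L627662 : N31830 = N28528 := (eqc rfl L627661 rfl).symm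
theorem L627663 : sm gf N21858 = N28523 := trfs L627656 L350799 rfl
theorem L627664 : N28523 = N31847 := eqes L627663 (flp_f L269835)
theorem L627665 : N31847 = N28523 := (eqc rfl L627664 rfl).symm
theorem L627666 : sm gj N21858 = N28554 := trfs L627656 L350801 rfl
theorem L627670 : sm ga N28523 = N21888 := trfs L627665 L269831 rfl
theorem L627671 : N21888 = N41522 := eqes L627670 (flp_a L350680)
theorem L627672 : N41522 = N21888 := (eqc rfl L627671 rfl).symm
theorem L627675 : sm gf N28523 = N21858 := trfs L627665 L269835 rfl
theorem L627680 : sm ga N21888 = N28523 := trfs L627672 L350680 rfl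
theorem L627682 : sm gc N21888 = N28517 := trfs L627672 L350682 rfl
theorem L627683 : N28517 = N31867 := eqes L627682 (flp_c L270008)
theorem L627684 : N31867 = N28517 := (eqc rfl L627683 rfl).symm
theorem L627687 : sm gj N21888 = N28542 := trfs L627672 L350686 rfl
theorem L627688 : N28542 = N31893 := eqes L627687 (flp_j L270228)
theorem L627689 : N31893 = N28542 := (eqc rfl L627688 rfl).symm
theorem L627691 : sm gi N21888 = N28513 := trfs L627672 (flp_i L350678) rfl
theorem L627692 : N28513 = N15036 := eqes L627691 (flp_i L185925)
theorem L627693 : N28513 = N15036 := eqc rfl L627692 rfl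
theorem L627699 : sm gc N15036 = N19613 := trfs L627693 L241421 rfl
theorem L627700 : N19613 = N21868 := eqes L627699 (flp_c L185757)
theorem L627701 : N21868 = N19613 := (eqc rfl L627700 rfl).symm
theorem L627708 : sm gj N15036 = N19629 := trfs L627693 L241425 rfl
theorem L627709 : N19629 = N21886 := eqes L627708 (flp_j L185915)
theorem L627710 : N21886 = N19629 := (eqc rfl L627709 rfl).symm
theorem L627711 : sm gh N15036 = N19611 := trfs L627693 (flp_h L241417) rfl
theorem L627712 : N19611 = N10343 := eqes L627711 (flp_h L128049)
theorem L627713 : N19611 = N10343 := eqc rfl L627712 rfl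
theorem L627714 : sm ga N10343 = N13505 := trfs L627713 L166477 rfl
theorem L627715 : N13505 = N15013 := eqes L627714 (flp_a L127843)
theorem L627716 : N15013 = N13505 := (eqc rfl L627715 rfl).symm
theorem L627720 : sm gc N10343 = N13503 := trfs L627713 (flp_c L166475) rfl
theorem L627721 : N13503 = N15022 := eqes L627720 (flp_c L127930)
theorem L627722 : N15022 = N13503 := (eqc rfl L627721 rfl).symm
theorem L627729 : sm gj N10343 = N13514 := trfs L627713 L166481 rfl
theorem L627730 : N13514 = N15035 := eqes L627729 L128040
theorem L627731 : N15035 = N13514 := (eqc rfl L627730 rfl).symm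
theorem L627736 : sm gb N13514 = N10350 := trfs L627731 L128042 rfl
theorem L627737 : N10350 = N19627 := eqes L627736 L166628
theorem L627738 : N19627 = N10350 := (eqc rfl L627737 rfl).symm
theorem L627744 : sm gf N13514 = N10344 := trfs L627731 L128046 rfl
theorem L627745 : N10344 = N19628 := eqes L627744 L166637
theorem L627746 : N19628 = N10344 := (eqc rfl L627745 rfl).symm
theorem L627747 : sm gg N13514 = N21885 := trfs L627731 L185898 rfl
theorem L627748 : N21885 = N9336 := eqes L627747 L115051
theorem L627749 : N21885 = N9336 := eqc rfl L627748 rfl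
theorem L627750 : sm gj N13514 = N10343 := trfs L627731 (flp_j L128040) rfl
theorem L627757 : sm gb N9336 = N15043 := trfs L627749 L185900 rfl
theorem L627758 : N15043 = N13530 := eqes L627757 L115184
theorem L627759 : N15043 = N13530 := eqc rfl L627758 rfl
theorem L627765 : sm gf N9336 = N15110 := trfs L627749 L185905 rfl
theorem L627766 : N15110 = N13531 := eqes L627765 L115192
theorem L627767 : N15110 = N13531 := eqc rfl L627766 rfl
theorem L627769 : sm gh N9336 = N31891 := trfs L627749 L270202 rfl
theorem L627770 : N31891 = N13532 := eqes L627769 L115201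
theorem L627771 : N31891 = N13532 := eqc rfl L627770 rfl
theorem L627773 : sm gb N13532 = N21896 := trfs L627771 L270204 rfl
theorem L627774 : N21896 = N19653 := eqes L627773 (flp_b L166854)
theorem L627775 : N21896 = N19653 := eqc rfl L627774 rfl
theorem L627777 : sm gf N13532 = N21998 := trfs L627771 L270207 rfl
theorem L627778 : N21998 = N19656 := eqes L627777 (flp_f L166882)
theorem L627779 : N21998 = N19656 := eqc rfl L627778 rfl
theorem L627785 : sm gb N19656 = N15121 := trfs L627779 L186838 rfl
theorem L627786 : N15121 = N15296 := eqes L627785 (flp_b L549015)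
theorem L627787 : N15296 = N15121 := (eqc rfl L627786 rfl).symm
theorem L627794 : sm ge N19656 = N15207 := trfs L627779 L186840 rfl
theorem L627795 : N15207 = N15295 := eqes L627794 (flp_e L549067)
theorem L627796 : N15295 = N15207 := (eqc rfl L627795 rfl).symm
theorem L627797 : sm gg N19656 = N15111 := trfs L627779 L186842 rfl
theorem L627798 : N15111 = N28581 := eqes L627797 (flp_g L242029)
theorem L627799 : N28581 = N15111 := (eqc rfl L627798 rfl).symm
theorem L627802 : sm gi N19656 = N32059 := trfs L627779 L271581 rfl
theorem L627803 : N32059 = N28583 := eqes L627802 L242041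
theorem L627804 : N32059 = N28583 := eqc rfl L627803 rfl
theorem L627805 : sm gb N28583 = N22013 := trfs L627804 L271583 rfl
theorem L627806 : N22013 = N22177 := eqes L627805 (flp_b L549029)
theorem L627807 : N22177 = N22013 := (eqc rfl L627806 rfl).symm
theorem L627808 : sm ge N28583 = N22136 := trfs L627804 L271585 rfl
theorem L627809 : N22136 = N22176 := eqes L627808 L547636
theorem L627810 : N22176 = N22136 := (eqc rfl L627809 rfl).symm
theorem L627815 : sm ga N22136 = N28599 := trfs L627810 (flp_a L549036) rfl
theorem L627816 : N28599 = N32181 := eqes L627815 (flp_a L272617)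
theorem L627817 : N32181 = N28599 := (eqc rfl L627816 rfl).symm
theorem L627818 : sm gb N22136 = N15239 := trfs L627810 L188314 rfl
theorem L627819 : N15239 = N15222 := eqes L627818 L187976
theorem L627820 : N15239 = N15222 := eqc rfl L627819 rfl
theorem L627821 : sm gc N22136 = N28590 := trfs L627810 L547622 rfl
theorem L627822 : N28590 = N32200 := eqes L627821 (flp_c L272792)
theorem L627823 : N32200 = N28590 := (eqc rfl L627822 rfl).symm
theorem L627824 : sm gd N22136 = N15238 := trfs L627810 (flp_d L188312) rfl
theorem L627825 : N15238 = N32256 := eqes L627824 (flp_d L273233)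
theorem L627826 : N32256 = N15238 := (eqc rfl L627825 rfl).symm
theorem L627827 : sm ge N22136 = N28583 := trfs L627810 (flp_e L547636) rfl
theorem L627830 : sm gg N22136 = N32305 := trfs L627810 (flp_g L273652) rfl
theorem L627831 : N32305 = N15209 := eqes L627830 L187979
theorem L627832 : N32305 = N15209 := eqc rfl L627831 rfl
theorem L627839 : sm gd N15209 = N22173 := trfs L627832 (flp_d L273648) rfl
theorem L627840 : N22173 = N22139 := eqes L627839 (flp_d L188003)
theorem L627841 : N22173 = N22139 := eqc rfl L627840 rfl
theorem L627843 : sm gi N15209 = N22248 := trfs L627832 L273654 rfl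
theorem L627844 : N22248 = N10462 := eqes L627843 (flp_i L129493)
theorem L627845 : N22248 = N10462 := eqc rfl L627844 rfl
theorem L627846 : sm ga N10462 = N28597 := trfs L627845 L547996 rfl
theorem L627847 : N28597 = N15170 := eqes L627846 (flp_a L129179)
theorem L627848 : N28597 = N15170 := eqc rfl L627847 rfl
theorem L627852 : sm gc N10462 = N28588 := trfs L627845 (flp_c L549053) rfl
theorem L627853 : N28588 = N15181 := eqes L627852 (flp_c L129280)
theorem L627854 : N28588 = N15181 := eqc rfl L627853 rfl
theorem L627855 : sm gd N10462 = N15292 := trfs L627845 (flp_d L188898) rfl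
theorem L627856 : N15292 = N15208 := eqes L627855 L129483
theorem L627857 : N15292 = N15208 := eqc rfl L627856 rfl
theorem L627866 : sm gh N10462 = N15324 := trfs L627845 L188904 rfl
theorem L627867 : N15324 = N7209 := eqes L627866 (flp_h L89350)
theorem L627868 : N15324 = N7209 := eqc rfl L627867 rfl
theorem L627869 : sm ga N7209 = N19665 := trfs L627868 L548947 rfl
theorem L627870 : N19665 = N10435 := eqes L627869 (flp_a L89131)
theorem L627871 : N19665 = N10435 := eqc rfl L627870 rfl
theorem L627875 : sm gc N7209 = N19659 := trfs L627868 L548949 rfl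
theorem L627876 : N19659 = N10443 := eqes L627875 (flp_c L89205)
theorem L627877 : N19659 = N10443 := eqc rfl L627876 rfl
theorem L627881 : sm ge N7209 = N19655 := trfs L627868 L548951 rfl
theorem L627882 : N19655 = N10394 := eqes L627881 (flp_e L88792)
theorem L627883 : N19655 = N10394 := eqc rfl L627882 rfl
theorem L627887 : sm gg N7209 = N10552 := trfs L627868 L130451 rfl
theorem L627888 : N10552 = N10461 := eqes L627887 L89341
theorem L627889 : N10552 = N10461 := eqc rfl L627888 rfl
theorem L627890 : sm gj N7209 = N22287 := trfs L627868 (flp_j L189237) rfl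
theorem L627891 : N22287 = N4975 := eqes L627890 (flp_j L61784)
theorem L627892 : N22287 = N4975 := eqc rfl L627891 rfl
theorem L627909 : sm gf N4975 = N32433 := trfs L627892 (flp_f L274717) rfl
theorem L627910 : N32433 = N3439 := eqes L627909 (flp_f L42810)
theorem L627911 : N32433 = N3439 := eqc rfl L627910 rfl
theorem L627918 : sm gd N3439 = N22267 := trfs L627911 (flp_d L274713) rfl
theorem L627919 : N22267 = N2395 := eqes L627918 L29739
theorem L627920 : N22267 = N2395 := eqc rfl L627919 rfl
theorem L627940 : sm gh N2395 = N15305 := trfs L627920 (flp_h L189065) rfl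
theorem L627941 : N15305 = N3458 := eqes L627940 L29896
theorem L627942 : N15305 = N3458 := eqc rfl L627941 rfl
theorem L627966 : sm gi N3458 = N10533 := trfs L627942 (flp_i L130279) rfl
theorem L627967 : N10533 = N5001 := eqes L627966 L43032
theorem L627968 : N10533 = N5001 := eqc rfl L627967 rfl
theorem L627982 : sm gf N5001 = N7271 := trfs L627968 L89928 rfl
theorem L627983 : N7271 = N7239 := eqes L627982 (flp_f L62045)
theorem L627984 : N7271 = N7239 := eqc rfl L627983 rfl
theorem L627988 : sm gj N5001 = N7266 := trfs L627968 L89930 rfl
theorem L627989 : N7266 = N7241 := eqes L627988 (flp_j L62064)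
theorem L627990 : N7266 = N7241 := eqc rfl L627989 rfl
theorem L627992 : sm ga N7241 = N10538 := trfs L627990 L89972 rfl
theorem L627993 : N10538 = N10491 := eqes L627992 (flp_a L89594)
theorem L627994 : N10538 = N10491 := eqc rfl L627993 rfl
theorem L627995 : sm gb N7241 = N5019 := trfs L627990 (flp_b L62255) rfl
theorem L627996 : N5019 = N5010 := eqes L627995 L62058
theorem L627997 : N5019 = N5010 := eqc rfl L627996 rfl
theorem L627999 : sm gd N7241 = N10516 := trfs L627990 (flp_d L89795) rfl
theorem L628000 : N10516 = N10504 := eqes L627999 (flp_d L89703)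
theorem L628001 : N10516 = N10504 := eqc rfl L628000 rfl
theorem L628005 : sm gf N7241 = N5024 := trfs L627990 L62257 rfl
theorem L628006 : N5024 = N10499 := eqes L628005 (flp_f L89667)
theorem L628007 : N10499 = N5024 := (eqc rfl L628006 rfl).symm
theorem L628011 : sm ga N5024 = N15242 := trfs L628007 (flp_a L129769) rfl
theorem L628012 : N15242 = N7274 := eqes L628011 L62323
theorem L628013 : N15242 = N7274 := eqc rfl L628012 rfl
theorem L628014 : sm gb N5024 = N7249 := trfs L628007 L89663 rfl
theorem L628015 : N7249 = N3477 := eqes L628014 (flp_b L43222)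
theorem L628016 : N7249 = N3477 := eqc rfl L628015 rfl
theorem L628018 : sm gd N5024 = N15258 := trfs L628007 (flp_d L129906) rfl
theorem L628019 : N15258 = N7255 := eqes L628018 (flp_d L62168)
theorem L628020 : N15258 = N7255 := eqc rfl L628019 rfl
theorem L628022 : sm gf N5024 = N7241 := trfs L628007 L89667 rfl
theorem L628030 : sm gi N5024 = N7237 := trfs L628007 (flp_i L89661) rfl
theorem L628031 : N7237 = N7275 := eqes L628030 L62331
theorem L628032 : N7275 = N7237 := (eqc rfl L628031 rfl).symm
theorem L628033 : sm ga N7237 = N10548 := trfs L628032 (flp_a L90059) rfl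
theorem L628034 : N10548 = N10487 := eqes L628033 (flp_a L89556)
theorem L628035 : N10548 = N10487 := eqc rfl L628034 rfl
theorem L628036 : sm gb N7237 = N5025 := trfs L628032 L62333 rfl
theorem L628037 : N5025 = N5006 := eqes L628036 L62024
theorem L628038 : N5025 = N5006 := eqc rfl L628037 rfl
theorem L628040 : sm gd N7237 = N10525 := trfs L628032 (flp_d L89865) rfl
theorem L628041 : N10525 = N10498 := eqes L628040 L89653
theorem L628042 : N10525 = N10498 := eqc rfl L628041 rfl
theorem L628045 : sm gg N7237 = N5028 := trfs L628032 L62337 rfl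
theorem L628046 : N5028 = N10497 := eqes L628045 (flp_g L89650)
theorem L628047 : N10497 = N5028 := (eqc rfl L628046 rfl).symm
theorem L628050 : sm gi N7237 = N5024 := trfs L628032 (flp_i L62331) rfl
theorem L628052 : sm ga N5028 = N15240 := trfs L628047 (flp_a L129749) rfl
theorem L628053 : N15240 = N7277 := eqes L628052 (flp_a L62350)
theorem L628054 : N15240 = N7277 := eqc rfl L628053 rfl
theorem L628055 : sm gb N5028 = N7247 := trfs L628047 L89645 rfl
theorem L628056 : N7247 = N3480 := eqes L628055 L43256
theorem L628057 : N7247 = N3480 := eqc rfl L628056 rfl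
theorem L628064 : sm gg N5028 = N7237 := trfs L628047 L89650 rfl
theorem L628067 : sm gh N5028 = N7236 := trfs L628047 (flp_h L89643) rfl
theorem L628068 : N7236 = N7278 := eqes L628067 L62357
theorem L628069 : N7278 = N7236 := (eqc rfl L628068 rfl).symm
theorem L628071 : sm ga N7236 = N10551 := trfs L628069 (flp_a L90084) rfl
theorem L628072 : N10551 = N10486 := eqes L628071 (flp_a L89546)
theorem L628073 : N10551 = N10486 := eqc rfl L628072 rfl
theorem L628074 : sm gb N7236 = N5029 := trfs L628069 L62359 rfl
theorem L628075 : N5029 = N5005 := eqes L628074 L62015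
theorem L628076 : N5029 = N5005 := eqc rfl L628075 rfl
theorem L628083 : sm gh N7236 = N5028 := trfs L628069 (flp_h L62357) rfl
theorem L628087 : sm gc N5005 = N3481 := trfs L628076 L43265 rfl
theorem L628088 : N3481 = N3471 := eqes L628087 L43068
theorem L628089 : N3481 = N3471 := eqc rfl L628088 rfl
theorem L628095 : sm gg N5005 = N7276 := trfs L628076 (flp_g L62345) rfl
theorem L628096 : N7276 = N3463 := eqes L628095 (flp_g L43065)
theorem L628097 : N7276 = N3463 := eqc rfl L628096 rfl
theorem L628112 : sm gj N3463 = N10547 := trfs L628097 (flp_j L90054) rfl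
theorem L628113 : N10547 = N2400 := eqes L628112 (flp_j L29939)
theorem L628114 : N10547 = N2400 := eqc rfl L628113 rfl
theorem L628126 : sm gh N2400 = N7272 := trfs L628114 (flp_h L90047) rfl
theorem L628127 : N7272 = N3464 := eqes L628126 L29948
theorem L628128 : N7272 = N3464 := eqc rfl L628127 rfl
theorem L628142 : sm gi N3464 = N5022 := trfs L628128 (flp_i L62304) rfl
theorem L628143 : N5022 = N5008 := eqes L628142 L43090
theorem L628144 : N5022 = N5008 := eqc rfl L628143 rfl
theorem L628147 : sm gc N5008 = N3475 := trfs L628144 (flp_c L43204) rfl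
theorem L628148 : N3475 = N3474 := eqes L628147 L43093
theorem L628149 : N3475 = N3474 := eqc rfl L628148 rfl
theorem L628150 : sm gd N5008 = N7253 := trfs L628144 (flp_d L62156) rfl
theorem L628151 : N7253 = N7252 := eqes L628150 (flp_d L62145)
theorem L628152 : N7253 = N7252 := eqc rfl L628151 rfl
theorem L628160 : sm gb N7252 = N10521 := trfs L628152 L89830 rfl
theorem L628161 : N10521 = N10502 := eqes L628160 (flp_b L89686)
theorem L628162 : N10521 = N10502 := eqc rfl L628161 rfl
theorem L628163 : sm gc N7252 = N5009 := trfs L628152 (flp_c L62150) rfl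
theorem L628164 : N5009 = N10518 := eqes L628163 (flp_c L89809)
theorem L628165 : N10518 = N5009 := (eqc rfl L628164 rfl).symm
theorem L628166 : sm ge N7252 = N10314 := trfs L628152 (flp_e L88085) rfl
theorem L628167 : N10314 = N10519 := eqes L628166 (flp_e L89820)
theorem L628168 : N10519 = N10314 := (eqc rfl L628167 rfl).symm
theorem L628169 : sm gf N7252 = N10513 := trfs L628152 (flp_f L89772) rfl
theorem L628170 : N10513 = N5012 := eqes L628169 L62147
theorem L628171 : N10513 = N5012 := eqc rfl L628170 rfl
theorem L628173 : sm gj N7252 = N5011 := trfs L628152 L62154 rfl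
theorem L628174 : N5011 = N10515 := eqes L628173 (flp_j L89791)
theorem L628175 : N10515 = N5011 := (eqc rfl L628174 rfl).symm
theorem L628176 : sm gh N7252 = N10478 := trfs L628152 (flp_h L89486) rfl
theorem L628177 : N10478 = N10520 := eqes L628176 L89823
theorem L628178 : N10520 = N10478 := (eqc rfl L628177 rfl).symm
theorem L628181 : sm gb N10478 = N15263 := trfs L628178 (flp_b L129943) rfl
theorem L628182 : N15263 = N15231 := eqes L628181 L129672
theorem L628183 : N15263 = N15231 := eqc rfl L628182 rfl
theorem L628191 : sm gf N10478 = N7257 := trfs L628178 L89826 rfl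
theorem L628192 : N7257 = N15223 := eqes L628191 (flp_f L129609)
theorem L628193 : N15223 = N7257 := (eqc rfl L628192 rfl).symm
theorem L628198 : sm gh N10478 = N7252 := trfs L628178 (flp_h L89823) rfl
theorem L628200 : sm gi N10478 = N15230 := trfs L628178 (flp_i L129670) rfl
theorem L628201 : N15230 = N15232 := eqes L628200 L129680
theorem L628202 : N15232 = N15230 := (eqc rfl L628201 rfl).symm
theorem L628204 : sm gb N15230 = N22170 := trfs L628202 (flp_b L188262) rfl
theorem L628205 : N22170 = N22144 := eqes L628204 (flp_b L188041)
theorem L628206 : N22170 = N22144 := eqc rfl L628205 rfl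
theorem L628207 : sm gc N15230 = N10479 := trfs L628202 L129683 rfl
theorem L628208 : N10479 = N22167 := eqes L628207 (flp_c L188236)
theorem L628209 : N22167 = N10479 := (eqc rfl L628208 rfl).symm
theorem L628211 : sm ge N15230 = N21588 := trfs L628202 (flp_e L183410) rfl
theorem L628212 : N21588 = N22168 := eqes L628211 (flp_e L188246)
theorem L628213 : N22168 = N21588 := (eqc rfl L628212 rfl).symm
theorem L628214 : sm gf N15230 = N22159 := trfs L628202 (flp_f L188175) rfl
theorem L628215 : N22159 = N10482 := eqes L628214 L129666
theorem L628216 : N22159 = N10482 := eqc rfl L628215 rfl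
theorem L628218 : sm gj N15230 = N10481 := trfs L628202 L129687 rfl
theorem L628219 : N10481 = N22161 := eqes L628218 (flp_j L188191)
theorem L628220 : N22161 = N10481 := (eqc rfl L628219 rfl).symm
theorem L628221 : sm gh N15230 = N22171 := trfs L628202 L188268 rfl
theorem L628222 : N22171 = N10477 := eqes L628221 (flp_h L129663)
theorem L628223 : N22171 = N10477 := eqc rfl L628222 rfl
theorem L628224 : sm gi N15230 = N10478 := trfs L628202 (flp_i L129680) rfl
theorem L628230 : sm gc N10477 = N15233 := trfs L628223 L188271 rfl
theorem L628231 : N15233 = N15228 := eqes L628230 (flp_c L129651)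
theorem L628232 : N15233 = N15228 := eqc rfl L628231 rfl
theorem L628236 : sm ge N10477 = N31465 := trfs L628223 (flp_e L266665) rfl
theorem L628237 : N31465 = N15229 := eqes L628236 (flp_e L129660)
theorem L628238 : N31465 = N15229 := eqc rfl L628237 rfl
theorem L628243 : sm gj N10477 = N15236 := trfs L628223 L188274 rfl
theorem L628244 : N15236 = N15225 := eqes L628243 (flp_j L129630)
theorem L628245 : N15236 = N15225 := eqc rfl L628244 rfl
theorem L628246 : sm gi N10477 = N15290 := trfs L628223 L188276 rfl
theorem L628247 : N15290 = N7219 := eqes L628246 (flp_i L89472)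
theorem L628248 : N15290 = N7219 := eqc rfl L628247 rfl
theorem L628253 : sm gc N7219 = N10523 := trfs L628248 L130156 rfl
theorem L628254 : N10523 = N10475 := eqes L628253 L89457
theorem L628255 : N10523 = N10475 := eqc rfl L628254 rfl
theorem L628259 : sm ge N7219 = N21822 := trfs L628248 (flp_e L185323) rfl
theorem L628260 : N21822 = N10476 := eqes L628259 L89466
theorem L628261 : N21822 = N10476 := eqc rfl L628260 rfl
theorem L628266 : sm gj N7219 = N10526 := trfs L628248 L130159 rfl
theorem L628267 : N10526 = N10473 := eqes L628266 (flp_j L89444)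
theorem L628268 : N10526 = N10473 := eqc rfl L628267 rfl
theorem L628275 : sm ge N10473 = N14995 := trfs L628268 (flp_e L127673) rfl
theorem L628276 : N14995 = N15224 := eqes L628275 L129616
theorem L628277 : N15224 = N14995 := (eqc rfl L628276 rfl).symm
theorem L628279 : sm gg N10473 = N7260 := trfs L628268 L89874 rfl
theorem L628280 : N7260 = N15221 := eqes L628279 (flp_g L129592)
theorem L628281 : N15221 = N7260 := (eqc rfl L628280 rfl).symm
theorem L628282 : sm gh N10473 = N7256 := trfs L628268 (flp_h L89869) rfl
theorem L628283 : N7256 = N7248 := eqes L628282 L89446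
theorem L628284 : N7256 = N7248 := eqc rfl L628283 rfl
theorem L628291 : sm ge N7248 = N10317 := trfs L628284 (flp_e L88114) rfl
theorem L628292 : N10317 = N10514 := eqes L628291 L89778
theorem L628293 : N10514 = N10317 := (eqc rfl L628292 rfl).symm
theorem L628295 : sm gg N7248 = N5014 := trfs L628284 L62179 rfl
theorem L628296 : N5014 = N10511 := eqes L628295 (flp_g L89755)
theorem L628297 : N10511 = N5014 := (eqc rfl L628296 rfl).symm
theorem L628311 : sm gg N5014 = N7248 := trfs L628297 L89755 rfl
theorem L628315 : sm gi N5014 = N15275 := trfs L628297 L130034 rfl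
theorem L628316 : N15275 = N3468 := eqes L628315 (flp_i L43137)
theorem L628317 : N15275 = N3468 := eqc rfl L628316 rfl
theorem L628334 : sm gh N3468 = N22226 := trfs L628317 L188723 rfl
theorem L628335 : N22226 = N4987 := eqes L628334 (flp_h L42913)
theorem L628336 : N22226 = N4987 := eqc rfl L628335 rfl
theorem L628351 : sm gi N4987 = N32283 := trfs L628336 (flp_i L273467) rfl
theorem L628352 : N32283 = N7226 := eqes L628351 L61921
theorem L628353 : N32283 = N7226 := eqc rfl L628352 rfl
theorem L628359 : sm gh N7226 = N22156 := trfs L628353 (flp_h L273459) rfl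
theorem L628360 : N22156 = N10485 := eqes L628359 L89535
theorem L628361 : N22156 = N10485 := eqc rfl L628360 rfl
theorem L628369 : sm ge N10485 = N32282 := trfs L628361 (flp_e L273454) rfl
theorem L628370 : N32282 = N14834 := eqes L628369 (flp_e L126347)
theorem L628371 : N32282 = N14834 := eqc rfl L628370 rfl
theorem L628378 : sm gg N14834 = N22160 := trfs L628371 L273456 rfl
theorem L628379 : N22160 = N21592 := eqes L628378 (flp_g L183449)
theorem L628380 : N22160 = N21592 := eqc rfl L628379 rfl
theorem L628382 : sm gi N14834 = N22155 := trfs L628371 (flp_i L273451) rfl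
theorem L628383 : N22155 = N10321 := eqes L628382 L126350
theorem L628384 : N22155 = N10321 := eqc rfl L628383 rfl
theorem L628396 : sm gf N10321 = N32281 := trfs L628384 L273444 rfl
theorem L628397 : N32281 = N14175 := eqes L628396 (flp_f L120775)
theorem L628398 : N32281 = N14175 := eqc rfl L628397 rfl
theorem L628408 : sm gh N14175 = N22224 := trfs L628398 L273448 rfl
theorem L628409 : N22224 = N9766 := eqes L628408 (flp_h L120769)
theorem L628410 : N22224 = N9766 := eqc rfl L628409 rfl
theorem L628421 : sm gg N9766 = N31772 := trfs L628410 (flp_g L269155) rfl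
theorem L628422 : N31772 = N14171 := eqes L628421 (flp_g L120744)
theorem L628423 : N31772 = N14171 := eqc rfl L628422 rfl
theorem L628439 : sm gf N14171 = N21806 := trfs L628423 (flp_f L269150) rfl
theorem L628440 : N21806 = N20600 := eqes L628439 (flp_f L175067)
theorem L628441 : N21806 = N20600 := eqc rfl L628440 rfl
theorem L628442 : sm gj N14171 = N43698 := trfs L628423 (flp_j L369536) rfl
theorem L628443 : N43698 = N20604 := eqes L628442 (flp_j L175102)
theorem L628444 : N43698 = N20604 := eqc rfl L628443 rfl
theorem L628449 : sm gf N20604 = N29978 := trfs L628444 (flp_f L369532) rfl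
theorem L628450 : N29978 = N29982 := eqes L628449 (flp_f L254183)
theorem L628451 : N29982 = N29978 := (eqc rfl L628450 rfl).symm
theorem L628454 : sm gb N29978 = N43703 := trfs L628451 (flp_b L369575) rfl
theorem L628455 : N43703 = N43672 := eqes L628454 (flp_b L369317)
theorem L628456 : N43703 = N43672 := eqc rfl L628455 rfl
theorem L628457 : sm gc N29978 = N20597 := trfs L628451 L254180 rfl
theorem L628458 : N20597 = N43696 := eqes L628457 (flp_c L369515)
theorem L628459 : N43696 = N20597 := (eqc rfl L628458 rfl).symm
theorem L628464 : sm gf N29978 = N20604 := trfs L628451 L254183 rfl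
theorem L628466 : sm gg N29978 = N43697 := trfs L628451 (flp_g L369528) rfl
theorem L628467 : N43697 = N20596 := eqes L628466 L254147
theorem L628468 : N43697 = N20596 := eqc rfl L628467 rfl
theorem L628471 : sm gh N29978 = N43706 := trfs L628451 L369600 rfl
theorem L628472 : N43706 = N43101 := eqes L628471 (flp_h L364454)
theorem L628473 : N43706 = N43101 := eqc rfl L628472 rfl
theorem L628474 : sm gi N29978 = N20595 := trfs L628451 (flp_i L254177) rfl
theorem L628475 : N20595 = N43699 := eqes L628474 L369540
theorem L628476 : N43699 = N20595 := (eqc rfl L628475 rfl).symm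
theorem L628479 : sm ge N20595 = N29979 := trfs L628476 L369544 rfl
theorem L628480 : N29979 = N29981 := eqes L628479 L254169
theorem L628481 : N29981 = N29979 := (eqc rfl L628480 rfl).symm
theorem L628482 : sm gg N20595 = N29983 := trfs L628476 L369546 rfl
theorem L628483 : N29983 = N29977 := eqes L628482 (flp_g L254139)
theorem L628484 : N29983 = N29977 := eqc rfl L628483 rfl
theorem L628485 : sm gj N20595 = N31773 := trfs L628476 L369548 rfl
theorem L628486 : N31773 = N14165 := eqes L628485 L175027
theorem L628487 : N31773 = N14165 := eqc rfl L628486 rfl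
theorem L628488 : sm gi N20595 = N29978 := trfs L628476 (flp_i L369540) rfl
theorem L628495 : sm ge N14165 = N21807 := trfs L628487 L269161 rfl
theorem L628496 : N21807 = N20599 := eqes L628495 L175053
theorem L628497 : N21807 = N20599 := eqc rfl L628496 rfl
theorem L628498 : sm gg N14165 = N21811 := trfs L628487 L269163 rfl
theorem L628499 : N21811 = N10311 := eqes L628498 L120695
theorem L628500 : N21811 = N10311 := eqc rfl L628499 rfl
theorem L628503 : sm gb N10311 = N31751 := trfs L628500 (flp_b L268990) rfl
theorem L628504 : N31751 = N14985 := eqes L628503 L127591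
theorem L628505 : N31751 = N14985 := eqc rfl L628504 rfl
theorem L628510 : sm ge N10311 = N14984 := trfs L628500 L185237 rfl
theorem L628511 : N14984 = N14986 := eqes L628510 L127596
theorem L628512 : N14986 = N14984 := (eqc rfl L628511 rfl).symm
theorem L628516 : sm gj N10311 = N14988 := trfs L628500 L185241 rfl
theorem L628517 : N14988 = N14982 := eqes L628516 (flp_j L127571)
theorem L628518 : N14988 = N14982 := eqc rfl L628517 rfl
theorem L628522 : sm gi N10311 = N14983 := trfs L628500 (flp_i L185233) rfl
theorem L628523 : N14983 = N14987 := eqes L628522 L127603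
theorem L628524 : N14987 = N14983 := (eqc rfl L628523 rfl).symm
theorem L628526 : sm gb N14983 = N21815 := trfs L628524 (flp_b L185264) rfl
theorem L628527 : N21815 = N21789 := eqes L628526 (flp_b L185062)
theorem L628528 : N21815 = N21789 := eqc rfl L628527 rfl
theorem L628529 : sm gc N14983 = N10313 := trfs L628524 L127606 rfl
theorem L628530 : N10313 = N21809 := eqes L628529 (flp_c L185217)
theorem L628531 : N21809 = N10313 := (eqc rfl L628530 rfl).symm
theorem L628543 : sm gh N14983 = N21818 := trfs L628524 L185285 rfl
theorem L628544 : N21818 = N21580 := eqes L628543 (flp_h L183347)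
theorem L628545 : N21818 = N21580 := eqc rfl L628544 rfl
theorem L628546 : sm gi N14983 = N10311 := trfs L628524 (flp_i L127603) rfl
theorem L628549 : sm gb N21580 = N31786 := trfs L628545 (flp_b L269266) rfl
theorem L628550 : N31786 = N31432 := eqes L628549 (flp_b L266377)
theorem L628551 : N31786 = N31432 := eqc rfl L628550 rfl
theorem L628552 : sm gc N21580 = N14989 := trfs L628545 L185288 rfl
theorem L628553 : N14989 = N31452 := eqes L628552 (flp_c L266553)
theorem L628554 : N31452 = N14989 := (eqc rfl L628553 rfl).symm
theorem L628555 : sm gd N21580 = N31790 := trfs L628545 L269295 rfl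
theorem L628556 : N31790 = N31154 := eqes L628555 (flp_d L264153)
theorem L628557 : N31790 = N31154 := eqc rfl L628556 rfl
theorem L628563 : sm gg N21580 = N29990 := trfs L628545 (flp_g L254252) rfl
theorem L628564 : N29990 = N31449 := eqes L628563 (flp_g L266530)
theorem L628565 : N31449 = N29990 := (eqc rfl L628564 rfl).symm
theorem L628569 : sm gi N21580 = N31461 := trfs L628545 (flp_i L266630) rfl
theorem L628570 : N31461 = N31454 := eqes L628569 L266570
theorem L628571 : N31461 = N31454 := eqc rfl L628570 rfl
theorem L628573 : sm gb N31454 = N45903 := trfs L628571 (flp_b L388033) rfl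
theorem L628574 : N45903 = N45868 := eqes L628573 (flp_b L387727)
theorem L628575 : N45903 = N45868 := eqc rfl L628574 rfl
theorem L628576 : sm gc N31454 = N21586 := trfs L628571 L266626 rfl
theorem L628577 : N21586 = N45896 := eqes L628576 (flp_c L387971)
theorem L628578 : N45896 = N21586 := (eqc rfl L628577 rfl).symm
theorem L628579 : sm gd N31454 = N45907 := trfs L628571 L388064 rfl
theorem L628580 : N45907 = N45452 := eqes L628579 (flp_d L384391)
theorem L628581 : N45907 = N45452 := eqc rfl L628580 rfl
theorem L628587 : sm gg N31454 = N43113 := trfs L628571 (flp_g L364559) rfl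
theorem L628588 : N43113 = N45890 := eqes L628587 (flp_g L387924)
theorem L628589 : N45890 = N43113 := (eqc rfl L628588 rfl).symm
theorem L628590 : sm gj N31454 = N45897 := trfs L628571 (flp_j L387986) rfl
theorem L628591 : N45897 = N21585 := eqes L628590 L266577
theorem L628592 : N45897 = N21585 := eqc rfl L628591 rfl
theorem L628593 : sm gh N31454 = N21584 := trfs L628571 (flp_h L266623) rfl
theorem L628594 : N21584 = N45898 := eqes L628593 L387990
theorem L628595 : N45898 = N21584 := (eqc rfl L628594 rfl).symm
theorem L628597 : sm ge N21584 = N31455 := trfs L628595 L387993 rfl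
theorem L628598 : N31455 = N31460 := eqes L628597 (flp_e L266619)
theorem L628599 : N31460 = N31455 := (eqc rfl L628598 rfl).symm
theorem L628603 : sm gj N21584 = N31462 := trfs L628595 L387997 rfl
theorem L628604 : N31462 = N31453 := eqes L628603 (flp_j L266568)
theorem L628605 : N31462 = N31453 := eqc rfl L628604 rfl
theorem L628606 : sm gh N21584 = N31454 := trfs L628595 (flp_h L387990) rfl
theorem L628610 : sm gb N31453 = N45876 := trfs L628605 (flp_b L387793) rfl
theorem L628611 : N45876 = N45894 := eqes L628610 (flp_b L387955)
theorem L628612 : N45894 = N45876 := (eqc rfl L628611 rfl).symm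
theorem L628620 : sm gg N31453 = N43114 := trfs L628605 (flp_g L364569) rfl
theorem L628621 : N43114 = N45888 := eqes L628620 (flp_g L387909)
theorem L628622 : N45888 = N43114 := (eqc rfl L628621 rfl).symm
theorem L628625 : sm gi N31453 = N21819 := trfs L628605 L266639 rfl
theorem L628626 : N21819 = N21579 := eqes L628625 (flp_i L266561)
theorem L628627 : N21819 = N21579 := eqc rfl L628626 rfl
theorem L628629 : sm gb N21579 = N31759 := trfs L628627 (flp_b L269050) rfl
theorem L628630 : N31759 = N31451 := eqes L628629 L266542
theorem L628631 : N31759 = N31451 := eqc rfl L628630 rfl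
theorem L628633 : sm gd N21579 = N31791 := trfs L628627 L269301 rfl
theorem L628634 : N31791 = N30814 := eqes L628633 (flp_d L261344)
theorem L628635 : N31791 = N30814 := eqc rfl L628634 rfl
theorem L628639 : sm gg N21579 = N29991 := trfs L628627 (flp_g L254260) rfl
theorem L628640 : N29991 = N31448 := eqes L628639 (flp_g L266523)
theorem L628641 : N31448 = N29991 := (eqc rfl L628640 rfl).symm
theorem L628648 : sm gc N29991 = N21577 := trfs L628641 (flp_c L266519) rfl
theorem L628649 : N21577 = N43715 := eqes L628648 (flp_c L369681)
theorem L628650 : N43715 = N21577 := (eqc rfl L628649 rfl).symm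
theorem L628651 : sm gd N29991 = N44941 := trfs L628641 (flp_d L380218) rfl
theorem L628652 : N44941 = N43717 := eqes L628651 L369696
theorem L628653 : N44941 = N43717 := eqc rfl L628652 rfl
theorem L628658 : sm gg N29991 = N21579 := trfs L628641 L266523 rfl
theorem L628660 : sm gj N29991 = N43100 := trfs L628641 (flp_j L364443) rfl
theorem L628661 : N43100 = N43707 := eqes L628660 (flp_j L369615)
theorem L628662 : N43707 = N43100 := (eqc rfl L628661 rfl).symm
theorem L628663 : sm gh N29991 = N21805 := trfs L628641 L266525 rfl
theorem L628664 : N21805 = N20601 := eqes L628663 (flp_h L254254)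
theorem L628665 : N21805 = N20601 := eqc rfl L628664 rfl
theorem L628668 : sm gb N20601 = N31769 := trfs L628665 L269128 rfl
theorem L628669 : N31769 = N29966 := eqes L628668 (flp_b L254047)
theorem L628670 : N31769 = N29966 := eqc rfl L628669 rfl
theorem L628671 : sm gc N20601 = N14980 := trfs L628665 (flp_c L185186) rfl
theorem L628672 : N14980 = N29989 := eqes L628671 (flp_c L254238)
theorem L628673 : N29989 = N14980 := (eqc rfl L628672 rfl).symm
theorem L628698 : sm gb N14980 = N43711 := trfs L628673 (flp_b L369645) rfl
theorem L628699 : N43711 = N21786 := eqes L628698 (flp_b L185041)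
theorem L628700 : N43711 = N21786 := eqc rfl L628699 rfl
theorem L628701 : sm gc N14980 = N20601 := trfs L628673 L254238 rfl
theorem L628703 : sm gd N14980 = N43714 := trfs L628673 (flp_d L369672) rfl
theorem L628704 : N43714 = N10308 := eqes L628703 (flp_d L127552)
theorem L628705 : N43714 = N10308 := eqc rfl L628704 rfl
theorem L628721 : sm gi N10308 = N29988 := trfs L628705 (flp_i L369668) rfl
theorem L628722 : N29988 = N14981 := eqes L628721 L127558
theorem L628723 : N29988 = N14981 := eqc rfl L628722 rfl
theorem L628725 : sm gb N14981 = N43710 := trfs L628723 (flp_b L369637) rfl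
theorem L628726 : N43710 = N21787 := eqes L628725 (flp_b L185048)
theorem L628727 : N43710 = N21787 := eqc rfl L628726 rfl
theorem L628739 : sm gh N14981 = N43713 := trfs L628723 L369660 rfl
theorem L628740 : N43713 = N21693 := eqes L628739 (flp_h L184301)
theorem L628741 : N43713 = N21693 := eqc rfl L628740 rfl
theorem L628746 : sm gg N21693 = N31787 := trfs L628741 L369666 rfl
theorem L628747 : N31787 = N14901 := eqes L628746 L184299
theorem L628748 : N31787 = N14901 := eqc rfl L628747 rfl
theorem L628751 : sm gd N14901 = N45904 := trfs L628748 (flp_d L388044) rfl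
theorem L628752 : N45904 = N21696 := eqes L628751 (flp_d L184321)
theorem L628753 : N45904 = N21696 := eqc rfl L628752 rfl
theorem L628755 : sm gf N14901 = N22239 := trfs L628748 L269275 rfl
theorem L628756 : N22239 = N10255 := eqes L628755 L126931
theorem L628757 : N22239 = N10255 := eqc rfl L628756 rfl
theorem L628777 : sm gi N10255 = N32395 := trfs L628757 L274391 rfl
theorem L628778 : N32395 = N7064 := eqes L628777 (flp_i L87609)
theorem L628779 : N32395 = N7064 := eqc rfl L628778 rfl
theorem L628782 : sm ge N7064 = N22281 := trfs L628779 L274395 rfl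
theorem L628783 : N22281 = N4880 := eqes L628782 L60566
theorem L628784 : N22281 = N4880 := eqc rfl L628783 rfl
theorem L628797 : sm gh N4880 = N32451 := trfs L628784 L274853 rfl
theorem L628798 : N32451 = N3372 := eqes L628797 (flp_h L42006)
theorem L628799 : N32451 = N3372 := eqc rfl L628798 rfl
theorem L628805 : sm gi N3372 = N22282 := trfs L628799 L274859 rfl
theorem L628806 : N22282 = N2353 := eqes L628805 L29178
theorem L628807 : N22282 = N2353 := eqc rfl L628806 rfl
theorem L628824 : sm gh N2353 = N15316 := trfs L628807 (flp_h L189195) rfl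
theorem L628825 : N15316 = N3397 := eqes L628824 L29372
theorem L628826 : N15316 = N3397 := eqc rfl L628825 rfl
theorem L628843 : sm gi N3397 = N10541 := trfs L628826 (flp_i L130374) rfl
theorem L628844 : N10541 = N4913 := eqes L628843 L42276
theorem L628845 : N10541 = N4913 := eqc rfl L628844 rfl
theorem L628857 : sm gj N4913 = N15306 := trfs L628845 (flp_j L130292) rfl
theorem L628858 : N15306 = N3398 := eqes L628857 L42284
theorem L628859 : N15306 = N3398 := eqc rfl L628858 rfl
theorem L628876 : sm gh N3398 = N22268 := trfs L628859 L189075 rfl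
theorem L628877 : N22268 = N4881 := eqes L628876 (flp_h L42023)
theorem L628878 : N22268 = N4881 := eqc rfl L628877 rfl
theorem L628881 : sm gb N4881 = N32430 := trfs L628878 (flp_b L274687) rfl
theorem L628882 : N32430 = N6709 := eqes L628881 (flp_b L563524)
theorem L628883 : N32430 = N6709 := eqc rfl L628882 rfl
theorem L628900 : sm gj N6709 = N22277 := trfs L628883 L274690 rfl
theorem L628901 : N22277 = N9724 := eqes L628900 L83105
theorem L628902 : N22277 = N9724 := eqc rfl L628901 rfl
theorem L628908 : sm gc N9724 = N32444 := trfs L628902 (flp_c L274807) rfl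
theorem L628909 : N32444 = N6715 := eqes L628908 L83109
theorem L628910 : N32444 = N6715 := eqc rfl L628909 rfl
theorem L628920 : sm gh N6715 = N22276 := trfs L628910 (flp_h L274804) rfl
theorem L628921 : N22276 = N9734 := eqes L628920 L83195
theorem L628922 : N22276 = N9734 := eqc rfl L628921 rfl
theorem L628929 : sm ge N9734 = N32390 := trfs L628922 (flp_e L274355) rfl
theorem L628930 : N32390 = N14126 := eqes L628929 (flp_e L120375)
theorem L628931 : N32390 = N14126 := eqc rfl L628930 rfl
theorem L628950 : sm gc N14126 = N22236 := trfs L628931 (flp_c L274353) rfl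
theorem L628951 : N22236 = N10302 := eqes L628950 (flp_c L562937)
theorem L628952 : N22236 = N10302 := eqc rfl L628951 rfl
theorem L628970 : sm gi N10302 = N32392 := trfs L628952 L274366 rfl
theorem L628971 : N32392 = N7098 := eqes L628970 (flp_i L87993)
theorem L628972 : N32392 = N7098 := eqc rfl L628971 rfl
theorem L628974 : sm gd N7098 = N22237 := trfs L628972 L274370 rfl
theorem L628975 : N22237 = N10301 := eqes L628974 L87984
theorem L628976 : N22237 = N10301 := eqc rfl L628975 rfl
theorem L628998 : sm gh N10301 = N32393 := trfs L628976 L274375 rfl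
theorem L628999 : N32393 = N14814 := eqes L628998 (flp_h L126184)
theorem L629000 : N32393 = N14814 := eqc rfl L628999 rfl
theorem L629005 : sm ge N14814 = N22238 := trfs L629000 L274379 rfl
theorem L629006 : N22238 = N10465 := eqes L629005 L126182
theorem L629007 : N22238 = N10465 := eqc rfl L629006 rfl
theorem L629023 : sm gi N10465 = N32295 := trfs L629007 (flp_i L273568) rfl
theorem L629024 : N32295 = N15214 := eqes L629023 L129532
theorem L629025 : N32295 = N15214 := eqc rfl L629024 rfl
theorem L629029 : sm gh N15214 = N22164 := trfs L629025 (flp_h L273561) rfl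
theorem L629030 : N22164 = N22147 := eqes L629029 L188065
theorem L629031 : N22164 = N22147 := eqc rfl L629030 rfl
theorem L629032 : sm ga N22147 = N32292 := trfs L629031 (flp_a L273541) rfl
theorem L629033 : N32292 = N32192 := eqes L629032 (flp_a L272719)
theorem L629034 : N32292 = N32192 := eqc rfl L629033 rfl
theorem L629037 : sm gc N22147 = N32264 := trfs L629031 (flp_c L273306) rfl
theorem L629038 : N32264 = N32271 := eqes L629037 (flp_c L273359)
theorem L629039 : N32271 = N32264 := (eqc rfl L629038 rfl).symm
theorem L629044 : sm gf N22147 = N15235 := trfs L629031 L188217 rfl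
theorem L629045 : N15235 = N32261 := eqes L629044 (flp_f L273277)
theorem L629046 : N32261 = N15235 := (eqc rfl L629045 rfl).symm
theorem L629051 : sm gi N22147 = N15226 := trfs L629031 (flp_i L188212) rfl
theorem L629052 : N15226 = N15266 := eqes L629051 L188073
theorem L629053 : N15266 = N15226 := (eqc rfl L629052 rfl).symm
theorem L629054 : sm ga N15226 = N22190 := trfs L629053 (flp_a L188439) rfl
theorem L629055 : N22190 = N22162 := eqes L629054 L188196
theorem L629056 : N22190 = N22162 := eqc rfl L629055 rfl
theorem L629058 : sm gc N15226 = N22214 := trfs L629053 (flp_c L188633) rfl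
theorem L629059 : N22214 = N22140 := eqes L629058 (flp_c L188016)
theorem L629060 : N22214 = N22140 := eqc rfl L629059 rfl
theorem L629062 : sm ge N15226 = N21798 := trfs L629053 (flp_e L185134) rfl
theorem L629063 : N21798 = N22163 := eqes L629062 L188205
theorem L629064 : N22163 = N21798 := (eqc rfl L629063 rfl).symm
theorem L629069 : sm gj N15226 = N10507 := trfs L629053 L129970 rfl
theorem L629070 : N10507 = N22157 := eqes L629069 (flp_j L188156)
theorem L629071 : N22157 = N10507 := (eqc rfl L629070 rfl).symm
theorem L629074 : sm gi N15226 = N22147 := trfs L629053 (flp_i L188073) rfl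
theorem L629076 : sm ga N10507 = N32284 := trfs L629071 L273469 rfl
theorem L629077 : N32284 = N15250 := eqes L629076 (flp_a L129839)
theorem L629078 : N32284 = N15250 := eqc rfl L629077 rfl
theorem L629080 : sm gc N10507 = N32257 := trfs L629071 (flp_c L273247) rfl
theorem L629081 : N32257 = N15269 := eqes L629080 (flp_c L129991)
theorem L629082 : N32257 = N15269 := eqc rfl L629081 rfl
theorem L629089 : sm gg N10507 = N32278 := trfs L629071 (flp_g L273419) rfl
theorem L629090 : N32278 = N7246 := eqes L629089 L89726
theorem L629091 : N32278 = N7246 := eqc rfl L629090 rfl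
theorem L629092 : sm gj N10507 = N15226 := trfs L629071 L188156 rfl
theorem L629102 : sm gh N7246 = N22221 := trfs L629091 L273422 rfl
theorem L629103 : N22221 = N5003 := eqes L629102 (flp_h L62094)
theorem L629104 : N22221 = N5003 := eqc rfl L629103 rfl
theorem L629113 : sm ge N5003 = N32369 := trfs L629104 L274175 rfl
theorem L629114 : N32369 = N7102 := eqes L629113 (flp_e L60878)
theorem L629115 : N32369 = N7102 := eqc rfl L629114 rfl
theorem L629130 : sm gg N7102 = N22228 := trfs L629115 L274179 rfl
theorem L629131 : N22228 = N10304 := eqes L629130 (flp_g L88016)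
theorem L629132 : N22228 = N10304 := eqc rfl L629131 rfl
theorem L629145 : sm gf N10304 = N31776 := trfs L629132 (flp_f L269185) rfl
theorem L629146 : N31776 = N14971 := eqes L629145 (flp_f L127485)
theorem L629147 : N31776 = N14971 := eqc rfl L629146 rfl
theorem L629152 : sm gc N14971 = N46317 := trfs L629147 (flp_c L391394) rfl
theorem L629153 : N46317 = N21793 := eqes L629152 (flp_c L185093)
theorem L629154 : N46317 = N21793 := eqc rfl L629153 rfl
theorem L629155 : sm ge N14971 = N21808 := trfs L629147 (flp_e L269179) rfl
theorem L629156 : N21808 = N21794 := eqes L629155 (flp_e L185102)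
theorem L629157 : N21808 = N21794 := eqc rfl L629156 rfl
theorem L629158 : sm gj N14971 = N21814 := trfs L629147 L269183 rfl
theorem L629159 : N21814 = N21790 := eqes L629158 (flp_j L185077)
theorem L629160 : N21814 = N21790 := eqc rfl L629159 rfl
theorem L629161 : sm gh N14971 = N45893 := trfs L629147 (flp_h L387949) rfl
theorem L629162 : N45893 = N21795 := eqes L629161 L185106
theorem L629163 : N45893 = N21795 := eqc rfl L629162 rfl
theorem L629168 : sm gj N21795 = N31457 := trfs L629163 L387947 rfl
theorem L629169 : N31457 = N31752 := eqes L629168 (flp_j L269005)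
theorem L629170 : N31752 = N31457 := (eqc rfl L629169 rfl).symm
theorem L629171 : sm ga N31457 = N43612 := trfs L629170 (flp_a L546142) rfl
theorem L629172 : N43612 = N45899 := eqes L629171 (flp_a L388003)
theorem L629173 : N45899 = N43612 := (eqc rfl L629172 rfl).symm
theorem L629174 : sm gb N31457 = N21812 := trfs L629170 L269001 rfl
theorem L629175 : N21812 = N21583 := eqes L629174 L266597
theorem L629176 : N21812 = N21583 := eqc rfl L629175 rfl
theorem L629177 : sm gc N31457 = N46321 := trfs L629170 (flp_c L391429) rfl
theorem L629178 : N46321 = N45871 := eqes L629177 (flp_c L387757)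
theorem L629179 : N46321 = N45871 := eqc rfl L629178 rfl
theorem L629180 : sm gd N31457 = N43548 := trfs L629170 (flp_d L542576) rfl
theorem L629181 : N43548 = N45901 := eqes L629180 L388017
theorem L629182 : N45901 = N43548 := (eqc rfl L629181 rfl).symm
theorem L629188 : sm gg N31457 = N46315 := trfs L629170 (flp_g L391380) rfl
theorem L629189 : N46315 = N43109 := eqes L629188 (flp_g L364523)
theorem L629190 : N46315 = N43109 := eqc rfl L629189 rfl
theorem L629191 : sm gj N31457 = N21795 := trfs L629170 L269005 rfl
theorem L629195 : sm gi N31457 = N45869 := trfs L629170 (flp_i L387743) rfl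
theorem L629196 : N45869 = N45902 := eqes L629195 L388023
theorem L629197 : N45902 = N45869 := (eqc rfl L629196 rfl).symm
theorem L629199 : sm ge N45869 = N31458 := trfs L629197 L388027 rfl
theorem L629202 : sm gi N45869 = N31457 := trfs L629197 (flp_i L388023) rfl
theorem L629204 : sm gb N43109 = N31774 := trfs L629190 L391377 rfl
theorem L629205 : N31774 = N29577 := eqes L629204 L364521
theorem L629206 : N31774 = N29577 := eqc rfl L629205 rfl
theorem L629208 : sm gh N43109 = N31747 := trfs L629190 (flp_h L391375) rfl
theorem L629209 : N31747 = N29986 := eqes L629208 L364525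
theorem L629210 : N31747 = N29986 := eqc rfl L629209 rfl
theorem L629211 : sm ga N29986 = N43633 := trfs L629210 (flp_a L546146) rfl
theorem L629212 : N43633 = N43708 := eqes L629211 (flp_a L369619)
theorem L629213 : N43708 = N43633 := (eqc rfl L629212 rfl).symm
theorem L629215 : sm gc N29986 = N46312 := trfs L629210 (flp_c L391353) rfl
theorem L629216 : N46312 = N43680 := eqes L629215 (flp_c L369388)
theorem L629217 : N46312 = N43680 := eqc rfl L629216 rfl
theorem L629224 : sm gj N29986 = N43673 := trfs L629210 (flp_j L369333) rfl
theorem L629225 : N43673 = N43702 := eqes L629224 (flp_j L369570)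
theorem L629226 : N43702 = N43673 := (eqc rfl L629225 rfl).symm
theorem L629230 : sm ge N43673 = N29980 := trfs L629226 (flp_e L369566) rfl
theorem L629233 : sm gj N43673 = N29986 := trfs L629226 L369570 rfl
theorem L629236 : sm gg N43680 = N31750 := trfs L629217 L391356 rfl
theorem L629237 : N31750 = N31754 := eqes L629236 L369390
theorem L629238 : N31754 = N31750 := (eqc rfl L629237 rfl).symm
theorem L629239 : sm gi N43680 = N31745 := trfs L629217 (flp_i L391351) rfl
theorem L629241 : sm ga N31750 = N46323 := trfs L629238 (flp_a L391447) rfl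
theorem L629242 : N46323 = N43635 := eqes L629241 (flp_a L546171)
theorem L629243 : N46323 = N43635 := eqc rfl L629242 rfl
theorem L629244 : sm gb N31750 = N21792 := trfs L629238 L269015 rfl
theorem L629245 : N21792 = N46318 := eqes L629244 (flp_b L391402)
theorem L629246 : N46318 = N21792 := (eqc rfl L629245 rfl).symm
theorem L629248 : sm gd N31750 = N46325 := trfs L629238 L391461 rfl
theorem L629249 : N46325 = N43590 := eqes L629248 (flp_d L546408)
theorem L629250 : N46325 = N43590 := eqc rfl L629249 rfl
theorem L629251 : sm ge N31750 = N21791 := trfs L629238 (flp_e L269013) rfl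
theorem L629252 : N21791 = N46320 := eqes L629251 (flp_e L391421)
theorem L629253 : N46320 = N21791 := (eqc rfl L629252 rfl).symm
theorem L629254 : sm gf N31750 = N22206 := trfs L629238 L269019 rfl
theorem L629255 : N22206 = N21797 := eqes L629254 L268984
theorem L629256 : N22206 = N21797 := eqc rfl L629255 rfl
theorem L629257 : sm gg N31750 = N43680 := trfs L629238 (flp_g L369390) rfl
theorem L629262 : sm gi N31750 = N46326 := trfs L629238 L391467 rfl
theorem L629263 : N46326 = N21788 := eqes L629262 (flp_i L268980)
theorem L629264 : N46326 = N21788 := eqc rfl L629263 rfl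
theorem L629265 : sm gb N21788 = N31757 := trfs L629264 L391469 rfl
theorem L629266 : N31757 = N31748 := eqes L629265 L268964
theorem L629267 : N31757 = N31748 := eqc rfl L629266 rfl
theorem L629269 : sm ge N21788 = N31755 := trfs L629264 L391473 rfl
theorem L629270 : N31755 = N31749 := eqes L629269 L268972
theorem L629271 : N31755 = N31749 := eqc rfl L629270 rfl
theorem L629273 : sm ga N31749 = N46324 := trfs L629271 (flp_a L391455) rfl
theorem L629274 : N46324 = N46240 := eqes L629273 (flp_a L390789)
theorem L629275 : N46324 = N46240 := eqc rfl L629274 rfl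
theorem L629279 : sm gd N31749 = N43593 := trfs L629271 (flp_d L546448) rfl
theorem L629280 : N43593 = N46319 := eqes L629279 L391410
theorem L629281 : N46319 = N43593 := (eqc rfl L629280 rfl).symm
theorem L629282 : sm gf N31749 = N21800 := trfs L629271 L269027 rfl
theorem L629283 : N21800 = N22201 := eqes L629282 L268978
theorem L629284 : N22201 = N21800 := (eqc rfl L629283 rfl).symm
theorem L629285 : sm gg N31749 = N43681 := trfs L629271 (flp_g L369401) rfl
theorem L629286 : N43681 = N46311 := eqes L629285 (flp_g L391349)
theorem L629287 : N46311 = N43681 := (eqc rfl L629286 rfl).symm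
theorem L629289 : sm gh N31749 = N46327 := trfs L629271 L391477 rfl
theorem L629290 : N46327 = N45866 := eqes L629289 (flp_h L387713)
theorem L629291 : N46327 = N45866 := eqc rfl L629290 rfl
theorem L629294 : sm gb N45866 = N31758 := trfs L629291 L391479 rfl
theorem L629297 : sm gf N45866 = N31764 := trfs L629291 L391483 rfl
theorem L629298 : N31764 = N32258 := eqes L629297 L387715
theorem L629299 : N32258 = N31764 := (eqc rfl L629298 rfl).symm
theorem L629300 : sm gc N31764 = N22138 := trfs L629299 L273251 rfl
theorem L629301 : N22138 = N21824 := eqes L629300 L269099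
theorem L629302 : N22138 = N21824 := eqc rfl L629301 rfl
theorem L629303 : sm ge N31764 = N22137 := trfs L629299 (flp_e L273249) rfl
theorem L629304 : N22137 = N22216 := eqes L629303 L269101
theorem L629305 : N22216 = N22137 := (eqc rfl L629304 rfl).symm
theorem L629306 : sm gf N31764 = N45866 := trfs L629299 (flp_f L387715) rfl
theorem L629308 : sm gj N31764 = N22141 := trfs L629299 L273253 rfl
theorem L629309 : N22141 = N46334 := eqes L629308 (flp_j L391536)
theorem L629310 : N46334 = N22141 := (eqc rfl L629309 rfl).symm
theorem L629312 : sm gb N22141 = N31762 := trfs L629310 L391529 rfl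
theorem L629313 : N31762 = N32263 := eqes L629312 (flp_b L273295)
theorem L629314 : N32263 = N31762 := (eqc rfl L629313 rfl).symm
theorem L629322 : sm gj N22141 = N31764 := trfs L629310 L391536 rfl
theorem L629324 : sm gh N22141 = N31761 := trfs L629310 (flp_h L391527) rfl
theorem L629325 : N31761 = N15260 := eqes L629324 L188023
theorem L629326 : N31761 = N15260 := eqc rfl L629325 rfl
theorem L629327 : sm ga N15260 = N46333 := trfs L629326 (flp_a L391518) rfl
theorem L629328 : N46333 = N22184 := eqes L629327 (flp_a L188387)
theorem L629329 : N46333 = N22184 := eqc rfl L629328 rfl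
theorem L629332 : sm gc N15260 = N21821 := trfs L629326 L269069 rfl
theorem L629333 : N21821 = N10501 := eqes L629332 L129922
theorem L629334 : N21821 = N10501 := eqc rfl L629333 rfl
theorem L629335 : sm gd N15260 = N43598 := trfs L629326 (flp_d L546428) rfl
theorem L629336 : N43598 = N22208 := eqes L629335 L188587
theorem L629337 : N43598 = N22208 := eqc rfl L629336 rfl
theorem L629345 : sm gi N15260 = N21796 := trfs L629326 (flp_i L269065) rfl
theorem L629346 : N21796 = N22209 := eqes L629345 L188592
theorem L629347 : N22209 = N21796 := (eqc rfl L629346 rfl).symm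
theorem L629348 : sm ga N21796 = N32323 := trfs L629347 (flp_a L273810) rfl
theorem L629349 : N32323 = N31760 := eqes L629348 L269056
theorem L629350 : N32323 = N31760 := eqc rfl L629349 rfl
theorem L629355 : sm gd N21796 = N32354 := trfs L629347 (flp_d L274067) rfl
theorem L629356 : N32354 = N31736 := eqes L629355 (flp_d L268873)
theorem L629357 : N32354 = N31736 := eqc rfl L629356 rfl
theorem L629358 : sm ge N21796 = N15261 := trfs L629347 L188596 rfl
theorem L629359 : N15261 = N15264 := eqes L629358 L185114
theorem L629360 : N15264 = N15261 := (eqc rfl L629359 rfl).symm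
theorem L629366 : sm gh N21796 = N32355 := trfs L629347 L274071 rfl
theorem L629367 : N32355 = N31439 := eqes L629366 (flp_h L266440)
theorem L629368 : N32355 = N31439 := eqc rfl L629367 rfl
theorem L629369 : sm gi N21796 = N15260 := trfs L629347 (flp_i L188592) rfl
theorem L629371 : sm gc N31439 = N22211 := trfs L629368 L274073 rfl
theorem L629372 : N22211 = N21587 := eqes L629371 L266442
theorem L629373 : N22211 = N21587 := eqc rfl L629372 rfl
theorem L629374 : sm ge N31439 = N22210 := trfs L629368 L274075 rfl
theorem L629375 : N22210 = N22145 := eqes L629374 L266435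
theorem L629376 : N22210 = N22145 := eqc rfl L629375 rfl
theorem L629377 : sm gf N31439 = N46330 := trfs L629368 (flp_f L391503) rfl
theorem L629378 : N46330 = N45865 := eqes L629377 (flp_f L387699)
theorem L629379 : N46330 = N45865 := eqc rfl L629378 rfl
theorem L629382 : sm ge N45865 = N31758 := trfs L629379 L391501 rfl
theorem L629385 : sm ga N22145 = N32324 := trfs L629376 (flp_a L273819) rfl
theorem L629386 : N32324 = N32269 := eqes L629385 L273339
theorem L629387 : N32324 = N32269 := eqc rfl L629386 rfl
theorem L629390 : sm gd N22145 = N32356 := trfs L629376 L274078 rfl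
theorem L629391 : N32356 = N32210 := eqes L629390 (flp_d L272869)
theorem L629392 : N32356 = N32210 := eqc rfl L629391 rfl
theorem L629396 : sm gj N22145 = N32346 := trfs L629376 (flp_j L274008) rfl
theorem L629397 : N32346 = N15215 := eqes L629396 L188052
theorem L629398 : N32346 = N15215 := eqc rfl L629397 rfl
theorem L629401 : sm gi N22145 = N32267 := trfs L629376 (flp_i L273328) rfl
theorem L629402 : N32267 = N32270 := eqes L629401 L273348
theorem L629403 : N32270 = N32267 := (eqc rfl L629402 rfl).symm
theorem L629404 : sm gb N32267 = N22146 := trfs L629403 L273350 rfl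
theorem L629407 : sm ge N32267 = N45878 := trfs L629403 (flp_e L387818) rfl
theorem L629410 : sm gj N32267 = N22149 := trfs L629403 L273355 rfl
theorem L629412 : sm gi N32267 = N22145 := trfs L629403 (flp_i L273348) rfl
theorem L629416 : sm gh N15215 = N22202 := trfs L629398 (flp_h L274002) rfl
theorem L629417 : N22202 = N10505 := eqes L629416 L129545
theorem L629418 : N22202 = N10505 := eqc rfl L629417 rfl
theorem L629419 : sm ga N10505 = N32316 := trfs L629418 (flp_a L273748) rfl
theorem L629420 : N32316 = N15267 := eqes L629419 L129973
theorem L629421 : N32316 = N15267 := eqc rfl L629420 rfl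
theorem L629428 : sm gf N10505 = N15265 := trfs L629418 L188540 rfl
theorem L629429 : N15265 = N15259 := eqes L629428 (flp_f L129915)
theorem L629430 : N15265 = N15259 := eqc rfl L629429 rfl
theorem L629436 : sm gi N10505 = N15256 := trfs L629418 (flp_i L188535) rfl
theorem L629437 : N15256 = N15268 := eqes L629436 L129980
theorem L629438 : N15268 = N15256 := (eqc rfl L629437 rfl).symm
theorem L629439 : sm ga N15256 = N22215 := trfs L629438 (flp_a L188640) rfl
theorem L629440 : N22215 = N22180 := eqes L629439 (flp_a L188352)
theorem L629441 : N22215 = N22180 := eqc rfl L629440 rfl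
theorem L629442 : sm gb N15256 = N10506 := trfs L629438 L129982 rfl
theorem L629443 : N10506 = N22200 := eqes L629442 L188520
theorem L629444 : N22200 = N10506 := (eqc rfl L629443 rfl).symm
theorem L629452 : sm gg N15256 = N10509 := trfs L629438 L129987 rfl
theorem L629453 : N10509 = N22197 := eqes L629452 (flp_g L188498)
theorem L629454 : N22197 = N10509 := (eqc rfl L629453 rfl).symm
theorem L629457 : sm gi N15256 = N10505 := trfs L629438 (flp_i L129980) rfl
theorem L629469 : sm gg N10509 = N15256 := trfs L629454 L188498 rfl
theorem L629472 : sm gh N10509 = N32254 := trfs L629454 (flp_h L273218) rfl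
theorem L629473 : N32254 = N15271 := eqes L629472 L130004
theorem L629474 : N32254 = N15271 := eqc rfl L629473 rfl
theorem L629476 : sm gc N15271 = N22135 := trfs L629474 (flp_c L273212) rfl
theorem L629477 : N22135 = N10528 := eqes L629476 L130008
theorem L629478 : N22135 = N10528 := eqc rfl L629477 rfl
theorem L629483 : sm ga N10528 = N32180 := trfs L629478 (flp_a L272606) rfl
theorem L629484 : N32180 = N15294 := eqes L629483 (flp_a L130186)
theorem L629485 : N32180 = N15294 := eqc rfl L629484 rfl
theorem L629501 : sm gg N15294 = N22084 := trfs L629485 L272610 rfl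
theorem L629502 : N22084 = N22247 := eqes L629501 (flp_g L188896)
theorem L629503 : N22247 = N22084 := (eqc rfl L629502 rfl).symm
theorem L629505 : sm gh N15294 = N22178 := trfs L629485 L272613 rfl
theorem L629506 : N22178 = N10527 := eqes L629505 (flp_h L130184)
theorem L629507 : N22178 = N10527 := eqc rfl L629506 rfl
theorem L629516 : sm gg N10527 = N15241 := trfs L629507 L188335 rfl
theorem L629517 : N15241 = N15291 := eqes L629516 (flp_g L130168)
theorem L629518 : N15291 = N15241 := (eqc rfl L629517 rfl).symm
theorem L629520 : sm gi N10527 = N32313 := trfs L629507 L273719 rfl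
theorem L629521 : N32313 = N7258 := eqes L629520 (flp_i L89876)
theorem L629522 : N32313 = N7258 := eqc rfl L629521 rfl
theorem L629529 : sm gg N7258 = N22182 := trfs L629522 L273727 rfl
theorem L629530 : N22182 = N10524 := eqes L629529 (flp_g L89858)
theorem L629531 : N22182 = N10524 := eqc rfl L629530 rfl
theorem L629540 : sm gf N10524 = N15247 := trfs L629531 L188374 rfl
theorem L629541 : N15247 = N15281 := eqes L629540 (flp_f L130089)
theorem L629542 : N15281 = N15247 := (eqc rfl L629541 rfl).symm
theorem L629543 : sm gj N10524 = N15245 := trfs L629531 L188376 rfl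
theorem L629544 : N15245 = N15288 := eqes L629543 (flp_j L130141)
theorem L629545 : N15288 = N15245 := (eqc rfl L629544 rfl).symm
theorem L629546 : sm gh N10524 = N32318 := trfs L629531 L273767 rfl
theorem L629547 : N32318 = N15234 := eqes L629546 (flp_h L129703)
theorem L629548 : N32318 = N15234 := eqc rfl L629547 rfl
theorem L629555 : sm gj N15234 = N22187 := trfs L629548 L273774 rfl
theorem L629556 : N22187 = N22169 := eqes L629555 (flp_j L188255)
theorem L629557 : N22187 = N22169 := eqc rfl L629556 rfl
theorem L629562 : sm ge N22169 = N32325 := trfs L629557 (flp_e L273831) rfl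
theorem L629563 : N32325 = N31463 := eqes L629562 (flp_e L266643)
theorem L629564 : N32325 = N31463 := eqc rfl L629563 rfl
theorem L629570 : sm gi N22169 = N32189 := trfs L629557 (flp_i L272698) rfl
theorem L629571 : N32189 = N32301 := eqes L629570 L273611
theorem L629572 : N32301 = N32189 := (eqc rfl L629571 rfl).symm
theorem L629576 : sm ge N32189 = N45909 := trfs L629572 (flp_e L388083) rfl
theorem L629579 : sm gj N32189 = N22172 := trfs L629572 L273618 rfl
theorem L629581 : sm gi N32189 = N22169 := trfs L629572 (flp_i L273611) rfl
theorem L629585 : sm gf N31463 = N43615 := trfs L629564 (flp_f L546202) rfl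
theorem L629586 : N43615 = N45892 := eqes L629585 (flp_f L387936)
theorem L629587 : N45892 = N43615 := (eqc rfl L629586 rfl).symm
theorem L629589 : sm gh N31463 = N22186 := trfs L629564 (flp_h L273826) rfl
theorem L629590 : N22186 = N21820 := eqes L629589 L266648
theorem L629591 : N22186 = N21820 := eqc rfl L629590 rfl
theorem L629598 : sm gf N21820 = N29935 := trfs L629591 (flp_f L546183) rfl
theorem L629599 : N29935 = N31775 := eqes L629598 (flp_f L269174)
theorem L629600 : N31775 = N29935 := (eqc rfl L629599 rfl).symm
theorem L629603 : sm gi N21820 = N15244 := trfs L629591 (flp_i L188402) rfl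
theorem L629604 : N15244 = N31792 := eqes L629603 L269307
theorem L629605 : N31792 = N15244 := (eqc rfl L629604 rfl).symm
theorem L629614 : sm gj N15244 = N21823 := trfs L629605 L269316 rfl
theorem L629615 : N21823 = N22181 := eqes L629614 (flp_j L188364)
theorem L629616 : N22181 = N21823 := (eqc rfl L629615 rfl).symm
theorem L629617 : sm gi N15244 = N21820 := trfs L629605 (flp_i L269307) rfl
theorem L629629 : sm gf N21823 = N31692 := trfs L629616 (flp_f L268538) rfl
theorem L629630 : N31692 = N31783 := eqes L629629 (flp_f L269247)
theorem L629631 : N31783 = N31692 := (eqc rfl L629630 rfl).symm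
theorem L629633 : sm gj N21823 = N15244 := trfs L629616 L188364 rfl
theorem L629635 : sm gh N21823 = N32183 := trfs L629616 (flp_h L272642) rfl
theorem L629636 : N32183 = N31795 := eqes L629635 L269334
theorem L629637 : N32183 = N31795 := eqc rfl L629636 rfl
theorem L629643 : sm gf N31795 = N45763 := trfs L629637 (flp_f L386944) rfl
theorem L629645 : sm gj N31795 = N22087 := trfs L629637 L272640 rfl
theorem L629651 : sm gf N31692 = N21823 := trfs L629631 L269247 rfl
theorem L629653 : sm gg N31692 = N43709 := trfs L629631 (flp_g L369633) rfl
theorem L629654 : N43709 = N46237 := eqes L629653 (flp_g L390767)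
theorem L629655 : N46237 = N43709 := (eqc rfl L629654 rfl).symm
theorem L629656 : sm gi N31692 = N21813 := trfs L629631 (flp_i L269241) rfl
theorem L629657 : N21813 = N43636 := eqes L629656 (flp_i L546169)
theorem L629658 : N43636 = N21813 := (eqc rfl L629657 rfl).symm
theorem L629662 : sm ge N21813 = N29932 := trfs L629658 (flp_e L369032) rfl
theorem L629663 : N29932 = N31782 := eqes L629662 L269234
theorem L629664 : N31782 = N29932 := (eqc rfl L629663 rfl).symm
theorem L629668 : sm gi N21813 = N31692 := trfs L629658 L546169 rfl
theorem L629673 : sm ge N29932 = N21813 := trfs L629664 (flp_e L269234) rfl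
theorem L629675 : sm gf N29932 = N22234 := trfs L629664 L269239 rfl
theorem L629676 : N22234 = N20563 := eqes L629675 L253779
theorem L629677 : N22234 = N20563 := eqc rfl L629676 rfl
theorem L629682 : sm gc N20563 = N32348 := trfs L629677 (flp_c L274022) rfl
theorem L629683 : N32348 = N29937 := eqes L629682 L253816
theorem L629684 : N32348 = N29937 := eqc rfl L629683 rfl
theorem L629700 : sm ge N29937 = N22205 := trfs L629684 (flp_e L274018) rfl
theorem L629701 : N22205 = N22189 := eqes L629700 (flp_e L546126)
theorem L629702 : N22205 = N22189 := eqc rfl L629701 rfl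
theorem L629707 : sm gb N22189 = N32319 := trfs L629702 (flp_b L273784) rfl
theorem L629708 : N32319 = N32327 := eqes L629707 (flp_b L273845)
theorem L629709 : N32327 = N32319 := (eqc rfl L629708 rfl).symm
theorem L629715 : sm gj N22189 = N32341 := trfs L629702 (flp_j L273967) rfl
theorem L629716 : N32341 = N15249 := eqes L629715 L188435
theorem L629717 : N32341 = N15249 := eqc rfl L629716 rfl
theorem L629718 : sm gh N22189 = N32262 := trfs L629702 (flp_h L273291) rfl
theorem L629719 : N32262 = N32328 := eqes L629718 L273852
theorem L629720 : N32328 = N32262 := (eqc rfl L629719 rfl).symm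
theorem L629721 : sm gi N22189 = N32349 := trfs L629702 L274025 rfl
theorem L629722 : N32349 = N15246 := eqes L629721 (flp_i L188427)
theorem L629723 : N32349 = N15246 := eqc rfl L629722 rfl
theorem L629725 : sm gc N15246 = N22235 := trfs L629723 L274029 rfl
theorem L629726 : N22235 = N10490 := eqes L629725 (flp_c L129804)
theorem L629727 : N22235 = N10490 := eqc rfl L629726 rfl
theorem L629733 : sm gd N10490 = N15311 := trfs L629727 L188800 rfl
theorem L629734 : N15311 = N7230 := eqes L629733 (flp_d L89584)
theorem L629735 : N15311 = N7230 := eqc rfl L629734 rfl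
theorem L629769 : sm gh N7230 = N22275 := trfs L629735 L189139 rfl
theorem L629770 : N22275 = N4991 := eqes L629769 (flp_h L61957)
theorem L629771 : N22275 = N4991 := eqc rfl L629770 rfl
theorem L629779 : sm ge N4991 = N32442 := trfs L629771 (flp_e L274790) rfl
theorem L629780 : N32442 = N3453 := eqes L629779 L42946
theorem L629781 : N32442 = N3453 := eqc rfl L629780 rfl
theorem L629831 : sm ga N3453 = N22279 := trfs L629781 L274786 rfl
theorem L629832 : N22279 = N2397 := eqes L629831 L29851
theorem L629833 : N22279 = N2397 := eqc rfl L629832 rfl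
theorem L629844 : sm gd N2397 = N32448 := trfs L629833 L274832 rfl
theorem L629845 : N32448 = N1667 := eqes L629844 L20836
theorem L629846 : N32448 = N1667 := eqc rfl L629845 rfl
theorem L629864 : sm gb N1667 = N22283 := trfs L629846 L274834 rfl
theorem L629865 : N22283 = N1164 := eqes L629864 L14566
theorem L629866 : N22283 = N1164 := eqc rfl L629865 rfl
theorem L629875 : sm ge N1164 = N32454 := trfs L629866 L274876 rfl
theorem L629876 : N32454 = N1659 := eqes L629875 (flp_e L14498)
theorem L629877 : N32454 = N1659 := eqc rfl L629876 rfl
theorem L629880 : sm gj N1164 = N32436 := trfs L629866 (flp_j L274741) rfl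
theorem L629881 : N32436 = N807 := eqes L629880 (flp_j L10226)
theorem L629882 : N32436 = N807 := eqc rfl L629881 rfl
theorem L629886 : sm gd N807 = N22270 := trfs L629882 (flp_d L274737) rfl
theorem L629887 : N22270 = N1161 := eqes L629886 (flp_d L10205)
theorem L629888 : N22270 = N1161 := eqc rfl L629887 rfl
theorem L629902 : sm gh N1161 = N15307 := trfs L629888 (flp_h L189092) rfl
theorem L629903 : N15307 = N1671 := eqes L629902 L14600
theorem L629904 : N15307 = N1671 := eqc rfl L629903 rfl
theorem L629914 : sm gg N1671 = N22259 := trfs L629904 (flp_g L188995) rfl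
theorem L629915 : N22259 = N1162 := eqes L629914 L14606
theorem L629916 : N22259 = N1162 := eqc rfl L629915 rfl
theorem L629937 : sm gi N1162 = N15298 := trfs L629916 (flp_i L188988) rfl
theorem L629938 : N15298 = N1672 := eqes L629937 L14608
theorem L629939 : N15298 = N1672 := eqc rfl L629938 rfl
theorem L629951 : sm gf N1672 = N22258 := trfs L629939 L188979 rfl
theorem L629952 : N22258 = N1163 := eqes L629951 L14613
theorem L629953 : N22258 = N1163 := eqc rfl L629952 rfl
theorem L629961 : sm gc N1163 = N15300 := trfs L629953 L188982 rfl
theorem L629962 : N15300 = N812 := eqes L629961 L10220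
theorem L629963 : N15300 = N812 := eqc rfl L629962 rfl
theorem L629985 : sm gi N812 = N22261 := trfs L629963 L189008 rfl
theorem L629986 : N22261 = N560 := eqes L629985 (flp_i L7158)
theorem L629987 : N22261 = N560 := eqc rfl L629986 rfl
theorem L629996 : sm gh N560 = N32424 := trfs L629987 L274628 rfl
theorem L629997 : N32424 = N383 := eqes L629996 (flp_h L4946)
theorem L629998 : N32424 = N383 := eqc rfl L629997 rfl
theorem L630002 : sm gf N383 = N22262 := trfs L629998 L274633 rfl
theorem L630003 : N22262 = N559 := eqes L630002 L4938
theorem L630004 : N22262 = N559 := eqc rfl L630003 rfl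
theorem L630014 : sm ge N559 = N15302 := trfs L630004 L189022 rfl
theorem L630015 : N15302 = N809 := eqes L630014 L7134
theorem L630016 : N15302 = N809 := eqc rfl L630015 rfl
theorem L630032 : sm gh N809 = N10532 := trfs L630016 (flp_h L130251) rfl
theorem L630033 : N10532 = N1166 := eqes L630032 L10242
theorem L630034 : N10532 = N1166 := eqc rfl L630033 rfl
theorem L630048 : sm gi N1166 = N7261 := trfs L630034 (flp_i L89916) rfl
theorem L630049 : N7261 = N1677 := eqes L630048 L14650
theorem L630050 : N7261 = N1677 := eqc rfl L630049 rfl
theorem L630054 : sm gd N1677 = N5016 := trfs L630050 (flp_d L62209) rfl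
theorem L630055 : N5016 = N2413 := eqes L630054 (flp_d L20971)
theorem L630056 : N5016 = N2413 := eqc rfl L630055 rfl
theorem L630059 : sm gg N1677 = N5017 := trfs L630050 L62214 rfl
theorem L630060 : N5017 = N2411 := eqes L630059 (flp_g L20957)
theorem L630061 : N5017 = N2411 := eqc rfl L630060 rfl
theorem L630067 : sm gd N2411 = N3472 := trfs L630061 (flp_d L43161) rfl
theorem L630068 : N3472 = N3478 := eqes L630067 (flp_d L30071)
theorem L630069 : N3478 = N3472 := (eqc rfl L630068 rfl).symm
theorem L630074 : sm gj N2411 = N3473 := trfs L630061 L43167 rfl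
theorem L630075 : N3473 = N3476 := eqes L630074 (flp_j L30057)
theorem L630076 : N3476 = N3473 := (eqc rfl L630075 rfl).symm
theorem L630084 : sm ge N3473 = N2414 := trfs L630076 L30054 rfl
theorem L630085 : N2414 = N5020 := eqes L630084 L43187
theorem L630086 : N5020 = N2414 := (eqc rfl L630085 rfl).symm
theorem L630091 : sm gj N3473 = N2411 := trfs L630076 L30057 rfl
theorem L630094 : sm gi N3473 = N2409 := trfs L630076 (flp_i L30050) rfl
theorem L630095 : N2409 = N5021 := eqes L630094 L43195
theorem L630096 : N5021 = N2409 := (eqc rfl L630095 rfl).symm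
theorem L630113 : sm gi N2409 = N3473 := trfs L630096 (flp_i L43195) rfl
theorem L630215 : sm ge N2414 = N3473 := trfs L630086 (flp_e L43187) rfl
theorem L630232 : sm gd N3472 = N2411 := trfs L630069 L30071 rfl
theorem L630239 : sm gi N3472 = N2410 := trfs L630069 (flp_i L30067) rfl
theorem L630246 : sm gg N2413 = N3472 := trfs L630056 L43158 rfl
theorem L630445 : sm gd N1659 = N22284 := trfs L629877 L274881 rfl
theorem L630446 : N22284 = N2387 := eqes L630445 (flp_d L20748)
theorem L630447 : N22284 = N2387 := eqc rfl L630446 rfl
theorem L630458 : sm gf N2387 = N32455 := trfs L630447 L274883 rfl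
theorem L630459 : N32455 = N3423 := eqes L630458 (flp_f L29606)
theorem L630460 : N32455 = N3423 := eqc rfl L630459 rfl
theorem L630505 : sm ge N3423 = N22292 := trfs L630460 L274888 rfl
theorem L630506 : N22292 = N4949 := eqes L630505 (flp_e L42599)
theorem L630507 : N22292 = N4949 := eqc rfl L630506 rfl
theorem L630524 : sm gh N4949 = N32406 := trfs L630507 (flp_h L274476) rfl
theorem L630525 : N32406 = N7170 := eqes L630524 L61458
theorem L630526 : N32406 = N7170 := eqc rfl L630525 rfl
theorem L630530 : sm gf N7170 = N22249 := trfs L630526 (flp_f L274472) rfl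
theorem L630531 : N22249 = N10403 := eqes L630530 (flp_f L88865)
theorem L630532 : N22249 = N10403 := eqc rfl L630531 rfl
theorem L630536 : sm gd N10403 = N31797 := trfs L630532 (flp_d L269356) rfl
theorem L630537 : N31797 = N15122 := eqes L630536 L128768
theorem L630538 : N31797 = N15122 := eqc rfl L630537 rfl
theorem L630545 : sm gi N10403 = N32306 := trfs L630532 (flp_i L273664) rfl
theorem L630546 : N32306 = N15123 := eqes L630545 L128776
theorem L630547 : N32306 = N15123 := eqc rfl L630546 rfl
theorem L630550 : sm gd N15123 = N45914 := trfs L630547 (flp_d L388133) rfl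
theorem L630551 : N45914 = N22016 := eqes L630550 (flp_d L186978)
theorem L630552 : N45914 = N22016 := eqc rfl L630551 rfl
theorem L630557 : sm ge N22016 = N31468 := trfs L630552 (flp_e L388126) rfl
theorem L630558 : N31468 = N32083 := eqes L630557 (flp_e L271775)
theorem L630559 : N32083 = N31468 := (eqc rfl L630558 rfl).symm
theorem L630560 : sm gg N22016 = N31471 := trfs L630552 L388129 rfl
theorem L630561 : N31471 = N32079 := eqes L630560 (flp_g L271741)
theorem L630562 : N32079 = N31471 := (eqc rfl L630561 rfl).symm
theorem L630567 : sm gg N31471 = N22016 := trfs L630562 L271741 rfl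
theorem L630570 : sm gi N31471 = N22012 := trfs L630562 (flp_i L271736) rfl
theorem L630571 : N22012 = N21828 := eqes L630570 L266719
theorem L630572 : N22012 = N21828 := eqc rfl L630571 rfl
theorem L630575 : sm gc N21828 = N32077 := trfs L630572 L271719 rfl
theorem L630576 : N32077 = N31637 := eqes L630575 (flp_c L268075)
theorem L630577 : N32077 = N31637 := eqc rfl L630576 rfl
theorem L630581 : sm gf N21828 = N31905 := trfs L630572 (flp_f L270319) rfl
theorem L630582 : N31905 = N28575 := eqes L630581 L548419
theorem L630583 : N31905 = N28575 := eqc rfl L630582 rfl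
theorem L630590 : sm gg N28575 = N21897 := trfs L630583 L270321 rfl
theorem L630591 : N21897 = N41555 := eqes L630590 (flp_g L350992)
theorem L630592 : N41555 = N21897 := (eqc rfl L630591 rfl).symm
theorem L630596 : sm gb N21897 = N28541 := trfs L630592 L350990 rfl
theorem L630597 : N28541 = N31892 := eqes L630596 (flp_b L270214)
theorem L630598 : N31892 = N28541 := (eqc rfl L630597 rfl).symm
theorem L630599 : sm gd N21897 = N28537 := trfs L630592 (flp_d L350987) rfl
theorem L630600 : N28537 = N15044 := eqes L630599 (flp_d L186001)
theorem L630601 : N28537 = N15044 := eqc rfl L630600 rfl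
theorem L630602 : sm gg N21897 = N28575 := trfs L630592 L350992 rfl
theorem L630610 : sm gf N15044 = N41554 := trfs L630601 (flp_f L350985) rfl
theorem L630611 : N41554 = N10352 := eqes L630610 L128123
theorem L630612 : N41554 = N10352 := eqc rfl L630611 rfl
theorem L630617 : sm gi N15044 = N41556 := trfs L630601 L350995 rfl
theorem L630618 : N41556 = N21898 := eqes L630617 L186009
theorem L630619 : N41556 = N21898 := eqc rfl L630618 rfl
theorem L630625 : sm gg N21898 = N28576 := trfs L630619 L351002 rfl
theorem L630626 : N28576 = N31906 := eqes L630625 (flp_g L270332)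
theorem L630627 : N31906 = N28576 := (eqc rfl L630626 rfl).symm
theorem L630634 : sm gg N28576 = N21898 := trfs L630627 L270332 rfl
theorem L630640 : sm gb N10352 = N28540 := trfs L630612 L350982 rfl
theorem L630641 : N28540 = N15037 := eqes L630640 (flp_b L128059)
theorem L630642 : N28540 = N15037 := eqc rfl L630641 rfl
theorem L630647 : sm gc N15037 = N19632 := trfs L630642 L241673 rfl
theorem L630648 : N19632 = N21869 := eqes L630647 (flp_c L185766)
theorem L630649 : N21869 = N19632 := (eqc rfl L630648 rfl).symm
theorem L630656 : sm gg N15037 = N41561 := trfs L630642 (flp_g L351048) rfl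
theorem L630657 : N41561 = N10396 := eqes L630656 L128063
theorem L630658 : N41561 = N10396 := eqc rfl L630657 rfl
theorem L630663 : sm gc N10396 = N28546 := trfs L630658 L351044 rfl
theorem L630664 : N28546 = N15094 := eqes L630663 (flp_c L128560)
theorem L630665 : N28546 = N15094 := eqc rfl L630664 rfl
theorem L630668 : sm ga N15094 = N19643 := trfs L630665 L241724 rfl
theorem L630669 : N19643 = N21936 := eqes L630668 (flp_a L186347)
theorem L630670 : N21936 = N19643 := (eqc rfl L630669 rfl).symm
theorem L630672 : sm gd N15094 = N19850 := trfs L630665 L241731 rfl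
theorem L630673 : N19850 = N21975 := eqes L630672 L186673
theorem L630674 : N21975 = N19850 := (eqc rfl L630673 rfl).symm
theorem L630678 : sm gf N15094 = N19662 := trfs L630665 L241727 rfl
theorem L630679 : N19662 = N21972 := eqes L630678 (flp_f L186652)
theorem L630680 : N21972 = N19662 := (eqc rfl L630679 rfl).symm
theorem L630686 : sm gh N15094 = N19631 := trfs L630665 (flp_h L241722) rfl
theorem L630687 : N19631 = N10382 := eqes L630686 (flp_h L128557)
theorem L630688 : N19631 = N10382 := eqc rfl L630687 rfl
theorem L630689 : sm gi N15094 = N41572 := trfs L630665 L351142 rfl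
theorem L630690 : N41572 = N21976 := eqes L630689 L186678
theorem L630691 : N41572 = N21976 := eqc rfl L630690 rfl
theorem L630695 : sm gd N21976 = N28873 := trfs L630691 L351147 rfl
theorem L630696 : N28873 = N32028 := eqes L630695 (flp_d L271361)
theorem L630697 : N32028 = N28873 := (eqc rfl L630696 rfl).symm
theorem L630698 : sm gf N21976 = N28592 := trfs L630691 L351149 rfl
theorem L630699 : N28592 = N32022 := eqes L630698 (flp_f L271319)
theorem L630700 : N32022 = N28592 := (eqc rfl L630699 rfl).symm
theorem L630701 : sm gg N21976 = N28547 := trfs L630691 L351151 rfl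
theorem L630702 : N28547 = N31869 := eqes L630701 (flp_g L270029)
theorem L630703 : N31869 = N28547 := (eqc rfl L630702 rfl).symm
theorem L630708 : sm ge N28547 = N21876 := trfs L630703 L270027 rfl
theorem L630709 : N21876 = N41570 := eqes L630708 (flp_e L351127)
theorem L630710 : N41570 = N21876 := (eqc rfl L630709 rfl).symm
theorem L630711 : sm gg N28547 = N21976 := trfs L630703 L270029 rfl
theorem L630713 : sm gj N28547 = N21871 := trfs L630703 L270031 rfl
theorem L630714 : N21871 = N41527 := eqes L630713 (flp_j L350737)
theorem L630715 : N41527 = N21871 := (eqc rfl L630714 rfl).symm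
theorem L630721 : sm gd N21871 = N28792 := trfs L630715 L350733 rfl
theorem L630722 : N28792 = N31872 := eqes L630721 (flp_d L270050)
theorem L630723 : N31872 = N28792 := (eqc rfl L630722 rfl).symm
theorem L630726 : sm gj N21871 = N28547 := trfs L630715 L350737 rfl
theorem L630729 : sm gi N21871 = N28516 := trfs L630715 (flp_i L350728) rfl
theorem L630730 : N28516 = N15024 := eqes L630729 (flp_i L185779)
theorem L630731 : N28516 = N15024 := eqc rfl L630730 rfl
theorem L630732 : sm ga N15024 = N19619 := trfs L630731 L241447 rfl
theorem L630733 : N19619 = N21843 := eqes L630732 (flp_a L185519)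
theorem L630734 : N21843 = N19619 := (eqc rfl L630733 rfl).symm
theorem L630737 : sm gd N15024 = N19795 := trfs L630731 L241454 rfl
theorem L630738 : N19795 = N21870 := eqes L630737 L185774
theorem L630739 : N21870 = N19795 := (eqc rfl L630738 rfl).symm
theorem L630750 : sm gh N15024 = N19612 := trfs L630731 (flp_h L241445) rfl
theorem L630751 : N19612 = N10335 := eqes L630750 (flp_h L127945)
theorem L630752 : N19612 = N10335 := eqc rfl L630751 rfl
theorem L630753 : sm ga N10335 = N13506 := trfs L630752 L166487 rfl
theorem L630754 : N13506 = N15005 := eqes L630753 (flp_a L127762)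
theorem L630755 : N15005 = N13506 := (eqc rfl L630754 rfl).symm
theorem L630758 : sm gd N10335 = N13504 := trfs L630752 L166490 rfl
theorem L630759 : N13504 = N15020 := eqes L630758 (flp_d L127913)
theorem L630760 : N15020 = N13504 := (eqc rfl L630759 rfl).symm
theorem L630769 : sm gj N10335 = N13515 := trfs L630752 L166492 rfl
theorem L630770 : N13515 = N15023 := eqes L630769 L127935
theorem L630771 : N15023 = N13515 := (eqc rfl L630770 rfl).symm
theorem L630782 : sm ge N13515 = N10337 := trfs L630771 L127940 rfl
theorem L630783 : N10337 = N19630 := eqes L630782 L166654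
theorem L630784 : N19630 = N10337 := (eqc rfl L630783 rfl).symm
theorem L630788 : sm gj N13515 = N10335 := trfs L630771 (flp_j L127935) rfl
theorem L630792 : sm ga N10337 = N13520 := trfs L630784 L166656 rfl
theorem L630793 : N13520 = N15007 := eqes L630792 (flp_a L127782)
theorem L630794 : N15007 = N13520 := (eqc rfl L630793 rfl).symm
theorem L630802 : sm ge N10337 = N13515 := trfs L630784 (flp_e L166654) rfl
theorem L630809 : sm gh N10337 = N28544 := trfs L630784 L241704 rfl
theorem L630810 : N28544 = N15027 := eqes L630809 L127971
theorem L630811 : N28544 = N15027 := eqc rfl L630810 rfl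
theorem L630813 : sm ga N15027 = N19641 := trfs L630811 L241706 rfl
theorem L630814 : N19641 = N21846 := eqes L630813 (flp_a L185548)
theorem L630815 : N21846 = N19641 := (eqc rfl L630814 rfl).symm
theorem L630818 : sm gd N15027 = N41569 := trfs L630811 L351114 rfl
theorem L630819 : N41569 = N21875 := eqes L630818 L185811
theorem L630820 : N41569 = N21875 := eqc rfl L630819 rfl
theorem L630827 : sm ga N21875 = N28560 := trfs L630820 L351116 rfl
theorem L630828 : N28560 = N30336 := eqes L630827 L568115
theorem L630829 : N30336 = N28560 := (eqc rfl L630828 rfl).symm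
theorem L630831 : sm ge N21875 = N28870 := trfs L630820 L351120 rfl
theorem L630832 : N28870 = N30252 := eqes L630831 (flp_e L621709)
theorem L630833 : N30252 = N28870 := (eqc rfl L630832 rfl).symm
theorem L630839 : sm gc N28870 = N20961 := trfs L630833 L256528 rfl
theorem L630840 : N20961 = N42057 := eqes L630839 L355510
theorem L630841 : N42057 = N20961 := (eqc rfl L630840 rfl).symm
theorem L630845 : sm ge N28870 = N21875 := trfs L630833 L621709 rfl
theorem L630847 : sm gf N28870 = N41848 := trfs L630833 (flp_f L353599) rfl
theorem L630848 : N41848 = N20956 := eqes L630847 L244648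
theorem L630849 : N41848 = N20956 := eqc rfl L630848 rfl
theorem L630850 : sm gg N28870 = N21986 := trfs L630833 L621711 rfl
theorem L630851 : N21986 = N42055 := eqes L630850 (flp_g L355499)
theorem L630852 : N42055 = N21986 := (eqc rfl L630851 rfl).symm
theorem L630853 : sm gj N28870 = N21877 := trfs L630833 L621713 rfl
theorem L630854 : N21877 = N41934 := eqes L630853 (flp_j L354392)
theorem L630855 : N41934 = N21877 := (eqc rfl L630854 rfl).symm
theorem L630856 : sm gh N28870 = N20777 := trfs L630833 (flp_h L256525) rfl
theorem L630857 : N20777 = N41843 := eqes L630856 (flp_h L353558)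
theorem L630858 : N41843 = N20777 := (eqc rfl L630857 rfl).symm
theorem L630859 : sm gi N28870 = N44108 := trfs L630833 L373087 rfl
theorem L630860 : N44108 = N42058 := eqes L630859 L355516
theorem L630861 : N44108 = N42058 := eqc rfl L630860 rfl
theorem L630863 : sm gc N42058 = N30529 := trfs L630861 L373090 rfl
theorem L630865 : sm ge N42058 = N31880 := trfs L630861 (flp_e L607594) rfl
theorem L630867 : sm ga N20777 = N28744 := trfs L630858 L353553 rfl
theorem L630868 : N28744 = N30235 := eqes L630867 (flp_a L256384)
theorem L630869 : N30235 = N28744 := (eqc rfl L630868 rfl).symm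
theorem L630871 : sm gd N20777 = N28728 := trfs L630858 (flp_d L353551) rfl
theorem L630872 : N28728 = N14285 := eqes L630871 (flp_d L176605)
theorem L630873 : N28728 = N14285 := eqc rfl L630872 rfl
theorem L630874 : sm gf N20777 = N30247 := trfs L630858 L353556 rfl
theorem L630875 : N30247 = N28732 := eqes L630874 (flp_f L243375)
theorem L630876 : N30247 = N28732 := eqc rfl L630875 rfl
theorem L630877 : sm gh N20777 = N28870 := trfs L630858 L353558 rfl
theorem L630879 : sm ga N28732 = N20789 := trfs L630876 L256485 rfl
theorem L630880 : N20789 = N41831 := eqes L630879 (flp_a L353451)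
theorem L630881 : N41831 = N20789 := (eqc rfl L630880 rfl).symm
theorem L630886 : sm gd N28732 = N20773 := trfs L630876 (flp_d L256483) rfl
theorem L630887 : N20773 = N19757 := eqes L630886 (flp_d L243372)
theorem L630888 : N20773 = N19757 := eqc rfl L630887 rfl
theorem L630890 : sm gg N28732 = N44099 := trfs L630876 (flp_g L373019) rfl
theorem L630891 : N44099 = N41847 := eqes L630890 L353585
theorem L630892 : N44099 = N41847 := eqc rfl L630891 rfl
theorem L630893 : sm gj N28732 = N43917 := trfs L630876 (flp_j L371510) rfl
theorem L630894 : N43917 = N24033 := eqes L630893 (flp_j L611526)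
theorem L630895 : N43917 = N24033 := eqc rfl L630894 rfl
theorem L630898 : sm gi N28732 = N44102 := trfs L630876 L373040 rfl
theorem L630899 : N44102 = N41802 := eqes L630898 (flp_i L353199)
theorem L630900 : N44102 = N41802 := eqc rfl L630899 rfl
theorem L630901 : sm ga N41802 = N30272 := trfs L630900 L373042 rfl
theorem L630902 : N30272 = N30382 := eqes L630901 L621469
theorem L630903 : N30382 = N30272 := (eqc rfl L630902 rfl).symm
theorem L630905 : sm gd N41802 = N30248 := trfs L630900 L373045 rfl
theorem L630906 : N30248 = N28703 := eqes L630905 (flp_d L353194)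
theorem L630907 : N30248 = N28703 := eqc rfl L630906 rfl
theorem L630909 : sm ga N28703 = N20790 := trfs L630907 L256493 rfl
theorem L630910 : N20790 = N24162 := eqes L630909 L567025
theorem L630911 : N24162 = N20790 := (eqc rfl L630910 rfl).symm
theorem L630916 : sm ge N28703 = N20776 := trfs L630907 L256496 rfl
theorem L630917 : N20776 = N19737 := eqes L630916 (flp_e L243126)
theorem L630918 : N20776 = N19737 := eqc rfl L630917 rfl
theorem L630922 : sm gg N28703 = N44100 := trfs L630907 (flp_g L373031) rfl
theorem L630923 : N44100 = N41803 := eqes L630922 L353204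
theorem L630924 : N44100 = N41803 := eqc rfl L630923 rfl
theorem L630928 : sm gh N28703 = N24148 := trfs L630907 L483896 rfl
theorem L630929 : N24148 = N41804 := eqes L630928 L353213
theorem L630930 : N41804 = N24148 := (eqc rfl L630929 rfl).symm
theorem L630933 : sm gc N24148 = N28709 := trfs L630930 L353216 rfl
theorem L630934 : N28709 = N35183 := eqes L630933 (flp_c L298273)
theorem L630935 : N35183 = N28709 := (eqc rfl L630934 rfl).symm
theorem L630936 : sm ge N24148 = N28705 := trfs L630930 L353218 rfl
theorem L630937 : N28705 = N16590 := eqes L630936 L205336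
theorem L630938 : N28705 = N16590 := eqc rfl L630937 rfl
theorem L630939 : sm gf N24148 = N30208 := trfs L630930 L353220 rfl
theorem L630940 : N30208 = N35186 := eqes L630939 (flp_f L298297)
theorem L630941 : N35186 = N30208 := (eqc rfl L630940 rfl).symm
theorem L630942 : sm gh N24148 = N28703 := trfs L630930 (flp_h L353213) rfl
theorem L630945 : sm ge N30208 = N24448 := trfs L630941 L298295 rfl
theorem L630946 : N24448 = N20750 := eqes L630945 L256176
theorem L630947 : N24448 = N20750 := eqc rfl L630946 rfl
theorem L630948 : sm gf N30208 = N24148 := trfs L630941 L298297 rfl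
theorem L630950 : sm gi N30208 = N24147 := trfs L630941 (flp_i L298292) rfl
theorem L630951 : N24147 = N44043 := eqes L630950 L372570
theorem L630952 : N44043 = N24147 := (eqc rfl L630951 rfl).symm
theorem L630954 : sm gc N24147 = N30219 := trfs L630952 L372573 rfl
theorem L630955 : N30219 = N35182 := eqes L630954 (flp_c L298265)
theorem L630956 : N35182 = N30219 := (eqc rfl L630955 rfl).symm
theorem L630957 : sm ge N24147 = N30212 := trfs L630952 L372575 rfl
theorem L630958 : N30212 = N16804 := eqes L630957 L205331
theorem L630959 : N30212 = N16804 := eqc rfl L630958 rfl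
theorem L630960 : sm gh N24147 = N30257 := trfs L630952 L372577 rfl
theorem L630961 : N30257 = N16599 := eqes L630960 L205329
theorem L630962 : N30257 = N16599 := eqc rfl L630961 rfl
theorem L630963 : sm gi N24147 = N30208 := trfs L630952 (flp_i L372570) rfl
theorem L630972 : sm ge N16599 = N20783 := trfs L630962 L256562 rfl
theorem L630973 : N20783 = N11573 := eqes L630972 L141583
theorem L630974 : N20783 = N11573 := eqc rfl L630973 rfl
theorem L630978 : sm gg N16599 = N44113 := trfs L630962 (flp_g L373131) rfl
theorem L630979 : N44113 = N24165 := eqes L630978 L205452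
theorem L630980 : N44113 = N24165 := eqc rfl L630979 rfl
theorem L630984 : sm gi N16599 = N20779 := trfs L630962 (flp_i L256557) rfl
theorem L630985 : N20779 = N19752 := eqes L630984 (flp_i L567606)
theorem L630986 : N20779 = N19752 := eqc rfl L630985 rfl
theorem L630991 : sm gc N19752 = N14291 := trfs L630986 L176622 rfl
theorem L630992 : N14291 = N28722 := eqes L630991 (flp_c L243296)
theorem L630993 : N28722 = N14291 := (eqc rfl L630992 rfl).symm
theorem L630997 : sm ge N19752 = N14287 := trfs L630986 L176624 rfl
theorem L630998 : N14287 = N13597 := eqes L630997 (flp_e L167738)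
theorem L630999 : N14287 = N13597 := eqc rfl L630998 rfl
theorem L631000 : sm gf N19752 = N28734 := trfs L630986 (flp_f L243394) rfl
theorem L631001 : N28734 = N14280 := eqes L631000 L167745
theorem L631002 : N28734 = N14280 := eqc rfl L631001 rfl
theorem L631003 : sm gg N19752 = N30255 := trfs L630986 (flp_g L256552) rfl
theorem L631004 : N30255 = N28727 := eqes L631003 L243331
theorem L631005 : N30255 = N28727 := eqc rfl L631004 rfl
theorem L631006 : sm gj N19752 = N30131 := trfs L630986 (flp_j L255529) rfl
theorem L631007 : N30131 = N28673 := eqes L631006 (flp_j L242867)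
theorem L631008 : N30131 = N28673 := eqc rfl L631007 rfl
theorem L631015 : sm gc N28673 = N20702 := trfs L631008 L255525 rfl
theorem L631016 : N20702 = N41756 := eqes L631015 (flp_c L352793)
theorem L631017 : N41756 = N20702 := (eqc rfl L631016 rfl).symm
theorem L631021 : sm ge N28673 = N20698 := trfs L631008 L255527 rfl
theorem L631022 : N20698 = N19718 := eqes L631021 (flp_e L242862)
theorem L631023 : N20698 = N19718 := eqc rfl L631022 rfl
theorem L631024 : sm gf N28673 = N41768 := trfs L631008 (flp_f L352902) rfl
theorem L631025 : N41768 = N20691 := eqes L631024 L242871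
theorem L631026 : N41768 = N20691 := eqc rfl L631025 rfl
theorem L631027 : sm gg N28673 = N24015 := trfs L631008 L612304 rfl
theorem L631028 : N24015 = N41761 := eqes L631027 L352833
theorem L631029 : N41761 = N24015 := (eqc rfl L631028 rfl).symm
theorem L631030 : sm gh N28673 = N20696 := trfs L631008 (flp_h L255522) rfl
theorem L631031 : N20696 = N41762 := eqes L631030 L352842
theorem L631032 : N41762 = N20696 := (eqc rfl L631031 rfl).symm
theorem L631034 : sm ga N20696 = N28684 := trfs L631032 L352844 rfl
theorem L631035 : N28684 = N30105 := eqes L631034 L620589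
theorem L631036 : N30105 = N28684 := (eqc rfl L631035 rfl).symm
theorem L631038 : sm ge N20696 = N28675 := trfs L631032 L352847 rfl
theorem L631039 : N28675 = N14231 := eqes L631038 (flp_e L175943)
theorem L631040 : N28675 = N14231 := eqc rfl L631039 rfl
theorem L631041 : sm gf N20696 = N30125 := trfs L631032 L352849 rfl
theorem L631042 : N30125 = N28678 := eqes L631041 (flp_f L242915)
theorem L631043 : N30125 = N28678 := eqc rfl L631042 rfl
theorem L631045 : sm gh N20696 = N28673 := trfs L631032 (flp_h L352842) rfl
theorem L631052 : sm ge N28678 = N20693 := trfs L631043 L255475 rfl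
theorem L631053 : N20693 = N19721 := eqes L631052 (flp_e L242908)
theorem L631054 : N20693 = N19721 := eqc rfl L631053 rfl
theorem L631055 : sm gg N28678 = N43878 := trfs L631043 (flp_g L620567) rfl
theorem L631056 : N43878 = N41767 := eqes L631055 L352888
theorem L631057 : N43878 = N41767 := eqc rfl L631056 rfl
theorem L631062 : sm ga N41767 = N30140 := trfs L631057 L620563 rfl
theorem L631065 : sm gc N41767 = N30106 := trfs L631057 L371162 rfl
theorem L631066 : N30106 = N28683 := eqes L631065 L352891
theorem L631067 : N30106 = N28683 := eqc rfl L631066 rfl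
theorem L631068 : sm ge N41767 = N30102 := trfs L631057 L371164 rfl
theorem L631069 : N30102 = N28679 := eqes L631068 L352893
theorem L631070 : N30102 = N28679 := eqc rfl L631069 rfl
theorem L631071 : sm gj N41767 = N30208 := trfs L631057 L371166 rfl
theorem L631073 : sm gh N41767 = N30100 := trfs L631057 (flp_h L371159) rfl
theorem L631075 : sm ga N28679 = N20704 := trfs L631070 L621145 rfl
theorem L631076 : N20704 = N41757 := eqes L631075 (flp_a L352801)
theorem L631077 : N41757 = N20704 := (eqc rfl L631076 rfl).symm
theorem L631079 : sm gc N28679 = N20680 := trfs L631070 L255273 rfl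
theorem L631080 : N20680 = N19724 := eqes L631079 L242920
theorem L631081 : N20680 = N19724 := eqc rfl L631080 rfl
theorem L631083 : sm gf N28679 = N20677 := trfs L631070 L255275 rfl
theorem L631084 : N20677 = N41713 := eqes L631083 (flp_f L352392)
theorem L631085 : N41713 = N20677 := (eqc rfl L631084 rfl).symm
theorem L631087 : sm gj N28679 = N20750 := trfs L631070 L255277 rfl
theorem L631088 : N20750 = N41769 := eqes L631087 L352906
theorem L631089 : N41769 = N20750 := (eqc rfl L631088 rfl).symm
theorem L631090 : sm gh N28679 = N20676 := trfs L631070 (flp_h L255270) rfl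
theorem L631091 : N20676 = N41770 := eqes L631090 L352914
theorem L631092 : N41770 = N20676 := (eqc rfl L631091 rfl).symm
theorem L631093 : sm gi N28679 = N43882 := trfs L631070 L371195 rfl
theorem L631094 : N43882 = N41738 := eqes L631093 (flp_i L352623)
theorem L631095 : N43882 = N41738 := eqc rfl L631094 rfl
theorem L631099 : sm gc N41738 = N30109 := trfs L631095 L371198 rfl
theorem L631100 : N30109 = N28661 := eqes L631099 L352620
theorem L631101 : N30109 = N28661 := eqc rfl L631100 rfl
theorem L631105 : sm gg N41738 = N30128 := trfs L631095 L621160 rfl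
theorem L631106 : N30128 = N28658 := eqes L631105 (flp_g L352617)
theorem L631107 : N30128 = N28658 := eqc rfl L631106 rfl
theorem L631108 : sm gj N41738 = N16804 := trfs L631095 L371202 L630959
theorem L631110 : N41738 = N24329 := eqes (flp_j L631108) (flp_j L206831)
theorem L631111 : N41738 = N24329 := eqc rfl L631110 rfl
theorem L631112 : N43882 = N24329 := L631095.trans L631111
theorem L631113 : sm gh N24329 = N30135 := trfs L631112 L371204 rfl
theorem L631114 : N30135 = N16731 := eqes L631113 L206833
theorem L631115 : N30135 = N16731 := eqc rfl L631114 rfl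
theorem L631120 : sm gc N16731 = N20705 := trfs L631115 L255560 rfl
theorem L631121 : N20705 = N24344 := eqes L631120 (flp_c L206945)
theorem L631122 : N24344 = N20705 := (eqc rfl L631121 rfl).symm
theorem L631123 : sm gd N16731 = N24013 := trfs L631115 L609972 rfl
theorem L631124 : N24013 = N11519 := eqes L631123 L142669
theorem L631125 : N24013 = N11519 := eqc rfl L631124 rfl
theorem L631127 : sm gf N16731 = N20700 := trfs L631115 L255562 rfl
theorem L631128 : N20700 = N11515 := eqes L631127 (flp_f L142666)
theorem L631129 : N20700 = N11515 := eqc rfl L631128 rfl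
theorem L631130 : sm gg N16731 = N24016 := trfs L631115 (flp_g L609981) rfl
theorem L631131 : N24016 = N24347 := eqes L631130 L206965
theorem L631132 : N24347 = N24016 := (eqc rfl L631131 rfl).symm
theorem L631141 : sm gd N24016 = N16737 := trfs L631132 L206968 rfl
theorem L631142 : N16737 = N16498 := eqes L631141 L204226
theorem L631143 : N16737 = N16498 := eqc rfl L631142 rfl
theorem L631144 : sm ge N24016 = N35015 := trfs L631132 (flp_e L296863) rfl
theorem L631145 : N35015 = N34993 := eqes L631144 (flp_e L296683)
theorem L631146 : N35015 = N34993 := eqc rfl L631145 rfl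
theorem L631150 : sm gg N24016 = N16731 := trfs L631132 (flp_g L206965) rfl
theorem L631158 : sm gi N24016 = N28674 := trfs L631132 (flp_i L484509) rfl
theorem L631159 : N28674 = N16497 := eqes L631158 (flp_i L204223)
theorem L631160 : N28674 = N16497 := eqc rfl L631159 rfl
theorem L631165 : sm gd N16497 = N19720 := trfs L631160 L242878 rfl
theorem L631166 : N19720 = N11350 := eqes L631165 (flp_d L140710)
theorem L631167 : N19720 = N11350 := eqc rfl L631166 rfl
theorem L631177 : sm gh N16497 = N41764 := trfs L631160 L352862 rfl
theorem L631178 : N41764 = N11354 := eqes L631177 L140717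
theorem L631179 : N41764 = N11354 := eqc rfl L631178 rfl
theorem L631180 : sm ga N11354 = N28686 := trfs L631179 L352864 rfl
theorem L631181 : N28686 = N14219 := eqes L631180 L567575
theorem L631182 : N28686 = N14219 := eqc rfl L631181 rfl
theorem L631185 : sm gb N14219 = N19731 := trfs L631182 L242975 rfl
theorem L631186 : N19731 = N9797 := eqes L631185 L121196
theorem L631187 : N19731 = N9797 := eqc rfl L631186 rfl
theorem L631198 : sm gg N14219 = N19725 := trfs L631182 L242977 rfl
theorem L631199 : N19725 = N20679 := eqes L631198 L175791
theorem L631200 : N20679 = N19725 := (eqc rfl L631199 rfl).symm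
theorem L631206 : sm gi N14219 = N41781 := trfs L631182 L353007 rfl
theorem L631207 : N41781 = N9804 := eqes L631206 L121202
theorem L631208 : N41781 = N9804 := eqc rfl L631207 rfl
theorem L631212 : sm gg N9804 = N28687 := trfs L631208 L353011 rfl
theorem L631213 : N28687 = N14234 := eqes L631212 L121324
theorem L631214 : N28687 = N14234 := eqc rfl L631213 rfl
theorem L631218 : sm gb N14234 = N19732 := trfs L631214 L242981 rfl
theorem L631219 : N19732 = N9808 := eqes L631218 L121326
theorem L631220 : N19732 = N9808 := eqc rfl L631219 rfl
theorem L631230 : sm gf N14234 = N19726 := trfs L631214 L242983 rfl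
theorem L631231 : N19726 = N11514 := eqes L631230 L621203
theorem L631232 : N19726 = N11514 := eqc rfl L631231 rfl
theorem L631233 : sm gj N14234 = N19766 := trfs L631214 L242985 rfl
theorem L631234 : N19766 = N11419 := eqes L631233 (flp_j L621247)
theorem L631235 : N19766 = N11419 := eqc rfl L631234 rfl
theorem L631236 : sm gh N14234 = N41746 := trfs L631214 (flp_h L352698) rfl
theorem L631237 : N41746 = N20704 := eqes L631236 L176005
theorem L631238 : N41746 = N20704 := eqc rfl L631237 rfl
theorem L631241 : sm gb N20704 = N28669 := trfs L631238 L352691 rfl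
theorem L631242 : N28669 = N14241 := eqes L631241 L176007
theorem L631243 : N28669 = N14241 := eqc rfl L631242 rfl
theorem L631245 : sm gf N20704 = N28663 := trfs L631238 L352694 rfl
theorem L631246 : N28663 = N16720 := eqes L631245 L620954
theorem L631247 : N28663 = N16720 := eqc rfl L631246 rfl
theorem L631248 : sm gj N20704 = N28712 := trfs L631238 L352696 rfl
theorem L631249 : N28712 = N16588 := eqes L631248 L620957
theorem L631250 : N28712 = N16588 := eqc rfl L631249 rfl
theorem L631251 : sm gi N20704 = N28662 := trfs L631238 (flp_i L352689) rfl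
theorem L631252 : N28662 = N30144 := eqes L631251 L255632
theorem L631253 : N30144 = N28662 := (eqc rfl L631252 rfl).symm
theorem L631255 : sm gb N28662 = N20712 := trfs L631253 L255634 rfl
theorem L631256 : N20712 = N19714 := eqes L631255 L242756
theorem L631257 : N20712 = N19714 := eqc rfl L631256 rfl
theorem L631258 : sm gc N28662 = N24016 := trfs L631253 L620922 rfl
theorem L631259 : N24016 = N41739 := eqes L631258 (flp_c L352628)
theorem L631260 : N41739 = N24016 := (eqc rfl L631259 rfl).symm
theorem L631262 : sm ge N28662 = N43940 := trfs L631253 (flp_e L371700) rfl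
theorem L631263 : N43940 = N41743 := eqes L631262 (flp_e L352666)
theorem L631264 : N43940 = N41743 := eqc rfl L631263 rfl
theorem L631265 : sm gf N28662 = N24328 := trfs L631253 L620925 rfl
theorem L631266 : N24328 = N19710 := eqes L631265 L242758
theorem L631267 : N24328 = N19710 := eqc rfl L631266 rfl
theorem L631268 : sm gg N28662 = N20705 := trfs L631253 L255637 rfl
theorem L631269 : N20705 = N41745 := eqes L631268 (flp_g L352686)
theorem L631270 : N41745 = N20705 := (eqc rfl L631269 rfl).symm
theorem L631271 : sm gj N28662 = N24146 := trfs L631253 L620927 rfl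
theorem L631272 : N24146 = N19741 := eqes L631271 L242760
theorem L631273 : N24146 = N19741 := eqc rfl L631272 rfl
theorem L631275 : sm gi N28662 = N20704 := trfs L631253 (flp_i L255632) rfl
theorem L631285 : sm gf N19741 = N16803 := trfs L631273 L205324 rfl
theorem L631286 : N16803 = N13589 := eqes L631285 L167646
theorem L631287 : N16803 = N13589 := eqc rfl L631286 rfl
theorem L631288 : sm gg N19741 = N30273 := trfs L631273 (flp_g L620726) rfl
theorem L631289 : N30273 = N28711 := eqes L631288 (flp_g L243199)
theorem L631290 : N30273 = N28711 := eqc rfl L631289 rfl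
theorem L631291 : sm gh N19741 = N30241 := trfs L631273 (flp_h L485041) rfl
theorem L631292 : N30241 = N13588 := eqes L631291 (flp_h L167642)
theorem L631293 : N30241 = N13588 := eqc rfl L631292 rfl
theorem L631312 : sm gi N13588 = N20769 := trfs L631293 (flp_i L256433) rfl
theorem L631313 : N20769 = N9382 := eqes L631312 L115711
theorem L631314 : N20769 = N9382 := eqc rfl L631313 rfl
theorem L631319 : sm gc N9382 = N14282 := trfs L631314 L176545 rfl
theorem L631320 : N14282 = N13600 := eqes L631319 (flp_c L115814)
theorem L631321 : N14282 = N13600 := eqc rfl L631320 rfl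
theorem L631335 : sm gh N9382 = N14278 := trfs L631314 (flp_h L176541) rfl
theorem L631336 : N14278 = N13604 := eqes L631335 L115840
theorem L631337 : N14278 = N13604 := eqc rfl L631336 rfl
theorem L631338 : sm ga N13604 = N9839 := trfs L631337 L121694 rfl
theorem L631339 : N9839 = N19754 := eqes L631338 (flp_a L167757)
theorem L631340 : N19754 = N9839 := (eqc rfl L631339 rfl).symm
theorem L631344 : sm gc N13604 = N9836 := trfs L631337 L121696 rfl
theorem L631345 : N9836 = N19759 := eqes L631344 (flp_c L167796)
theorem L631346 : N19759 = N9836 := (eqc rfl L631345 rfl).symm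
theorem L631347 : sm gd N13604 = N10696 := trfs L631337 L121698 rfl
theorem L631348 : N10696 = N19603 := eqes L631347 (flp_d L166416)
theorem L631349 : N19603 = N10696 := (eqc rfl L631348 rfl).symm
theorem L631350 : sm ge N13604 = N20767 := trfs L631337 L176526 rfl
theorem L631351 : N20767 = N19763 := eqes L631350 (flp_e L167825)
theorem L631352 : N20767 = N19763 := eqc rfl L631351 rfl
theorem L631353 : sm gf N13604 = N9835 := trfs L631337 (flp_f L121692) rfl
theorem L631354 : N9835 = N9383 := eqes L631353 L115844
theorem L631355 : N9835 = N9383 := eqc rfl L631354 rfl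
theorem L631356 : sm gg N13604 = N20755 := trfs L631337 L621267 rfl
theorem L631357 : N20755 = N19765 := eqes L631356 (flp_g L167841)
theorem L631358 : N20755 = N19765 := eqc rfl L631357 rfl
theorem L631362 : sm ga N19765 = N14286 := trfs L631358 (flp_a L621282) rfl
theorem L631363 : N14286 = N28730 := eqes L631362 (flp_a L243359)
theorem L631364 : N28730 = N14286 := (eqc rfl L631363 rfl).symm
theorem L631365 : sm gb N19765 = N14274 := trfs L631358 L176433 rfl
theorem L631366 : N14274 = N13610 := eqes L631365 L167838
theorem L631367 : N14274 = N13610 := eqc rfl L631366 rfl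
theorem L631368 : sm gc N19765 = N14281 := trfs L631358 (flp_c L621356) rfl
theorem L631369 : N14281 = N28736 := eqes L631368 (flp_c L243406)
theorem L631370 : N28736 = N14281 := (eqc rfl L631369 rfl).symm
theorem L631371 : sm gd N19765 = N14271 := trfs L631358 L176435 rfl
theorem L631372 : N14271 = N28502 := eqes L631371 (flp_d L241331)
theorem L631373 : N28502 = N14271 := (eqc rfl L631372 rfl).symm
theorem L631374 : sm ge N19765 = N30216 := trfs L631358 (flp_e L256239) rfl
theorem L631375 : N30216 = N28743 := eqes L631374 (flp_e L243458)
theorem L631376 : N30216 = N28743 := eqc rfl L631375 rfl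
theorem L631378 : sm gj N19765 = N14268 := trfs L631358 (flp_j L176431) rfl
theorem L631379 : N14268 = N28746 := eqes L631378 (flp_j L243483)
theorem L631380 : N28746 = N14268 := (eqc rfl L631379 rfl).symm
theorem L631382 : sm gi N19765 = N14292 := trfs L631358 L176438 rfl
theorem L631383 : N14292 = N28747 := eqes L631382 L243485
theorem L631384 : N28747 = N14292 := (eqc rfl L631383 rfl).symm
theorem L631388 : sm gb N14292 = N19773 := trfs L631384 L243487 rfl
theorem L631389 : N19773 = N9848 := eqes L631388 L121797
theorem L631390 : N19773 = N9848 := eqc rfl L631389 rfl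
theorem L631405 : sm gh N14292 = N41817 := trfs L631384 (flp_h L353334) rfl
theorem L631406 : N41817 = N20791 := eqes L631405 L176707
theorem L631407 : N41817 = N20791 := eqc rfl L631406 rfl
theorem L631408 : sm gi N14292 = N19765 := trfs L631384 (flp_i L243485) rfl
theorem L631410 : sm gb N20791 = N28719 := trfs L631407 L353328 rfl
theorem L631411 : N28719 = N14300 := eqes L631410 L176709
theorem L631412 : N28719 = N14300 := eqc rfl L631411 rfl
theorem L631421 : sm ge N14300 = N41822 := trfs L631412 (flp_e L353376) rfl
theorem L631422 : N41822 = N20795 := eqes L631421 (flp_e L176743)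
theorem L631423 : N41822 = N20795 := eqc rfl L631422 rfl
theorem L631425 : sm gg N14300 = N19748 := trfs L631412 L243272 rfl
theorem L631426 : N19748 = N20711 := eqes L631425 (flp_g L176065)
theorem L631427 : N20711 = N19748 := (eqc rfl L631426 rfl).symm
theorem L631432 : sm gi N14300 = N19747 := trfs L631412 (flp_i L243266) rfl
theorem L631433 : N19747 = N20800 := eqes L631432 L176776
theorem L631434 : N20800 = N19747 := (eqc rfl L631433 rfl).symm
theorem L631439 : sm ge N19747 = N30279 := trfs L631434 (flp_e L256726) rfl
theorem L631440 : N30279 = N28715 := eqes L631439 (flp_e L243236)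
theorem L631441 : N30279 = N28715 := eqc rfl L631440 rfl
theorem L631444 : sm gj N19747 = N14301 := trfs L631434 L176782 rfl
theorem L631445 : N14301 = N28718 := eqes L631444 (flp_j L243263)
theorem L631446 : N28718 = N14301 := (eqc rfl L631445 rfl).symm
theorem L631447 : sm gh N19747 = N30229 := trfs L631434 (flp_h L256342) rfl
theorem L631448 : N30229 = N13592 := eqes L631447 (flp_h L167697)
theorem L631449 : N30229 = N13592 := eqc rfl L631448 rfl
theorem L631450 : sm gi N19747 = N14300 := trfs L631434 (flp_i L176776) rfl
theorem L631463 : sm gj N13592 = N20764 := trfs L631449 L256340 rfl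
theorem L631464 : N20764 = N19746 := eqes L631463 L167688
theorem L631465 : N20764 = N19746 := eqc rfl L631464 rfl
theorem L631466 : sm gi N13592 = N20763 := trfs L631449 (flp_i L256335) rfl
theorem L631467 : N20763 = N9386 := eqes L631466 L115748
theorem L631468 : N20763 = N9386 := eqc rfl L631467 rfl
theorem L631480 : sm gj N9386 = N14275 := trfs L631468 L176500 rfl
theorem L631481 : N14275 = N13609 := eqes L631480 L115877
theorem L631482 : N14275 = N13609 := eqc rfl L631481 rfl
theorem L631485 : sm gb N13609 = N20756 := trfs L631482 (flp_b L176442) rfl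
theorem L631486 : N20756 = N19764 := eqes L631485 (flp_b L167831)
theorem L631487 : N20756 = N19764 := eqc rfl L631486 rfl
theorem L631492 : sm ge N13609 = N20760 := trfs L631482 (flp_e L176478) rfl
theorem L631493 : N20760 = N19768 := eqes L631492 (flp_e L167864)
theorem L631494 : N20760 = N19768 := eqc rfl L631493 rfl
theorem L631496 : sm gg N13609 = N9832 := trfs L631482 L121675 rfl
theorem L631497 : N9832 = N19730 := eqes L631496 (flp_g L167551)
theorem L631498 : N19730 = N9832 := (eqc rfl L631497 rfl).symm
theorem L631499 : sm gh N13609 = N9831 := trfs L631482 (flp_h L121670) rfl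
theorem L631500 : N9831 = N19772 := eqes L631499 L167889
theorem L631501 : N19772 = N9831 := (eqc rfl L631500 rfl).symm
theorem L631509 : sm ge N9831 = N28750 := trfs L631501 (flp_e L243514) rfl
theorem L631510 : N28750 = N14272 := eqes L631509 (flp_e L121651)
theorem L631511 : N28750 = N14272 := eqc rfl L631510 rfl
theorem L631518 : sm gh N9831 = N13609 := trfs L631501 (flp_h L167889) rfl
theorem L631520 : sm gi N9831 = N28755 := trfs L631501 L243548 rfl
theorem L631521 : N28755 = N6792 := eqes L631520 L84065
theorem L631522 : N28755 = N6792 := eqc rfl L631521 rfl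
theorem L631529 : sm ge N6792 = N41875 := trfs L631522 (flp_e L353802) rfl
theorem L631530 : N41875 = N9846 := eqes L631529 (flp_e L84178)
theorem L631531 : N41875 = N9846 := eqc rfl L631530 rfl
theorem L631544 : sm gj N9846 = N28752 := trfs L631531 L353804 rfl
theorem L631545 : N28752 = N14296 := eqes L631544 L121824
theorem L631546 : N28752 = N14296 := eqc rfl L631545 rfl
theorem L631555 : sm gf N14296 = N41873 := trfs L631546 (flp_f L353787) rfl
theorem L631556 : N41873 = N20793 := eqes L631555 (flp_f L176730)
theorem L631557 : N41873 = N20793 := eqc rfl L631556 rfl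
theorem L631558 : sm gg N14296 = N19771 := trfs L631546 L243531 rfl
theorem L631559 : N19771 = N20707 := eqes L631558 (flp_g L176035)
theorem L631560 : N20707 = N19771 := (eqc rfl L631559 rfl).symm
theorem L631562 : sm gi N14296 = N19769 := trfs L631546 (flp_i L243525) rfl
theorem L631563 : N19769 = N20759 := eqes L631562 (flp_i L176472)
theorem L631564 : N20759 = N19769 := (eqc rfl L631563 rfl).symm
theorem L631568 : sm gd N19769 = N14389 := trfs L631564 L176468 rfl
theorem L631569 : N14389 = N28751 := eqes L631568 L243518
theorem L631570 : N28751 = N14389 := (eqc rfl L631569 rfl).symm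
theorem L631572 : sm gf N19769 = N30222 := trfs L631564 (flp_f L256288) rfl
theorem L631573 : N30222 = N28749 := eqes L631572 (flp_f L243506)
theorem L631574 : N30222 = N28749 := eqc rfl L631573 rfl
theorem L631575 : sm gg N19769 = N30111 := trfs L631564 (flp_g L255357) rfl
theorem L631576 : N30111 = N13608 := eqes L631575 L167872
theorem L631577 : N30111 = N13608 := eqc rfl L631576 rfl
theorem L631581 : sm gi N19769 = N14296 := trfs L631564 L176472 rfl
theorem L631586 : sm gd N13608 = N20836 := trfs L631577 L255351 rfl
theorem L631587 : N20836 = N19770 := eqes L631586 L167874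
theorem L631588 : N20836 = N19770 := eqc rfl L631587 rfl
theorem L631593 : sm gj N13608 = N20683 := trfs L631577 (flp_j L255347) rfl
theorem L631594 : N20683 = N19729 := eqes L631593 (flp_j L167543)
theorem L631595 : N20683 = N19729 := eqc rfl L631594 rfl
theorem L631596 : sm gh N13608 = N43894 := trfs L631577 L371298 rfl
theorem L631597 : N43894 = N9385 := eqes L631596 (flp_h L115869)
theorem L631598 : N43894 = N9385 := eqc rfl L631597 rfl
theorem L631605 : sm gj N9385 = N30112 := trfs L631598 L371306 rfl
theorem L631606 : N30112 = N13580 := eqes L631605 (flp_j L115638)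
theorem L631607 : N30112 = N13580 := eqc rfl L631606 rfl
theorem L631620 : sm gg N13580 = N20684 := trfs L631607 L255365 rfl
theorem L631621 : N20684 = N19728 := eqes L631620 L167527
theorem L631622 : N20684 = N19728 := eqc rfl L631621 rfl
theorem L631624 : sm gi N13580 = N43896 := trfs L631607 L371315 rfl
theorem L631625 : N43896 = N19712 := eqes L631624 (flp_i L167388)
theorem L631626 : N43896 = N19712 := eqc rfl L631625 rfl
theorem L631632 : sm gg N19712 = N30114 := trfs L631626 L371321 rfl
theorem L631633 : N30114 = N28665 := eqes L631632 L242786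
theorem L631634 : N30114 = N28665 := eqc rfl L631633 rfl
theorem L631635 : sm gh N19712 = N30149 := trfs L631626 L371323 rfl
theorem L631636 : N30149 = N28666 := eqes L631635 L242796
theorem L631637 : N30149 = N28666 := eqc rfl L631636 rfl
theorem L631648 : sm gg N28666 = N20710 := trfs L631637 L255677 rfl
theorem L631649 : N20710 = N41749 := eqes L631648 (flp_g L352728)
theorem L631650 : N41749 = N20710 := (eqc rfl L631649 rfl).symm
theorem L631654 : sm gi N28666 = N20708 := trfs L631637 (flp_i L255671) rfl
theorem L631655 : N20708 = N41751 := eqes L631654 L352740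
theorem L631656 : N41751 = N20708 := (eqc rfl L631655 rfl).symm
theorem L631660 : sm gf N20708 = N28665 := trfs L631656 L352746 L631634
theorem L631661 : N28665 = N30146 := eqes L631660 (flp_f L255651)
theorem L631662 : N30146 = N28665 := (eqc rfl L631661 rfl).symm
theorem L631663 : sm gj N20708 = N28717 := trfs L631656 L352748 rfl
theorem L631664 : N28717 = N30147 := eqes L631663 (flp_j L255661)
theorem L631665 : N30147 = N28717 := (eqc rfl L631664 rfl).symm
theorem L631666 : sm gh N20708 = N28692 := trfs L631656 L352750 rfl
theorem L631667 : N28692 = N14238 := eqes L631666 (flp_h L176037)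
theorem L631668 : N28692 = N14238 := eqc rfl L631667 rfl
theorem L631669 : sm gi N20708 = N28666 := trfs L631656 (flp_i L352740) rfl
theorem L631678 : sm gf N14238 = N20710 := trfs L631668 L243028 rfl
theorem L631679 : N20710 = N20706 := eqes L631678 L176021
theorem L631680 : N20710 = N20706 := eqc rfl L631679 rfl
theorem L631681 : sm gg N14238 = N41786 := trfs L631668 (flp_g L353052) rfl
theorem L631682 : N41786 = N9807 := eqes L631681 (flp_g L121357)
theorem L631683 : N41786 = N9807 := eqc rfl L631682 rfl
theorem L631691 : sm gi N9807 = N28690 := trfs L631683 (flp_i L353046) rfl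
theorem L631692 : N28690 = N14222 := eqes L631691 (flp_i L121226)
theorem L631693 : N28690 = N14222 := eqc rfl L631692 rfl
theorem L631706 : sm gj N14222 = N41784 := trfs L631693 (flp_j L353037) rfl
theorem L631707 : N41784 = N9830 := eqes L631706 L121224
theorem L631708 : N41784 = N9830 := eqc rfl L631707 rfl
theorem L631715 : sm gh N9830 = N28689 := trfs L631708 (flp_h L353029) rfl
theorem L631716 : N28689 = N14273 := eqes L631715 L121655
theorem L631717 : N28689 = N14273 := eqc rfl L631716 rfl
theorem L631719 : sm gb N14273 = N41776 := trfs L631717 (flp_b L352963) rfl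
theorem L631720 : N41776 = N20754 := eqes L631719 (flp_b L176427)
theorem L631721 : N41776 = N20754 := eqc rfl L631720 rfl
theorem L631723 : sm gd N14273 = N19809 := trfs L631717 L242999 rfl
theorem L631724 : N19809 = N20761 := eqes L631723 L176482
theorem L631725 : N20761 = N19809 := (eqc rfl L631724 rfl).symm
theorem L631734 : sm gi N14273 = N41748 := trfs L631717 (flp_i L352718) rfl
theorem L631735 : N41748 = N20762 := eqes L631734 L176487
theorem L631736 : N41748 = N20762 := eqc rfl L631735 rfl
theorem L631739 : sm gd N20762 = N28775 := trfs L631736 L352714 rfl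
theorem L631740 : N28775 = N30228 := eqes L631739 (flp_d L256333)
theorem L631741 : N30228 = N28775 := (eqc rfl L631740 rfl).symm
theorem L631742 : sm ge N20762 = N28667 := trfs L631736 L352716 rfl
theorem L631743 : N28667 = N14276 := eqes L631742 L176491
theorem L631744 : N28667 = N14276 := eqc rfl L631743 rfl
theorem L631745 : sm gg N20762 = N28714 := trfs L631736 L352720 rfl
theorem L631746 : N28714 = N30226 := eqes L631745 (flp_g L256320)
theorem L631747 : N30226 = N28714 := (eqc rfl L631746 rfl).symm
theorem L631751 : sm gb N28714 = N44056 := trfs L631747 (flp_b L372672) rfl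
theorem L631752 : N44056 = N41812 := eqes L631751 (flp_b L353283)
theorem L631753 : N44056 = N41812 := eqc rfl L631752 rfl
theorem L631759 : sm gf N28714 = N44063 := trfs L631747 (flp_f L372729) rfl
theorem L631760 : N44063 = N41818 := eqes L631759 (flp_f L353343)
theorem L631761 : N44063 = N41818 := eqc rfl L631760 rfl
theorem L631762 : sm gg N28714 = N20762 := trfs L631747 L256320 rfl
theorem L631765 : sm gh N28714 = N20797 := trfs L631747 L256322 rfl
theorem L631766 : N20797 = N41820 := eqes L631765 L353356
theorem L631767 : N41820 = N20797 := (eqc rfl L631766 rfl).symm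
theorem L631774 : sm gh N20797 = N28714 := trfs L631767 (flp_h L353356) rfl
theorem L631779 : sm gh N41818 = N30277 := trfs L631761 L372731 rfl
theorem L631781 : sm gi N41818 = N30223 := trfs L631761 (flp_i L372724) rfl
theorem L631782 : N30223 = N28748 := eqes L631781 L353345
theorem L631783 : N30223 = N28748 := eqc rfl L631782 rfl
theorem L631785 : sm gb N28748 = N44053 := trfs L631783 (flp_b L372649) rfl
theorem L631786 : N44053 = N41862 := eqes L631785 (flp_b L353694)
theorem L631787 : N44053 = N41862 := eqc rfl L631786 rfl
theorem L631789 : sm gd N28748 = N44062 := trfs L631783 L372717 rfl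
theorem L631790 : N44062 = N19868 := eqes L631789 L243496
theorem L631791 : N44062 = N19868 := eqc rfl L631790 rfl
theorem L631794 : sm gg N28748 = N41819 := trfs L631783 (flp_g L353354) rfl
theorem L631795 : N41819 = N41870 := eqes L631794 L353755
theorem L631796 : N41870 = N41819 := (eqc rfl L631795 rfl).symm
theorem L631800 : sm gh N28748 = N20758 := trfs L631783 (flp_h L256292) rfl
theorem L631801 : N20758 = N41871 := eqes L631800 L353764
theorem L631802 : N41871 = N20758 := (eqc rfl L631801 rfl).symm
theorem L631809 : sm gh N20758 = N28748 := trfs L631802 (flp_h L353764) rfl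
theorem L631818 : sm gd N41819 = N28897 := trfs L631796 L353759 rfl
theorem L631821 : sm gg N41819 = N28748 := trfs L631796 (flp_g L353755) rfl
theorem L631823 : sm gj N41819 = N30274 := trfs L631796 L353762 rfl
theorem L631829 : sm gh N19868 = N30483 := trfs L631791 L372722 rfl
theorem L631830 : N30483 = N28898 := eqes L631829 L244870
theorem L631831 : N30483 = N28898 := eqc rfl L631830 rfl
theorem L631833 : sm gb N28898 = N44437 := trfs L631831 (flp_b L376007) rfl
theorem L631834 : N44437 = N42084 := eqes L631833 (flp_b L355731)
theorem L631835 : N44437 = N42084 := eqc rfl L631834 rfl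
theorem L631839 : sm gd N28898 = N20932 := trfs L631831 (flp_d L258564) rfl
theorem L631840 : N20932 = N42095 := eqes L631839 L355812
theorem L631841 : N42095 = N20932 := (eqc rfl L631840 rfl).symm
theorem L631845 : sm gf N28898 = N20934 := trfs L631831 L258567 rfl
theorem L631846 : N20934 = N19870 := eqes L631845 L244877
theorem L631847 : N20934 = N19870 := eqc rfl L631846 rfl
theorem L631848 : sm gg N28898 = N42018 := trfs L631831 (flp_g L355171) rfl
theorem L631849 : N42018 = N42094 := eqes L631848 (flp_g L355808)
theorem L631850 : N42094 = N42018 := (eqc rfl L631849 rfl).symm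
theorem L631854 : sm gi N28898 = N44451 := trfs L631831 L376104 rfl
theorem L631855 : N44451 = N42096 := eqes L631854 L355819
theorem L631856 : N44451 = N42096 := eqc rfl L631855 rfl
theorem L631858 : sm gd N42096 = N30484 := trfs L631856 L376107 rfl
theorem L631860 : sm gf N42096 = N30488 := trfs L631856 L376109 rfl
theorem L631861 : N30488 = N28902 := eqes L631860 L355826
theorem L631862 : N30488 = N28902 := eqc rfl L631861 rfl
theorem L631864 : sm gb N28902 = N44442 := trfs L631862 (flp_b L376043) rfl
theorem L631865 : N44442 = N42088 := eqes L631864 (flp_b L355765)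
theorem L631866 : N44442 = N42088 := eqc rfl L631865 rfl
theorem L631870 : sm gd N28902 = N20935 := trfs L631862 L258606 rfl
theorem L631871 : N20935 = N42101 := eqes L631870 (flp_d L355865)
theorem L631872 : N42101 = N20935 := (eqc rfl L631871 rfl).symm
theorem L631876 : sm gg N28902 = N20937 := trfs L631862 L258608 rfl
theorem L631877 : N20937 = N41966 := eqes L631876 (flp_g L354677)
theorem L631878 : N41966 = N20937 := (eqc rfl L631877 rfl).symm
theorem L631879 : sm gj N28902 = N44453 := trfs L631862 (flp_j L376123) rfl
theorem L631880 : N44453 = N19872 := eqes L631879 L244911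
theorem L631881 : N44453 = N19872 := eqc rfl L631880 rfl
theorem L631882 : sm gh N28902 = N44456 := trfs L631862 L376140 rfl
theorem L631883 : N44456 = N42021 := eqes L631882 (flp_h L355201)
theorem L631884 : N44456 = N42021 := eqc rfl L631883 rfl
theorem L631887 : sm gd N42021 = N30569 := trfs L631884 L376145 rfl
theorem L631889 : sm gg N42021 = N30491 := trfs L631884 L376143 rfl
theorem L631892 : sm gd N19872 = N30486 := trfs L631881 L376121 rfl
theorem L631893 : N30486 = N28904 := eqes L631892 (flp_d L244923)
theorem L631894 : N30486 = N28904 := eqc rfl L631893 rfl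
theorem L631895 : sm gi N19872 = N30485 := trfs L631881 (flp_i L376118) rfl
theorem L631896 : N30485 = N13675 := eqes L631895 (flp_i L168805)
theorem L631897 : N30485 = N13675 := eqc rfl L631896 rfl
theorem L631905 : sm gd N13675 = N20933 := trfs L631897 (flp_d L258580) rfl
theorem L631906 : N20933 = N19871 := eqes L631905 L168800
theorem L631907 : N20933 = N19871 := eqc rfl L631906 rfl
theorem L631912 : sm gg N13675 = N44236 := trfs L631897 (flp_g L374229) rfl
theorem L631913 : N44236 = N9431 := eqes L631912 L116480
theorem L631914 : N44236 = N9431 := eqc rfl L631913 rfl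
theorem L631926 : sm gj N9431 = N30341 := trfs L631914 L374231 rfl
theorem L631927 : N30341 = N13635 := eqes L631926 (flp_j L116128)
theorem L631928 : N30341 = N13635 := eqc rfl L631927 rfl
theorem L631936 : sm gd N13635 = N20837 := trfs L631928 (flp_d L257311) rfl
theorem L631937 : N20837 = N19811 := eqes L631936 L168262
theorem L631938 : N20837 = N19811 := eqc rfl L631937 rfl
theorem L631945 : sm gg N13635 = N20838 := trfs L631928 L257314 rfl
theorem L631946 : N20838 = N19810 := eqes L631945 (flp_g L168260)
theorem L631947 : N20838 = N19810 := eqc rfl L631946 rfl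
theorem L631949 : sm gi N13635 = N44239 := trfs L631928 L374253 rfl
theorem L631950 : N44239 = N19812 := eqes L631949 L168269
theorem L631951 : N44239 = N19812 := eqc rfl L631950 rfl
theorem L631953 : sm gd N19812 = N30342 := trfs L631951 L374256 rfl
theorem L631954 : N30342 = N28815 := eqes L631953 (flp_d L244133)
theorem L631955 : N30342 = N28815 := eqc rfl L631954 rfl
theorem L631956 : sm gg N19812 = N30344 := trfs L631951 L374258 rfl
theorem L631957 : N30344 = N28813 := eqes L631956 (flp_g L244119)
theorem L631958 : N30344 = N28813 := eqc rfl L631957 rfl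
theorem L631960 : sm gb N28813 = N44230 := trfs L631958 (flp_b L374174) rfl
theorem L631961 : N44230 = N41957 := eqes L631960 (flp_b L354595)
theorem L631962 : N44230 = N41957 := eqc rfl L631961 rfl
theorem L631966 : sm gd N28813 = N20839 := trfs L631958 L257337 rfl
theorem L631967 : N20839 = N41968 := eqes L631966 (flp_d L354691)
theorem L631968 : N41968 = N20839 := (eqc rfl L631967 rfl).symm
theorem L631972 : sm gf N28813 = N41915 := trfs L631958 (flp_f L354203) rfl
theorem L631973 : N41915 = N41964 := eqes L631972 (flp_f L354659)
theorem L631974 : N41964 = N41915 := (eqc rfl L631973 rfl).symm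
theorem L631977 : sm gh N28813 = N44242 := trfs L631958 L374275 rfl
theorem L631978 : N44242 = N41913 := eqes L631977 (flp_h L354185)
theorem L631979 : N44242 = N41913 := eqc rfl L631978 rfl
theorem L631982 : sm gd N41913 = N30400 := trfs L631979 L374280 rfl
theorem L631984 : sm gj N41913 = N30491 := trfs L631979 L374278 rfl
theorem L631987 : sm gc N41915 = N29152 := trfs L631974 L354656 rfl
theorem L631990 : sm gf N41915 = N28813 := trfs L631974 L354659 rfl
theorem L631992 : sm gg N41915 = N30393 := trfs L631974 L354661 rfl
theorem L631994 : sm gi N41915 = N28810 := trfs L631974 (flp_i L354653) rfl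
theorem L631995 : N28810 = N28777 := eqes L631994 (flp_i L354197)
theorem L631996 : N28810 = N28777 := eqc rfl L631995 rfl
theorem L631998 : sm gb N28777 = N41954 := trfs L631996 (flp_b L354570) rfl
theorem L631999 : N41954 = N41905 := eqes L631998 (flp_b L354100)
theorem L632000 : N41954 = N41905 := eqc rfl L631999 rfl
theorem L632001 : sm gc N28777 = N20037 := trfs L631996 L244089 rfl
theorem L632002 : N20037 = N41914 := eqes L632001 L354187
theorem L632003 : N41914 = N20037 := (eqc rfl L632002 rfl).symm
theorem L632010 : sm gg N28777 = N20871 := trfs L631996 L244094 rfl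
theorem L632011 : N20871 = N41912 := eqes L632010 (flp_g L354173)
theorem L632012 : N41912 = N20871 := (eqc rfl L632011 rfl).symm
theorem L632016 : sm gh N28777 = N19808 := trfs L631996 (flp_h L244086) rfl
theorem L632017 : N19808 = N41750 := eqes L632016 (flp_h L352738)
theorem L632018 : N41750 = N19808 := (eqc rfl L632017 rfl).symm
theorem L632020 : sm gd N19808 = N28666 := trfs L632018 (flp_d L352730) rfl
theorem L632021 : N28666 = N28688 := eqes L632020 (flp_d L242991)
theorem L632022 : N28688 = N28666 := (eqc rfl L632021 rfl).symm
theorem L632027 : sm gj N19808 = N28716 := trfs L632018 L352735 rfl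
theorem L632028 : N28716 = N28809 := eqes L632027 L244078
theorem L632029 : N28809 = N28716 := (eqc rfl L632028 rfl).symm
theorem L632030 : sm gh N19808 = N28777 := trfs L632018 L352738 rfl
theorem L632033 : sm gb N28716 = N41953 := trfs L632029 (flp_b L354563) rfl
theorem L632034 : N41953 = N41814 := eqes L632033 (flp_b L353301)
theorem L632035 : N41953 = N41814 := eqc rfl L632034 rfl
theorem L632036 : sm gc N28716 = N20036 := trfs L632029 L244081 rfl
theorem L632037 : N20036 = N41823 := eqes L632036 L353382
theorem L632038 : N41823 = N20036 := (eqc rfl L632037 rfl).symm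
theorem L632043 : sm gg N28716 = N41961 := trfs L632029 L354626 rfl
theorem L632044 : N41961 = N41821 := eqes L632043 (flp_g L353367)
theorem L632045 : N41961 = N41821 := eqc rfl L632044 rfl
theorem L632046 : sm gj N28716 = N19808 := trfs L632029 (flp_j L244078) rfl
theorem L632049 : sm gi N28716 = N41909 := trfs L632029 (flp_i L354147) rfl
theorem L632050 : N41909 = N41824 := eqes L632049 L353391
theorem L632051 : N41909 = N41824 := eqc rfl L632050 rfl
theorem L632053 : sm gc N41824 = N29097 := trfs L632051 L354142 rfl
theorem L632058 : sm gj N41824 = N28774 := trfs L632051 (flp_j L354139) rfl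
theorem L632061 : sm gc N41821 = N29149 := trfs L632045 L354629 rfl
theorem L632064 : sm gf N41821 = N28897 := trfs L632045 L354632 rfl
theorem L632066 : sm gj N41821 = N30390 := trfs L632045 L354634 rfl
theorem L632069 : sm gc N20036 = N28716 := trfs L632038 (flp_c L353382) rfl
theorem L632076 : sm gh N20036 = N28850 := trfs L632038 L353388 rfl
theorem L632077 : N28850 = N29150 := eqes L632076 L247141
theorem L632078 : N29150 = N28850 := (eqc rfl L632077 rfl).symm
theorem L632080 : sm gb N28850 = N42459 := trfs L632078 (flp_b L359085) rfl
theorem L632081 : N42459 = N42024 := eqes L632080 L355219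
theorem L632082 : N42459 = N42024 := eqc rfl L632081 rfl
theorem L632088 : sm gf N28850 = N20038 := trfs L632078 L247145 rfl
theorem L632089 : N20038 = N20936 := eqes L632088 L244470
theorem L632090 : N20936 = N20038 := (eqc rfl L632089 rfl).symm
theorem L632091 : sm gg N28850 = N42469 := trfs L632078 (flp_g L359180) rfl
theorem L632092 : N42469 = N42022 := eqes L632091 (flp_g L355207)
theorem L632093 : N42469 = N42022 := eqc rfl L632092 rfl
theorem L632096 : sm gh N28850 = N20036 := trfs L632078 (flp_h L247141) rfl
theorem L632098 : sm gi N28850 = N42471 := trfs L632078 L359192 rfl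
theorem L632099 : N42471 = N42025 := eqes L632098 L355226
theorem L632100 : N42471 = N42025 := eqc rfl L632099 rfl
theorem L632103 : sm gf N42025 = N29154 := trfs L632100 L359196 rfl
theorem L632104 : N29154 = N30490 := eqes L632103 L355234
theorem L632105 : N30490 = N29154 := (eqc rfl L632104 rfl).symm
theorem L632106 : sm gj N42025 = N29152 := trfs L632100 L359198 rfl
theorem L632109 : sm gb N29154 = N44458 := trfs L632105 (flp_b L376154) rfl
theorem L632110 : N44458 = N42463 := eqes L632109 (flp_b L359122)
theorem L632111 : N44458 = N42463 := eqc rfl L632110 rfl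
theorem L632114 : sm gd N29154 = N21310 := trfs L632105 L258619 rfl
theorem L632115 : N21310 = N42476 := eqes L632114 (flp_d L359237)
theorem L632116 : N42476 = N21310 := (eqc rfl L632115 rfl).symm
theorem L632117 : sm ge N29154 = N44377 := trfs L632105 (flp_e L375480) rfl
theorem L632118 : N44377 = N20043 := eqes L632117 L247177
theorem L632119 : N44377 = N20043 := eqc rfl L632118 rfl
theorem L632120 : sm gf N29154 = N42025 := trfs L632105 (flp_f L355234) rfl
theorem L632124 : sm gh N29154 = N44459 := trfs L632105 L376158 rfl
theorem L632125 : N44459 = N42396 := eqes L632124 (flp_h L358539)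
theorem L632126 : N44459 = N42396 := eqc rfl L632125 rfl
theorem L632129 : sm gc N42396 = N30491 := trfs L632126 L376161 rfl
theorem L632132 : sm gc N20043 = N30435 := trfs L632119 L375477 rfl
theorem L632133 : N30435 = N28816 := eqes L632132 (flp_c L244142)
theorem L632134 : N30435 = N28816 := eqc rfl L632133 rfl
theorem L632137 : sm gi N20043 = N30434 := trfs L632119 (flp_i L375474) rfl
theorem L632138 : N30434 = N13791 := eqes L632137 (flp_i L170343)
theorem L632139 : N30434 = N13791 := eqc rfl L632138 rfl
theorem L632144 : sm gc N13791 = N20899 := trfs L632139 (flp_c L258133) rfl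
theorem L632145 : N20899 = N19813 := eqes L632144 (flp_c L168283)
theorem L632146 : N20899 = N19813 := eqc rfl L632145 rfl
theorem L632156 : sm gh N13791 = N44013 := trfs L632139 (flp_h L372316) rfl
theorem L632157 : N44013 = N9507 := eqes L632156 (flp_h L117514)
theorem L632158 : N44013 = N9507 := eqc rfl L632157 rfl
theorem L632160 : sm gc N9507 = N30190 := trfs L632158 (flp_c L372310) rfl
theorem L632161 : N30190 = N13636 := eqes L632160 (flp_c L116133)
theorem L632162 : N30190 = N13636 := eqc rfl L632161 rfl
theorem L632166 : sm gb N13636 = N21932 := trfs L632162 (flp_b L522149) rfl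
theorem L632167 : N21932 = N19805 := eqes L632166 (flp_b L168214)
theorem L632168 : N21932 = N19805 := eqc rfl L632167 rfl
theorem L632181 : sm gi N13636 = N44014 := trfs L632162 L372318 rfl
theorem L632182 : N44014 = N19787 := eqes L632181 (flp_i L168048)
theorem L632183 : N44014 = N19787 := eqc rfl L632182 rfl
theorem L632185 : sm gd N19787 = N30191 := trfs L632183 L372321 rfl
theorem L632186 : N30191 = N13622 := eqes L632185 L168045
theorem L632187 : N30191 = N13622 := eqc rfl L632186 rfl
theorem L632191 : sm gb N13622 = N21933 := trfs L632187 L520690 rfl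
theorem L632192 : N21933 = N19784 := eqes L632191 (flp_b L168011)
theorem L632193 : N21933 = N19784 := eqc rfl L632192 rfl
theorem L632197 : sm ge N13622 = N20739 := trfs L632187 L256027 rfl
theorem L632198 : N20739 = N19716 := eqes L632197 (flp_e L167427)
theorem L632199 : N20739 = N19716 := eqc rfl L632198 rfl
theorem L632204 : sm gj N13622 = N43861 := trfs L632187 (flp_j L371002) rfl
theorem L632205 : N43861 = N9395 := eqes L632204 (flp_j L116005)
theorem L632206 : N43861 = N9395 := eqc rfl L632205 rfl
theorem L632215 : sm gi N9395 = N30088 := trfs L632206 (flp_i L370996) rfl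
theorem L632216 : N30088 = N6498 := eqes L632215 L80276
theorem L632217 : N30088 = N6498 := eqc rfl L632216 rfl
theorem L632234 : sm gh N6498 = N20667 := trfs L632217 (flp_h L255138) rfl
theorem L632235 : N20667 = N9323 := eqes L632234 (flp_h L79635)
theorem L632236 : N20667 = N9323 := eqc rfl L632235 rfl
theorem L632238 : sm gb N9323 = N15004 := trfs L632236 L520721 rfl
theorem L632239 : N15004 = N13508 := eqes L632238 (flp_b L114991)
theorem L632240 : N15004 = N13508 := eqc rfl L632239 rfl
theorem L632244 : sm gd N9323 = N14308 := trfs L632236 L175685 rfl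
theorem L632245 : N14308 = N13510 := eqes L632244 (flp_d L115010)
theorem L632246 : N14308 = N13510 := eqc rfl L632245 rfl
theorem L632247 : sm ge N9323 = N14212 := trfs L632236 (flp_e L175679) rfl
theorem L632248 : N14212 = N13490 := eqes L632247 (flp_e L114833)
theorem L632249 : N14212 = N13490 := eqc rfl L632248 rfl
theorem L632254 : sm gj N9323 = N14256 := trfs L632236 L175682 rfl
theorem L632255 : N14256 = N13513 := eqes L632254 L115035
theorem L632256 : N14256 = N13513 := eqc rfl L632255 rfl
theorem L632259 : sm gb N13513 = N10363 := trfs L632256 L522138 rfl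
theorem L632260 : N10363 = N19621 := eqes L632259 (flp_b L166573)
theorem L632261 : N19621 = N10363 := (eqc rfl L632260 rfl).symm
theorem L632265 : sm gd N13513 = N9891 := trfs L632256 L121517 rfl
theorem L632266 : N9891 = N19624 := eqes L632265 (flp_d L166602)
theorem L632267 : N19624 = N9891 := (eqc rfl L632266 rfl).symm
theorem L632268 : sm ge N13513 = N9820 := trfs L632256 (flp_e L121513) rfl
theorem L632269 : N9820 = N19594 := eqes L632268 (flp_e L166338)
theorem L632270 : N19594 = N9820 := (eqc rfl L632269 rfl).symm
theorem L632272 : sm gg N13513 = N20735 := trfs L632256 L176268 rfl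
theorem L632273 : N20735 = N9335 := eqes L632272 L115044
theorem L632274 : N20735 = N9335 := eqc rfl L632273 rfl
theorem L632278 : sm gb N9335 = N15064 := trfs L632274 (flp_b L538019) rfl
theorem L632279 : N15064 = N13524 := eqes L632278 (flp_b L115134)
theorem L632280 : N15064 = N13524 := eqc rfl L632279 rfl
theorem L632284 : sm gd N9335 = N14365 := trfs L632274 L176271 rfl
theorem L632285 : N14365 = N13527 := eqes L632284 (flp_d L115160)
theorem L632286 : N14365 = N13527 := eqc rfl L632285 rfl
theorem L632287 : sm ge N9335 = N14257 := trfs L632274 L176273 rfl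
theorem L632288 : N14257 = N13502 := eqes L632287 (flp_e L114934)
theorem L632289 : N14257 = N13502 := eqc rfl L632288 rfl
theorem L632296 : sm gh N9335 = N30189 := trfs L632274 L256009 rfl
theorem L632297 : N30189 = N6517 := eqes L632296 L79742
theorem L632298 : N30189 = N6517 := eqc rfl L632297 rfl
theorem L632304 : sm gc N6517 = N43975 := trfs L632298 (flp_c L371995) rfl
theorem L632305 : N43975 = N4513 := eqes L632304 L55894
theorem L632306 : N43975 = N4513 := eqc rfl L632305 rfl
theorem L632328 : sm gg N4513 = N30165 := trfs L632306 L371999 rfl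
theorem L632329 : N30165 = N6499 := eqes L632328 (flp_g L55743)
theorem L632330 : N30165 = N6499 := eqc rfl L632329 rfl
theorem L632338 : sm ge N6499 = N20721 := trfs L632330 L255812 rfl
theorem L632339 : N20721 = N9371 := eqes L632338 (flp_e L80064)
theorem L632340 : N20721 = N9371 := eqc rfl L632339 rfl
theorem L632347 : sm gc N9371 = N14258 := trfs L632340 L176148 rfl
theorem L632348 : N14258 = N13584 := eqes L632347 (flp_c L115669)
theorem L632349 : N14258 = N13584 := eqc rfl L632348 rfl
theorem L632351 : sm gf N9371 = N14247 := trfs L632340 L176150 rfl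
theorem L632352 : N14247 = N13566 := eqes L632351 (flp_f L115507)
theorem L632353 : N14247 = N13566 := eqc rfl L632352 rfl
theorem L632358 : sm gh N9371 = N14246 := trfs L632340 (flp_h L176145) rfl
theorem L632359 : N14246 = N13491 := eqes L632358 (flp_h L114844)
theorem L632360 : N14246 = N13491 := eqc rfl L632359 rfl
theorem L632361 : sm gi N9371 = N30168 := trfs L632340 L255833 rfl
theorem L632362 : N30168 = N13573 := eqes L632361 (flp_i L115580)
theorem L632363 : N30168 = N13573 := eqc rfl L632362 rfl
theorem L632369 : sm gf N13573 = N20722 := trfs L632363 L255839 rfl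
theorem L632370 : N20722 = N19694 := eqes L632369 (flp_f L167221)
theorem L632371 : N20722 = N19694 := eqc rfl L632370 rfl
theorem L632375 : sm gj N13573 = N43838 := trfs L632363 (flp_j L370790) rfl
theorem L632376 : N43838 = N9364 := eqes L632375 (flp_j L115572)
theorem L632377 : N43838 = N9364 := eqc rfl L632376 rfl
theorem L632382 : sm gf N9364 = N30074 := trfs L632377 L370788 rfl
theorem L632383 : N30074 = N13559 := eqes L632382 (flp_f L115450)
theorem L632384 : N30074 = N13559 := eqc rfl L632383 rfl
theorem L632389 : sm gc N13559 = N20670 := trfs L632384 L255005 rfl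
theorem L632390 : N20670 = N19693 := eqes L632389 (flp_c L167207)
theorem L632391 : N20670 = N19693 := eqc rfl L632390 rfl
theorem L632399 : sm gi N13559 = N20658 := trfs L632384 (flp_i L255002) rfl
theorem L632400 : N20658 = N9359 := eqes L632399 L115448
theorem L632401 : N20658 = N9359 := eqc rfl L632400 rfl
theorem L632404 : sm gc N9359 = N14213 := trfs L632401 L175593 rfl
theorem L632405 : N14213 = N13565 := eqes L632404 (flp_c L115496)
theorem L632406 : N14213 = N13565 := eqc rfl L632405 rfl
theorem L632414 : sm gh N9359 = N14206 := trfs L632401 (flp_h L175590) rfl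
theorem L632415 : N14206 = N13484 := eqes L632414 (flp_h L114776)
theorem L632416 : N14206 = N13484 := eqc rfl L632415 rfl
theorem L632419 : sm gc N13484 = N9791 := trfs L632416 L121069 rfl
theorem L632420 : N9791 = N19582 := eqes L632419 (flp_c L166224)
theorem L632421 : N19582 = N9791 := (eqc rfl L632420 rfl).symm
theorem L632422 : sm gd N13484 = N9787 := trfs L632416 (flp_d L121063) rfl
theorem L632423 : N9787 = N19558 := eqes L632422 (flp_d L166011)
theorem L632424 : N19558 = N9787 := (eqc rfl L632423 rfl).symm
theorem L632432 : sm gj N13484 = N9814 := trfs L632416 L121066 rfl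
theorem L632433 : N9814 = N19583 := eqes L632432 L166232
theorem L632434 : N19583 = N9814 := (eqc rfl L632433 rfl).symm
theorem L632441 : sm gd N9814 = N28431 := trfs L632434 (flp_d L240706) rfl
theorem L632442 : N28431 = N6771 := eqes L632441 (flp_d L83909)
theorem L632443 : N28431 = N6771 := eqc rfl L632442 rfl
theorem L632448 : sm gj N9814 = N13484 := trfs L632434 (flp_j L166232) rfl
theorem L632461 : sm gf N6771 = N19565 := trfs L632443 L240708 rfl
theorem L632462 : N19565 = N9815 := eqes L632461 L83917
theorem L632463 : N19565 = N9815 := eqc rfl L632462 rfl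
theorem L632476 : sm gg N9815 = N13479 := trfs L632463 L166081 rfl
theorem L632477 : N13479 = N14248 := eqes L632476 L121439
theorem L632478 : N14248 = N13479 := (eqc rfl L632477 rfl).symm
theorem L632479 : sm gj N9815 = N13472 := trfs L632463 (flp_j L166072) rfl
theorem L632480 : N13472 = N14207 := eqes L632479 (flp_j L121077)
theorem L632481 : N14207 = N13472 := (eqc rfl L632480 rfl).symm
theorem L632486 : sm gc N13472 = N9788 := trfs L632481 L121075 rfl
theorem L632487 : N9788 = N19564 := eqes L632486 (flp_c L166067)
theorem L632488 : N19564 = N9788 := (eqc rfl L632487 rfl).symm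
theorem L632493 : sm gg N13472 = N20659 := trfs L632481 L175599 rfl
theorem L632494 : N20659 = N9297 := eqes L632493 (flp_g L114662)
theorem L632495 : N20659 = N9297 := eqc rfl L632494 rfl
theorem L632496 : sm gj N13472 = N9815 := trfs L632481 L121077 rfl
theorem L632502 : sm gc N9297 = N14208 := trfs L632495 L175602 rfl
theorem L632503 : N14208 = N13471 := eqes L632502 (flp_c L114655)
theorem L632504 : N14208 = N13471 := eqc rfl L632503 rfl
theorem L632512 : sm gj N9297 = N30075 := trfs L632495 L255012 rfl
theorem L632513 : N30075 = N6429 := eqes L632512 L79390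
theorem L632514 : N30075 = N6429 := eqc rfl L632513 rfl
theorem L632529 : sm gg N6429 = N20723 := trfs L632514 L255020 rfl
theorem L632530 : N20723 = N9302 := eqes L632529 L79428
theorem L632531 : N20723 = N9302 := eqc rfl L632530 rfl
theorem L632536 : sm gc N9302 = N14249 := trfs L632531 L176165 rfl
theorem L632537 : N14249 = N13478 := eqes L632536 (flp_c L114714)
theorem L632538 : N14249 = N13478 := eqc rfl L632537 rfl
theorem L632539 : sm gd N9302 = N30166 := trfs L632531 (flp_d L255820) rfl
theorem L632540 : N30166 = N6439 := eqes L632539 L79432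
theorem L632541 : N30166 = N6439 := eqc rfl L632540 rfl
theorem L632549 : sm gc N6439 = N20737 := trfs L632541 L255818 rfl
theorem L632550 : N20737 = N9316 := eqes L632549 (flp_c L79562)
theorem L632551 : N20737 = N9316 := eqc rfl L632550 rfl
theorem L632584 : sm gb N9316 = N16558 := trfs L632551 L592865 rfl
theorem L632585 : N16558 = N13497 := eqes L632584 (flp_b L114891)
theorem L632586 : N16558 = N13497 := eqc rfl L632585 rfl
theorem L632587 : sm gd N9316 = N14260 := trfs L632551 L176285 rfl
theorem L632588 : N14260 = N13499 := eqes L632587 (flp_d L114910)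
theorem L632589 : N14260 = N13499 := eqc rfl L632588 rfl
theorem L632592 : sm gg N9316 = N30089 := trfs L632551 (flp_g L255152) rfl
theorem L632593 : N30089 = N6438 := eqes L632592 (flp_g L79559)
theorem L632594 : N30089 = N6438 := eqc rfl L632593 rfl
theorem L632615 : sm gh N6438 = N43862 := trfs L632594 L371005 rfl
theorem L632616 : N43862 = N4492 := eqes L632615 L55186
theorem L632617 : N43862 = N4492 := eqc rfl L632616 rfl
theorem L632626 : sm gj N4492 = N30090 := trfs L632617 L371010 rfl
theorem L632627 : N30090 = N6474 := eqes L632626 (flp_j L55519)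
theorem L632628 : N30090 = N6474 := eqc rfl L632627 rfl
theorem L632638 : sm gf N6474 = N43760 := trfs L632628 (flp_f L370090) rfl
theorem L632639 : N43760 = N4484 := eqes L632638 (flp_f L55514)
theorem L632640 : N43760 = N4484 := eqc rfl L632639 rfl
theorem L632661 : sm gh N4484 = N30020 := trfs L632640 (flp_h L370087) rfl
theorem L632662 : N30020 = N6433 := eqes L632661 (flp_h L55141)
theorem L632663 : N30020 = N6433 := eqc rfl L632662 rfl
theorem L632678 : sm gg N6433 = N20623 := trfs L632663 (flp_g L254522) rfl
theorem L632679 : N20623 = N9304 := eqes L632678 (flp_g L79454)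
theorem L632680 : N20623 = N9304 := eqc rfl L632679 rfl
theorem L632684 : sm gb N9304 = N16691 := trfs L632680 L581911 rfl
theorem L632685 : N16691 = N13481 := eqes L632684 (flp_b L114744)
theorem L632686 : N16691 = N13481 := eqc rfl L632685 rfl
theorem L632690 : sm gd N9304 = N14184 := trfs L632680 L175277 rfl
theorem L632691 : N14184 = N13482 := eqes L632690 L114753
theorem L632692 : N14184 = N13482 := eqc rfl L632691 rfl
theorem L632696 : sm gf N9304 = N14183 := trfs L632680 (flp_f L175274) rfl
theorem L632697 : N14183 = N13483 := eqes L632696 L114761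
theorem L632698 : N14183 = N13483 := eqc rfl L632697 rfl
theorem L632703 : sm gb N13483 = N11489 := trfs L632698 L581918 rfl
theorem L632704 : N11489 = N19579 := eqes L632703 (flp_b L166197)
theorem L632705 : N19579 = N11489 := (eqc rfl L632704 rfl).symm
theorem L632707 : sm gd N13483 = N9772 := trfs L632698 (flp_d L120853) rfl
theorem L632708 : N9772 = N19580 := eqes L632707 (flp_d L166208)
theorem L632709 : N19580 = N9772 := (eqc rfl L632708 rfl).symm
theorem L632714 : sm gh N13483 = N20624 := trfs L632698 L175281 rfl
theorem L632715 : N20624 = N9358 := eqes L632714 L114767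
theorem L632716 : N20624 = N9358 := eqc rfl L632715 rfl
theorem L632719 : sm gb N9358 = N16692 := trfs L632716 L581927 rfl
theorem L632720 : N16692 = N13562 := eqes L632719 (flp_b L115472)
theorem L632721 : N16692 = N13562 := eqc rfl L632720 rfl
theorem L632723 : sm gd N9358 = N14190 := trfs L632716 L175288 rfl
theorem L632724 : N14190 = N13563 := eqes L632723 (flp_d L115481)
theorem L632725 : N14190 = N13563 := eqc rfl L632724 rfl
theorem L632730 : sm gi N9358 = N30022 := trfs L632716 L254538 rfl
theorem L632731 : N30022 = N13558 := eqes L632730 (flp_i L115438)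
theorem L632732 : N30022 = N13558 := eqc rfl L632731 rfl
theorem L632734 : sm gb N13558 = N24286 := trfs L632732 L566032 rfl
theorem L632735 : N24286 = N19690 := eqes L632734 (flp_b L167177)
theorem L632736 : N24286 = N19690 := eqc rfl L632735 rfl
theorem L632738 : sm gd N13558 = N20636 := trfs L632732 L254541 rfl
theorem L632739 : N20636 = N19691 := eqes L632738 (flp_d L167189)
theorem L632740 : N20636 = N19691 := eqc rfl L632739 rfl
theorem L632742 : sm gf N13558 = N43761 := trfs L632732 (flp_f L370101) rfl
theorem L632743 : N43761 = N9353 := eqes L632742 (flp_f L115431)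
theorem L632744 : N43761 = N9353 := eqc rfl L632743 rfl
theorem L632749 : sm gd N9353 = N30039 := trfs L632744 L370099 rfl
theorem L632750 : N30039 = N13557 := eqes L632749 L115420
theorem L632751 : N30039 = N13557 := eqc rfl L632750 rfl
theorem L632768 : sm gh N13557 = N20653 := trfs L632751 L254707 rfl
theorem L632769 : N20653 = N19692 := eqes L632768 L167194
theorem L632770 : N20653 = N19692 := eqc rfl L632769 rfl
theorem L632771 : sm gi N13557 = N20635 := trfs L632751 (flp_i L254700) rfl
theorem L632772 : N20635 = N9357 := eqes L632771 L115426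
theorem L632773 : N20635 = N9357 := eqc rfl L632772 rfl
theorem L632786 : sm gh N9357 = N14189 := trfs L632773 (flp_h L175389) rfl
theorem L632787 : N14189 = N13564 := eqes L632786 L115484
theorem L632788 : N14189 = N13564 := eqc rfl L632787 rfl
theorem L632790 : sm gb N13564 = N20630 := trfs L632788 (flp_b L175346) rfl
theorem L632791 : N20630 = N19699 := eqes L632790 (flp_b L167263)
theorem L632792 : N20630 = N19699 := eqc rfl L632791 rfl
theorem L632794 : sm gd N13564 = N9777 := trfs L632788 L120917 rfl
theorem L632795 : N9777 = N19581 := eqes L632794 (flp_d L166219)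
theorem L632796 : N19581 = N9777 := (eqc rfl L632795 rfl).symm
theorem L632797 : sm ge N13564 = N20633 := trfs L632788 L175371 rfl
theorem L632798 : N20633 = N9783 := eqes L632797 L115488
theorem L632799 : N20633 = N9783 := eqc rfl L632798 rfl
theorem L632800 : sm gf N13564 = N9776 := trfs L632788 (flp_f L120913) rfl
theorem L632801 : N9776 = N19703 := eqes L632800 (flp_f L167298)
theorem L632802 : N19703 = N9776 := (eqc rfl L632801 rfl).symm
theorem L632807 : sm gi N13564 = N9782 := trfs L632788 L120920 rfl
theorem L632808 : N9782 = N19704 := eqes L632807 L167301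
theorem L632809 : N19704 = N9782 := (eqc rfl L632808 rfl).symm
theorem L632818 : sm ge N9782 = N14202 := trfs L632809 L167305 rfl
theorem L632819 : N14202 = N14199 := eqes L632818 L121002
theorem L632820 : N14202 = N14199 := eqc rfl L632819 rfl
theorem L632824 : sm gg N9782 = N13583 := trfs L632809 L167307 rfl
theorem L632825 : N13583 = N14200 := eqes L632824 L121008
theorem L632826 : N14200 = N13583 := (eqc rfl L632825 rfl).symm
theorem L632828 : sm gh N9782 = N28636 := trfs L632809 (flp_h L242523) rfl
theorem L632829 : N28636 = N14201 := eqes L632828 L121016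
theorem L632830 : N28636 = N14201 := eqc rfl L632829 rfl
theorem L632831 : sm gi N9782 = N13564 := trfs L632809 (flp_i L167301) rfl
theorem L632834 : sm gb N14201 = N41697 := trfs L632830 (flp_b L352233) rfl
theorem L632835 : N41697 = N20646 := eqes L632834 (flp_b L175485)
theorem L632836 : N41697 = N20646 := eqc rfl L632835 rfl
theorem L632839 : sm ge N14201 = N19691 := trfs L632830 L242518 L632740
theorem L632840 : N19691 = N20650 := eqes L632839 (flp_e L175521)
theorem L632841 : N20650 = N19691 := (eqc rfl L632840 rfl).symm
theorem L632845 : sm gg N14201 = N19715 := trfs L632830 L242520 rfl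
theorem L632846 : N19715 = N20652 := eqes L632845 (flp_g L175539)
theorem L632847 : N20652 = N19715 := (eqc rfl L632846 rfl).symm
theorem L632861 : sm gg N19715 = N14201 := trfs L632847 L175539 rfl
theorem L632863 : sm gj N19715 = N16801 := trfs L632847 L620973 rfl
theorem L632864 : N16801 = N13594 := eqes L632863 L167418
theorem L632865 : N16801 = N13594 := eqc rfl L632864 rfl
theorem L632867 : sm gi N19715 = N30064 := trfs L632847 L254908 rfl
theorem L632868 : N30064 = N13571 := eqes L632867 (flp_i L167411)
theorem L632869 : N30064 = N13571 := eqc rfl L632868 rfl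
theorem L632879 : sm gj N13571 = N24442 := trfs L632869 L620934 rfl
theorem L632880 : N24442 = N9376 := eqes L632879 L115559
theorem L632881 : N24442 = N9376 := eqc rfl L632880 rfl
theorem L632892 : sm gh N9376 = N30234 := trfs L632881 (flp_h L566739) rfl
theorem L632893 : N30234 = N6478 := eqes L632892 (flp_h L80105)
theorem L632894 : N30234 = N6478 := eqc rfl L632893 rfl
theorem L632908 : sm gi N6478 = N20766 := trfs L632894 (flp_i L256375) rfl
theorem L632909 : N20766 = N4491 := eqes L632908 L55555
theorem L632910 : N20766 = N4491 := eqc rfl L632909 rfl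
theorem L632921 : sm gh N4491 = N14277 := trfs L632910 (flp_h L176519) rfl
theorem L632922 : N14277 = N6485 := eqes L632921 L55608
theorem L632923 : N14277 = N6485 := eqc rfl L632922 rfl
theorem L632927 : sm gd N6485 = N10695 := trfs L632923 L121687 rfl
theorem L632928 : N10695 = N9315 := eqes L632927 (flp_d L79557)
theorem L632929 : N10695 = N9315 := eqc rfl L632928 rfl
theorem L632936 : sm gi N6485 = N11570 := trfs L632923 L566678 rfl
theorem L632937 : N11570 = N9388 := eqes L632936 L80200
theorem L632938 : N11570 = N9388 := eqc rfl L632937 rfl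
theorem L632940 : sm gb N9388 = N7979 := trfs L632938 (flp_b L98998) rfl
theorem L632941 : N7979 = N13605 := eqes L632940 (flp_b L115848)
theorem L632942 : N13605 = N7979 := (eqc rfl L632941 rfl).symm
theorem L632944 : sm gd N9388 = N7988 := trfs L632938 L99000 rfl
theorem L632945 : N7988 = N13501 := eqes L632944 (flp_d L114924)
theorem L632946 : N13501 = N7988 := (eqc rfl L632945 rfl).symm
theorem L632950 : sm gf N9388 = N14240 := trfs L632938 L620733 rfl
theorem L632951 : N14240 = N13611 := eqes L632950 (flp_f L115895)
theorem L632952 : N14240 = N13611 := eqc rfl L632951 rfl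
theorem L632960 : sm gd N13611 = N9811 := trfs L632952 L121377 rfl
theorem L632961 : N9811 = N19610 := eqes L632960 (flp_d L166470)
theorem L632962 : N19610 = N9811 := (eqc rfl L632961 rfl).symm
theorem L632977 : sm gd N9811 = N13611 := trfs L632962 L166470 rfl
theorem L632990 : sm gi N9811 = N13500 := trfs L632962 (flp_i L166467) rfl
theorem L632991 : N13500 = N14226 := eqes L632990 (flp_i L121261)
theorem L632992 : N14226 = N13500 := (eqc rfl L632991 rfl).symm
theorem L632996 : sm gc N13500 = N9800 := trfs L632992 L121257 rfl
theorem L632997 : N9800 = N19574 := eqes L632996 (flp_c L166151)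
theorem L632998 : N19574 = N9800 := (eqc rfl L632997 rfl).symm
theorem L633000 : sm ge N13500 = N9868 := trfs L632992 L121259 rfl
theorem L633001 : N9868 = N19607 := eqes L633000 (flp_e L166449)
theorem L633002 : N19607 = N9868 := (eqc rfl L633001 rfl).symm
theorem L633004 : sm gg N13500 = N9834 := trfs L632992 L121263 rfl
theorem L633005 : N9834 = N19609 := eqes L633004 (flp_g L166463)
theorem L633006 : N19609 = N9834 := (eqc rfl L633005 rfl).symm
theorem L633007 : sm gj N13500 = N9799 := trfs L632992 (flp_j L121254) rfl
theorem L633008 : N9799 = N19592 := eqes L633007 (flp_j L166320)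
theorem L633009 : N19592 = N9799 := (eqc rfl L633008 rfl).symm
theorem L633011 : sm gi N13500 = N9811 := trfs L632992 L121261 rfl
theorem L633020 : sm gd N9799 = N13582 := trfs L633009 L166322 rfl
theorem L633021 : N13582 = N14223 := eqes L633020 (flp_d L121234)
theorem L633022 : N14223 = N13582 := (eqc rfl L633021 rfl).symm
theorem L633026 : sm gf N9799 = N13489 := trfs L633009 L166318 rfl
theorem L633027 : N13489 = N14191 := eqes L633026 (flp_f L120937)
theorem L633028 : N14191 = N13489 := (eqc rfl L633027 rfl).symm
theorem L633032 : sm gj N9799 = N13500 := trfs L633009 L166320 rfl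
theorem L633034 : sm gh N9799 = N13488 := trfs L633009 (flp_h L166315) rfl
theorem L633035 : N13488 = N14214 := eqes L633034 (flp_h L121148)
theorem L633036 : N14214 = N13488 := (eqc rfl L633035 rfl).symm
theorem L633039 : sm gb N13488 = N11334 := trfs L633036 (flp_b L592821) rfl
theorem L633040 : N11334 = N19587 := eqes L633039 (flp_b L166274)
theorem L633041 : N19587 = N11334 := (eqc rfl L633040 rfl).symm
theorem L633042 : sm gc N13488 = N9793 := trfs L633036 L121144 rfl
theorem L633043 : N9793 = N19562 := eqes L633042 (flp_c L166048)
theorem L633044 : N19562 = N9793 := (eqc rfl L633043 rfl).symm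
theorem L633046 : sm ge N13488 = N9856 := trfs L633036 L121146 rfl
theorem L633047 : N9856 = N19590 := eqes L633046 L166300
theorem L633048 : N19590 = N9856 := (eqc rfl L633047 rfl).symm
theorem L633050 : sm gg N13488 = N9792 := trfs L633036 (flp_g L121141) rfl
theorem L633051 : N9792 = N19591 := eqes L633050 L166309
theorem L633052 : N19591 = N9792 := (eqc rfl L633051 rfl).symm
theorem L633054 : sm gh N13488 = N9799 := trfs L633036 L121148 rfl
theorem L633072 : sm gg N9792 = N13488 := trfs L633052 (flp_g L166309) rfl
theorem L633074 : sm gj N9792 = N28483 := trfs L633052 L241171 rfl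
theorem L633075 : N28483 = N6776 := eqes L633074 L83715
theorem L633076 : N28483 = N6776 := eqc rfl L633075 rfl
theorem L633093 : sm gg N6776 = N19608 := trfs L633076 L241177 rfl
theorem L633094 : N19608 = N9822 := eqes L633093 L83978
theorem L633095 : N19608 = N9822 := eqc rfl L633094 rfl
theorem L633113 : sm ge N9822 = N28505 := trfs L633095 (flp_e L241355) rfl
theorem L633114 : N28505 = N6824 := eqes L633113 L83983
theorem L633115 : N28505 = N6824 := eqc rfl L633114 rfl
theorem L633128 : sm gd N6824 = N19646 := trfs L633115 L241353 rfl
theorem L633129 : N19646 = N9892 := eqes L633128 (flp_d L84592)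
theorem L633130 : N19646 = N9892 := eqc rfl L633129 rfl
theorem L633135 : sm gj N6824 = N19606 := trfs L633115 (flp_j L241350) rfl
theorem L633136 : N19606 = N9895 := eqes L633135 L84615
theorem L633137 : N19606 = N9895 := eqc rfl L633136 rfl
theorem L633138 : sm gh N6824 = N41510 := trfs L633115 L350570 rfl
theorem L633139 : N41510 = N4724 := eqes L633138 L58576
theorem L633140 : N41510 = N4724 := eqc rfl L633139 rfl
theorem L633144 : sm gj N4724 = N28506 := trfs L633140 L350575 rfl
theorem L633145 : N28506 = N6836 := eqes L633144 L58678
theorem L633146 : N28506 = N6836 := eqc rfl L633145 rfl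
theorem L633158 : sm gf N6836 = N41509 := trfs L633146 (flp_f L350567) rfl
theorem L633159 : N41509 = N4754 := eqes L633158 L58683
theorem L633160 : N41509 = N4754 := eqc rfl L633159 rfl
theorem L633173 : sm gh N4754 = N28504 := trfs L633160 (flp_h L350563) rfl
theorem L633174 : N28504 = N6863 := eqes L633173 (flp_h L58905)
theorem L633175 : N28504 = N6863 := eqc rfl L633174 rfl
theorem L633183 : sm gd N6863 = N19645 := trfs L633175 L241345 rfl
theorem L633184 : N19645 = N9950 := eqes L633183 (flp_d L85079)
theorem L633185 : N19645 = N9950 := eqc rfl L633184 rfl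
theorem L633196 : sm ge N9950 = N13548 := trfs L633185 L166789 rfl
theorem L633197 : N13548 = N14450 := eqes L633196 (flp_e L123172)
theorem L633198 : N14450 = N13548 := (eqc rfl L633197 rfl).symm
theorem L633199 : sm gf N9950 = N13525 := trfs L633185 (flp_f L166784) rfl
theorem L633200 : N13525 = N14367 := eqes L633199 (flp_f L122471)
theorem L633201 : N14367 = N13525 := (eqc rfl L633200 rfl).symm
theorem L633206 : sm gh N9950 = N28565 := trfs L633185 L241885 rfl
theorem L633207 : N28565 = N14454 := eqes L633206 L123201
theorem L633208 : N28565 = N14454 := eqc rfl L633207 rfl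
theorem L633218 : sm ge N14454 = N19681 := trfs L633208 L241889 rfl
theorem L633219 : N19681 = N21024 := eqes L633218 (flp_e L178745)
theorem L633220 : N21024 = N19681 := (eqc rfl L633219 rfl).symm
theorem L633221 : sm gf N14454 = N19647 := trfs L633208 L241891 rfl
theorem L633222 : N19647 = N20901 := eqes L633221 (flp_f L177707)
theorem L633223 : N20901 = N19647 := (eqc rfl L633222 rfl).symm
theorem L633228 : sm gi N14454 = N41599 := trfs L633208 L351367 rfl
theorem L633229 : N41599 = N21029 := eqes L633228 L178785
theorem L633230 : N41599 = N21029 := eqc rfl L633229 rfl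
theorem L633233 : sm ge N21029 = N28619 := trfs L633230 L351371 rfl
theorem L633234 : N28619 = N30622 := eqes L633233 (flp_e L259720)
theorem L633235 : N30622 = N28619 := (eqc rfl L633234 rfl).symm
theorem L633236 : sm gf N21029 = N28568 := trfs L633230 L351373 rfl
theorem L633237 : N28568 = N30436 := eqes L633236 (flp_f L258154)
theorem L633238 : N30436 = N28568 := (eqc rfl L633237 rfl).symm
theorem L633242 : sm gb N28568 = N21943 := trfs L633238 (flp_b L522040) rfl
theorem L633243 : N21943 = N41592 := eqes L633242 (flp_b L351311)
theorem L633244 : N41592 = N21943 := (eqc rfl L633243 rfl).symm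
theorem L633246 : sm gd N28568 = N20938 := trfs L633238 L258152 rfl
theorem L633247 : N20938 = N41603 := eqes L633246 (flp_d L351404)
theorem L633248 : N41603 = N20938 := (eqc rfl L633247 rfl).symm
theorem L633252 : sm gf N28568 = N21029 := trfs L633238 L258154 rfl
theorem L633257 : sm gj N28568 = N20902 := trfs L633238 L258156 rfl
theorem L633258 : N20902 = N41601 := eqes L633257 (flp_j L351390)
theorem L633259 : N41601 = N20902 := (eqc rfl L633258 rfl).symm
theorem L633264 : sm ge N20902 = N28571 := trfs L633259 L351388 rfl
theorem L633265 : N28571 = N30433 := eqes L633264 (flp_e L258128)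
theorem L633266 : N30433 = N28571 := (eqc rfl L633265 rfl).symm
theorem L633267 : sm gj N20902 = N28568 := trfs L633259 L351390 rfl
theorem L633270 : sm gi N20902 = N28566 := trfs L633259 (flp_i L351384) rfl
theorem L633271 : N28566 = N14368 := eqes L633270 (flp_i L177713)
theorem L633272 : N28566 = N14368 := eqc rfl L633271 rfl
theorem L633281 : sm ge N14368 = N19650 := trfs L633272 L241898 rfl
theorem L633282 : N19650 = N20898 := eqes L633281 (flp_e L177685)
theorem L633283 : N20898 = N19650 := (eqc rfl L633282 rfl).symm
theorem L633285 : sm gg N14368 = N41546 := trfs L633272 (flp_g L350910) rfl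
theorem L633286 : N41546 = N9893 := eqes L633285 L122480
theorem L633287 : N41546 = N9893 := eqc rfl L633286 rfl
theorem L633293 : sm ge N9893 = N28534 := trfs L633287 L350908 rfl
theorem L633294 : N28534 = N14366 := eqes L633293 (flp_e L122462)
theorem L633295 : N28534 = N14366 := eqc rfl L633294 rfl
theorem L633296 : sm gj N9893 = N28531 := trfs L633287 L350912 rfl
theorem L633297 : N28531 = N14310 := eqes L633296 (flp_j L121951)
theorem L633298 : N28531 = N14310 := eqc rfl L633297 rfl
theorem L633299 : sm gh N9893 = N28530 := trfs L633287 (flp_h L350904) rfl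
theorem L633300 : N28530 = N6822 := eqes L633299 (flp_h L84597)
theorem L633301 : N28530 = N6822 := eqc rfl L633300 rfl
theorem L633313 : sm gj N6822 = N19622 := trfs L633301 (flp_j L241578) rfl
theorem L633314 : N19622 = N9854 := eqes L633313 (flp_j L84247)
theorem L633315 : N19622 = N9854 := eqc rfl L633314 rfl
theorem L633328 : sm gg N9854 = N13509 := trfs L633315 (flp_g L166582) rfl
theorem L633329 : N13509 = N14309 := eqes L633328 L121937
theorem L633330 : N14309 = N13509 := (eqc rfl L633329 rfl).symm
theorem L633334 : sm gb N13509 = N10325 := trfs L633330 (flp_b L549956) rfl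
theorem L633335 : N10325 = N19617 := eqes L633334 (flp_b L166536)
theorem L633336 : N19617 = N10325 := (eqc rfl L633335 rfl).symm
theorem L633344 : sm gg N13509 = N9854 := trfs L633330 (flp_g L121937) rfl
theorem L633349 : sm gh N13509 = N20815 := trfs L633330 L176921 rfl
theorem L633350 : N20815 = N19623 := eqes L633349 L166589
theorem L633351 : N20815 = N19623 := eqc rfl L633350 rfl
theorem L633354 : sm gb N19623 = N15008 := trfs L633351 L592708 rfl
theorem L633355 : N15008 = N28525 := eqes L633354 (flp_b L241534)
theorem L633356 : N28525 = N15008 := (eqc rfl L633355 rfl).symm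
theorem L633358 : sm gd N19623 = N14327 := trfs L633351 L176928 rfl
theorem L633359 : N14327 = N28532 := eqes L633358 L241595
theorem L633360 : N28532 = N14327 := (eqc rfl L633359 rfl).symm
theorem L633370 : sm gi N19623 = N30309 := trfs L633351 L256998 rfl
theorem L633371 : N30309 = N28533 := eqes L633370 L241603
theorem L633372 : N30309 = N28533 := eqc rfl L633371 rfl
theorem L633374 : sm gb N28533 = N21848 := trfs L633372 L549899 rfl
theorem L633375 : N21848 = N41541 := eqes L633374 (flp_b L350859)
theorem L633376 : N41541 = N21848 := (eqc rfl L633375 rfl).symm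
theorem L633378 : sm gd N28533 = N20841 := trfs L633372 L257002 rfl
theorem L633379 : N20841 = N41550 := eqes L633378 (flp_d L350942)
theorem L633380 : N41550 = N20841 := (eqc rfl L633379 rfl).symm
theorem L633385 : sm gg N28533 = N20816 := trfs L633372 L257005 rfl
theorem L633386 : N20816 = N41548 := eqes L633385 (flp_g L350927)
theorem L633387 : N41548 = N20816 := (eqc rfl L633386 rfl).symm
theorem L633392 : sm ge N20816 = N28535 := trfs L633387 L350925 rfl
theorem L633393 : N28535 = N30307 := eqes L633392 (flp_e L256981)
theorem L633394 : N30307 = N28535 := (eqc rfl L633393 rfl).symm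
theorem L633395 : sm gg N20816 = N28533 := trfs L633387 L350927 rfl
theorem L633400 : sm gb N28535 = N21845 := trfs L633394 (flp_b L549770) rfl
theorem L633401 : N21845 = N41543 := eqes L633400 (flp_b L350880)
theorem L633402 : N41543 = N21845 := (eqc rfl L633401 rfl).symm
theorem L633405 : sm ge N28535 = N20816 := trfs L633394 L256981 rfl
theorem L633409 : sm gj N28535 = N20900 := trfs L633394 L256984 rfl
theorem L633410 : N20900 = N41551 := eqes L633409 (flp_j L350958)
theorem L633411 : N41551 = N20900 := (eqc rfl L633410 rfl).symm
theorem L633413 : sm gi N28535 = N20813 := trfs L633394 (flp_i L256977) rfl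
theorem L633414 : N20813 = N19625 := eqes L633413 (flp_i L241624)
theorem L633415 : N20813 = N19625 := eqc rfl L633414 rfl
theorem L633417 : sm gb N19625 = N15006 := trfs L633415 (flp_b L522067) rfl
theorem L633418 : N15006 = N28527 := eqes L633417 (flp_b L241553)
theorem L633419 : N28527 = N15006 := (eqc rfl L633418 rfl).symm
theorem L633421 : sm gd N19625 = N30306 := trfs L633415 L256969 rfl
theorem L633422 : N30306 = N13637 := eqes L633421 L166615
theorem L633423 : N30306 = N13637 := eqc rfl L633422 rfl
theorem L633432 : sm gb N13637 = N21844 := trfs L633423 L522064 rfl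
theorem L633433 : N21844 = N19806 := eqes L633432 (flp_b L168223)
theorem L633434 : N21844 = N19806 := eqc rfl L633433 rfl
theorem L633442 : sm ga N19806 = N15025 := trfs L633434 L185529 rfl
theorem L633443 : N15025 = N28791 := eqes L633442 (flp_a L243920)
theorem L633444 : N28791 = N15025 := (eqc rfl L633443 rfl).symm
theorem L633445 : sm gc N19806 = N31831 := trfs L633434 L269676 rfl
theorem L633446 : N31831 = N28797 := eqes L633445 (flp_c L243978)
theorem L633447 : N31831 = N28797 := eqc rfl L633446 rfl
theorem L633450 : sm ge N19806 = N30334 := trfs L633434 (flp_e L592050) rfl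
theorem L633451 : N30334 = N28804 := eqes L633450 (flp_e L244040)
theorem L633452 : N30334 = N28804 := eqc rfl L633451 rfl
theorem L633457 : sm gj N19806 = N15069 := trfs L633434 L185532 rfl
theorem L633458 : N15069 = N28807 := eqes L633457 (flp_j L244069)
theorem L633459 : N28807 = N15069 := (eqc rfl L633458 rfl).symm
theorem L633463 : sm gi N19806 = N31833 := trfs L633434 L269693 rfl
theorem L633464 : N31833 = N28808 := eqes L633463 L244071
theorem L633465 : N31833 = N28808 := eqc rfl L633464 rfl
theorem L633466 : sm ga N28808 = N21874 := trfs L633465 L269695 rfl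
theorem L633467 : N21874 = N41937 := eqes L633466 (flp_a L354417)
theorem L633468 : N41937 = N21874 := (eqc rfl L633467 rfl).symm
theorem L633472 : sm gj N28808 = N21941 := trfs L633465 L269700 rfl
theorem L633473 : N21941 = N41960 := eqes L633472 (flp_j L354624)
theorem L633474 : N41960 = N21941 := (eqc rfl L633473 rfl).symm
theorem L633478 : sm gg N21941 = N28896 := trfs L633474 L354622 rfl
theorem L633479 : N28896 = N31972 := eqes L633478 (flp_g L270913)
theorem L633480 : N31972 = N28896 := (eqc rfl L633479 rfl).symm
theorem L633481 : sm gj N21941 = N28808 := trfs L633474 L354624 rfl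
theorem L633484 : sm ga N28896 = N21979 := trfs L633480 L270909 rfl
theorem L633485 : N21979 = N42059 := eqes L633484 (flp_a L355527)
theorem L633486 : N42059 = N21979 := (eqc rfl L633485 rfl).symm
theorem L633487 : sm gd N28896 = N21938 := trfs L633480 L270911 rfl
theorem L633488 : N21938 = N41595 := eqes L633487 (flp_d L351336)
theorem L633489 : N41595 = N21938 := (eqc rfl L633488 rfl).symm
theorem L633490 : sm gg N28896 = N21941 := trfs L633480 L270913 rfl
theorem L633492 : sm gi N28896 = N21937 := trfs L633480 (flp_i L270907) rfl
theorem L633493 : N21937 = N19866 := eqes L633492 (flp_i L244853)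
theorem L633494 : N21937 = N19866 := eqc rfl L633493 rfl
theorem L633495 : sm ga N19866 = N15095 := trfs L633494 L186357 rfl
theorem L633496 : N15095 = N28872 := eqes L633495 (flp_a L244661)
theorem L633497 : N28872 = N15095 := (eqc rfl L633496 rfl).symm
theorem L633501 : sm gc N19866 = N31970 := trfs L633494 L270891 rfl
theorem L633502 : N31970 = N28881 := eqes L633501 (flp_c L244739)
theorem L633503 : N31970 = N28881 := eqc rfl L633502 rfl
theorem L633504 : sm gd N19866 = N15068 := trfs L633494 (flp_d L186355) rfl
theorem L633505 : N15068 = N28562 := eqes L633504 (flp_d L241863)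
theorem L633506 : N28562 = N15068 := (eqc rfl L633505 rfl).symm
theorem L633507 : sm ge N19866 = N30476 := trfs L633494 (flp_e L591958) rfl
theorem L633508 : N30476 = N28891 := eqes L633507 (flp_e L244823)
theorem L633509 : N30476 = N28891 := eqc rfl L633508 rfl
theorem L633518 : sm gh N19866 = N31959 := trfs L633494 (flp_h L270798) rfl
theorem L633519 : N31959 = N13670 := eqes L633518 (flp_h L168755)
theorem L633520 : N31959 = N13670 := eqc rfl L633519 rfl
theorem L633521 : sm ga N13670 = N21966 := trfs L633520 L270794 rfl
theorem L633522 : N21966 = N19849 := eqes L633521 (flp_a L168620)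
theorem L633523 : N21966 = N19849 := eqc rfl L633522 rfl
theorem L633527 : sm gc N19849 = N32011 := trfs L633523 L271231 rfl
theorem L633528 : N32011 = N28861 := eqes L633527 (flp_c L244571)
theorem L633529 : N32011 = N28861 := eqc rfl L633528 rfl
theorem L633530 : sm gd N19849 = N15089 := trfs L633523 (flp_d L186601) rfl
theorem L633531 : N15089 = N13662 := eqes L633530 L168623
theorem L633532 : N15089 = N13662 := eqc rfl L633531 rfl
theorem L633533 : sm ge N19849 = N32012 := trfs L633523 L271238 rfl
theorem L633534 : N32012 = N28868 := eqes L633533 (flp_e L244632)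
theorem L633535 : N32012 = N28868 := eqc rfl L633534 rfl
theorem L633539 : sm gg N19849 = N15090 := trfs L633523 L186604 rfl
theorem L633540 : N15090 = N28790 := eqes L633539 (flp_g L243916)
theorem L633541 : N28790 = N15090 := (eqc rfl L633540 rfl).symm
theorem L633547 : sm gi N19849 = N32013 := trfs L633523 L271247 rfl
theorem L633548 : N32013 = N16610 := eqes L633547 L575203
theorem L633549 : N32013 = N16610 := eqc rfl L633548 rfl
theorem L633551 : sm gd N16610 = N21967 := trfs L633549 L271250 rfl
theorem L633552 : N21967 = N11579 := eqes L633551 L141652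
theorem L633553 : N21967 = N11579 := eqc rfl L633552 rfl
theorem L633554 : sm gg N16610 = N21970 := trfs L633549 L271252 rfl
theorem L633555 : N21970 = N24039 := eqes L633554 (flp_g L204413)
theorem L633556 : N24039 = N21970 := (eqc rfl L633555 rfl).symm
theorem L633557 : sm ga N21970 = N28771 := trfs L633556 L574590 rfl
theorem L633558 : N28771 = N31963 := eqes L633557 (flp_a L270828)
theorem L633559 : N31963 = N28771 := (eqc rfl L633558 rfl).symm
theorem L633561 : sm gc N21970 = N34100 := trfs L633556 (flp_c L289339) rfl
theorem L633562 : N34100 = N32016 := eqes L633561 (flp_c L271269)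
theorem L633563 : N34100 = N32016 := eqc rfl L633562 rfl
theorem L633564 : sm gd N21970 = N16740 := trfs L633556 L204410 rfl
theorem L633565 : N16740 = N15091 := eqes L633564 L186633
theorem L633566 : N16740 = N15091 := eqc rfl L633565 rfl
theorem L633567 : sm ge N21970 = N35024 := trfs L633556 (flp_e L296929) rfl
theorem L633568 : N35024 = N32018 := eqes L633567 (flp_e L271286)
theorem L633569 : N35024 = N32018 := eqc rfl L633568 rfl
theorem L633571 : sm gg N21970 = N16610 := trfs L633556 L204413 rfl
theorem L633573 : sm gj N21970 = N16514 := trfs L633556 (flp_j L204407) rfl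
theorem L633574 : N16514 = N31863 := eqes L633573 (flp_j L269977)
theorem L633575 : N31863 = N16514 := (eqc rfl L633574 rfl).symm
theorem L633576 : sm gh N21970 = N31887 := trfs L633556 (flp_h L270172) rfl
theorem L633577 : N31887 = N32019 := eqes L633576 L271288
theorem L633578 : N32019 = N31887 := (eqc rfl L633577 rfl).symm
theorem L633583 : sm gh N31887 = N21970 := trfs L633578 (flp_h L271288) rfl
theorem L633585 : sm gi N31887 = N21985 := trfs L633578 L271293 rfl
theorem L633592 : sm gj N16514 = N21970 := trfs L633575 L269977 rfl
theorem L633594 : sm gi N16514 = N21865 := trfs L633575 (flp_i L269971) rfl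
theorem L633595 : N21865 = N19794 := eqes L633594 (flp_i L574636)
theorem L633596 : N21865 = N19794 := eqc rfl L633595 rfl
theorem L633599 : sm gc N19794 = N31861 := trfs L633596 L269954 rfl
theorem L633600 : N31861 = N28784 := eqes L633599 (flp_c L243857)
theorem L633601 : N31861 = N28784 := eqc rfl L633600 rfl
theorem L633602 : sm gd N19794 = N15021 := trfs L633596 (flp_d L185727) rfl
theorem L633603 : N15021 = N13626 := eqes L633602 L168118
theorem L633604 : N15021 = N13626 := eqc rfl L633603 rfl
theorem L633605 : sm ge N19794 = N31862 := trfs L633596 L269962 rfl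
theorem L633606 : N31862 = N28788 := eqes L633605 (flp_e L243895)
theorem L633607 : N31862 = N28788 := eqc rfl L633606 rfl
theorem L633609 : sm gg N19794 = N31859 := trfs L633596 (flp_g L269941) rfl
theorem L633610 : N31859 = N13624 := eqes L633609 (flp_g L168113)
theorem L633611 : N31859 = N13624 := eqc rfl L633610 rfl
theorem L633617 : sm gd N13624 = N21864 := trfs L633611 (flp_d L269938) rfl
theorem L633618 : N21864 = N9398 := eqes L633617 L116031
theorem L633619 : N21864 = N9398 := eqc rfl L633618 rfl
theorem L633626 : sm ge N9398 = N16496 := trfs L633619 L185723 rfl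
theorem L633627 : N16496 = N13575 := eqes L633626 (flp_e L115601)
theorem L633628 : N16496 = N13575 := eqc rfl L633627 rfl
theorem L633633 : sm gj N9398 = N30261 := trfs L633619 L609892 rfl
theorem L633634 : N30261 = N6508 := eqes L633633 L80307
theorem L633635 : N30261 = N6508 := eqc rfl L633634 rfl
theorem L633663 : sm gi N6508 = N44122 := trfs L633635 L373189 rfl
theorem L633664 : N44122 = N5517 := eqes L633663 L475927
theorem L633665 : N44122 = N5517 := eqc rfl L633664 rfl
theorem L633668 : sm ge N5517 = N30262 := trfs L633665 L373193 rfl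
theorem L633669 : N30262 = N7982 := eqes L633668 (flp_e L68578)
theorem L633670 : N30262 = N7982 := eqc rfl L633669 rfl
theorem L633678 : sm gg N7982 = N24140 := trfs L633670 (flp_g L609814) rfl
theorem L633679 : N24140 = N11576 := eqes L633678 L99035
theorem L633680 : N24140 = N11576 := eqc rfl L633679 rfl
theorem L633689 : sm gd N11576 = N30260 := trfs L633680 (flp_d L609965) rfl
theorem L633690 : N30260 = N16813 := eqes L633689 (flp_d L143332)
theorem L633691 : N30260 = N16813 := eqc rfl L633690 rfl
theorem L633696 : sm gj N11576 = N16587 := trfs L633680 L205279 rfl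
theorem L633697 : N16587 = N16816 := eqes L633696 L143348
theorem L633698 : N16816 = N16587 := (eqc rfl L633697 rfl).symm
theorem L633700 : sm gi N11576 = N16585 := trfs L633680 (flp_i L205274) rfl
theorem L633701 : N16585 = N13599 := eqes L633700 (flp_i L567085)
theorem L633702 : N16585 = N13599 := eqc rfl L633701 rfl
theorem L633708 : sm gd N13599 = N20781 := trfs L633702 (flp_d L621314) rfl
theorem L633709 : N20781 = N19753 := eqes L633708 (flp_d L167752)
theorem L633710 : N20781 = N19753 := eqc rfl L633709 rfl
theorem L633714 : sm gj N13599 = N11413 := trfs L633702 L141483 rfl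
theorem L633715 : N11413 = N19756 := eqes L633714 L167770
theorem L633716 : N19756 = N11413 := (eqc rfl L633715 rfl).symm
theorem L633717 : sm gh N13599 = N11412 := trfs L633702 (flp_h L141478) rfl
theorem L633718 : N11412 = N19598 := eqes L633717 (flp_h L166378)
theorem L633719 : N19598 = N11412 := (eqc rfl L633718 rfl).symm
theorem L633727 : sm ge N11412 = N13517 := trfs L633719 L166376 rfl
theorem L633728 : N13517 = N15088 := eqes L633727 (flp_e L128512)
theorem L633729 : N15088 = N13517 := (eqc rfl L633728 rfl).symm
theorem L633731 : sm gg N11412 = N13493 := trfs L633719 (flp_g L166370) rfl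
theorem L633732 : N13493 = N15561 := eqes L633731 (flp_g L619405)
theorem L633733 : N15561 = N13493 := (eqc rfl L633732 rfl).symm
theorem L633734 : sm gj N11412 = N28493 := trfs L633719 L241256 rfl
theorem L633735 : N28493 = N7864 := eqes L633734 (flp_j L97694)
theorem L633736 : N28493 = N7864 := eqc rfl L633735 rfl
theorem L633737 : sm gh N11412 = N13599 := trfs L633719 L166378 rfl
theorem L633740 : sm ga N7864 = N19605 := trfs L633736 L241258 rfl
theorem L633741 : N19605 = N11392 := eqes L633740 (flp_a L97517)
theorem L633742 : N19605 = N11392 := eqc rfl L633741 rfl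
theorem L633748 : sm ge N7864 = N19634 := trfs L633736 L241262 rfl
theorem L633749 : N19634 = N10379 := eqes L633748 (flp_e L88676)
theorem L633750 : N19634 = N10379 := eqc rfl L633749 rfl
theorem L633752 : sm gg N7864 = N41462 := trfs L633736 (flp_g L350181) rfl
theorem L633753 : N41462 = N5429 := eqes L633752 (flp_g L67580)
theorem L633754 : N41462 = N5429 := eqc rfl L633753 rfl
theorem L633768 : sm gh N5429 = N28677 := trfs L633754 L350178 rfl
theorem L633769 : N28677 = N7865 := eqes L633768 L67588
theorem L633770 : N28677 = N7865 := eqc rfl L633769 rfl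
theorem L633772 : sm ga N7865 = N19727 := trfs L633770 L242900 rfl
theorem L633773 : N19727 = N11393 := eqes L633772 (flp_a L97526)
theorem L633774 : N19727 = N11393 := eqc rfl L633773 rfl
theorem L633778 : sm ge N7865 = N19797 := trfs L633770 L242904 rfl
theorem L633779 : N19797 = N10380 := eqes L633778 (flp_e L88683)
theorem L633780 : N19797 = N10380 := eqc rfl L633779 rfl
theorem L633786 : sm gi N7865 = N24353 := trfs L633770 L574612 rfl
theorem L633787 : N24353 = N11415 := eqes L633786 L97716
theorem L633788 : N24353 = N11415 := eqc rfl L633787 rfl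
theorem L633789 : sm ga N11415 = N28664 := trfs L633788 L574583 rfl
theorem L633790 : N28664 = N16561 := eqes L633789 (flp_a L141276)
theorem L633791 : N28664 = N16561 := eqc rfl L633790 rfl
theorem L633796 : sm gf N11415 = N35470 := trfs L633788 (flp_f L300640) rfl
theorem L633797 : N35470 = N7978 := eqes L633796 L97720
theorem L633798 : N35470 = N7978 := eqc rfl L633797 rfl
theorem L633806 : sm gj N7978 = N24350 := trfs L633798 (flp_j L300635) rfl
theorem L633807 : N24350 = N11510 := eqes L633806 (flp_j L98506)
theorem L633808 : N24350 = N11510 := eqc rfl L633807 rfl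
theorem L633810 : sm ga N11510 = N28632 := trfs L633808 (flp_a L567165) rfl
theorem L633811 : N28632 = N16694 := eqes L633810 (flp_a L142344)
theorem L633812 : N28632 = N16694 := eqc rfl L633811 rfl
theorem L633818 : sm gg N11510 = N16734 := trfs L633808 (flp_g L206986) rfl
theorem L633819 : N16734 = N16719 := eqes L633818 (flp_g L142579)
theorem L633820 : N16734 = N16719 := eqc rfl L633819 rfl
theorem L633822 : sm gi N11510 = N28641 := trfs L633808 (flp_i L484483) rfl
theorem L633823 : N28641 = N7936 := eqes L633822 (flp_i L98501)
theorem L633824 : N28641 = N7936 := eqc rfl L633823 rfl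
theorem L633825 : sm ga N7936 = N19700 := trfs L633824 L242567 rfl
theorem L633826 : N19700 = N11490 := eqes L633825 (flp_a L98315)
theorem L633827 : N19700 = N11490 := eqc rfl L633826 rfl
theorem L633833 : sm gg N7936 = N19696 := trfs L633824 (flp_g L242565) rfl
theorem L633834 : N19696 = N11508 := eqes L633833 (flp_g L98491)
theorem L633835 : N19696 = N11508 := eqc rfl L633834 rfl
theorem L633837 : sm gh N7936 = N41442 := trfs L633824 (flp_h L349992) rfl
theorem L633838 : N41442 = N5482 := eqes L633837 (flp_h L68192)
theorem L633839 : N41442 = N5482 := eqc rfl L633838 rfl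
theorem L633847 : sm gg N5482 = N28460 := trfs L633839 (flp_g L349985) rfl
theorem L633848 : N28460 = N7935 := eqes L633847 L68183
theorem L633849 : N28460 = N7935 := eqc rfl L633848 rfl
theorem L633858 : sm gf N7935 = N19577 := trfs L633849 (flp_f L240958) rfl
theorem L633859 : N19577 = N11507 := eqes L633858 L98478
theorem L633860 : N19577 = N11507 := eqc rfl L633859 rfl
theorem L633871 : sm ge N11507 = N13480 := trfs L633860 (flp_e L166174) rfl
theorem L633872 : N13480 = N16716 := eqes L633871 L142551
theorem L633873 : N16716 = N13480 := (eqc rfl L633872 rfl).symm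
theorem L633874 : sm gg N11507 = N13485 := trfs L633860 L166180 rfl
theorem L633875 : N13485 = N15452 := eqes L633874 L619430
theorem L633876 : N15452 = N13485 := (eqc rfl L633875 rfl).symm
theorem L633878 : sm gh N11507 = N13560 := trfs L633860 L166183 rfl
theorem L633879 : N13560 = N16717 := eqes L633878 L142559
theorem L633880 : N16717 = N13560 := (eqc rfl L633879 rfl).symm
theorem L633887 : sm gd N13560 = N20643 := trfs L633880 (flp_d L620901) rfl
theorem L633888 : N20643 = N19695 := eqes L633887 L167227
theorem L633889 : N20643 = N19695 := eqc rfl L633888 rfl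
theorem L633899 : sm gh N13560 = N11507 := trfs L633880 (flp_h L142559) rfl
theorem L633901 : sm gi N13560 = N24322 := trfs L633880 L206771 rfl
theorem L633902 : N24322 = N11517 := eqes L633901 (flp_i L484447)
theorem L633903 : N24322 = N11517 := eqc rfl L633902 rfl
theorem L633909 : sm gd N11517 = N30052 := trfs L633903 (flp_d L620917) rfl
theorem L633910 : N30052 = N16726 := eqes L633909 (flp_d L142634)
theorem L633911 : N30052 = N16726 := eqc rfl L633910 rfl
theorem L633917 : sm gg N11517 = N30137 := trfs L633903 L609784 rfl
theorem L633918 : N30137 = N7943 := eqes L633917 L98559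
theorem L633919 : N30137 = N7943 := eqc rfl L633918 rfl
theorem L633928 : sm ge N7943 = N43934 := trfs L633919 (flp_e L371651) rfl
theorem L633929 : N43934 = N5486 := eqes L633928 (flp_e L68251)
theorem L633930 : N43934 = N5486 := eqc rfl L633929 rfl
theorem L633940 : sm gi N5486 = N30136 := trfs L633930 (flp_i L371647) rfl
theorem L633941 : N30136 = N6471 := eqes L633940 L548631
theorem L633942 : N30136 = N6471 := eqc rfl L633941 rfl
theorem L633959 : sm gh N6471 = N22486 := trfs L633942 L255572 rfl
theorem L633960 : N22486 = N9306 := eqes L633959 (flp_h L79477)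
theorem L633961 : N22486 = N9306 := eqc rfl L633960 rfl
theorem L633973 : sm gj N9306 = N15563 := trfs L633961 L191099 rfl
theorem L633974 : N15563 = N6435 := eqes L633973 L79475
theorem L633975 : N15563 = N6435 := eqc rfl L633974 rfl
theorem L633983 : sm ge N6435 = N10706 := trfs L633975 (flp_e L132598) rfl
theorem L633984 : N10706 = N9311 := eqes L633983 L79519
theorem L633985 : N10706 = N9311 := eqc rfl L633984 rfl
theorem L633986 : sm gf N6435 = N22652 := trfs L633975 L192493 rfl
theorem L633987 : N22652 = N4466 := eqes L633986 L55159
theorem L633988 : N22652 = N4466 := eqc rfl L633987 rfl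
theorem L634005 : sm gh N4466 = N30263 := trfs L633988 (flp_h L256607) rfl
theorem L634006 : N30263 = N3126 := eqes L634005 L38444
theorem L634007 : N30263 = N3126 := eqc rfl L634006 rfl
theorem L634014 : sm gd N3126 = N41859 := trfs L634007 (flp_d L353676) rfl
theorem L634015 : N41859 = N2271 := eqes L634014 L27041
theorem L634016 : N41859 = N2271 := eqc rfl L634015 rfl
theorem L634034 : sm gf N2271 = N28739 := trfs L634016 (flp_f L353673) rfl
theorem L634035 : N28739 = N3249 := eqes L634034 (flp_f L28121)
theorem L634036 : N28739 = N3249 := eqc rfl L634035 rfl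
theorem L634052 : sm gi N3249 = N41860 := trfs L634036 L353679 rfl
theorem L634053 : N41860 = N2648 := eqes L634052 (flp_i L594375)
theorem L634054 : N41860 = N2648 := eqc rfl L634053 rfl
theorem L634057 : sm ge N2648 = N28740 := trfs L634054 L353684 rfl
theorem L634058 : N28740 = N3817 := eqes L634057 (flp_e L33110)
theorem L634059 : N28740 = N3817 := eqc rfl L634058 rfl
theorem L634075 : sm gj N3817 = N41774 := trfs L634059 (flp_j L352951) rfl
theorem L634076 : N41774 = N5484 := eqes L634075 (flp_j L47328)
theorem L634077 : N41774 = N5484 := eqc rfl L634076 rfl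
theorem L634089 : sm gi N5484 = N28681 := trfs L634077 (flp_i L352946) rfl
theorem L634090 : N28681 = N6763 := eqes L634089 L593782
theorem L634091 : N28681 = N6763 := eqc rfl L634090 rfl
theorem L634099 : sm gd N6763 = N19722 := trfs L634091 (flp_d L242932) rfl
theorem L634100 : N19722 = N9801 := eqes L634099 L83800
theorem L634101 : N19722 = N9801 := eqc rfl L634100 rfl
theorem L634106 : sm gg N6763 = N41715 := trfs L634091 (flp_g L352405) rfl
theorem L634107 : N41715 = N9779 := eqes L634106 (flp_g L83593)
theorem L634108 : N41715 = N9779 := eqc rfl L634107 rfl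
theorem L634112 : sm gd N9779 = N28643 := trfs L634108 (flp_d L352402) rfl
theorem L634113 : N28643 = N14193 := eqes L634112 L120951
theorem L634114 : N28643 = N14193 := eqc rfl L634113 rfl
theorem L634124 : sm gf N14193 = N41714 := trfs L634114 (flp_f L352399) rfl
theorem L634125 : N41714 = N20629 := eqes L634124 (flp_f L620847)
theorem L634126 : N41714 = N20629 := eqc rfl L634125 rfl
theorem L634129 : sm gh N14193 = N19697 := trfs L634114 (flp_h L242581) rfl
theorem L634130 : N19697 = N20640 := eqes L634129 L175433
theorem L634131 : N20640 = N19697 := (eqc rfl L634130 rfl).symm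
theorem L634140 : sm ga N19697 = N14197 := trfs L634131 L175435 rfl
theorem L634141 : N14197 = N28638 := eqes L634140 (flp_a L242539)
theorem L634142 : N28638 = N14197 := (eqc rfl L634141 rfl).symm
theorem L634149 : sm gf N19697 = N30029 := trfs L634131 (flp_f L608281) rfl
theorem L634150 : N30029 = N28642 := eqes L634149 L242574
theorem L634151 : N30029 = N28642 := eqc rfl L634150 rfl
theorem L634152 : sm gg N19697 = N14229 := trfs L634131 L175438 rfl
theorem L634153 : N14229 = N13576 := eqes L634152 L167249
theorem L634154 : N14229 = N13576 := eqc rfl L634153 rfl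
theorem L634156 : sm gh N19697 = N14193 := trfs L634131 (flp_h L175433) rfl
theorem L634158 : sm gi N19697 = N30046 := trfs L634131 L254761 rfl
theorem L634159 : N30046 = N28629 := eqes L634158 (flp_i L242451)
theorem L634160 : N30046 = N28629 := eqc rfl L634159 rfl
theorem L634161 : sm ga N28629 = N20647 := trfs L634160 L254763 rfl
theorem L634162 : N20647 = N20644 := eqes L634161 (flp_a L620821)
theorem L634163 : N20647 = N20644 := eqc rfl L634162 rfl
theorem L634173 : sm gg N28629 = N20694 := trfs L634160 L254767 rfl
theorem L634174 : N20694 = N19708 := eqes L634173 L242448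
theorem L634175 : N20694 = N19708 := eqc rfl L634174 rfl
theorem L634177 : sm gh N28629 = N24325 := trfs L634160 (flp_h L485869) rfl
theorem L634178 : N24325 = N41693 := eqes L634177 L352193
theorem L634179 : N41693 = N24325 := (eqc rfl L634178 rfl).symm
theorem L634180 : sm ga N24325 = N30054 := trfs L634179 L608296 rfl
theorem L634181 : N30054 = N30033 := eqes L634180 (flp_a L485872)
theorem L634182 : N30054 = N30033 := eqc rfl L634181 rfl
theorem L634184 : sm gc N24325 = N28631 := trfs L634179 L352196 rfl
theorem L634185 : N28631 = N30057 := eqes L634184 L608197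
theorem L634186 : N30057 = N28631 := (eqc rfl L634185 rfl).symm
theorem L634187 : sm ge N24325 = N28642 := trfs L634179 L352198 L634151
theorem L634188 : N28642 = N35430 := eqes L634187 (flp_e L300326)
theorem L634189 : N35430 = N28642 := (eqc rfl L634188 rfl).symm
theorem L634190 : sm gg N24325 = N28659 := trfs L634179 L352200 rfl
theorem L634191 : N28659 = N16722 := eqes L634190 L206801
theorem L634192 : N28659 = N16722 := eqc rfl L634191 rfl
theorem L634194 : sm gh N24325 = N28629 := trfs L634179 (flp_h L352193) rfl
theorem L634196 : sm ga N16722 = N24327 := trfs L634192 (flp_a L531926) rfl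
theorem L634197 : N24327 = N20681 := eqes L634196 L567516
theorem L634198 : N24327 = N20681 := eqc rfl L634197 rfl
theorem L634205 : sm ge N16722 = N20677 := trfs L634192 L242730 rfl
theorem L634206 : N20677 = N24330 := eqes L634205 (flp_e L206839)
theorem L634207 : N24330 = N20677 := (eqc rfl L634206 rfl).symm
theorem L634209 : sm gj N16722 = N19738 := trfs L634192 L242732 rfl
theorem L634210 : N19738 = N11569 := eqes L634209 L142603
theorem L634211 : N19738 = N11569 := eqc rfl L634210 rfl
theorem L634214 : sm gi N16722 = N41741 := trfs L634192 L352641 rfl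
theorem L634215 : N41741 = N11509 := eqes L634214 (flp_i L142598)
theorem L634216 : N41741 = N11509 := eqc rfl L634215 rfl
theorem L634222 : sm gj N11509 = N28707 := trfs L634216 L352648 rfl
theorem L634223 : N28707 = N7977 := eqes L634222 L98497
theorem L634224 : N28707 = N7977 := eqc rfl L634223 rfl
theorem L634230 : sm gc N7977 = N19742 := trfs L634224 L243160 rfl
theorem L634231 : N19742 = N11567 := eqes L634230 L98979
theorem L634232 : N19742 = N11567 := eqc rfl L634231 rfl
theorem L634236 : sm ge N7977 = N20752 := trfs L634224 L243162 rfl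
theorem L634237 : N20752 = N11568 := eqes L634236 L98985
theorem L634238 : N20752 = N11568 := eqc rfl L634237 rfl
theorem L634239 : sm gf N7977 = N41808 := trfs L634224 (flp_f L353251) rfl
theorem L634240 : N41808 = N11414 := eqes L634239 (flp_f L97712)
theorem L634241 : N41808 = N11414 := eqc rfl L634240 rfl
theorem L634247 : sm gh N11414 = N28738 := trfs L634241 L353253 rfl
theorem L634248 : N28738 = N7868 := eqes L634247 L97714
theorem L634249 : N28738 = N7868 := eqc rfl L634248 rfl
theorem L634251 : sm ga N7868 = N41837 := trfs L634249 (flp_a L353502) rfl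
theorem L634252 : N41837 = N9827 := eqes L634251 L566999
theorem L634253 : N41837 = N9827 := eqc rfl L634252 rfl
theorem L634268 : sm gi N9827 = N28724 := trfs L634253 (flp_i L353500) rfl
theorem L634269 : N28724 = N6788 := eqes L634268 L84033
theorem L634270 : N28724 = N6788 := eqc rfl L634269 rfl
theorem L634291 : sm gh N6788 = N19750 := trfs L634270 (flp_h L243308) rfl
theorem L634292 : N19750 = N9843 := eqes L634291 L84149
theorem L634293 : N19750 = N9843 := eqc rfl L634292 rfl
theorem L634303 : sm gf N9843 = N13596 := trfs L634293 (flp_f L167722) rfl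
theorem L634304 : N13596 = N6789 := eqes L634303 L84153
theorem L634305 : N13596 = N6789 := eqc rfl L634304 rfl
theorem L634306 : sm gg N9843 = N28723 := trfs L634293 L243300 rfl
theorem L634307 : N28723 = N14293 := eqes L634306 (flp_g L121807)
theorem L634308 : N28723 = N14293 := eqc rfl L634307 rfl
theorem L634312 : sm gi N9843 = N16810 := trfs L634293 (flp_i L567317) rfl
theorem L634313 : N16810 = N14294 := eqes L634312 L121810
theorem L634314 : N16810 = N14294 := eqc rfl L634313 rfl
theorem L634324 : sm gf N14294 = N11571 := trfs L634314 (flp_f L143311) rfl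
theorem L634325 : N11571 = N9844 := eqes L634324 L121815
theorem L634326 : N11571 = N9844 := eqc rfl L634325 rfl
theorem L634327 : sm gg N14294 = N24455 := trfs L634314 L207849 rfl
theorem L634328 : N24455 = N20792 := eqes L634327 (flp_g L176721)
theorem L634329 : N24455 = N20792 := eqc rfl L634328 rfl
theorem L634331 : sm gh N14294 = N24444 := trfs L634314 (flp_h L207776) rfl
theorem L634332 : N24444 = N20757 := eqes L634331 (flp_h L176453)
theorem L634333 : N24444 = N20757 := eqc rfl L634332 rfl
theorem L634347 : sm gg N20757 = N35601 := trfs L634333 L301720 rfl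
theorem L634348 : N35601 = N30221 := eqes L634347 (flp_g L256277)
theorem L634349 : N35601 = N30221 := eqc rfl L634348 rfl
theorem L634350 : sm gj N20757 = N35436 := trfs L634333 (flp_j L300376) rfl
theorem L634351 : N35436 = N30109 := eqes L634350 (flp_j L255335)
theorem L634352 : N35436 = N28661 := eqc rfl L634351 L631101
theorem L634360 : sm gf N28661 = N20681 := trfs L634352 (flp_f L300372) L634198
theorem L634361 : N20681 = N41695 := eqes L634360 (flp_f L352221)
theorem L634362 : N41695 = N20681 := (eqc rfl L634361 rfl).symm
theorem L634365 : sm gb N20681 = N28634 := trfs L634362 L352215 rfl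
theorem L634366 : N28634 = N14225 := eqes L634365 L175809
theorem L634367 : N28634 = N14225 := eqc rfl L634366 rfl
theorem L634371 : sm gg N20681 = N28630 := trfs L634362 (flp_g L352213) rfl
theorem L634372 : N28630 = N30033 := eqes L634371 (flp_g L254648)
theorem L634373 : N30033 = N28630 := (eqc rfl L634372 rfl).symm
theorem L634374 : sm gi N20681 = N28645 := trfs L634362 L352219 rfl
theorem L634375 : N28645 = N14220 := eqes L634374 (flp_i L175807)
theorem L634376 : N28645 = N14220 := eqc rfl L634375 rfl
theorem L634378 : sm gb N14220 = N19702 := trfs L634376 L242601 rfl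
theorem L634379 : N19702 = N9798 := eqes L634378 L121206
theorem L634380 : N19702 = N9798 := eqc rfl L634379 rfl
theorem L634388 : sm gg N14220 = N19698 := trfs L634376 (flp_g L242599) rfl
theorem L634389 : N19698 = N20631 := eqes L634388 (flp_g L175357)
theorem L634390 : N20631 = N19698 := (eqc rfl L634389 rfl).symm
theorem L634391 : sm gj N14220 = N41719 := trfs L634376 L352435 rfl
theorem L634392 : N41719 = N9828 := eqes L634391 L121208
theorem L634393 : N41719 = N9828 := eqc rfl L634392 rfl
theorem L634401 : sm gf N9828 = N28685 := trfs L634393 L352441 rfl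
theorem L634402 : N28685 = N14269 := eqes L634401 (flp_f L121625)
theorem L634403 : N28685 = N14269 := eqc rfl L634402 rfl
theorem L634415 : sm gi N14269 = N41744 := trfs L634403 (flp_i L352678) rfl
theorem L634416 : N41744 = N20757 := eqes L634415 L176447
theorem L634417 : N41744 = N20757 := eqc rfl L634416 rfl
theorem L634420 : sm gg N20757 = N28710 := trfs L634417 L352680 rfl
theorem L634421 : N28710 = N30221 := eqes L634420 (flp_g L256277)
theorem L634422 : N30221 = N28710 := (eqc rfl L634421 rfl).symm
theorem L634425 : sm ga N28710 = N24143 := trfs L634422 (flp_a L566914) rfl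
theorem L634426 : N24143 = N24459 := eqes L634425 (flp_a L484650)
theorem L634427 : N24459 = N24143 := (eqc rfl L634426 rfl).symm
theorem L634429 : sm gc N28710 = N44046 := trfs L634422 (flp_c L372598) rfl
theorem L634430 : N44046 = N41805 := eqes L634429 (flp_c L353225)
theorem L634431 : N44046 = N41805 := eqc rfl L634430 rfl
theorem L634437 : sm gg N28710 = N20757 := trfs L634422 L256277 rfl
theorem L634440 : sm gh N28710 = N20792 := trfs L634422 L256279 rfl
theorem L634441 : N20792 = N41816 := eqes L634440 L353318
theorem L634442 : N41816 = N20792 := (eqc rfl L634441 rfl).symm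
theorem L634449 : sm gh N20792 = N28710 := trfs L634442 (flp_h L353318) rfl
theorem L634494 : sm ga N41805 = N28711 := trfs L634431 L607875 L631290
theorem L634496 : N41805 = N24447 := eqes (flp_a L634494) (flp_a L567330)
theorem L634497 : N41805 = N24447 := eqc rfl L634496 rfl
theorem L634498 : N44046 = N24447 := L634431.trans L634497
theorem L634503 : sm gj N24447 = N30250 := trfs L634498 L607880 rfl
theorem L634504 : N30250 = N35605 := eqes L634503 L301749
theorem L634505 : N35605 = N30250 := (eqc rfl L634504 rfl).symm
theorem L634507 : sm gi N24447 = N30210 := trfs L634498 (flp_i L372595) rfl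
theorem L634508 : N30210 = N35606 := eqes L634507 L301756
theorem L634509 : N35606 = N30210 := (eqc rfl L634508 rfl).symm
theorem L634514 : sm gi N30210 = N24447 := trfs L634509 (flp_i L301756) rfl
theorem L634519 : sm gj N30250 = N24447 := trfs L634505 (flp_j L301749) rfl
theorem L634525 : N35601 = N28710 := L634349.trans L634422
theorem L634528 : sm gj N24447 = N28704 := trfs L634497 (flp_j L353222) rfl
theorem L634529 : N28704 = N30250 := eqes L634528 (flp_j L634519)
theorem L634530 : N30250 = N28704 := (eqc rfl L634529 rfl).symm
theorem L634531 : sm gi N24447 = N28735 := trfs L634497 L353229 rfl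
theorem L634532 : N28735 = N30210 := eqes L634531 (flp_i L634514)
theorem L634533 : N30210 = N28735 := (eqc rfl L634532 rfl).symm
theorem L634534 : sm ga N28735 = N20791 := trfs L634533 (flp_a L621329) rfl
theorem L634535 : N20791 = N41834 := eqes L634534 (flp_a L353478)
theorem L634536 : N41834 = N20791 := (eqc rfl L634535 rfl).symm
theorem L634540 : sm ge N28735 = N44041 := trfs L634533 (flp_e L372563) rfl
theorem L634541 : N44041 = N41850 := eqes L634540 (flp_e L353614)
theorem L634542 : N44041 = N41850 := eqc rfl L634541 rfl
theorem L634546 : sm gj N28735 = N20775 := trfs L634533 (flp_j L607887) rfl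
theorem L634547 : N20775 = N19758 := eqes L634546 (flp_j L243396)
theorem L634548 : N20775 = N19758 := eqc rfl L634547 rfl
theorem L634549 : sm gh N28735 = N20749 := trfs L634533 (flp_h L256188) rfl
theorem L634550 : N20749 = N41854 := eqes L634549 L353639
theorem L634551 : N41854 = N20749 := (eqc rfl L634550 rfl).symm
theorem L634552 : sm gi N28735 = N24447 := trfs L634533 L634514 rfl
theorem L634558 : sm gh N20749 = N28735 := trfs L634551 (flp_h L353639) rfl
theorem L634565 : sm ge N19758 = N30246 := trfs L634548 (flp_e L256479) rfl
theorem L634566 : N30246 = N28733 := eqes L634565 (flp_e L243385)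
theorem L634567 : N30246 = N28733 := eqc rfl L634566 rfl
theorem L634573 : sm ga N28733 = N20788 := trfs L634567 L256476 rfl
theorem L634574 : N20788 = N41832 := eqes L634573 (flp_a L353460)
theorem L634575 : N41832 = N20788 := (eqc rfl L634574 rfl).symm
theorem L634577 : sm gc N28733 = N44054 := trfs L634567 (flp_c L621299) rfl
theorem L634578 : N44054 = N19762 := eqes L634577 L243383
theorem L634579 : N44054 = N19762 := eqc rfl L634578 rfl
theorem L634581 : sm gf N28733 = N44097 := trfs L634567 (flp_f L373003) rfl
theorem L634582 : N44097 = N41849 := eqes L634581 L353601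
theorem L634583 : N44097 = N41849 := eqc rfl L634582 rfl
theorem L634586 : sm gh N28733 = N20772 := trfs L634567 (flp_h L256474) rfl
theorem L634587 : N20772 = N41851 := eqes L634586 L353616
theorem L634588 : N41851 = N20772 := (eqc rfl L634587 rfl).symm
theorem L634595 : sm gh N20772 = N28733 := trfs L634588 (flp_h L353616) rfl
theorem L634597 : sm ga N41849 = N30267 := trfs L634583 L372999 rfl
theorem L634601 : sm gh N41849 = N30244 := trfs L634583 (flp_h L372997) rfl
theorem L634607 : sm gj N19762 = N30217 := trfs L634579 L372660 rfl
theorem L634608 : N30217 = N28742 := eqes L634607 L243446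
theorem L634609 : N30217 = N28742 := eqc rfl L634608 rfl
theorem L634611 : sm ga N28742 = N24142 := trfs L634609 L567663 rfl
theorem L634612 : N24142 = N41841 := eqes L634611 (flp_a L353535)
theorem L634613 : N41841 = N24142 := (eqc rfl L634612 rfl).symm
theorem L634616 : sm gd N28742 = N44055 := trfs L634609 L372662 rfl
theorem L634617 : N44055 = N19862 := eqes L634616 L243450
theorem L634618 : N44055 = N19862 := eqc rfl L634617 rfl
theorem L634623 : sm gh N28742 = N20753 := trfs L634609 (flp_h L256243) rfl
theorem L634624 : N20753 = N41864 := eqes L634623 L353710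
theorem L634625 : N41864 = N20753 := (eqc rfl L634624 rfl).symm
theorem L634631 : sm gh N20753 = N28742 := trfs L634625 (flp_h L353710) rfl
theorem L634634 : sm gg N19862 = N30218 := trfs L634618 L372666 rfl
theorem L634635 : N30218 = N28803 := eqes L634634 (flp_g L244034)
theorem L634636 : N30218 = N28803 := eqc rfl L634635 rfl
theorem L634638 : sm ga N28803 = N21969 := trfs L634636 (flp_a L567650) rfl
theorem L634639 : N21969 = N41932 := eqes L634638 (flp_a L354369)
theorem L634640 : N41932 = N21969 := (eqc rfl L634639 rfl).symm
theorem L634642 : sm gc N28803 = N44057 := trfs L634636 L372680 rfl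
theorem L634643 : N44057 = N41941 := eqes L634642 (flp_c L354452)
theorem L634644 : N44057 = N41941 := eqc rfl L634643 rfl
theorem L634653 : sm gh N28803 = N20927 := trfs L634636 L256255 rfl
theorem L634654 : N20927 = N41955 := eqes L634653 L354577
theorem L634655 : N41955 = N20927 := (eqc rfl L634654 rfl).symm
theorem L634656 : sm gi N28803 = N44058 := trfs L634636 L372684 rfl
theorem L634657 : N44058 = N41903 := eqes L634656 (flp_i L354086)
theorem L634658 : N44058 = N41903 := eqc rfl L634657 rfl
theorem L634660 : sm gd N41903 = N30219 := trfs L634658 L372688 rfl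
theorem L634662 : sm gb N20927 = N28811 := trfs L634655 L354579 rfl
theorem L634663 : N28811 = N14391 := eqes L634662 L177943
theorem L634664 : N28811 = N14391 := eqc rfl L634663 rfl
theorem L634670 : sm gh N20927 = N28803 := trfs L634655 (flp_h L354577) rfl
theorem L634675 : sm gd N14391 = N41965 := trfs L634664 L354663 rfl
theorem L634676 : N41965 = N9908 := eqes L634675 (flp_d L122680)
theorem L634677 : N41965 = N9908 := eqc rfl L634676 rfl
theorem L634692 : sm gj N9908 = N28812 := trfs L634677 L354668 rfl
theorem L634693 : N28812 = N14325 := eqes L634692 (flp_j L122099)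
theorem L634694 : N28812 = N14325 := eqc rfl L634693 rfl
theorem L634696 : sm gb N14325 = N41956 := trfs L634694 (flp_b L354589) rfl
theorem L634697 : N41956 = N20831 := eqes L634696 (flp_b L177085)
theorem L634698 : N41956 = N20831 := eqc rfl L634697 rfl
theorem L634699 : sm gc N14325 = N41967 := trfs L634694 L354681 rfl
theorem L634700 : N41967 = N10026 := eqes L634699 L122095
theorem L634701 : N41967 = N10026 := eqc rfl L634700 rfl
theorem L634716 : sm gd N10026 = N29155 := trfs L634701 L354686 rfl
theorem L634717 : N29155 = N14568 := eqes L634716 L124178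
theorem L634718 : N29155 = N14568 := eqc rfl L634717 rfl
theorem L634719 : sm gg N10026 = N28814 := trfs L634701 L354684 rfl
theorem L634720 : N28814 = N14567 := eqes L634719 (flp_g L124176)
theorem L634721 : N28814 = N14567 := eqc rfl L634720 rfl
theorem L634723 : sm gb N14567 = N41969 := trfs L634721 L354695 rfl
theorem L634724 : N41969 = N21189 := eqes L634723 (flp_b L180163)
theorem L634725 : N41969 = N21189 := eqc rfl L634724 rfl
theorem L634728 : sm gd N14567 = N20041 := trfs L634721 L244128 rfl
theorem L634729 : N20041 = N21197 := eqes L634728 L180231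
theorem L634730 : N21197 = N20041 := (eqc rfl L634729 rfl).symm
theorem L634734 : sm gf N14567 = N20875 := trfs L634721 L244124 rfl
theorem L634735 : N20875 = N21195 := eqes L634734 (flp_f L180220)
theorem L634736 : N21195 = N20875 := (eqc rfl L634735 rfl).symm
theorem L634737 : sm gj N14567 = N19873 := trfs L634721 L244126 rfl
theorem L634738 : N19873 = N21196 := eqes L634737 (flp_j L180229)
theorem L634739 : N21196 = N19873 := (eqc rfl L634738 rfl).symm
theorem L634743 : sm gi N14567 = N41970 := trfs L634721 L354703 rfl
theorem L634744 : N41970 = N21198 := eqes L634743 L180238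
theorem L634745 : N41970 = N21198 := eqc rfl L634744 rfl
theorem L634749 : sm gd N21198 = N29158 := trfs L634745 L354708 rfl
theorem L634750 : N29158 = N30882 := eqes L634749 (flp_d L261945)
theorem L634751 : N30882 = N29158 := (eqc rfl L634750 rfl).symm
theorem L634752 : sm gf N21198 = N30399 := trfs L634745 L354710 rfl
theorem L634753 : N30399 = N30878 := eqes L634752 (flp_f L261911)
theorem L634754 : N30878 = N30399 := (eqc rfl L634753 rfl).symm
theorem L634755 : sm gj N21198 = N28906 := trfs L634745 L354712 rfl
theorem L634756 : N28906 = N30880 := eqes L634755 (flp_j L261931)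
theorem L634757 : N30880 = N28906 := (eqc rfl L634756 rfl).symm
theorem L634759 : sm gb N28906 = N45026 := trfs L634757 (flp_b L380970) rfl
theorem L634760 : N45026 = N42106 := eqes L634759 (flp_b L355898)
theorem L634761 : N45026 = N42106 := eqc rfl L634760 rfl
theorem L634768 : sm ge N28906 = N21201 := trfs L634757 L261927 rfl
theorem L634769 : N21201 = N41605 := eqes L634768 (flp_e L351422)
theorem L634770 : N41605 = N21201 := (eqc rfl L634769 rfl).symm
theorem L634774 : sm gg N28906 = N21306 := trfs L634757 L261929 rfl
theorem L634775 : N21306 = N42103 := eqes L634774 (flp_g L355882)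
theorem L634776 : N42103 = N21306 := (eqc rfl L634775 rfl).symm
theorem L634777 : sm gj N28906 = N21198 := trfs L634757 L261931 rfl
theorem L634779 : sm gh N28906 = N21251 := trfs L634757 L261933 rfl
theorem L634780 : N21251 = N42107 := eqes L634779 L355904
theorem L634781 : N42107 = N21251 := (eqc rfl L634780 rfl).symm
theorem L634784 : sm gc N21251 = N28907 := trfs L634781 L355907 rfl
theorem L634785 : N28907 = N30395 := eqes L634784 (flp_c L257795)
theorem L634786 : N30395 = N28907 := (eqc rfl L634785 rfl).symm
theorem L634787 : sm gf N21251 = N30572 := trfs L634781 L355909 rfl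
theorem L634788 : N30572 = N30955 := eqes L634787 (flp_f L262581)
theorem L634789 : N30955 = N30572 := (eqc rfl L634788 rfl).symm
theorem L634790 : sm gh N21251 = N28906 := trfs L634781 (flp_h L355904) rfl
theorem L634793 : sm gb N30572 = N45137 := trfs L634789 (flp_b L381915) rfl
theorem L634794 : N45137 = N44580 := eqes L634793 (flp_b L377132)
theorem L634795 : N45137 = N44580 := eqc rfl L634794 rfl
theorem L634796 : sm gc N30572 = N44312 := trfs L634789 (flp_c L374913) rfl
theorem L634797 : N44312 = N20993 := eqes L634796 L259279
theorem L634798 : N44312 = N20993 := eqc rfl L634797 rfl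
theorem L634799 : sm gd N30572 = N45153 := trfs L634789 (flp_d L382054) rfl
theorem L634800 : N45153 = N44581 := eqes L634799 L377135
theorem L634801 : N45153 = N44581 := eqc rfl L634800 rfl
theorem L634803 : sm gf N30572 = N21251 := trfs L634789 L262581 rfl
theorem L634805 : sm gg N30572 = N45150 := trfs L634789 (flp_g L382032) rfl
theorem L634806 : N45150 = N44578 := eqes L634805 (flp_g L377120)
theorem L634807 : N45150 = N44578 := eqc rfl L634806 rfl
theorem L634808 : sm gj N30572 = N21249 := trfs L634789 L262583 rfl
theorem L634809 : N21249 = N44323 := eqes L634808 (flp_j L375005)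
theorem L634810 : N44323 = N21249 := (eqc rfl L634809 rfl).symm
theorem L634812 : sm gi N30572 = N21247 := trfs L634789 (flp_i L262577) rfl
theorem L634813 : N21247 = N44151 := eqes L634812 (flp_i L373416)
theorem L634814 : N44151 = N21247 := (eqc rfl L634813 rfl).symm
theorem L634816 : sm gc N21247 = N30284 := trfs L634814 L373413 rfl
theorem L634817 : N30284 = N30391 := eqes L634816 (flp_c L257764)
theorem L634818 : N30391 = N30284 := (eqc rfl L634817 rfl).symm
theorem L634820 : sm gh N21247 = N30283 := trfs L634814 (flp_h L373410) rfl
theorem L634821 : N30283 = N14600 := eqes L634820 (flp_h L180665)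
theorem L634822 : N30283 = N14600 := eqc rfl L634821 rfl
theorem L634823 : sm gi N21247 = N30572 := trfs L634814 L373416 rfl
theorem L634826 : sm gb N14600 = N44150 := trfs L634822 (flp_b L373406) rfl
theorem L634827 : N44150 = N21238 := eqes L634826 (flp_b L180590)
theorem L634828 : N44150 = N21238 := eqc rfl L634827 rfl
theorem L634829 : sm gc N14600 = N20799 := trfs L634822 L256756 rfl
theorem L634830 : N20799 = N20870 := eqes L634829 (flp_c L177439)
theorem L634831 : N20870 = N20799 := (eqc rfl L634830 rfl).symm
theorem L634837 : sm gg N14600 = N44147 := trfs L634822 (flp_g L373387) rfl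
theorem L634838 : N44147 = N21246 := eqes L634837 L180658
theorem L634839 : N44147 = N21246 := eqc rfl L634838 rfl
theorem L634843 : sm gi N14600 = N20798 := trfs L634822 (flp_i L256753) rfl
theorem L634844 : N20798 = N21194 := eqes L634843 (flp_i L180214)
theorem L634845 : N21194 = N20798 := (eqc rfl L634844 rfl).symm
theorem L634847 : sm gb N20798 = N30867 := trfs L634845 (flp_b L261814) rfl
theorem L634848 : N30867 = N30282 := eqes L634847 L256747
theorem L634849 : N30867 = N30282 := eqc rfl L634848 rfl
theorem L634855 : sm gf N20798 = N14566 := trfs L634845 L180212 rfl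
theorem L634856 : N14566 = N28753 := eqes L634855 (flp_f L243536)
theorem L634857 : N28753 = N14566 := (eqc rfl L634856 rfl).symm
theorem L634858 : sm gg N20798 = N30875 := trfs L634845 L261884 rfl
theorem L634859 : N30875 = N30280 := eqes L634858 (flp_g L256734)
theorem L634860 : N30875 = N30280 := eqc rfl L634859 rfl
theorem L634861 : sm gj N20798 = N14565 := trfs L634845 (flp_j L180207) rfl
theorem L634862 : N14565 = N30150 := eqes L634861 (flp_j L255683)
theorem L634863 : N30150 = N14565 := (eqc rfl L634862 rfl).symm
theorem L634864 : sm gh N20798 = N30876 := trfs L634845 L261893 rfl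
theorem L634865 : N30876 = N14428 := eqes L634864 L176767
theorem L634866 : N30876 = N14428 := eqc rfl L634865 rfl
theorem L634867 : sm gi N20798 = N14600 := trfs L634845 L180214 rfl
theorem L634881 : sm gg N14428 = N45032 := trfs L634866 (flp_g L381026) rfl
theorem L634882 : N45032 = N20989 := eqes L634881 (flp_g L178449)
theorem L634883 : N45032 = N20989 := eqc rfl L634882 rfl
theorem L634888 : sm gf N20989 = N31034 := trfs L634883 L381024 rfl
theorem L634889 : N31034 = N30562 := eqes L634888 (flp_f L259207)
theorem L634890 : N31034 = N30562 := eqc rfl L634889 rfl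
theorem L634893 : sm gb N30562 = N45257 := trfs L634890 (flp_b L382885) rfl
theorem L634894 : N45257 = N44568 := eqes L634893 L377040
theorem L634895 : N45257 = N44568 := eqc rfl L634894 rfl
theorem L634902 : sm ge N30562 = N21460 := trfs L634890 L263229 rfl
theorem L634903 : N21460 = N44569 := eqes L634902 L377046
theorem L634904 : N44569 = N21460 := (eqc rfl L634903 rfl).symm
theorem L634905 : sm gg N30562 = N21302 := trfs L634890 L263231 rfl
theorem L634906 : N21302 = N42097 := eqes L634905 (flp_g L355835)
theorem L634907 : N42097 = N21302 := (eqc rfl L634906 rfl).symm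
theorem L634908 : sm gj N30562 = N42605 := trfs L634890 (flp_j L360343) rfl
theorem L634909 : N42605 = N44565 := eqes L634908 (flp_j L377019)
theorem L634910 : N44565 = N42605 := (eqc rfl L634909 rfl).symm
theorem L634911 : sm gh N30562 = N21301 := trfs L634890 (flp_h L263226) rfl
theorem L634912 : N21301 = N44141 := eqes L634911 (flp_h L373338)
theorem L634913 : N44141 = N21301 := (eqc rfl L634912 rfl).symm
theorem L634914 : sm gi N30562 = N45272 := trfs L634890 L382998 rfl
theorem L634915 : N45272 = N44570 := eqes L634914 L377052
theorem L634916 : N45272 = N44570 := eqc rfl L634915 rfl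
theorem L634918 : sm ge N44570 = N31274 := trfs L634916 L383001 rfl
theorem L634920 : sm gg N44570 = N31036 := trfs L634916 L383003 rfl
theorem L634922 : sm gh N44570 = N31152 := trfs L634916 L383005 rfl
theorem L634925 : sm gc N21301 = N30276 := trfs L634913 (flp_c L373333) rfl
theorem L634926 : N30276 = N30481 := eqes L634925 (flp_c L258547)
theorem L634927 : N30481 = N30276 := (eqc rfl L634926 rfl).symm
theorem L634931 : sm gh N21301 = N30562 := trfs L634913 L373338 rfl
theorem L634934 : sm gb N30276 = N44435 := trfs L634927 (flp_b L375989) rfl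
theorem L634935 : N44435 = N44129 := eqes L634934 (flp_b L373243)
theorem L634936 : N44435 = N44129 := eqc rfl L634935 rfl
theorem L634937 : sm gc N30276 = N21301 := trfs L634927 L258547 rfl
theorem L634939 : sm gd N30276 = N44060 := trfs L634927 (flp_d L372703) rfl
theorem L634940 : N44060 = N20794 := eqes L634939 (flp_d L256700)
theorem L634941 : N44060 = N20794 := eqc rfl L634940 rfl
theorem L634942 : sm ge N30276 = N21074 := trfs L634927 L258549 rfl
theorem L634943 : N21074 = N44142 := eqes L634942 L373341
theorem L634944 : N44142 = N21074 := (eqc rfl L634943 rfl).symm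
theorem L634948 : sm gg N30276 = N20931 := trfs L634927 (flp_g L258544) rfl
theorem L634949 : N20931 = N41872 := eqes L634948 (flp_g L353778)
theorem L634950 : N41872 = N20931 := (eqc rfl L634949 rfl).symm
theorem L634951 : sm gj N30276 = N42016 := trfs L634927 (flp_j L355153) rfl
theorem L634952 : N42016 = N44139 := eqes L634951 (flp_j L373320)
theorem L634953 : N44139 = N42016 := (eqc rfl L634952 rfl).symm
theorem L634955 : sm gi N30276 = N20983 := trfs L634927 L258551 rfl
theorem L634956 : N20983 = N44143 := eqes L634955 L373348
theorem L634957 : N44143 = N20983 := (eqc rfl L634956 rfl).symm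
theorem L634959 : sm gd N20983 = N30277 := trfs L634957 L373351 rfl
theorem L634960 : N30277 = N30274 := eqes L634959 (flp_d L256688)
theorem L634961 : N30277 = N30274 := eqc rfl L634960 rfl
theorem L634962 : sm gf N20983 = N30281 := trfs L634957 L373353 rfl
theorem L634963 : N30281 = N30390 := eqes L634962 (flp_f L257759)
theorem L634964 : N30390 = N30281 := (eqc rfl L634963 rfl).symm
theorem L634965 : sm gi N20983 = N30276 := trfs L634957 (flp_i L373348) rfl
theorem L634968 : sm gb N30281 = N44299 := trfs L634964 (flp_b L374812) rfl
theorem L634969 : N44299 = N44134 := eqes L634968 (flp_b L373282)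
theorem L634970 : N44299 = N44134 := eqc rfl L634969 rfl
theorem L634977 : sm gf N30281 = N20983 := trfs L634964 L257759 rfl
theorem L634980 : sm gj N30281 = N41821 := trfs L634964 (flp_j L632066) rfl
theorem L634981 : N41821 = N44145 := eqes L634980 (flp_j L373370)
theorem L634982 : N44145 = N41821 := (eqc rfl L634981 rfl).symm
theorem L634983 : sm gh N30281 = N44310 := trfs L634964 L374893 rfl
theorem L634984 : N44310 = N44148 := eqes L634983 L373389
theorem L634985 : N44310 = N44148 := eqc rfl L634984 rfl
theorem L634988 : sm gc N44148 = N30953 := trfs L634985 L374896 rfl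
theorem L634991 : sm gf N44148 = N30559 := trfs L634985 L374899 rfl
theorem L634997 : sm gj N41821 = N30281 := trfs L634982 L373370 rfl
theorem L634999 : sm gi N41821 = N30278 := trfs L634982 (flp_i L373364) rfl
theorem L635026 : sm gf N44134 = N30548 := trfs L634970 L374815 rfl
theorem L635030 : sm gb N30274 = N44130 := trfs L634961 (flp_b L373251) rfl
theorem L635031 : N44130 = N44127 := eqes L635030 (flp_b L373227)
theorem L635032 : N44130 = N44127 := eqc rfl L635031 rfl
theorem L635035 : sm gf N30274 = N20797 := trfs L634961 L256712 rfl
theorem L635038 : sm gj N30274 = N44140 := trfs L634961 (flp_j L373331) rfl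
theorem L635039 : N44140 = N41819 := eqes L635038 (flp_j L631823)
theorem L635040 : N44140 = N41819 := eqc rfl L635039 rfl
theorem L635041 : sm gh N30274 = N41818 := trfs L634961 (flp_h L631779) rfl
theorem L635042 : N41818 = N44138 := eqes L635041 L373308
theorem L635043 : N44138 = N41818 := (eqc rfl L635042 rfl).symm
theorem L635049 : sm gg N41818 = N30275 := trfs L635043 L373313 rfl
theorem L635051 : sm gh N41818 = N30274 := trfs L635043 (flp_h L373308) rfl
theorem L635057 : sm gi N41819 = N30275 := trfs L635040 (flp_i L373324) rfl
theorem L635060 : sm gf N44127 = N30270 := trfs L635032 L373254 rfl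
theorem L635062 : sm gi N44127 = N30267 := trfs L635032 (flp_i L373249) rfl
theorem L635065 : sm gd N42016 = N30275 := trfs L634953 (flp_d L373315) rfl
theorem L635067 : sm gf N42016 = N30278 := trfs L634953 L373318 rfl
theorem L635069 : sm gj N42016 = N30276 := trfs L634953 L373320 rfl
theorem L635071 : sm gh N42016 = N30560 := trfs L634953 L373322 rfl
theorem L635077 : sm gg N20931 = N30276 := trfs L634950 L353778 rfl
theorem L635079 : sm gh N20931 = N28899 := trfs L634950 L353780 rfl
theorem L635080 : N28899 = N30482 := eqes L635079 L258553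
theorem L635081 : N30482 = N28899 := (eqc rfl L635080 rfl).symm
theorem L635083 : sm gb N28899 = N44436 := trfs L635081 (flp_b L375997) rfl
theorem L635084 : N44436 = N42085 := eqes L635083 (flp_b L355741)
theorem L635085 : N44436 = N42085 := eqc rfl L635084 rfl
theorem L635089 : sm ge N28899 = N21075 := trfs L635081 L258558 rfl
theorem L635090 : N21075 = N42098 := eqes L635089 L355839
theorem L635091 : N42098 = N21075 := (eqc rfl L635090 rfl).symm
theorem L635096 : sm gh N28899 = N20931 := trfs L635081 (flp_h L258553) rfl
theorem L635098 : sm gi N28899 = N44448 := trfs L635081 L376079 rfl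
theorem L635099 : N44448 = N42099 := eqes L635098 L355846
theorem L635100 : N44448 = N42099 := eqc rfl L635099 rfl
theorem L635102 : sm gc N42099 = N31036 := trfs L635100 L376082 rfl
theorem L635104 : sm ge N42099 = N30697 := trfs L635100 L376084 rfl
theorem L635107 : sm gj N42099 = N30484 := trfs L635100 L376088 rfl
theorem L635109 : sm gh N42099 = N30561 := trfs L635100 L376090 rfl
theorem L635112 : sm gd N21075 = N29034 := trfs L635091 L355844 rfl
theorem L635113 : N29034 = N30696 := eqes L635112 L260361
theorem L635114 : N30696 = N29034 := (eqc rfl L635113 rfl).symm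
theorem L635115 : sm ge N21075 = N28899 := trfs L635091 (flp_e L355839) rfl
theorem L635117 : sm gg N21075 = N30563 := trfs L635091 L355842 rfl
theorem L635118 : N30563 = N30695 := eqes L635117 (flp_g L260359)
theorem L635119 : N30695 = N30563 := (eqc rfl L635118 rfl).symm
theorem L635121 : sm gb N30563 = N44752 := trfs L635119 (flp_b L378648) rfl
theorem L635122 : N44752 = N44553 := eqes L635121 (flp_b L376935)
theorem L635123 : N44752 = N44553 := eqc rfl L635122 rfl
theorem L635131 : sm gg N30563 = N21075 := trfs L635119 L260359 rfl
theorem L635133 : sm gj N30563 = N42175 := trfs L635119 (flp_j L356559) rfl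
theorem L635134 : N42175 = N44566 := eqes L635133 (flp_j L377026)
theorem L635135 : N44566 = N42175 := (eqc rfl L635134 rfl).symm
theorem L635138 : sm gi N30563 = N44767 := trfs L635119 L378753 rfl
theorem L635139 : N44767 = N44571 := eqes L635138 L377061
theorem L635140 : N44767 = N44571 := eqc rfl L635139 rfl
theorem L635142 : sm gc N44571 = N31274 := trfs L635140 L378756 rfl
theorem L635145 : sm gg N44571 = N30697 := trfs L635140 L378759 rfl
theorem L635147 : sm gh N44571 = N30813 := trfs L635140 L378761 rfl
theorem L635150 : sm gd N42175 = N30815 := trfs L635135 L377028 rfl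
theorem L635152 : sm ge N42175 = N30560 := trfs L635135 (flp_e L377023) rfl
theorem L635155 : sm gj N42175 = N30563 := trfs L635135 L377026 rfl
theorem L635162 : sm gg N44553 = N30685 := trfs L635123 L378651 rfl
theorem L635164 : sm gh N44553 = N30684 := trfs L635123 (flp_h L378646) rfl
theorem L635167 : sm gb N29034 = N44753 := trfs L635114 (flp_b L378655) rfl
theorem L635168 : N44753 = N42282 := eqes L635167 (flp_b L357482)
theorem L635169 : N44753 = N42282 := eqc rfl L635168 rfl
theorem L635170 : sm gc N29034 = N44768 := trfs L635114 L378763 rfl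
theorem L635171 : N44768 = N42298 := eqes L635170 (flp_c L357613)
theorem L635172 : N44768 = N42298 := eqc rfl L635171 rfl
theorem L635173 : sm gd N29034 = N21075 := trfs L635114 (flp_d L260361) rfl
theorem L635178 : sm gf N29034 = N21078 := trfs L635114 L260364 rfl
theorem L635179 : N21078 = N41678 := eqes L635178 (flp_f L352054)
theorem L635180 : N41678 = N21078 := (eqc rfl L635179 rfl).symm
theorem L635181 : sm gj N29034 = N21076 := trfs L635114 L260366 rfl
theorem L635182 : N21076 = N42295 := eqes L635181 (flp_j L357589)
theorem L635183 : N42295 = N21076 := (eqc rfl L635182 rfl).symm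
theorem L635185 : sm gi N29034 = N44770 := trfs L635114 L378779 rfl
theorem L635186 : N44770 = N42300 := eqes L635185 L357629
theorem L635187 : N44770 = N42300 := eqc rfl L635186 rfl
theorem L635189 : sm gd N42300 = N30697 := trfs L635187 L378782 rfl
theorem L635191 : sm gf N42300 = N30702 := trfs L635187 L378784 rfl
theorem L635193 : sm gj N42300 = N30700 := trfs L635187 L378786 rfl
theorem L635196 : sm ge N21076 = N29031 := trfs L635183 (flp_e L357586) rfl
theorem L635197 : N29031 = N30699 := eqes L635196 L260388
theorem L635198 : N30699 = N29031 := (eqc rfl L635197 rfl).symm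
theorem L635199 : sm gj N21076 = N29034 := trfs L635183 L357589 rfl
theorem L635203 : sm gb N29031 = N44756 := trfs L635198 (flp_b L378679) rfl
theorem L635204 : N44756 = N42279 := eqes L635203 (flp_b L357458)
theorem L635205 : N44756 = N42279 := eqc rfl L635204 rfl
theorem L635206 : sm gc N29031 = N44772 := trfs L635198 (flp_c L378798) rfl
theorem L635207 : N44772 = N42294 := eqes L635206 L357576
theorem L635208 : N44772 = N42294 := eqc rfl L635207 rfl
theorem L635210 : sm ge N29031 = N21076 := trfs L635198 (flp_e L260388) rfl
theorem L635212 : sm gf N29031 = N44653 := trfs L635198 (flp_f L377782) rfl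
theorem L635213 : N44653 = N19960 := eqes L635212 L246055
theorem L635214 : N44653 = N19960 := eqc rfl L635213 rfl
theorem L635215 : sm gg N29031 = N42179 := trfs L635198 (flp_g L356593) rfl
theorem L635216 : N42179 = N42292 := eqes L635215 (flp_g L357561)
theorem L635217 : N42292 = N42179 := (eqc rfl L635216 rfl).symm
theorem L635220 : sm gi N29031 = N44774 := trfs L635198 L378810 rfl
theorem L635221 : N44774 = N42296 := eqes L635220 L357592
theorem L635222 : N44774 = N42296 := eqc rfl L635221 rfl
theorem L635224 : sm ge N42296 = N30700 := trfs L635222 L378813 rfl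
theorem L635227 : sm gd N42179 = N29030 := trfs L635217 (flp_d L357557) rfl
theorem L635230 : sm gg N42179 = N29031 := trfs L635217 L357561 rfl
theorem L635232 : sm gj N42179 = N30812 := trfs L635217 L357563 rfl
theorem L635236 : sm ge N19960 = N30619 := trfs L635214 (flp_e L377777) rfl
theorem L635237 : N30619 = N28620 := eqes L635236 (flp_e L242363)
theorem L635238 : N30619 = N28620 := eqc rfl L635237 rfl
theorem L635242 : sm gb N28620 = N22058 := trfs L635238 L521215 rfl
theorem L635243 : N22058 = N41667 := eqes L635242 (flp_b L351954)
theorem L635244 : N41667 = N22058 := (eqc rfl L635243 rfl).symm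
theorem L635245 : sm gc N28620 = N44652 := trfs L635238 L377769 rfl
theorem L635246 : N44652 = N41680 := eqes L635245 L352064
theorem L635247 : N44652 = N41680 := eqc rfl L635246 rfl
theorem L635248 : sm gd N28620 = N21023 := trfs L635238 (flp_d L259692) rfl
theorem L635249 : N21023 = N19682 := eqes L635248 (flp_d L242357)
theorem L635250 : N21023 = N19682 := eqc rfl L635249 rfl
theorem L635251 : sm gf N28620 = N21025 := trfs L635238 L259695 rfl
theorem L635252 : N21025 = N41675 := eqes L635251 (flp_f L352027)
theorem L635253 : N41675 = N21025 := (eqc rfl L635252 rfl).symm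
theorem L635259 : sm gi N28620 = N44654 := trfs L635238 L377784 rfl
theorem L635260 : N44654 = N41681 := eqes L635259 L352074
theorem L635261 : N44654 = N41681 := eqc rfl L635260 rfl
theorem L635263 : sm gd N41681 = N30620 := trfs L635261 L377787 rfl
theorem L635264 : N30620 = N28621 := eqes L635263 L352077
theorem L635265 : N30620 = N28621 := eqc rfl L635264 rfl
theorem L635266 : sm gf N41681 = N30624 := trfs L635261 L377789 rfl
theorem L635270 : sm gb N28621 = N22059 := trfs L635265 L549385 rfl
theorem L635271 : N22059 = N41668 := eqes L635270 (flp_b L351964)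
theorem L635272 : N41668 = N22059 := (eqc rfl L635271 rfl).symm
theorem L635277 : sm gf N28621 = N21026 := trfs L635265 L259703 rfl
theorem L635278 : N21026 = N41676 := eqes L635277 (flp_f L352036)
theorem L635279 : N41676 = N21026 := (eqc rfl L635278 rfl).symm
theorem L635281 : sm gj N28621 = N44651 := trfs L635265 (flp_j L377766) rfl
theorem L635282 : N44651 = N19684 := eqes L635281 L242373
theorem L635283 : N44651 = N19684 := eqc rfl L635282 rfl
theorem L635290 : sm gi N19684 = N30618 := trfs L635283 (flp_i L377760) rfl
theorem L635291 : N30618 = N13550 := eqes L635290 (flp_i L167115)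
theorem L635292 : N30618 = N13550 := eqc rfl L635291 rfl
theorem L635294 : sm gb N13550 = N22057 := trfs L635292 (flp_b L549348) rfl
theorem L635295 : N22057 = N19675 := eqes L635294 (flp_b L167041)
theorem L635296 : N22057 = N19675 := eqc rfl L635295 rfl
theorem L635307 : sm gh N13550 = N21022 := trfs L635292 (flp_h L259684) rfl
theorem L635308 : N21022 = N9347 := eqes L635307 (flp_h L115353)
theorem L635309 : N21022 = N9347 := eqc rfl L635308 rfl
theorem L635311 : sm gb N9347 = N15151 := trfs L635309 (flp_b L549314) rfl
theorem L635312 : N15151 = N13543 := eqes L635311 (flp_b L115297)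
theorem L635313 : N15151 = N13543 := eqc rfl L635312 rfl
theorem L635323 : sm gj N9347 = N14449 := trfs L635309 (flp_j L178726) rfl
theorem L635324 : N14449 = N13549 := eqes L635323 L115344
theorem L635325 : N14449 = N13549 := eqc rfl L635324 rfl
theorem L635328 : sm gb N13549 = N10422 := trfs L635325 (flp_b L549299) rfl
theorem L635329 : N10422 = N19674 := eqes L635328 (flp_b L167032)
theorem L635330 : N19674 = N10422 := (eqc rfl L635329 rfl).symm
theorem L635336 : sm gf N13549 = N9948 := trfs L635325 (flp_f L123160) rfl
theorem L635337 : N9948 = N19680 := eqes L635336 (flp_f L167088)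
theorem L635338 : N19680 = N9948 := (eqc rfl L635337 rfl).symm
theorem L635349 : sm gf N9948 = N13549 := trfs L635338 L167088 rfl
theorem L635356 : sm gh N9948 = N28617 := trfs L635338 L242334 rfl
theorem L635357 : N28617 = N14451 := eqes L635356 L123176
theorem L635358 : N28617 = N14451 := eqc rfl L635357 rfl
theorem L635361 : sm gb N14451 = N41664 := trfs L635358 (flp_b L351930) rfl
theorem L635362 : N41664 = N10424 := eqes L635361 (flp_b L549425)
theorem L635363 : N41664 = N10424 := eqc rfl L635362 rfl
theorem L635383 : sm gj N10424 = N28609 := trfs L635363 L351934 rfl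
theorem L635384 : N28609 = N15153 := eqes L635383 (flp_j L129037)
theorem L635385 : N28609 = N15153 := eqc rfl L635384 rfl
theorem L635395 : sm gd N15153 = N41665 := trfs L635385 L351936 rfl
theorem L635396 : N41665 = N22060 := eqes L635395 L187347
theorem L635397 : N41665 = N22060 := eqc rfl L635396 rfl
theorem L635405 : sm gi N15153 = N41666 := trfs L635385 L351944 rfl
theorem L635406 : N41666 = N22061 := eqes L635405 L187355
theorem L635407 : N41666 = N22061 := eqc rfl L635406 rfl
theorem L635410 : sm gf N22061 = N28612 := trfs L635407 L351948 rfl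
theorem L635411 : N28612 = N32144 := eqes L635410 (flp_f L272296)
theorem L635412 : N32144 = N28612 := (eqc rfl L635411 rfl).symm
theorem L635415 : sm ga N28612 = N22099 := trfs L635412 L272292 rfl
theorem L635416 : N22099 = N41636 := eqes L635415 (flp_a L351695)
theorem L635417 : N41636 = N22099 := (eqc rfl L635416 rfl).symm
theorem L635420 : sm gf N28612 = N22061 := trfs L635412 L272296 rfl
theorem L635426 : sm ga N22099 = N28612 := trfs L635417 L351695 rfl
theorem L635471 : sm gb N22060 = N28618 := trfs L635397 L351938 rfl
theorem L635472 : N28618 = N30621 := eqes L635471 (flp_b L549358)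
theorem L635473 : N30621 = N28618 := (eqc rfl L635472 rfl).symm
theorem L635474 : sm gf N22060 = N28611 := trfs L635397 L351940 rfl
theorem L635475 : N28611 = N32143 := eqes L635474 (flp_f L272285)
theorem L635476 : N32143 = N28611 := (eqc rfl L635475 rfl).symm
theorem L635479 : sm ga N28611 = N22098 := trfs L635476 L272283 rfl
theorem L635480 : N22098 = N41635 := eqes L635479 (flp_a L351685)
theorem L635481 : N41635 = N22098 := (eqc rfl L635480 rfl).symm
theorem L635483 : sm gf N28611 = N22060 := trfs L635476 L272285 rfl
theorem L635488 : sm ga N22098 = N28611 := trfs L635481 L351685 rfl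
theorem L635492 : sm ge N22098 = N28991 := trfs L635481 L351690 rfl
theorem L635493 : N28991 = N32202 := eqes L635492 L272808
theorem L635494 : N32202 = N28991 := (eqc rfl L635493 rfl).symm
theorem L635495 : sm gg N22098 = N28589 := trfs L635481 L351688 rfl
theorem L635496 : N28589 = N32199 := eqes L635495 (flp_g L272785)
theorem L635497 : N32199 = N28589 := (eqc rfl L635496 rfl).symm
theorem L635500 : sm gd N28589 = N22097 := trfs L635497 (flp_d L272781) rfl
theorem L635501 : N22097 = N19660 := eqes L635500 (flp_d L242096)
theorem L635502 : N22097 = N19660 := eqc rfl L635501 rfl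
theorem L635504 : sm gg N28589 = N22098 := trfs L635497 L272785 rfl
theorem L635519 : sm gh N19660 = N15180 := trfs L635502 (flp_h L187671) rfl
theorem L635520 : N15180 = N13533 := eqes L635519 (flp_h L166911)
theorem L635521 : N15180 = N13533 := eqc rfl L635520 rfl
theorem L635530 : sm ge N13533 = N21971 := trfs L635521 (flp_e L186641) rfl
theorem L635531 : N21971 = N9337 := eqes L635530 (flp_e L115209)
theorem L635532 : N21971 = N9337 := eqc rfl L635531 rfl
theorem L635547 : sm gg N9337 = N15092 := trfs L635532 (flp_g L186636) rfl
theorem L635548 : N15092 = N13534 := eqes L635547 L115218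
theorem L635549 : N15092 = N13534 := eqc rfl L635548 rfl
theorem L635566 : sm gj N13534 = N10381 := trfs L635549 (flp_j L128537) rfl
theorem L635567 : N10381 = N19661 := eqes L635566 L166920
theorem L635568 : N19661 = N10381 := (eqc rfl L635567 rfl).symm
theorem L635571 : sm ga N10381 = N13545 := trfs L635568 L166922 rfl
theorem L635572 : N13545 = N15066 := eqes L635571 (flp_a L128313)
theorem L635573 : N15066 = N13545 := (eqc rfl L635572 rfl).symm
theorem L635576 : sm gd N10381 = N13537 := trfs L635568 L166925 rfl
theorem L635577 : N13537 = N15087 := eqes L635576 (flp_d L128501)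
theorem L635578 : N15087 = N13537 := (eqc rfl L635577 rfl).symm
theorem L635580 : sm gf N10381 = N28545 := trfs L635568 (flp_f L241719) rfl
theorem L635581 : N28545 = N7153 := eqes L635580 (flp_f L88686)
theorem L635582 : N28545 = N7153 := eqc rfl L635581 rfl
theorem L635584 : sm gj N10381 = N13534 := trfs L635568 (flp_j L166920) rfl
theorem L635586 : sm gh N10381 = N28591 := trfs L635568 L242116 rfl
theorem L635587 : N28591 = N15093 := eqes L635586 L128547
theorem L635588 : N28591 = N15093 := eqc rfl L635587 rfl
theorem L635594 : sm gd N15093 = N19931 := trfs L635588 L242124 rfl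
theorem L635595 : N19931 = N21973 := eqes L635594 L186656
theorem L635596 : N21973 = N19931 := (eqc rfl L635595 rfl).symm
theorem L635604 : sm gi N15093 = N41639 := trfs L635588 L351723 rfl
theorem L635605 : N41639 = N21974 := eqes L635604 L186662
theorem L635606 : N41639 = N21974 := eqc rfl L635605 rfl
theorem L635610 : sm gd N21974 = N28995 := trfs L635606 L351728 rfl
theorem L635611 : N28995 = N32025 := eqes L635610 (flp_d L271340)
theorem L635612 : N32025 = N28995 := (eqc rfl L635611 rfl).symm
theorem L635618 : sm gd N28995 = N21974 := trfs L635612 L271340 rfl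
theorem L635631 : sm gc N19931 = N32023 := trfs L635596 L271324 rfl
theorem L635632 : N32023 = N28980 := eqes L635631 (flp_c L245637)
theorem L635633 : N32023 = N28980 := eqc rfl L635632 rfl
theorem L635634 : sm gd N19931 = N15093 := trfs L635596 (flp_d L186656) rfl
theorem L635636 : sm ge N19931 = N32024 := trfs L635596 L271331 rfl
theorem L635637 : N32024 = N28990 := eqes L635636 (flp_e L245717)
theorem L635638 : N32024 = N28990 := eqc rfl L635637 rfl
theorem L635650 : sm gd N28990 = N22101 := trfs L635638 L271335 rfl
theorem L635651 : N22101 = N42235 := eqes L635650 L357093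
theorem L635652 : N42235 = N22101 := (eqc rfl L635651 rfl).symm
theorem L635654 : sm ga N22101 = N29023 := trfs L635652 L357095 rfl
theorem L635655 : N29023 = N32146 := eqes L635654 (flp_a L272313)
theorem L635656 : N32146 = N29023 := (eqc rfl L635655 rfl).symm
theorem L635658 : sm gd N22101 = N28990 := trfs L635652 (flp_d L357093) rfl
theorem L635664 : sm ga N29023 = N22101 := trfs L635656 L272313 rfl
theorem L635670 : sm gd N28980 = N22001 := trfs L635633 L271329 rfl
theorem L635671 : N22001 = N42221 := eqes L635670 L356977
theorem L635672 : N42221 = N22001 := (eqc rfl L635671 rfl).symm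
theorem L635673 : sm gf N28980 = N21977 := trfs L635633 L271326 rfl
theorem L635674 : N21977 = N42044 := eqes L635673 (flp_f L355405)
theorem L635675 : N42044 = N21977 := (eqc rfl L635674 rfl).symm
theorem L635680 : sm gf N21977 = N28980 := trfs L635675 L355405 rfl
theorem L635682 : sm gj N21977 = N28862 := trfs L635675 L355407 rfl
theorem L635683 : N28862 = N32026 := eqes L635682 (flp_j L271347)
theorem L635684 : N32026 = N28862 := (eqc rfl L635683 rfl).symm
theorem L635688 : sm gd N28862 = N22004 := trfs L635684 L271349 rfl
theorem L635689 : N22004 = N42045 := eqes L635688 L355409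
theorem L635690 : N42045 = N22004 := (eqc rfl L635689 rfl).symm
theorem L635691 : sm gj N28862 = N21977 := trfs L635684 L271347 rfl
theorem L635695 : sm gd N22004 = N28862 := trfs L635690 (flp_d L355409) rfl
theorem L635697 : sm gf N22004 = N28981 := trfs L635690 L355413 rfl
theorem L635698 : N28981 = N32060 := eqes L635697 (flp_f L271593)
theorem L635699 : N32060 = N28981 := (eqc rfl L635698 rfl).symm
theorem L635700 : sm gg N22004 = N28863 := trfs L635690 L355415 rfl
theorem L635701 : N28863 = N31897 := eqes L635700 (flp_g L270255)
theorem L635702 : N31897 = N28863 := (eqc rfl L635701 rfl).symm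
theorem L635706 : sm ge N28863 = N45141 := trfs L635702 (flp_e L381945) rfl
theorem L635707 : N45141 = N42047 := eqes L635706 L355428
theorem L635708 : N45141 = N42047 := eqc rfl L635707 rfl
theorem L635709 : sm gg N28863 = N22004 := trfs L635702 L270255 rfl
theorem L635711 : sm gj N28863 = N21891 := trfs L635702 L270257 rfl
theorem L635712 : N21891 = N41927 := eqes L635711 (flp_j L354327)
theorem L635713 : N41927 = N21891 := (eqc rfl L635712 rfl).symm
theorem L635717 : sm gd N21891 = N28785 := trfs L635713 (flp_d L354321) rfl
theorem L635718 : N28785 = N31870 := eqes L635717 (flp_d L270038)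
theorem L635719 : N31870 = N28785 := (eqc rfl L635718 rfl).symm
theorem L635720 : sm gf N21891 = N28786 := trfs L635713 L354325 rfl
theorem L635721 : N28786 = N31894 := eqes L635720 (flp_f L270233)
theorem L635722 : N31894 = N28786 := (eqc rfl L635721 rfl).symm
theorem L635723 : sm gj N21891 = N28863 := trfs L635713 L354327 rfl
theorem L635728 : sm gf N28786 = N21891 := trfs L635722 L270233 rfl
theorem L635733 : sm gd N28785 = N21891 := trfs L635719 L270038 rfl
theorem L635735 : sm gg N28785 = N21872 := trfs L635719 L270036 rfl
theorem L635736 : N21872 = N41926 := eqes L635735 (flp_g L354319)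
theorem L635737 : N41926 = N21872 := (eqc rfl L635736 rfl).symm
theorem L635742 : sm gg N21872 = N28785 := trfs L635737 L354319 rfl
theorem L635746 : sm gc N42047 = N30946 := trfs L635708 (flp_c L381943) rfl
theorem L635748 : sm gg N42047 = N31143 := trfs L635708 L381947 rfl
theorem L635750 : sm gj N42047 = N30948 := trfs L635708 L381949 rfl
theorem L635755 : sm gf N28981 = N22004 := trfs L635699 L271593 rfl
theorem L635762 : sm gd N22001 = N28980 := trfs L635672 (flp_d L356977) rfl
theorem L635765 : sm gj N22001 = N28981 := trfs L635672 L356982 rfl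
theorem L635768 : sm ga N7153 = N19642 := trfs L635582 L241714 rfl
theorem L635769 : N19642 = N10364 := eqes L635768 (flp_a L88536)
theorem L635770 : N19642 = N10364 := eqc rfl L635769 rfl
theorem L635779 : sm gg N7153 = N41525 := trfs L635582 (flp_g L350716) rfl
theorem L635780 : N41525 = N4938 := eqes L635779 (flp_g L61318)
theorem L635781 : N41525 = N4938 := eqc rfl L635780 rfl
theorem L635785 : sm ga N4938 = N28526 := trfs L635781 L350709 rfl
theorem L635786 : N28526 = N7142 := eqes L635785 (flp_a L61223)
theorem L635787 : N28526 = N7142 := eqc rfl L635786 rfl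
theorem L635801 : sm gj N7142 = N19618 := trfs L635787 (flp_j L241541) rfl
theorem L635802 : N19618 = N10324 := eqes L635801 (flp_j L88175)
theorem L635803 : N19618 = N10324 := eqc rfl L635802 rfl
theorem L635816 : sm gc N10324 = N28520 := trfs L635803 (flp_c L241492) rfl
theorem L635817 : N28520 = N7118 := eqes L635816 L88173
theorem L635818 : N28520 = N7118 := eqc rfl L635817 rfl
theorem L635836 : sm gg N7118 = N19615 := trfs L635818 (flp_g L241489) rfl
theorem L635837 : N19615 = N10329 := eqes L635836 L88219
theorem L635838 : N19615 = N10329 := eqc rfl L635837 rfl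
theorem L635858 : sm gj N10329 = N13518 := trfs L635838 L166522 rfl
theorem L635859 : N13518 = N15014 := eqes L635858 L127850
theorem L635860 : N15014 = N13518 := (eqc rfl L635859 rfl).symm
theorem L635868 : sm ge N13518 = N10331 := trfs L635860 L127856 rfl
theorem L635869 : N10331 = N19635 := eqes L635868 L166702
theorem L635870 : N19635 = N10331 := (eqc rfl L635869 rfl).symm
theorem L635872 : sm gg N13518 = N10373 := trfs L635860 L127859 rfl
theorem L635873 : N10373 = N19636 := eqes L635872 L166709
theorem L635874 : N19636 = N10373 := (eqc rfl L635873 rfl).symm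
theorem L635875 : sm gj N13518 = N10329 := trfs L635860 (flp_j L127850) rfl
theorem L635881 : sm gc N10373 = N13521 := trfs L635874 L166712 rfl
theorem L635882 : N13521 = N15067 := eqes L635881 (flp_c L128325)
theorem L635883 : N15067 = N13521 := (eqc rfl L635882 rfl).symm
theorem L635888 : sm gf N10373 = N13539 := trfs L635874 L166716 rfl
theorem L635889 : N13539 = N15079 := eqes L635888 (flp_f L128433)
theorem L635890 : N15079 = N13539 := (eqc rfl L635889 rfl).symm
theorem L635891 : sm gg N10373 = N13518 := trfs L635874 (flp_g L166709) rfl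
theorem L635893 : sm gj N10373 = N28551 := trfs L635874 L241765 rfl
theorem L635894 : N28551 = N7147 := eqes L635893 (flp_j L88617)
theorem L635895 : N28551 = N7147 := eqc rfl L635894 rfl
theorem L635902 : sm ge N7147 = N41576 := trfs L635895 (flp_e L351180) rfl
theorem L635903 : N41576 = N4934 := eqes L635902 L61272
theorem L635904 : N41576 = N4934 := eqc rfl L635903 rfl
theorem L635910 : sm gc N4934 = N28558 := trfs L635904 L351178 rfl
theorem L635911 : N28558 = N7143 := eqes L635910 (flp_c L61233)
theorem L635912 : N28558 = N7143 := eqc rfl L635911 rfl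
theorem L635923 : sm gj N7143 = N19640 := trfs L635912 (flp_j L241825) rfl
theorem L635924 : N19640 = N10366 := eqes L635923 L88552
theorem L635925 : N19640 = N10366 := eqc rfl L635924 rfl
theorem L635940 : sm gh N10366 = N28559 := trfs L635925 L241832 rfl
theorem L635941 : N28559 = N15071 := eqes L635940 L128355
theorem L635942 : N28559 = N15071 := eqc rfl L635941 rfl
theorem L635950 : sm gd N15071 = N41591 := trfs L635942 L351301 rfl
theorem L635951 : N41591 = N20929 := eqes L635950 (flp_d L592584)
theorem L635952 : N41591 = N20929 := eqc rfl L635951 rfl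
theorem L635960 : sm gb N20929 = N28567 := trfs L635952 L351303 rfl
theorem L635961 : N28567 = N14393 := eqes L635960 L177955
theorem L635962 : N28567 = N14393 := eqc rfl L635961 rfl
theorem L635963 : sm ge N20929 = N28892 := trfs L635952 L351307 rfl
theorem L635964 : N28892 = N30475 := eqes L635963 (flp_e L258506)
theorem L635965 : N30475 = N28892 := (eqc rfl L635964 rfl).symm
theorem L635971 : sm gc N28892 = N44419 := trfs L635965 (flp_c L375859) rfl
theorem L635972 : N44419 = N42089 := eqes L635971 L355771
theorem L635973 : N44419 = N42089 := eqc rfl L635972 rfl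
theorem L635975 : sm ge N28892 = N20929 := trfs L635965 L258506 rfl
theorem L635979 : sm gj N28892 = N20926 := trfs L635965 L258508 rfl
theorem L635980 : N20926 = N42087 := eqes L635979 (flp_j L355761)
theorem L635981 : N42087 = N20926 := (eqc rfl L635980 rfl).symm
theorem L635982 : sm gh N28892 = N20925 := trfs L635965 (flp_h L258502) rfl
theorem L635983 : N20925 = N41865 := eqes L635982 (flp_h L353724)
theorem L635984 : N41865 = N20925 := (eqc rfl L635983 rfl).symm
theorem L635985 : sm gi N28892 = N44440 := trfs L635965 L376027 rfl
theorem L635986 : N44440 = N42090 := eqes L635985 L355775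
theorem L635987 : N44440 = N42090 := eqc rfl L635986 rfl
theorem L635989 : sm ge N42090 = N30480 := trfs L635987 L376031 rfl
theorem L635991 : sm gj N42090 = N30477 := trfs L635987 L376033 rfl
theorem L635993 : sm gh N42090 = N30553 := trfs L635987 L376035 rfl
theorem L636000 : sm gh N20925 = N28892 := trfs L635984 L353724 rfl
theorem L636005 : sm gj N20926 = N28892 := trfs L635981 L355761 rfl
theorem L636007 : sm ga N42089 = N30527 := trfs L635973 L611558 rfl
theorem L636009 : sm gb N42089 = N31007 := trfs L635973 L375857 rfl
theorem L636011 : sm ge N42089 = N30465 := trfs L635973 L375861 rfl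
theorem L636013 : sm gg N42089 = N30503 := trfs L635973 L611563 rfl
theorem L636014 : N30503 = N28894 := eqes L636013 L355773
theorem L636015 : N30503 = N28894 := eqc rfl L636014 rfl
theorem L636016 : sm gj N42089 = N30462 := trfs L635973 L375863 rfl
theorem L636018 : sm gh N42089 = N30461 := trfs L635973 (flp_h L375855) rfl
theorem L636022 : sm gb N28894 = N44462 := trfs L636015 (flp_b L376184) rfl
theorem L636023 : N44462 = N42091 := eqes L636022 L355783
theorem L636024 : N44462 = N42091 := eqc rfl L636023 rfl
theorem L636026 : sm gd N28894 = N44482 := trfs L636015 L376365 rfl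
theorem L636027 : N44482 = N42070 := eqes L636026 (flp_d L355623)
theorem L636028 : N44482 = N42070 := eqc rfl L636027 rfl
theorem L636029 : sm ge N28894 = N22933 := trfs L636015 L258735 rfl
theorem L636030 : N22933 = N41593 := eqes L636029 (flp_e L351320)
theorem L636031 : N41593 = N22933 := (eqc rfl L636030 rfl).symm
theorem L636032 : sm gf N28894 = N42038 := trfs L636015 (flp_f L355353) rfl
theorem L636033 : N42038 = N20980 := eqes L636032 L244843
theorem L636034 : N42038 = N20980 := eqc rfl L636033 rfl
theorem L636035 : sm gj N28894 = N44213 := trfs L636015 (flp_j L620512) rfl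
theorem L636036 : N44213 = N41958 := eqes L636035 (flp_j L354605)
theorem L636037 : N44213 = N41958 := eqc rfl L636036 rfl
theorem L636038 : sm gh N28894 = N20944 := trfs L636015 (flp_h L258731) rfl
theorem L636039 : N20944 = N41867 := eqes L636038 (flp_h L353738)
theorem L636040 : N41867 = N20944 := (eqc rfl L636039 rfl).symm
theorem L636041 : sm gi N28894 = N44483 := trfs L636015 L376371 rfl
theorem L636042 : N44483 = N42092 := eqes L636041 L355789
theorem L636043 : N44483 = N42092 := eqc rfl L636042 rfl
theorem L636044 : sm ga N42092 = N30529 := trfs L636043 L376373 rfl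
theorem L636046 : sm ge N42092 = N33429 := trfs L636043 L376375 rfl
theorem L636050 : sm gf N20944 = N30271 := trfs L636040 L353736 rfl
theorem L636051 : N30271 = N28858 := eqes L636050 (flp_f L244546)
theorem L636052 : N30271 = N28858 := eqc rfl L636051 rfl
theorem L636053 : sm gh N20944 = N28894 := trfs L636040 L353738 rfl
theorem L636056 : sm gb N28858 = N44135 := trfs L636052 L373289 rfl
theorem L636057 : N44135 = N42027 := eqes L636056 (flp_b L355248)
theorem L636058 : N44135 = N42027 := eqc rfl L636057 rfl
theorem L636065 : sm gg N28858 = N44133 := trfs L636052 (flp_g L373276) rfl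
theorem L636066 : N44133 = N42037 := eqes L636065 L355341
theorem L636067 : N44133 = N42037 := eqc rfl L636066 rfl
theorem L636068 : sm gj N28858 = N43941 := trfs L636052 (flp_j L371707) rfl
theorem L636069 : N43941 = N41922 := eqes L636068 (flp_j L354279)
theorem L636070 : N43941 = N41922 := eqc rfl L636069 rfl
theorem L636079 : sm gc N41922 = N30141 := trfs L636070 (flp_c L371704) rfl
theorem L636080 : N30141 = N30331 := eqes L636079 L620516
theorem L636081 : N30331 = N30141 := (eqc rfl L636080 rfl).symm
theorem L636083 : sm gh N41922 = N30387 := trfs L636070 L371709 rfl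
theorem L636087 : sm gb N30141 = N20835 := trfs L636081 L257225 rfl
theorem L636088 : N20835 = N20709 := eqes L636087 L255608
theorem L636089 : N20835 = N20709 := eqc rfl L636088 rfl
theorem L636090 : sm gc N30141 = N41922 := trfs L636081 (flp_c L620516) rfl
theorem L636094 : sm gf N30141 = N20830 := trfs L636081 (flp_f L257223) rfl
theorem L636095 : N20830 = N41778 := eqes L636094 (flp_f L352983)
theorem L636096 : N41778 = N20830 := (eqc rfl L636095 rfl).symm
theorem L636097 : sm gg N30141 = N41902 := trfs L636081 (flp_g L354078) rfl
theorem L636098 : N41902 = N43939 := eqes L636097 (flp_g L371691)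
theorem L636099 : N43939 = N41902 := (eqc rfl L636098 rfl).symm
theorem L636101 : sm gh N30141 = N44225 := trfs L636081 L374135 rfl
theorem L636102 : N44225 = N20866 := eqes L636101 L255613
theorem L636103 : N44225 = N20866 := eqc rfl L636102 rfl
theorem L636104 : sm gi N30141 = N20863 := trfs L636081 L257227 rfl
theorem L636105 : N20863 = N43942 := eqes L636104 L371711
theorem L636106 : N43942 = N20863 := (eqc rfl L636105 rfl).symm
theorem L636107 : sm gb N20863 = N30151 := trfs L636106 L371713 rfl
theorem L636108 : N30151 = N14347 := eqes L636107 L177384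
theorem L636109 : N30151 = N14347 := eqc rfl L636108 rfl
theorem L636110 : sm gd N20863 = N30142 := trfs L636106 L371715 rfl
theorem L636111 : N30142 = N30138 := eqes L636110 (flp_d L255586)
theorem L636112 : N30142 = N30138 := eqc rfl L636111 rfl
theorem L636116 : sm gi N20863 = N30141 := trfs L636106 (flp_i L371711) rfl
theorem L636124 : sm gg N30138 = N41743 := trfs L636112 (flp_g L371702) L631264
theorem L636125 : N41743 = N41775 := eqes L636124 (flp_g L352959)
theorem L636126 : N41775 = N41743 := (eqc rfl L636125 rfl).symm
theorem L636129 : sm gh N30138 = N43889 := trfs L636112 (flp_h L371264) rfl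
theorem L636130 : N43889 = N43937 := eqes L636129 L371671
theorem L636131 : N43937 = N43889 := (eqc rfl L636130 rfl).symm
theorem L636136 : sm gf N43889 = N30140 := trfs L636131 L371675 rfl
theorem L636138 : sm gh N43889 = N30138 := trfs L636131 (flp_h L371671) rfl
theorem L636141 : sm gd N41743 = N28802 := trfs L636126 L352957 rfl
theorem L636145 : sm gg N41743 = N30138 := trfs L636126 L352959 rfl
theorem L636156 : sm gh N14347 = N43954 := trfs L636109 L371812 rfl
theorem L636157 : N43954 = N20871 := eqes L636156 L177444
theorem L636158 : N43954 = N20871 := eqc rfl L636157 rfl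
theorem L636165 : sm gi N20871 = N30400 := trfs L636158 L371818 rfl
theorem L636166 : N30400 = N30393 := eqes L636165 L257776
theorem L636167 : N30400 = N30393 := eqc rfl L636166 rfl
theorem L636169 : sm gb N30393 = N44309 := trfs L636167 (flp_b L374888) rfl
theorem L636170 : N44309 = N44302 := eqes L636169 (flp_b L374834)
theorem L636171 : N44309 = N44302 := eqc rfl L636170 rfl
theorem L636173 : sm gd N30393 = N41913 := trfs L636167 (flp_d L631982) rfl
theorem L636174 : N41913 = N44315 := eqes L636173 (flp_d L374935)
theorem L636175 : N44315 = N41913 := (eqc rfl L636174 rfl).symm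
theorem L636180 : sm gg N30393 = N44320 := trfs L636167 (flp_g L374980) rfl
theorem L636181 : N44320 = N41915 := eqes L636180 (flp_g L631992)
theorem L636182 : N44320 = N41915 := eqc rfl L636181 rfl
theorem L636185 : sm gh N30393 = N20876 := trfs L636167 (flp_h L257836) rfl
theorem L636186 : N20876 = N44235 := eqes L636185 (flp_h L374224)
theorem L636187 : N44235 = N20876 := (eqc rfl L636186 rfl).symm
theorem L636192 : sm gh N20876 = N30393 := trfs L636187 L374224 rfl
theorem L636194 : sm gi N20876 = N30339 := trfs L636187 (flp_i L374216) rfl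
theorem L636195 : N30339 = N14350 := eqes L636194 (flp_i L177486)
theorem L636196 : N30339 = N14350 := eqc rfl L636195 rfl
theorem L636203 : sm gg N14350 = N41910 := trfs L636196 (flp_g L354157) rfl
theorem L636204 : N41910 = N20873 := eqes L636203 (flp_g L177466)
theorem L636205 : N41910 = N20873 := eqc rfl L636204 rfl
theorem L636209 : sm gc N20873 = N29098 := trfs L636205 L354152 rfl
theorem L636210 : N29098 = N30396 := eqes L636209 L257803
theorem L636211 : N30396 = N29098 := (eqc rfl L636210 rfl).symm
theorem L636213 : sm gf N20873 = N28776 := trfs L636205 L354155 rfl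
theorem L636214 : N28776 = N30392 := eqes L636213 (flp_f L257774)
theorem L636215 : N30392 = N28776 := (eqc rfl L636214 rfl).symm
theorem L636216 : sm gh N20873 = N28774 := trfs L636205 (flp_h L354149) rfl
theorem L636217 : N28774 = N30148 := eqes L636216 (flp_h L255669)
theorem L636218 : N30148 = N28774 := (eqc rfl L636217 rfl).symm
theorem L636224 : sm gd N28774 = N20708 := trfs L636218 (flp_d L255663) rfl
theorem L636225 : N20708 = N41747 := eqes L636224 (flp_d L352704)
theorem L636226 : N41747 = N20708 := (eqc rfl L636225 rfl).symm
theorem L636233 : sm gj N28774 = N43948 := trfs L636218 (flp_j L371763) rfl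
theorem L636234 : N43948 = N41824 := eqes L636233 (flp_j L632058)
theorem L636235 : N43948 = N41824 := eqc rfl L636234 rfl
theorem L636236 : sm gh N28774 = N20873 := trfs L636218 L255669 rfl
theorem L636242 : sm gg N41824 = N30278 := trfs L636235 L371761 rfl
theorem L636244 : sm gh N41824 = N30394 := trfs L636235 L371766 rfl
theorem L636251 : sm gd N20708 = N28774 := trfs L636226 L352704 rfl
theorem L636255 : sm gg N20708 = N30110 := trfs L636226 L352708 rfl
theorem L636256 : N30110 = N14239 := eqes L636255 L176043
theorem L636257 : N30110 = N14239 := eqc rfl L636256 rfl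
theorem L636263 : sm ge N14239 = N41754 := trfs L636257 (flp_e L620790) rfl
theorem L636264 : N41754 = N9809 := eqes L636263 L121369
theorem L636265 : N41754 = N9809 := eqc rfl L636264 rfl
theorem L636279 : sm gi N9809 = N30058 := trfs L636265 L620792 rfl
theorem L636280 : N30058 = N14242 := eqes L636279 L121388
theorem L636281 : N30058 = N14242 := eqc rfl L636280 rfl
theorem L636288 : sm gf N14242 = N20649 := trfs L636281 (flp_f L254862) rfl
theorem L636289 : N20649 = N9810 := eqes L636288 L121393
theorem L636290 : N20649 = N9810 := eqc rfl L636289 rfl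
theorem L636291 : sm gg N14242 = N41722 := trfs L636281 (flp_g L352466) rfl
theorem L636292 : N41722 = N20712 := eqes L636291 (flp_g L176075)
theorem L636293 : N41722 = N19714 := eqc rfl L636292 L631257
theorem L636307 : sm gf N19714 = N28649 := trfs L636293 (flp_f L352459) rfl
theorem L636308 : N28649 = N13571 := eqes L636307 L167406
theorem L636309 : N28649 = N13571 := eqc rfl L636308 rfl
theorem L636315 : sm gg N13571 = N19701 := trfs L636309 (flp_g L242632) rfl
theorem L636316 : N19701 = N19692 := eqes L636315 (flp_g L167200)
theorem L636317 : N19701 = N19692 := eqc rfl L636316 rfl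
theorem L636324 : sm gi N13571 = N41699 := trfs L636309 (flp_i L352262) rfl
theorem L636325 : N41699 = N19715 := eqes L636324 L167411
theorem L636326 : N41699 = N19715 := eqc rfl L636325 rfl
theorem L636331 : sm gg N19715 = N28633 := trfs L636326 (flp_g L352255) rfl
theorem L636332 : N28633 = N14201 := eqes L636331 L632861
theorem L636333 : N28633 = N14201 := eqc rfl L636332 rfl
theorem L636344 : sm gh N14201 = N41700 := trfs L636333 L352264 rfl
theorem L636345 : N41700 = N9782 := eqes L636344 (flp_h L121016)
theorem L636346 : N41700 = N9782 := eqc rfl L636345 rfl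
theorem L636351 : sm ge N9782 = N28635 := trfs L636346 L352268 rfl
theorem L636352 : N28635 = N14199 := eqes L636351 L121002
theorem L636353 : N28635 = N14199 := eqc rfl L636352 rfl
theorem L636357 : sm gb N14199 = N41696 := trfs L636353 (flp_b L352225) rfl
theorem L636358 : N41696 = N20644 := eqes L636357 (flp_b L175471)
theorem L636359 : N41696 = N20644 := eqc rfl L636358 rfl
theorem L636364 : sm gg N14199 = N41702 := trfs L636353 (flp_g L352290) rfl
theorem L636365 : N41702 = N20649 := eqes L636364 L175510
theorem L636366 : N41702 = N9810 := eqc rfl L636365 L636290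
theorem L636375 : sm gf N9810 = N28668 := trfs L636366 L352288 rfl
theorem L636376 : N28668 = N14242 := eqes L636375 (flp_f L121393)
theorem L636377 : N28668 = N14242 := eqc rfl L636376 rfl
theorem L636383 : N41749 = N20706 := L631650.trans L631680
theorem L636391 : sm gh N14242 = N19713 := trfs L636377 (flp_h L242816) rfl
theorem L636392 : N19713 = N20687 := eqes L636391 (flp_h L175869)
theorem L636393 : N20687 = N19713 := (eqc rfl L636392 rfl).symm
theorem L636412 : sm gh N19713 = N14242 := trfs L636393 L175869 rfl
theorem L636435 : sm gf N20644 = N28631 := trfs L636359 L352227 rfl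
theorem L636436 : N28631 = N28644 := eqes L636435 (flp_f L242597)
theorem L636437 : N28644 = N28631 := (eqc rfl L636436 rfl).symm
theorem L636441 : N30054 = N28630 := L634182.trans L634373
theorem L636442 : sm ga N28631 = N41692 := trfs L636437 (flp_a L620811) rfl
theorem L636443 : N41692 = N24324 := eqes L636442 (flp_a L565976)
theorem L636444 : N41692 = N24324 := eqc rfl L636443 rfl
theorem L636451 : sm gf N28631 = N20644 := trfs L636437 L242597 rfl
theorem L636455 : sm gh N28631 = N41718 := trfs L636437 L352426 rfl
theorem L636456 : N41718 = N19689 := eqes L636455 (flp_h L242464)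
theorem L636457 : N41718 = N19689 := eqc rfl L636456 rfl
theorem L636463 : sm ge N19689 = N28646 := trfs L636457 L352430 rfl
theorem L636464 : N28646 = N14187 := eqes L636463 L167173
theorem L636465 : N28646 = N14187 := eqc rfl L636464 rfl
theorem L636473 : sm gd N14187 = N41447 := trfs L636465 (flp_d L350036) rfl
theorem L636474 : N41447 = N9775 := eqes L636473 (flp_d L120894)
theorem L636475 : N41447 = N9775 := eqc rfl L636474 rfl
theorem L636495 : sm gh N9775 = N28462 := trfs L636475 (flp_h L350029) rfl
theorem L636496 : N28462 = N7923 := eqes L636495 L593741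
theorem L636497 : N28462 = N7923 := eqc rfl L636496 rfl
theorem L636507 : sm gf N7923 = N19578 := trfs L636497 (flp_f L240977) rfl
theorem L636508 : N19578 = N11491 := eqes L636507 L98321
theorem L636509 : N19578 = N11491 := eqc rfl L636508 rfl
theorem L636528 : sm gg N11491 = N13486 := trfs L636509 L166190 rfl
theorem L636529 : N13486 = N15443 := eqes L636528 L619869
theorem L636530 : N15443 = N13486 := (eqc rfl L636529 rfl).symm
theorem L636534 : sm ga N13486 = N10633 := trfs L636530 L131582 rfl
theorem L636535 : N10633 = N19584 := eqes L636534 (flp_a L166245)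
theorem L636536 : N19584 = N10633 := (eqc rfl L636535 rfl).symm
theorem L636538 : sm gc N13486 = N10630 := trfs L636530 L131584 rfl
theorem L636539 : N10630 = N19586 := eqes L636538 L166265
theorem L636540 : N19586 = N10630 := (eqc rfl L636539 rfl).symm
theorem L636545 : sm gg N13486 = N11491 := trfs L636530 (flp_g L619869) rfl
theorem L636547 : sm gj N13486 = N10697 := trfs L636530 L131587 rfl
theorem L636548 : N10697 = N9312 := eqes L636547 L114796
theorem L636549 : N10697 = N9312 := eqc rfl L636548 rfl
theorem L636550 : sm gh N13486 = N10628 := trfs L636530 (flp_h L131580) rfl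
theorem L636551 : N10628 = N19588 := eqes L636550 L166281
theorem L636552 : N19588 = N10628 := (eqc rfl L636551 rfl).symm
theorem L636562 : sm gd N10628 = N13578 := trfs L636552 L166288 rfl
theorem L636563 : N13578 = N14227 := eqes L636562 (flp_d L121271)
theorem L636564 : N14227 = N13578 := (eqc rfl L636563 rfl).symm
theorem L636571 : sm gh N10628 = N13486 := trfs L636552 (flp_h L166281) rfl
theorem L636573 : sm gi N10628 = N28479 := trfs L636552 L241133 rfl
theorem L636574 : N28479 = N7951 := eqes L636573 (flp_i L566333)
theorem L636575 : N28479 = N7951 := eqc rfl L636574 rfl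
theorem L636591 : sm gj N7951 = N19604 := trfs L636575 L241140 rfl
theorem L636592 : N19604 = N5520 := eqes L636591 L68323
theorem L636593 : N19604 = N5520 := eqc rfl L636592 rfl
theorem L636599 : sm gc N5520 = N28498 := trfs L636593 (flp_c L241295) rfl
theorem L636600 : N28498 = N3822 := eqes L636599 (flp_c L47630)
theorem L636601 : N28498 = N3822 := eqc rfl L636600 rfl
theorem L636622 : sm gi N3822 = N19600 := trfs L636601 (flp_i L241293) rfl
theorem L636623 : N19600 = N5092 := eqes L636622 (flp_i L578222)
theorem L636624 : N19600 = N5092 := eqc rfl L636623 rfl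
theorem L636641 : sm gh N5092 = N13494 := trfs L636624 (flp_h L166388) rfl
theorem L636642 : N13494 = N7376 := eqes L636641 L63276
theorem L636643 : N13494 = N7376 := eqc rfl L636642 rfl
theorem L636654 : sm gf N7376 = N19599 := trfs L636643 L166382 rfl
theorem L636655 : N19599 = N10700 := eqes L636654 (flp_f L91455)
theorem L636656 : N19599 = N10700 := eqc rfl L636655 rfl
theorem L636666 : sm gc N10700 = N13495 := trfs L636656 L166384 rfl
theorem L636667 : N13495 = N15548 := eqes L636666 (flp_c L132485)
theorem L636668 : N15548 = N13495 := (eqc rfl L636667 rfl).symm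
theorem L636676 : sm gj N10700 = N28474 := trfs L636656 (flp_j L241096) rfl
theorem L636677 : N28474 = N7815 := eqes L636676 L626839
theorem L636678 : N28474 = N7815 := eqc rfl L636677 rfl
theorem L636689 : sm ge N7815 = N41463 := trfs L636678 L350183 rfl
theorem L636690 : N41463 = N5396 := eqes L636689 L67122
theorem L636691 : N41463 = N5396 := eqc rfl L636690 rfl
theorem L636706 : sm gc N5396 = N28476 := trfs L636691 L350185 rfl
theorem L636707 : N28476 = N7811 := eqes L636706 (flp_c L67082)
theorem L636708 : N28476 = N7811 := eqc rfl L636707 rfl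
theorem L636722 : sm gj N7811 = N19601 := trfs L636708 L241110 rfl
theorem L636723 : N19601 = N11336 := eqes L636722 L96994
theorem L636724 : N19601 = N11336 := eqc rfl L636723 rfl
theorem L636725 : sm gh N7811 = N41469 := trfs L636708 L350229 rfl
theorem L636726 : N41469 = N9863 := eqes L636725 L593586
theorem L636727 : N41469 = N9863 := eqc rfl L636726 rfl
theorem L636732 : sm gj N9863 = N28500 := trfs L636727 L350236 rfl
theorem L636733 : N28500 = N14323 := eqes L636732 L122072
theorem L636734 : N28500 = N14323 := eqc rfl L636733 rfl
theorem L636735 : sm ga N14323 = N41488 := trfs L636734 (flp_a L350394) rfl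
theorem L636736 : N41488 = N10703 := eqes L636735 (flp_a L621750)
theorem L636737 : N41488 = N10703 := eqc rfl L636736 rfl
theorem L636742 : sm gd N14323 = N41504 := trfs L636734 L350518 rfl
theorem L636743 : N41504 = N20832 := eqes L636742 (flp_d L177095)
theorem L636744 : N41504 = N20832 := eqc rfl L636743 rfl
theorem L636756 : sm gb N20832 = N28507 := trfs L636744 L350520 rfl
theorem L636757 : N28507 = N14326 := eqes L636756 L177093
theorem L636758 : N28507 = N14326 := eqc rfl L636757 rfl
theorem L636776 : sm gh N14326 = N19648 := trfs L636758 L241371 rfl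
theorem L636777 : N19648 = N20840 := eqes L636776 L177163
theorem L636778 : N20840 = N19648 := (eqc rfl L636777 rfl).symm
theorem L636839 : sm gc N19648 = N14570 := trfs L636778 L177166 rfl
theorem L636840 : N14570 = N28569 := eqes L636839 L241918
theorem L636841 : N28569 = N14570 := (eqc rfl L636840 rfl).symm
theorem L636849 : sm gh N19648 = N14326 := trfs L636778 (flp_h L177163) rfl
theorem L636851 : sm gi N19648 = N30345 := trfs L636778 L257341 rfl
theorem L636852 : N30345 = N28570 := eqes L636851 L241925
theorem L636853 : N30345 = N28570 := eqc rfl L636852 rfl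
theorem L636855 : sm gb N28570 = N44231 := trfs L636853 (flp_b L374182) rfl
theorem L636856 : N44231 = N41594 := eqes L636855 (flp_b L351325)
theorem L636857 : N44231 = N41594 := eqc rfl L636856 rfl
theorem L636867 : sm gh N28570 = N20877 := trfs L636853 L257351 rfl
theorem L636868 : N20877 = N41606 := eqes L636867 L351425
theorem L636869 : N41606 = N20877 := (eqc rfl L636868 rfl).symm
theorem L636875 : sm gh N20877 = N28570 := trfs L636869 (flp_h L351425) rfl
theorem L636878 : sm gg N41594 = N30480 := trfs L636857 L374185 rfl
theorem L636880 : sm gj N41594 = N30337 := trfs L636857 L374187 rfl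
theorem L636882 : sm gh N41594 = N30389 := trfs L636857 L374189 rfl
theorem L636886 : sm gb N14570 = N41604 := trfs L636841 L351410 rfl
theorem L636887 : N41604 = N21192 := eqes L636886 (flp_b L180189)
theorem L636888 : N41604 = N21192 := eqc rfl L636887 rfl
theorem L636889 : sm gc N14570 = N19648 := trfs L636841 (flp_c L241918) rfl
theorem L636895 : sm gg N14570 = N41602 := trfs L636841 (flp_g L351398) rfl
theorem L636896 : N41602 = N10078 := eqes L636895 L124198
theorem L636897 : N41602 = N10078 := eqc rfl L636896 rfl
theorem L636904 : sm ge N10078 = N28903 := trfs L636897 L351396 rfl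
theorem L636905 : N28903 = N14638 := eqes L636904 (flp_e L124780)
theorem L636906 : N28903 = N14638 := eqc rfl L636905 rfl
theorem L636908 : sm gb N14638 = N42102 := trfs L636906 L355869 rfl
theorem L636909 : N42102 = N21295 := eqes L636908 (flp_b L181069)
theorem L636910 : N42102 = N21295 := eqc rfl L636909 rfl
theorem L636913 : sm gd N14638 = N20155 := trfs L636906 L244918 rfl
theorem L636914 : N20155 = N21305 := eqes L636913 L181147
theorem L636915 : N21305 = N20155 := (eqc rfl L636914 rfl).symm
theorem L636919 : sm gj N14638 = N42100 := trfs L636906 (flp_j L355858) rfl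
theorem L636920 : N42100 = N10075 := eqes L636919 L124782
theorem L636921 : N42100 = N10075 := eqc rfl L636920 rfl
theorem L636932 : sm gd N10075 = N29324 := trfs L636921 L355860 rfl
theorem L636933 : N29324 = N14639 := eqes L636932 L124784
theorem L636934 : N29324 = N14639 := eqc rfl L636933 rfl
theorem L636936 : sm gb N14639 = N42732 := trfs L636934 L361342 rfl
theorem L636937 : N42732 = N21296 := eqes L636936 (flp_b L181077)
theorem L636938 : N42732 = N21296 := eqc rfl L636937 rfl
theorem L636939 : sm gc N14639 = N20153 := trfs L636934 (flp_c L248591) rfl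
theorem L636940 : N20153 = N21307 := eqes L636939 L181163
theorem L636941 : N21307 = N20153 := (eqc rfl L636940 rfl).symm
theorem L636943 : sm gf N14639 = N42724 := trfs L636934 (flp_f L361276) rfl
theorem L636944 : N42724 = N21303 := eqes L636943 (flp_f L181135)
theorem L636945 : N42724 = N21303 := eqc rfl L636944 rfl
theorem L636952 : sm gi N14639 = N42733 := trfs L636934 L361348 rfl
theorem L636953 : N42733 = N21308 := eqes L636952 L181170
theorem L636954 : N42733 = N21308 := eqc rfl L636953 rfl
theorem L636956 : sm gc N21308 = N29325 := trfs L636954 L361351 rfl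
theorem L636957 : N29325 = N31043 := eqes L636956 (flp_c L263296)
theorem L636958 : N31043 = N29325 := (eqc rfl L636957 rfl).symm
theorem L636960 : sm gj N21308 = N29327 := trfs L636954 L361354 rfl
theorem L636961 : N29327 = N31041 := eqes L636960 (flp_j L263285)
theorem L636962 : N31041 = N29327 := (eqc rfl L636961 rfl).symm
theorem L636964 : sm gb N29327 = N45264 := trfs L636962 (flp_b L382941) rfl
theorem L636965 : N45264 = N42736 := eqes L636964 (flp_b L361372)
theorem L636966 : N45264 = N42736 := eqc rfl L636965 rfl
theorem L636973 : sm gf N29327 = N45275 := trfs L636962 (flp_f L383029) rfl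
theorem L636974 : N45275 = N42729 := eqes L636973 (flp_f L361320)
theorem L636975 : N45275 = N42729 := eqc rfl L636974 rfl
theorem L636977 : sm gj N29327 = N21308 := trfs L636962 L263285 rfl
theorem L636979 : sm gh N29327 = N45283 := trfs L636962 L383082 rfl
theorem L636980 : N45283 = N42737 := eqes L636979 L361377
theorem L636981 : N45283 = N42737 := eqc rfl L636980 rfl
theorem L636984 : sm gd N42737 = N31163 := trfs L636981 L383088 rfl
theorem L636987 : sm gj N42737 = N31044 := trfs L636981 L383086 rfl
theorem L636991 : sm gd N42729 = N31036 := trfs L636975 L383027 rfl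
theorem L636993 : sm gj N42729 = N31039 := trfs L636975 L383031 rfl
theorem L636995 : sm gi N42729 = N31035 := trfs L636975 (flp_i L383024) rfl
theorem L636996 : N31035 = N29321 := eqes L636995 (flp_i L361315)
theorem L636997 : N31035 = N29321 := eqc rfl L636996 rfl
theorem L636999 : sm gb N29321 = N45258 := trfs L636997 (flp_b L382893) rfl
theorem L637000 : N45258 = N42727 := eqes L636999 L361299
theorem L637001 : N45258 = N42727 := eqc rfl L637000 rfl
theorem L637002 : sm gc N29321 = N45273 := trfs L636997 L383007 rfl
theorem L637003 : N45273 = N20151 := eqes L637002 (flp_c L248565)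
theorem L637004 : N45273 = N20151 := eqc rfl L637003 rfl
theorem L637007 : sm ge N29321 = N45274 := trfs L636997 L383015 rfl
theorem L637008 : N45274 = N42728 := eqes L637007 L361306
theorem L637009 : N45274 = N42728 := eqc rfl L637008 rfl
theorem L637016 : sm gd N42728 = N31276 := trfs L637009 L383021 rfl
theorem L637019 : sm gj N42728 = N31038 := trfs L637009 L383018 rfl
theorem L637026 : sm gj N20151 = N31037 := trfs L637004 L383012 rfl
theorem L637027 : N31037 = N29319 := eqes L637026 (flp_j L248553)
theorem L637028 : N31037 = N29319 := eqc rfl L637027 rfl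
theorem L637031 : sm gb N29319 = N45276 := trfs L637028 L383033 rfl
theorem L637032 : N45276 = N42709 := eqes L637031 (flp_b L361149)
theorem L637033 : N45276 = N42709 := eqc rfl L637032 rfl
theorem L637037 : sm ge N29319 = N45277 := trfs L637028 L383038 rfl
theorem L637038 : N45277 = N42725 := eqes L637037 L361281
theorem L637039 : N45277 = N42725 := eqc rfl L637038 rfl
theorem L637041 : sm gg N29319 = N42608 := trfs L637028 (flp_g L360369) rfl
theorem L637042 : N42608 = N42722 := eqes L637041 (flp_g L361259)
theorem L637043 : N42722 = N42608 := (eqc rfl L637042 rfl).symm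
theorem L637045 : sm gi N29319 = N45278 := trfs L637028 L383045 rfl
theorem L637046 : N45278 = N42726 := eqes L637045 L361290
theorem L637047 : N45278 = N42726 := eqc rfl L637046 rfl
theorem L637049 : sm gc N42726 = N31039 := trfs L637047 L383048 rfl
theorem L637053 : sm gd N42608 = N29318 := trfs L637043 (flp_d L361256) rfl
theorem L637055 : sm gg N42608 = N29319 := trfs L637043 L361259 rfl
theorem L637057 : sm gj N42608 = N31151 := trfs L637043 L361261 rfl
theorem L637061 : sm gc N42725 = N31038 := trfs L637039 L383041 rfl
theorem L637065 : sm gf N42709 = N31042 := trfs L637033 L383035 rfl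
theorem L637066 : N31042 = N29311 := eqes L637065 L361151
theorem L637067 : N31042 = N29311 := eqc rfl L637066 rfl
theorem L637069 : sm ga N29311 = N45284 := trfs L637067 L383091 rfl
theorem L637070 : N45284 = N42665 := eqes L637069 (flp_a L360836)
theorem L637071 : N45284 = N42665 := eqc rfl L637070 rfl
theorem L637073 : sm gc N29311 = N45265 := trfs L637067 (flp_c L382954) rfl
theorem L637074 : N45265 = N42714 := eqes L637073 L361193
theorem L637075 : N45265 = N42714 := eqc rfl L637074 rfl
theorem L637080 : sm gg N29311 = N21309 := trfs L637067 L263290 rfl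
theorem L637081 : N21309 = N42462 := eqes L637080 (flp_g L359114)
theorem L637082 : N42462 = N21309 := (eqc rfl L637081 rfl).symm
theorem L637087 : sm gi N29311 = N45285 := trfs L637067 L383098 rfl
theorem L637088 : N45285 = N42715 := eqes L637087 L361199
theorem L637089 : N45285 = N42715 := eqc rfl L637088 rfl
theorem L637092 : sm gg N42715 = N31046 := trfs L637089 L383103 rfl
theorem L637097 : sm gb N21309 = N29153 := trfs L637082 L359112 rfl
theorem L637098 : N29153 = N14641 := eqes L637097 (flp_b L181178)
theorem L637099 : N29153 = N14641 := eqc rfl L637098 rfl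
theorem L637100 : sm gd N21309 = N29143 := trfs L637082 (flp_d L359110) rfl
theorem L637101 : N29143 = N30489 := eqes L637100 (flp_d L258612)
theorem L637102 : N30489 = N29143 := (eqc rfl L637101 rfl).symm
theorem L637104 : sm gg N21309 = N29311 := trfs L637082 L359114 rfl
theorem L637106 : sm gj N21309 = N29144 := trfs L637082 L359116 rfl
theorem L637107 : N29144 = N30883 := eqes L637106 (flp_j L261953)
theorem L637108 : N30883 = N29144 := (eqc rfl L637107 rfl).symm
theorem L637110 : sm ga N29144 = N45043 := trfs L637108 L381107 rfl
theorem L637111 : N45043 = N42430 := eqes L637110 (flp_a L358847)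
theorem L637112 : N45043 = N42430 := eqc rfl L637111 rfl
theorem L637113 : sm gb N29144 = N21199 := trfs L637108 (flp_b L261950) rfl
theorem L637114 : N21199 = N20039 := eqes L637113 L247089
theorem L637115 : N21199 = N20039 := eqc rfl L637114 rfl
theorem L637116 : sm gc N29144 = N45029 := trfs L637108 (flp_c L381001) rfl
theorem L637117 : N45029 = N42464 := eqes L637116 L359130
theorem L637118 : N45029 = N42464 := eqc rfl L637117 rfl
theorem L637123 : sm gf N29144 = N42399 := trfs L637108 (flp_f L358556) rfl
theorem L637124 : N42399 = N42460 := eqes L637123 (flp_f L359096)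
theorem L637125 : N42460 = N42399 := (eqc rfl L637124 rfl).symm
theorem L637129 : sm gj N29144 = N21309 := trfs L637108 L261953 rfl
theorem L637132 : sm gi N29144 = N45044 := trfs L637108 L381114 rfl
theorem L637133 : N45044 = N42465 := eqes L637132 L359136
theorem L637134 : N45044 = N42465 := eqc rfl L637133 rfl
theorem L637135 : sm gb N42465 = N30884 := trfs L637134 L381116 rfl
theorem L637136 : N30884 = N29156 := eqes L637135 L359138
theorem L637137 : N30884 = N29156 := eqc rfl L637136 rfl
theorem L637139 : sm gj N42465 = N31046 := trfs L637134 L381119 rfl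
theorem L637142 : sm gc N29156 = N21200 := trfs L637137 L261959 rfl
theorem L637143 : N21200 = N42478 := eqes L637142 (flp_c L359253)
theorem L637144 : N42478 = N21200 := (eqc rfl L637143 rfl).symm
theorem L637147 : sm gf N29156 = N42400 := trfs L637137 (flp_f L358566) rfl
theorem L637148 : N42400 = N42474 := eqes L637147 (flp_f L359221)
theorem L637149 : N42474 = N42400 := (eqc rfl L637148 rfl).symm
theorem L637150 : sm gg N29156 = N45041 := trfs L637137 (flp_g L381096) rfl
theorem L637151 : N45041 = N20042 := eqes L637150 L247196
theorem L637152 : N45041 = N20042 := eqc rfl L637151 rfl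
theorem L637155 : sm gh N29156 = N45045 := trfs L637137 L381121 rfl
theorem L637156 : N45045 = N42479 := eqes L637155 L359258
theorem L637157 : N45045 = N42479 := eqc rfl L637156 rfl
theorem L637160 : sm gc N42479 = N30885 := trfs L637157 L381124 rfl
theorem L637163 : sm gj N42479 = N31047 := trfs L637157 L381127 rfl
theorem L637169 : sm gi N20042 = N30881 := trfs L637152 (flp_i L381090) rfl
theorem L637170 : N30881 = N13789 := eqes L637169 (flp_i L170333)
theorem L637171 : N30881 = N13789 := eqc rfl L637170 rfl
theorem L637181 : sm gj N13789 = N45038 := trfs L637171 (flp_j L381071) rfl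
theorem L637182 : N45038 = N9558 := eqes L637181 L117501
theorem L637183 : N45038 = N9558 := eqc rfl L637182 rfl
theorem L637186 : sm gc N9558 = N30879 := trfs L637183 (flp_c L381065) rfl
theorem L637187 : N30879 = N13867 := eqes L637186 L118148
theorem L637188 : N30879 = N13867 := eqc rfl L637187 rfl
theorem L637193 : sm gb N13867 = N45025 := trfs L637188 (flp_b L380960) rfl
theorem L637194 : N45025 = N20157 := eqes L637193 L171293
theorem L637195 : N45025 = N20157 := eqc rfl L637194 rfl
theorem L637203 : sm gd N20157 = N30869 := trfs L637195 (flp_d L380958) rfl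
theorem L637204 : N30869 = N28905 := eqes L637203 (flp_d L244929)
theorem L637205 : N30869 = N28905 := eqc rfl L637204 rfl
theorem L637207 : sm gg N20157 = N31027 := trfs L637195 L380962 rfl
theorem L637208 : N31027 = N29326 := eqes L637207 (flp_g L248609)
theorem L637209 : N31027 = N29326 := eqc rfl L637208 rfl
theorem L637210 : sm gj N20157 = N30870 := trfs L637195 L380964 rfl
theorem L637211 : N30870 = N29157 := eqes L637210 (flp_j L247203)
theorem L637212 : N30870 = N29157 := eqc rfl L637211 rfl
theorem L637214 : sm ga N29157 = N44993 := trfs L637212 (flp_a L380690) rfl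
theorem L637215 : N44993 = N42480 := eqes L637214 L359265
theorem L637216 : N44993 = N42480 := eqc rfl L637215 rfl
theorem L637218 : sm gc N29157 = N45027 := trfs L637212 L380980 rfl
theorem L637219 : N45027 = N42466 := eqes L637218 (flp_c L359153)
theorem L637220 : N45027 = N42466 := eqc rfl L637219 rfl
theorem L637224 : sm gf N29157 = N45023 := trfs L637212 (flp_f L380946) rfl
theorem L637225 : N45023 = N21254 := eqes L637224 L247201
theorem L637226 : N45023 = N21254 := eqc rfl L637225 rfl
theorem L637227 : sm gg N29157 = N21190 := trfs L637212 L261843 rfl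
theorem L637228 : N21190 = N42477 := eqes L637227 (flp_g L359247)
theorem L637229 : N42477 = N21190 := (eqc rfl L637228 rfl).symm
theorem L637231 : sm gi N29157 = N45028 := trfs L637212 L380986 rfl
theorem L637232 : N45028 = N42481 := eqes L637231 L359274
theorem L637233 : N45028 = N42481 := eqc rfl L637232 rfl
theorem L637235 : sm gd N42481 = N30871 := trfs L637233 L380990 rfl
theorem L637238 : sm gg N42481 = N30873 := trfs L637233 L380993 rfl
theorem L637242 : sm gg N21190 = N29157 := trfs L637229 L359247 rfl
theorem L637245 : sm gb N21254 = N30877 := trfs L637226 L380944 rfl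
theorem L637246 : N30877 = N14605 := eqes L637245 (flp_b L180721)
theorem L637247 : N30877 = N14605 := eqc rfl L637246 rfl
theorem L637248 : sm gd N21254 = N30868 := trfs L637226 (flp_d L380942) rfl
theorem L637249 : N30868 = N30398 := eqes L637248 (flp_d L257821)
theorem L637250 : N30868 = N30398 := eqc rfl L637249 rfl
theorem L637252 : sm ga N30398 = N44991 := trfs L637250 (flp_a L380671) rfl
theorem L637253 : N44991 = N44321 := eqes L637252 L374982
theorem L637254 : N44991 = N44321 := eqc rfl L637253 rfl
theorem L637256 : sm gc N30398 = N45004 := trfs L637250 (flp_c L380790) rfl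
theorem L637257 : N45004 = N44307 := eqes L637256 (flp_c L374877)
theorem L637258 : N45004 = N44307 := eqc rfl L637257 rfl
theorem L637262 : sm gg N30398 = N42384 := trfs L637250 (flp_g L358428) rfl
theorem L637263 : N42384 = N44318 := eqes L637262 (flp_g L374964)
theorem L637264 : N44318 = N42384 := (eqc rfl L637263 rfl).symm
theorem L637266 : sm gh N30398 = N21187 := trfs L637250 (flp_h L261822) rfl
theorem L637267 : N21187 = N43952 := eqes L637266 (flp_h L371801)
theorem L637268 : N43952 = N21187 := (eqc rfl L637267 rfl).symm
theorem L637269 : sm gi N30398 = N45024 := trfs L637250 L380949 rfl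
theorem L637270 : N45024 = N44322 := eqes L637269 L374990
theorem L637271 : N45024 = N44322 := eqc rfl L637270 rfl
theorem L637274 : sm gf N44322 = N30871 := trfs L637271 L380954 rfl
theorem L637276 : sm gh N44322 = N30945 := trfs L637271 L380956 rfl
theorem L637283 : sm gh N21187 = N30398 := trfs L637268 L371801 rfl
theorem L637286 : sm gd N42384 = N30961 := trfs L637264 L374961 rfl
theorem L637289 : sm gg N42384 = N30398 := trfs L637264 L374964 rfl
theorem L637292 : sm gf N44307 = N30856 := trfs L637258 L380793 rfl
theorem L637294 : sm gh N44307 = N30854 := trfs L637258 (flp_h L380788) rfl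
theorem L637298 : sm gf N44321 = N30847 := trfs L637254 L380675 rfl
theorem L637300 : sm gh N44321 = N30845 := trfs L637254 (flp_h L380669) rfl
theorem L637309 : sm gg N14605 = N42393 := trfs L637247 (flp_g L358509) rfl
theorem L637310 : N42393 = N21252 := eqes L637309 (flp_g L180709)
theorem L637311 : N42393 = N21252 := eqc rfl L637310 rfl
theorem L637323 : sm gf N21252 = N29100 := trfs L637311 L358507 rfl
theorem L637324 : N29100 = N30956 := eqes L637323 (flp_f L262588)
theorem L637325 : N30956 = N29100 := (eqc rfl L637324 rfl).symm
theorem L637328 : sm gb N29100 = N45154 := trfs L637325 L382060 rfl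
theorem L637329 : N45154 = N42386 := eqes L637328 (flp_b L358442)
theorem L637330 : N45154 = N42386 := eqc rfl L637329 rfl
theorem L637331 : sm gc N29100 = N21248 := trfs L637325 (flp_c L262585) rfl
theorem L637332 : N21248 = N42397 := eqes L637331 L358541
theorem L637333 : N42397 = N21248 := (eqc rfl L637332 rfl).symm
theorem L637337 : sm ge N29100 = N45155 := trfs L637325 L382065 rfl
theorem L637338 : N45155 = N42342 := eqes L637337 (flp_e L358026)
theorem L637339 : N45155 = N42342 := eqc rfl L637338 rfl
theorem L637340 : sm gf N29100 = N21252 := trfs L637325 L262588 rfl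
theorem L637342 : sm gg N29100 = N42472 := trfs L637325 (flp_g L359205) rfl
theorem L637343 : N42472 = N20004 := eqes L637342 L246702
theorem L637344 : N42472 = N20004 := eqc rfl L637343 rfl
theorem L637345 : sm gj N29100 = N45151 := trfs L637325 (flp_j L382039) rfl
theorem L637346 : N45151 = N42395 := eqes L637345 (flp_j L358527)
theorem L637347 : N45151 = N42395 := eqc rfl L637346 rfl
theorem L637349 : sm gi N29100 = N45156 := trfs L637325 L382073 rfl
theorem L637350 : N45156 = N42398 := eqes L637349 L358547
theorem L637351 : N45156 = N42398 := eqc rfl L637350 rfl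
theorem L637353 : sm gc N42398 = N30958 := trfs L637351 L382076 rfl
theorem L637355 : sm gf N42398 = N30962 := trfs L637351 L382078 rfl
theorem L637358 : sm gc N42395 = N30954 := trfs L637347 (flp_c L382034) rfl
theorem L637360 : sm gf N42395 = N30959 := trfs L637347 L382037 rfl
theorem L637364 : sm gc N20004 = N29151 := trfs L637344 (flp_c L359200) rfl
theorem L637365 : N29151 = N29102 := eqes L637364 L246714
theorem L637366 : N29151 = N29102 := eqc rfl L637365 rfl
theorem L637373 : sm ge N29102 = N42473 := trfs L637366 L359208 rfl
theorem L637374 : N42473 = N42344 := eqes L637373 (flp_e L358041)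
theorem L637375 : N42473 = N42344 := eqc rfl L637374 rfl
theorem L637386 : sm gg N42344 = N30957 := trfs L637375 L359211 rfl
theorem L637390 : sm gc N42342 = N30957 := trfs L637339 L382068 rfl
theorem L637392 : sm gf N42342 = N31911 := trfs L637339 L382071 rfl
theorem L637399 : sm gc N21248 = N29100 := trfs L637333 (flp_c L358541) rfl
theorem L637401 : sm gg N21248 = N29102 := trfs L637333 L358544 rfl
theorem L637404 : sm gf N42386 = N30961 := trfs L637330 L382062 rfl
theorem L637412 : sm gg N42466 = N30872 := trfs L637220 L380983 rfl
theorem L637416 : sm gd N42480 = N30847 := trfs L637216 (flp_d L380688) rfl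
theorem L637419 : sm gg N42480 = N30848 := trfs L637216 L380693 rfl
theorem L637422 : sm ga N29326 = N45214 := trfs L637209 (flp_a L382582) rfl
theorem L637423 : N45214 = N42735 := eqes L637422 L361363
theorem L637424 : N45214 = N42735 := eqc rfl L637423 rfl
theorem L637426 : sm gc N29326 = N45263 := trfs L637209 L382933 rfl
theorem L637427 : N45263 = N42716 := eqes L637426 (flp_c L361214)
theorem L637428 : N45263 = N42716 := eqc rfl L637427 rfl
theorem L637438 : sm gj N42716 = N31029 := trfs L637428 L382936 rfl
theorem L637442 : sm gd N42735 = N30994 := trfs L637424 (flp_d L382580) rfl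
theorem L637445 : sm gj N42735 = N30995 := trfs L637424 L382585 rfl
theorem L637448 : sm ga N28905 = N44992 := trfs L637205 (flp_a L380679) rfl
theorem L637449 : N44992 = N42105 := eqes L637448 L355889
theorem L637450 : N44992 = N42105 := eqc rfl L637449 rfl
theorem L637460 : sm gh N28905 = N21188 := trfs L637205 (flp_h L261829) rfl
theorem L637461 : N21188 = N41878 := eqes L637460 (flp_h L353826)
theorem L637462 : N41878 = N21188 := (eqc rfl L637461 rfl).symm
theorem L637468 : sm gh N21188 = N28905 := trfs L637462 L353826 rfl
theorem L637471 : sm gc N42105 = N31050 := trfs L637450 L617217 rfl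
theorem L637473 : sm ge N42105 = N30850 := trfs L637450 L380682 rfl
theorem L637475 : sm gg N42105 = N30994 := trfs L637450 L380684 rfl
theorem L637477 : sm gj N42105 = N30847 := trfs L637450 L380686 rfl
theorem L637479 : sm gh N42105 = N30846 := trfs L637450 (flp_h L380677) rfl
theorem L637484 : sm gd N42400 = N29152 := trfs L637149 L359219 rfl
theorem L637486 : sm gf N42400 = N29156 := trfs L637149 L359221 rfl
theorem L637488 : sm gg N42400 = N30958 := trfs L637149 L359223 rfl
theorem L637491 : sm gc N21200 = N29156 := trfs L637144 L359253 rfl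
theorem L637499 : sm gd N42399 = N29142 := trfs L637125 (flp_d L359092) rfl
theorem L637501 : sm gf N42399 = N29144 := trfs L637125 L359096 rfl
theorem L637503 : sm gg N42399 = N30944 := trfs L637125 L359098 rfl
theorem L637525 : sm gb N42464 = N30872 := trfs L637118 (flp_b L380995) rfl
theorem L637528 : sm gj N42464 = N31031 := trfs L637118 L380998 rfl
theorem L637535 : sm gf N20039 = N29102 := trfs L637115 (flp_f L246717) rfl
theorem L637542 : sm gj N42430 = N31045 := trfs L637112 L381110 rfl
theorem L637545 : sm ga N29143 = N44457 := trfs L637102 L376147 rfl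
theorem L637546 : N44457 = N42429 := eqes L637545 (flp_a L358836)
theorem L637547 : N44457 = N42429 := eqc rfl L637546 rfl
theorem L637549 : sm gc N29143 = N44443 := trfs L637102 (flp_c L376051) rfl
theorem L637550 : N44443 = N42442 := eqes L637549 (flp_c L358951)
theorem L637551 : N44443 = N42442 := eqc rfl L637550 rfl
theorem L637552 : sm gd N29143 = N21309 := trfs L637102 L258612 rfl

end Cfsg.Agent.Helper28.FicA
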