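import Cfsg.Agent.Helper28.FicB32

/-! # The Fi₂₃ presentation, cosets of the subgroup generated by a, …, i: the coset enumeration, part 33 (helper28; generated) -/

set_option autoImplicit false

noncomputable section

namespace Cfsg.Agent.Helper28.FicA

open Cfsg.Agent.Helper28.CosetTable

theorem L637564 : sm gb N42442 = N30478 := trfs L637551 (flp_b L376049) rfl
theorem L637567 : sm gd N42429 = N31045 := trfs L637547 L376149 rfl
theorem L637577 : sm gj N14641 = N20039 := trfs L637099 L247170 rfl
theorem L637599 : sm gb N42714 = N31029 := trfs L637075 (flp_b L382948) rfl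
theorem L637602 : sm gg N42714 = N31031 := trfs L637075 L382951 rfl
theorem L637607 : sm gg N42665 = N31045 := trfs L637071 L383094 rfl
theorem L637617 : sm gd N42727 = N31024 := trfs L637001 (flp_d L382891) rfl
theorem L637619 : sm gj N42727 = N31025 := trfs L637001 L382897 rfl
theorem L637625 : sm gd N42736 = N31028 := trfs L636966 L382943 rfl
theorem L637628 : sm gj N42736 = N31030 := trfs L636966 L382946 rfl
theorem L637631 : sm gc N29325 = N21308 := trfs L636958 L263296 rfl
theorem L637637 : sm gh N29325 = N45286 := trfs L636958 L383105 rfl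
theorem L637638 : N45286 = N42734 := eqes L637637 L361356
theorem L637639 : N45286 = N42734 := eqc rfl L637638 rfl
theorem L637642 : sm gc N42734 = N31044 := trfs L637639 L383108 rfl
theorem L637645 : sm gg N42734 = N31047 := trfs L637639 L383111 rfl
theorem L637653 : sm gc N21303 = N29319 := trfs L636945 (flp_c L361273) rfl
theorem L637655 : sm gj N21303 = N29321 := trfs L636945 L361278 rfl
theorem L637659 : sm gc N20153 = N14639 := trfs L636941 (flp_c L181163) rfl
theorem L637662 : sm gg N20153 = N14641 := trfs L636941 L181167 rfl
theorem L637666 : sm gj N21296 = N29326 := trfs L636938 L361345 rfl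
theorem L637670 : sm gd N20155 = N14638 := trfs L636915 (flp_d L181147) rfl
theorem L637673 : sm gj N20155 = N14639 := trfs L636915 L181150 rfl
theorem L637676 : sm gd N21295 = N29326 := trfs L636910 L355871 rfl
theorem L637678 : sm gg N21295 = N28905 := trfs L636910 L355873 rfl
theorem L637681 : sm ge N21192 = N28905 := trfs L636888 L351413 rfl
theorem L637711 : sm ge N10703 = N28491 := trfs L636737 L350397 rfl
theorem L637712 : N28491 = N7378 := eqes L637711 (flp_e L91477)
theorem L637713 : N28491 = N7378 := eqc rfl L637712 rfl
theorem L637722 : sm gf N7378 = N19597 := trfs L637713 L241242 rfl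
theorem L637723 : N19597 = N5094 := eqes L637722 (flp_f L63295)
theorem L637724 : N19597 = N5094 := eqc rfl L637723 rfl
theorem L637731 : sm gh N7378 = N19596 := trfs L637713 (flp_h L241237) rfl
theorem L637732 : N19596 = N10705 := eqes L637731 L91489
theorem L637733 : N19596 = N10705 := eqc rfl L637732 rfl
theorem L637753 : sm gj N10705 = N28471 := trfs L637733 (flp_j L241067) rfl
theorem L637754 : N28471 = N7821 := eqes L637753 L625309
theorem L637755 : N28471 = N7821 := eqc rfl L637754 rfl
theorem L637760 : sm gd N7821 = N19585 := trfs L637755 L241065 rfl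
theorem L637761 : N19585 = N11349 := eqes L637760 (flp_d L97132)
theorem L637762 : N19585 = N11349 := eqc rfl L637761 rfl
theorem L637774 : sm ga N11349 = N13487 := trfs L637762 L166254 rfl
theorem L637775 : N13487 = N16471 := eqes L637774 (flp_a L140460)
theorem L637776 : N16471 = N13487 := (eqc rfl L637775 rfl).symm
theorem L637789 : sm ga N13487 = N11349 := trfs L637776 L140460 rfl
theorem L637799 : sm gg N13487 = N11333 := trfs L637776 (flp_g L140458) rfl
theorem L637800 : N11333 = N19589 := eqes L637799 L166290
theorem L637801 : N19589 = N11333 := (eqc rfl L637800 rfl).symm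
theorem L637813 : sm gg N11333 = N13487 := trfs L637801 (flp_g L166290) rfl
theorem L637816 : sm gh N11333 = N13579 := trfs L637801 L166297 rfl
theorem L637817 : N13579 = N16472 := eqes L637816 L140466
theorem L637818 : N16472 = N13579 := (eqc rfl L637817 rfl).symm
theorem L637831 : sm gh N13579 = N11333 := trfs L637818 (flp_h L140466) rfl
theorem L638085 : sm gd N5094 = N13598 := trfs L637724 L166368 rfl
theorem L638086 : N13598 = N6787 := eqes L638085 (flp_d L58250)
theorem L638087 : N13598 = N6787 := eqc rfl L638086 rfl
theorem L638096 : sm ge N6787 = N9837 := trfs L638087 L115799 rfl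
theorem L638097 : N9837 = N9381 := eqes L638096 (flp_e L80153)
theorem L638098 : N9837 = N9381 := eqc rfl L638097 rfl
theorem L638101 : sm gj N6787 = N19719 := trfs L638087 (flp_j L167459) rfl
theorem L638102 : N19719 = N9803 := eqes L638101 (flp_j L83821)
theorem L638103 : N19719 = N9803 := eqc rfl L638102 rfl
theorem L638104 : sm gh N6787 = N9379 := trfs L638087 (flp_h L115794) rfl
theorem L638105 : N9379 = N9840 := eqes L638104 L84130
theorem L638106 : N9840 = N9379 := (eqc rfl L638105 rfl).symm
theorem L638107 : sm gi N6787 = N19755 := trfs L638087 L167762 rfl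
theorem L638108 : N19755 = N9826 := eqes L638107 (flp_i L84022)
theorem L638109 : N19755 = N9826 := eqc rfl L638108 rfl
theorem L638119 : sm gj N9826 = N28676 := trfs L638109 (flp_j L242896) rfl
theorem L638120 : N28676 = N14218 := eqes L638119 (flp_j L121187)
theorem L638121 : N28676 = N14218 := eqc rfl L638120 rfl
theorem L638138 : sm gc N14218 = N41760 := trfs L638121 (flp_c L352827) rfl
theorem L638139 : N41760 = N9795 := eqes L638138 (flp_c L121185)
theorem L638140 : N41760 = N9795 := eqc rfl L638139 rfl
theorem L638152 : sm gi N9795 = N28672 := trfs L638140 (flp_i L352823) rfl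
theorem L638153 : N28672 = N6764 := eqes L638152 L83749
theorem L638154 : N28672 = N6764 := eqc rfl L638153 rfl
theorem L638167 : sm gh N6764 = N19717 := trfs L638154 (flp_h L242852) rfl
theorem L638168 : N19717 = N9805 := eqes L638167 L83834
theorem L638169 : N19717 = N9805 := eqc rfl L638168 rfl
theorem L638173 : sm gc N9805 = N13574 := trfs L638169 (flp_c L167434) rfl
theorem L638174 : N13574 = N14232 := eqes L638173 (flp_c L121312)
theorem L638175 : N14232 = N13574 := (eqc rfl L638174 rfl).symm
theorem L638199 : sm gc N13574 = N9805 := trfs L638175 L121312 rfl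
theorem L638254 : sm gh N9379 = N6787 := trfs L638106 (flp_h L84130) rfl
theorem L638359 : sm gh N9803 = N13574 := trfs L638103 (flp_h L167452) rfl
theorem L638369 : sm gh N9381 = N6785 := trfs L638098 (flp_h L84105) rfl
theorem L638375 : sm gb N11336 = N13498 := trfs L636724 L166396 rfl
theorem L638376 : N13498 = N14312 := eqes L638375 L593597
theorem L638377 : N14312 = N13498 := (eqc rfl L638376 rfl).symm
theorem L638387 : sm gb N13498 = N11336 := trfs L638377 (flp_b L593597) rfl
theorem L638389 : sm gc N13498 = N9857 := trfs L638377 L121969 rfl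
theorem L638390 : N9857 = N19572 := eqes L638389 (flp_c L166134)
theorem L638391 : N19572 = N9857 := (eqc rfl L638390 rfl).symm
theorem L638406 : sm gc N9857 = N13498 := trfs L638391 L166134 rfl
theorem L638409 : sm ge N9857 = N13476 := trfs L638391 (flp_e L166131) rfl
theorem L638410 : N13476 = N14215 := eqes L638409 (flp_e L121156)
theorem L638411 : N14215 = N13476 := (eqc rfl L638410 rfl).symm
theorem L638419 : sm gh N9857 = N28455 := trfs L638391 L240913 rfl
theorem L638420 : N28455 = N6807 := eqes L638419 L84276
theorem L638421 : N28455 = N6807 := eqc rfl L638420 rfl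
theorem L638424 : sm gb N6807 = N41428 := trfs L638421 (flp_b L349865) rfl
theorem L638425 : N41428 = N5117 := eqes L638424 L58423
theorem L638426 : N41428 = N5117 := eqc rfl L638425 rfl
theorem L638454 : sm ge N5117 = N28451 := trfs L638426 L349867 rfl
theorem L638455 : N28451 = N7328 := eqes L638454 (flp_e L62859)
theorem L638456 : N28451 = N7328 := eqc rfl L638455 rfl
theorem L638476 : sm gh N7328 = N19569 := trfs L638456 (flp_h L240880) rfl
theorem L638477 : N19569 = N10616 := eqes L638476 (flp_h L90718)
theorem L638478 : N19569 = N10616 := eqc rfl L638477 rfl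
theorem L638479 : sm gi N7328 = N41431 := trfs L638456 L349886 rfl
theorem L638480 : N41431 = N5069 := eqes L638479 L62861
theorem L638481 : N41431 = N5069 := eqc rfl L638480 rfl
theorem L638484 : sm gf N5069 = N28452 := trfs L638481 L349891 rfl
theorem L638485 : N28452 = N3824 := eqes L638484 L627192
theorem L638486 : N28452 = N3824 := eqc rfl L638485 rfl
theorem L638498 : sm gj N3824 = N41407 := trfs L638486 (flp_j L349684) rfl
theorem L638499 : N41407 = N5047 := eqes L638498 L627172
theorem L638500 : N41407 = N5047 := eqc rfl L638499 rfl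
theorem L638509 : sm gi N5047 = N28436 := trfs L638500 (flp_i L349678) rfl
theorem L638510 : N28436 = N7299 := eqes L638509 (flp_i L62578)
theorem L638511 : N28436 = N7299 := eqc rfl L638510 rfl
theorem L638515 : sm gb N7299 = N19563 := trfs L638511 L240753 rfl
theorem L638516 : N19563 = N9778 := eqes L638515 (flp_b L83578)
theorem L638517 : N19563 = N9778 := eqc rfl L638516 rfl
theorem L638528 : sm gh N7299 = N19560 := trfs L638511 (flp_h L240751) rfl
theorem L638529 : N19560 = N10575 := eqes L638528 (flp_h L90325)
theorem L638530 : N19560 = N10575 := eqc rfl L638529 rfl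
theorem L638534 : sm gb N10575 = N13470 := trfs L638530 L166029 rfl
theorem L638535 : N13470 = N14185 := eqes L638534 (flp_b L120874)
theorem L638536 : N14185 = N13470 := (eqc rfl L638535 rfl).symm
theorem L638540 : sm gd N10575 = N13469 := trfs L638530 (flp_d L166027) rfl
theorem L638541 : N13469 = N15355 := eqes L638540 (flp_d L130749)
theorem L638542 : N15355 = N13469 := (eqc rfl L638541 rfl).symm
theorem L638550 : sm gj N10575 = N13474 := trfs L638530 L166031 rfl
theorem L638551 : N13474 = N7993 := eqes L638550 L627116
theorem L638552 : N13474 = N7993 := eqc rfl L638551 rfl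
theorem L638557 : sm gb N7993 = N9300 := trfs L638552 L114682 rfl
theorem L638558 : N9300 = N11587 := eqes L638557 (flp_b L99121)
theorem L638559 : N11587 = N9300 := (eqc rfl L638558 rfl).symm
theorem L638561 : sm gd N7993 = N9299 := trfs L638552 (flp_d L114680) rfl
theorem L638562 : N9299 = N11588 := eqes L638561 L99126
theorem L638563 : N11588 = N9299 := (eqc rfl L638562 rfl).symm
theorem L638569 : sm ga N9299 = N8195 := trfs L638563 (flp_a L541127) rfl
theorem L638570 : N8195 = N13473 := eqes L638569 (flp_a L114673)
theorem L638571 : N13473 = N8195 := (eqc rfl L638570 rfl).symm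
theorem L638576 : sm gd N9299 = N7993 := trfs L638563 (flp_d L99126) rfl
theorem L638581 : sm gf N9299 = N15413 := trfs L638563 (flp_f L619033) rfl
theorem L638582 : N15413 = N13475 := eqes L638581 L114687
theorem L638583 : N15413 = N13475 := eqc rfl L638582 rfl
theorem L638588 : sm ga N13475 = N11720 := trfs L638583 L131301 rfl
theorem L638589 : N11720 = N19567 := eqes L638588 (flp_a L166093)
theorem L638590 : N19567 = N11720 := (eqc rfl L638589 rfl).symm
theorem L638596 : sm gg N13475 = N10667 := trfs L638583 L131308 rfl
theorem L638597 : N10667 = N19571 := eqes L638596 L166122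
theorem L638598 : N19571 = N10667 := (eqc rfl L638597 rfl).symm
theorem L638599 : sm gj N13475 = N10609 := trfs L638583 (flp_j L131299) rfl
theorem L638600 : N10609 = N19561 := eqes L638599 (flp_j L166040)
theorem L638601 : N19561 = N10609 := (eqc rfl L638600 rfl).symm
theorem L638614 : sm gg N10609 = N28437 := trfs L638601 L240759 rfl
theorem L638615 : N28437 = N7316 := eqes L638614 (flp_g L90646)
theorem L638616 : N28437 = N7316 := eqc rfl L638615 rfl
theorem L638617 : sm gj N10609 = N13475 := trfs L638601 L166040 rfl
theorem L638630 : sm gf N7316 = N41392 := trfs L638616 (flp_f L349547) rfl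
theorem L638631 : N41392 = N5054 := eqes L638630 (flp_f L62736)
theorem L638632 : N41392 = N5054 := eqc rfl L638631 rfl
theorem L638897 : sm gg N5054 = N28427 := trfs L638632 (flp_g L349540) rfl
theorem L638898 : N28427 = N7291 := eqes L638897 (flp_g L62494)
theorem L638899 : N28427 = N7291 := eqc rfl L638898 rfl
theorem L638905 : sm gb N7291 = N19557 := trfs L638899 L240668 rfl
theorem L638906 : N19557 = N9770 := eqes L638905 (flp_b L83493)
theorem L638907 : N19557 = N9770 := eqc rfl L638906 rfl
theorem L638915 : sm gf N7291 = N19555 := trfs L638899 (flp_f L240666) rfl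
theorem L638916 : N19555 = N10570 := eqes L638915 L90271
theorem L638917 : N19555 = N10570 := eqc rfl L638916 rfl
theorem L638924 : sm gb N10570 = N13466 := trfs L638917 L165981 rfl
theorem L638925 : N13466 = N14180 := eqes L638924 (flp_b L120821)
theorem L638926 : N14180 = N13466 := (eqc rfl L638925 rfl).symm
theorem L638929 : sm ge N10570 = N13465 := trfs L638917 (flp_e L165979) rfl
theorem L638930 : N13465 = N15350 := eqes L638929 (flp_e L130706)
theorem L638931 : N15350 = N13465 := (eqc rfl L638930 rfl).symm
theorem L638937 : sm ga N13465 = N11642 := trfs L638931 L130700 rfl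
theorem L638938 : N11642 = N19554 := eqes L638937 L165969
theorem L638939 : N19554 = N11642 := (eqc rfl L638938 rfl).symm
theorem L638945 : sm ge N13465 = N10570 := trfs L638931 L130706 rfl
theorem L638947 : sm gf N13465 = N10567 := trfs L638931 (flp_f L130698) rfl
theorem L638948 : N10567 = N19551 := eqes L638947 (flp_f L165943)
theorem L638949 : N19551 = N10567 := (eqc rfl L638948 rfl).symm
theorem L638950 : sm gg N13465 = N22329 := trfs L638931 L189630 rfl
theorem L638951 : N22329 = N9295 := eqes L638950 L114599
theorem L638952 : N22329 = N9295 := eqc rfl L638951 rfl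
theorem L638956 : sm ga N9295 = N16909 := trfs L638952 L189632 rfl
theorem L638957 : N16909 = N13468 := eqes L638956 L114624
theorem L638958 : N16909 = N13468 := eqc rfl L638957 rfl
theorem L638959 : sm gb N9295 = N30005 := trfs L638952 (flp_b L254376) rfl
theorem L638960 : N30005 = N6425 := eqes L638959 (flp_b L79366)
theorem L638961 : N30005 = N6425 := eqc rfl L638960 rfl
theorem L638970 : sm gc N6425 = N43733 := trfs L638961 (flp_c L369829) rfl
theorem L638971 : N43733 = N4454 := eqes L638970 (flp_c L55058)
theorem L638972 : N43733 = N4454 := eqc rfl L638971 rfl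
theorem L639013 : sm gg N4454 = N30004 := trfs L638972 (flp_g L369826) rfl
theorem L639014 : N30004 = N6424 := eqes L639013 (flp_g L55053)
theorem L639015 : N30004 = N6424 := eqc rfl L639014 rfl
theorem L639027 : sm gf N6424 = N20613 := trfs L639015 (flp_f L254363) rfl
theorem L639028 : N20613 = N9292 := eqes L639027 (flp_f L79340)
theorem L639029 : N20613 = N9292 := eqc rfl L639028 rfl
theorem L639035 : sm gc N9292 = N14177 := trfs L639029 L175173 rfl
theorem L639036 : N14177 = N13463 := eqes L639035 L114577
theorem L639037 : N14177 = N13463 := eqc rfl L639036 rfl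
theorem L639041 : sm ge N9292 = N14176 := trfs L639029 (flp_e L175170) rfl
theorem L639042 : N14176 = N13464 := eqes L639041 L114587
theorem L639043 : N14176 = N13464 := eqc rfl L639042 rfl
theorem L639050 : sm gc N13464 = N9768 := trfs L639043 (flp_c L120778) rfl
theorem L639051 : N9768 = N19552 := eqes L639050 (flp_c L165953)
theorem L639052 : N19552 = N9768 := (eqc rfl L639051 rfl).symm
theorem L639054 : sm gf N13464 = N9769 := trfs L639043 L120781 rfl
theorem L639055 : N9769 = N19553 := eqes L639054 L165959
theorem L639056 : N19553 = N9769 := (eqc rfl L639055 rfl).symm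
theorem L639067 : sm ge N9769 = N13467 := trfs L639056 L165967 rfl
theorem L639068 : N13467 = N14179 := eqes L639067 L120808
theorem L639069 : N14179 = N13467 := (eqc rfl L639068 rfl).symm
theorem L639070 : sm gf N9769 = N13464 := trfs L639056 (flp_f L165959) rfl
theorem L639100 : sm ge N13467 = N9769 := trfs L639069 (flp_e L120808) rfl
theorem L639181 : sm gc N9768 = N13464 := trfs L639052 L165953 rfl
theorem L639210 : sm ge N13463 = N9768 := trfs L639037 (flp_e L120788) rfl
theorem L639232 : sm ge N13468 = N11647 := trfs L638958 L144161 rfl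
theorem L639233 : N11647 = N19559 := eqes L639232 L166017
theorem L639234 : N19559 = N11647 := (eqc rfl L639233 rfl).symm
theorem L639258 : sm ge N11647 = N13468 := trfs L639234 (flp_e L166017) rfl
theorem L639265 : sm gb N10567 = N13463 := trfs L638949 (flp_b L165940) rfl
theorem L639269 : sm gf N10567 = N13465 := trfs L638949 L165943 rfl
theorem L639281 : sm ga N11642 = N13465 := trfs L638939 (flp_a L165969) rfl
theorem L639287 : sm gg N11642 = N13468 := trfs L638939 L165973 rfl
theorem L639293 : sm gb N13466 = N10570 := trfs L638926 L120821 rfl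
theorem L639295 : sm gd N13466 = N9773 := trfs L638926 L120823 rfl
theorem L639296 : N9773 = N19556 := eqes L639295 L165989
theorem L639297 : N19556 = N9773 := (eqc rfl L639296 rfl).symm
theorem L639307 : sm gd N9773 = N13466 := trfs L639297 (flp_d L165989) rfl
theorem L639413 : sm gc N9770 = N13467 := trfs L638907 L166002 rfl
theorem L639415 : sm gf N9770 = N13466 := trfs L638907 (flp_f L165999) rfl
theorem L639452 : sm gg N10667 = N13475 := trfs L638598 (flp_g L166122) rfl
theorem L639456 : sm ga N11720 = N13475 := trfs L638590 L166093 rfl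
theorem L639477 : sm ga N8195 = N9299 := trfs L638571 L114673 rfl
theorem L639482 : sm ge N8195 = N9298 := trfs L638571 (flp_e L114671) rfl
theorem L639488 : sm gb N9300 = N7993 := trfs L638559 L99121 rfl
theorem L639497 : sm gh N9300 = N7992 := trfs L638559 (flp_h L99119) rfl
theorem L639498 : N7992 = N13477 := eqes L639497 L114703
theorem L639499 : N13477 = N7992 := (eqc rfl L639498 rfl).symm
theorem L639510 : sm gh N7992 = N9300 := trfs L639499 (flp_h L114703) rfl
theorem L639553 : sm ga N13469 = N11647 := trfs L638542 L130747 rfl
theorem L639556 : sm gd N13469 = N10575 := trfs L638542 L130749 rfl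
theorem L639558 : sm gf N13469 = N10609 := trfs L638542 L130753 rfl
theorem L639560 : sm gg N13469 = N10570 := trfs L638542 (flp_g L130745) rfl
theorem L639572 : sm gb N13470 = N10575 := trfs L638536 L120874 rfl
theorem L639578 : sm gg N13470 = N9773 := trfs L638536 (flp_g L120871) rfl
theorem L639599 : sm gh N9778 = N13470 := trfs L638517 (flp_h L166055) rfl
theorem L639635 : sm gd N10616 = N13475 := trfs L638478 L166112 rfl
theorem L639674 : sm gb N13476 = N10616 := trfs L638411 L121154 rfl
theorem L639678 : sm ge N13476 = N9857 := trfs L638411 L121156 rfl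
theorem L639680 : sm gg N13476 = N9823 := trfs L638411 L121161 rfl
theorem L639808 : sm ga N13495 = N10705 := trfs L636668 L132483 rfl
theorem L639811 : sm gc N13495 = N10700 := trfs L636668 L132485 rfl
theorem L639814 : sm ge N13495 = N11336 := trfs L636668 (flp_e L621736) rfl
theorem L639817 : sm gg N13495 = N11394 := trfs L636668 (flp_g L609486) rfl
theorem L639958 : sm ga N13578 = N9803 := trfs L636564 L121267 rfl
theorem L639963 : sm gd N13578 = N10628 := trfs L636564 L121271 rfl
theorem L639992 : sm ga N9312 = N7379 := trfs L636549 L91425 rfl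
theorem L639994 : sm gc N9312 = N7376 := trfs L636549 L91427 rfl
theorem L639998 : sm gh N9312 = N7374 := trfs L636549 (flp_h L91423) rfl
theorem L640001 : sm gc N10630 = N13486 := trfs L636540 (flp_c L166265) rfl
theorem L640007 : sm ga N10633 = N13486 := trfs L636536 L166245 rfl
theorem L640198 : sm gf N24324 = N28629 := trfs L636444 (flp_f L352184) rfl
theorem L640222 : sm gf N19692 = N14199 := trfs L636317 L167284 rfl
theorem L640246 : sm gb N28776 = N44301 := trfs L636215 (flp_b L374828) rfl
theorem L640247 : N44301 = N41904 := eqes L640246 (flp_b L354092)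
theorem L640248 : N44301 = N41904 := eqc rfl L640247 rfl
theorem L640254 : sm gf N28776 = N20873 := trfs L636215 L257774 rfl
theorem L640257 : sm gj N28776 = N44311 := trfs L636215 (flp_j L374908) rfl
theorem L640258 : N44311 = N41911 := eqes L640257 (flp_j L354168)
theorem L640259 : N44311 = N41911 := eqc rfl L640258 rfl
theorem L640262 : sm gd N41911 = N30284 := trfs L640259 (flp_d L374903) L634818
theorem L640264 : N41911 = N44070 := eqes (flp_d L640262) (flp_d L372779)
theorem L640265 : N44070 = N41911 := (eqc rfl L640264 rfl).symm
theorem L640266 : sm gf N41911 = N30394 := trfs L640259 L374906 rfl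
theorem L640269 : sm gd N41911 = N30284 := trfs L640265 L372779 rfl
theorem L640272 : sm gi N41911 = N30491 := trfs L640265 L372781 rfl
theorem L640277 : sm gd N41904 = N30383 := trfs L640248 (flp_d L374826) rfl
theorem L640279 : sm gf N41904 = N30385 := trfs L640248 L374830 rfl
theorem L640282 : sm gc N29098 = N20873 := trfs L636211 (flp_c L257803) rfl
theorem L640284 : sm gd N29098 = N21252 := trfs L636211 L257809 rfl
theorem L640289 : sm gj N29098 = N44316 := trfs L636211 (flp_j L374945) rfl
theorem L640290 : N44316 = N42392 := eqes L640289 (flp_j L358502)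
theorem L640291 : N44316 = N42392 := eqc rfl L640290 rfl
theorem L640292 : sm gi N29098 = N44319 := trfs L636211 L374966 rfl
theorem L640293 : N44319 = N42394 := eqes L640292 L358512
theorem L640294 : N44319 = N42394 := eqc rfl L640293 rfl
theorem L640296 : sm gc N42394 = N30397 := trfs L640294 L374969 rfl
theorem L640298 : sm gd N42394 = N30962 := trfs L640294 L374971 rfl
theorem L640304 : sm gc N42392 = N30394 := trfs L640291 (flp_c L374939) rfl
theorem L640306 : sm gd N42392 = N30959 := trfs L640291 L374947 rfl
theorem L640309 : sm gg N42392 = N30565 := trfs L640291 L374943 rfl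
theorem L640313 : sm gh N41915 = N30397 := trfs L636182 (flp_h L374976) rfl
theorem L640321 : sm gd N41913 = N30393 := trfs L636175 L374935 rfl
theorem L640323 : sm gf N41913 = N30397 := trfs L636175 L374937 rfl
theorem L640326 : sm gj N44302 = N30558 := trfs L636171 L374891 rfl
theorem L640328 : sm gh N44302 = N30388 := trfs L636171 (flp_h L374886) rfl
theorem L640331 : sm gf N20866 = N30333 := trfs L636103 L374140 rfl
theorem L640332 : N30333 = N28805 := eqes L640331 (flp_f L244048)
theorem L640333 : N30333 = N28805 := eqc rfl L640332 rfl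
theorem L640339 : sm ge N28805 = N20833 := trfs L640333 L257244 rfl
theorem L640340 : N20833 = N41540 := eqes L640339 (flp_e L350855)
theorem L640341 : N41540 = N20833 := (eqc rfl L640340 rfl).symm
theorem L640347 : sm gi N28805 = N44228 := trfs L640333 L374158 rfl
theorem L640348 : N44228 = N41959 := eqes L640347 L354607
theorem L640349 : N44228 = N41959 := eqc rfl L640348 rfl
theorem L640351 : sm ge N41959 = N30337 := trfs L640349 L374162 rfl
theorem L640353 : sm gg N41959 = N30335 := trfs L640349 L374164 rfl
theorem L640355 : sm gh N41959 = N30386 := trfs L640349 L374166 rfl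
theorem L640359 : sm ge N20833 = N28805 := trfs L640341 L350855 rfl
theorem L640364 : sm gd N41902 = N30140 := trfs L636099 (flp_d L371687) rfl
theorem L640367 : sm gg N41902 = N30141 := trfs L636099 L371691 rfl
theorem L640369 : sm gh N41902 = N30385 := trfs L636099 L371694 rfl
theorem L640373 : sm gf N20830 = N30141 := trfs L636096 L352983 rfl
theorem L640377 : sm gh N20830 = N28805 := trfs L636096 L352987 rfl
theorem L640383 : sm gf N20709 = N14324 := trfs L636089 (flp_f L177119) rfl
theorem L640385 : sm gg N20709 = N28774 := trfs L636089 (flp_g L243756) rfl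
theorem L640388 : sm gi N20709 = N14347 := trfs L636089 L177124 rfl
theorem L640390 : sm gc N42037 = N30269 := trfs L636067 (flp_c L373273) rfl
theorem L640393 : sm gh N42037 = N30554 := trfs L636067 L373278 rfl
theorem L640399 : sm gh N42027 = N30556 := trfs L636058 L373292 rfl
theorem L640401 : sm ga N41958 = N30368 := trfs L636037 (flp_a L621641) rfl
theorem L640403 : sm gb N41958 = N30856 := trfs L636037 L374023 rfl
theorem L640405 : sm ge N41958 = N30326 := trfs L636037 L374027 rfl
theorem L640407 : sm gg N41958 = N30324 := trfs L636037 L374029 rfl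
theorem L640409 : sm gh N41958 = N30323 := trfs L636037 (flp_h L374021) rfl
theorem L640411 : sm ga N20980 = N28875 := trfs L636034 L355350 rfl
theorem L640412 : N28875 = N30522 := eqes L640411 (flp_a L258893)
theorem L640413 : N30522 = N28875 := (eqc rfl L640412 rfl).symm
theorem L640415 : sm gh N20980 = N28858 := trfs L636034 (flp_h L355348) rfl
theorem L640417 : sm ga N28875 = N20980 := trfs L640413 L258893 rfl
theorem L640424 : sm gd N28875 = N44489 := trfs L640413 (flp_d L376427) rfl
theorem L640425 : N44489 = N42063 := eqes L640424 L355556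
theorem L640426 : N44489 = N42063 := eqc rfl L640425 rfl
theorem L640429 : sm gg N28875 = N44508 := trfs L640413 (flp_g L376590) rfl
theorem L640430 : N44508 = N42062 := eqes L640429 (flp_g L355554)
theorem L640431 : N44508 = N42062 := eqc rfl L640430 rfl
theorem L640432 : sm gj N28875 = N44273 := trfs L640413 (flp_j L374577) rfl
theorem L640433 : N44273 = N41939 := eqes L640432 (flp_j L354437)
theorem L640434 : N44273 = N41939 := eqc rfl L640433 rfl
theorem L640436 : sm gi N28875 = N44511 := trfs L640413 L376606 rfl
theorem L640437 : N44511 = N42064 := eqes L640436 L355564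
theorem L640438 : N44511 = N42064 := eqc rfl L640437 rfl
theorem L640439 : sm ga N42064 = N30557 := trfs L640438 L376608 rfl
theorem L640441 : sm gc N42064 = N30523 := trfs L640438 L376610 rfl
theorem L640444 : sm ga N41939 = N30387 := trfs L640434 L374574 rfl
theorem L640446 : sm gc N41939 = N30363 := trfs L640434 (flp_c L374572) rfl
theorem L640447 : N30363 = N31881 := eqes L640446 L611539
theorem L640448 : N31881 = N30363 := (eqc rfl L640447 rfl).symm
theorem L640451 : sm gc N30363 = N41939 := trfs L640448 (flp_c L611539) rfl
theorem L640458 : sm ga N42062 = N30554 := trfs L640431 L376587 rfl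
theorem L640460 : sm gc N42062 = N30520 := trfs L640431 (flp_c L376585) rfl
theorem L640463 : sm ga N42063 = N30535 := trfs L640426 L376425 rfl
theorem L640465 : sm gc N42063 = N30507 := trfs L640426 (flp_c L376423) rfl
theorem L640471 : sm ge N22933 = N28894 := trfs L636031 L351320 rfl
theorem L640474 : sm ga N42070 = N30528 := trfs L636028 L376367 rfl
theorem L640476 : sm gh N42070 = N30507 := trfs L636028 L376369 rfl
theorem L640478 : sm ga N42091 = N31050 := trfs L636024 L376182 rfl
theorem L640480 : sm ge N42091 = N30859 := trfs L636024 L617595 rfl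
theorem L640482 : sm gg N42091 = N31007 := trfs L636024 L617597 rfl
theorem L640484 : sm gj N42091 = N30856 := trfs L636024 L617599 rfl
theorem L640486 : sm gh N42091 = N30492 := trfs L636024 (flp_h L376180) rfl
theorem L640494 : sm gg N14393 = N19648 := trfs L635962 L241905 rfl
theorem L640551 : sm gf N13539 = N10373 := trfs L635890 L128433 rfl
theorem L640603 : sm gc N13521 = N10373 := trfs L635883 L128325 rfl
theorem L640605 : sm ge N13521 = N10366 := trfs L635883 L128327 rfl
theorem L640617 : sm ge N10331 = N13518 := trfs L635870 (flp_e L166702) rfl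
theorem L640660 : sm gj N10364 = N13521 := trfs L635770 (flp_j L166756) rfl
theorem L640666 : sm gd N13537 = N10381 := trfs L635578 L128501 rfl
theorem L640674 : sm ga N13545 = N10381 := trfs L635573 L128313 rfl
theorem L640681 : sm gf N13545 = N10364 := trfs L635573 (flp_f L128311) rfl
theorem L640725 : sm ge N28991 = N22098 := trfs L635494 (flp_e L272808) rfl
theorem L640727 : sm gj N28991 = N22101 := trfs L635494 L272811 rfl
theorem L640731 : sm gb N28618 = N22060 := trfs L635473 L549358 rfl
theorem L640733 : sm gc N28618 = N44655 := trfs L635473 L377792 rfl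
theorem L640734 : N44655 = N41677 := eqes L640733 L352041
theorem L640735 : N44655 = N41677 := eqc rfl L640734 rfl
theorem L640744 : sm gi N28618 = N44656 := trfs L635473 L377802 rfl
theorem L640745 : N44656 = N41679 := eqes L640744 L352056
theorem L640746 : N44656 = N41679 := eqc rfl L640745 rfl
theorem L640749 : sm ge N41679 = N30702 := trfs L640746 L377807 rfl
theorem L640752 : sm gj N41679 = N30624 := trfs L640746 L377810 rfl
theorem L640756 : sm ge N41677 = N30701 := trfs L640735 L377795 rfl
theorem L640759 : sm gj N41677 = N30623 := trfs L640735 L377798 rfl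
theorem L640837 : sm gb N10422 = N13549 := trfs L635330 L167032 rfl
theorem L640841 : sm ge N10422 = N13545 := trfs L635330 L167035 rfl
theorem L640879 : sm gf N13543 = N10423 := trfs L635313 L129016 rfl
theorem L640881 : sm gj N13543 = N10422 := trfs L635313 (flp_j L129009) rfl
theorem L640895 : sm gf N19675 = N15153 := trfs L635296 L187325 rfl
theorem L640897 : sm gj N19675 = N15152 := trfs L635296 L187327 rfl
theorem L640901 : sm gf N21026 = N28621 := trfs L635279 L352036 rfl
theorem L640911 : sm gb N22059 = N28621 := trfs L635272 L351964 rfl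
theorem L640916 : sm gj N22059 = N28612 := trfs L635272 L351969 rfl
theorem L640922 : sm gf N21025 = N28620 := trfs L635253 L352027 rfl
theorem L640924 : sm gj N21025 = N28618 := trfs L635253 L352029 rfl
theorem L640928 : sm gb N19682 = N15152 := trfs L635250 L549416 rfl
theorem L640931 : sm gf N19682 = N14451 := trfs L635250 L178738 rfl
theorem L640936 : sm gf N41680 = N30623 := trfs L635247 L377772 rfl
theorem L640940 : sm gb N22058 = N28620 := trfs L635244 L351954 rfl
theorem L640942 : sm ge N22058 = N29023 := trfs L635244 L351959 rfl
theorem L640945 : sm gj N22058 = N28611 := trfs L635244 L351957 rfl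
theorem L640949 : sm ge N42294 = N30698 := trfs L635208 (flp_e L378795) rfl
theorem L640952 : sm ge N42279 = N30686 := trfs L635205 (flp_e L378677) rfl
theorem L640956 : sm ge N21078 = N28618 := trfs L635180 (flp_e L352049) rfl
theorem L640958 : sm gf N21078 = N29034 := trfs L635180 L352054 rfl
theorem L640965 : sm gd N42298 = N31275 := trfs L635172 L378771 rfl
theorem L640967 : sm gf N42298 = N30701 := trfs L635172 L378766 rfl
theorem L640969 : sm gj N42298 = N30698 := trfs L635172 L378768 rfl
theorem L640972 : sm gd N42282 = N30685 := trfs L635169 (flp_d L378653) rfl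
theorem L640974 : sm gf N42282 = N30688 := trfs L635169 L378657 rfl
theorem L640976 : sm gj N42282 = N30686 := trfs L635169 L378659 rfl
theorem L640979 : sm ge N42085 = N30685 := trfs L635085 L375999 rfl
theorem L640981 : sm gj N42085 = N30474 := trfs L635085 L376003 rfl
theorem L640983 : sm gh N42085 = N30473 := trfs L635085 (flp_h L375995) rfl
theorem L640991 : sm ge N21074 = N30276 := trfs L634944 (flp_e L373341) rfl
theorem L640994 : sm gh N21074 = N30563 := trfs L634944 L373344 rfl
theorem L641000 : sm gi N20794 = N30274 := trfs L634941 L372706 rfl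
theorem L641002 : sm ge N44129 = N30684 := trfs L634936 L375991 rfl
theorem L641004 : sm gg N44129 = N30473 := trfs L634936 (flp_g L375987) rfl
theorem L641006 : sm gi N44129 = N30548 := trfs L634936 L375993 rfl
theorem L641009 : sm gc N42605 = N30560 := trfs L634910 (flp_c L377014) rfl
theorem L641011 : sm gd N42605 = N31153 := trfs L634910 L377021 rfl
theorem L641013 : sm gf N42605 = N30565 := trfs L634910 L377017 rfl
theorem L641015 : sm gj N42605 = N30562 := trfs L634910 L377019 rfl
theorem L641018 : sm gc N21302 = N28899 := trfs L634907 (flp_c L355830) rfl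
theorem L641020 : sm gd N21302 = N29321 := trfs L634907 L355837 rfl
theorem L641022 : sm gg N21302 = N30562 := trfs L634907 L355835 rfl
theorem L641025 : sm gc N21460 = N30563 := trfs L634904 L377049 rfl
theorem L641027 : sm ge N21460 = N30562 := trfs L634904 (flp_e L377046) rfl
theorem L641033 : sm ge N44568 = N31259 := trfs L634895 L382887 rfl
theorem L641035 : sm gg N44568 = N31024 := trfs L634895 L382889 rfl
theorem L641037 : sm gh N44568 = N31023 := trfs L634895 (flp_h L382883) rfl
theorem L641048 : sm gc N14565 = N20709 := trfs L634863 (flp_c L255679) rfl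
theorem L641053 : sm gj N14565 = N20798 := trfs L634863 L255683 rfl
theorem L641059 : sm gb N30280 = N45021 := trfs L634860 (flp_b L380925) rfl
theorem L641060 : N45021 = N44146 := eqes L641059 L373372
theorem L641061 : N45021 = N44146 := eqc rfl L641060 rfl
theorem L641064 : sm gf N30280 = N21301 := trfs L634860 L261891 rfl
theorem L641066 : sm gj N30280 = N42391 := trfs L634860 (flp_j L358494) rfl
theorem L641067 : N42391 = N44144 := eqes L641066 (flp_j L373359)
theorem L641068 : N44144 = N42391 := (eqc rfl L641067 rfl).symm
theorem L641072 : sm gc N42391 = N30278 := trfs L641068 (flp_c L373355) rfl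
theorem L641076 : sm gj N42391 = N30280 := trfs L641068 L373359 rfl
theorem L641078 : sm gh N42391 = N30565 := trfs L641068 L373361 rfl
theorem L641082 : sm gf N44146 = N31023 := trfs L641061 L380931 rfl
theorem L641085 : sm gi N44146 = N30942 := trfs L641061 L380929 rfl
theorem L641091 : sm gf N14566 = N20798 := trfs L634857 L243536 rfl
theorem L641103 : sm ga N30282 = N42619 := trfs L634849 (flp_a L617635) rfl
theorem L641104 : N42619 = N44149 := eqes L641103 L373397
theorem L641105 : N44149 = N42619 := (eqc rfl L641104 rfl).symm
theorem L641106 : sm gc N30282 = N42027 := trfs L634849 (flp_c L617606) rfl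
theorem L641110 : sm gf N30282 = N21188 := trfs L634849 L261818 rfl
theorem L641112 : sm gj N30282 = N21187 := trfs L634849 (flp_j L261812) rfl
theorem L641116 : sm ga N42619 = N30282 := trfs L641105 (flp_a L373397) rfl
theorem L641121 : sm gh N42619 = N30570 := trfs L641105 L373401 rfl
theorem L641127 : sm gc N21246 = N30281 := trfs L634839 L373383 rfl
theorem L641131 : sm gi N21246 = N30280 := trfs L634839 (flp_i L373380) rfl
theorem L641137 : sm gc N20799 = N14600 := trfs L634831 L177439 rfl
theorem L641140 : sm gf N20799 = N14348 := trfs L634831 L177442 rfl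
theorem L641142 : sm gj N20799 = N14347 := trfs L634831 (flp_j L177436) rfl
theorem L641147 : sm gi N21238 = N30282 := trfs L634828 (flp_i L373404) rfl
theorem L641150 : sm gb N30284 = N44300 := trfs L634818 (flp_b L374819) rfl
theorem L641151 : N44300 = N44137 := eqes L641150 (flp_b L373303)
theorem L641152 : N44300 = N44137 := eqc rfl L641151 rfl
theorem L641153 : sm gc N30284 = N21247 := trfs L634818 L257764 rfl
theorem L641156 : sm gf N30284 = N20872 := trfs L634818 L257767 rfl
theorem L641158 : sm gj N30284 = N20871 := trfs L634818 L257769 rfl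
theorem L641162 : sm gf N44137 = N30384 := trfs L641152 L374822 rfl
theorem L641164 : sm gj N44137 = N30383 := trfs L641152 L374824 rfl
theorem L641169 : sm gj N21249 = N30572 := trfs L634810 L375005 rfl
theorem L641175 : sm gf N44578 = N31152 := trfs L634807 L382030 rfl
theorem L641177 : sm gi N44578 = N30953 := trfs L634807 (flp_i L382026) rfl
theorem L641180 : sm gf N44581 = N30960 := trfs L634801 L382056 rfl
theorem L641182 : sm gj N44581 = N30958 := trfs L634801 L382058 rfl
theorem L641184 : sm gi N44581 = N30954 := trfs L634801 (flp_i L382051) rfl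
theorem L641189 : sm gj N20993 = N30393 := trfs L634798 L374918 rfl
theorem L641192 : sm gf N44580 = N30947 := trfs L634795 L381918 rfl
theorem L641194 : sm gj N44580 = N30945 := trfs L634795 L381920 rfl
theorem L641196 : sm gi N44580 = N30943 := trfs L634795 (flp_i L381913) rfl
theorem L641199 : sm gb N28907 = N44304 := trfs L634786 (flp_b L374850) rfl
theorem L641200 : N44304 = N42093 := eqes L641199 (flp_b L355797)
theorem L641201 : N44304 = N42093 := eqc rfl L641200 rfl
theorem L641202 : sm gc N28907 = N21251 := trfs L634786 L257795 rfl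
theorem L641204 : sm gd N28907 = N44317 := trfs L634786 (flp_d L374952) rfl
theorem L641205 : N44317 = N42026 := eqes L641204 (flp_d L355242)
theorem L641206 : N44317 = N42026 := eqc rfl L641205 rfl
theorem L641207 : sm ge N28907 = N20877 := trfs L634786 L257797 rfl
theorem L641209 : sm gg N28907 = N20988 := trfs L634786 L257799 rfl
theorem L641210 : N20988 = N42104 := eqes L641209 (flp_g L355887)
theorem L641211 : N42104 = N20988 := (eqc rfl L641210 rfl).symm
theorem L641212 : sm gj N28907 = N20874 := trfs L634786 L257801 rfl
theorem L641215 : sm gi N28907 = N20872 := trfs L634786 (flp_i L257792) rfl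
theorem L641218 : sm gg N20988 = N28907 := trfs L641211 L355887 rfl
theorem L641224 : sm gg N42026 = N30566 := trfs L641206 L374955 rfl
theorem L641226 : sm gj N42026 = N30397 := trfs L641206 L374957 rfl
theorem L641228 : sm gi N42026 = N30394 := trfs L641206 (flp_i L374949) rfl
theorem L641230 : sm ge N42093 = N30389 := trfs L641201 L374852 rfl
theorem L641232 : sm gg N42093 = N30553 := trfs L641201 L374854 rfl
theorem L641234 : sm gj N42093 = N30386 := trfs L641201 L374856 rfl
theorem L641236 : sm gi N42093 = N30384 := trfs L641201 (flp_i L374848) rfl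
theorem L641241 : sm gd N21306 = N29327 := trfs L634776 L355880 rfl
theorem L641243 : sm gg N21306 = N28906 := trfs L634776 L355882 rfl
theorem L641249 : sm gc N21201 = N28570 := trfs L634770 L351419 rfl
theorem L641252 : sm ge N21201 = N28906 := trfs L634770 L351422 rfl
theorem L641262 : sm ge N42106 = N30874 := trfs L634761 L380972 rfl
theorem L641264 : sm gg N42106 = N31028 := trfs L634761 L380974 rfl
theorem L641266 : sm gj N42106 = N30871 := trfs L634761 L380976 rfl
theorem L641268 : sm gh N42106 = N30947 := trfs L634761 L380978 rfl
theorem L641272 : sm gf N30399 = N21198 := trfs L634754 L261911 rfl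
theorem L641274 : sm gg N30399 = N42394 := trfs L634754 (flp_g L358518) rfl
theorem L641276 : sm gh N30399 = N21249 := trfs L634754 L261913 rfl
theorem L641280 : sm gd N29158 = N21198 := trfs L634751 L261945 rfl
theorem L641283 : sm gg N29158 = N21200 := trfs L634751 L261948 rfl
theorem L641285 : sm gh N29158 = N45042 := trfs L634751 L381098 rfl
theorem L641286 : N45042 = N42482 := eqes L641285 L359283
theorem L641287 : N45042 = N42482 := eqc rfl L641286 rfl
theorem L641290 : sm gd N42482 = N30963 := trfs L641287 L381104 rfl
theorem L641293 : sm gg N42482 = N30885 := trfs L641287 L381102 rfl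
theorem L641300 : sm ge N19873 = N14570 := trfs L634739 L180225 rfl
theorem L641302 : sm gg N19873 = N14638 := trfs L634739 L180227 rfl
theorem L641304 : sm gj N19873 = N14567 := trfs L634739 L180229 rfl
theorem L641306 : sm gh N19873 = N14566 := trfs L634739 (flp_h L180222) rfl
theorem L641310 : sm gf N20875 = N14567 := trfs L634736 L180220 rfl
theorem L641312 : sm gg N20875 = N29098 := trfs L634736 (flp_g L246688) rfl
theorem L641314 : sm gh N20875 = N14565 := trfs L634736 (flp_h L180216) rfl
theorem L641321 : sm gd N20041 = N14567 := trfs L634730 (flp_d L180231) rfl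
theorem L641327 : sm gd N21189 = N29157 := trfs L634725 L354697 rfl
theorem L641329 : sm gf N21189 = N30398 := trfs L634725 L354699 rfl
theorem L641331 : sm gj N21189 = N28905 := trfs L634725 L354701 rfl
theorem L641334 : sm gc N14568 = N20039 := trfs L634718 (flp_c L247183) rfl
theorem L641337 : sm gg N14568 = N20041 := trfs L634718 L247187 rfl
theorem L641342 : sm gg N20831 = N28805 := trfs L634698 L354591 rfl
theorem L641361 : sm gh N41941 = N30478 := trfs L634644 L372682 rfl
theorem L641363 : sm ga N21969 = N28803 := trfs L634640 L354369 rfl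
theorem L641371 : sm ga N24142 = N28742 := trfs L634613 L353535 rfl
theorem L641398 : sm ga N20788 = N28733 := trfs L634575 L353460 rfl
theorem L641404 : sm ga N41850 = N30268 := trfs L634542 L607848 rfl
theorem L641407 : sm gg N41850 = N30208 := trfs L634542 L372565 rfl
theorem L641409 : sm gh N41850 = N30207 := trfs L634542 (flp_h L372558) rfl
theorem L641411 : sm ga N20791 = N28735 := trfs L634536 L353478 rfl
theorem L641424 : sm gj N28704 = N24447 := trfs L634530 L634519 rfl
theorem L641426 : sm gh N28704 = N24143 := trfs L634530 (flp_h L566919) rfl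
theorem L641427 : N24143 = N41806 := eqes L641426 L353231
theorem L641428 : N41806 = N24143 := (eqc rfl L641427 rfl).symm
theorem L641434 : sm gh N24143 = N28704 := trfs L641428 (flp_h L353231) rfl
theorem L641436 : sm ga N24143 = N28710 := trfs L634427 L484650 rfl
theorem L641443 : sm ge N24143 = N35212 := trfs L634427 (flp_e L298488) rfl
theorem L641444 : N35212 = N35176 := eqes L641443 (flp_e L298224)
theorem L641445 : N35212 = N35176 := eqc rfl L641444 rfl
theorem L641451 : sm gd N35176 = N24174 := trfs L641445 L298486 rfl
theorem L641453 : sm gj N35176 = N24165 := trfs L641445 (flp_j L298483) rfl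
theorem L641527 : sm ga N19698 = N16718 := trfs L634390 (flp_a L567479) rfl
theorem L641532 : sm ge N19698 = N28631 := trfs L634390 (flp_e L242468) rfl
theorem L641535 : sm gg N19698 = N14220 := trfs L634390 L175357 rfl
theorem L641538 : sm gh N19698 = N14187 := trfs L634390 (flp_h L175353) rfl
theorem L641546 : sm gf N9798 = N13581 := trfs L634380 L167292 rfl
theorem L641551 : sm ga N28630 = N24325 := trfs L634373 L485872 rfl
theorem L641563 : sm gg N28630 = N20681 := trfs L634373 L254648 rfl
theorem L641573 : sm gf N14225 = N19713 := trfs L634367 L242503 rfl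
theorem L641577 : sm gc N28710 = N24447 := trfs L634525 L301722 rfl
theorem L641652 : sm ga N20792 = N28704 := trfs L634329 L567041 rfl
theorem L641672 : sm ga N9844 = N13587 := trfs L634326 (flp_a L566631) rfl
theorem L641675 : sm gc N9844 = N7980 := trfs L634326 L99006 rfl
theorem L641696 : sm ga N14293 = N19758 := trfs L634308 L243302 rfl
theorem L641711 : sm ga N6789 = N9381 := trfs L634305 L115781 rfl
theorem L641714 : sm gc N6789 = N9379 := trfs L634305 (flp_c L115779) rfl
theorem L641771 : sm gc N11568 = N14270 := trfs L634238 L176410 rfl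
theorem L641777 : sm gi N11568 = N14266 := trfs L634238 (flp_i L176407) rfl
theorem L641785 : sm ge N11567 = N14270 := trfs L634232 L167654 rfl
theorem L641815 : sm ge N11569 = N14266 := trfs L634211 L167620 rfl
theorem L641819 : sm gh N11569 = N13587 := trfs L634211 (flp_h L167615) rfl
theorem L641824 : sm ge N20677 = N16722 := trfs L634207 L206839 rfl
theorem L641830 : sm gi N20677 = N16721 := trfs L634207 (flp_i L206835) rfl
theorem L641836 : sm gc N20681 = N16721 := trfs L634198 L206814 rfl
theorem L641843 : sm ge N28642 = N24325 := trfs L634189 L300326 rfl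
theorem L641846 : sm gi N28642 = N24324 := trfs L634189 (flp_i L300322) rfl
theorem L641850 : sm gc N28631 = N24325 := trfs L634186 (flp_c L608197) rfl
theorem L641860 : sm gc N28630 = N24324 := trfs L636441 (flp_c L620908) rfl
theorem L641862 : sm ge N28630 = N20646 := trfs L636441 L254833 rfl
theorem L641865 : sm gh N28630 = N20644 := trfs L636441 (flp_h L254829) rfl
theorem L641867 : sm ga N19708 = N14236 := trfs L634175 L175925 rfl
theorem L641872 : sm gh N19708 = N16722 := trfs L634175 L567527 rfl
theorem L641888 : sm gg N20644 = N14236 := trfs L634163 L175496 rfl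
theorem L641893 : sm ga N13576 = N9805 := trfs L634154 L121284 rfl
theorem L641900 : sm ga N28642 = N20646 := trfs L634151 (flp_a L620940) rfl
theorem L641916 : sm ga N14197 = N19697 := trfs L634142 L242539 rfl
theorem L641925 : sm gi N14197 = N20644 := trfs L634142 (flp_i L620833) rfl
theorem L641929 : sm gh N20629 = N28642 := trfs L634126 (flp_h L352394) rfl
theorem L641937 : sm gc N9801 = N13578 := trfs L634101 L167480 rfl
theorem L641939 : sm gh N9801 = N13576 := trfs L634101 (flp_h L167477) rfl
theorem L641981 : sm gd N9311 = N7379 := trfs L633985 (flp_d L91496) rfl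
theorem L642047 : sm gf N16726 = N24325 := trfs L633911 L620919 rfl
theorem L642076 : sm gc N19695 = N14197 := trfs L633889 L175464 rfl
theorem L642078 : sm gf N19695 = N16718 := trfs L633889 L620903 rfl
theorem L642081 : sm gh N19695 = N14195 := trfs L633889 (flp_h L175461) rfl
theorem L642093 : sm gd N13485 = N10633 := trfs L633876 (flp_d L131662) rfl
theorem L642095 : sm gf N13485 = N11349 := trfs L633876 L619422 rfl
theorem L642097 : sm gg N13485 = N11507 := trfs L633876 (flp_g L619430) rfl
theorem L642103 : sm ge N13480 = N11507 := trfs L633873 (flp_e L142551) rfl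
theorem L642127 : sm gf N11508 = N13560 := trfs L633835 (flp_f L167237) rfl
theorem L642135 : sm gf N11490 = N13579 := trfs L633827 L167276 rfl
theorem L642145 : sm gf N16719 = N11517 := trfs L633820 (flp_f L142688) rfl
theorem L642153 : sm gf N16694 = N19711 := trfs L633812 L242483 rfl
theorem L642163 : sm gg N16561 = N19743 := trfs L633791 L242784 rfl
theorem L642165 : sm gj N16561 = N19711 := trfs L633791 (flp_j L242774) rfl
theorem L642173 : sm ga N10380 = N13633 := trfs L633780 L168142 rfl
theorem L642174 : N13633 = N15065 := eqes L642173 (flp_a L128305)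
theorem L642175 : N15065 = N13633 := (eqc rfl L642174 rfl).symm
theorem L642186 : sm ga N13633 = N10380 := trfs L642175 L128305 rfl
theorem L642202 : sm ge N11393 = N13633 := trfs L633774 L167523 rfl
theorem L642204 : sm gg N11393 = N13606 := trfs L633774 L167525 rfl
theorem L642206 : sm gj N11393 = N13579 := trfs L633774 (flp_j L167518) rfl
theorem L642244 : sm gf N10379 = N13537 := trfs L633750 L166697 rfl
theorem L642265 : sm gh N11392 = N13606 := trfs L633742 L166435 rfl
theorem L642271 : sm gd N13493 = N10705 := trfs L633733 (flp_d L132585) rfl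
theorem L642274 : sm gg N13493 = N11412 := trfs L633733 L619405 rfl
theorem L642276 : sm gj N13493 = N11349 := trfs L633733 L619407 rfl
theorem L642284 : sm ge N13517 = N11412 := trfs L633729 L128512 rfl
theorem L642287 : sm gj N13517 = N10379 := trfs L633729 (flp_j L128506) rfl
theorem L642294 : sm ga N11413 = N13606 := trfs L633716 L167772 rfl
theorem L642301 : sm gj N11413 = N13599 := trfs L633716 (flp_j L167770) rfl
theorem L642306 : sm gc N19753 = N14293 := trfs L633710 L176637 rfl
theorem L642311 : sm gj N19753 = N16586 := trfs L633710 L621320 rfl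
theorem L642323 : sm ga N16587 = N19743 := trfs L633698 L574548 rfl
theorem L642330 : sm gj N16587 = N11576 := trfs L633698 (flp_j L143348) rfl
theorem L642340 : sm gc N16813 = N20792 := trfs L633691 L256584 rfl
theorem L642345 : sm gj N16813 = N24143 := trfs L633691 L609968 rfl
theorem L642378 : sm gh N13575 = N11349 := trfs L633628 (flp_h L140704) rfl
theorem L642387 : sm gj N28788 = N21969 := trfs L633607 L269965 rfl
theorem L642389 : sm gh N28788 = N21873 := trfs L633607 L269967 rfl
theorem L642390 : N21873 = N41933 := eqes L642389 L354376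
theorem L642391 : N41933 = N21873 := (eqc rfl L642390 rfl).symm
theorem L642396 : sm gg N21873 = N28789 := trfs L642391 L354383 rfl
theorem L642397 : N28789 = N31871 := eqes L642396 (flp_g L270043)
theorem L642398 : N31871 = N28789 := (eqc rfl L642397 rfl).symm
theorem L642399 : sm gh N21873 = N28788 := trfs L642391 (flp_h L354376) rfl
theorem L642405 : sm gg N28789 = N21873 := trfs L642398 L270043 rfl
theorem L642413 : sm gj N13626 = N10380 := trfs L633604 L127925 rfl
theorem L642415 : sm gh N13626 = N10334 := trfs L633604 (flp_h L127918) rfl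
theorem L642420 : sm gj N28784 = N21968 := trfs L633601 L269957 rfl
theorem L642421 : N21968 = N41925 := eqes L642420 L354302
theorem L642422 : N41925 = N21968 := (eqc rfl L642421 rfl).symm
theorem L642423 : sm gh N28784 = N21872 := trfs L633601 L269959 rfl
theorem L642425 : sm ga N21968 = N28796 := trfs L642422 L354304 rfl
theorem L642426 : N28796 = N31961 := eqes L642425 (flp_a L270812)
theorem L642427 : N31961 = N28796 := (eqc rfl L642426 rfl).symm
theorem L642433 : sm gj N21968 = N28784 := trfs L642422 (flp_j L354302) rfl
theorem L642435 : sm ga N28796 = N21968 := trfs L642427 L270812 rfl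
theorem L642440 : sm gh N28796 = N21939 := trfs L642427 L270815 rfl
theorem L642441 : N21939 = N41945 := eqes L642440 L354488
theorem L642442 : N41945 = N21939 := (eqc rfl L642441 rfl).symm
theorem L642443 : sm gb N21939 = N29133 := trfs L642442 L354490 rfl
theorem L642444 : N29133 = N31973 := eqes L642443 L270915
theorem L642445 : N31973 = N29133 := (eqc rfl L642444 rfl).symm
theorem L642452 : sm gh N21939 = N28796 := trfs L642442 (flp_h L354488) rfl
theorem L642454 : sm gb N29133 = N21939 := trfs L642445 (flp_b L270915) rfl
theorem L642456 : sm gd N29133 = N21960 := trfs L642445 L270917 rfl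
theorem L642457 : N21960 = N42448 := eqes L642456 L358993
theorem L642458 : N42448 = N21960 := (eqc rfl L642457 rfl).symm
theorem L642461 : sm gd N21960 = N29133 := trfs L642458 (flp_d L358993) rfl
theorem L642464 : sm gg N21960 = N29297 := trfs L642458 L358996 rfl
theorem L642465 : N29297 = N31999 := eqes L642464 (flp_g L271138)
theorem L642466 : N31999 = N29297 := (eqc rfl L642465 rfl).symm
theorem L642467 : sm gj N21960 = N29134 := trfs L642458 L358998 rfl
theorem L642468 : N29134 = N31852 := eqes L642467 (flp_j L269880)
theorem L642469 : N31852 = N29134 := (eqc rfl L642468 rfl).symm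
theorem L642471 : sm gb N29134 = N21859 := trfs L642469 (flp_b L269877) rfl
theorem L642472 : N21859 = N41946 := eqes L642471 (flp_b L354501)
theorem L642473 : N41946 = N21859 := (eqc rfl L642472 rfl).symm
theorem L642475 : sm ge N29134 = N45096 := trfs L642469 (flp_e L381601) rfl
theorem L642476 : N45096 = N42450 := eqes L642475 L359011
theorem L642477 : N45096 = N42450 := eqc rfl L642476 rfl
theorem L642479 : sm gj N29134 = N21960 := trfs L642469 L269880 rfl
theorem L642482 : sm gb N42450 = N30916 := trfs L642477 (flp_b L381599) rfl
theorem L642485 : sm gj N42450 = N31098 := trfs L642477 L381603 rfl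
theorem L642488 : sm gb N21859 = N29134 := trfs L642473 L354501 rfl
theorem L642496 : sm gb N29297 = N21958 := trfs L642466 (flp_b L271136) rfl
theorem L642497 : N21958 = N42073 := eqes L642496 (flp_b L355641)
theorem L642498 : N42073 = N21958 := (eqc rfl L642497 rfl).symm
theorem L642500 : sm ge N29297 = N45366 := trfs L642466 (flp_e L383770) rfl
theorem L642501 : N45366 = N42696 := eqes L642500 L361052
theorem L642502 : N45366 = N42696 := eqc rfl L642501 rfl
theorem L642503 : sm gg N29297 = N21960 := trfs L642466 L271138 rfl
theorem L642506 : sm gb N42696 = N31096 := trfs L642502 (flp_b L383768) rfl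
theorem L642509 : sm gg N42696 = N31098 := trfs L642502 L383772 rfl
theorem L642512 : sm gb N21958 = N29297 := trfs L642498 L355641 rfl
theorem L642530 : sm gg N32018 = N24174 := trfs L633569 L296931 rfl
theorem L642532 : sm gj N32018 = N24036 := trfs L633569 (flp_j L296926) rfl
theorem L642541 : sm gj N15091 = N11522 := trfs L633566 (flp_j L142740) rfl
theorem L642546 : sm gg N32016 = N23583 := trfs L633563 L289343 rfl
theorem L642548 : sm gj N32016 = N23389 := trfs L633563 (flp_j L289337) rfl
theorem L642550 : sm gh N32016 = N45131 := trfs L633563 (flp_h L381867) rfl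
theorem L642552 : sm ga N28771 = N21970 := trfs L633559 L270828 rfl
theorem L642559 : sm ge N11579 = N16587 := trfs L633553 L186612 rfl
theorem L642561 : sm gg N11579 = N15091 := trfs L633553 L186614 rfl
theorem L642571 : sm gg N15090 = N19849 := trfs L633541 L243916 rfl
theorem L642573 : sm gj N15090 = N19794 := trfs L633541 (flp_j L243908) rfl
theorem L642586 : sm gd N28868 = N24142 := trfs L633535 L271245 rfl
theorem L642588 : sm gg N28868 = N21969 := trfs L633535 L271241 rfl
theorem L642590 : sm gh N28868 = N21978 := trfs L633535 L271243 rfl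
theorem L642591 : N21978 = N42054 := eqes L642590 L355485
theorem L642592 : N42054 = N21978 := (eqc rfl L642591 rfl).symm
theorem L642597 : sm gj N21978 = N28869 := trfs L642592 L355492 rfl
theorem L642598 : N28869 = N32027 := eqes L642597 (flp_j L271354)
theorem L642599 : N32027 = N28869 := (eqc rfl L642598 rfl).symm
theorem L642600 : sm gh N21978 = N28868 := trfs L642592 (flp_h L355485) rfl
theorem L642606 : sm gj N28869 = N21978 := trfs L642599 L271354 rfl
theorem L642611 : sm ge N13662 = N11413 := trfs L633532 L128519 rfl
theorem L642613 : sm gg N13662 = N10380 := trfs L633532 L128521 rfl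
theorem L642615 : sm gh N13662 = N10379 := trfs L633532 (flp_h L128515) rfl
theorem L642618 : sm gg N28861 = N21968 := trfs L633529 L271233 rfl
theorem L642620 : sm gh N28861 = N21977 := trfs L633529 L271235 rfl
theorem L642626 : sm ga N28891 = N21978 := trfs L633509 L591956 rfl
theorem L642629 : sm gc N28891 = N44441 := trfs L633509 L376037 rfl
theorem L642630 : N44441 = N42067 := eqes L642629 (flp_c L355597)
theorem L642631 : N44441 = N42067 := eqc rfl L642630 rfl
theorem L642632 : sm gd N28891 = N20926 := trfs L633509 (flp_d L258510) rfl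
theorem L642635 : sm gg N28891 = N20927 := trfs L633509 L258514 rfl
theorem L642639 : sm gg N42067 = N30478 := trfs L642631 L376039 rfl
theorem L642645 : sm gd N15068 = N19866 := trfs L633506 L241863 rfl
theorem L642653 : sm ga N28881 = N21977 := trfs L633503 L270893 rfl
theorem L642655 : sm gd N28881 = N21958 := trfs L633503 L270897 rfl
theorem L642657 : sm gg N28881 = N21939 := trfs L633503 L270895 rfl
theorem L642667 : sm ga N15095 = N19866 := trfs L633497 L244661 rfl
theorem L642671 : sm gf N15095 = N19931 := trfs L633497 L244664 rfl
theorem L642675 : sm gh N15095 = N19849 := trfs L633497 (flp_h L244659) rfl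
theorem L642680 : sm gd N21938 = N28896 := trfs L633489 L351336 rfl
theorem L642687 : sm ga N21979 = N28896 := trfs L633486 L355527 rfl
theorem L642690 : sm gf N21979 = N28995 := trfs L633486 L355530 rfl
theorem L642694 : sm ga N21874 = N28808 := trfs L633468 L354417 rfl
theorem L642707 : sm gg N15069 = N19866 := trfs L633459 L244067 rfl
theorem L642709 : sm gj N15069 = N19806 := trfs L633459 L244069 rfl
theorem L642715 : sm ga N28804 = N21873 := trfs L633452 L592048 rfl
theorem L642718 : sm gc N28804 = N44229 := trfs L633452 L374168 rfl
theorem L642719 : N44229 = N41942 := eqes L642718 (flp_c L354462)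
theorem L642720 : N44229 = N41942 := eqc rfl L642719 rfl
theorem L642721 : sm gd N28804 = N20831 := trfs L633452 (flp_d L257248) rfl
theorem L642726 : sm gj N28804 = N20927 := trfs L633452 L257252 rfl
theorem L642729 : sm gj N41942 = N30478 := trfs L642720 L374170 rfl
theorem L642731 : sm ga N28797 = N21872 := trfs L633447 L269678 rfl
theorem L642733 : sm gd N28797 = N21859 := trfs L633447 L269683 rfl
theorem L642736 : sm gj N28797 = N21939 := trfs L633447 L269681 rfl
theorem L642738 : sm ga N15025 = N19806 := trfs L633444 L243920 rfl
theorem L642745 : sm gh N15025 = N19794 := trfs L633444 (flp_h L243918) rfl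
theorem L642748 : sm gb N15006 = N19625 := trfs L633419 L241553 rfl
theorem L642750 : sm gd N15006 = N19806 := trfs L633419 L241558 rfl
theorem L642769 : sm gj N20900 = N28535 := trfs L633411 L350958 rfl
theorem L642773 : sm gb N21845 = N28535 := trfs L633402 L350880 rfl
theorem L642775 : sm gd N21845 = N28808 := trfs L633402 L350882 rfl
theorem L642786 : sm gd N20841 = N28533 := trfs L633380 L350942 rfl
theorem L642791 : sm gj N20841 = N28570 := trfs L633380 L350947 rfl
theorem L642794 : sm gb N21848 = N28533 := trfs L633376 L350859 rfl
theorem L642799 : sm gj N21848 = N28561 := trfs L633376 L350864 rfl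
theorem L642800 : N28561 = N31835 := eqes L642799 (flp_j L269722)
theorem L642801 : N31835 = N28561 := (eqc rfl L642800 rfl).symm
theorem L642811 : sm gj N28561 = N21848 := trfs L642801 L269722 rfl
theorem L642828 : sm gd N14327 = N19623 := trfs L633360 (flp_d L241595) rfl
theorem L642833 : sm gj N14327 = N19648 := trfs L633360 L241599 rfl
theorem L642836 : sm gb N15008 = N19623 := trfs L633356 L241534 rfl
theorem L642857 : sm gb N10325 = N13509 := trfs L633336 L166536 rfl
theorem L642910 : sm ge N14310 = N19625 := trfs L633298 L241591 rfl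
theorem L642912 : sm gg N14310 = N19623 := trfs L633298 L241593 rfl
theorem L642921 : sm gj N14366 = N19625 := trfs L633295 L241620 rfl
theorem L642925 : sm gb N19650 = N15068 := trfs L633283 (flp_b L522015) rfl
theorem L642928 : sm ge N19650 = N14368 := trfs L633283 L177685 rfl
theorem L642930 : sm gg N19650 = N14366 := trfs L633283 L177687 rfl
theorem L642936 : sm gb N28571 = N21938 := trfs L633266 (flp_b L522048) rfl
theorem L642940 : sm ge N28571 = N20902 := trfs L633266 L258128 rfl
theorem L642942 : sm gg N28571 = N20900 := trfs L633266 L258130 rfl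
theorem L642954 : sm gd N20938 = N28568 := trfs L633248 L351404 rfl
theorem L642958 : sm gg N20938 = N28570 := trfs L633248 L351408 rfl
theorem L642960 : sm gb N21943 = N28568 := trfs L633244 L351311 rfl
theorem L642964 : sm gg N21943 = N28561 := trfs L633244 L351315 rfl
theorem L642968 : sm gb N28619 = N22061 := trfs L633235 (flp_b L507580) rfl
theorem L642971 : sm ge N28619 = N21029 := trfs L633235 L259720 rfl
theorem L642974 : sm gj N28619 = N21026 := trfs L633235 L259723 rfl
theorem L642982 : sm gb N19647 = N15071 := trfs L633223 L592578 rfl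
theorem L642985 : sm gd N19647 = N14393 := trfs L633223 L177711 rfl
theorem L642987 : sm gf N19647 = N14454 := trfs L633223 L177707 rfl
theorem L642989 : sm gj N19647 = N14368 := trfs L633223 L177709 rfl
theorem L642993 : sm gb N19681 = N15153 := trfs L633220 L549402 rfl
theorem L642996 : sm ge N19681 = N14454 := trfs L633220 L178745 rfl
theorem L642999 : sm gj N19681 = N14451 := trfs L633220 L178748 rfl
theorem L643012 : sm gb N13525 = N10366 := trfs L633201 (flp_b L549963) rfl
theorem L643017 : sm gf N13525 = N9950 := trfs L633201 L122471 rfl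
theorem L643023 : sm gb N13548 = N10423 := trfs L633198 L549333 rfl
theorem L643027 : sm ge N13548 = N9950 := trfs L633198 L123172 rfl
theorem L643030 : sm gj N13548 = N9948 := trfs L633198 (flp_j L123167) rfl
theorem L643049 : sm gd N9895 = N13525 := trfs L633137 L166441 rfl
theorem L643053 : sm gg N9895 = N13498 := trfs L633137 (flp_g L166438) rfl
theorem L643063 : sm gj N9892 = N13525 := trfs L633130 (flp_j L166792) rfl
theorem L643128 : sm gd N9856 = N13509 := trfs L633048 L166306 rfl
theorem L643130 : sm ge N9856 = N13488 := trfs L633048 (flp_e L166300) rfl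
theorem L643133 : sm gj N9856 = N13498 := trfs L633048 L166303 rfl
theorem L643138 : sm gc N9793 = N13488 := trfs L633044 L166048 rfl
theorem L643142 : sm gf N9793 = N13470 := trfs L633044 (flp_f L166045) rfl
theorem L643144 : sm gj N9793 = N13476 := trfs L633044 L166052 rfl
theorem L643148 : sm gb N11334 = N13488 := trfs L633041 L166274 rfl
theorem L643150 : sm gd N11334 = N13487 := trfs L633041 L166276 rfl
theorem L643152 : sm gf N11334 = N13486 := trfs L633041 (flp_f L166272) rfl
theorem L643154 : sm gj N11334 = N13495 := trfs L633041 L166278 rfl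
theorem L643169 : sm gb N13489 = N10628 := trfs L633028 (flp_b L621057) rfl
theorem L643171 : sm gc N13489 = N9778 := trfs L633028 L120932 rfl
theorem L643175 : sm gf N13489 = N9799 := trfs L633028 L120937 rfl
theorem L643181 : sm gi N13489 = N9784 := trfs L633028 L120935 rfl
theorem L643197 : sm gd N13582 = N9799 := trfs L633022 L121234 rfl
theorem L643220 : sm gg N9834 = N13500 := trfs L633006 L166463 rfl
theorem L643227 : sm ge N9868 = N13500 := trfs L633002 L166449 rfl
theorem L643230 : sm gh N9868 = N13498 := trfs L633002 (flp_h L166446) rfl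
theorem L643234 : sm gc N9800 = N13500 := trfs L632998 L166151 rfl
theorem L643237 : sm gh N9800 = N13476 := trfs L632998 (flp_h L166148) rfl
theorem L643267 : sm gd N7988 = N9388 := trfs L632946 L114924 rfl
theorem L643274 : sm gb N7979 = N9388 := trfs L632942 L115848 rfl
theorem L643276 : sm ge N7979 = N9844 := trfs L632942 L115850 rfl
theorem L643289 : sm gb N9315 = N7374 := trfs L632929 (flp_b L91410) rfl
theorem L643291 : sm gc N9315 = N7992 := trfs L632929 L539826 rfl
theorem L643295 : sm gi N9315 = N7988 := trfs L632929 (flp_i L539850) rfl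
theorem L643313 : sm gb N13594 = N11567 := trfs L632865 (flp_b L143250) rfl
theorem L643330 : sm ge N19691 = N14201 := trfs L632841 L175521 rfl
theorem L643333 : sm gh N19691 = N14199 := trfs L632841 (flp_h L175517) rfl
theorem L643339 : sm gi N20646 = N28631 := trfs L632836 (flp_i L352231) rfl
theorem L643345 : sm gd N13583 = N9784 := trfs L632826 L121012 rfl
theorem L643349 : sm gg N13583 = N9782 := trfs L632826 (flp_g L121008) rfl
theorem L643360 : sm gg N14199 = N9810 := trfs L632820 L121029 rfl
theorem L643380 : sm gf N9776 = N13564 := trfs L632802 L167298 rfl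
theorem L643390 : sm gi N9783 = N14199 := trfs L632799 L175376 rfl
theorem L643393 : sm gd N9777 = N13564 := trfs L632796 L166219 rfl
theorem L643396 : sm gg N9777 = N13489 := trfs L632796 L166216 rfl
theorem L643401 : sm ga N19699 = N14195 := trfs L632792 L621045 rfl
theorem L643403 : sm gc N19699 = N14193 := trfs L632792 L621047 rfl
theorem L643405 : sm gd N19699 = N14188 := trfs L632792 L175348 rfl
theorem L643407 : sm gf N19699 = N14187 := trfs L632792 (flp_f L175344) rfl
theorem L643411 : sm gi N19699 = N14196 := trfs L632792 L175351 rfl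
theorem L643429 : sm gi N19692 = N14201 := trfs L632770 (flp_i L175542) rfl
theorem L643441 : sm gg N19691 = N14225 := trfs L632740 L175400 rfl
theorem L643445 : sm ga N19690 = N16719 := trfs L632736 L206443 rfl
theorem L643449 : sm gg N19690 = N16694 := trfs L632736 L206447 rfl
theorem L643456 : sm ge N13563 = N19692 := trfs L632725 (flp_e L167198) rfl
theorem L643458 : sm gg N13563 = N9798 := trfs L632725 L120926 rfl
theorem L643461 : sm gh N13563 = N9776 := trfs L632725 (flp_h L120922) rfl
theorem L643463 : sm ga N13562 = N11508 := trfs L632721 L142327 rfl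
theorem L643467 : sm gg N13562 = N11490 := trfs L632721 L142331 rfl
theorem L643473 : sm gd N9772 = N13483 := trfs L632709 L166208 rfl
theorem L643479 : sm gb N11489 = N13483 := trfs L632705 L166197 rfl
theorem L643486 : sm gh N11489 = N13562 := trfs L632705 L166201 rfl
theorem L643511 : sm gb N13482 = N11491 := trfs L632692 (flp_b L593706) rfl
theorem L643513 : sm gc N13482 = N9773 := trfs L632692 L120864 rfl
theorem L643516 : sm gf N13482 = N9772 := trfs L632692 (flp_f L120861) rfl
theorem L643520 : sm gh N13482 = N9777 := trfs L632692 L120867 rfl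
theorem L643537 : sm ga N13481 = N11507 := trfs L632686 L142318 rfl
theorem L643540 : sm gd N13481 = N11491 := trfs L632686 L142321 rfl
theorem L643542 : sm gf N13481 = N11489 := trfs L632686 (flp_f L142316) rfl
theorem L643613 : sm gb N13499 = N11394 := trfs L632589 (flp_b L592874) rfl
theorem L643615 : sm gc N13499 = N9823 := trfs L632589 L121545 rfl
theorem L643617 : sm ge N13499 = N9895 := trfs L632589 L121547 rfl
theorem L643620 : sm gj N13499 = N9822 := trfs L632589 (flp_j L121542) rfl
theorem L643622 : sm gh N13499 = N9834 := trfs L632589 L121550 rfl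
theorem L643625 : sm ga N13497 = N11412 := trfs L632586 L141251 rfl
theorem L643628 : sm gd N13497 = N11394 := trfs L632586 L141254 rfl
theorem L643631 : sm gj N13497 = N11392 := trfs L632586 (flp_j L141249) rfl
theorem L643635 : sm gb N13478 = N10667 := trfs L632538 L121451 rfl
theorem L643637 : sm gd N13478 = N9823 := trfs L632538 L121453 rfl
theorem L643642 : sm gj N13478 = N9816 := trfs L632538 (flp_j L121448) rfl
theorem L643677 : sm gb N13471 = N10609 := trfs L632504 L121085 rfl
theorem L643679 : sm gd N13471 = N9793 := trfs L632504 L121087 rfl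
theorem L643687 : sm gc N9788 = N13472 := trfs L632488 L166067 rfl
theorem L643690 : sm gg N9788 = N13471 := trfs L632488 (flp_g L166064) rfl
theorem L643697 : sm gc N13479 = N9816 := trfs L632478 L121442 rfl
theorem L643701 : sm gg N13479 = N9815 := trfs L632478 (flp_g L121439) rfl
theorem L643742 : sm gd N9787 = N13484 := trfs L632424 L166011 rfl
theorem L643744 : sm gf N9787 = N13472 := trfs L632424 L166015 rfl
theorem L643746 : sm gg N9787 = N13467 := trfs L632424 (flp_g L166007) rfl
theorem L643751 : sm gc N9791 = N13484 := trfs L632421 L166224 rfl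
theorem L643756 : sm gg N9791 = N13483 := trfs L632421 (flp_g L166221) rfl
theorem L643768 : sm gb N13565 = N11490 := trfs L632406 L581936 rfl
theorem L643770 : sm gd N13565 = N9798 := trfs L632406 L121139 rfl
theorem L643774 : sm gj N13565 = N9821 := trfs L632406 L121137 rfl
theorem L643776 : sm gh N13565 = N9791 := trfs L632406 (flp_h L121133) rfl
theorem L643785 : sm gb N19693 = N16694 := trfs L632391 L581942 rfl
theorem L643787 : sm gd N19693 = N14225 := trfs L632391 L175706 rfl
theorem L643791 : sm gj N19693 = N14259 := trfs L632391 L175709 rfl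
theorem L643801 : sm gc N19694 = N14259 := trfs L632371 L176156 rfl
theorem L643812 : sm gd N13491 = N9815 := trfs L632360 L121428 rfl
theorem L643815 : sm gf N13491 = N9814 := trfs L632360 (flp_f L121423) rfl
theorem L643825 : sm gc N13566 = N9821 := trfs L632353 L121434 rfl
theorem L643830 : sm gh N13566 = N9814 := trfs L632353 (flp_h L121431) rfl
theorem L643833 : sm gb N13584 = N11393 := trfs L632349 L581981 rfl
theorem L643838 : sm gf N13584 = N9821 := trfs L632349 L121530 rfl
theorem L643872 : sm gb N13502 = N11392 := trfs L632289 L538024 rfl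
theorem L643874 : sm gd N13502 = N9822 := trfs L632289 L121523 rfl
theorem L643882 : sm gb N13527 = N10364 := trfs L632286 (flp_b L521994) rfl
theorem L643885 : sm ge N13527 = N9892 := trfs L632286 L122455 rfl
theorem L643895 : sm ga N13524 = N10379 := trfs L632280 L128295 rfl
theorem L643898 : sm gd N13524 = N10364 := trfs L632280 L128298 rfl
theorem L643900 : sm ge N13524 = N11392 := trfs L632280 L128300 rfl
theorem L643906 : sm gc N9820 = N13491 := trfs L632270 L166336 rfl
theorem L643908 : sm ge N9820 = N13513 := trfs L632270 L166338 rfl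
theorem L643910 : sm gg N9820 = N13502 := trfs L632270 L166343 rfl
theorem L643914 : sm gh N9820 = N13584 := trfs L632270 L166340 rfl
theorem L643919 : sm gd N9891 = N13513 := trfs L632267 L166602 rfl
theorem L643922 : sm gg N9891 = N13527 := trfs L632267 L166606 rfl
theorem L643933 : sm gb N10363 = N13513 := trfs L632261 L166573 rfl
theorem L643937 : sm gg N10363 = N13524 := trfs L632261 L166580 rfl
theorem L643941 : sm gh N10363 = N13633 := trfs L632261 L166577 rfl
theorem L643948 : sm gb N13490 = N11333 := trfs L632249 (flp_b L537944) rfl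
theorem L643950 : sm gd N13490 = N9792 := trfs L632249 L121128 rfl
theorem L643952 : sm gf N13490 = N9791 := trfs L632249 (flp_f L121125) rfl
theorem L643954 : sm gj N13490 = N9820 := trfs L632249 L121130 rfl
theorem L643959 : sm gb N13510 = N10324 := trfs L632246 (flp_b L549618) rfl
theorem L643962 : sm ge N13510 = N9854 := trfs L632246 (flp_e L121929) rfl
theorem L643965 : sm gj N13510 = N9891 := trfs L632246 L121933 rfl
theorem L643974 : sm ga N13508 = N10334 := trfs L632240 L127751 rfl
theorem L643977 : sm gd N13508 = N10324 := trfs L632240 (flp_d L127749) rfl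
theorem L643979 : sm ge N13508 = N11333 := trfs L632240 L127758 rfl
theorem L643982 : sm gj N13508 = N10363 := trfs L632240 L127754 rfl
theorem L643999 : sm gb N19716 = N16561 := trfs L632199 L581958 rfl
theorem L644003 : sm gf N19716 = N14259 := trfs L632199 L176302 rfl
theorem L644009 : sm ga N19784 = N15091 := trfs L632193 L186316 rfl
theorem L644012 : sm ge N19784 = N16561 := trfs L632193 L186319 rfl
theorem L644023 : sm ga N19805 = N15090 := trfs L632168 L186309 rfl
theorem L644026 : sm gh N19805 = N15069 := trfs L632168 L186312 rfl
theorem L644034 : sm gb N19813 = N15069 := trfs L632146 L521785 rfl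
theorem L644036 : sm gd N19813 = N14366 := trfs L632146 (flp_d L177689) rfl
theorem L644038 : sm ge N19813 = N14391 := trfs L632146 L177693 rfl
theorem L644045 : sm gb N28816 = N21941 := trfs L632134 L522054 rfl
theorem L644047 : sm gd N28816 = N20900 := trfs L632134 L258143 rfl
theorem L644054 : sm gh N28816 = N44378 := trfs L632134 L375483 rfl
theorem L644055 : N44378 = N41916 := eqes L644054 (flp_h L354218)
theorem L644056 : N44378 = N41916 := eqc rfl L644055 rfl
theorem L644059 : sm ge N41916 = N30491 := trfs L644056 L375486 rfl
theorem L644063 : sm gd N21310 = N29154 := trfs L632116 L359237 rfl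
theorem L644066 : sm gg N21310 = N29325 := trfs L632116 L359240 rfl
theorem L644068 : sm gj N21310 = N29156 := trfs L632116 L359242 rfl
theorem L644070 : sm gd N42463 = N31046 := trfs L632111 L376156 rfl
theorem L644074 : sm gf N42022 = N29318 := trfs L632093 L359178 rfl
theorem L644076 : sm gj N42022 = N30953 := trfs L632093 L359182 rfl
theorem L644078 : sm gh N42022 = N29149 := trfs L632093 (flp_h L359174) rfl
theorem L644081 : sm gc N20038 = N14391 := trfs L632090 (flp_c L178016) rfl
theorem L644083 : sm gd N20038 = N14641 := trfs L632090 L178019 rfl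
theorem L644085 : sm gf N20038 = N28850 := trfs L632090 (flp_f L244470) rfl
theorem L644091 : sm gf N42024 = N29143 := trfs L632082 L359088 rfl
theorem L644093 : sm gj N42024 = N29142 := trfs L632082 L359090 rfl
theorem L644095 : sm gh N42024 = N29141 := trfs L632082 (flp_h L359083) rfl
theorem L644107 : sm gf N41814 = N28803 := trfs L632035 L354566 rfl
theorem L644109 : sm gj N41814 = N28802 := trfs L632035 (flp_j L354561) rfl
theorem L644124 : sm gd N28666 = N19808 := trfs L632022 L242991 rfl
theorem L644135 : sm gd N20871 = N28776 := trfs L632012 (flp_d L354170) rfl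
theorem L644138 : sm gg N20871 = N28777 := trfs L632012 L354173 rfl
theorem L644142 : sm gc N20037 = N28777 := trfs L632003 (flp_c L354187) rfl
theorem L644144 : sm gd N20037 = N29102 := trfs L632003 L354195 rfl
theorem L644147 : sm gj N20037 = N28850 := trfs L632003 L354193 rfl
theorem L644150 : sm gf N41905 = N28804 := trfs L632000 L354573 rfl
theorem L644152 : sm gg N41905 = N30383 := trfs L632000 L354575 rfl
theorem L644154 : sm gh N41905 = N28802 := trfs L632000 (flp_h L354568) rfl
theorem L644159 : sm gd N20839 = N28813 := trfs L631968 L354691 rfl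
theorem L644164 : sm gd N41957 = N30335 := trfs L631962 L374176 rfl
theorem L644166 : sm gj N41957 = N30479 := trfs L631962 L374178 rfl
theorem L644169 : sm gc N28815 = N21198 := trfs L631955 L257319 rfl
theorem L644171 : sm ge N28815 = N20841 := trfs L631955 L257321 rfl
theorem L644173 : sm gg N28815 = N20839 := trfs L631955 L257323 rfl
theorem L644175 : sm gh N28815 = N20874 := trfs L631955 L257325 rfl
theorem L644179 : sm gd N19810 = N14325 := trfs L631947 (flp_d L177147) rfl
theorem L644181 : sm gf N19810 = N28777 := trfs L631947 (flp_f L243781) rfl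
theorem L644183 : sm gj N19810 = N14391 := trfs L631947 L177150 rfl
theorem L644188 : sm gc N19811 = N14567 := trfs L631938 L177141 rfl
theorem L644190 : sm ge N19811 = N14327 := trfs L631938 L177143 rfl
theorem L644192 : sm gg N19811 = N14325 := trfs L631938 L177145 rfl
theorem L644195 : sm gh N19811 = N14324 := trfs L631938 (flp_h L177138) rfl
theorem L644204 : sm gc N19871 = N14638 := trfs L631907 L177994 rfl
theorem L644206 : sm ge N19871 = N14393 := trfs L631907 L177996 rfl
theorem L644208 : sm gj N19871 = N14390 := trfs L631907 L177998 rfl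
theorem L644215 : sm gc N28904 = N21306 := trfs L631894 L258588 rfl
theorem L644217 : sm ge N28904 = N20938 := trfs L631894 L258590 rfl
theorem L644221 : sm gh N28904 = N20988 := trfs L631894 L258594 rfl
theorem L644224 : sm gc N20937 = N29154 := trfs L631878 L354673 rfl
theorem L644226 : sm ge N20937 = N28816 := trfs L631878 L354675 rfl
theorem L644228 : sm gg N20937 = N28902 := trfs L631878 L354677 rfl
theorem L644230 : sm gj N20937 = N28813 := trfs L631878 L354679 rfl
theorem L644234 : sm gd N20935 = N28902 := trfs L631872 L355865 rfl
theorem L644236 : sm gj N20935 = N28904 := trfs L631872 L355867 rfl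
theorem L644239 : sm gd N42088 = N30477 := trfs L631866 L376045 rfl
theorem L644241 : sm gg N42088 = N30479 := trfs L631866 L376047 rfl
theorem L644245 : sm gc N42018 = N29318 := trfs L631850 L355804 rfl
theorem L644247 : sm ge N42018 = N29030 := trfs L631850 L355806 rfl
theorem L644249 : sm gg N42018 = N28898 := trfs L631850 L355808 rfl
theorem L644251 : sm gj N42018 = N30559 := trfs L631850 L355810 rfl
theorem L644253 : sm gh N42018 = N28897 := trfs L631850 (flp_h L355801) rfl
theorem L644256 : sm gd N19870 = N14390 := trfs L631847 (flp_d L178000) rfl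
theorem L644258 : sm gg N19870 = N14391 := trfs L631847 L178003 rfl
theorem L644263 : sm gd N20932 = N28898 := trfs L631841 (flp_d L355812) rfl
theorem L644265 : sm gj N20932 = N28899 := trfs L631841 L355817 rfl
theorem L644268 : sm gd N42084 = N30474 := trfs L631835 (flp_d L376005) rfl
theorem L644275 : sm gh N41862 = N30215 := trfs L631787 (flp_h L372647) rfl
theorem L644279 : sm gg N41812 = N30219 := trfs L631753 L372676 rfl
theorem L644281 : sm gh N41812 = N30270 := trfs L631753 L372678 rfl
theorem L644285 : sm gd N14276 = N19716 := trfs L631744 L242810 rfl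
theorem L644289 : sm gj N14276 = N19713 := trfs L631744 (flp_j L242806) rfl
theorem L644293 : sm gd N28775 = N20762 := trfs L631741 L256333 rfl
theorem L644295 : sm gf N28775 = N41824 := trfs L631741 (flp_f L353397) rfl
theorem L644301 : sm gd N19809 = N14273 := trfs L631725 (flp_d L176482) rfl
theorem L644303 : sm gf N19809 = N28716 := trfs L631725 (flp_f L243243) rfl
theorem L644305 : sm gh N19809 = N14391 := trfs L631725 L176485 rfl
theorem L644307 : sm gd N20754 = N28803 := trfs L631721 L352965 rfl
theorem L644309 : sm gg N20754 = N28742 := trfs L631721 L352969 rfl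
theorem L644319 : sm ge N20706 = N14242 := trfs L631680 L176057 rfl
theorem L644321 : sm gj N20706 = N14299 := trfs L631680 L176059 rfl
theorem L644325 : sm gi N20706 = N14239 := trfs L631680 (flp_i L176053) rfl
theorem L644329 : sm gb N28717 = N24145 := trfs L631665 L620716 rfl
theorem L644335 : sm gj N28717 = N20708 := trfs L631665 L255661 rfl
theorem L644341 : sm gf N28665 = N20708 := trfs L631662 L255651 rfl
theorem L644352 : sm gg N20706 = N28666 := trfs L636383 L352728 rfl
theorem L644354 : sm gh N20706 = N28665 := trfs L636383 (flp_h L352722) rfl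
theorem L644361 : sm gb N28665 = N43889 := trfs L631634 (flp_b L371258) rfl
theorem L644362 : N43889 = N41742 := eqes L644361 (flp_b L352654)
theorem L644363 : N43889 = N41742 := eqc rfl L644362 rfl
theorem L644365 : sm gj N28665 = N20762 := trfs L631634 L255380 rfl
theorem L644369 : sm gf N41742 = N30140 := trfs L644363 L636136 rfl
theorem L644371 : sm gj N41742 = N30219 := trfs L644363 L371262 rfl
theorem L644373 : sm gh N41742 = N30138 := trfs L644363 L636138 rfl
theorem L644385 : sm gf N19728 = N28666 := trfs L631622 (flp_f L242802) rfl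
theorem L644387 : sm gj N19728 = N14273 := trfs L631622 L175843 rfl
theorem L644389 : sm gh N19728 = N14222 := trfs L631622 (flp_h L175837) rfl
theorem L644401 : sm gd N19729 = N14324 := trfs L631595 L175831 rfl
theorem L644403 : sm gg N19729 = N14222 := trfs L631595 (flp_g L175827) rfl
theorem L644405 : sm gi N19729 = N14238 := trfs L631595 L175835 rfl
theorem L644412 : sm gc N19770 = N14566 := trfs L631588 L177130 rfl
theorem L644414 : sm ge N19770 = N14326 := trfs L631588 L177132 rfl
theorem L644418 : sm gj N19770 = N14324 := trfs L631588 (flp_j L177127) rfl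
theorem L644420 : sm gi N19770 = N14348 := trfs L631588 L177134 rfl
theorem L644423 : sm gb N28749 = N44052 := trfs L631574 (flp_b L372638) rfl
theorem L644424 : N44052 = N41863 := eqes L644423 (flp_b L353703)
theorem L644425 : N44052 = N41863 := eqc rfl L644424 rfl
theorem L644427 : sm gd N28749 = N20931 := trfs L631574 L256285 rfl
theorem L644430 : sm gj N28749 = N20758 := trfs L631574 (flp_j L256281) rfl
theorem L644434 : sm ga N41863 = N30253 := trfs L644425 L621374 rfl
theorem L644436 : sm gc N41863 = N30244 := trfs L644425 L621376 rfl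
theorem L644438 : sm gd N41863 = N30473 := trfs L644425 L372640 rfl
theorem L644442 : sm gj N41863 = N30215 := trfs L644425 (flp_j L372636) rfl
theorem L644444 : sm gi N41863 = N30266 := trfs L644425 L372645 rfl
theorem L644447 : sm gd N14389 = N19769 := trfs L631570 (flp_d L243518) rfl
theorem L644449 : sm gg N14389 = N19770 := trfs L631570 L243521 rfl
theorem L644451 : sm gh N14389 = N19871 := trfs L631570 L243523 rfl
theorem L644455 : sm gb N19771 = N16597 := trfs L631560 L620695 rfl
theorem L644458 : sm gd N19771 = N14348 := trfs L631560 L176031 rfl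
theorem L644460 : sm gg N19771 = N14296 := trfs L631560 L176035 rfl
theorem L644462 : sm gj N19771 = N14238 := trfs L631560 (flp_j L176027) rfl
theorem L644467 : sm gi N20793 = N28749 := trfs L631557 (flp_i L353782) rfl
theorem L644481 : sm gj N14272 = N19769 := trfs L631511 L243516 rfl
theorem L644489 : sm gd N9832 = N13584 := trfs L631498 L167549 rfl
theorem L644491 : sm gg N9832 = N13609 := trfs L631498 L167551 rfl
theorem L644493 : sm gj N9832 = N13581 := trfs L631498 (flp_j L167545) rfl
theorem L644497 : sm gg N19768 = N14273 := trfs L631494 L176480 rfl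
theorem L644500 : sm gh N19768 = N14272 := trfs L631494 (flp_h L176474) rfl
theorem L644505 : sm ga N19764 = N16586 := trfs L631487 (flp_a L567658) rfl
theorem L644508 : sm gg N19764 = N14269 := trfs L631487 L176445 rfl
theorem L644522 : sm gg N19746 = N14276 := trfs L631465 L176507 rfl
theorem L644536 : sm gj N14301 = N19747 := trfs L631446 L243263 rfl
theorem L644538 : sm gh N14301 = N19746 := trfs L631446 (flp_h L243258) rfl
theorem L644542 : sm gb N28715 = N44132 := trfs L631441 (flp_b L373267) rfl
theorem L644543 : N44132 = N41813 := eqes L644542 (flp_b L353293)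
theorem L644544 : N44132 = N41813 := eqc rfl L644543 rfl
theorem L644546 : sm gj N28715 = N20797 := trfs L631441 L256728 rfl
theorem L644551 : sm gj N41813 = N30270 := trfs L644544 L373271 rfl
theorem L644553 : sm gi N41813 = N30268 := trfs L644544 (flp_i L373265) rfl
theorem L644564 : sm gg N19748 = N14300 := trfs L631427 L176065 rfl
theorem L644571 : sm gg N20795 = N28717 := trfs L631423 L353378 rfl
theorem L644573 : sm gi N20795 = N28715 := trfs L631423 (flp_i L353372) rfl
theorem L644588 : sm gg N9848 = N13611 := trfs L631390 L167901 rfl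
theorem L644597 : sm gj N14268 = N19765 := trfs L631380 L243483 rfl
theorem L644599 : sm gh N14268 = N19764 := trfs L631380 (flp_h L243478) rfl
theorem L644601 : sm ga N28743 = N20778 := trfs L631376 (flp_a L621384) rfl
theorem L644602 : N20778 = N41842 := eqes L644601 (flp_a L353544)
theorem L644603 : N41842 = N20778 := (eqc rfl L644602 rfl).symm
theorem L644604 : sm gc N28743 = N20772 := trfs L631376 L621365 rfl
theorem L644606 : sm gd N28743 = N20925 := trfs L631376 L256237 rfl
theorem L644609 : sm gj N28743 = N20753 := trfs L631376 (flp_j L256233) rfl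
theorem L644611 : sm gi N28743 = N20787 := trfs L631376 L256241 rfl
theorem L644613 : sm ga N20778 = N28743 := trfs L644603 L353544 rfl
theorem L644620 : sm gd N14271 = N19765 := trfs L631373 L241331 rfl
theorem L644625 : sm gc N14281 = N19765 := trfs L631370 L243406 rfl
theorem L644629 : sm gh N14281 = N19758 := trfs L631370 (flp_h L243403) rfl
theorem L644633 : sm gd N13610 = N9834 := trfs L631367 L121665 rfl
theorem L644637 : sm gj N13610 = N9831 := trfs L631367 (flp_j L121661) rfl
theorem L644639 : sm gi N13610 = N9848 := trfs L631367 L121668 rfl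
theorem L644641 : sm ga N14286 = N19765 := trfs L631364 L243359 rfl
theorem L644646 : sm gh N14286 = N19753 := trfs L631364 (flp_h L243357) rfl
theorem L644648 : sm ga N9383 = N6787 := trfs L631355 L84093 rfl
theorem L644650 : sm gc N9383 = N6785 := trfs L631355 (flp_c L84091) rfl
theorem L644652 : sm gd N9383 = N7374 := trfs L631355 L84096 rfl
theorem L644656 : sm gi N9383 = N7979 := trfs L631355 (flp_i L485129) rfl
theorem L644666 : sm gi N19763 = N16597 := trfs L631352 L567615 rfl
theorem L644668 : sm gb N10696 = N13500 := trfs L631349 L166412 rfl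
theorem L644670 : sm gd N10696 = N13604 := trfs L631349 L166416 rfl
theorem L644672 : sm gh N10696 = N13495 := trfs L631349 (flp_h L166410) rfl
theorem L644675 : sm gc N9836 = N13604 := trfs L631346 L167796 rfl
theorem L644683 : sm ga N9839 = N13604 := trfs L631340 L167757 rfl
theorem L644702 : sm ga N13600 = N9843 := trfs L631321 L121724 rfl
theorem L644708 : sm gh N13600 = N9836 := trfs L631321 (flp_h L121722) rfl
theorem L644722 : sm gc N28711 = N24143 := trfs L631290 L620722 rfl
theorem L644726 : sm gj N28711 = N20792 := trfs L631290 L256682 rfl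
theorem L644728 : sm gi N28711 = N20791 := trfs L631290 (flp_i L256676) rfl
theorem L644730 : sm gc N13589 = N11569 := trfs L631287 L143266 rfl
theorem L644735 : sm gi N13589 = N11567 := trfs L631287 (flp_i L143264) rfl
theorem L644742 : sm gg N20705 = N28662 := trfs L631270 L352686 rfl
theorem L644746 : sm gc N19710 = N16722 := trfs L631267 L206822 rfl
theorem L644751 : sm gi N41743 = N30140 := trfs L631264 (flp_i L371696) rfl
theorem L644754 : sm gc N24016 = N28662 := trfs L631260 L352628 rfl
theorem L644762 : sm gg N19714 = N14242 := trfs L631257 L176075 rfl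
theorem L644767 : sm gb N16588 = N19748 := trfs L631250 L243204 rfl
theorem L644771 : sm gi N16588 = N19741 := trfs L631250 (flp_i L243202) rfl
theorem L644773 : sm gb N16720 = N19715 := trfs L631247 L242765 rfl
theorem L644776 : sm ge N16720 = N20681 := trfs L631247 L242768 rfl
theorem L644779 : sm gi N16720 = N19710 := trfs L631247 (flp_i L242763) rfl
theorem L644784 : sm gf N14241 = N19715 := trfs L631243 L242828 rfl
theorem L644786 : sm gj N14241 = N19748 := trfs L631243 L242830 rfl
theorem L644789 : sm gi N14241 = N19714 := trfs L631243 (flp_i L242823) rfl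
theorem L644791 : sm gb N11419 = N13611 := trfs L631235 L167845 rfl
theorem L644793 : sm gi N11419 = N13604 := trfs L631235 (flp_i L167843) rfl
theorem L644795 : sm gb N11514 = N13583 := trfs L631232 L167512 rfl
theorem L644797 : sm ge N11514 = N14236 := trfs L631232 L167514 rfl
theorem L644799 : sm gi N11514 = N13578 := trfs L631232 (flp_i L167510) rfl
theorem L644807 : sm gf N9808 = N13583 := trfs L631220 L167563 rfl
theorem L644810 : sm gj N9808 = N13611 := trfs L631220 L167565 rfl
theorem L644812 : sm gi N9808 = N13582 := trfs L631220 (flp_i L167559) rfl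
theorem L644821 : sm gc N19725 = N14228 := trfs L631200 (flp_c L621220) rfl
theorem L644823 : sm gd N19725 = N14221 := trfs L631200 L175795 rfl
theorem L644826 : sm gg N19725 = N14219 := trfs L631200 (flp_g L175791) rfl
theorem L644828 : sm gi N19725 = N14234 := trfs L631200 L175797 rfl
theorem L644836 : sm gg N9797 = N13582 := trfs L631187 L167557 rfl
theorem L644838 : sm gh N9797 = N13581 := trfs L631187 (flp_h L167553) rfl
theorem L644842 : sm ga N11350 = N13579 := trfs L631167 L167463 rfl
theorem L644846 : sm ge N11350 = N13626 := trfs L631167 L167467 rfl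
theorem L644848 : sm gg N11350 = N13575 := trfs L631167 (flp_g L167461) rfl
theorem L644858 : sm gd N34993 = N24036 := trfs L631146 L296861 rfl
theorem L644860 : sm gg N34993 = N24028 := trfs L631146 (flp_g L296858) rfl
theorem L644862 : sm ga N16498 = N19711 := trfs L631143 (flp_a L574217) rfl
theorem L644866 : sm ge N16498 = N11522 := trfs L631143 L142718 rfl
theorem L644875 : sm gc N11515 = N14236 := trfs L631129 L175977 rfl
theorem L644879 : sm gg N11519 = N16498 := trfs L631125 L204204 rfl
theorem L644884 : sm gc N20705 = N16731 := trfs L631122 L206945 rfl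
theorem L644887 : sm ge N20705 = N30138 := trfs L631122 L612322 rfl
theorem L644892 : sm gc N24329 = N28661 := trfs L631111 L352620 rfl
theorem L644895 : sm gg N24329 = N28658 := trfs L631111 (flp_g L352617) rfl
theorem L644897 : sm gi N24329 = N28679 := trfs L631111 L352623 rfl
theorem L644898 : N28679 = N35440 := eqes L644897 L300402
theorem L644899 : N35440 = N28679 := (eqc rfl L644898 rfl).symm
theorem L644906 : sm gi N28679 = N24329 := trfs L644899 (flp_i L300402) rfl
theorem L644908 : sm ga N28658 = N20705 := trfs L631107 L255498 rfl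
theorem L644914 : sm gh N28658 = N24016 := trfs L631107 (flp_h L484070) rfl
theorem L644917 : sm ga N28661 = N24016 := trfs L631101 L567521 rfl
theorem L644919 : sm gf N28661 = N20681 := trfs L631101 L255333 rfl
theorem L644921 : sm gj N28661 = N20757 := trfs L631101 L255335 rfl
theorem L644923 : sm gh N28661 = N20705 := trfs L631101 L255337 rfl
theorem L644927 : sm gh N20676 = N28679 := trfs L631092 (flp_h L352914) rfl
theorem L644931 : sm gg N20750 = N28735 := trfs L631089 L352912 rfl
theorem L644933 : sm gj N20750 = N28679 := trfs L631089 (flp_j L352906) rfl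
theorem L644937 : sm gf N20677 = N28679 := trfs L631085 L352392 rfl
theorem L644939 : sm gg N20677 = N28642 := trfs L631085 (flp_g L352386) rfl
theorem L644941 : sm ga N19724 = N16497 := trfs L631081 L567504 rfl
theorem L644944 : sm gf N19724 = N14220 := trfs L631081 L175803 rfl
theorem L644946 : sm gj N19724 = N14269 := trfs L631081 L175805 rfl
theorem L644948 : sm gh N19724 = N14219 := trfs L631081 (flp_h L175799) rfl
theorem L644950 : sm ga N20704 = N28679 := trfs L631077 L352801 rfl
theorem L644955 : sm gf N28683 = N41743 := trfs L631067 (flp_f L352668) rfl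
theorem L644958 : sm gj N28683 = N20754 := trfs L631067 L255311 rfl
theorem L644960 : sm gh N28683 = N20678 := trfs L631067 (flp_h L255305) rfl
theorem L644962 : sm ga N19721 = N14235 := trfs L631054 L175915 rfl
theorem L644966 : sm gh N19721 = N14228 := trfs L631054 (flp_h L175913) rfl
theorem L644968 : sm ga N14231 = N19725 := trfs L631040 L242882 rfl
theorem L644973 : sm ga N28684 = N20696 := trfs L631036 (flp_a L620589) rfl
theorem L644977 : sm gd N28684 = N20830 := trfs L631036 L255299 rfl
theorem L644980 : sm gg N28684 = N20678 := trfs L631036 (flp_g L255295) rfl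
theorem L644983 : sm gi N28684 = N20701 := trfs L631036 L255303 rfl
theorem L644985 : sm ga N24015 = N28683 := trfs L631029 L352835 rfl
theorem L644988 : sm gd N24015 = N28788 := trfs L631029 L352838 rfl
theorem L644990 : sm gg N24015 = N28673 := trfs L631029 (flp_g L352833) rfl
theorem L644993 : sm gc N20691 = N28684 := trfs L631026 L352898 rfl
theorem L644996 : sm gh N20691 = N28678 := trfs L631026 (flp_h L352895) rfl
theorem L644999 : sm gc N19718 = N14235 := trfs L631023 L175960 rfl
theorem L645001 : sm gg N19718 = N16497 := trfs L631023 (flp_g L621165) rfl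
theorem L645004 : sm gh N19718 = N14231 := trfs L631023 (flp_h L175957) rfl
theorem L645008 : sm ga N20702 = N28678 := trfs L631017 L352791 rfl
theorem L645010 : sm gc N20702 = N28673 := trfs L631017 L352793 rfl
theorem L645013 : sm gi N20702 = N30138 := trfs L631017 L608597 rfl
theorem L645017 : sm gc N28727 = N20788 := trfs L631005 L256548 rfl
theorem L645022 : sm gf N28727 = N44110 := trfs L631005 (flp_f L373108) rfl
theorem L645023 : N44110 = N41840 := eqes L645022 L353523
theorem L645024 : N44110 = N41840 := eqc rfl L645023 rfl
theorem L645025 : sm gj N28727 = N24142 := trfs L631005 (flp_j L621382) rfl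
theorem L645027 : sm gh N28727 = N20778 := trfs L631005 (flp_h L256545) rfl
theorem L645031 : sm gc N41840 = N30267 := trfs L645024 L373105 rfl
theorem L645034 : sm gh N41840 = N30253 := trfs L645024 (flp_h L373102) rfl
theorem L645039 : sm gc N14280 = N19763 := trfs L631002 L243390 rfl
theorem L645050 : sm gc N13597 = N9843 := trfs L630999 L121764 rfl
theorem L645052 : sm gh N13597 = N9839 := trfs L630999 (flp_h L121761) rfl
theorem L645064 : sm gc N14291 = N19752 := trfs L630993 L243296 rfl
theorem L645072 : sm gc N24165 = N30270 := trfs L630980 L373127 rfl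
theorem L645076 : sm gc N11573 = N14294 := trfs L630974 L176653 rfl
theorem L645081 : sm gc N16804 = N20757 := trfs L630959 L256206 rfl
theorem L645086 : sm gc N30219 = N24147 := trfs L630956 L298265 rfl
theorem L645088 : sm gf N30219 = N24145 := trfs L630956 (flp_f L298263) rfl
theorem L645093 : sm gi N20750 = N16804 := trfs L630947 (flp_i L207799) rfl
theorem L645096 : sm gc N16590 = N19741 := trfs L630938 L243147 rfl
theorem L645100 : sm gc N28709 = N24148 := trfs L630935 L298273 rfl
theorem L645102 : sm gi N28709 = N24145 := trfs L630935 (flp_i L298271) rfl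
theorem L645105 : sm ga N41803 = N30270 := trfs L630924 L373026 rfl
theorem L645110 : sm ga N19737 = N14294 := trfs L630918 L176599 rfl
theorem L645114 : sm gh N19737 = N16590 := trfs L630918 (flp_h L567634) rfl
theorem L645116 : sm ga N20790 = N28703 := trfs L630911 (flp_a L567025) rfl
theorem L645118 : sm gc N20790 = N16599 := trfs L630911 L205436 rfl
theorem L645121 : sm gf N20790 = N16597 := trfs L630911 (flp_f L205434) rfl
theorem L645123 : sm gj N20790 = N30138 := trfs L630911 L620668 rfl
theorem L645125 : sm ga N30272 = N41802 := trfs L630903 (flp_a L621469) rfl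
theorem L645127 : sm gc N30272 = N23572 := trfs L630903 L612218 rfl
theorem L645130 : sm gf N30272 = N20864 := trfs L630903 L257695 rfl
theorem L645132 : sm gj N30272 = N20863 := trfs L630903 (flp_j L257690) rfl
theorem L645135 : sm ga N24033 = N30141 := trfs L630895 L371507 rfl
theorem L645139 : sm gh N24033 = N30363 := trfs L630895 L371513 rfl
theorem L645141 : sm ga N41847 = N30269 := trfs L630892 L373016 rfl
theorem L645145 : sm gh N41847 = N30520 := trfs L630892 L373022 rfl
theorem L645147 : sm ga N19757 = N14291 := trfs L630888 L176575 rfl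
theorem L645151 : sm gh N19757 = N14280 := trfs L630888 (flp_h L176573) rfl
theorem L645154 : sm ga N20789 = N28732 := trfs L630881 L353451 rfl
theorem L645156 : sm gc N20789 = N28858 := trfs L630881 L353455 rfl
theorem L645160 : sm ga N14285 = N19763 := trfs L630873 L243342 rfl
theorem L645163 : sm gh N14285 = N19752 := trfs L630873 (flp_h L243340) rfl
theorem L645165 : sm ga N28744 = N20777 := trfs L630869 L256384 rfl
theorem L645167 : sm gc N28744 = N20944 := trfs L630869 L256386 rfl
theorem L645169 : sm ge N28744 = N20832 := trfs L630869 L620600 rfl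
theorem L645171 : sm gg N28744 = N20925 := trfs L630869 L620605 rfl
theorem L645173 : sm gj N28744 = N20830 := trfs L630869 L620607 rfl
theorem L645176 : sm gi N28744 = N20864 := trfs L630869 (flp_i L620692) rfl
theorem L645178 : sm ga N21877 = N28805 := trfs L630855 L354387 rfl
theorem L645181 : sm gd N21877 = N28789 := trfs L630855 (flp_d L354385) rfl
theorem L645183 : sm gf N21877 = N30363 := trfs L630855 L354390 rfl
theorem L645185 : sm gj N21877 = N28870 := trfs L630855 L354392 rfl
theorem L645187 : sm ga N21986 = N28892 := trfs L630852 L355496 rfl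
theorem L645190 : sm gd N21986 = N28869 := trfs L630852 (flp_d L355494) rfl
theorem L645192 : sm gg N21986 = N28870 := trfs L630852 L355499 rfl
theorem L645195 : sm gc N20956 = N28875 := trfs L630849 L353596 rfl
theorem L645198 : sm gh N20956 = N28732 := trfs L630849 (flp_h L353593) rfl
theorem L645201 : sm ga N20961 = N28894 := trfs L630841 L355512 rfl
theorem L645203 : sm gc N20961 = N28870 := trfs L630841 (flp_c L355510) rfl
theorem L645206 : sm ga N28560 = N21875 := trfs L630829 (flp_a L568115) rfl
theorem L645208 : sm gc N28560 = N22933 := trfs L630829 L621724 rfl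
theorem L645212 : sm gg N28560 = N20929 := trfs L630829 L257269 rfl
theorem L645214 : sm gj N28560 = N20833 := trfs L630829 L257271 rfl
theorem L645216 : sm gh N28560 = N20832 := trfs L630829 (flp_h L257264) rfl
theorem L645218 : sm ga N19641 = N15027 := trfs L630815 L185548 rfl
theorem L645220 : sm gc N19641 = N15018 := trfs L630815 L185550 rfl
theorem L645226 : sm gg N19641 = N15071 := trfs L630815 L185553 rfl
theorem L645228 : sm gj N19641 = N15008 := trfs L630815 L185555 rfl
theorem L645255 : sm ga N13520 = N10337 := trfs L630794 L127782 rfl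
theorem L645257 : sm gc N13520 = N10331 := trfs L630794 L127784 rfl
theorem L645259 : sm gd N13520 = N11336 := trfs L630794 L127786 rfl
theorem L645263 : sm gg N13520 = N10366 := trfs L630794 L127790 rfl
theorem L645265 : sm gj N13520 = N10325 := trfs L630794 (flp_j L127780) rfl
theorem L645284 : sm gd N13504 = N10335 := trfs L630760 L127913 rfl
theorem L645286 : sm ge N13504 = N11349 := trfs L630760 L127915 rfl
theorem L645288 : sm gg N13504 = N10334 := trfs L630760 (flp_g L127909) rfl
theorem L645291 : sm ga N13506 = N10335 := trfs L630755 L127762 rfl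
theorem L645293 : sm gc N13506 = N10329 := trfs L630755 L127764 rfl
theorem L645295 : sm ge N13506 = N10325 := trfs L630755 L127766 rfl
theorem L645297 : sm gg N13506 = N10324 := trfs L630755 (flp_g L127760) rfl
theorem L645306 : sm gd N19795 = N15024 := trfs L630739 (flp_d L185774) rfl
theorem L645311 : sm gg N19795 = N15025 := trfs L630739 L185777 rfl
theorem L645323 : sm ga N19619 = N15024 := trfs L630734 L185519 rfl
theorem L645327 : sm ge N19619 = N15008 := trfs L630734 L185523 rfl
theorem L645329 : sm gg N19619 = N15006 := trfs L630734 L185525 rfl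
theorem L645333 : sm gd N28792 = N21871 := trfs L630723 L270050 rfl
theorem L645335 : sm gg N28792 = N21874 := trfs L630723 L270052 rfl
theorem L645337 : sm ga N21876 = N28561 := trfs L630710 L351124 rfl
theorem L645340 : sm ge N21876 = N28547 := trfs L630710 L351127 rfl
theorem L645347 : sm ge N28592 = N22099 := trfs L630700 L271317 rfl
theorem L645349 : sm gf N28592 = N21976 := trfs L630700 L271319 rfl
theorem L645351 : sm gj N28592 = N21974 := trfs L630700 L271321 rfl
theorem L645356 : sm gd N28873 = N21976 := trfs L630697 L271361 rfl
theorem L645358 : sm gj N28873 = N21979 := trfs L630697 L271363 rfl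
theorem L645361 : sm ga N10382 = N13521 := trfs L630688 L166663 rfl
theorem L645365 : sm gd N10382 = N13517 := trfs L630688 L166666 rfl
theorem L645367 : sm gf N10382 = N13534 := trfs L630688 L166669 rfl
theorem L645369 : sm gg N10382 = N13515 := trfs L630688 (flp_g L166661) rfl
theorem L645378 : sm gf N19662 = N15094 := trfs L630680 L186652 rfl
theorem L645381 : sm gj N19662 = N15093 := trfs L630680 L186654 rfl
theorem L645385 : sm gd N19850 = N15094 := trfs L630674 (flp_d L186673) rfl
theorem L645387 : sm gj N19850 = N15095 := trfs L630674 L186676 rfl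
theorem L645389 : sm ga N19643 = N15094 := trfs L630670 L186347 rfl
theorem L645393 : sm ge N19643 = N15071 := trfs L630670 L186351 rfl
theorem L645395 : sm gj N19643 = N15068 := trfs L630670 L186353 rfl
theorem L645400 : sm gc N19632 = N15037 := trfs L630649 L185766 rfl
theorem L645402 : sm ge N19632 = N15027 := trfs L630649 L185768 rfl
theorem L645407 : sm gg N19632 = N15094 := trfs L630649 L185770 rfl
theorem L645409 : sm gj N19632 = N15024 := trfs L630649 L185772 rfl
theorem L645416 : sm gb N28541 = N21897 := trfs L630598 L270214 rfl
theorem L645426 : sm gg N31637 = N22014 := trfs L630577 L271722 rfl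
theorem L645427 : N22014 = N46158 := eqes L645426 (flp_g L390112)
theorem L645428 : N46158 = N22014 := (eqc rfl L645427 rfl).symm
theorem L645434 : sm ge N22014 = N31634 := trfs L645428 (flp_e L390107) rfl
theorem L645435 : N31634 = N32081 := eqes L645434 L271752
theorem L645436 : N32081 = N31634 := (eqc rfl L645435 rfl).symm
theorem L645437 : sm gg N22014 = N31637 := trfs L645428 L390112 rfl
theorem L645441 : sm gc N31634 = N22015 := trfs L645436 L271755 rfl
theorem L645442 : N22015 = N21825 := eqes L645441 L268056
theorem L645443 : N22015 = N21825 := eqc rfl L645442 rfl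
theorem L645444 : sm ge N31634 = N22014 := trfs L645436 (flp_e L271752) rfl
theorem L645446 : sm gf N31634 = N45450 := trfs L645436 (flp_f L384377) rfl
theorem L645447 : N45450 = N46151 := eqes L645446 (flp_f L390053)
theorem L645448 : N46151 = N45450 := (eqc rfl L645447 rfl).symm
theorem L645449 : sm gj N31634 = N22018 := trfs L645436 L271757 rfl
theorem L645450 : N22018 = N46155 := eqes L645449 (flp_j L390087)
theorem L645451 : N46155 = N22018 := (eqc rfl L645450 rfl).symm
theorem L645457 : sm gd N22018 = N31631 := trfs L645451 (flp_d L390083) rfl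
theorem L645458 : N31631 = N32088 := eqes L645457 L271810
theorem L645459 : N32088 = N31631 := (eqc rfl L645458 rfl).symm
theorem L645461 : sm gj N22018 = N31634 := trfs L645451 L390087 rfl
theorem L645465 : sm gc N31631 = N22165 := trfs L645459 L271814 rfl
theorem L645466 : N22165 = N21704 := eqes L645465 L268029
theorem L645467 : N22165 = N21704 := eqc rfl L645466 rfl
theorem L645468 : sm gd N31631 = N22018 := trfs L645459 (flp_d L271810) rfl
theorem L645471 : sm gf N31631 = N45457 := trfs L645459 (flp_f L384429) rfl
theorem L645472 : N45457 = N45627 := eqes L645471 (flp_f L615841)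
theorem L645473 : N45627 = N45457 := (eqc rfl L645472 rfl).symm
theorem L645476 : sm gc N45457 = N31621 := trfs L645473 L615839 rfl
theorem L645477 : N31621 = N31459 := eqes L645476 L384431
theorem L645478 : N31621 = N31459 := eqc rfl L645477 rfl
theorem L645479 : sm ge N45457 = N31273 := trfs L645473 (flp_e L385800) rfl
theorem L645481 : sm gf N45457 = N31631 := trfs L645473 L615841 rfl
theorem L645483 : sm gg N45457 = N31276 := trfs L645473 L385803 rfl
theorem L645485 : sm gj N45457 = N31627 := trfs L645473 L615843 rfl
theorem L645487 : sm gh N45457 = N31615 := trfs L645473 L385805 rfl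
theorem L645493 : sm ge N31459 = N45626 := trfs L645478 (flp_e L615624) rfl
theorem L645494 : N45626 = N44952 := eqes L645493 (flp_e L380305)
theorem L645495 : N45626 = N44952 := eqc rfl L645494 rfl
theorem L645498 : sm gg N31459 = N45630 := trfs L645478 (flp_g L615659) rfl
theorem L645499 : N45630 = N43111 := eqes L645498 (flp_g L364540)
theorem L645500 : N45630 = N43111 := eqc rfl L645499 rfl
theorem L645501 : sm gj N31459 = N21701 := trfs L645478 L267960 rfl
theorem L645502 : N21701 = N45895 := eqes L645501 (flp_j L387966)
theorem L645503 : N45895 = N21701 := (eqc rfl L645502 rfl).symm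
theorem L645506 : sm gi N31459 = N45633 := trfs L645478 (flp_i L385859) rfl
theorem L645507 : N45633 = N45905 := eqes L645506 L388046
theorem L645508 : N45905 = N45633 := (eqc rfl L645507 rfl).symm
theorem L645511 : sm gf N45633 = N32297 := trfs L645508 L388051 rfl
theorem L645512 : N32297 = N31285 := eqes L645511 L385853
theorem L645513 : N32297 = N31285 := eqc rfl L645512 rfl
theorem L645514 : sm gi N45633 = N31459 := trfs L645508 (flp_i L388046) rfl
theorem L645517 : sm gd N31285 = N22166 := trfs L645513 L273580 rfl
theorem L645518 : N22166 = N21589 := eqes L645517 L265212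
theorem L645519 : N22166 = N21589 := eqc rfl L645518 rfl
theorem L645537 : sm gi N21589 = N15227 := trfs L645519 (flp_i L188225) rfl
theorem L645538 : N15227 = N14992 := eqes L645537 L183423
theorem L645539 : N15227 = N14992 := eqc rfl L645538 rfl
theorem L645553 : sm gh N14992 = N10517 := trfs L645539 L129646 rfl
theorem L645554 : N10517 = N10315 := eqes L645553 (flp_h L127643)
theorem L645555 : N10517 = N10315 := eqc rfl L645554 rfl
theorem L645558 : sm gc N10315 = N7251 := trfs L645555 L89803 rfl
theorem L645559 : N7251 = N14991 := eqes L645558 (flp_c L127635)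
theorem L645560 : N14991 = N7251 := (eqc rfl L645559 rfl).symm
theorem L645562 : sm ge N10315 = N7250 := trfs L645555 (flp_e L89800) rfl
theorem L645563 : N7250 = N7254 := eqes L645562 L88096
theorem L645564 : N7254 = N7250 := (eqc rfl L645563 rfl).symm
theorem L645575 : sm ge N7250 = N10315 := trfs L645564 (flp_e L88096) rfl
theorem L645586 : sm gc N7251 = N10315 := trfs L645560 L127635 rfl
theorem L645624 : sm gj N21701 = N31459 := trfs L645503 L387966 rfl
theorem L645627 : sm gc N43111 = N31276 := trfs L645500 L385826 rfl
theorem L645630 : sm ge N43111 = N31275 := trfs L645500 (flp_e L385823) rfl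
theorem L645633 : sm gj N43111 = N31279 := trfs L645500 L385828 rfl
theorem L645635 : sm gh N43111 = N31616 := trfs L645500 L615661 rfl
theorem L645638 : sm gc N44952 = N31273 := trfs L645495 (flp_c L385792) rfl
theorem L645641 : sm gg N44952 = N31275 := trfs L645495 L385796 rfl
theorem L645643 : sm gj N44952 = N31628 := trfs L645495 L615627 rfl
theorem L645645 : sm gh N44952 = N31614 := trfs L645495 L385798 rfl
theorem L645652 : sm gf N21704 = N31459 := trfs L645467 (flp_f L266612) rfl
theorem L645676 : sm gd N45450 = N31627 := trfs L645448 (flp_d L390050) rfl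
theorem L645678 : sm gf N45450 = N31634 := trfs L645448 L390053 rfl
theorem L645682 : sm gb N21825 = N32061 := trfs L645443 (flp_b L271600) rfl
theorem L645683 : N32061 = N31796 := eqes L645682 (flp_b L269345)
theorem L645684 : N32061 = N31796 := eqc rfl L645683 rfl
theorem L645691 : sm gj N21825 = N15125 := trfs L645443 L186970 rfl
theorem L645696 : sm ge N31796 = N21999 := trfs L645684 (flp_e L271598) rfl
theorem L645698 : sm gf N31796 = N45430 := trfs L645684 (flp_f L384218) rfl
theorem L645700 : sm gj N31796 = N22002 := trfs L645684 L271602 rfl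
theorem L645705 : sm ge N31468 = N22016 := trfs L630559 L271775 rfl
theorem L645709 : sm gj N31468 = N22020 := trfs L630559 L271777 rfl
theorem L645728 : sm ge N15122 = N21825 := trfs L630538 (flp_e L269350) rfl
theorem L645730 : sm gg N15122 = N21828 := trfs L630538 L269353 rfl
theorem L645808 : sm ge N32262 = N43617 := trfs L629720 (flp_e L512920) rfl
theorem L645811 : sm gj N32262 = N22193 := trfs L629720 L273859 rfl
theorem L645813 : sm gh N32262 = N22189 := trfs L629720 (flp_h L273852) rfl
theorem L645817 : sm gf N15249 = N22212 := trfs L629717 L273965 rfl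
theorem L645818 : N22212 = N22185 := eqes L645817 (flp_f L188399)
theorem L645819 : N22212 = N22185 := eqc rfl L645818 rfl
theorem L645821 : sm gb N22185 = N32326 := trfs L645819 (flp_b L273841) rfl
theorem L645822 : N32326 = N32321 := eqes L645821 (flp_b L273794)
theorem L645823 : N32326 = N32321 := eqc rfl L645822 rfl
theorem L645842 : sm ga N32321 = N22188 := trfs L645823 (flp_a L273834) rfl
theorem L645846 : sm ge N32321 = N46251 := trfs L645823 (flp_e L390886) rfl
theorem L645849 : sm gj N32321 = N22191 := trfs L645823 L273839 rfl
theorem L645851 : sm gb N32319 = N22189 := trfs L629709 L273845 rfl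
theorem L645855 : sm ge N32319 = N43644 := trfs L629709 (flp_e L543347) rfl
theorem L645858 : sm gj N32319 = N22192 := trfs L629709 L273850 rfl
theorem L645860 : sm gi N32319 = N22188 := trfs L629709 (flp_i L273843) rfl
theorem L645862 : sm ga N43709 = N31746 := trfs L629655 L390764 rfl
theorem L645863 : N31746 = N29987 := eqes L645862 L369627
theorem L645864 : N31746 = N29987 := eqc rfl L645863 rfl
theorem L645867 : sm ge N43709 = N31689 := trfs L629655 (flp_e L390762) rfl
theorem L645869 : sm gg N43709 = N31692 := trfs L629655 L390767 rfl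
theorem L645881 : sm gh N29987 = N45863 := trfs L645864 (flp_h L387686) rfl
theorem L645882 : N45863 = N43712 := eqes L645881 L369652
theorem L645883 : N45863 = N43712 := eqc rfl L645882 rfl
theorem L645886 : sm ge N43712 = N31429 := trfs L645883 (flp_e L387680) rfl
theorem L646063 : sm gc N29935 = N46316 := trfs L629600 (flp_c L391384) rfl
theorem L646064 : N46316 = N43639 := eqes L646063 (flp_c L369058)
theorem L646065 : N46316 = N43639 := eqc rfl L646064 rfl
theorem L646067 : sm gf N29935 = N21820 := trfs L629600 L269174 rfl
theorem L646069 : sm gj N29935 = N21813 := trfs L629600 L269176 rfl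
theorem L646076 : sm gj N43639 = N31753 := trfs L646065 L391388 rfl
theorem L646081 : sm gf N43615 = N31463 := trfs L629587 L387936 rfl
theorem L646083 : sm gj N43615 = N31456 := trfs L629587 L387938 rfl
theorem L646087 : sm ge N15245 = N21820 := trfs L629545 (flp_e L185302) rfl
theorem L646090 : sm gj N15245 = N10524 := trfs L629545 L130141 rfl
theorem L646092 : sm gh N15245 = N22169 := trfs L629545 (flp_h L188257) rfl
theorem L646097 : sm gf N15247 = N10524 := trfs L629542 L130089 rfl
theorem L646117 : sm ge N15241 = N21823 := trfs L629518 (flp_e L185334) rfl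
theorem L646119 : sm gg N15241 = N10527 := trfs L629518 L130168 rfl
theorem L646122 : sm gi N15241 = N10524 := trfs L629518 (flp_i L130161) rfl
theorem L646129 : sm gc N22084 = N32361 := trfs L629503 (flp_c L274122) rfl
theorem L646130 : N32361 = N32182 := eqes L646129 L272625
theorem L646131 : N32361 = N32182 := eqc rfl L646130 rfl
theorem L646133 : sm ge N22084 = N31795 := trfs L629503 (flp_e L269339) rfl
theorem L646136 : sm gg N22084 = N15294 := trfs L629503 L188896 rfl
theorem L646138 : sm gi N22084 = N32304 := trfs L629503 (flp_i L273646) rfl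
theorem L646139 : N32304 = N32184 := eqes L646138 L272644
theorem L646140 : N32304 = N32184 := eqc rfl L646139 rfl
theorem L646143 : sm ge N32184 = N45912 := trfs L646140 (flp_e L388112) rfl
theorem L646145 : sm gg N32184 = N22175 := trfs L646140 L273644 rfl
theorem L646147 : sm gh N32184 = N22172 := trfs L646140 (flp_h L273639) rfl
theorem L646150 : sm ge N32182 = N46336 := trfs L646131 (flp_e L391549) rfl
theorem L646152 : sm gg N32182 = N22218 := trfs L646131 L274124 rfl
theorem L646181 : sm gb N10506 = N15256 := trfs L629444 (flp_b L188520) rfl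
theorem L646192 : sm gb N22180 = N32329 := trfs L629441 (flp_b L273865) rfl
theorem L646193 : N32329 = N32314 := eqes L646192 L273730
theorem L646194 : N32329 = N32314 := eqc rfl L646193 rfl
theorem L646196 : sm ge N22180 = N31763 := trfs L629441 (flp_e L269091) rfl
theorem L646198 : sm gg N22180 = N15270 := trfs L629441 L188645 rfl
theorem L646202 : sm ga N32314 = N22192 := trfs L646194 L273863 rfl
theorem L646206 : sm ge N32314 = N43650 := trfs L646194 (flp_e L543186) rfl
theorem L646208 : sm gg N32314 = N22194 := trfs L646194 L273869 rfl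
theorem L646210 : sm gi N32314 = N22191 := trfs L646194 (flp_i L273861) rfl
theorem L646216 : sm ga N15259 = N22189 := trfs L629430 (flp_a L188429) rfl
theorem L646225 : sm gj N15259 = N10506 := trfs L629430 L129963 rfl
theorem L646228 : sm gi N15259 = N10503 := trfs L629430 (flp_i L129957) rfl
theorem L646234 : sm gf N15267 = N22189 := trfs L629421 L273753 rfl
theorem L646236 : sm gj N15267 = N22185 := trfs L629421 L273755 rfl
theorem L646238 : sm gi N15267 = N22180 := trfs L629421 (flp_i L273746) rfl
theorem L646241 : sm gf N32210 = N22217 := trfs L629392 L274080 rfl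
theorem L646245 : sm gf N32269 = N22193 := trfs L629387 L273823 rfl
theorem L646248 : sm gh N32269 = N22185 := trfs L629387 (flp_h L273817) rfl
theorem L646255 : sm gi N21587 = N32268 := trfs L629373 (flp_i L273337) rfl
theorem L646256 : N32268 = N31464 := eqes L646255 L266651
theorem L646257 : N32268 = N31464 := eqc rfl L646256 rfl
theorem L646264 : sm gh N31464 = N22143 := trfs L646257 (flp_h L273330) rfl
theorem L646265 : N22143 = N45910 := eqes L646264 L388088
theorem L646266 : N45910 = N22143 := (eqc rfl L646265 rfl).symm
theorem L646270 : sm gj N22143 = N31467 := trfs L646266 L388095 rfl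
theorem L646271 : N31467 = N32260 := eqes L646270 (flp_j L273271)
theorem L646272 : N32260 = N31467 := (eqc rfl L646271 rfl).symm
theorem L646273 : sm gh N22143 = N31464 := trfs L646266 (flp_h L388088) rfl
theorem L646281 : sm gj N31467 = N22143 := trfs L646272 L273271 rfl
theorem L646286 : sm gb N15261 = N10503 := trfs L629360 (flp_b L129949) rfl
theorem L646290 : sm ge N15261 = N21796 := trfs L629360 (flp_e L185114) rfl
theorem L646293 : sm gj N15261 = N10505 := trfs L629360 L129953 rfl
theorem L646295 : sm gh N15261 = N22145 := trfs L629360 (flp_h L188054) rfl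
theorem L646300 : sm gf N31736 = N46329 := trfs L629357 (flp_f L391495) rfl
theorem L646301 : N46329 = N46289 := eqes L646300 (flp_f L391181)
theorem L646302 : N46329 = N46289 := eqc rfl L646301 rfl
theorem L646308 : sm gi N46289 = N31756 := trfs L646302 (flp_i L391490) rfl
theorem L646319 : sm ge N31760 = N22185 := trfs L629350 L273814 rfl
theorem L646321 : sm gf N31760 = N43639 := trfs L629350 (flp_f L546207) rfl
theorem L646329 : sm gb N22208 = N29907 := trfs L629337 (flp_b L368724) rfl
theorem L646330 : N29907 = N32350 := eqes L646329 (flp_b L274037)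
theorem L646331 : N32350 = N29907 := (eqc rfl L646330 rfl).symm
theorem L646335 : sm gj N22208 = N29909 := trfs L629337 L368728 rfl
theorem L646336 : N29909 = N32344 := eqes L646335 (flp_j L273990)
theorem L646337 : N32344 = N29909 := (eqc rfl L646336 rfl).symm
theorem L646338 : sm gi N22208 = N31736 := trfs L629337 L546433 rfl
theorem L646344 : sm gj N29909 = N22208 := trfs L646337 L273990 rfl
theorem L646346 : sm gb N29907 = N22208 := trfs L646331 L274037 rfl
theorem L646357 : sm gj N10501 = N14994 := trfs L629334 L185316 rfl
theorem L646360 : sm gi N10501 = N14990 := trfs L629334 (flp_i L185308) rfl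
theorem L646368 : sm gj N22184 = N31763 := trfs L629329 L391525 rfl
theorem L646370 : sm gi N22184 = N31760 := trfs L629329 (flp_i L391516) rfl
theorem L646381 : sm gb N31762 = N22141 := trfs L629314 L273295 rfl
theorem L646393 : sm gd N22137 = N32362 := trfs L629305 L274126 rfl
theorem L646394 : N32362 = N32201 := eqes L646393 (flp_d L272806)
theorem L646395 : N32362 = N32201 := eqc rfl L646394 rfl
theorem L646396 : sm ge N22137 = N31764 := trfs L629305 (flp_e L269101) rfl
theorem L646399 : sm gg N22137 = N15271 := trfs L629305 L188653 rfl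
theorem L646401 : sm gi N22137 = N32273 := trfs L629305 (flp_i L273382) rfl
theorem L646402 : N32273 = N32259 := eqes L646401 L273257
theorem L646403 : N32273 = N32259 := eqc rfl L646402 rfl
theorem L646404 : sm gb N32259 = N22150 := trfs L646403 L273376 rfl
theorem L646407 : sm ge N32259 = N45881 := trfs L646403 (flp_e L387850) rfl
theorem L646409 : sm gg N32259 = N22152 := trfs L646403 L273380 rfl
theorem L646411 : sm gh N32259 = N22149 := trfs L646403 (flp_h L273374) rfl
theorem L646413 : sm gb N32201 = N22217 := trfs L646395 L274128 rfl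
theorem L646415 : sm gg N32201 = N22219 := trfs L646395 L274130 rfl
theorem L646424 : sm gj N21824 = N15211 := trfs L629302 L187995 rfl
theorem L646426 : sm ge N43681 = N31745 := trfs L629287 (flp_e L391345) rfl
theorem L646428 : sm gg N43681 = N31749 := trfs L629287 L391349 rfl
theorem L646431 : sm ge N21800 = N15256 := trfs L629284 (flp_e L188529) rfl
theorem L646433 : sm gf N21800 = N31749 := trfs L629284 (flp_f L268978) rfl
theorem L646435 : sm gj N21800 = N15260 := trfs L629284 L188533 rfl
theorem L646438 : sm gd N43593 = N31749 := trfs L629281 (flp_d L391410) rfl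
theorem L646440 : sm gj N43593 = N31756 := trfs L629281 L391414 rfl
theorem L646442 : sm gf N46240 = N31763 := trfs L629275 L391459 rfl
theorem L646444 : sm gi N46240 = N31753 := trfs L629275 (flp_i L391453) rfl
theorem L646446 : sm ga N31748 = N43639 := trfs L629267 (flp_a L546204) rfl
theorem L646452 : sm gg N31748 = N43683 := trfs L629267 (flp_g L369416) rfl
theorem L646453 : N43683 = N46310 := eqes L646452 (flp_g L391341)
theorem L646454 : N46310 = N43683 := (eqc rfl L646453 rfl).symm
theorem L646458 : sm gb N43683 = N31745 := trfs L646454 (flp_b L391338) rfl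
theorem L646462 : sm gg N43683 = N31748 := trfs L646454 L391341 rfl
theorem L646464 : sm gb N21797 = N15260 := trfs L629256 L188572 rfl
theorem L646467 : sm ge N21797 = N15259 := trfs L629256 (flp_e L188570) rfl
theorem L646473 : sm ge N21791 = N31750 := trfs L629253 L391421 rfl
theorem L646475 : sm gi N21791 = N31749 := trfs L629253 (flp_i L391417) rfl
theorem L646477 : sm gb N43590 = N31756 := trfs L629250 L391463 rfl
theorem L646479 : sm gb N21792 = N31750 := trfs L629246 L391402 rfl
theorem L646481 : sm gi N21792 = N31748 := trfs L629246 (flp_i L391400) rfl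
theorem L646483 : sm ge N43635 = N31753 := trfs L629243 (flp_e L391445) rfl
theorem L646485 : sm ga N43633 = N29986 := trfs L629213 L369619 rfl
theorem L646488 : sm ge N43633 = N29985 := trfs L629213 (flp_e L369617) rfl
theorem L646494 : sm gj N29577 = N43700 := trfs L629206 (flp_j L369556) rfl
theorem L646495 : N43700 = N43104 := eqes L646494 (flp_j L364479)
theorem L646496 : N43700 = N43104 := eqc rfl L646495 rfl
theorem L646498 : sm gi N29577 = N45891 := trfs L629206 (flp_i L387932) rfl
theorem L646499 : N45891 = N43112 := eqes L646498 L364542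
theorem L646500 : N45891 = N43112 := eqc rfl L646499 rfl
theorem L646505 : sm gh N43112 = N31450 := trfs L646500 (flp_h L387926) rfl
theorem L646509 : sm gg N43104 = N29984 := trfs L646496 L369554 rfl
theorem L646516 : sm gb N43548 = N31459 := trfs L629182 L388019 rfl
theorem L646518 : sm gd N43548 = N31457 := trfs L629182 (flp_d L388017) rfl
theorem L646520 : sm gf N45871 = N31762 := trfs L629179 L391431 rfl
theorem L646522 : sm gj N45871 = N31758 := trfs L629179 L391433 rfl
theorem L646524 : sm gh N45871 = N31750 := trfs L629179 (flp_h L391427) rfl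
theorem L646529 : sm gf N21583 = N14992 := trfs L629176 L185246 rfl
theorem L646537 : sm ga N43612 = N31457 := trfs L629173 L388003 rfl
theorem L646540 : sm ge N43612 = N31456 := trfs L629173 (flp_e L388001) rfl
theorem L646547 : sm gg N21790 = N29986 := trfs L629160 (flp_g L254215) rfl
theorem L646549 : sm gh N21790 = N31457 := trfs L629160 (flp_h L266599) rfl
theorem L646554 : sm gc N21794 = N31748 := trfs L629157 (flp_c L268970) rfl
theorem L646557 : sm gf N21794 = N14990 := trfs L629157 L185210 rfl
theorem L646564 : sm gb N21793 = N31749 := trfs L629154 L391392 rfl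
theorem L646566 : sm ge N21793 = N31748 := trfs L629154 (flp_e L391390) rfl
theorem L646606 : sm gb N15269 = N22137 := trfs L629082 (flp_b L273239) rfl
theorem L646608 : sm gf N15269 = N22145 := trfs L629082 L273241 rfl
theorem L646614 : sm gf N15250 = N22169 := trfs L629078 L273472 rfl
theorem L646624 : sm ge N21798 = N15226 := trfs L629064 (flp_e L188205) rfl
theorem L646626 : sm gf N21798 = N31457 := trfs L629064 (flp_f L266601) rfl
theorem L646631 : sm gd N22140 = N32360 := trfs L629060 L274111 rfl
theorem L646632 : N32360 = N32204 := eqes L646631 (flp_d L272825)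
theorem L646633 : N32360 = N32204 := eqc rfl L646632 rfl
theorem L646634 : sm ge N22140 = N31762 := trfs L629060 (flp_e L269080) rfl
theorem L646637 : sm gj N22140 = N15269 := trfs L629060 L188636 rfl
theorem L646642 : sm gj N32204 = N22217 := trfs L646633 L274114 rfl
theorem L646647 : sm ge N22162 = N29921 := trfs L629056 (flp_e L546096) rfl
theorem L646650 : sm gj N22162 = N15250 := trfs L629056 L188443 rfl
theorem L646652 : sm gh N22162 = N15247 := trfs L629056 (flp_h L188437) rfl
theorem L646661 : sm gf N15235 = N22147 := trfs L629046 L273277 rfl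
theorem L646668 : sm gc N32264 = N22147 := trfs L629039 L273359 rfl
theorem L646670 : sm ge N32264 = N45879 := trfs L629039 (flp_e L387827) rfl
theorem L646673 : sm gj N32264 = N22150 := trfs L629039 L273362 rfl
theorem L646675 : sm gh N32264 = N22146 := trfs L629039 (flp_h L273357) rfl
theorem L646679 : sm gf N32192 = N22172 := trfs L629034 L273545 rfl
theorem L646682 : sm gi N32192 = N22162 := trfs L629034 (flp_i L273539) rfl
theorem L646829 : sm gh N21696 = N31459 := trfs L628753 (flp_h L388039) rfl
theorem L646841 : sm gd N21787 = N29986 := trfs L628727 (flp_d L369635) rfl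
theorem L646849 : sm ge N21786 = N29987 := trfs L628700 L369647 rfl
theorem L646852 : sm gi N21786 = N29986 := trfs L628700 (flp_i L369643) rfl
theorem L646856 : sm gj N29966 = N43695 := trfs L628670 (flp_j L369510) rfl
theorem L646857 : N43695 = N43677 := eqes L646856 (flp_j L369366)
theorem L646858 : N43695 = N43677 := eqc rfl L646857 rfl
theorem L646864 : sm gg N43677 = N29980 := trfs L646858 L369508 rfl
theorem L646867 : sm ge N43100 = N29984 := trfs L628662 L369612 rfl
theorem L646870 : sm gj N43100 = N29991 := trfs L628662 L369615 rfl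
theorem L646877 : sm gc N43717 = N30812 := trfs L628653 (flp_c L380211) rfl
theorem L646884 : sm gc N21577 = N29991 := trfs L628650 L369681 rfl
theorem L646894 : sm ge N30814 = N46152 := trfs L628635 (flp_e L390062) rfl
theorem L646895 : N46152 = N44945 := eqes L646894 L380243
theorem L646896 : N46152 = N44945 := eqc rfl L646895 rfl
theorem L646897 : sm gg N30814 = N43717 := trfs L628635 (flp_g L369700) rfl
theorem L646902 : sm gd N44945 = N31628 := trfs L646896 (flp_d L390058) rfl
theorem L646906 : sm ga N31451 = N43615 := trfs L628631 (flp_a L546198) rfl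
theorem L646908 : sm ge N31451 = N21795 := trfs L628631 L269052 rfl
theorem L646910 : sm gg N31451 = N43685 := trfs L628631 (flp_g L369433) rfl
theorem L646912 : sm gh N31451 = N21794 := trfs L628631 (flp_h L269048) rfl
theorem L646917 : sm gc N43114 = N31450 := trfs L628622 L387906 rfl
theorem L646920 : sm gg N43114 = N31453 := trfs L628622 L387909 rfl
theorem L646923 : sm gb N45876 = N31453 := trfs L628612 L387955 rfl
theorem L646925 : sm gf N45876 = N31464 := trfs L628612 L387957 rfl
theorem L646927 : sm gj N45876 = N31458 := trfs L628612 L387959 rfl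
theorem L646929 : sm gi N45876 = N31451 := trfs L628612 (flp_i L387953) rfl
theorem L646938 : sm ge N31455 = N21584 := trfs L628599 L266619 rfl
theorem L646940 : sm gg N31455 = N43112 := trfs L628599 (flp_g L364550) rfl
theorem L646944 : sm gi N31455 = N21583 := trfs L628599 (flp_i L266614) rfl
theorem L646947 : sm gc N21585 = N31455 := trfs L628592 L387982 rfl
theorem L646950 : sm gh N21585 = N31453 := trfs L628592 (flp_h L387979) rfl
theorem L646954 : sm ge N43113 = N31450 := trfs L628589 L387922 rfl
theorem L646956 : sm gg N43113 = N31454 := trfs L628589 L387924 rfl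
theorem L646962 : sm gf N45452 = N31468 := trfs L628581 L388067 rfl
theorem L646966 : sm gc N21586 = N31454 := trfs L628578 L387971 rfl
theorem L646968 : sm ge N21586 = N31453 := trfs L628578 L387973 rfl
theorem L646971 : sm gf N45868 = N31467 := trfs L628575 L388035 rfl
theorem L646973 : sm gh N45868 = N31458 := trfs L628575 (flp_h L388031) rfl
theorem L646980 : sm gd N29990 = N45447 := trfs L628565 (flp_d L384353) rfl
theorem L646981 : N45447 = N43716 := eqes L646980 L369688
theorem L646982 : N45447 = N43716 := eqc rfl L646981 rfl
theorem L646983 : sm ge N29990 = N21577 := trfs L628565 (flp_e L266527) rfl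
theorem L646986 : sm gg N29990 = N21580 := trfs L628565 L266530 rfl
theorem L646992 : sm ge N43716 = N31151 := trfs L646982 (flp_e L384347) rfl
theorem L647000 : sm gf N31154 = N21825 := trfs L628557 L269298 rfl
theorem L647002 : sm gg N31154 = N43716 := trfs L628557 (flp_g L369693) rfl
theorem L647006 : sm gc N14989 = N21580 := trfs L628554 L266553 rfl
theorem L647008 : sm ge N14989 = N21579 := trfs L628554 (flp_e L266550) rfl
theorem L647010 : sm gj N14989 = N21583 := trfs L628554 L266555 rfl
theorem L647013 : sm gf N31432 = N21824 := trfs L628551 L269268 rfl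
theorem L647015 : sm gg N31432 = N43712 := trfs L628551 (flp_g L369658) rfl
theorem L647030 : sm gc N10313 = N14983 := trfs L628531 L185217 rfl
theorem L647037 : sm gf N21789 = N14994 := trfs L628528 L185267 rfl
theorem L647039 : sm gg N21789 = N29987 := trfs L628528 (flp_g L254225) rfl
theorem L647045 : sm gb N14982 = N21794 := trfs L628518 (flp_b L185099) rfl
theorem L647048 : sm ge N14982 = N10313 := trfs L628518 L127615 rfl
theorem L647051 : sm gg N14982 = N20601 := trfs L628518 (flp_g L175078) rfl
theorem L647053 : sm gi N14982 = N10312 := trfs L628518 (flp_i L127611) rfl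
theorem L647062 : sm gc N14984 = N10312 := trfs L628512 L127599 rfl
theorem L647064 : sm ge N14984 = N10311 := trfs L628512 (flp_e L127596) rfl
theorem L647068 : sm gh N14984 = N21583 := trfs L628512 (flp_h L183371) rfl
theorem L647072 : sm ge N14985 = N21790 := trfs L628505 L268993 rfl
theorem L647075 : sm gj N14985 = N21794 := trfs L628505 L268997 rfl
theorem L647077 : sm gi N14985 = N21789 := trfs L628505 (flp_i L268988) rfl
theorem L647080 : sm gd N20599 = N14981 := trfs L628497 L185202 rfl
theorem L647083 : sm gg N20599 = N14984 := trfs L628497 L185205 rfl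
theorem L647087 : sm gi N20599 = N14980 := trfs L628497 (flp_i L185199) rfl
theorem L647091 : sm gb N29977 = N43677 := trfs L628484 (flp_b L369360) rfl
theorem L647098 : sm gj N29977 = N20601 := trfs L628484 L254194 rfl
theorem L647105 : sm ge N29979 = N20595 := trfs L628481 (flp_e L254169) rfl
theorem L647109 : sm gj N29979 = N20599 := trfs L628481 L254174 rfl
theorem L647111 : sm gh N29979 = N43104 := trfs L628481 (flp_h L364481) rfl
theorem L647115 : sm gc N43101 = N29984 := trfs L628473 L369603 rfl
theorem L647117 : sm gf N43101 = N29994 := trfs L628473 L369605 rfl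
theorem L647119 : sm gj N43101 = N29990 := trfs L628473 L369607 rfl
theorem L647122 : sm gc N20596 = N29979 := trfs L628468 L369524 rfl
theorem L647126 : sm gi N20596 = N29977 := trfs L628468 (flp_i L369521) rfl
theorem L647131 : sm gc N20597 = N29978 := trfs L628459 L369515 rfl
theorem L647133 : sm ge N20597 = N29977 := trfs L628459 (flp_e L369512) rfl
theorem L647136 : sm gf N43672 = N29993 := trfs L628456 L369578 rfl
theorem L647138 : sm gj N43672 = N29987 := trfs L628456 L369580 rfl
theorem L647140 : sm gi N43672 = N29980 := trfs L628456 (flp_i L369573) rfl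
theorem L647144 : sm ge N20600 = N14980 := trfs L628441 (flp_e L185193) rfl
theorem L647146 : sm gg N20600 = N14983 := trfs L628441 L185196 rfl
theorem L647148 : sm gj N20600 = N29978 := trfs L628441 (flp_j L254149) rfl
theorem L647170 : sm gf N21592 = N31454 := trfs L628380 (flp_f L266575) rfl
theorem L647223 : sm ge N10317 = N7248 := trfs L628293 (flp_e L89778) rfl
theorem L647225 : sm gf N10317 = N14983 := trfs L628293 (flp_f L127580) rfl
theorem L647227 : sm gj N10317 = N7251 := trfs L628293 L89781 rfl
theorem L647231 : sm gd N7260 = N10472 := trfs L628281 (flp_d L129588) rfl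
theorem L647232 : N10472 = N10529 := eqes L647231 L89891
theorem L647233 : N10529 = N10472 := (eqc rfl L647232 rfl).symm
theorem L647235 : sm gg N7260 = N10473 := trfs L628281 L129592 rfl
theorem L647241 : sm gd N10472 = N7260 := trfs L647233 (flp_d L89891) rfl
theorem L647250 : sm ge N14995 = N10473 := trfs L628277 (flp_e L129616) rfl
theorem L647252 : sm gf N14995 = N21580 := trfs L628277 (flp_f L183349) rfl
theorem L647261 : sm gc N10476 = N14992 := trfs L628261 L185321 rfl
theorem L647264 : sm gj N10476 = N14995 := trfs L628261 L185326 rfl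
theorem L647276 : sm ge N10475 = N14992 := trfs L628255 (flp_e L127646) rfl
theorem L647292 : sm ge N15225 = N21592 := trfs L628245 (flp_e L183447) rfl
theorem L647295 : sm gg N15225 = N10485 := trfs L628245 L129718 rfl
theorem L647304 : sm gc N15229 = N21589 := trfs L628238 L266663 rfl
theorem L647307 : sm gj N15229 = N21592 := trfs L628238 L266668 rfl
theorem L647317 : sm gb N15228 = N22147 := trfs L628232 (flp_b L188067) rfl
theorem L647320 : sm ge N15228 = N21589 := trfs L628232 (flp_e L183418) rfl
theorem L647333 : sm gj N10481 = N15230 := trfs L628220 L188191 rfl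
theorem L647335 : sm gh N10481 = N15225 := trfs L628220 (flp_h L188186) rfl
theorem L647339 : sm gc N10482 = N15225 := trfs L628216 L188172 rfl
theorem L647342 : sm gj N10482 = N15228 := trfs L628216 L188177 rfl
theorem L647346 : sm ge N21588 = N15230 := trfs L628213 L188246 rfl
theorem L647349 : sm gh N21588 = N15229 := trfs L628213 (flp_h L188243) rfl
theorem L647353 : sm gc N10479 = N15230 := trfs L628209 L188236 rfl
theorem L647356 : sm gh N10479 = N15228 := trfs L628209 (flp_h L188233) rfl
theorem L647360 : sm ge N22144 = N31464 := trfs L628206 (flp_e L266655) rfl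
theorem L647363 : sm gj N22144 = N15235 := trfs L628206 L188266 rfl
theorem L647371 : sm gc N7257 = N10473 := trfs L628193 (flp_c L129606) rfl
theorem L647374 : sm gf N7257 = N10478 := trfs L628193 L129609 rfl
theorem L647376 : sm gj N7257 = N10475 := trfs L628193 L129611 rfl
theorem L647386 : sm gf N15231 = N10507 := trfs L628183 L129945 rfl
theorem L647391 : sm gi N15231 = N22144 := trfs L628183 (flp_i L188047) rfl
theorem L647396 : sm gj N5011 = N7252 := trfs L628175 L89791 rfl
theorem L647398 : sm gi N5011 = N7248 := trfs L628175 (flp_i L89784) rfl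
theorem L647402 : sm gc N5012 = N7248 := trfs L628171 (flp_c L89769) rfl
theorem L647405 : sm gj N5012 = N7250 := trfs L628171 L89774 rfl
theorem L647409 : sm ge N10314 = N7252 := trfs L628168 L89820 rfl
theorem L647412 : sm gi N10314 = N7251 := trfs L628168 (flp_i L89816) rfl
theorem L647415 : sm gc N5009 = N7252 := trfs L628165 L89809 rfl
theorem L647418 : sm gi N5009 = N7250 := trfs L628165 (flp_i L89806) rfl
theorem L647421 : sm ge N10502 = N14990 := trfs L628162 (flp_e L127627) rfl
theorem L647427 : sm gh N10502 = N15231 := trfs L628162 (flp_h L129678) rfl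
theorem L647431 : sm gd N3474 = N2409 := trfs L628149 (flp_d L30041) rfl
theorem L647435 : sm gj N3474 = N2410 := trfs L628149 L30046 rfl
theorem L647477 : sm gh N3471 = N2413 := trfs L628089 (flp_h L30091) rfl
theorem L647482 : sm gd N10486 = N13538 := trfs L628073 (flp_d L548010) rfl
theorem L647500 : sm gh N3480 = N5005 := trfs L628057 (flp_h L62101) rfl
theorem L647509 : sm gh N7277 = N10486 := trfs L628054 (flp_h L129747) rfl
theorem L647511 : sm ge N10498 = N14994 := trfs L628042 (flp_e L127664) rfl
theorem L647513 : sm gg N10498 = N7259 := trfs L628042 L89867 rfl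
theorem L647520 : sm gg N5006 = N3480 := trfs L628038 L43235 rfl
theorem L647527 : sm gg N10487 = N7277 := trfs L628035 L90064 rfl
theorem L647538 : sm gj N7255 = N10502 := trfs L628020 L129910 rfl
theorem L647540 : sm gi N7255 = N10498 := trfs L628020 (flp_i L129902) rfl
theorem L647546 : sm gj N3477 = N5008 := trfs L628016 L62126 rfl
theorem L647549 : sm gi N3477 = N5006 := trfs L628016 (flp_i L62118) rfl
theorem L647556 : sm gj N7274 = N10489 := trfs L628013 L129776 rfl
theorem L647559 : sm gi N7274 = N10487 := trfs L628013 (flp_i L129767) rfl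
theorem L647566 : sm gb N10504 = N7250 := trfs L628001 (flp_b L89793) rfl
theorem L647568 : sm gc N10504 = N15259 := trfs L628001 (flp_c L129918) rfl
theorem L647570 : sm gf N10504 = N7255 := trfs L628001 L89797 rfl
theorem L647574 : sm gh N10504 = N15226 := trfs L628001 (flp_h L129638) rfl
theorem L647577 : sm gc N5010 = N3473 := trfs L627997 (flp_c L43180) rfl
theorem L647579 : sm gd N5010 = N7250 := trfs L627997 (flp_d L62135) rfl
theorem L647581 : sm gf N5010 = N3477 := trfs L627997 L43183 rfl
theorem L647588 : sm gf N10491 = N7274 := trfs L627994 L89975 rfl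
theorem L647601 : sm gj N7239 = N5024 := trfs L627984 L62300 rfl
theorem L647685 : sm ga N10461 = N13538 := trfs L627889 L548979 rfl
theorem L647687 : sm gc N10461 = N13533 := trfs L627889 (flp_c L549045) rfl
theorem L647698 : sm ga N10394 = N13539 := trfs L627883 L166870 rfl
theorem L647700 : sm gc N10394 = N13534 := trfs L627883 L166872 rfl
theorem L647710 : sm ga N10443 = N13543 := trfs L627877 L166904 rfl
theorem L647714 : sm ge N10443 = N13534 := trfs L627877 L166908 rfl
theorem L647716 : sm gg N10443 = N13533 := trfs L627877 (flp_g L166902) rfl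
theorem L647725 : sm gc N10435 = N13543 := trfs L627871 L166960 rfl
theorem L647727 : sm ge N10435 = N13539 := trfs L627871 L166962 rfl
theorem L647729 : sm gg N10435 = N13538 := trfs L627871 (flp_g L166957) rfl
theorem L647735 : sm ge N15208 = N21824 := trfs L627857 (flp_e L185342) rfl
theorem L647737 : sm gg N15208 = N10528 := trfs L627857 L130174 rfl
theorem L647740 : sm ga N15181 = N19675 := trfs L627854 L242089 rfl
theorem L647743 : sm ge N15181 = N19662 := trfs L627854 L242092 rfl
theorem L647745 : sm gg N15181 = N19660 := trfs L627854 L242094 rfl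
theorem L647751 : sm gc N15170 = N19675 := trfs L627848 L242170 rfl
theorem L647755 : sm gg N15170 = N19666 := trfs L627848 L242174 rfl
theorem L647759 : sm ge N22139 = N31467 := trfs L627841 (flp_e L266685) rfl
theorem L647763 : sm gh N22139 = N15235 := trfs L627841 (flp_h L188286) rfl
theorem L647769 : sm gd N15238 = N22136 := trfs L627826 L273233 rfl
theorem L647772 : sm gg N15238 = N22139 := trfs L627826 L273236 rfl
theorem L647776 : sm gc N28590 = N22136 := trfs L627823 L272792 rfl
theorem L647779 : sm gg N28590 = N22099 := trfs L627823 L272795 rfl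
theorem L647785 : sm gd N15222 = N10485 := trfs L627820 (flp_d L129738) rfl
theorem L647791 : sm ga N28599 = N22136 := trfs L627817 L272617 rfl
theorem L647800 : sm gb N22013 = N28583 := trfs L627807 L549029 rfl
theorem L647803 : sm gd N22013 = N31471 := trfs L627807 (flp_d L266721) rfl
theorem L647805 : sm gf N22013 = N28576 := trfs L627807 L549032 rfl
theorem L647812 : sm gc N15111 = N19662 := trfs L627799 L242027 rfl
theorem L647815 : sm gg N15111 = N19656 := trfs L627799 L242029 rfl
theorem L647819 : sm ga N15207 = N19666 := trfs L627796 L549063 rfl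
theorem L647821 : sm gc N15207 = N19660 := trfs L627796 L549065 rfl
theorem L647823 : sm gd N15207 = N10528 := trfs L627796 (flp_d L130191) rfl
theorem L647825 : sm ge N15207 = N19656 := trfs L627796 L549067 rfl
theorem L647836 : sm gb N15121 = N19656 := trfs L627787 L549015 rfl
theorem L647839 : sm gd N15121 = N21828 := trfs L627787 (flp_d L185371) rfl
theorem L647850 : sm gf N19653 = N15121 := trfs L627775 L185996 rfl
theorem L647852 : sm gg N19653 = N15044 := trfs L627775 L185998 rfl
theorem L647856 : sm gb N13531 = N10402 := trfs L627767 L128677 rfl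
theorem L647859 : sm ge N13531 = N10461 := trfs L627767 L128680 rfl
theorem L647861 : sm gg N13531 = N10394 := trfs L627767 (flp_g L128675) rfl
theorem L647874 : sm gf N13530 = N10402 := trfs L627759 L128115 rfl
theorem L647886 : sm ga N10344 = N13518 := trfs L627746 L166639 rfl
theorem L647888 : sm gc N10344 = N13515 := trfs L627746 L166641 rfl
theorem L647891 : sm gf N10344 = N13514 := trfs L627746 (flp_f L166637) rfl
theorem L647900 : sm gb N10350 = N13514 := trfs L627738 (flp_b L166628) rfl
theorem L647905 : sm gg N10350 = N13530 := trfs L627738 L166632 rfl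
theorem L647926 : sm gc N13503 = N10343 := trfs L627722 L127930 rfl
theorem L647929 : sm gf N13503 = N10335 := trfs L627722 (flp_f L127927) rfl
theorem L647941 : sm ga N13505 = N10343 := trfs L627716 L127843 rfl
theorem L647946 : sm gf N13505 = N10329 := trfs L627716 (flp_f L127841) rfl
theorem L647951 : sm gb N19629 = N15044 := trfs L627710 L185910 rfl
theorem L647954 : sm gf N19629 = N15037 := trfs L627710 L185913 rfl
theorem L647956 : sm gj N19629 = N15036 := trfs L627710 L185915 rfl
theorem L647961 : sm gc N19613 = N15036 := trfs L627701 L185757 rfl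
theorem L647964 : sm gf N19613 = N15024 := trfs L627701 L185760 rfl
theorem L647972 : sm gb N28542 = N21898 := trfs L627689 L270223 rfl
theorem L647977 : sm gj N28542 = N21888 := trfs L627689 L270228 rfl
theorem L647981 : sm gc N28517 = N21888 := trfs L627684 L270008 rfl
theorem L647984 : sm gf N28517 = N21871 := trfs L627684 L270011 rfl
theorem L647988 : sm ga N28528 = N21871 := trfs L627662 L269667 rfl
theorem L647990 : sm gc N28528 = N21858 := trfs L627662 L269669 rfl
theorem L647992 : sm ge N28528 = N21848 := trfs L627662 L269671 rfl
theorem L647994 : sm gg N28528 = N21845 := trfs L627662 L269673 rfl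
theorem L647998 : sm gc N21861 = N28561 := trfs L627651 L351199 rfl
theorem L648000 : sm ge N21861 = N28554 := trfs L627651 L351201 rfl
theorem L648004 : sm ga N21890 = N28554 := trfs L627647 L351061 rfl
theorem L648006 : sm gc N21890 = N28547 := trfs L627647 L351063 rfl
theorem L648008 : sm gf N21890 = N28542 := trfs L627647 L351065 rfl
theorem L648011 : sm ga N28563 = N21976 := trfs L627637 L270882 rfl
theorem L648013 : sm gc N28563 = N21957 := trfs L627637 L270884 rfl
theorem L648015 : sm ge N28563 = N21943 := trfs L627637 L270886 rfl
theorem L648017 : sm gj N28563 = N21938 := trfs L627637 L270888 rfl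
theorem L648021 : sm gc N22085 = N28612 := trfs L627626 L351807 rfl
theorem L648023 : sm ge N22085 = N28602 := trfs L627626 L351809 rfl
theorem L648025 : sm gg N22085 = N28599 := trfs L627626 L351811 rfl
theorem L648028 : sm ga N22000 = N28602 := trfs L627622 L351602 rfl
theorem L648030 : sm gc N22000 = N28592 := trfs L627622 L351604 rfl
theorem L648032 : sm gg N22000 = N28583 := trfs L627622 L351606 rfl
theorem L648035 : sm ga N28615 = N21974 := trfs L627614 L270864 rfl
theorem L648037 : sm gc N28615 = N21955 := trfs L627614 L270866 rfl
theorem L648039 : sm ge N28615 = N22059 := trfs L627614 L270868 rfl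
theorem L648041 : sm gf N28615 = N21938 := trfs L627614 L270870 rfl
theorem L648047 : sm gc N10372 = N13545 := trfs L627607 L166977 rfl
theorem L648051 : sm gj N10372 = N13539 := trfs L627607 (flp_j L166974) rfl
theorem L648058 : sm ga N19678 = N15093 := trfs L627595 L186336 rfl
theorem L648060 : sm gc N19678 = N15080 := trfs L627595 L186338 rfl
theorem L648062 : sm ge N19678 = N15152 := trfs L627595 L186340 rfl
theorem L648064 : sm gf N19678 = N15068 := trfs L627595 L186342 rfl
theorem L648068 : sm ga N29009 = N22001 := trfs L627581 L271095 rfl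
theorem L648070 : sm gc N29009 = N21954 := trfs L627581 (flp_c L271093) rfl
theorem L648072 : sm gf N29009 = N21958 := trfs L627581 L271097 rfl
theorem L648076 : sm ga N19668 = N15111 := trfs L627571 L186492 rfl
theorem L648079 : sm ge N19668 = N15170 := trfs L627571 L186495 rfl
theorem L648083 : sm gj N19668 = N15080 := trfs L627571 L186499 rfl
theorem L648085 : sm ga N21999 = N28601 := trfs L627567 L351593 rfl
theorem L648087 : sm gc N21999 = N28981 := trfs L627567 L351597 rfl
theorem L648089 : sm gg N21999 = N28582 := trfs L627567 L351595 rfl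
theorem L648093 : sm gc N15081 = N19643 := trfs L627558 L241777 rfl
theorem L648095 : sm gf N15081 = N19668 := trfs L627558 L241779 rfl
theorem L648099 : sm ga N28882 = N22004 := trfs L627555 L271122 rfl
theorem L648101 : sm gc N28882 = N21956 := trfs L627555 (flp_c L271120) rfl
theorem L648103 : sm ge N28882 = N45364 := trfs L627555 (flp_e L383752) rfl
theorem L648104 : N45364 = N42075 := eqes L648103 L355658
theorem L648105 : N45364 = N42075 := eqc rfl L648104 rfl
theorem L648106 : sm gj N28882 = N21958 := trfs L627555 L271124 rfl
theorem L648109 : sm ga N42075 = N31143 := trfs L648105 L383750 rfl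
theorem L648111 : sm gc N42075 = N31094 := trfs L648105 (flp_c L383748) rfl
theorem L648113 : sm gj N42075 = N31096 := trfs L648105 L383754 rfl
theorem L648116 : sm ga N41583 = N30946 := trfs L627545 L381558 rfl
theorem L648119 : sm gd N41583 = N30913 := trfs L627545 (flp_d L381556) rfl
theorem L648121 : sm gg N41583 = N31094 := trfs L627545 L381561 rfl
theorem L648123 : sm gj N41583 = N30914 := trfs L627545 L381563 rfl
theorem L648126 : sm ga N19637 = N15037 := trfs L627542 L185644 rfl
theorem L648129 : sm ge N19637 = N15018 := trfs L627542 L185647 rfl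
theorem L648131 : sm gg N19637 = N15081 := trfs L627542 L185649 rfl
theorem L648135 : sm ga N21889 = N28553 := trfs L627538 L351052 rfl
theorem L648137 : sm gc N21889 = N28863 := trfs L627538 L351056 rfl
theorem L648139 : sm gf N21889 = N28541 := trfs L627538 L351054 rfl
theorem L648143 : sm gc N15015 = N19619 := trfs L627529 L241500 rfl
theorem L648147 : sm gj N15015 = N19637 := trfs L627529 L241504 rfl
theorem L648149 : sm ga N28798 = N21891 := trfs L627526 L269863 rfl
theorem L648151 : sm gc N28798 = N21857 := trfs L627526 (flp_c L269861) rfl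
theorem L648153 : sm ge N28798 = N45094 := trfs L627526 (flp_e L381583) rfl
theorem L648154 : N45094 = N41948 := eqes L648153 L354516
theorem L648155 : N45094 = N41948 := eqc rfl L648154 rfl
theorem L648156 : sm gg N28798 = N21859 := trfs L627526 L269865 rfl
theorem L648159 : sm ga N41948 = N30948 := trfs L648155 L381581 rfl
theorem L648161 : sm gc N41948 = N30914 := trfs L648155 (flp_c L381579) rfl
theorem L648163 : sm gg N41948 = N30916 := trfs L648155 L381585 rfl
theorem L648166 : sm ga N19616 = N15036 := trfs L627517 L185635 rfl
theorem L648170 : sm gf N19616 = N15015 := trfs L627517 L185639 rfl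
theorem L648173 : sm ga N21887 = N28522 := trfs L627513 L350670 rfl
theorem L648175 : sm gc N21887 = N28786 := trfs L627513 L350675 rfl
theorem L648178 : sm gj N21887 = N28541 := trfs L627513 L350673 rfl
theorem L648181 : sm ge N44042 = N44042 := ded_34_4 (flp_d L372567) L256176 L404349 (flp_e L256176) L372567
theorem L648182 : sm gf N41565 = N31898 := ded_55_48 (flp_e L381958) L381956 L262510 (flp_c L641202) (flp_d L355242) L641228 (flp_h L636244) L353394 L243254 L176491 L644285 L643999 L141278 L566932 (flp_i L176447) (flp_h L121621) L84031 (flp_f L58186) (flp_e L40388) (flp_d L38623) (flp_b L38621) (flp_c L26921) (flp_d L18836) L13214 (flp_h L9265) (flp_d L9188) L9190 L6407 L6405 L4474 L4475 L3210 (flp_i L3205) L3196 L4673 (flp_f L6702) L9602 L9610 L9605 (flp_c L10361) L14798 L21178 L410305 L21184 L14816 L14814 L10373 L10370 L10371 L7250 (flp_i L5012) (flp_h L3426) L2341 (flp_f L2336) L1615 L1120 (flp_b L1070) L1072 (flp_d L1512) L2223 L3273 L4760 L4765 L6861 (flp_d L9709) L9704 (flp_c L10517) L15026 (flp_i L21476) (flp_h L457578) (flp_d L17157) L17164 L17171 (flp_d L24625)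 (flp_b L31578) (flp_c L45461) (flp_d L59634) (flp_i L85987) L124557 (flp_d L576382) L178062 (flp_e L168556) L244522 L244526 (flp_c L241683) (flp_d L241677) L241686 L241695 (flp_d L351084)
theorem L648184 : sm gi N32473 = N32473 := ded_26_2 (flp_b L275026) L411538 L275026
theorem L648185 : N43104 = N45637 := coi_56_45 (flp_d L385881) L265161 (flp_b L265028) (flp_a L513217) (flp_h L367130) L252503 (flp_e L252495) L173866 L119889 L82907 L57458 L82975 L82980 L57478 (flp_d L57278) (flp_c L561090) L51910 L36040 L36140 L36145 (flp_e L52087) L417297 L52085 L36186 (flp_a L32189) (flp_h L32187) L32168 L32175 (flp_d L45811) (flp_c L64677) (flp_b L93495) (flp_a L624819) L624826 (flp_f L46033) L31941 L22211 (flp_c L20212) L20210 L14137 L14142 (flp_f L14401) L14399 (flp_d L20608) L20607 (flp_b L29554) (flp_a L42471) L61293 L61298 (flp_e L61644) L89157 L129226 L187620 L272728 L272733 (flp_f L273781) L645855 L369096 L254069 (flp_b L175087) L120716 (flp_h L172700) (flp_f L250679) L364474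
theorem L648186 : N45637 = N43104 := (eqc rfl L648185 rfl).symm
theorem L648188 : sm gd N43104 = N31279 := trfs L648186 (flp_d L385881) rfl
theorem L648191 : sm gc N33791 = N42786 := ded_33_3 (flp_i L361811) (flp_c L590518) L286652
theorem L648193 : sm gh N42820 = N34521 := ded_54_3 (flp_i L292776) L201389 L420192 (flp_h L249120) L362118
theorem L648195 : N42761 = N43502 := coi_34_5 (flp_d L367867) L420205 L201391 L523379 L248738 L361587
theorem L648196 : N43502 = N42761 := (eqc rfl L648195 rfl).symm
theorem L648197 : sm gb N42761 = N29846 := trfs L648196 L367869 rfl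
theorem L648199 : sm gd N42761 = N29845 := trfs L648196 (flp_d L367867) rfl
theorem L648201 : sm gf N42761 = N31636 := trfs L648196 L367871 rfl
theorem L648205 : N44560 = N42621 := coi_56_35 (flp_h L360456) L248009 L552340 (flp_d L137459) L94773 L65547 L45417 (flp_h L35364) L24581 (flp_e L24576) L17128 L11962 L8352 (flp_a L10694) L10696 (flp_f L10692) (flp_e L7462) (flp_d L5160) L3552 (flp_b L4753) L4752 (flp_h L4750) L3270 (flp_e L4688) (flp_d L6762) L6761 L6759 L5071 L5656 (flp_f L8058) (flp_e L11513) L16458 L432388 L16460 (flp_a L21213) L21218 L21215 L30427 L30434 L585522 (flp_b L23056) L23054 L23111 (flp_f L32590) L32588 (flp_d L31635) (flp_c L45535) (flp_b L64156) (flp_a L92681) (flp_h L92679) (flp_f L64079) L44416 (flp_d L58693) (flp_c L58687) L40740 L40738 L40765 (flp_f L58752) (flp_e L84881) L122909 L178379 L259162 L376983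
theorem L648206 : N44560 = N42621 := eqc rfl L648205 rfl
theorem L648207 : sm ga N42621 = N30556 := trfs L648206 (flp_a L376983) rfl
theorem L648209 : sm gc N42621 = N30570 := trfs L648206 L376985 rfl
theorem L648212 : sm gc N41929 = N31895 := ded_56_25 L270239 L186029 L186031 (flp_f L262596) (flp_e L262591) (flp_d L180673) (flp_c L177447) (flp_b L257699) (flp_a L374538) (flp_h L374536) (flp_f L257491) L177255 L122173 L84419 L594599 (flp_a L598687) L34162 L34163 (flp_e L625754) L48266 L33590 L23418 (flp_a L30320) (flp_h L43550) (flp_f L43544) (flp_e L30290) (flp_d L21110) (flp_c L572520) L12797 L12795 (flp_h L487833) L11424 L8098 L8097 L8095 L5614 (flp_a L7287) L10431 (flp_f L14765) (flp_e L21104) L30270 L432417 (flp_b L40227) L40226 L40233 L40229 L57937 L57946 (flp_c L57963) (flp_b L593080) L47214 L47321 (flp_f L67193) L67191 L67214 (flp_c L94476) (flp_b L133419) (flp_a L576102) (flp_h L576213) L257454 (flp_e L576221) L576219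
theorem L648214 : sm ga N34354 = N41994 := ded_14_3 L354946 L473694 L291424
theorem L648216 : sm ga N34355 = N44416 := ded_18_3 (flp_i L375825) L473694 L291429
theorem L648218 : sm gb N45012 = N33429 := ded_25_3 L473777 (flp_b L621686) (flp_h L380856)
theorem L648220 : sm gc N41594 = N33429 := ded_32_3 L473777 L621502 (flp_h L636882)
theorem L648222 : sm gh N34355 = N42092 := ded_43_2 L636046 L473777 (flp_e L291431)
theorem L648224 : sm gg N44426 = N33429 := ded_50_3 L473777 (flp_g L622059) (flp_h L375919)
theorem L648226 : sm gj N44218 = N33429 := ded_52_3 L473777 (flp_j L621514) (flp_h L374078)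
theorem L648228 : sm ga N42169 = N32245 := ded_13_3 L273144 L475481 (flp_e L356501)
theorem L648230 : sm ga N42015 = N32054 := ded_14_3 L271544 L475481 (flp_f L355138)
theorem L648232 : sm gh N32245 = N42236 := ded_43_2 L357107 L475501 (flp_e L273144)
theorem L648234 : N32054 = N32034 := coi_47_2 (flp_h L271400) L642690 L475501 (flp_f L271544)
theorem L648235 : N32054 = N32034 := eqc rfl L648234 rfl
theorem L648236 : sm ga N32034 = N42015 := trfs L648235 (flp_a L648230) rfl
theorem L648239 : sm gc N32034 = N45423 := trfs L648235 (flp_c L384157) rfl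
theorem L648242 : sm gf N32034 = N22131 := trfs L648235 L271544 rfl
theorem L648244 : sm gj N32034 = N21995 := trfs L648235 L271546 rfl
theorem L648246 : sm gi N32034 = N21994 := trfs L648235 (flp_i L271540) rfl
theorem L648248 : sm gc N34993 = N41743 := ded_56_39 L352664 L242798 (flp_h L242796) L167392 (flp_e L121220) L83767 L58014 L40277 L30320 (flp_h L33556) (flp_f L33551) (flp_e L23390) (flp_d L16347) L571989 L8977 L6255 L9020 L9024 L6266 L6270 L6265 (flp_b L572428) (flp_a L10421) (flp_h L478895) L12793 L18300 L18308 (flp_c L585491) (flp_b L27994) L27993 (flp_h L27991) L19541 L19539 L13677 (flp_c L13185) L13184 L13183 L18815 L18822 L13229 L13319 L19005 L27198 L39049 (flp_h L56137) L56133 L80973 L117051 L169641 L246160 L246168 L357730 L614196 L246359 L169785 (flp_c L168055) (flp_b L243731) L554821 L185877 L140857 (flp_e L204389) (flp_d L644858)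
theorem L648250 : sm gh N32045 = N44507 := ded_43_2 L376581 L483283 (flp_e L271472)
theorem L648252 : sm gh N31880 = N44275 := ded_50_2 L374596 L483283 (flp_g L270116)
theorem L648254 : sm gd N44863 = N32224 := ded_38_3 (flp_h L272979) L187776 L483431 (flp_d L260899) L379587
theorem L648256 : sm gh N42234 = N32242 := ded_54_3 (flp_i L273119) L187884 L483597 L245703 L357084
theorem L648258 : sm ga N32222 = N42166 := ded_12_3 (flp_d L356469) L483605 (flp_d L272967)
theorem L648260 : sm ga N32047 = N42009 := ded_13_3 L355088 L483605 (flp_e L271489)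
theorem L648262 : sm ga N32241 = N42165 := ded_16_3 L356467 L483605 L273112
theorem L648264 : sm ga N32242 = N42167 := ded_18_3 (flp_i L356478) L483605 L273119
theorem L648266 : sm gi N34721 = N44826 := ded_33_2 L379283 L483771 (flp_c L294351)
theorem L648268 : sm gi N35216 = N44502 := ded_44_2 L376539 L483771 (flp_e L298515)
theorem L648270 : sm gi N35305 = N42231 := ded_53_2 L357063 L483771 L299213
theorem L648272 : sm ga N34721 = N44725 := ded_11_3 L378432 L483773 (flp_c L294351)
theorem L648274 : sm ga N35216 = N44129 := ded_13_3 L641002 L483773 (flp_e L298515)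
theorem L648276 : sm ga N35305 = N42164 := ded_16_3 L356459 L483773 L299213
theorem L648278 : sm ga N32238 = N44553 := ded_17_3 L635164 L483773 (flp_h L273092)
theorem L648280 : sm gi N41840 = N35200 := ded_51_2 (flp_g L298398) L483826 (flp_g L353531)
theorem L648282 : sm gh N41737 = N34993 := ded_54_3 (flp_i L296680) L204221 L483983 L644996 (flp_i L352613)
theorem L648284 : sm ga N34993 = N41742 := ded_13_3 L352658 L644917 (flp_e L296683)
theorem L648286 : sm gb N34778 = N42815 := ded_21_1 L362074 (flp_b L362936) L490566
theorem L648288 : sm gd N34778 = N42802 := ded_34_1 L361954 L249035 (flp_e L249659) (flp_d L362938) L490566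
theorem L648290 : sm gh N34885 = N42815 := ded_43_2 L362074 L363098 L490854
theorem L648292 : sm gh N34877 = N42817 := ded_43_2 L362094 L363121 L490863
theorem L648294 : sm gi N34097 = N41923 := ded_33_2 L354286 L501670 (flp_c L289315)
theorem L648296 : sm gi N35021 = N41931 := ded_48_2 (flp_f L354359) L501670 (flp_f L296911)
theorem L648298 : sm gh N42056 = N32051 := ded_50_2 L271523 L501721 (flp_g L355508)
theorem L648300 : sm gh N41935 = N31885 := ded_52_2 L270156 L501721 (flp_j L354403)
theorem L648302 : sm gi N42040 = N34387 := ded_33_2 L291642 L501798 (flp_c L355369)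
theorem L648304 : sm gi N42052 = N35219 := ded_48_2 L298538 L501798 (flp_f L355472)
theorem L648306 : sm ga N34387 = N41996 := ded_11_3 L354964 L501800 (flp_c L291642)
theorem L648308 : sm ga N35176 = N41812 := ded_12_3 L353285 L501800 (flp_d L641451)
theorem L648310 : sm ga N35219 = N42008 := ded_14_3 L355080 L501800 (flp_f L298538)
theorem L648312 : sm ga N32018 = N41903 := ded_15_3 L354088 L501800 (flp_g L642530)
theorem L648314 : sm ga N32050 = N42010 := ded_17_3 (flp_h L355094) L501800 (flp_h L271516)
theorem L648316 : sm ga N32041 = N42011 := ded_12_3 (flp_d L355102) L501809 (flp_d L271444)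
theorem L648318 : sm ga N32051 = N42012 := ded_18_3 (flp_i L355109) L501809 L271518
theorem L648320 : sm gi N42037 = N34378 := ded_51_2 (flp_g L291576) L501877 L355341
theorem L648322 : sm gi N44562 = N34354 := ded_54_4 L291426 L501877 (flp_h L640415) L259167 L376995
theorem L648324 : sm gi N42028 = N33488 := ded_51_2 (flp_g L284049) L501898 L355253
theorem L648326 : sm gi N33206 = N41918 := ded_51_2 (flp_g L354231) L501931 L281649
theorem L648328 : sm ga N33206 = N42348 := ded_15_3 (flp_g L358081) L501933 L281649
theorem L648330 : sm gf N31918 = N42330 := ded_56_50 (flp_e L357907) (flp_d L246271) L169695 L117093 L81016 (flp_h L81014) L81005 L117111 L117118 L117114 (flp_b L169703) (flp_a L246192) L357799 L357806 L357804 L246218 (flp_c L246449) (flp_b L358092) L501944 L257668 (flp_f L193738) (flp_e L133436) (flp_d L92048) L63668 L44137 L30703 (flp_h L23806) L23798 L34164 L626157 L25420 L598671 (flp_a L44082) L589301 L36399 (flp_e L52403) L52402 (flp_c L585909) (flp_b L83725) L83724 L83729 (flp_f L83584) L83581 L83580 (flp_c L643171) L643169 L90833 L90874 (flp_f L625267) L67183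 (flp_d L61069) L61067 L42356 L29459 L42417 L42421 (flp_e L61165) L88438 L128162 L186059 L270426 L270431
theorem L648332 : sm gi N33908 = N42193 := ded_44_2 L356727 L502244 (flp_e L287657)
theorem L648334 : sm gi N33491 = N42030 := ded_48_2 L355281 L502244 (flp_f L284078)
theorem L648336 : sm gi N42209 = N34717 := ded_39_2 L294325 L502275 (flp_d L356877)
theorem L648338 : sm gi N42213 = N34724 := ded_48_2 L294375 L502275 (flp_f L356913)
theorem L648340 : sm ga N34717 = N42142 := ded_12_3 L356253 L502296 (flp_d L294325)
theorem L648342 : sm ga N34724 = N42146 := ded_14_3 L356293 L502296 (flp_f L294375)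
theorem L648344 : sm ga N33908 = N42826 := ded_10_3 L362177 L249258 (flp_b L245188) L502296 (flp_b L287654)
theorem L648346 : sm ga N33491 = N42541 := ded_14_3 L359813 L502338 (flp_f L284078)
theorem L648348 : sm gi N33905 = N42192 := ded_48_2 (flp_f L356711) L502365 (flp_f L287634)
theorem L648350 : sm ga N33905 = N42825 := ded_14_3 (flp_f L362166) L502367 (flp_f L287634)
theorem L648352 : sm gh N45014 = N34038 := ded_54_3 (flp_i L288806) (flp_h L198644) (flp_i L612459) L504195 L380865
theorem L648354 : sm gh N45079 = N34198 := ded_54_3 (flp_i L290197) L199595 L622611 L262123 L381423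
theorem L648356 : sm gb N34160 = N45079 := ded_25_3 L648354 L504807 (flp_h L289872)
theorem L648358 : sm ga N45012 = N34198 := ded_10_5 L504807 L200114 (flp_b L195275) (flp_a L283577) (flp_b L648218)
theorem L648360 : sm gh N33880 = N44791 := ded_54_3 (flp_i L378955) (flp_h L260480) L505908 (flp_h L197655) L287426
theorem L648362 : sm ga N32068 = N42591 := ded_10_5 L506546 L248155 (flp_b L244747) L648099 L271656
theorem L648364 : sm gb N41679 = N32150 := ded_20_3 L272350 (flp_b L642968) (flp_d L352059)
theorem L648366 : sm ge N32162 = N44765 := ded_28_2 L378742 L507732 (flp_c L272451)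
theorem L648368 : sm ge N32156 = N44762 := ded_41_3 L378722 L507732 (flp_g L272402)
theorem L648370 : sm ga N44765 = N32232 := ded_11_3 L273043 L507737 (flp_c L378742)
theorem L648372 : sm ga N42174 = N32236 := ded_14_3 L273077 L507737 (flp_f L356545)
theorem L648374 : sm ga N44762 = N32224 := ded_15_3 L272984 L507737 (flp_g L378722)
theorem L648376 : sm ga N32230 = N42170 := ded_11_3 (flp_c L356508) L507803 (flp_c L273029)
theorem L648378 : sm ga N32234 = N42168 := ded_16_3 L356493 L507803 L273057
theorem L648380 : sm ga N32235 = N42171 := ded_18_3 (flp_i L356514) L507803 L273065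
theorem L648382 : sm ga N32231 = N42173 := ded_18_3 (flp_i L356532) L507816 L273033
theorem L648384 : sm ga N42919 = N33875 := ded_13_1 (flp_e L287386) (flp_a L286929) (flp_e L547021)
theorem L648386 : sm gj N42919 = N34647 := ded_42_2 L293756 (flp_j L615052) (flp_e L547021)
theorem L648388 : sm ga N33880 = N42923 := ded_13_3 L508205 L286960 (flp_e L287430)
theorem L648390 : sm gc N33825 = N42820 := ded_28_1 L362123 (flp_c L362980) L508205
theorem L648392 : sm gb N34647 = N42917 := ded_21_3 L508308 L614700 (flp_e L293756)
theorem L648394 : sm ge N31767 = N42218 := ded_56_2 L356959 (flp_c L245739) L169334 L169332 L116961 L116958 L85519 (flp_d L85514) (flp_c L85436) L85434 (flp_a L86810) (flp_h L86808) (flp_f L82097) (flp_e L82090) L56877 L56875 L39526 L39524 L39576 L39580 L27544 L20206 (flp_c L20683) L20682 (flp_a L29645) (flp_h L29643) L29633 L42658 L42666 L42662 L29655 L29653 L29744 L29750 L29748 (flp_d L29002) (flp_c L41699) (flp_b L59128) (flp_a L85353) (flp_h L85351) (flp_f L59055) (flp_e L56009) L56012 (flp_c L56005) L38937 L38935 L38964 (flp_f L56071) (flp_e L80890) L116954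 L169527 L246019 L357532 L357539 L357536 L261303 (flp_d L379879) L379877 (flp_b L386702) (flp_a L386697) (flp_h L512620) L369497
theorem L648396 : sm gd N33488 = N45108 := ded_56_59 L381690 L262468 L180660 L262561 L262565 L181726 L183319 L646884 (flp_b L369428) L512801 L268728 L184969 (flp_e L184965) (flp_d L127378) L87903 L60837 L42232 (flp_h L42230) (flp_f L29339) L20445 L14277 L10002 L6980 L5298 L4106 L2882 (flp_e L4183) L4182 (flp_c L6072) (flp_b L8750) (flp_a L12493) (flp_h L17353) (flp_f L24644) L24641 (flp_d L35423) (flp_c L598584) (flp_b L65564) (flp_a L589057) L589063 L65466 (flp_e L66002) L66000 (flp_c L66652) L561712 L82672 (flp_h L82670) L82657 L82661 (flp_d L118331) L118330 (flp_b L171499) L543784 (flp_h L203130) L203127 L537198 L171409 (flp_c L171721) (flp_b L249182) L554471 L179728 (flp_f L195407) (flp_e L284054)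
theorem L648398 : sm gb N42218 = N31768 := ded_56_5 (flp_a L512960) L363966 L364121 L364127 L266206 L187815 L129366 (flp_a L547433) L169076 L169072 (flp_e L549269) (flp_d L89045) L61561 L42716 L42714 (flp_h L29744) L20695 (flp_e L20687) L14444 L10110 L7757 L5375 (flp_h L5866) (flp_f L5861) (flp_e L4030) L2759 (flp_c L2752) L1904 (flp_a L2448) L2453 L1725 L1738 L1745 L1201 (flp_b L1603) L1602 L1607 L2327 L2335 (flp_d L3386) (flp_c L4925) (flp_b L7094) (flp_a L10160) (flp_h L14235) (flp_f L14227) (flp_e L9958) (flp_d L9514) L9513 L9519 (flp_a L9511) L6650 (flp_f L9438) L13454 L19221 L27527 (flp_b L38954) (flp_a L56007) L80790 (flp_f L116796) (flp_e L169251) L245615 L356952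
theorem L648400 : sm ge N42941 = N33878 := ded_44_3 (flp_i L287410) L513589 L363130
theorem L648402 : sm ga N33878 = N42820 := ded_18_3 (flp_i L362118) L513594 L287410
theorem L648404 : sm ga N44758 = N32211 := ded_11_3 L272878 L521060 L378690
theorem L648406 : sm ga N42282 = N32213 := ded_14_3 (flp_f L272893) L521060 (flp_f L640974)
theorem L648408 : sm ga N44759 = N32214 := ded_18_3 (flp_i L272901) L521060 L378696
theorem L648410 : sm gc N44660 = N32157 := ded_11_2 (flp_a L272406) L521168 L377839
theorem L648412 : sm gc N44657 = N32151 := ded_30_3 L272359 L521168 (flp_g L377817)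
theorem L648414 : sm gc N44661 = N32159 := ded_33_3 (flp_i L272421) L521168 L377848
theorem L648416 : sm ga N32038 = N42013 := ded_14_3 L355122 L521669 L271425
theorem L648418 : sm ga N32030 = N42067 := ded_15_3 L642639 L521669 (flp_g L271376)
theorem L648420 : sm ga N31874 = N41942 := ded_16_3 L642729 L521669 (flp_j L270066)
theorem L648422 : sm ga N32015 = N41941 := ded_17_3 L641361 L521669 (flp_h L271265)
theorem L648424 : sm ga N32039 = N44444 := ded_18_3 (flp_i L376053) L521669 L271430
theorem L648426 : sm ge N44444 = N31975 := ded_44_3 (flp_i L270926) L521679 L376053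
theorem L648428 : sm gd N34097 = N41940 := ded_56_59 L354443 L244023 L168238 L632030 (flp_f L644181) L168258 (flp_d L166615) L166611 (flp_b L642748) L127771 (flp_h L88285) L61063 (flp_e L61055) L42331 L32351 L22540 L15738 L17719 L17722 L12360 L8846 L8842 L597601 (flp_a L14913) L571957 L18011 L25802 L25809 (flp_c L582992) (flp_b L40248) L40247 L40252 L40274 L40284 L28203 (flp_c L28611) (flp_b L41125) (flp_a L59253) L59260 (flp_f L59251) (flp_e L41101) (flp_d L39052) L39051 L39060 (flp_a L39049) (flp_h L39023) L39019 L56141 L80985 L117073 L117080 (flp_a L169643) L246180 (flp_f L357765) L614127 L246324 (flp_c L246568) (flp_b L354021) L554829 L262444 L199016 (flp_e L289317)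
theorem L648430 : sm ga N34521 = N42786 := ded_12_3 L361814 L523399 (flp_d L292780)
theorem L648432 : sm ga N34825 = N42783 := ded_15_3 L361796 L523399 (flp_g L295222)
theorem L648434 : sm ga N34822 = N42802 := ded_18_3 (flp_i L361950) L523502 L295194
theorem L648436 : sm ga N34819 = N42800 := ded_18_3 (flp_i L361931) L523542 L295170
theorem L648438 : sm gb N42316 = N31911 := ded_19_3 L270371 (flp_b L270239) (flp_c L648212) L526584 (flp_c L357776)
theorem L648440 : sm gc N35176 = N41813 := ded_56_25 L353293 L243234 (flp_h L243232) L243211 L243219 L243215 L168476 (flp_b L170754) (flp_a L247674) L360015 L360022 L247699 (flp_d L247323) (flp_c L359378) L614344 L247493 (flp_h L247491) (flp_f L247479) L247477 L171564 L616698 (flp_b L96762) L66921 (flp_h L560787) (flp_f L616844) L52077 L36135 L36133 L25149 (flp_a L22394) L32205 L32210 (flp_e L46359) L66910 L96752 L624335 L119302 (flp_h L561216) (flp_f L108523) L74989 L51912 L561090 (flp_b L527959) L46161 L46265 L46270 (flp_e L66797) L96614 L140026 (flp_b L616278) L171562 L249050 L249054 L171580 L118378 (flp_c L116739) (flp_b L169090)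 (flp_a L575157) L129450 (flp_f L141654) (flp_e L205519) (flp_d L641451)
theorem L648442 : sm gd N32332 = N41671 := ded_55_59 (flp_b L351989) (flp_c L242299) (flp_d L167047) L167056 L167064 (flp_d L242310) L242314 L242312 L169537 L116964 L80951 (flp_d L82345) (flp_i L82342) L57032 (flp_d L40108) L27901 L20451 L14287 (flp_b L14549) L14551 (flp_d L20421) L29330 (flp_h L563515) L39951 (flp_f L39945) L27803 L20357 L22413 L22420 L17564 (flp_i L25036) L527990 (flp_d L27611) L27620 L27628 (flp_d L39667) (flp_b L579570) L36052 L25083 L25084 (flp_h L25076) L17453 (flp_f L12173) (flp_e L8489) L5880 (flp_b L7575) (flp_c L9912) (flp_d L13532) L13536 L9518 L9514 (flp_f L9872) L14097 L20171 L20175 L28936 L28941 (flp_i L31701) L591094 (flp_d L59049) L85318 L123532 L179268 L179272 L123581 (flp_d L123576) L575857 (flp_h L87005) (flp_d L126060) L183089 (flp_e L250437) L250434 (flp_b L245911) (flp_c L351871) L547966 (flp_i L364634) (flp_h L364625) (flp_d L357698) L357700 L261459 L261457 L183457 (flp_c L266498) (flp_d L387476) (flp_i L387472) (flp_h L387236) L387233 (flp_f L368951) L543326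
theorem L648444 : sm gh N33878 = N42786 := ded_54_5 (flp_i L361811) L533215 (flp_i L551365) (flp_h L197646) L287410
theorem L648446 : N46159 = N42791 := coi_35_2 (flp_f L361853) (flp_d L361809) L533220 L390116
theorem L648447 : N46159 = N42791 := eqc rfl L648446 rfl
theorem L648448 : sm ga N42791 = N31636 := trfs L648447 L390118 rfl
theorem L648451 : sm gd N42791 = N31635 := trfs L648447 (flp_d L390116) rfl
theorem L648455 : sm gg N34811 = N42785 := ded_50_3 L533223 (flp_g L614559) L295112
theorem L648457 : sm ga N33867 = N44719 := ded_13_3 L378382 L615010 (flp_e L287323)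
theorem L648459 : sm ga N34699 = N44721 := ded_13_3 L378400 L534061 (flp_e L294200)
theorem L648461 : sm ga N42141 = N34714 := ded_14_3 L294306 L534151 L356237
theorem L648463 : sm ga N42143 = N34701 := ded_17_3 L294215 L534151 L356259
theorem L648465 : sm gi N34714 = N42208 := ded_48_2 (flp_f L356863) L534164 (flp_f L294306)
theorem L648467 : sm ga N42145 = N34702 := ded_18_3 (flp_i L294217) L534171 L356276
theorem L648469 : sm ga N44718 = N34698 := ded_14_3 (flp_f L294192) L534755 (flp_f L378375)
theorem L648471 : sm ge N34830 = N42747 := ded_44_3 (flp_i L361462) L537077 L295253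
theorem L648473 : sm ge N34825 = N42760 := ded_41_3 L361584 L537167 (flp_g L295222)
theorem L648475 : sm ge N42773 = N34822 := ded_42_3 L295200 L537177 (flp_j L361712)
theorem L648477 : sm gc N35200 = N44127 := ded_56_46 L373227 L256686 (flp_h L635051) L353343 L243228 L167692 L115771 L80127 L80126 L80132 L80131 L80129 L55807 (flp_c L56500) (flp_b L81482) (flp_a L117742) (flp_h L170425) L170423 L118240 L537305 L66811 L46326 L32207 (flp_h L25195) L17550 (flp_e L25176) (flp_d L35729) (flp_c L50132) L626610 (flp_a L44988) L624853 (flp_f L624655) L45010 L31282 L31278 (flp_b L31961) (flp_a L580527) L580530 (flp_f L45488) (flp_e L65705) L65704 (flp_c L95003) (flp_b L622804) L137294 (flp_h L622403) L622398 (flp_e L624714) (flp_d L201034) L201032 L561702 L173481 (flp_h L249064) L249061 L171590 (flp_d L118655) (flp_c L116710) (flp_b L169062) (flp_a L575063) L129428 (flp_f L142075) (flp_e L205498) (flp_d L298401)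
theorem L648479 : sm gb N45779 = N34714 := ded_22_3 L294306 L542382 (flp_f L615814)
theorem L648481 : sm gb N46121 = N34717 := ded_24_3 (flp_j L294322) L542382 (flp_j L389829)
theorem L648483 : sm gb N45620 = N34701 := ded_25_3 L294215 L542382 (flp_h L385747)
theorem L648485 : sm gc N44789 = N34811 := ded_30_3 L648455 L542406 (flp_g L378944)
theorem L648487 : sm ga N34811 = N43499 := ded_11_3 L542424 (flp_a L378938) L648485
theorem L648489 : sm gj N34772 = N43499 := ded_42_0 L542426 L616236 (flp_e L294771)
theorem L648491 : sm gb N42812 = N34772 := ded_25_3 (flp_h L294767) L542807 (flp_h L362046)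
theorem L648493 : sm gb N45623 = N34702 := ded_26_3 (flp_i L294217) L543026 L385767
theorem L648495 : sm gc N32333 = N41685 := ded_56_4 L352119 (flp_a L352111) L242401 L242399 L242397 L169618 (flp_c L172623) (flp_b L172615) (flp_a L172357) L172363 L120402 L87835 L61992 (flp_c L61986) L42964 L42962 (flp_h L42842) L42840 (flp_e L60205) (flp_d L60200) (flp_c L60129) (flp_b L85434) (flp_a L123594) (flp_h L123592) (flp_f L116781) (flp_e L116774) L80788 L80786 L56017 L56015 L56067 L56071 L38968 L28529 (flp_c L41022) L41020 (flp_a L41636) (flp_h L41634) L41625 L60030 L86791 L86796 L562566 L83017 L120145 L120148 L87651 L87653 (flp_c L88143) (flp_b L127688) (flp_a L185354) (flp_h L185352) (flp_f L175141) L175140 L175139 (flp_c L254114) L543225 (flp_a L185017) (flp_h L184917) (flp_f L253728) (flp_e L543100) L273895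
theorem L648497 : sm gj N32320 = N43650 := ded_24_0 L543183 (flp_j L646368) (flp_b L273788)
theorem L648499 : sm gi N46251 = N32320 := ded_53_2 L648497 L543188 (flp_j L390889)
theorem L648501 : sm gj N32322 = N43601 := ded_37_0 L543219 (flp_j L646368) L273801
theorem L648503 : sm gi N46301 = N32322 := ded_53_2 L648501 L543222 (flp_j L391273)
theorem L648505 : sm ga N32320 = N43644 := ded_13_3 (flp_e L645855) (flp_a L273777) L273786
theorem L648507 : sm gd N41672 = N32275 := ded_55_89 L273399 (flp_h L188661) L130001 L130002 (flp_e L185171) L543467 L253623 L174980 L120754 L175134 L254310 (flp_d L547966) (flp_f L351868) (flp_e L242215) (flp_d L166989) L115274 L115275 L79818 L80908 (flp_h L116684) L116680 L116681 L80709 L592330 L549561 L58893 L58894 (flp_i L40961) (flp_h L28469) (flp_d L19838) L19846 L19854 (flp_d L28464) (flp_b L40914) (flp_c L58948) L58950 L44743 L44926 L64886 L64890 L64903 L64909 L64905 L46022 L32792 (flp_i L574929) (flp_h L38491) L55314 L79753 L115209 L115216 L115213 (flp_c L647687) L89345 L62019 L628083 (flp_d L62198) L62200 (flp_e L88137) L88136 L88134 L60961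 L42271 (flp_i L29365) (flp_h L20447) (flp_d L20222) (flp_f L27562) (flp_e L27556) L19240 (flp_b L19230) L19232 (flp_d L27537) (flp_i L39455) L56800 (flp_d L81796) L81793 L56669 L56671 L39459 (flp_c L38907) L38912 L55984 L55993 (flp_d L55393) (flp_f L79877) (flp_e L115373) (flp_d L167136) (flp_b L242308) (flp_c L352000)
theorem L648509 : sm gh N34884 = N42813 := ded_54_3 (flp_i L362050) L249064 L543798 L203522 L295686
theorem L648511 : sm gd N42053 = N32044 := ded_56_17 (flp_c L611449) L376637 (flp_a L383404) (flp_h L383402) (flp_f L263473) L181280 L137773 L95003 L65702 L51059 L599612 (flp_f L626655) L626653 L50126 L50124 (flp_b L51443) (flp_a L624722) (flp_h L66192) L624692 L65015 L45049 L45047 L587411 L44878 L44971 (flp_f L64203) (flp_e L624880) L45570 (flp_c L41443) L41441 L28834 L28840 L20633 L14498 (flp_d L14595) L14593 L10253 L10252 L14659 L14663 (flp_e L20938) (flp_d L647431) (flp_c L43093) (flp_b L62041) (flp_a L89575) L89583 L89580 L61981 (flp_d L545999) L57658 L40072 L27914 (flp_h L27912) L19461 (flp_e L27893) (flp_d L39604) (flp_c L56091) (flp_b L80881) (flp_a L116816)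 L169321 (flp_f L245708) (flp_e L355479)
theorem L648513 : sm ge N42289 = N32333 := ded_56_58 (flp_d L273895) L188484 L188482 L129863 (flp_h L89745) L62092 (flp_e L88029) (flp_d L546605) (flp_c L120397) L83180 L83178 (flp_h L82270) L82266 L60205 (flp_d L42836) (flp_c L42758) L42757 (flp_a L61559) (flp_h L61557) L42667 (flp_e L42658) L29639 L22766 L15883 L12477 L559388 (flp_f L11796) (flp_e L8235) L5716 (flp_c L5710) L3944 (flp_a L5117) (flp_h L7377) L7374 L10547 L10555 L583190 (flp_b L11097) L11095 L11129 (flp_f L15937) L15936 (flp_d L22220) (flp_c L31919) (flp_b L44928) (flp_a L64778) (flp_h L64776) (flp_f L44852) L31168 (flp_d L40983) (flp_c L40978) L28498 L28496 L28524 (flp_f L41041) (flp_e L59161) L85514 L123872 L179808 L261299 L261305 (flp_f L357536)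
theorem L648515 : sm gc N42941 = N33880 := ded_33_3 (flp_i L287426) L547057 L363130
theorem L648517 : sm gf N45623 = N33880 := ded_48_3 (flp_i L287426) L547059 L385767
theorem L648519 : sm ge N32151 = N44760 := ded_21_2 (flp_b L378705) L547383 L272355
theorem L648521 : sm ge N32148 = N44758 := ded_42_3 L378693 L547383 (flp_j L272331)
theorem L648523 : sm ge N32153 = N44761 := ded_44_3 (flp_i L378712) L547383 L272371
theorem L648525 : sm ga N44755 = N32219 := ded_14_3 (flp_f L272944) L547386 (flp_f L378674)
theorem L648527 : sm ga N44761 = N32220 := ded_18_3 (flp_i L272949) L547386 L378712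
theorem L648529 : sm ge N32157 = N44763 := ded_13_2 (flp_a L378727) L547425 L272406
theorem L648531 : sm ge N32159 = N44764 := ded_44_3 (flp_i L378733) L547425 L272421
theorem L648533 : sm gb N44763 = N32225 := ded_10_4 L272989 L187799 L547456 L260334 L378727
theorem L648535 : sm gd N32236 = N42241 := ded_35_3 L357149 L547485 (flp_f L273077)
theorem L648537 : sm gd N31795 = N41655 := ded_36_3 L351856 L547947 (flp_g L269341)
theorem L648539 : N46339 = N42261 := coi_27_3 L357317 L245866 (flp_c L242218) L547947 (flp_c L269113) L391565
theorem L648540 : N46339 = N42261 := eqc rfl L648539 rfl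
theorem L648541 : sm ga N42261 = N31767 := trfs L648540 L391567 rfl
theorem L648543 : sm gd N42261 = N31766 := trfs L648540 (flp_d L391565) rfl
theorem L648546 : sm ga N41655 = N31796 := ded_15_3 L269347 L547970 (flp_g L351856)
theorem L648548 : sm gd N32182 = N41669 := ded_36_3 L351976 L547985 (flp_g L646152)
theorem L648550 : sm gg N31909 = N41616 := ded_45_0 L548354 L630567 L186980 (flp_g L186055) (flp_f L270357)
theorem L648552 : sm gg N31907 = N41614 := ded_45_0 L548431 (flp_g L645437) L186961 (flp_g L186044) (flp_f L270339)
theorem L648554 : sm ga N41669 = N32201 := ded_15_3 L646415 L549073 (flp_g L351976)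
theorem L648556 : sm ga N41672 = N32276 := ded_18_3 L273407 L549073 L351998
theorem L648558 : sm ga N41671 = N32333 := ded_10_3 L273897 L188489 (flp_b L188671) L549073 L351989
theorem L648560 : sm gc N41638 = N32276 := ded_33_3 L273407 L549075 L351712
theorem L648562 : sm ge N32201 = N42237 := ded_41_3 L357116 L549085 (flp_g L646415)
theorem L648564 : sm ge N32276 = N42240 := ded_44_3 (flp_i L357135) L549085 (flp_i L273407)
theorem L648566 : sm gb N42237 = N32363 := ded_23_3 L274136 L549090 (flp_g L357116)
theorem L648568 : sm gb N42240 = N32277 := ded_26_3 L273413 L549090 L357135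
theorem L648570 : sm gb N42289 = N32334 := ded_10_4 L273904 L549090 L245741 L246019 L357532
theorem L648572 : sm gf N32334 = N44864 := ded_14_2 (flp_a L379596) L549100 (flp_a L273904)
theorem L648574 : sm gf N31768 = N44835 := ded_35_2 L379354 L549100 (flp_d L269126)
theorem L648576 : sm gf N32277 = N44865 := ded_48_3 (flp_i L379604) L549100 (flp_i L273413)
theorem L648578 : sm gb N32156 = N44659 := ded_23_3 L377835 L549219 (flp_g L272402)
theorem L648580 : sm ge N44759 = N32150 := ded_42_3 L272353 L549229 (flp_j L378703)
theorem L648582 : sm gb N32147 = N41681 := ded_22_3 L635266 L549392 (flp_f L272323)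
theorem L648584 : sm gd N31900 = N41928 := ded_55_35 (flp_i L354330) (flp_h L243861) L168090 (flp_f L168084) L116020 L84394 L91944 (flp_c L587185) L63701 (flp_i L63697) (flp_h L44135) (flp_d L30676) L30684 (flp_e L43628) (flp_d L62895) L62893 L43634 L43635 (flp_i L43592) (flp_h L578528) L36389 L36390 (flp_e L25802) L18015 (flp_b L16008) L16010 (flp_d L22907) L22911 L594235 L30301 L30302 L30626 L44040 L44042 L30644 (flp_d L21801) L15218 L10661 L11004 L15736 L22563 L22571 (flp_b L32368) (flp_c L46578) L67169 L67176 L97135 L140710 L140713 L142590 L142597 L142592 (flp_c L641836) L566017 (flp_i L142342) (flp_h L98313) (flp_d L68050) (flp_f L67076) (flp_e L67067) (flp_d L60990) (flp_b L549624) L84244 L84245 L58351 L58349 (flp_d L58398) (flp_f L58393) (flp_e L55664) (flp_d L55654) (flp_b L55645) L55647 L80227 L80234 L80327 (flp_d L114987) (flp_f L166554) L645327 (flp_d L592714) L177104 L122116 L85749 L124203 L124210 L85965 L61199 (flp_e L88448) (flp_d L128172) (flp_b L185961) (flp_c L270279)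
theorem L648586 : sm gc N31898 = N42048 := ded_55_34 L355437 (flp_i L244593) (flp_h L168577) L116328 (flp_f L116322) L80498 L58693 L64070 L551689 L44485 (flp_i L44481) (flp_h L30895) (flp_d L21508) L21515 (flp_e L30528) (flp_d L43890) L43888 L30534 L30535 (flp_i L30495) L583558 L25464 L25465 (flp_e L18150) L12680 (flp_b L11270) L11272 (flp_d L16104) L16106 (flp_h L594381) L21239 L21240 L21462 L30812 L30814 L21478 (flp_d L15297) L10690 L7487 L7712 L11057 L15825 L15831 (flp_b L22669) (flp_c L32540) L46845 L46850 L67588 L97709 L97712 L98985 L98991 L98987 L641771 L566924 (flp_i L98874) (flp_h L68463) (flp_d L47503) (flp_f L46758) (flp_e L46751) (flp_d L42449) (flp_b L549692) L58558 L58559 L40661 L40659 (flp_d L40705) (flp_f L40700) (flp_e L38792) (flp_d L38783) (flp_b L38775) L38777 L55756 L55762 L55844 (flp_d L79690) (flp_f L115118) (flp_e L166753) L241840 L241842 (flp_c L636889) L124202 L180262 L180271 L124514 L88473 (flp_e L128155) (flp_d L186053) (flp_b L270262)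
theorem L648588 : sm gd N41767 = N35021 := ded_55_47 L296911 L204389 L140855 L98602 L98603 (flp_d L140855) (flp_i L574636) (flp_h L642745) (flp_d L127954) L88292 L88290 L88314 L88316 (flp_c L124367) (flp_d L124361) L124371 (flp_h L180124) (flp_d L261781) L261783 L553548 (flp_d L553557) L553555 L246868 L246869 (flp_i L170092) (flp_h L117332) L81162 L117323 L170055 L246784 (flp_b L358582) L611916 L261623 L261624 L262217 L381540 L381545 L262243 (flp_d L185653) L127865 L648143 L166558 L168228 (flp_h L243746) L243741 L243742 L168002 L592174 L549761 L121958 L121959 (flp_i L84367) (flp_h L58404) (flp_d L40532) L40542 (flp_e L58020) (flp_d L83767) (flp_b L121196) (flp_c L175766) (flp_d L621814) L621822 (flp_h L625271) (flp_d L97132) (flp_f L642095) (flp_e L114781) L79472 L79480 L79471 L79472 L79479 L79477 L55492 L40290 L40561 L58432 L58436 L84387 L84394 (flp_i L591282) (flp_h L45210) (flp_d L41198) L59386 L85837 L124324 (flp_b L177297) L621636 (flp_d L620593) (flp_i L255259) (flp_h L631073)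
theorem L648590 : sm gb N34038 = N44984 := ded_10_4 L380598 (flp_b L374071) L549794 (flp_b L621678) (flp_a L288808)
theorem L648592 : sm gd N45079 = N33429 := ded_37_3 (flp_j L648226) L549796 (flp_j L381432)
theorem L648594 : sm gd N44984 = N33971 := ded_38_3 L288238 L621681 (flp_h L374078) L549796 (flp_h L380605)
theorem L648596 : sm ga N41959 = N31882 := ded_13_3 L270129 L549801 (flp_e L640351)
theorem L648598 : sm ga N41594 = N31880 := ded_16_3 L270118 L549801 (flp_j L636880)
theorem L648600 : sm gh N31882 = N44272 := ded_43_2 L374568 L549815 (flp_e L270129)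
theorem L648602 : sm ge N42486 = N31907 := ded_41_3 L648552 L550473 (flp_g L359325)
theorem L648604 : sm gb N31907 = N42034 := ded_21_3 L550789 (flp_b L359323) L648602
theorem L648606 : sm gg N42032 = N32068 := ded_15_2 L648362 (flp_g L360222) L550795
theorem L648608 : sm gg N33971 = N44249 := ded_36_0 L550880 (flp_g L380603) L648594
theorem L648610 : sm gf N41767 = N34993 := ded_56_43 L296683 L204226 L140722 L140721 L644862 L167379 (flp_f L642153) L142347 (flp_d L566017) L641836 L142592 L567484 (flp_h L167363) L167353 L242734 L242742 (flp_c L243650) L243648 (flp_a L246425) L358141 L358149 L261549 (flp_d L550890) L257378 L257376 L177223 (flp_h L122223) (flp_f L84423) (flp_e L80311) L80318 (flp_c L80309) L55697 L38740 L55720 (flp_f L80364) (flp_e L116124) L168262 L644188 (flp_b L180163) (flp_a L261641) (flp_h L261639) L261618 L261626 L261623 (flp_c L611916) L358582 L246786 L246950 L246954 L180482 L621661 L177336 L122277 L84510 (flp_h L84508) L58497 (flp_e L84487) (flp_d L121361) L121360 (flp_b L175983) L620654 (flp_h L631073)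
theorem L648612 : sm gj N34195 = N44470 := ded_52_3 L551229 (flp_j L607058) (flp_h L290185)
theorem L648614 : sm gf N32068 = N42198 := ded_14_0 L552030 (flp_f L360227) (flp_a L648362)
theorem L648616 : sm ga N32063 = N42907 := ded_10_5 L552043 L250088 (flp_b L245879) L648068 L271617
theorem L648618 : sm gd N42197 = N32063 := ded_12_2 L648616 L552045 (flp_a L356764)
theorem L648620 : sm gd N46121 = N33908 := ded_12_2 L648344 L552066 L389823
theorem L648622 : sm gd N45779 = N33905 := ded_12_2 L648350 L552070 (flp_a L615810)
theorem L648624 : sm gd N32068 = N42031 := ded_12_2 L355285 L553456 (flp_a L648362)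
theorem L648626 : sm ga N31899 = N42380 := ded_10_5 L553496 L246835 (flp_b L243985) L648149 L270270
theorem L648628 : sm gf N31899 = N41920 := ded_56_8 L550769 (flp_d L246455) L169824 L117188 L117186 (flp_h L81089) L81079 L117222 L117230 (flp_c L169888) (flp_b L243648) (flp_a L591780) (flp_h L262418) (flp_f L262412) (flp_e L180544) (flp_d L124361) L85852 L59417 L41241 (flp_h L41239) (flp_f L28659) (flp_e L27254) (flp_d L27248) L19038 L13342 L13341 L13346 L19044 L19051 (flp_d L27005) (flp_c L38751) (flp_b L55706) (flp_a L80303) (flp_h L114958) (flp_f L114950) (flp_e L79580) L55204 L55203 L55211 (flp_a L55201) L38413 (flp_f L38600) L55499 L80019 L115603 L115609 L641893 (flp_h L83834) L83826 L121316 L121322 (flp_c L122210) L122208 (flp_a L124231) L180331 (flp_f L246810) L246808 L246833 L246841 (flp_b L553496) (flp_a L648626) L270274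
theorem L648630 : sm gd N41919 = N31899 := ded_12_2 L648626 L553498 (flp_a L354242)
theorem L648632 : sm gg N32062 = N41628 := ded_23_0 L553765 L630567 (flp_b L271609)
theorem L648634 : sm ge N45913 = N32062 := ded_41_3 L648632 L553767 (flp_g L388122)
theorem L648636 : sm gc N31796 = N42223 := ded_30_3 L356998 L553780 (flp_g L269347)
theorem L648638 : sm gf N34195 = N44801 := ded_47_3 L554064 L607062 (flp_h L290185)
theorem L648640 : sm gg N34160 = N45246 := ded_23_0 L554107 (flp_g L381430) (flp_b L648356)
theorem L648642 : sm ga N45246 = N34195 := ded_14_3 L648638 L554126 (flp_f L382804)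
theorem L648644 : sm gd N45201 = N34195 := ded_35_3 L648638 L554129 (flp_f L382460)
theorem L648646 : sm gh N45246 = N34296 := ded_54_3 (flp_i L290943) (flp_h L200098) L622258 L554184 L382799
theorem L648648 : sm gg N32080 = N42200 := ded_23_0 L554429 (flp_g L645437) L271744
theorem L648650 : sm ge N46157 = N32080 := ded_41_3 L648648 L554432 (flp_g L390104)
theorem L648652 : sm gc N31915 = N42032 := ded_55_88 (flp_d L355294) L355303 L554607 (flp_d L355708) L355710 L244790 L168715 L116413 L81625 L56582 (flp_i L56578) (flp_h L39300) (flp_d L27356) L27364 L27370 (flp_d L39298) L39296 (flp_c L38837) L38839 (flp_i L38800) L38799 (flp_d L55779) (flp_f L55774) L38792 (flp_d L28301) (flp_b L28293) L28295 L30812 L30818 L30895 L30902 (flp_f L44478) (flp_e L64188) L621847 L45255 L31458 (flp_d L30724) (flp_i L44096) (flp_h L63502) L63500 L63501 (flp_e L90716) L639635 L114689 L79423 L55097 L38404 L38402 L26959 (flp_f L26955) (flp_e L18854) (flp_d L13216) L9268 L9269 L9634 (flp_i L13734) (flp_h L19603) (flp_d L19594) L13722 L9682 L13790 L13793 L583155 (flp_d L8856) L6165 L6164 L8856 L12676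 L18150 L18156 (flp_b L23056) (flp_c L33048) L47503 L47508 L68463 (flp_d L565849) (flp_f L121625) (flp_e L176429) L644307 L244030 L168247 L117484 (flp_i L169991) L246690 L358522 L637360 L262608 L186049 L270399
theorem L648654 : sm ga N33488 = N42539 := ded_15_3 (flp_g L359789) L554684 L284049
theorem L648656 : sm ga N41905 = N31876 := ded_16_3 L270082 L554729 (flp_j L354104)
theorem L648658 : sm ga N41814 = N32017 := ded_17_3 L271278 L554729 (flp_h L353306)
theorem L648660 : sm ga N42014 = N32042 := ded_18_3 (flp_i L271447) L554729 L355124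
theorem L648662 : sm ga N34097 = N41894 := ded_11_3 L353989 L554786 (flp_c L289315)
theorem L648664 : sm ga N35021 = N41902 := ded_14_3 (flp_f L354071) L554786 (flp_f L296911)
theorem L648666 : sm ga N31884 = N41904 := ded_17_3 (flp_h L354090) L554786 (flp_h L270147)
theorem L648668 : sm gh N45132 = N31875 := ded_54_3 (flp_i L270068) (flp_h L642423) L554802 (flp_h L262444) L381871
theorem L648670 : sm ga N31887 = N41907 := ded_16_3 L354126 L554821 L270167
theorem L648672 : sm ga N31888 = N41908 := ded_18_3 (flp_i L354129) L554821 L270176
theorem L648674 : sm ga N31915 = N42516 := ded_56_48 L359594 (flp_f L359588) (flp_e L247392) (flp_d L170451) L117579 L81327 L56382 (flp_h L56380) L56373 L81345 L81350 L81348 (flp_b L117586) (flp_a L170380) L247296 L247303 L247301 L170403 (flp_c L170614) (flp_b L247564) (flp_a L554842) L178320 (flp_f L134557) (flp_e L92805) (flp_d L64162) L44456 L30897 L21530 (flp_h L16757) L16751 L24009 (flp_d L33933) L33932 (flp_b L48766) (flp_a L626852) L585975 L52422 L626829 L67791 (flp_c L627254) (flp_b L639674) L114697 (flp_h L643237) L619317 L68652 L68651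 (flp_c L643291) L643289 L63264 L63300 (flp_f L91494) L625305 (flp_d L88300) L88298 L61119 L42409 L61186 L61190 (flp_e L88432) L128143 L186041 L270399
theorem L648676 : sm ga N32016 = N41896 := ded_15_3 L354017 L554852 (flp_g L642546)
theorem L648678 : sm ga N41993 = N34378 := ded_12_3 L291578 L554875 (flp_d L354936)
theorem L648680 : sm ga N41995 = N34384 := ded_14_3 L291622 L554875 L354948
theorem L648682 : sm gh N45423 = N32031 := ded_54_3 (flp_i L271378) (flp_h L642620) L554888 (flp_h L263988) L384155
theorem L648684 : sm gi N34384 = N42039 := ded_48_2 (flp_f L355355) L554898 (flp_f L291622)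
theorem L648686 : sm gg N31875 = N41928 := ded_50_3 L554920 (flp_g L381876) L648668
theorem L648688 : sm gh N42212 = N34702 := ded_54_3 (flp_i L294217) L202434 L555044 L245579 L356898
theorem L648690 : sm gb N42813 = N34776 := ded_26_3 (flp_i L294801) L561746 L362050
theorem L648692 : sm gd N42800 = N34776 := ded_39_3 (flp_i L294801) L561748 L361931
theorem L648694 : N46287 = N43701 := coi_13_3 (flp_a L369558) (flp_e L629230) L562320 L391163
theorem L648695 : N46287 = N43701 := eqc rfl L648694 rfl
theorem L648698 : sm ge N43701 = N31726 := trfs L648695 (flp_e L391163) rfl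
theorem L648700 : sm gg N43701 = N31729 := trfs L648695 L391166 rfl
theorem L648702 : sm gc N34772 = N45658 := ded_19_4 L386053 L265547 L562360 (flp_c L615419) L648491
theorem L648704 : sm gh N41803 = N35176 := ded_43_2 L298224 L641434 (flp_e L353209)
theorem L648706 : sm ga N41811 = N35200 := ded_14_3 L298404 L567029 L353270
theorem L648708 : sm ga N41813 = N35185 := ded_17_3 L298290 L567029 L353291
theorem L648710 : sm gi N41850 = N35185 := ded_54_4 L298290 L567034 L645027 (flp_i L256169) (flp_h L641409)
theorem L648712 : sm ga N41743 = N34992 := ded_13_3 L296678 L567324 (flp_e L352666)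
theorem L648714 : sm gi N34992 = N41767 := ded_54_2 L631073 L255259 L631045 L567590 (flp_h L296676)
theorem L648716 : sm ga N44042 = N35181 := ded_12_3 (flp_d L298260) L567653 L372567
theorem L648718 : sm ga N35175 = N41862 := ded_17_3 L644275 L567688 (flp_h L298218)
theorem L648720 : sm gh N44505 = N32048 := ded_54_3 (flp_i L271495) L186762 L567708 L258856 L376559
theorem L648722 : sm ga N32044 = N42085 := ded_17_3 L640983 L567715 (flp_h L271465)
theorem L648724 : sm ga N32239 = N44754 := ded_18_3 (flp_i L378662) L567793 L273095
theorem L648726 : sm ga N42279 = N32207 := ded_13_3 L272851 L567801 (flp_e L640952)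
theorem L648728 : sm ga N44757 = N32223 := ded_18_3 (flp_i L272972) L567801 L378682
theorem L648730 : sm gh N32239 = N44855 := ded_54_3 (flp_i L379519) (flp_h L260842) L567887 (flp_h L187862) L273095
theorem L648732 : sm ga N44438 = N32048 := ded_13_3 L271498 L567994 (flp_e L376015)
theorem L648734 : sm gb N34195 = N44493 := ded_25_3 L568064 L622061 (flp_h L290185)
theorem L648736 : sm gg N33362 = N44493 := ded_50_3 L568064 L622065 (flp_h L283021)
theorem L648738 : sm gd N34296 = N44493 := ded_38_5 L568064 L263926 (flp_h L263078) (flp_d L382802) L648646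
theorem L648740 : sm ga N32045 = N42090 := ded_13_3 L635989 L568093 (flp_e L271472)
theorem L648742 : sm gb N34296 = N45201 := ded_10_4 L382456 (flp_b L375911) L568102 L622061 (flp_a L290945)
theorem L648744 : N31888 = N31878 := coi_54_3 (flp_h L270094) (flp_i L185803) L642745 L574636 (flp_h L185877) L270176
theorem L648745 : N31888 = N31878 := eqc rfl L648744 rfl
theorem L648746 : sm ga N31878 = N41908 := trfs L648745 L648672 rfl
theorem L648749 : sm gc N31878 = N45132 := trfs L648745 (flp_c L381873) rfl
theorem L648753 : sm gg N31878 = N21883 := trfs L648745 L270181 rfl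
theorem L648755 : sm gi N31878 = N21882 := trfs L648745 (flp_i L270176) rfl
theorem L648757 : sm gf N32031 = N42222 := ded_47_3 L575135 (flp_f L384159) L648682
theorem L648759 : sm ga N31885 = N41906 := ded_13_3 L354111 L575284 (flp_e L270152)
theorem L648761 : sm gf N31915 = N42034 := ded_56_8 L550789 (flp_d L247268) L170373 L117551 L117549 (flp_h L81325) L81318 L117584 L117589 (flp_c L170431) L170430 (flp_a L614266) L357973 L357977 L614282 L359384 L359390 (flp_b L554656) L355443 L244783 (flp_f L244777) (flp_e L168702) (flp_d L116404) L80538 L55846 L38843 (flp_h L38841) L38834 L55859 (flp_d L80183) L80182 (flp_b L115827) (flp_a L167740) (flp_h L645163) (flp_f L167784) (flp_e L167779) L115816 L115814 L80160 L55604 L80194 L80198 L55612 L40458 L40456 (flp_b L58260) L641711 L638369 L84098 L121707 L121712 (flp_c L122734) (flp_b L178041) L178039 (flp_h L576370) L576368 L248024 L553587 (flp_c L359591) L359590 (flp_a L648674) L270406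
theorem L648763 : sm ga N33971 = N45014 := ded_15_3 L380871 L576386 (flp_g L648608)
theorem L648765 : sm gg N34038 = N44264 := ded_23_0 L576426 (flp_g L380603) (flp_b L648590)
theorem L648767 : sm gj N34296 = N44495 := ded_52_3 L576533 (flp_j L382806) L648646
theorem L648769 : sm gc N44275 = N33362 := ded_11_0 L576790 L621502 (flp_a L374591)
theorem L648771 : sm gj N44262 = N33362 := ded_16_0 L576790 (flp_j L621514) (flp_a L374472)
theorem L648773 : sm gd N34038 = N44262 := ded_37_3 L648771 L576792 (flp_j L288812)
theorem L648775 : sm gd N34160 = N45012 := ded_38_3 L380856 L621688 (flp_h L283021) L576792 (flp_h L289872)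
theorem L648777 : sm gf N35181 = N41903 := ded_55_39 L354084 L243722 L168011 L116008 L80283 L56246 L39157 (flp_d L55740) L55742 (flp_e L80064) L80063 L80062 (flp_c L115669) (flp_d L644489) L121677 L121683 L84205 L84206 (flp_e L80204) (flp_d L643267) (flp_b L68618) (flp_c L47630) (flp_d L33145) L594369 L30516 L43864 L63268 L91431 L91437 (flp_b L589000) (flp_c L64252) (flp_d L623619) L45160 L31462 (flp_d L32436) L32438 L625689 L43930 (flp_b L63323) (flp_c L91492) (flp_d L642271) L114865 L114863 (flp_d L115792) (flp_f L115787) L80141 (flp_d L58230) L40428 L40429 L43864 L578222 L33151 (flp_d L33145) (flp_f L32590) L32588 (flp_d L31635) L31631 (flp_c L30931) L30935 L44534 L589048 L35274 (flp_f L24532) (flp_e L17098) L11936 (flp_b L15286) (flp_c L20002) (flp_d L27304) L27309 L19106 L19101 L14010 L20049 L28759 L28763 L41362 L41368 (flp_i L45314) (flp_h L591138) (flp_d L84767) L122712 L178037 L258626 L258630 (flp_c L645167) (flp_d L243462) L644666 (flp_h L205317) L298260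
theorem L648779 : sm gh N34699 = N44822 := ded_54_3 (flp_i L379246) (flp_h L260657) L590451 (flp_h L202421) L294197
theorem L648781 : sm gb N33971 = N44262 := ded_25_3 L591692 (flp_b L621678) (flp_h L288238)
theorem L648783 : sm ga N32032 = N42084 := ded_12_3 L644268 L591953 (flp_d L271389)
theorem L648785 : sm ga N32033 = N42088 := ded_12_3 L644239 L592011 (flp_d L271394)
theorem L648787 : sm ga N31877 = N41957 := ded_16_3 L644166 L592015 (flp_j L270092)
theorem L648789 : sm ga N32043 = N44445 := ded_17_3 (flp_h L376057) L592015 L271455
theorem L648791 : sm ge N31978 = N44445 := ded_43_3 (flp_h L376057) L592017 L270950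
theorem L648793 : sm gd N44512 = N32043 := ded_38_3 (flp_h L271455) L186734 L592026 (flp_d L258901) L376613
theorem L648795 : sm gf N34296 = N44842 := ded_14_2 L379407 L607062 (flp_a L290945)
theorem L648797 : sm gg N42058 = N32045 := ded_41_2 L271472 (flp_g L270116) (flp_e L630865)
theorem L648799 : sm gj N42058 = N31882 := ded_42_2 L270129 (flp_j L270118) (flp_e L630865)
theorem L648801 : sm ge N34721 = N42060 := ded_41_3 L355540 L611438 L294349
theorem L648803 : sm gc N35021 = N41938 := ded_30_3 (flp_g L354423) L611532 L296907
theorem L648805 : sm ge N33206 = N42435 := ded_41_3 L358901 L612181 L281649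
theorem L648807 : sm gb N42435 = N34097 := ded_23_3 (flp_g L289313) L612194 (flp_g L358901)
theorem L648809 : sm gj N44282 = N34354 := ded_52_3 L291426 L612216 L374649
theorem L648811 : sm gc N34992 = N41742 := ded_32_3 L644373 L612311 (flp_h L296676)
theorem L648813 : sm gj N34819 = N42783 := ded_53_3 (flp_i L361789) L613891 L295170
theorem L648815 : sm gf N42783 = N34822 := ded_48_3 (flp_i L295194) L613898 L361789
theorem L648817 : sm gc N34822 = N42800 := ded_33_3 (flp_i L361931) L613902 L295194
theorem L648819 : sm gj N42800 = N34825 := ded_53_3 (flp_i L295218) L613914 L361931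
theorem L648821 : N42509 = N42366 := coi_36_2 L358275 (flp_d L359477) L614019 L359531
theorem L648822 : N42509 = N42366 := eqc rfl L648821 rfl
theorem L648824 : sm gd N42366 = N29174 := trfs L648822 (flp_d L359531) rfl
theorem L648827 : sm gd N31911 = N42312 := ded_35_3 L614196 L358021 L637392
theorem L648829 : sm gg N34891 = N42820 := ded_51_3 (flp_i L362118) L614474 L295743
theorem L648831 : sm gg N34895 = N42941 := ded_41_2 L648400 L614500 (flp_e L295776)
theorem L648833 : sm gg N34816 = N42786 := ded_50_3 (flp_h L648444) L614500 (flp_h L295155)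
theorem L648835 : N45664 = N46117 := coi_36_3 (flp_d L389799) (flp_g L367594) L614641 L386097
theorem L648836 : N46117 = N45664 := (eqc rfl L648835 rfl).symm
theorem L648838 : sm gd N45664 = N31601 := trfs L648836 (flp_d L389799) rfl
theorem L648841 : sm gb N44820 = N34509 := ded_21_1 L292688 (flp_b L286059) L614939
theorem L648843 : sm gb N45790 = N34689 := ded_20_1 (flp_d L294127) (flp_b L287320) L615004
theorem L648845 : sm gj N34698 = N44868 := ded_46_2 L379636 L615007 L294192
theorem L648847 : sm gb N45780 = N34698 := ded_22_1 (flp_f L294192) (flp_b L287388) L615043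
theorem L648849 : sm gj N34689 = N44876 := ded_37_2 L379704 L615045 L294127
theorem L648851 : sm ge N44869 = N34714 := ded_41_3 (flp_g L294301) L615102 L379638
theorem L648853 : sm ge N44870 = N34698 := ded_43_3 L294195 L615102 L379646
theorem L648855 : sm ge N44873 = N34689 := ded_34_4 (flp_d L294127) L202367 L615138 (flp_e L260954) L379670
theorem L648857 : sm gj N34509 = N44789 := ded_42_2 L378942 L615187 (flp_e L292688)
theorem L648859 : sm ga N45658 = N34509 := ded_13_1 L292688 (flp_a L292261) L615357
theorem L648861 : sm gj N42813 = N34877 := ded_53_3 (flp_i L295629) L615442 L362050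
theorem L648863 : sm gf N34877 = N42815 := ded_48_3 (flp_i L362069) L615449 L295629
theorem L648865 : sm gc N42815 = N34884 := ded_33_3 (flp_i L295686) L615454 L362069
theorem L648867 : sm ge N34884 = N42936 := ded_44_3 (flp_i L363090) L615486 L295686
theorem L648869 : sm gc N42813 = N34885 := ded_33_3 (flp_i L295695) L615989 L362050
theorem L648871 : sm gb N42181 = N34888 := ded_20_3 (flp_d L295720) L616029 (flp_d L356614)
theorem L648873 : sm gb N42936 = N34889 := ded_26_3 (flp_i L295727) L616029 L363090
theorem L648875 : sm gg N34894 = N42186 := ded_36_2 L356654 L616177 L295766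
theorem L648877 : sm ga N34894 = N42183 := ded_12_3 L356627 L616182 L295766
theorem L648879 : sm ga N34895 = N42939 := ded_18_3 (flp_i L363115) L616182 L295773
theorem L648881 : sm ge N34891 = N42939 := ded_44_3 (flp_i L363115) L616184 L295743
theorem L648883 : sm gj N34888 = N42183 := ded_37_2 L356627 L616186 L295720
theorem L648885 : sm gj N34889 = N42939 := ded_53_3 (flp_i L363115) L616186 L295727
theorem L648887 : sm gb N34891 = N42817 := ded_26_3 (flp_i L362088) L616190 L295743
theorem L648889 : sm gf N34885 = N42817 := ded_48_3 (flp_i L362088) L616193 L295695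
theorem L648891 : sm gj N34884 = N42817 := ded_53_3 (flp_i L362088) L616195 L295686
theorem L648893 : sm gb N34825 = N42810 := ded_26_3 (flp_i L362024) L616297 L295218
theorem L648895 : sm gd N34877 = N42810 := ded_39_3 (flp_i L362024) L616300 L295629
theorem L648897 : sm gg N42810 = N34830 := ded_51_3 (flp_i L295253) L616308 L362024
theorem L648899 : sm gd N42783 = N34816 := ded_39_3 (flp_i L295148) L616313 L361789
theorem L648901 : sm gd N42789 = N34811 := ded_34_5 L295115 L616313 L248884 L248911 L361836
theorem L648903 : sm ge N34819 = N42788 := ded_44_3 (flp_i L361827) L616318 L295170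
theorem L648905 : sm ge N34812 = N42787 := ded_34_4 (flp_d L361818) L616318 (flp_d L203124) (flp_e L203105) L295119
theorem L648907 : sm gc N34819 = N42802 := ded_33_3 (flp_i L361950) L616322 L295170
theorem L648909 : sm gf N34825 = N42802 := ded_48_3 (flp_i L361950) L616324 L295218
theorem L648911 : sm gj N34160 = N45014 := ded_53_3 (flp_i L380865) L617194 L289866
theorem L648913 : sm gj N44984 = N34198 := ded_53_3 (flp_i L290197) L617204 L380596
theorem L648915 : sm gc N34198 = N44997 := ded_33_3 (flp_i L380726) L617208 L290197
theorem L648917 : sm gd N44522 = N34384 := ded_36_3 (flp_g L291616) L617222 L376683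
theorem L648919 : sm gc N42060 = N35216 := ded_30_3 (flp_g L298512) L617236 (flp_g L355540)
theorem L648921 : sm gd N35216 = N41849 := ded_36_3 L353607 L617243 L298512
theorem L648923 : sm gd N34721 = N42242 := ded_36_3 L357158 L617250 L294349
theorem L648925 : sm gb N34721 = N42672 := ded_23_3 L360898 L617255 L294349
theorem L648927 : sm gh N34689 = N44891 := ded_38_4 L379819 L261118 L617282 L202363 L294127
theorem L648929 : sm gb N45109 = N34354 := ded_22_3 (flp_f L291424) L617537 (flp_f L381700)
theorem L648931 : sm gb N45113 = N34355 := ded_26_3 (flp_i L291429) L617537 L381721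
theorem L648933 : sm gg N44527 = N34355 := ded_51_3 (flp_i L291429) L617543 L376725
theorem L648935 : sm gj N44285 = N34355 := ded_53_3 (flp_i L291429) L617545 L374676
theorem L648937 : sm gc N34354 = N44137 := ded_29_3 L641162 L617548 L291424
theorem L648939 : sm gc N34355 = N42093 := ded_33_3 L641236 L617548 L291429
theorem L648941 : sm gb N34378 = N45108 := ded_23_3 (flp_g L381688) L617553 L291576
theorem L648943 : sm gf N44522 = N34378 := ded_45_3 (flp_g L291576) (flp_f L200519) L617562 (flp_f L258956) L376683
theorem L648945 : sm gh N44271 = N35021 := ded_38_4 (flp_d L648588) L631073 L620550 L257506 L374555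
theorem L648947 : sm gg N34992 = N41737 := ded_15_0 L620569 (flp_g L636145) L648712
theorem L648949 : sm gd N41931 = N34992 := ded_36_3 L648947 L620572 (flp_g L354365)
theorem L648951 : sm gd N44269 = N31884 := ded_38_3 L270147 (flp_d L644858) (flp_h L648282) L620572 L374536
theorem L648953 : sm gh N35181 = N44303 := ded_38_4 (flp_d L374839) (flp_h L257704) L620689 (flp_h L205317) L298260
theorem L648955 : sm gj N35181 = N41902 := ded_37_2 L640364 L620708 L298260
theorem L648957 : sm gg N35181 = N44131 := ded_36_2 (flp_d L373256) L620713 L298260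
theorem L648959 : sm gc N44128 = N35175 := ded_29_3 (flp_f L298215) L621380 (flp_f L373237)
theorem L648961 : sm gj N41840 = N35175 := ded_46_2 (flp_f L298215) (flp_j L645025) L353523
theorem L648963 : sm gf N41847 = N35216 := ded_45_3 (flp_g L298512) (flp_f L205473) L621444 (flp_f L243375) L353585
theorem L648965 : sm gf N34097 = N41938 := ded_45_3 (flp_g L354423) L243939 L621638 L198987 L289313
theorem L648967 : sm gf N45374 = N33488 := ded_45_3 (flp_g L284049) (flp_f L195380) L622097 (flp_f L263786) L383836
theorem L648969 : sm gb N34384 = N45374 := ded_23_3 (flp_g L383836) L622102 L291616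
theorem L648971 : sm ge N33905 = N45374 := ded_41_3 (flp_g L383836) L622105 L287629
theorem L648973 : sm gg N34198 = N45201 := ded_51_3 (flp_i L382454) L622164 L290197
theorem L648975 : sm gd N42052 = N35175 := ded_56_31 (flp_c L648959) L373234 L256693 (flp_h L256691) L176730 L121830 L84190 L58303 L40471 L30557 L23672 L23671 L23669 L16775 (flp_c L17228) (flp_b L24691) (flp_a L35446) L35452 L25497 L17927 L12576 L12575 (flp_b L15988) L15986 (flp_h L15687) L15686 (flp_e L22234) (flp_d L31956) (flp_c L45997) (flp_b L64873) (flp_a L93702) L135911 (flp_f L622340) L95005 (flp_d L86206) L86204 L59654 L59652 L59742 L59746 (flp_e L60196) L87060 L126195 L183264 L266464 L266472 (flp_f L269011) (flp_e L646483) L369030 (flp_c L253998) L174902 L120676 (flp_h L172658) L172654 L119084 (flp_d L119078) (flp_c L117004) (flp_b L169505) (flp_a L245714) (flp_h L245712) (flp_f L245701) (flp_e L355470)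
theorem L648977 : N44148 = N42020 := coi_56_24 (flp_d L355186) L244443 (flp_b L247873) (flp_a L360028) (flp_h L360026) (flp_f L360011) L360009 L249368 L563026 L126836 L87581 (flp_h L87579) L60551 L41979 L29175 L20344 L14212 L10909 L8546 L8545 (flp_e L12081) (flp_d L16908) (flp_c L24245) (flp_b L598469) (flp_a L22876) (flp_h L22874) (flp_f L22733) (flp_e L32622) L32621 L32620 (flp_b L46916) (flp_a L67519) L593979 L91361 L91359 (flp_d L92554) (flp_c L134095) L134093 (flp_a L137294) L622811 (flp_f L622839) L622837 (flp_d L138643) L138641 L96550 (flp_a L139738) L202857 L202861 (flp_e L561913) (flp_d L171965) (flp_c L171866) (flp_b L245199) L575764 L183150 (flp_f L202567) (flp_e L291620) (flp_d L648917) L376687 L259105 L178400 L259177 (flp_f L634991) L373392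
theorem L648978 : N44148 = N42020 := eqc rfl L648977 rfl
theorem L648980 : sm gc N42020 = N30953 := trfs L648978 L634988 rfl
theorem L648983 : sm gf N42020 = N30559 := trfs L648978 L634991 rfl
theorem L648985 : sm gg N42020 = N30284 := trfs L648978 L373393 rfl
theorem L648987 : sm gh N42020 = N30281 := trfs L648978 (flp_h L373389) rfl
theorem L648989 : sm gi N42020 = N30569 := trfs L648978 L373395 rfl
theorem L648991 : sm ga N32029 = N42627 := ded_56_20 (flp_h L360503) L248034 (flp_e L249857) (flp_d L363187) L542952 L268019 L184369 L268026 (flp_f L645481) L645479 (flp_d L265110) L641025 (flp_b L376935) (flp_a L648278) L273092 L206049 (flp_e L298515) L648921 L353604 L243439 L167851 L243501 L243506 L167870 L644633 L84084 L58222 L43856 (flp_h L48633) L48632 L48630 L34317 L583432 L25559 (flp_a L22728) L32653 L32658 L22879 (flp_d L32017) (flp_c L45037) (flp_b L64958) (flp_a L93797) (flp_h L93795) (flp_f L625049) L92539 L63990 (flp_c L58638) L58636 L40718 (flp_h L58576) L58579 L40869 (flp_d L58878) L58877 (flp_b L549451) L42670 L42773 (flp_f L61349) (flp_e L88708) L128566 L186688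 L271365
theorem L648993 : sm gf N41536 = N31851 := ded_48_3 (flp_i L269868) L627530 L350814
theorem L648995 : sm gj N31851 = N41584 := ded_53_3 (flp_i L351240) L627549 L269868
theorem L648997 : sm gg N41584 = N31998 := ded_51_3 (flp_i L271127) L627562 L351240
theorem L648999 : sm gf N31998 = N41656 := ded_48_3 (flp_i L351859) L627572 L271127
theorem L649001 : sm gj N41655 = N31995 := ded_42_2 (flp_e L271101) L627586 L351851
theorem L649003 : sm gj N41656 = N31996 := ded_53_3 (flp_i L271110) L627586 L351859
theorem L649005 : sm ga N41536 = N31896 := ded_12_3 L270248 L627680 (flp_d L350819)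
theorem L649007 : sm gj N46336 = N32186 := ded_16_2 L272665 L629322 (flp_a L391545)
theorem L649009 : sm gj N46337 = N32265 := ded_37_2 (flp_d L273311) L629322 L391553
theorem L649011 : sm gj N45881 = N32266 := ded_53_3 (flp_i L273314) L629322 (flp_i L387854)
theorem L649013 : sm gh N32266 = N45878 := ded_54_3 (flp_i L387812) L266440 L629369 (flp_h L188023) L273314
theorem L649015 : sm gh N45909 = N32188 := ded_43_2 L272686 L272689 L629576
theorem L649017 : sm gj N32188 = N45912 := ded_53_3 L388116 L629645 L272681
theorem L649019 : sm gg N32082 = N45649 := ded_30_2 L385983 L630567 (flp_c L271763)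
theorem L649021 : sm gg N32084 = N44964 := ded_50_3 L380406 L630567 L271779
theorem L649023 : sm gg N41615 = N31908 := ded_41_2 (flp_e L270345) L630602 L351504
theorem L649025 : sm gf N32018 = N44042 := ded_35_2 (flp_d L372567) L630948 (flp_d L271284)
theorem L649027 : sm gi N44042 = N32017 := ded_39_2 L271276 L630963 L372567
theorem L649029 : sm gj N44042 = N35021 := ded_37_2 (flp_d L648588) L631071 L372567
theorem L649031 : N44563 = N42017 := coi_38_4 (flp_h L355155) (flp_d L353340) L635051 L256688 L259177 L377000
theorem L649032 : N44563 = N42017 := eqc rfl L649031 rfl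
theorem L649034 : sm gd N42017 = N30559 := trfs L649032 (flp_d L377000) rfl
theorem L649036 : sm gg N42017 = N30560 := trfs L649032 L377003 rfl
theorem L649038 : N44575 = N42023 := coi_37_3 L355214 (flp_j L355199) L631887 (flp_j L377095)
theorem L649039 : N44575 = N42023 := eqc rfl L649038 rfl
theorem L649042 : sm gj N42023 = N30569 := trfs L649039 L377095 rfl
theorem L649044 : sm gh N42023 = N30566 := trfs L649039 (flp_h L377091) rfl
theorem L649046 : sm gb N35181 = N41824 := ded_24_3 L632058 (flp_b L354073) (flp_j L648955)
theorem L649048 : sm gj N41947 = N31975 := ded_31_2 L270930 L633481 (flp_c L354511)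
theorem L649050 : sm gj N41908 = N31978 := ded_52_3 (flp_h L270950) L633481 (flp_h L354137)
theorem L649052 : sm gg N31975 = N42074 := ded_30_2 L355652 L633490 (flp_c L270930)
theorem L649054 : sm gg N31978 = N42015 := ded_50_3 L355142 L633490 L270950
theorem L649056 : sm gi N31978 = N41907 := ded_18_2 (flp_a L648670) L633585 (flp_a L270952)
theorem L649058 : sm gi N32040 = N45131 := ded_33_2 L381864 L633585 (flp_c L271438)
theorem L649060 : sm gh N44504 = N35216 := ded_38_4 L648921 L634601 L256462 L258856 L376552
theorem L649062 : N42740 = N45161 := coi_38_4 (flp_h L382114) L262618 L634790 L244938 L248641 L361402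
theorem L649063 : N45161 = N42740 := (eqc rfl L649062 rfl).symm
theorem L649065 : sm ge N42740 = N31917 := trfs L649063 L382117 rfl
theorem L649067 : sm gg N42740 = N31163 := trfs L649063 L382119 rfl
theorem L649069 : sm gj N42740 = N30963 := trfs L649063 L382121 rfl
theorem L649071 : sm gh N42740 = N30960 := trfs L649063 (flp_h L382114) rfl
theorem L649074 : N44564 = N44572 := coi_32_2 (flp_h L377069) (flp_c L377055) L634922 (flp_c L377008)
theorem L649075 : N44572 = N44564 := (eqc rfl L649074 rfl).symm
theorem L649077 : sm gf N44564 = N30569 := trfs L649075 L377072 rfl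
theorem L649079 : sm gh N44564 = N30564 := trfs L649075 (flp_h L377069) rfl
theorem L649081 : sm gc N34378 = N44134 := ded_29_3 L635026 (flp_c L376687) L648943
theorem L649083 : N44942 = N42176 := coi_36_3 (flp_d L356561) (flp_g L356557) L635150 (flp_g L380223)
theorem L649084 : N44942 = N42176 := eqc rfl L649083 rfl
theorem L649086 : sm ge N42176 = N30812 := trfs L649084 (flp_e L380220) rfl
theorem L649088 : sm gg N42176 = N30815 := trfs L649084 L380223 rfl
theorem L649091 : sm gf N32150 = N41670 := ded_35_2 L351983 L635420 (flp_d L272350)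
theorem L649093 : sm ga N41670 = N32203 := ded_12_3 L272817 L635426 (flp_d L351983)
theorem L649095 : sm gf N32148 = N41669 := ded_29_2 (flp_c L351972) L635483 L272326
theorem L649097 : sm gg N32203 = N41638 := ded_51_3 (flp_i L351712) L635504 L272814
theorem L649099 : sm gd N32065 = N42222 := ded_27_4 L356989 L635618 L186665 (flp_d L186883) (flp_c L271633)
theorem L649101 : sm gd N32208 = N42236 := ded_34_5 L357107 L635618 L186667 (flp_d L187714) (flp_e L272856)
theorem L649103 : sm gd N42232 = N32207 := ded_35_3 (flp_f L272847) L635658 (flp_f L357070)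
theorem L649105 : sm ga N32205 = N42284 := ded_11_3 (flp_c L357497) L635664 (flp_c L272834)
theorem L649107 : sm ga N32208 = N42285 := ded_18_3 (flp_i L357503) L635664 L272853
theorem L649109 : sm gf N42197 = N32029 := ded_22_2 (flp_b L271365) L635680 (flp_b L356766)
theorem L649111 : sm gj N32029 = N42031 := ded_24_2 L355287 L635691 L271365
theorem L649113 : sm gj N32030 = N42041 := ded_42_2 L355379 L635691 L271372
theorem L649115 : sm gj N32031 = N42046 := ded_53_3 (flp_i L355418) L635691 L271378
theorem L649117 : sm gd N42046 = N32069 := ded_39_3 (flp_i L271663) L635695 L355418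
theorem L649119 : sm gg N32069 = N42048 := ded_51_3 (flp_i L355433) L635709 L271663
theorem L649121 : sm gj N42032 = N31899 := ded_24_2 (flp_b L270270) L635723 (flp_b L355298)
theorem L649123 : sm gj N42048 = N31900 := ded_53_3 (flp_i L270277) L635723 L355433
theorem L649125 : sm gf N31900 = N41930 := ded_48_3 (flp_i L354350) L635728 L270277
theorem L649127 : sm gg N41919 = N31873 := ded_23_2 (flp_b L270054) L635742 (flp_b L354244)
theorem L649129 : sm gg N41924 = N31874 := ded_41_2 (flp_e L270062) L635742 (flp_e L354296)
theorem L649131 : sm gf N32069 = N42224 := ded_48_3 (flp_i L357001) L635755 L271663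
theorem L649133 : sm gj N42198 = N32063 := ded_24_2 (flp_b L271617) L635765 (flp_b L356776)
theorem L649135 : sm gj N42223 = N32064 := ded_42_2 (flp_e L271625) L635765 L356994
theorem L649137 : sm gj N42224 = N32065 := ded_53_3 (flp_i L271631) L635765 L357001
theorem L649139 : N45446 = N42606 := coi_31_2 L360350 L360364 L637057 L384341
theorem L649140 : N45446 = N42606 := eqc rfl L649139 rfl
theorem L649142 : sm gc N42606 = N31151 := trfs L649140 (flp_c L384341) rfl
theorem L649144 : sm gg N42606 = N31153 := trfs L649140 L384344 rfl
theorem L649147 : N45149 = N42611 := coi_46_2 L360392 (flp_f L360367) L637057 (flp_f L382021)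
theorem L649148 : N45149 = N42611 := eqc rfl L649147 rfl
theorem L649150 : sm gd N42611 = N30953 := trfs L649148 (flp_d L382018) rfl
theorem L649152 : sm gf N42611 = N31151 := trfs L649148 L382021 rfl
theorem L649154 : sm gg N42611 = N30954 := trfs L649148 L382023 rfl
theorem L649157 : sm gf N44271 = N31884 := ded_14_2 L648666 L640279 (flp_a L374557)
theorem L649159 : sm gc N41920 = N31910 := ded_56_60 (flp_b L270361) L186021 L186025 L186022 (flp_e L180707) (flp_d L640284) L640282 (flp_b L257716) (flp_a L374557) L648945 L296911 L204389 L140855 L98603 L98602 L574732 L115957 L115960 (flp_e L167377) (flp_d L242750) (flp_c L644892) L206829 L567324 (flp_h L242754) (flp_f L167353) L115529 (flp_d L83743) L57997 L43568 L30310 (flp_h L582988) (flp_f L25355) (flp_e L25347) L17681 L12344 L12342 (flp_a L11017) (flp_h L15266) (flp_f L15258) (flp_e L10652) L7441 (flp_c L7431) (flp_b L6834) L6833 L6840 L4847 L6995 L7004 (flp_c L10030) (flp_b L14319) (flp_a L20482) (flp_h L28639) L41181 L41192 (flp_d L59361) (flp_c L85772) (flp_b L124214) (flp_a L177185) L257372 L257379 (flp_e L243838) L354251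
theorem L649161 : N42042 = N44519 := coi_38_4 L376667 L258996 L640415 (flp_d L244542) L244557 L355383
theorem L649162 : N44519 = N42042 := (eqc rfl L649161 rfl).symm
theorem L649163 : sm gc N42042 = N30528 := trfs L649162 (flp_c L376665) rfl
theorem L649165 : sm gh N42042 = N30535 := trfs L649162 L376667 rfl
theorem L649167 : sm ge N32203 = N42238 := ded_44_3 (flp_i L357119) L640725 L272814
theorem L649169 : sm ge N32213 = N42233 := ded_40_5 L357079 L640725 L187683 L187727 L272893
theorem L649171 : sm gj N32205 = N42237 := ded_31_2 (flp_c L357112) L640727 (flp_c L272834)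
theorem L649173 : sm gj N32207 = N42233 := ded_46_2 L357079 L640727 L272847
theorem L649175 : sm gj N32208 = N42238 := ded_53_3 (flp_i L357119) L640727 L272853
theorem L649177 : sm gj N41670 = N32147 := ded_37_2 L272321 L640916 (flp_d L351983)
theorem L649179 : sm ge N42284 = N32145 := ded_28_2 (flp_c L272301) L640942 L357497
theorem L649181 : sm ge N42285 = N32147 := ded_44_3 (flp_i L272317) L640942 L357503
theorem L649183 : sm gj N41669 = N32145 := ded_31_2 (flp_c L272301) L640945 L351972
theorem L649185 : N45158 = N45167 := coi_52_3 L382171 (flp_h L377138) L641182 L382088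
theorem L649186 : N45167 = N45158 := (eqc rfl L649185 rfl).symm
theorem L649188 : sm gd N45158 = N30966 := trfs L649186 (flp_d L382168) rfl
theorem L649190 : sm gj N45158 = N31169 := trfs L649186 L382171 rfl
theorem L649193 : sm gj N35185 = N41803 := ded_42_2 L353209 L641424 (flp_e L298288)
theorem L649195 : sm gc N35185 = N41812 := ded_28_3 L353287 L641577 (flp_e L298288)
theorem L649197 : sm gj N32015 = N41923 := ded_31_2 L354286 L642387 (flp_c L271263)
theorem L649199 : sm gj N32017 = N41931 := ded_46_2 (flp_f L354359) L642387 L271273
theorem L649201 : sm gh N41923 = N31874 := ded_32_2 L270064 L642399 (flp_c L354286)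
theorem L649203 : sm gh N41931 = N31876 := ded_47_2 (flp_f L270077) L642399 L354359
theorem L649205 : sm gg N31877 = N41935 := ded_51_3 (flp_i L354394) L642405 L270085
theorem L649207 : sm gg N31876 = N44269 := ded_45_2 L374542 L257513 (flp_f L243904) L642405 L270077
theorem L649209 : sm gh N31873 = N41918 := ded_25_2 L354235 L642423 L270054
theorem L649211 : sm gj N41918 = N32014 := ded_24_2 (flp_b L271254) L642433 (flp_b L354235)
theorem L649213 : sm ga N32014 = N42405 := ded_10_3 L358609 L246816 (flp_b L243966) L642435 L271254
theorem L649215 : sm gb N31975 = N42449 := ded_26_3 (flp_i L359002) L642454 L270926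
theorem L649217 : sm gb N32035 = N42419 := ded_10_4 L358738 L642454 L186374 L186708 L271406
theorem L649219 : sm gd N42419 = N32002 := ded_12_2 (flp_a L271159) L642461 (flp_a L358738)
theorem L649221 : sm gd N42449 = N32003 := ded_39_3 (flp_i L271166) L642461 L359002
theorem L649223 : sm gj N32002 = N42420 := ded_16_2 L358749 L642479 L271159
theorem L649225 : sm gj N32003 = N42451 := ded_53_3 (flp_i L359017) L642479 L271166
theorem L649227 : sm gb N42451 = N31853 := ded_26_3 (flp_i L269884) L642488 L359017
theorem L649229 : sm gb N42420 = N31902 := ded_10_2 (flp_a L270291) (flp_b L185967) (flp_a L185673) L642488 (flp_a L358749)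
theorem L649231 : sm gg N32002 = N42651 := ded_15_2 L360703 L642503 L271159
theorem L649233 : sm gg N32003 = N42697 := ded_51_3 (flp_i L361058) L642503 L271166
theorem L649235 : sm gb N42697 = N32000 := ded_26_3 (flp_i L271142) L642512 L361058
theorem L649237 : sm gb N42651 = N32071 := ded_10_2 (flp_a L271677) (flp_b L186901) (flp_a L186541) L642512 (flp_a L360703)
theorem L649239 : sm gg N32015 = N42040 := ded_30_2 L355369 L642588 (flp_c L271263)
theorem L649241 : sm gh N42040 = N32030 := ded_32_2 L271374 L642600 (flp_c L355369)
theorem L649243 : sm gh N42052 = N32032 := ded_47_2 (flp_f L271386) L642600 (flp_f L355472)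
theorem L649245 : sm gj N32032 = N42053 := ded_46_2 L355481 L642606 L271386
theorem L649247 : sm gj N32033 = N42056 := ded_53_3 (flp_i L355501) L642606 L271391
theorem L649249 : sm gg N32014 = N42030 := ded_23_2 L355277 L642618 L271254
theorem L649251 : sm gh N32029 = N42030 := ded_25_2 L355277 L642620 L271365
theorem L649253 : sm ga N32031 = N42074 := ded_18_3 (flp_i L355648) L642653 L271378
theorem L649255 : sm gd N32000 = N42074 := ded_39_3 (flp_i L355648) L642655 L271142
theorem L649257 : sm ge N42232 = N32032 := ded_40_3 (flp_f L271386) (flp_e L186694) L642671 (flp_e L245717) (flp_f L357070)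
theorem L649259 : sm ga N41947 = N31875 := ded_11_3 L270070 L642694 (flp_c L354511)
theorem L649261 : sm ga N31873 = N42406 := ded_10_3 L358618 L246826 (flp_b L243976) L642731 L270054
theorem L649263 : sm gd N31853 = N41947 := ded_39_3 (flp_i L354507) L642733 L269884
theorem L649265 : sm gb N31978 = N41916 := ded_25_3 L354218 L644045 L270950
theorem L649267 : sm gi N35181 = N41814 := ded_48_0 L644107 (flp_i L354086) (flp_f L648777)
theorem L649269 : sm gd N41935 = N31882 := ded_39_3 (flp_i L270126) L645181 L354394
theorem L649271 : sm gf N44274 = N31882 := ded_48_3 (flp_i L270126) L645183 L374579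
theorem L649273 : sm gd N42056 = N32045 := ded_39_3 (flp_i L271469) L645190 L355501
theorem L649275 : sm gg N44504 = N32044 := ded_45_4 (flp_f L271460) L645192 L244648 (flp_g L258879) (flp_f L376557)
theorem L649277 : sm gb N31908 = N41564 := ded_21_3 (flp_e L351068) L645416 L270345
theorem L649279 : sm gb N31909 = N41565 := ded_26_3 (flp_i L351078) L645416 L270352
theorem L649281 : sm ge N32082 = N45646 := ded_44_3 L385960 L645444 L271760
theorem L649283 : sm gj N46157 = N32086 := ded_24_2 L271798 L645461 (flp_b L390102)
theorem L649285 : sm gj N45646 = N32089 := ded_53_3 (flp_i L271817) L645461 (flp_i L385960)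
theorem L649287 : sm gd N32086 = N46154 := ded_20_2 L390077 L645468 (flp_b L271798)
theorem L649289 : sm gd N32089 = N45643 := ded_39_3 L385936 L645468 L271817
theorem L649291 : sm gj N32066 = N45913 := ded_53_3 L388124 L645700 L271638
theorem L649293 : sm ge N32084 = N44961 := ded_43_3 L380384 L645705 L271779
theorem L649295 : sm gj N32091 = N44961 := ded_52_3 L380384 L645709 L271834
theorem L649297 : sm gj N32353 = N43020 := ded_52_3 L363813 L646344 L274059
theorem L649299 : sm gb N32353 = N43018 := ded_25_3 L363795 L646346 L274059
theorem L649301 : sm gb N32322 = N43686 := ded_10_2 (flp_a L369435) (flp_b L254063) (flp_a L253576) L646346 (flp_a L273803)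
theorem L649303 : sm gb N32265 = N46335 := ded_20_3 (flp_d L391538) L646381 L273311
theorem L649305 : sm gb N32266 = N45879 := ded_26_3 L387832 L646381 L273314
theorem L649307 : sm gd N32091 = N44958 := ded_38_3 (flp_h L380350) L261411 L647349 (flp_d L187010) L271834
theorem L649309 : sm gj N31896 = N41565 := ded_37_2 L351084 L647977 (flp_d L270248)
theorem L649311 : sm gc N31896 = N41930 := ded_27_3 L354354 L243883 (flp_d L241461) L647981 (flp_d L270248)
theorem L649313 : sm gc N31851 = N41949 := ded_27_3 L354527 L243996 (flp_d L241564) L647990 (flp_d L269873)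
theorem L649315 : sm ga N41584 = N31898 := ded_12_3 L270264 L648004 (flp_d L351245)
theorem L649317 : sm gc N31998 = N42076 := ded_27_3 L355669 L244758 (flp_d L241869) L648013 (flp_d L271132)
theorem L649319 : sm ga N41656 = N32062 := ded_12_3 L271611 L648028 (flp_d L351864)
theorem L649321 : sm gc N42224 = N32062 := ded_27_5 L271611 L648030 L242131 (flp_c L245653) (flp_d L357005)
theorem L649323 : sm gc N31996 = N42267 := ded_27_3 L357366 L245889 (flp_d L242320) L648037 (flp_d L271115)
theorem L649325 : sm ga N32064 = N42266 := ded_13_3 (flp_e L357354) L648068 L271625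
theorem L649327 : sm ga N32065 = N42267 := ded_18_3 (flp_i L357362) L648068 L271631
theorem L649329 : sm gc N31995 = N42266 := ded_28_3 (flp_e L357354) L648070 L271101
theorem L649331 : sm gf N32000 = N42267 := ded_48_3 (flp_i L357362) L648072 L271142
theorem L649333 : sm gc N42198 = N32080 := ded_19_2 (flp_b L271744) (flp_c L186958) (flp_b L186847) L648087 (flp_b L356776)
theorem L649335 : sm ga N32069 = N42076 := ded_18_3 (flp_i L355665) L648099 L271663
theorem L649337 : sm gj N32000 = N42076 := ded_53_3 (flp_i L355665) L648106 L271142
theorem L649339 : sm ga N31900 = N41949 := ded_18_3 (flp_i L354523) L648149 L270277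
theorem L649341 : sm gg N31853 = N41949 := ded_51_3 (flp_i L354523) L648156 L269884
theorem L649343 : sm ga N41535 = N31895 := ded_13_3 (flp_e L270237) L648173 L350804
theorem L649345 : sm gj N41564 = N31895 := ded_42_2 (flp_e L270237) L648178 L351068
theorem L649347 : sm gf N44562 = N34355 := ded_47_3 L648222 L355793 L376995
theorem L649349 : sm gg N45423 = N32040 := ded_30_2 L271438 (flp_g L271403) L648239
theorem L649351 : sm gd N44857 = N32238 := ded_12_0 L648278 L376937 (flp_a L379537)
theorem L649353 : sm ge N44504 = N32238 := ded_13_0 L648278 (flp_e L376933) (flp_a L376554)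
theorem L649355 : sm ga N42330 = N31910 := ded_14_1 L270364 L270426 L648330
theorem L649357 : sm gc N42380 = N31918 := ded_29_3 L648330 L357910 L358387
theorem L649359 : sm gj N42516 = N31918 := ded_46_0 L648330 L357913 L359588
theorem L649361 : sm gc N42591 = N32092 := ded_11_2 (flp_a L271841) (flp_c L271661) L648362
theorem L649363 : sm gj N42591 = N32071 := ded_16_2 (flp_a L271677) (flp_j L271658) L648362
theorem L649365 : sm gg N32213 = N44857 := ded_15_2 L379537 (flp_g L357484) L648406
theorem L649367 : sm ge N31910 = N42316 := ded_21_0 L648438 (flp_e L270368) L270361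
theorem L649369 : sm gj N31911 = N42486 := ded_24_2 L359323 (flp_j L357774) L648438
theorem L649371 : sm gd N43686 = N32320 := ded_37_3 L648497 L369145 (flp_j L369441)
theorem L649373 : sm gc N31908 = N42486 := ded_28_3 L648602 (flp_c L270336) L270345
theorem L649375 : sm gj N42034 = N31910 := ded_24_2 (flp_b L270361) (flp_j L270341) L648604
theorem L649377 : sm gc N42907 = N32085 := ded_11_2 (flp_a L271788) (flp_c L271623) L648616
theorem L649379 : sm gf N42907 = N32071 := ded_14_2 (flp_a L271677) (flp_f L271619) L648616
theorem L649381 : sm gg N42380 = N31902 := ded_15_2 (flp_a L270291) (flp_g L270272) L648626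
theorem L649383 : sm ga N42794 = N32080 := ded_15_3 L648648 (flp_a L550695) L361880
theorem L649385 : sm gj N32040 = N45132 := ded_52_3 L648668 L270075 L271436
theorem L649387 : sm gg N42516 = N32092 := ded_15_2 (flp_a L271841) (flp_g L270402) L648674
theorem L649389 : sm gj N34812 = N42789 := ded_37_0 L648901 L295117 L295119
theorem L649391 : sm gc N42899 = N34812 := ded_28_3 L648905 L361824 L362799
theorem L649393 : sm gd N42627 = N32071 := ded_12_2 (flp_a L271677) (flp_d L271367) L648991
theorem L649395 : sm gg N42627 = N32035 := ded_15_2 (flp_a L271406) (flp_g L271369) L648991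
theorem L649397 : sm gh N42405 = N32035 := ded_17_2 (flp_a L271406) (flp_h L271258) L649213
theorem L649399 : sm gj N42406 = N32035 := ded_24_0 L649217 L358745 (flp_b L358618)
theorem L649401 : sm gd N31902 = N42406 := ded_20_2 L358618 L358747 L649229
theorem L649403 : sm gf N32092 = N42794 := ded_29_2 L361883 (flp_f L360227) L649361
theorem L649405 : sm gj N32085 = N42794 := ded_31_2 L361883 L362846 L649377
theorem L649407 : sm gh N31851 = N46341 := rfl
theorem L649409 : sm ga N46341 = N31901 := ded_17_1 (flp_h L270283) (flp_a L269870) L649407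
theorem L649411 : sm gb N46341 = N46341 := ded_25_1 (flp_h L649407) L269872 L649407
theorem L649412 : sm gg N46341 = N31854 := ded_50_1 (flp_h L269893) (flp_g L269875) L649407
theorem L649414 : sm gd N46341 = N46341 := ded_38_1 (flp_h L649407) L269873 L185670 (flp_d L269873) L649407
theorem L649415 : sm gi N46341 = N46341 := ded_54_2 (flp_h L649407) (flp_i L269868) L185660 L269868 L649407
theorem L649416 : sm gh N31853 = N46342 := rfl
theorem L649418 : sm ga N46342 = N31904 := ded_17_1 (flp_h L270308) (flp_a L269886) L649416
theorem L649420 : sm gc N46342 = N31854 := ded_32_1 (flp_h L269893) (flp_c L269888) L649416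
theorem L649422 : sm gf N46342 = N46342 := ded_47_1 (flp_h L649416) L269890 L649416
theorem L649423 : sm gj N46342 = N32004 := ded_52_1 (flp_h L271172) (flp_j L269891) L649416
theorem L649425 : sm gi N46342 = N46342 := ded_54_2 (flp_h L649416) (flp_i L269884) L185678 L269884 L649416
theorem L649426 : sm ge N31873 = N46343 := rfl
theorem L649428 : sm gb N46343 = N31874 := ded_21_1 (flp_e L270062) L270054 L649426
theorem L649430 : sm gc N46343 = N46343 := ded_28_1 (flp_e L649426) L270061 L649426
theorem L649431 : sm gj N46343 = N32036 := ded_42_2 (flp_e L271412) (flp_j L270059) L649426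
theorem L649433 : sm gi N31873 = N46344 := rfl
theorem L649435 : sm gb N46344 = N31875 := ded_26_1 (flp_i L270068) L270054 L649433
theorem L649437 : sm gc N46344 = N46344 := ded_33_1 (flp_i L649433) L270061 L649433
theorem L649438 : sm gd N46344 = N31903 := ded_39_1 (flp_i L270299) (flp_d L270056) L649433
theorem L649440 : sm gf N46344 = N46344 := ded_48_1 (flp_i L649433) L270058 L649433
theorem L649441 : sm gj N46344 = N32037 := ded_53_1 (flp_i L271417) (flp_j L270059) L649433
theorem L649443 : sm gf N31874 = N46345 := rfl
theorem L649445 : sm gc N46345 = N31876 := ded_29_1 (flp_f L270077) (flp_c L270064) L649443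
theorem L649447 : sm gj N46345 = N32038 := ded_46_2 (flp_f L271425) (flp_j L270066) L649443
theorem L649449 : sm ge N46345 = N46345 := ded_40_1 (flp_f L649443) (flp_e L270062) L185791 L270062 L649443
theorem L649450 : sm gi N31874 = N46346 := rfl
theorem L649452 : sm gc N46346 = N31877 := ded_33_1 (flp_i L270085) (flp_c L270064) L649450
theorem L649454 : sm ge N46346 = N31875 := ded_44_1 (flp_i L270068) L270062 L649450
theorem L649456 : sm gj N46346 = N32039 := ded_53_1 (flp_i L271430) (flp_j L270066) L649450
theorem L649458 : sm gi N31876 = N46347 := rfl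
theorem L649460 : sm gb N46347 = N46347 := ded_26_1 (flp_i L649458) L270079 L649458
theorem L649461 : sm gd N46347 = N31885 := ded_39_1 (flp_i L270149) (flp_d L270080) L649458
theorem L649463 : sm ge N46347 = N46347 := ded_44_1 (flp_i L649458) L270084 L649458
theorem L649464 : sm gf N46347 = N31877 := ded_48_1 (flp_i L270085) L270077 L649458
theorem L649466 : sm gj N46347 = N32042 := ded_53_1 (flp_i L271447) (flp_j L270082) L649458
theorem L649468 : sm gh N31877 = N46348 := rfl
theorem L649470 : sm gb N46348 = N46348 := ded_25_1 (flp_h L649468) L270087 L649468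
theorem L649471 : sm ge N46348 = N31878 := ded_43_1 (flp_h L270094) (flp_e L270090) L649468
theorem L649473 : sm gg N46348 = N31885 := ded_50_1 (flp_h L648300) (flp_g L649205) L649468
theorem L649475 : sm gj N46348 = N32043 := ded_52_1 (flp_h L271455) (flp_j L270092) L649468
theorem L649477 : sm gi N46348 = N31884 := ded_54_2 L270147 (flp_i L501670) (flp_h L642399) L270085 L649468
theorem L649479 : sm gj N31884 = N46349 := rfl
theorem L649481 : sm gb N46349 = N46349 := ded_24_1 (flp_j L649479) L270144 L649479
theorem L649482 : sm ge N46349 = N31887 := ded_42_1 (flp_j L270167) (flp_e L270145) L649479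
theorem L649484 : sm gh N46349 = N32018 := ded_52_2 L642532 (flp_h L270147) L649479
theorem L649486 : sm gi N46349 = N32043 := ded_53_2 (flp_j L649475) L649477 L649479
theorem L649488 : sm gg N46349 = N32050 := ded_49_1 (flp_j L271511) (flp_g L186783) (flp_j L185850) L270142 L649479
theorem L649490 : sm gi N31895 = N46350 := rfl
theorem L649492 : sm gb N46350 = N31913 := ded_26_1 (flp_i L270384) (flp_b L270239) L649490
theorem L649494 : sm gd N46350 = N46350 := ded_39_1 (flp_i L649490) L270243 L649490
theorem L649495 : sm ge N46350 = N31896 := ded_44_1 (flp_i L270244) L270237 L649490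
theorem L649497 : sm gg N46350 = N46350 := ded_51_1 (flp_i L649490) L270241 L649490
theorem L649498 : sm gh N31896 = N46351 := rfl
theorem L649500 : sm gb N46351 = N31914 := ded_25_1 (flp_h L270391) (flp_b L270246) L649498
theorem L649502 : sm gf N46351 = N31901 := ded_47_1 (flp_h L270283) (flp_f L270250) L649498
theorem L649504 : sm gg N46351 = N46351 := ded_50_1 (flp_h L649498) L270252 L649498
theorem L649505 : sm gd N46351 = N46351 := ded_38_1 (flp_h L649498) L270248 L185933 (flp_d L270248) L649498
theorem L649506 : sm gi N46351 = N46351 := ded_54_2 (flp_h L649498) (flp_i L270244) L185924 L270244 L649498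
theorem L649507 : sm gh N31898 = N46352 := rfl
theorem L649509 : sm gb N46352 = N31917 := ded_25_1 (flp_h L270417) (flp_b L270262) L649507
theorem L649511 : sm gg N46352 = N32070 := ded_50_1 (flp_h L271669) (flp_g L270266) L649507
theorem L649513 : sm gj N46352 = N31901 := ded_52_1 (flp_h L270283) (flp_j L270268) L649507
theorem L649515 : sm gd N46352 = N46352 := ded_38_1 (flp_h L649507) L270264 L185953 (flp_d L270264) L649507
theorem L649516 : sm gi N46352 = N46352 := ded_54_2 (flp_h L649507) (flp_i L270260) L185942 L270260 L649507
theorem L649517 : sm gi N31899 = N46353 := rfl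
theorem L649519 : sm gb N46353 = N31900 := ded_26_1 (flp_i L270277) L270270 L649517
theorem L649521 : sm gc N46353 = N31919 := ded_33_1 (flp_i L270433) (flp_c L270275) L649517
theorem L649523 : sm gg N46353 = N31903 := ded_51_1 (flp_i L270299) (flp_g L270272) L649517
theorem L649525 : sm gh N31900 = N46354 := rfl
theorem L649527 : sm gc N46354 = N31901 := ded_32_1 (flp_h L270283) (flp_c L270279) L649525
theorem L649529 : sm gg N46354 = N31904 := ded_50_1 (flp_h L270308) (flp_g L270281) L649525
theorem L649531 : sm gi N46354 = N46354 := ded_54_2 (flp_h L649525) (flp_i L270277) L185958 L270277 L649525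
theorem L649532 : sm gi N31902 = N46355 := rfl
theorem L649534 : sm ga N46355 = N31903 := ded_18_1 (flp_i L270299) L270291 L649532
theorem L649536 : sm gc N46355 = N31921 := ded_33_1 (flp_i L270448) (flp_c L270293) L649532
theorem L649538 : sm gf N46355 = N46355 := ded_48_1 (flp_i L649532) L270295 L649532
theorem L649539 : sm gj N46355 = N32074 := ded_53_1 (flp_i L271699) (flp_j L270296) L649532
theorem L649541 : sm gh N31903 = N46356 := rfl
theorem L649543 : sm gb N46356 = N31904 := ded_25_1 (flp_h L270308) (flp_b L270301) L649541
theorem L649545 : sm gc N46356 = N31922 := ded_32_1 (flp_h L270457) (flp_c L270303) L649541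
theorem L649547 : sm gf N46356 = N46356 := ded_47_1 (flp_h L649541) L270305 L649541
theorem L649548 : sm gj N46356 = N32075 := ded_52_1 (flp_h L271706) (flp_j L270306) L649541
theorem L649550 : sm gi N46356 = N46356 := ded_54_2 (flp_h L649541) (flp_i L270299) L185972 L270299 L649541
theorem L649551 : sm gd N31904 = N46357 := rfl
theorem L649553 : sm gf N46357 = N46357 := ded_35_2 (flp_d L649551) L270312 L649551
theorem L649554 : sm gj N46357 = N32076 := ded_37_2 (flp_d L271714) (flp_j L270313) L649551
theorem L649556 : sm gi N46357 = N46357 := ded_39_2 (flp_d L649551) L270315 L649551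
theorem L649557 : sm gc N46357 = N46357 := ded_27_1 (flp_d L649551) L270310 L185989 (flp_c L270310) L649551
theorem L649558 : sm gi N31907 = N46358 := rfl
theorem L649560 : sm ga N46358 = N46358 := ded_18_1 (flp_i L649558) L270338 L649558
theorem L649561 : sm gc N46358 = N31909 := ded_33_1 (flp_i L270352) L270336 L649558
theorem L649563 : sm gd N46358 = N46358 := ded_39_1 (flp_i L649558) L270344 L649558
theorem L649564 : sm gf N46358 = N31916 := ded_48_1 (flp_i L270407) (flp_f L270339) L649558
theorem L649566 : sm gj N46358 = N31912 := ded_53_1 (flp_i L270375) (flp_j L270341) L649558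
theorem L649568 : sm gi N31908 = N46359 := rfl
theorem L649570 : sm ga N46359 = N46359 := ded_18_1 (flp_i L649568) L270347 L649568
theorem L649571 : sm gd N46359 = N46359 := ded_39_1 (flp_i L649568) L270351 L649568
theorem L649572 : sm ge N46359 = N31909 := ded_44_1 (flp_i L270352) L270345 L649568
theorem L649574 : sm gj N46359 = N31913 := ded_53_1 (flp_i L270384) (flp_j L270348) L649568
theorem L649576 : sm gh N31909 = N46360 := rfl
theorem L649578 : sm ga N46360 = N46360 := ded_17_1 (flp_h L649576) L270354 L649576
theorem L649579 : sm gf N46360 = N31917 := ded_47_1 (flp_h L270417) (flp_f L270357) L649576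
theorem L649581 : sm gj N46360 = N31914 := ded_52_1 (flp_h L270391) (flp_j L270359) L649576
theorem L649583 : sm gd N46360 = N46360 := ded_38_1 (flp_h L649576) L270355 L186018 (flp_d L270355) L649576
theorem L649584 : sm gi N46360 = N46360 := ded_54_2 (flp_h L649576) (flp_i L270352) L186008 L270352 L649576
theorem L649585 : sm gi N31910 = N46361 := rfl
theorem L649587 : sm gb N46361 = N31912 := ded_26_1 (flp_i L270375) L270361 L649585
theorem L649589 : sm gd N46361 = N46361 := ded_39_1 (flp_i L649585) L270363 L649585
theorem L649590 : sm gf N46361 = N31919 := ded_48_1 (flp_i L270433) (flp_f L270364) L649585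
theorem L649592 : sm gg N46361 = N46361 := ded_51_1 (flp_i L649585) L270366 L649585
theorem L649593 : sm gi N31911 = N46362 := rfl
theorem L649595 : sm ga N46362 = N46362 := ded_18_1 (flp_i L649593) L270370 L649593
theorem L649596 : sm gc N46362 = N31913 := ded_33_1 (flp_i L270384) (flp_c L270371) L649593
theorem L649598 : sm ge N46362 = N31912 := ded_44_1 (flp_i L270375) L270368 L649593
theorem L649600 : sm gg N46362 = N46362 := ded_51_1 (flp_i L649593) L270373 L649593
theorem L649601 : sm gh N31912 = N46363 := rfl
theorem L649603 : sm ga N46363 = N46363 := ded_17_1 (flp_h L649601) L270377 L649601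
theorem L649604 : sm gc N46363 = N31914 := ded_32_1 (flp_h L270391) (flp_c L270378) L649601
theorem L649606 : sm gf N46363 = N31920 := ded_47_1 (flp_h L270440) (flp_f L270381) L649601
theorem L649608 : sm gg N46363 = N46363 := ded_50_1 (flp_h L649601) L270383 L649601
theorem L649609 : sm gi N46363 = N46363 := ded_54_2 (flp_h L649601) (flp_i L270375) L186025 L270375 L649601
theorem L649610 : sm gh N31913 = N46364 := rfl
theorem L649612 : sm ga N46364 = N46364 := ded_17_1 (flp_h L649610) L270386 L649610
theorem L649613 : sm ge N46364 = N31914 := ded_43_1 (flp_h L270391) (flp_e L270388) L649610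
theorem L649615 : sm gg N46364 = N46364 := ded_50_1 (flp_h L649610) L270390 L649610
theorem L649616 : sm gi N46364 = N46364 := ded_54_2 (flp_h L649610) (flp_i L270384) L186031 L270384 L649610
theorem L649617 : sm gi N31915 = N46365 := rfl
theorem L649619 : sm gb N46365 = N31916 := ded_26_1 (flp_i L270407) L270399 L649617
theorem L649621 : sm gd N46365 = N46365 := ded_39_1 (flp_i L649617) L270401 L649617
theorem L649622 : sm gg N46365 = N32093 := ded_51_1 (flp_i L271848) (flp_g L270402) L649617
theorem L649624 : sm gj N46365 = N31919 := ded_53_1 (flp_i L270433) (flp_j L270404) L649617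
theorem L649626 : sm gh N31916 = N46366 := rfl
theorem L649628 : sm ga N46366 = N46366 := ded_17_1 (flp_h L649626) L270409 L649626
theorem L649629 : sm gc N46366 = N31917 := ded_32_1 (flp_h L270417) (flp_c L270410) L649626
theorem L649631 : sm gg N46366 = N32094 := ded_50_1 (flp_h L271855) (flp_g L270413) L649626
theorem L649633 : sm gj N46366 = N31920 := ded_52_1 (flp_h L270440) (flp_j L270415) L649626
theorem L649635 : sm gi N46366 = N46366 := ded_54_2 (flp_h L649626) (flp_i L270407) L186048 L270407 L649626
theorem L649636 : sm gi N31918 = N46367 := rfl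
theorem L649638 : sm ga N46367 = N31919 := ded_18_1 (flp_i L270433) L270426 L649636
theorem L649640 : sm gb N46367 = N46367 := ded_26_1 (flp_i L649636) L270432 L649636
theorem L649641 : sm gd N46367 = N46367 := ded_39_1 (flp_i L649636) L270428 L649636
theorem L649642 : sm gg N46367 = N31921 := ded_51_1 (flp_i L270448) (flp_g L270429) L649636
theorem L649644 : sm gh N31919 = N46368 := rfl
theorem L649646 : sm gb N46368 = N31920 := ded_25_1 (flp_h L270440) (flp_b L270435) L649644
theorem L649648 : sm gg N46368 = N31922 := ded_50_1 (flp_h L270457) (flp_g L270438) L649644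
theorem L649650 : sm gi N46368 = N46368 := ded_54_2 (flp_h L649644) (flp_i L270433) L186064 L270433 L649644
theorem L649651 : sm gd N31920 = N46369 := rfl
theorem L649653 : sm ga N46369 = N46369 := ded_12_1 (flp_d L649651) L270442 L649651
theorem L649654 : sm gg N46369 = N31923 := ded_36_2 (flp_d L270465) (flp_g L270445) L649651
theorem L649656 : sm gi N46369 = N46369 := ded_39_2 (flp_d L649651) L270447 L649651
theorem L649657 : sm gc N46369 = N46369 := ded_27_1 (flp_d L649651) L270443 L186078 (flp_c L270443) L649651
theorem L649658 : sm gh N46369 = N46369 := ded_38_2 (flp_d L649651) (flp_h L270440) L186070 L270440 L649651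
theorem L649659 : sm gh N31921 = N46370 := rfl
theorem L649661 : sm ga N46370 = N31922 := ded_17_1 (flp_h L270457) (flp_a L270450) L649659
theorem L649663 : sm gb N46370 = N46370 := ded_25_1 (flp_h L649659) L270452 L649659
theorem L649664 : sm gf N46370 = N46370 := ded_47_1 (flp_h L649659) L270454 L649659
theorem L649665 : sm gj N46370 = N32098 := ded_52_1 (flp_h L271886) (flp_j L270455) L649659
theorem L649667 : sm gi N46370 = N46370 := ded_54_2 (flp_h L649659) (flp_i L270448) L186086 L270448 L649659
theorem L649668 : sm gd N31922 = N46371 := rfl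
theorem L649670 : sm gb N46371 = N31923 := ded_20_1 (flp_d L270465) (flp_b L270459) L649668
theorem L649672 : sm gf N46371 = N46371 := ded_35_2 (flp_d L649668) L270461 L649668
theorem L649673 : sm gj N46371 = N32099 := ded_37_2 (flp_d L271893) (flp_j L270462) L649668
theorem L649675 : sm gi N46371 = N46371 := ded_39_2 (flp_d L649668) L270464 L649668
theorem L649676 : sm gh N46371 = N46371 := ded_38_2 (flp_d L649668) (flp_h L270457) L186092 L270457 L649668
theorem L649677 : sm ge N31923 = N46372 := rfl
theorem L649679 : sm ga N46372 = N46372 := ded_13_1 (flp_e L649677) L270467 L649677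
theorem L649680 : sm gc N46372 = N46372 := ded_28_1 (flp_e L649677) L270472 L649677
theorem L649681 : sm gj N46372 = N32100 := ded_42_2 (flp_e L271900) (flp_j L270469) L649677
theorem L649683 : sm gh N46372 = N46372 := ded_43_2 (flp_e L649677) L270473 L649677
theorem L649684 : sm gi N46372 = N46372 := ded_44_2 (flp_e L649677) L270471 L649677
theorem L649685 : sm gh N31975 = N46373 := rfl
theorem L649687 : sm ga N46373 = N32040 := ded_17_1 (flp_h L271436) (flp_a L270928) L649685
theorem L649689 : sm gc N46373 = N31978 := ded_32_1 (flp_h L270950) (flp_c L270930) L649685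
theorem L649691 : sm gf N46373 = N46373 := ded_47_1 (flp_h L649685) L270934 L649685
theorem L649692 : sm gi N31995 = N46374 := rfl
theorem L649694 : sm ga N46374 = N32066 := ded_18_1 (flp_i L271638) (flp_a L271103) L649692
theorem L649696 : sm gb N46374 = N46374 := ded_26_1 (flp_i L649692) L271105 L649692
theorem L649697 : sm gd N46374 = N32188 := ded_39_1 (flp_i L272681) (flp_d L271108) L649692
theorem L649699 : sm ge N46374 = N31996 := ded_44_1 (flp_i L271110) L271101 L649692
theorem L649701 : sm gg N46374 = N46374 := ded_51_1 (flp_i L649692) L271106 L649692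
theorem L649702 : sm gh N31996 = N46375 := rfl
theorem L649704 : sm ga N46375 = N32067 := ded_17_1 (flp_h L271647) (flp_a L271112) L649702
theorem L649706 : sm gb N46375 = N46375 := ded_25_1 (flp_h L649702) L271114 L649702
theorem L649707 : sm gf N46375 = N32001 := ded_47_1 (flp_h L271150) (flp_f L271117) L649702
theorem L649709 : sm gg N46375 = N46375 := ded_50_1 (flp_h L649702) L271119 L649702
theorem L649710 : sm gd N46375 = N46375 := ded_38_1 (flp_h L649702) L271115 L186520 (flp_d L271115) L649702
theorem L649711 : sm gi N46375 = N46375 := ded_54_2 (flp_h L649702) (flp_i L271110) L186509 L271110 L649702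
theorem L649712 : sm gh N31998 = N46376 := rfl
theorem L649714 : sm ga N46376 = N32070 := ded_17_1 (flp_h L271669) (flp_a L271129) L649712
theorem L649716 : sm gb N46376 = N46376 := ded_25_1 (flp_h L649712) L271131 L649712
theorem L649717 : sm gj N46376 = N32001 := ded_52_1 (flp_h L271150) (flp_j L271134) L649712
theorem L649719 : sm gd N46376 = N46376 := ded_38_1 (flp_h L649712) L271132 L186538 (flp_d L271132) L649712
theorem L649720 : sm gi N46376 = N46376 := ded_54_2 (flp_h L649712) (flp_i L271127) L186528 L271127 L649712
theorem L649721 : sm gh N32000 = N46377 := rfl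
theorem L649723 : sm ga N46377 = N32073 := ded_17_1 (flp_h L271692) (flp_a L271144) L649721
theorem L649725 : sm gc N46377 = N32001 := ded_32_1 (flp_h L271150) (flp_c L271146) L649721
theorem L649727 : sm gg N46377 = N32004 := ded_50_1 (flp_h L271172) (flp_g L271148) L649721
theorem L649729 : sm gi N46377 = N46377 := ded_54_2 (flp_h L649721) (flp_i L271142) L186545 L271142 L649721
theorem L649730 : sm gi N32002 = N46378 := rfl
theorem L649732 : sm ga N46378 = N32003 := ded_18_1 (flp_i L271166) L271159 L649730
theorem L649734 : sm gb N46378 = N32074 := ded_26_1 (flp_i L271699) (flp_b L271164) L649730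
theorem L649736 : sm gc N46378 = N46378 := ded_33_1 (flp_i L649730) L271161 L649730
theorem L649737 : sm gf N46378 = N46378 := ded_48_1 (flp_i L649730) L271162 L649730
theorem L649738 : sm gh N32003 = N46379 := rfl
theorem L649740 : sm gb N46379 = N32004 := ded_25_1 (flp_h L271172) (flp_b L271168) L649738
theorem L649742 : sm gc N46379 = N46379 := ded_32_1 (flp_h L649738) L271170 L649738
theorem L649743 : sm gf N46379 = N46379 := ded_47_1 (flp_h L649738) L271171 L649738
theorem L649744 : sm gi N46379 = N46379 := ded_54_2 (flp_h L649738) (flp_i L271166) L186558 L271166 L649738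
theorem L649745 : sm gd N32004 = N46380 := rfl
theorem L649747 : sm ga N46380 = N32076 := ded_12_1 (flp_d L271714) (flp_a L271174) L649745
theorem L649749 : sm gf N46380 = N46380 := ded_35_2 (flp_d L649745) L271178 L649745
theorem L649750 : sm gi N46380 = N46380 := ded_39_2 (flp_d L649745) L271179 L649745
theorem L649751 : sm gc N46380 = N46380 := ded_27_1 (flp_d L649745) L271176 L186573 (flp_c L271176) L649745
theorem L649752 : sm ge N32014 = N46381 := rfl
theorem L649754 : sm gb N46381 = N32015 := ded_21_1 (flp_e L271261) L271254 L649752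
theorem L649756 : sm gc N46381 = N46381 := ded_28_1 (flp_e L649752) L271260 L649752
theorem L649757 : sm gh N46381 = N32036 := ded_43_2 (flp_e L271412) (flp_h L271258) L649752
theorem L649759 : sm gi N32014 = N46382 := rfl
theorem L649761 : sm gb N46382 = N32016 := ded_26_1 (flp_i L271267) L271254 L649759
theorem L649763 : sm gc N46382 = N46382 := ded_33_1 (flp_i L649759) L271260 L649759
theorem L649764 : sm gd N46382 = N46382 := ded_39_1 (flp_i L649759) L271256 L649759
theorem L649765 : sm gf N46382 = N46382 := ded_48_1 (flp_i L649759) L271257 L649759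
theorem L649766 : sm gg N46382 = N33491 := ded_51_1 L648334 (flp_g L649249) L649759
theorem L649768 : sm gj N46382 = N33206 := ded_53_1 L648326 L649211 L649759
theorem L649770 : sm gd N32015 = N46383 := rfl
theorem L649772 : sm gc N46383 = N35181 := ded_27_1 (flp_d L298260) L205315 (flp_d L186628) (flp_c L271263) L649770
theorem L649774 : sm ge N46383 = N46383 := ded_34_2 (flp_d L649770) (flp_e L271261) L186622 L271261 L649770
theorem L649775 : sm gf N32015 = N46384 := rfl
theorem L649777 : sm gc N46384 = N32017 := ded_29_1 (flp_f L271273) (flp_c L271263) L649775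
theorem L649779 : sm gh N46384 = N32038 := ded_47_2 (flp_f L271425) (flp_h L271265) L649775
theorem L649781 : sm ge N46384 = N46384 := ded_40_1 (flp_f L649775) (flp_e L271261) L186619 L271261 L649775
theorem L649782 : sm gi N32015 = N46385 := rfl
theorem L649784 : sm gc N46385 = N32018 := ded_33_1 (flp_i L271281) (flp_c L271263) L649782
theorem L649786 : sm ge N46385 = N32016 := ded_44_1 (flp_i L271267) L271261 L649782
theorem L649788 : sm gg N46385 = N34387 := ded_51_1 (flp_i L648302) (flp_g L649239) L649782
theorem L649790 : sm gj N46385 = N34097 := ded_53_1 L648294 (flp_j L649197) L649782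
theorem L649792 : sm gg N32017 = N46386 := rfl
theorem L649794 : sm gb N46386 = N46386 := ded_23_1 (flp_g L649792) L271275 L649792
theorem L649795 : sm gd N46386 = N35185 := ded_36_1 (flp_g L298285) (flp_d L271276) L649792
theorem L649797 : sm ge N46386 = N46386 := ded_41_1 (flp_g L649792) L271280 L649792
theorem L649798 : sm gh N46386 = N32041 := ded_50_2 (flp_g L271441) (flp_h L271278) L649792
theorem L649800 : sm ge N32029 = N46387 := rfl
theorem L649802 : sm gb N46387 = N32030 := ded_21_1 (flp_e L271372) L271365 L649800
theorem L649804 : sm gc N46387 = N46387 := ded_28_1 (flp_e L649800) L271371 L649800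
theorem L649805 : sm gg N46387 = N32036 := ded_41_2 (flp_e L271412) (flp_g L271369) L649800
theorem L649807 : sm gi N32029 = N46388 := rfl
theorem L649809 : sm gb N46388 = N32031 := ded_26_1 (flp_i L271378) L271365 L649807
theorem L649811 : sm gc N46388 = N46388 := ded_33_1 (flp_i L649807) L271371 L649807
theorem L649812 : sm gd N46388 = N32072 := ded_39_1 (flp_i L271684) (flp_d L271367) L649807
theorem L649814 : sm gg N46388 = N32037 := ded_51_1 (flp_i L271417) (flp_g L271369) L649807
theorem L649816 : sm gf N32030 = N46389 := rfl
theorem L649818 : sm gc N46389 = N32032 := ded_29_1 (flp_f L271386) (flp_c L271374) L649816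
theorem L649820 : sm gi N32030 = N46390 := rfl
theorem L649822 : sm gc N46390 = N32033 := ded_33_1 (flp_i L271391) (flp_c L271374) L649820
theorem L649824 : sm ge N46390 = N32031 := ded_44_1 (flp_i L271378) L271372 L649820
theorem L649826 : sm gg N46390 = N32039 := ded_51_1 (flp_i L271430) (flp_g L271376) L649820
theorem L649828 : sm gg N32032 = N46391 := rfl
theorem L649830 : sm gb N46391 = N46391 := ded_23_1 (flp_g L649828) L271388 L649828
theorem L649831 : sm gd N46391 = N32047 := ded_36_1 (flp_g L271486) (flp_d L271389) L649828
theorem L649833 : sm gf N46391 = N32041 := ded_45_1 (flp_g L271441) (flp_f L186725) (flp_g L186697) L271386 L649828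
theorem L649835 : sm gi N32032 = N46392 := rfl
theorem L649837 : sm gb N46392 = N46392 := ded_26_1 (flp_i L649835) L271388 L649835
theorem L649838 : sm gd N46392 = N32048 := ded_39_1 (flp_i L271495) (flp_d L271389) L649835
theorem L649840 : sm gf N46392 = N32033 := ded_48_1 (flp_i L271391) L271386 L649835
theorem L649842 : sm gh N32033 = N46393 := rfl
theorem L649844 : sm gb N46393 = N46393 := ded_25_1 (flp_h L649842) L271393 L649842
theorem L649845 : sm ge N46393 = N32034 := ded_43_1 (flp_h L271400) (flp_e L271396) L649842
theorem L649847 : sm gg N46393 = N32043 := ded_50_1 (flp_h L271455) (flp_g L271398) L649842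
theorem L649849 : sm gj N46393 = N32051 := ded_52_1 (flp_h L648298) (flp_j L649247) L649842
theorem L649851 : sm gi N46393 = N32050 := ded_54_2 L271516 L501798 (flp_h L642600) L271391 L649842
theorem L649853 : sm ge N32035 = N46394 := rfl
theorem L649855 : sm ga N46394 = N32036 := ded_13_1 (flp_e L271412) L271406 L649853
theorem L649857 : sm gc N46394 = N46394 := ded_28_1 (flp_e L649853) L271408 L649853
theorem L649858 : sm gi N32035 = N46395 := rfl
theorem L649860 : sm ga N46395 = N32037 := ded_18_1 (flp_i L271417) L271406 L649858
theorem L649862 : sm gc N46395 = N46395 := ded_33_1 (flp_i L649858) L271408 L649858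
theorem L649863 : sm gd N46395 = N32074 := ded_39_1 (flp_i L271699) (flp_d L271409) L649858
theorem L649865 : sm gf N46395 = N46395 := ded_48_1 (flp_i L649858) L271411 L649858
theorem L649866 : sm gf N32036 = N46396 := rfl
theorem L649868 : sm gb N46396 = N32038 := ded_22_1 (flp_f L271425) (flp_b L271414) L649866
theorem L649870 : sm gc N46396 = N46396 := ded_29_1 (flp_f L649866) L271416 L649866
theorem L649871 : sm ge N46396 = N46396 := ded_40_1 (flp_f L649866) (flp_e L271412) L186712 L271412 L649866
theorem L649872 : sm gi N32036 = N46397 := rfl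
theorem L649874 : sm gb N46397 = N32039 := ded_26_1 (flp_i L271430) (flp_b L271414) L649872
theorem L649876 : sm gc N46397 = N46397 := ded_33_1 (flp_i L649872) L271416 L649872
theorem L649877 : sm ge N46397 = N32037 := ded_44_1 (flp_i L271417) L271412 L649872
theorem L649879 : sm gh N32037 = N46398 := rfl
theorem L649881 : sm gb N46398 = N32040 := ded_25_1 (flp_h L271436) (flp_b L271419) L649879
theorem L649883 : sm gc N46398 = N46398 := ded_32_1 (flp_h L649879) L271421 L649879
theorem L649884 : sm gf N46398 = N46398 := ded_47_1 (flp_h L649879) L271424 L649879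
theorem L649885 : sm gg N32038 = N46399 := rfl
theorem L649887 : sm gc N46399 = N32041 := ded_30_1 (flp_g L271441) (flp_c L271427) L649885
theorem L649889 : sm ge N46399 = N46399 := ded_41_1 (flp_g L649885) L271429 L649885
theorem L649890 : sm gi N32038 = N46400 := rfl
theorem L649892 : sm gc N46400 = N32042 := ded_33_1 (flp_i L271447) (flp_c L271427) L649890
theorem L649894 : sm ge N46400 = N46400 := ded_44_1 (flp_i L649890) L271429 L649890
theorem L649895 : sm gf N46400 = N32039 := ded_48_1 (flp_i L271430) L271425 L649890
theorem L649897 : sm gh N32039 = N46401 := rfl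
theorem L649899 : sm gc N46401 = N32043 := ded_32_1 (flp_h L271455) (flp_c L271432) L649897
theorem L649901 : sm ge N46401 = N32040 := ded_43_1 (flp_h L271436) (flp_e L271434) L649897
theorem L649903 : sm gd N32040 = N46402 := rfl
theorem L649905 : sm gf N46402 = N46402 := ded_35_2 (flp_d L649903) L271440 L649903
theorem L649906 : sm gc N46402 = N46402 := ded_27_1 (flp_d L649903) L271438 L186742 (flp_c L271438) L649903
theorem L649907 : sm gh N46402 = N32076 := ded_38_2 (flp_d L271714) (flp_h L186935) (flp_d L186722) L271436 L649903
theorem L649909 : sm gj N32041 = N46403 := rfl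
theorem L649911 : sm gb N46403 = N46403 := ded_24_1 (flp_j L649909) L271443 L649909
theorem L649912 : sm gd N46403 = N32050 := ded_37_1 (flp_j L271511) (flp_d L271444) L649909
theorem L649914 : sm ge N46403 = N46403 := ded_42_1 (flp_j L649909) L271446 L649909
theorem L649915 : sm gi N32041 = N46404 := rfl
theorem L649917 : sm gb N46404 = N46404 := ded_26_1 (flp_i L649915) L271443 L649915
theorem L649918 : sm gd N46404 = N32051 := ded_39_1 (flp_i L271518) (flp_d L271444) L649915
theorem L649920 : sm ge N46404 = N46404 := ded_44_1 (flp_i L649915) L271446 L649915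
theorem L649921 : sm gg N46404 = N32042 := ded_51_1 (flp_i L271447) L271441 L649915
theorem L649923 : sm gh N32042 = N46405 := rfl
theorem L649925 : sm gb N46405 = N46405 := ded_25_1 (flp_h L649923) L271449 L649923
theorem L649926 : sm ge N46405 = N46405 := ded_43_1 (flp_h L649923) L271452 L649923
theorem L649927 : sm gf N46405 = N32043 := ded_47_1 (flp_h L271455) (flp_f L271453) L649923
theorem L649929 : sm gi N32044 = N46406 := rfl
theorem L649931 : sm gb N46406 = N46406 := ded_26_1 (flp_i L649929) L271462 L649929
theorem L649932 : sm ge N46406 = N32239 := ded_44_1 (flp_i L273095) (flp_e L271467) L649929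
theorem L649934 : sm gf N46406 = N32045 := ded_48_1 (flp_i L271469) L271460 L649929
theorem L649936 : sm gj N46406 = N32048 := ded_53_1 (flp_i L271495) (flp_j L271463) L649929
theorem L649938 : sm gj N32047 = N46407 := rfl
theorem L649940 : sm gb N46407 = N46407 := ded_24_1 (flp_j L649938) L271488 L649938
theorem L649941 : sm ge N46407 = N32241 := ded_42_1 (flp_j L273112) (flp_e L271489) L649938
theorem L649943 : sm gf N46407 = N32050 := ded_46_1 (flp_j L271511) (flp_f L271493) L649938
theorem L649945 : sm gh N46407 = N35219 := ded_52_2 (flp_j L298533) (flp_h L271491) L649938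
theorem L649947 : sm gi N32047 = N46408 := rfl
theorem L649949 : sm gb N46408 = N46408 := ded_26_1 (flp_i L649947) L271488 L649947
theorem L649950 : sm ge N46408 = N32242 := ded_44_1 (flp_i L273119) (flp_e L271489) L649947
theorem L649952 : sm gf N46408 = N32051 := ded_48_1 (flp_i L271518) (flp_f L271493) L649947
theorem L649954 : sm gg N46408 = N32048 := ded_51_1 (flp_i L271495) L271486 L649947
theorem L649956 : sm gh N32062 = N46409 := rfl
theorem L649958 : sm gb N46409 = N32084 := ded_25_1 (flp_h L271779) (flp_b L271609) L649956
theorem L649960 : sm gf N46409 = N32070 := ded_47_1 (flp_h L271669) (flp_f L271613) L649956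
theorem L649962 : sm gj N46409 = N32067 := ded_52_1 (flp_h L271647) (flp_j L271615) L649956
theorem L649964 : sm gd N46409 = N46409 := ded_38_1 (flp_h L649956) L271611 L186864 (flp_d L271611) L649956
theorem L649965 : sm gi N46409 = N46409 := ded_54_2 (flp_h L649956) (flp_i L271607) L186853 L271607 L649956
theorem L649966 : sm ge N32063 = N46410 := rfl
theorem L649968 : sm gb N46410 = N32064 := ded_21_1 (flp_e L271625) L271617 L649966
theorem L649970 : sm gc N46410 = N32086 := ded_28_1 (flp_e L271796) (flp_c L271623) L649966
theorem L649972 : sm gg N46410 = N46410 := ded_41_2 (flp_e L649966) L271621 L649966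
theorem L649973 : sm gh N46410 = N46410 := ded_43_2 (flp_e L649966) L271622 L649966
theorem L649974 : sm gi N32063 = N46411 := rfl
theorem L649976 : sm gb N46411 = N32065 := ded_26_1 (flp_i L271631) L271617 L649974
theorem L649978 : sm gc N46411 = N32087 := ded_33_1 (flp_i L271802) (flp_c L271623) L649974
theorem L649980 : sm gf N46411 = N32072 := ded_48_1 (flp_i L271684) (flp_f L271619) L649974
theorem L649982 : sm gg N46411 = N46411 := ded_51_1 (flp_i L649974) L271621 L649974
theorem L649983 : sm gd N32064 = N46412 := rfl
theorem L649985 : sm gg N46412 = N46412 := ded_36_2 (flp_d L649983) L271629 L649983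
theorem L649986 : sm gc N46412 = N32265 := ded_27_1 (flp_d L273311) L188020 (flp_d L186877) (flp_c L271627) L649983
theorem L649988 : sm gi N32064 = N46413 := rfl
theorem L649990 : sm gc N46413 = N32066 := ded_33_1 (flp_i L271638) (flp_c L271627) L649988
theorem L649992 : sm ge N46413 = N32065 := ded_44_1 (flp_i L271631) L271625 L649988
theorem L649994 : sm gg N46413 = N46413 := ded_51_1 (flp_i L649988) L271629 L649988
theorem L649995 : sm gh N32065 = N46414 := rfl
theorem L649997 : sm gc N46414 = N32067 := ded_32_1 (flp_h L271647) (flp_c L271633) L649995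
theorem L649999 : sm gf N46414 = N32073 := ded_47_1 (flp_h L271692) (flp_f L271635) L649995
theorem L650001 : sm gg N46414 = N46414 := ded_50_1 (flp_h L649995) L271637 L649995
theorem L650002 : sm gi N46414 = N46414 := ded_54_2 (flp_h L649995) (flp_i L271631) L186870 L271631 L649995
theorem L650003 : sm gh N32066 = N46415 := rfl
theorem L650005 : sm gb N46415 = N32091 := ded_25_1 (flp_h L271834) (flp_b L271640) L650003
theorem L650007 : sm ge N46415 = N32067 := ded_43_1 (flp_h L271647) (flp_e L271644) L650003
theorem L650009 : sm gg N46415 = N46415 := ded_50_1 (flp_h L650003) L271646 L650003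
theorem L650010 : sm gi N46415 = N46415 := ded_54_2 (flp_h L650003) (flp_i L271638) L186876 L271638 L650003
theorem L650011 : sm gi N32068 = N46416 := rfl
theorem L650013 : sm gb N46416 = N32069 := ded_26_1 (flp_i L271663) L271656 L650011
theorem L650015 : sm gc N46416 = N32093 := ded_33_1 (flp_i L271848) (flp_c L271661) L650011
theorem L650017 : sm gj N46416 = N32072 := ded_53_1 (flp_i L271684) (flp_j L271658) L650011
theorem L650019 : sm gh N32069 = N46417 := rfl
theorem L650021 : sm gc N46417 = N32070 := ded_32_1 (flp_h L271669) (flp_c L271665) L650019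
theorem L650023 : sm gj N46417 = N32073 := ded_52_1 (flp_h L271692) (flp_j L271667) L650019
theorem L650025 : sm gi N46417 = N46417 := ded_54_2 (flp_h L650019) (flp_i L271663) L186892 L271663 L650019
theorem L650026 : sm gi N32071 = N46418 := rfl
theorem L650028 : sm ga N46418 = N32072 := ded_18_1 (flp_i L271684) L271677 L650026
theorem L650030 : sm gc N46418 = N32095 := ded_33_1 (flp_i L271863) (flp_c L271679) L650026
theorem L650032 : sm gg N46418 = N32074 := ded_51_1 (flp_i L271699) (flp_g L271681) L650026
theorem L650034 : sm gh N32072 = N46419 := rfl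
theorem L650036 : sm gb N46419 = N32073 := ded_25_1 (flp_h L271692) (flp_b L271686) L650034
theorem L650038 : sm gc N46419 = N32096 := ded_32_1 (flp_h L271871) (flp_c L271688) L650034
theorem L650040 : sm gg N46419 = N32075 := ded_50_1 (flp_h L271706) (flp_g L271690) L650034
theorem L650042 : sm gi N46419 = N46419 := ded_54_2 (flp_h L650034) (flp_i L271684) L186905 L271684 L650034
theorem L650043 : sm gd N32073 = N46420 := rfl
theorem L650045 : sm gg N46420 = N32076 := ded_36_2 (flp_d L271714) (flp_g L271696) L650043
theorem L650047 : sm gi N46420 = N46420 := ded_39_2 (flp_d L650043) L271698 L650043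
theorem L650048 : sm gc N46420 = N46420 := ded_27_1 (flp_d L650043) L271694 L186920 (flp_c L271694) L650043
theorem L650049 : sm gh N32074 = N46421 := rfl
theorem L650051 : sm ga N46421 = N32075 := ded_17_1 (flp_h L271706) (flp_a L271701) L650049
theorem L650053 : sm gc N46421 = N32098 := ded_32_1 (flp_h L271886) (flp_c L271703) L650049
theorem L650055 : sm gf N46421 = N46421 := ded_47_1 (flp_h L650049) L271705 L650049
theorem L650056 : sm gi N46421 = N46421 := ded_54_2 (flp_h L650049) (flp_i L271699) L186927 L271699 L650049
theorem L650057 : sm gd N32075 = N46422 := rfl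
theorem L650059 : sm gb N46422 = N32076 := ded_20_1 (flp_d L271714) (flp_b L271708) L650057
theorem L650061 : sm gf N46422 = N46422 := ded_35_2 (flp_d L650057) L271712 L650057
theorem L650062 : sm gi N46422 = N46422 := ded_39_2 (flp_d L650057) L271713 L650057
theorem L650063 : sm ge N32076 = N46423 := rfl
theorem L650065 : sm gc N46423 = N46423 := ded_28_1 (flp_e L650063) L271718 L650063
theorem L650066 : sm gi N46423 = N46423 := ded_44_2 (flp_e L650063) L271717 L650063
theorem L650067 : sm gi N32080 = N46424 := rfl
theorem L650069 : sm gb N46424 = N32082 := ded_26_1 (flp_i L271760) L271744 L650067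
theorem L650071 : sm gd N46424 = N46424 := ded_39_1 (flp_i L650067) L271746 L650067
theorem L650072 : sm gf N46424 = N32093 := ded_48_1 (flp_i L271848) (flp_f L271747) L650067
theorem L650074 : sm gj N46424 = N32087 := ded_53_1 (flp_i L271802) (flp_j L271749) L650067
theorem L650076 : sm gh N32082 = N46425 := rfl
theorem L650078 : sm ga N46425 = N46425 := ded_17_1 (flp_h L650076) L271762 L650076
theorem L650079 : sm gc N46425 = N32084 := ded_32_1 (flp_h L271779) (flp_c L271763) L650076
theorem L650081 : sm gf N46425 = N32094 := ded_47_1 (flp_h L271855) (flp_f L271766) L650076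
theorem L650083 : sm gj N46425 = N32090 := ded_52_1 (flp_h L271825) (flp_j L271768) L650076
theorem L650085 : sm gi N46425 = N46425 := ded_54_2 (flp_h L650076) (flp_i L271760) L186965 L271760 L650076
theorem L650086 : sm ge N32085 = N46426 := rfl
theorem L650088 : sm ga N46426 = N32086 := ded_13_1 (flp_e L271796) L271788 L650086
theorem L650090 : sm gb N46426 = N46426 := ded_21_1 (flp_e L650086) L271795 L650086
theorem L650091 : sm gg N46426 = N46426 := ded_41_2 (flp_e L650086) L271793 L650086
theorem L650092 : sm gh N46426 = N46426 := ded_43_2 (flp_e L650086) L271794 L650086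
theorem L650093 : sm gi N32085 = N46427 := rfl
theorem L650095 : sm ga N46427 = N32087 := ded_18_1 (flp_i L271802) L271788 L650093
theorem L650097 : sm gb N46427 = N46427 := ded_26_1 (flp_i L650093) L271795 L650093
theorem L650098 : sm gd N46427 = N46427 := ded_39_1 (flp_i L650093) L271790 L650093
theorem L650099 : sm gf N46427 = N32095 := ded_48_1 (flp_i L271863) (flp_f L271791) L650093
theorem L650101 : sm gg N46427 = N46427 := ded_51_1 (flp_i L650093) L271793 L650093
theorem L650102 : sm gi N32086 = N46428 := rfl
theorem L650104 : sm gb N46428 = N32089 := ded_26_1 (flp_i L271817) (flp_b L271798) L650102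
theorem L650106 : sm ge N46428 = N32087 := ded_44_1 (flp_i L271802) L271796 L650102
theorem L650108 : sm gg N46428 = N46428 := ded_51_1 (flp_i L650102) L271800 L650102
theorem L650109 : sm gh N32087 = N46429 := rfl
theorem L650111 : sm gb N46429 = N32090 := ded_25_1 (flp_h L271825) (flp_b L271804) L650109
theorem L650113 : sm gf N46429 = N32096 := ded_47_1 (flp_h L271871) (flp_f L271807) L650109
theorem L650115 : sm gg N46429 = N46429 := ded_50_1 (flp_h L650109) L271809 L650109
theorem L650116 : sm gi N46429 = N46429 := ded_54_2 (flp_h L650109) (flp_i L271802) L186990 L271802 L650109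
theorem L650117 : sm gh N32089 = N46430 := rfl
theorem L650119 : sm ga N46430 = N46430 := ded_17_1 (flp_h L650117) L271819 L650117
theorem L650120 : sm gc N46430 = N32091 := ded_32_1 (flp_h L271834) (flp_c L271820) L650117
theorem L650122 : sm ge N46430 = N32090 := ded_43_1 (flp_h L271825) (flp_e L271822) L650117
theorem L650124 : sm gg N46430 = N46430 := ded_50_1 (flp_h L650117) L271824 L650117
theorem L650125 : sm gi N46430 = N46430 := ded_54_2 (flp_h L650117) (flp_i L271817) L186997 L271817 L650117
theorem L650126 : sm gd N32090 = N46431 := rfl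
theorem L650128 : sm ga N46431 = N46431 := ded_12_1 (flp_d L650126) L271827 L650126
theorem L650129 : sm gf N46431 = N32097 := ded_35_2 (flp_d L271878) (flp_f L271830) L650126
theorem L650131 : sm gg N46431 = N46431 := ded_36_2 (flp_d L650126) L271832 L650126
theorem L650132 : sm gi N46431 = N46431 := ded_39_2 (flp_d L650126) L271833 L650126
theorem L650133 : sm gc N46431 = N46431 := ded_27_1 (flp_d L650126) L271828 L187021 (flp_c L271828) L650126
theorem L650134 : sm gh N46431 = N46431 := ded_38_2 (flp_d L650126) (flp_h L271825) L187003 L271825 L650126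
theorem L650135 : sm gi N32092 = N46432 := rfl
theorem L650137 : sm ga N46432 = N32093 := ded_18_1 (flp_i L271848) L271841 L650135
theorem L650139 : sm gb N46432 = N46432 := ded_26_1 (flp_i L650135) L271847 L650135
theorem L650140 : sm gd N46432 = N46432 := ded_39_1 (flp_i L650135) L271843 L650135
theorem L650141 : sm gj N46432 = N32095 := ded_53_1 (flp_i L271863) (flp_j L271844) L650135
theorem L650143 : sm gh N32093 = N46433 := rfl
theorem L650145 : sm gb N46433 = N32094 := ded_25_1 (flp_h L271855) (flp_b L271850) L650143
theorem L650147 : sm gj N46433 = N32096 := ded_52_1 (flp_h L271871) (flp_j L271853) L650143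
theorem L650149 : sm gi N46433 = N46433 := ded_54_2 (flp_h L650143) (flp_i L271848) L187028 L271848 L650143
theorem L650150 : sm gd N32094 = N46434 := rfl
theorem L650152 : sm ga N46434 = N46434 := ded_12_1 (flp_d L650150) L271857 L650150
theorem L650153 : sm gj N46434 = N32097 := ded_37_2 (flp_d L271878) (flp_j L271860) L650150
theorem L650155 : sm gi N46434 = N46434 := ded_39_2 (flp_d L650150) L271862 L650150
theorem L650156 : sm gc N46434 = N46434 := ded_27_1 (flp_d L650150) L271858 L187042 (flp_c L271858) L650150
theorem L650157 : sm gh N46434 = N46434 := ded_38_2 (flp_d L650150) (flp_h L271855) L187034 L271855 L650150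
theorem L650158 : sm gh N32095 = N46435 := rfl
theorem L650160 : sm ga N46435 = N32096 := ded_17_1 (flp_h L271871) (flp_a L271865) L650158
theorem L650162 : sm gb N46435 = N46435 := ded_25_1 (flp_h L650158) L271867 L650158
theorem L650163 : sm gg N46435 = N32098 := ded_50_1 (flp_h L271886) (flp_g L271869) L650158
theorem L650165 : sm gi N46435 = N46435 := ded_54_2 (flp_h L650158) (flp_i L271863) L187049 L271863 L650158
theorem L650166 : sm gd N32096 = N46436 := rfl
theorem L650168 : sm gb N46436 = N32097 := ded_20_1 (flp_d L271878) (flp_b L271873) L650166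
theorem L650170 : sm gg N46436 = N32099 := ded_36_2 (flp_d L271893) (flp_g L271875) L650166
theorem L650172 : sm gi N46436 = N46436 := ded_39_2 (flp_d L650166) L271877 L650166
theorem L650173 : sm gh N46436 = N46436 := ded_38_2 (flp_d L650166) (flp_h L271871) L187055 L271871 L650166
theorem L650174 : sm ge N32097 = N46437 := rfl
theorem L650176 : sm ga N46437 = N46437 := ded_13_1 (flp_e L650174) L271880 L650174
theorem L650177 : sm gc N46437 = N46437 := ded_28_1 (flp_e L650174) L271884 L650174
theorem L650178 : sm gg N46437 = N32100 := ded_41_2 (flp_e L271900) (flp_g L271881) L650174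
theorem L650180 : sm gh N46437 = N46437 := ded_43_2 (flp_e L650174) L271885 L650174
theorem L650181 : sm gi N46437 = N46437 := ded_44_2 (flp_e L650174) L271883 L650174
theorem L650182 : sm gd N32098 = N46438 := rfl
theorem L650184 : sm ga N46438 = N32099 := ded_12_1 (flp_d L271893) (flp_a L271888) L650182
theorem L650186 : sm gb N46438 = N46438 := ded_20_1 (flp_d L650182) L271890 L650182
theorem L650187 : sm gf N46438 = N46438 := ded_35_2 (flp_d L650182) L271891 L650182
theorem L650188 : sm gi N46438 = N46438 := ded_39_2 (flp_d L650182) L271892 L650182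
theorem L650189 : sm gh N46438 = N46438 := ded_38_2 (flp_d L650182) (flp_h L271886) L187071 L271886 L650182
theorem L650190 : sm gc N32099 = N46439 := rfl
theorem L650192 : sm gf N46439 = N46439 := ded_29_2 (flp_c L650190) L271897 L650190
theorem L650193 : sm gh N46439 = N46439 := ded_32_2 (flp_c L650190) L271899 L650190
theorem L650194 : sm gi N46439 = N46439 := ded_33_2 (flp_c L650190) L271898 L650190
theorem L650195 : sm gb N46439 = N46439 := ded_19_1 (flp_c L650190) L271895 L187084 (flp_b L271895) L650190
theorem L650196 : sm ge N32099 = N46440 := rfl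
theorem L650198 : sm gb N46440 = N32100 := ded_21_1 (flp_e L271900) (flp_b L271895) L650196
theorem L650200 : sm gh N46440 = N46440 := ded_43_2 (flp_e L650196) L271899 L650196
theorem L650201 : sm gi N46440 = N46440 := ded_44_2 (flp_e L650196) L271898 L650196
theorem L650202 : sm gf N32100 = N46441 := rfl
theorem L650204 : sm ga N46441 = N46441 := ded_14_1 (flp_f L650202) L271902 L650202
theorem L650205 : sm gc N46441 = N46441 := ded_29_1 (flp_f L650202) L271903 L650202
theorem L650206 : sm gh N46441 = N46441 := ded_47_2 (flp_f L650202) L271904 L650202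
theorem L650207 : sm gi N46441 = N46441 := ded_48_2 (flp_f L650202) L271905 L650202
theorem L650208 : sm ge N46441 = N46441 := ded_40_1 (flp_f L650202) (flp_e L271900) L187082 L271900 L650202
theorem L650209 : sm gb N32145 = N46442 := rfl
theorem L650211 : sm gd N46442 = N32185 := ded_20_2 (flp_b L272655) (flp_d L272309) L650209
theorem L650213 : sm gf N46442 = N32151 := ded_22_2 (flp_b L272355) (flp_f L272305) L650209
theorem L650215 : sm gg N46442 = N46442 := ded_23_2 (flp_b L650209) L272307 L650209
theorem L650216 : sm gh N46442 = N46442 := ded_25_2 (flp_b L650209) L272308 L650209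
theorem L650217 : sm gi N32145 = N46443 := rfl
theorem L650219 : sm ga N46443 = N32206 := ded_18_1 (flp_i L272838) (flp_a L272303) L650217
theorem L650221 : sm gc N46443 = N32147 := ded_33_1 (flp_i L272317) L272301 L650217
theorem L650223 : sm gd N46443 = N32187 := ded_39_1 (flp_i L272672) (flp_d L272309) L650217
theorem L650225 : sm gf N46443 = N32153 := ded_48_1 (flp_i L272371) (flp_f L272305) L650217
theorem L650227 : sm gg N46443 = N46443 := ded_51_1 (flp_i L650217) L272307 L650217
theorem L650228 : sm gh N32147 = N46444 := rfl
theorem L650230 : sm ga N46444 = N32209 := ded_17_1 (flp_h L272859) (flp_a L272319) L650228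
theorem L650232 : sm gf N46444 = N32156 := ded_47_1 (flp_h L272398) (flp_f L272323) L650228
theorem L650234 : sm gg N46444 = N46444 := ded_50_1 (flp_h L650228) L272325 L650228
theorem L650235 : sm gd N46444 = N46444 := ded_38_1 (flp_h L650228) L272321 L187346 (flp_d L272321) L650228
theorem L650236 : sm gi N46444 = N46444 := ded_54_2 (flp_h L650228) (flp_i L272317) L187336 L272317 L650228
theorem L650237 : sm gb N32148 = N46445 := rfl
theorem L650239 : sm gd N46445 = N32190 := ded_20_2 (flp_b L272700) (flp_d L272334) L650237
theorem L650241 : sm gg N46445 = N46445 := ded_23_2 (flp_b L650237) L272330 L650237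
theorem L650242 : sm gj N46445 = N32151 := ded_24_2 (flp_b L272355) (flp_j L272331) L650237
theorem L650244 : sm gh N46445 = N46445 := ded_25_2 (flp_b L650237) L272333 L650237
theorem L650245 : sm gi N32148 = N46446 := rfl
theorem L650247 : sm ga N46446 = N32212 := ded_18_1 (flp_i L272884) (flp_a L272328) L650245
theorem L650249 : sm gc N46446 = N32150 := ded_33_1 (flp_i L272346) L272326 L650245
theorem L650251 : sm gd N46446 = N32191 := ded_39_1 (flp_i L272708) (flp_d L272334) L650245
theorem L650253 : sm gg N46446 = N46446 := ded_51_1 (flp_i L650245) L272330 L650245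
theorem L650254 : sm gj N46446 = N32153 := ded_53_1 (flp_i L272371) (flp_j L272331) L650245
theorem L650256 : sm gh N32150 = N46447 := rfl
theorem L650258 : sm ga N46447 = N32215 := ded_17_1 (flp_h L272911) (flp_a L272348) L650256
theorem L650260 : sm gg N46447 = N46447 := ded_50_1 (flp_h L650256) L272352 L650256
theorem L650261 : sm gj N46447 = N32156 := ded_52_1 (flp_h L272398) (flp_j L272353) L650256
theorem L650263 : sm gd N46447 = N46447 := ded_38_1 (flp_h L650256) L272350 L187366 (flp_d L272350) L650256
theorem L650264 : sm gi N46447 = N46447 := ded_54_2 (flp_h L650256) (flp_i L272346) L187354 L272346 L650256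
theorem L650265 : sm ga N32151 = N46448 := rfl
theorem L650267 : sm gd N46448 = N32193 := ded_12_2 (flp_a L272728) (flp_d L272357) L650265
theorem L650269 : sm gg N46448 = N32157 := ded_15_2 (flp_a L272406) (flp_g L272359) L650265
theorem L650271 : sm gh N46448 = N46448 := ded_17_2 (flp_a L650265) L272361 L650265
theorem L650272 : sm gb N46448 = N32216 := ded_10_2 (flp_a L272919) (flp_b L187744) (flp_a L187369) L272355 L650265
theorem L650274 : sm gi N32151 = N46449 := rfl
theorem L650276 : sm gb N46449 = N32153 := ded_26_1 (flp_i L272371) L272355 L650274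
theorem L650278 : sm gd N46449 = N32194 := ded_39_1 (flp_i L272737) (flp_d L272357) L650274
theorem L650280 : sm gg N46449 = N32159 := ded_51_1 (flp_i L272421) (flp_g L272359) L650274
theorem L650282 : sm gh N32153 = N46450 := rfl
theorem L650284 : sm ga N46450 = N32221 := ded_17_1 (flp_h L272957) (flp_a L272373) L650282
theorem L650286 : sm gc N46450 = N32156 := ded_32_1 (flp_h L272398) (flp_c L272375) L650282
theorem L650288 : sm gg N46450 = N32162 := ded_50_1 (flp_h L272447) (flp_g L272379) L650282
theorem L650290 : sm gi N46450 = N46450 := ded_54_2 (flp_h L650282) (flp_i L272371) L187373 L272371 L650282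
theorem L650291 : sm gi N32157 = N46451 := rfl
theorem L650293 : sm ga N46451 = N32159 := ded_18_1 (flp_i L272421) L272406 L650291
theorem L650295 : sm gb N46451 = N32226 := ded_26_1 (flp_i L272994) (flp_b L272413) L650291
theorem L650297 : sm gd N46451 = N32196 := ded_39_1 (flp_i L272754) (flp_d L272408) L650291
theorem L650299 : sm gf N46451 = N46451 := ded_48_1 (flp_i L650291) L272410 L650291
theorem L650300 : sm gj N46451 = N46451 := ded_53_1 (flp_i L650291) L272411 L650291
theorem L650301 : sm gh N32159 = N46452 := rfl
theorem L650303 : sm gb N46452 = N32162 := ded_25_1 (flp_h L272447) (flp_b L272423) L650301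
theorem L650305 : sm gf N46452 = N46452 := ded_47_1 (flp_h L650301) L272427 L650301
theorem L650306 : sm gj N46452 = N46452 := ded_52_1 (flp_h L650301) L272428 L650301
theorem L650307 : sm gi N46452 = N46452 := ded_54_2 (flp_h L650301) (flp_i L272421) L187399 L272421 L650301
theorem L650308 : sm gd N32162 = N46453 := rfl
theorem L650310 : sm ga N46453 = N32233 := ded_12_1 (flp_d L273049) (flp_a L272449) L650308
theorem L650312 : sm gf N46453 = N46453 := ded_35_2 (flp_d L650308) L272453 L650308
theorem L650313 : sm gj N46453 = N46453 := ded_37_2 (flp_d L650308) L272454 L650308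
theorem L650314 : sm gi N46453 = N46453 := ded_39_2 (flp_d L650308) L272455 L650308
theorem L650315 : sm gc N46453 = N46453 := ded_27_1 (flp_d L650308) L272451 L187442 (flp_c L272451) L650308
theorem L650316 : sm gh N46453 = N32198 := ded_38_2 (flp_d L272772) (flp_h L187661) (flp_d L187414) L272447 L650308
theorem L650318 : sm gb N32182 = N46454 := rfl
theorem L650320 : sm gf N46454 = N32190 := ded_22_2 (flp_b L272700) (flp_f L272629) L650318
theorem L650322 : sm gg N46454 = N32332 := ded_23_2 L273890 (flp_g L646152) L650318
theorem L650324 : sm gj N46454 = N32185 := ded_24_2 (flp_b L272655) (flp_j L272631) L650318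
theorem L650326 : sm gh N46454 = N32314 := ded_25_2 (flp_b L273730) (flp_h L272633) L650318
theorem L650328 : sm ga N46454 = N32330 := ded_10_1 L273873 L188464 L646606 (flp_a L272627) L650318
theorem L650330 : sm gc N46454 = N46454 := ded_19_2 (flp_b L650318) (flp_c L272625) L187557 L272625 L650318
theorem L650331 : sm gi N32182 = N46455 := rfl
theorem L650333 : sm ga N46455 = N32259 := ded_18_1 (flp_i L273257) (flp_a L272627) L650331
theorem L650335 : sm gc N46455 = N32184 := ded_33_1 (flp_i L272644) L272625 L650331
theorem L650337 : sm gf N46455 = N32191 := ded_48_1 (flp_i L272708) (flp_f L272629) L650331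
theorem L650339 : sm gg N46455 = N32275 := ded_51_1 L273399 (flp_g L646152) L650331
theorem L650341 : sm gj N46455 = N32187 := ded_53_1 (flp_i L272672) (flp_j L272631) L650331
theorem L650343 : sm gh N46455 = N32272 := ded_54_1 (flp_i L273366) L188081 L646238 (flp_h L272633) L650331
theorem L650345 : sm ga N32185 = N46456 := rfl
theorem L650347 : sm gc N46456 = N46456 := ded_11_2 (flp_a L650345) L272662 L650345
theorem L650348 : sm gf N46456 = N32193 := ded_14_2 (flp_a L272728) (flp_f L272657) L650345
theorem L650350 : sm gg N46456 = N46456 := ded_15_2 (flp_a L650345) L272659 L650345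
theorem L650351 : sm gj N46456 = N32330 := ded_16_2 (flp_a L650328) L650324 L650345
theorem L650353 : sm gh N46456 = N32319 := ded_17_2 (flp_a L273777) (flp_h L272660) L650345
theorem L650355 : sm gb N46456 = N32262 := ded_10_2 (flp_a L273284) (flp_b L188009) (flp_a L187576) L272655 L650345
theorem L650357 : sm ge N32185 = N46457 := rfl
theorem L650359 : sm gb N46457 = N32186 := ded_21_1 (flp_e L272663) L272655 L650357
theorem L650361 : sm gc N46457 = N46457 := ded_28_1 (flp_e L650357) L272662 L650357
theorem L650362 : sm gg N46457 = N46457 := ded_41_2 (flp_e L650357) L272659 L650357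
theorem L650363 : sm gh N46457 = N32320 := ded_43_2 (flp_e L273786) (flp_h L272660) L650357
theorem L650365 : sm gi N32185 = N46458 := rfl
theorem L650367 : sm gb N46458 = N32187 := ded_26_1 (flp_i L272672) L272655 L650365
theorem L650369 : sm gc N46458 = N46458 := ded_33_1 (flp_i L650365) L272662 L650365
theorem L650370 : sm gf N46458 = N32194 := ded_48_1 (flp_i L272737) (flp_f L272657) L650365
theorem L650372 : sm gg N46458 = N46458 := ded_51_1 (flp_i L650365) L272659 L650365
theorem L650373 : sm gd N32186 = N46459 := rfl
theorem L650375 : sm ga N46459 = N32265 := ded_12_1 (flp_d L273311) (flp_a L272665) L650373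
theorem L650377 : sm gg N46459 = N46459 := ded_36_2 (flp_d L650373) L272669 L650373
theorem L650378 : sm gi N32186 = N46460 := rfl
theorem L650380 : sm ga N46460 = N32266 := ded_18_1 (flp_i L273314) (flp_a L272665) L650378
theorem L650382 : sm gc N46460 = N32188 := ded_33_1 (flp_i L272681) (flp_c L272667) L650378
theorem L650384 : sm ge N46460 = N32187 := ded_44_1 (flp_i L272672) L272663 L650378
theorem L650386 : sm gg N46460 = N46460 := ded_51_1 (flp_i L650378) L272669 L650378
theorem L650387 : sm gh N32187 = N46461 := rfl
theorem L650389 : sm ga N46461 = N32267 := ded_17_1 (flp_h L273321) (flp_a L272674) L650387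
theorem L650391 : sm gc N46461 = N32189 := ded_32_1 (flp_h L272689) (flp_c L272676) L650387
theorem L650393 : sm gf N46461 = N32195 := ded_47_1 (flp_h L272744) (flp_f L272678) L650387
theorem L650395 : sm gg N46461 = N46461 := ded_50_1 (flp_h L650387) L272680 L650387
theorem L650396 : sm gj N46461 = N32272 := ded_52_1 (flp_h L650343) L650341 L650387
theorem L650398 : sm gi N46461 = N32269 := ded_54_2 L646248 (flp_i L188392) (flp_h L187581) L272672 L650387
theorem L650400 : sm ga N32190 = N46462 := rfl
theorem L650402 : sm gc N46462 = N46462 := ded_11_2 (flp_a L650400) L272707 L650400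
theorem L650403 : sm gf N46462 = N32330 := ded_14_2 (flp_a L650328) L650320 L650400
theorem L650405 : sm gg N46462 = N46462 := ded_15_2 (flp_a L650400) L272702 L650400
theorem L650406 : sm gj N46462 = N32193 := ded_16_2 (flp_a L272728) (flp_j L272703) L650400
theorem L650408 : sm gh N46462 = N32321 := ded_17_2 L645842 (flp_h L272705) L650400
theorem L650410 : sm gb N46462 = N32269 := ded_10_2 (flp_a L273339) (flp_b L188049) (flp_a L187603) L272700 L650400
theorem L650412 : sm gi N32190 = N46463 := rfl
theorem L650414 : sm gb N46463 = N32191 := ded_26_1 (flp_i L272708) L272700 L650412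
theorem L650416 : sm gc N46463 = N46463 := ded_33_1 (flp_i L650412) L272707 L650412
theorem L650417 : sm gg N46463 = N46463 := ded_51_1 (flp_i L650412) L272702 L650412
theorem L650418 : sm gj N46463 = N32194 := ded_53_1 (flp_i L272737) (flp_j L272703) L650412
theorem L650420 : sm gh N32191 = N46464 := rfl
theorem L650422 : sm ga N46464 = N32264 := ded_17_1 L646675 (flp_a L272710) L650420
theorem L650424 : sm gc N46464 = N32192 := ded_32_1 (flp_h L272717) (flp_c L272712) L650420
theorem L650426 : sm gf N46464 = N32272 := ded_47_1 (flp_h L650343) L650337 L650420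
theorem L650428 : sm gg N46464 = N46464 := ded_50_1 (flp_h L650420) L272714 L650420
theorem L650429 : sm gj N46464 = N32195 := ded_52_1 (flp_h L272744) (flp_j L272715) L650420
theorem L650431 : sm gi N46464 = N32262 := ded_54_2 L645813 (flp_i L188427) (flp_h L187608) L272708 L650420
theorem L650433 : sm gi N32193 = N46465 := rfl
theorem L650435 : sm ga N46465 = N32194 := ded_18_1 (flp_i L272737) L272728 L650433
theorem L650437 : sm gb N46465 = N32272 := ded_26_1 (flp_i L273366) (flp_b L272735) L650433
theorem L650439 : sm gc N46465 = N46465 := ded_33_1 (flp_i L650433) L272730 L650433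
theorem L650440 : sm gg N46465 = N32196 := ded_51_1 (flp_i L272754) (flp_g L272731) L650433
theorem L650442 : sm gh N32194 = N46466 := rfl
theorem L650444 : sm gb N46466 = N32195 := ded_25_1 (flp_h L272744) (flp_b L272739) L650442
theorem L650446 : sm gc N46466 = N46466 := ded_32_1 (flp_h L650442) L272741 L650442
theorem L650447 : sm gg N46466 = N32197 := ded_50_1 (flp_h L272763) (flp_g L272742) L650442
theorem L650449 : sm gi N46466 = N32330 := ded_54_2 (flp_h L273871) (flp_i L188454) (flp_h L187624) L272737 L650442
theorem L650451 : sm gd N32195 = N46467 := rfl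
theorem L650453 : sm ga N46467 = N32274 := ded_12_1 (flp_d L273384) (flp_a L272746) L650451
theorem L650455 : sm gg N46467 = N32198 := ded_36_2 (flp_d L272772) (flp_g L272750) L650451
theorem L650457 : sm gi N46467 = N32331 := ded_39_2 (flp_d L273878) (flp_i L272752) L650451
theorem L650459 : sm gc N46467 = N46467 := ded_27_1 (flp_d L650451) L272748 L187642 (flp_c L272748) L650451
theorem L650460 : sm gh N32196 = N46468 := rfl
theorem L650462 : sm ga N46468 = N32197 := ded_17_1 (flp_h L272763) (flp_a L272756) L650460
theorem L650464 : sm gb N46468 = N32275 := ded_25_1 (flp_h L273391) (flp_b L272758) L650460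
theorem L650466 : sm gc N46468 = N46468 := ded_32_1 (flp_h L650460) L272760 L650460
theorem L650467 : sm gf N46468 = N46468 := ded_47_1 (flp_h L650460) L272761 L650460
theorem L650468 : sm gj N46468 = N46468 := ded_52_1 (flp_h L650460) L272762 L650460
theorem L650469 : sm gi N46468 = N32332 := ded_54_2 (flp_h L273886) (flp_i L188470) (flp_h L187650) L272754 L650460
theorem L650471 : sm gd N32197 = N46469 := rfl
theorem L650473 : sm gb N46469 = N32198 := ded_20_1 (flp_d L272772) (flp_b L272765) L650471
theorem L650475 : sm gf N46469 = N46469 := ded_35_2 (flp_d L650471) L272768 L650471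
theorem L650476 : sm gj N46469 = N46469 := ded_37_2 (flp_d L650471) L272769 L650471
theorem L650477 : sm gi N46469 = N32333 := ded_39_2 (flp_d L273895) (flp_i L272770) L650471
theorem L650479 : sm ge N32198 = N46470 := rfl
theorem L650481 : sm ga N46470 = N32277 := ded_13_1 (flp_e L273409) (flp_a L272774) L650479
theorem L650483 : sm gc N46470 = N46470 := ded_28_1 (flp_e L650479) L272780 L650479
theorem L650484 : sm gj N46470 = N46470 := ded_42_2 (flp_e L650479) L272777 L650479
theorem L650485 : sm gi N46470 = N32334 := ded_44_2 (flp_e L273902) (flp_i L272778) L650479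
theorem L650487 : sm gi N32201 = N46471 := rfl
theorem L650489 : sm gb N46471 = N32274 := ded_26_1 L273388 (flp_b L646413) L650487
theorem L650491 : sm gc N46471 = N32203 := ded_33_1 (flp_i L272814) L272799 L650487
theorem L650493 : sm gd N46471 = N32259 := ded_39_1 (flp_i L273257) (flp_d L272806) L650487
theorem L650495 : sm gf N46471 = N32212 := ded_48_1 (flp_i L272884) (flp_f L272801) L650487
theorem L650497 : sm gg N46471 = N32276 := ded_51_1 L273407 (flp_g L646415) L650487
theorem L650499 : sm gj N46471 = N32206 := ded_53_1 (flp_i L272838) (flp_j L272803) L650487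
theorem L650501 : sm gh N32203 = N46472 := rfl
theorem L650503 : sm gb N46472 = N46472 := ded_25_1 (flp_h L650501) L272816 L650501
theorem L650504 : sm gf N46472 = N32215 := ded_47_1 (flp_h L272911) (flp_f L272819) L650501
theorem L650506 : sm gj N46472 = N32209 := ded_52_1 (flp_h L272859) (flp_j L272821) L650501
theorem L650508 : sm gd N46472 = N46472 := ded_38_1 (flp_h L650501) L272817 L187697 (flp_d L272817) L650501
theorem L650509 : sm gi N46472 = N46472 := ded_54_2 (flp_h L650501) (flp_i L272814) L187687 L272814 L650501
theorem L650510 : sm ga N32204 = N46473 := rfl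
theorem L650512 : sm gc N46473 = N46473 := ded_11_2 (flp_a L650510) L272831 L650510
theorem L650513 : sm gd N46473 = N32262 := ded_12_2 (flp_a L273284) (flp_d L272825) L650510
theorem L650515 : sm gf N46473 = N32216 := ded_14_2 (flp_a L272919) (flp_f L272827) L650510
theorem L650517 : sm gg N46473 = N46473 := ded_15_2 (flp_a L650510) L272829 L650510
theorem L650518 : sm gj N46473 = N32331 := ded_16_2 L273880 (flp_j L646642) L650510
theorem L650520 : sm gh N46473 = N46473 := ded_17_2 (flp_a L650510) L272830 L650510
theorem L650521 : sm ge N32204 = N46474 := rfl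
theorem L650523 : sm gb N46474 = N32205 := ded_21_1 (flp_e L272832) L272823 L650521
theorem L650525 : sm gc N46474 = N46474 := ded_28_1 (flp_e L650521) L272831 L650521
theorem L650526 : sm gg N46474 = N46474 := ded_41_2 (flp_e L650521) L272829 L650521
theorem L650527 : sm gj N46474 = N32363 := ded_42_2 (flp_e L274133) (flp_j L646642) L650521
theorem L650529 : sm gh N46474 = N46474 := ded_43_2 (flp_e L650521) L272830 L650521
theorem L650530 : sm gi N32204 = N46475 := rfl
theorem L650532 : sm gb N46475 = N32206 := ded_26_1 (flp_i L272838) L272823 L650530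
theorem L650534 : sm gc N46475 = N46475 := ded_33_1 (flp_i L650530) L272831 L650530
theorem L650535 : sm gd N46475 = N32264 := ded_39_1 (flp_i L273302) (flp_d L272825) L650530
theorem L650537 : sm gf N46475 = N32218 := ded_48_1 (flp_i L272935) (flp_f L272827) L650530
theorem L650539 : sm gg N46475 = N46475 := ded_51_1 (flp_i L650530) L272829 L650530
theorem L650540 : sm gj N46475 = N32274 := ded_53_1 L273388 (flp_j L646642) L650530
theorem L650542 : sm gd N32205 = N46476 := rfl
theorem L650544 : sm gg N46476 = N46476 := ded_36_2 (flp_d L650542) L272836 L650542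
theorem L650545 : sm ge N46476 = N32265 := ded_34_2 (flp_d L273311) (flp_e L188018) (flp_d L187704) L272832 L650542
theorem L650547 : sm gf N32205 = N46477 := rfl
theorem L650549 : sm gc N46477 = N32207 := ded_29_1 (flp_f L272847) (flp_c L272834) L650547
theorem L650551 : sm gh N46477 = N46477 := ded_47_2 (flp_f L650547) L272837 L650547
theorem L650552 : sm ge N46477 = N32219 := ded_40_1 (flp_f L272944) (flp_e L187752) (flp_f L187700) L272832 L650547
theorem L650554 : sm gi N32205 = N46478 := rfl
theorem L650556 : sm gc N46478 = N32208 := ded_33_1 (flp_i L272853) (flp_c L272834) L650554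
theorem L650558 : sm ge N46478 = N32206 := ded_44_1 (flp_i L272838) L272832 L650554
theorem L650560 : sm gg N46478 = N46478 := ded_51_1 (flp_i L650554) L272836 L650554
theorem L650561 : sm gh N32206 = N46479 := rfl
theorem L650563 : sm gc N46479 = N32209 := ded_32_1 (flp_h L272859) (flp_c L272840) L650561
theorem L650565 : sm gf N46479 = N32221 := ded_47_1 (flp_h L272957) (flp_f L272844) L650561
theorem L650567 : sm gg N46479 = N46479 := ded_50_1 (flp_h L650561) L272846 L650561
theorem L650568 : sm gi N46479 = N46479 := ded_54_2 (flp_h L650561) (flp_i L272838) L187703 L272838 L650561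
theorem L650569 : sm gg N32207 = N46480 := rfl
theorem L650571 : sm gb N46480 = N46480 := ded_23_1 (flp_g L650569) L272849 L650569
theorem L650572 : sm ge N46480 = N32222 := ded_41_1 (flp_g L272964) (flp_e L272851) L650569
theorem L650574 : sm gh N46480 = N46480 := ded_50_2 (flp_g L650569) L272850 L650569
theorem L650575 : sm gf N46480 = N46480 := ded_45_1 (flp_g L650569) (flp_f L272847) L187709 L272847 L650569
theorem L650576 : sm gi N32207 = N46481 := rfl
theorem L650578 : sm gb N46481 = N46481 := ded_26_1 (flp_i L650576) L272849 L650576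
theorem L650579 : sm ge N46481 = N32223 := ded_44_1 (flp_i L272972) (flp_e L272851) L650576
theorem L650581 : sm gf N46481 = N32208 := ded_48_1 (flp_i L272853) L272847 L650576
theorem L650583 : sm gh N32208 = N46482 := rfl
theorem L650585 : sm gb N46482 = N46482 := ded_25_1 (flp_h L650583) L272855 L650583
theorem L650586 : sm ge N46482 = N32209 := ded_43_1 (flp_h L272859) (flp_e L272856) L650583
theorem L650588 : sm gg N46482 = N46482 := ded_50_1 (flp_h L650583) L272858 L650583
theorem L650589 : sm gi N46482 = N46482 := ded_54_2 (flp_h L650583) (flp_i L272853) L187710 L272853 L650583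
theorem L650590 : sm ga N32210 = N46483 := rfl
theorem L650592 : sm gc N46483 = N46483 := ded_11_2 (flp_a L650590) L272875 L650590
theorem L650593 : sm gd N46483 = N32269 := ded_12_2 (flp_a L273339) (flp_d L272869) L650590
theorem L650595 : sm gf N46483 = N32331 := ded_14_2 L273880 (flp_f L646241) L650590
theorem L650597 : sm gg N46483 = N46483 := ded_15_2 (flp_a L650590) L272871 L650590
theorem L650598 : sm gj N46483 = N32216 := ded_16_2 (flp_a L272919) (flp_j L272872) L650590
theorem L650600 : sm gh N46483 = N46483 := ded_17_2 (flp_a L650590) L272874 L650590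
theorem L650601 : sm ge N32210 = N46484 := rfl
theorem L650603 : sm gb N46484 = N32211 := ded_21_1 (flp_e L272876) L272867 L650601
theorem L650605 : sm gc N46484 = N46484 := ded_28_1 (flp_e L650601) L272875 L650601
theorem L650606 : sm gg N46484 = N46484 := ded_41_2 (flp_e L650601) L272871 L650601
theorem L650607 : sm gj N46484 = N32217 := ded_42_2 (flp_e L272927) (flp_j L272872) L650601
theorem L650609 : sm gh N46484 = N46484 := ded_43_2 (flp_e L650601) L272874 L650601
theorem L650610 : sm gi N32210 = N46485 := rfl
theorem L650612 : sm gb N46485 = N32212 := ded_26_1 (flp_i L272884) L272867 L650610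
theorem L650614 : sm gc N46485 = N46485 := ded_33_1 (flp_i L650610) L272875 L650610
theorem L650615 : sm gd N46485 = N32267 := ded_39_1 L629412 (flp_d L272869) L650610
theorem L650617 : sm gf N46485 = N32274 := ded_48_1 L273388 (flp_f L646241) L650610
theorem L650619 : sm gg N46485 = N46485 := ded_51_1 (flp_i L650610) L272871 L650610
theorem L650620 : sm gj N46485 = N32218 := ded_53_1 (flp_i L272935) (flp_j L272872) L650610
theorem L650622 : sm gf N32211 = N46486 := rfl
theorem L650624 : sm gc N46486 = N32213 := ded_29_1 (flp_f L272893) (flp_c L272878) L650622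
theorem L650626 : sm gj N46486 = N32219 := ded_46_2 (flp_f L272944) (flp_j L272881) L650622
theorem L650628 : sm gh N46486 = N46486 := ded_47_2 (flp_f L650622) L272883 L650622
theorem L650629 : sm gi N32211 = N46487 := rfl
theorem L650631 : sm gc N46487 = N32214 := ded_33_1 (flp_i L272901) (flp_c L272878) L650629
theorem L650633 : sm ge N46487 = N32212 := ded_44_1 (flp_i L272884) L272876 L650629
theorem L650635 : sm gg N46487 = N46487 := ded_51_1 (flp_i L650629) L272880 L650629
theorem L650636 : sm gj N46487 = N32220 := ded_53_1 (flp_i L272949) (flp_j L272881) L650629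
theorem L650638 : sm gh N32212 = N46488 := rfl
theorem L650640 : sm gc N46488 = N32215 := ded_32_1 (flp_h L272911) (flp_c L272886) L650638
theorem L650642 : sm gg N46488 = N46488 := ded_50_1 (flp_h L650638) L272890 L650638
theorem L650643 : sm gj N46488 = N32221 := ded_52_1 (flp_h L272957) (flp_j L272891) L650638
theorem L650645 : sm gi N46488 = N46488 := ded_54_2 (flp_h L650638) (flp_i L272884) L187724 L272884 L650638
theorem L650646 : sm gi N32213 = N46489 := rfl
theorem L650648 : sm gb N46489 = N46489 := ded_26_1 (flp_i L650646) L272895 L650646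
theorem L650649 : sm gd N46489 = N32239 := ded_39_1 (flp_i L273095) (flp_d L272896) L650646
theorem L650651 : sm gf N46489 = N32214 := ded_48_1 (flp_i L272901) L272893 L650646
theorem L650653 : sm gj N46489 = N32223 := ded_53_1 (flp_i L272972) (flp_j L272898) L650646
theorem L650655 : sm gh N32214 = N46490 := rfl
theorem L650657 : sm gb N46490 = N46490 := ded_25_1 (flp_h L650655) L272903 L650655
theorem L650658 : sm ge N46490 = N32215 := ded_43_1 (flp_h L272911) (flp_e L272906) L650655
theorem L650660 : sm gg N46490 = N46490 := ded_50_1 (flp_h L650655) L272908 L650655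
theorem L650661 : sm gj N46490 = N32224 := ded_52_1 (flp_h L272979) (flp_j L272909) L650655
theorem L650663 : sm gi N46490 = N46490 := ded_54_2 (flp_h L650655) (flp_i L272901) L187733 L272901 L650655
theorem L650664 : sm ge N32216 = N46491 := rfl
theorem L650666 : sm ga N46491 = N32217 := ded_13_1 (flp_e L272927) L272919 L650664
theorem L650668 : sm gc N46491 = N46491 := ded_28_1 (flp_e L650664) L272921 L650664
theorem L650669 : sm gg N46491 = N32225 := ded_41_2 (flp_e L272987) (flp_g L272924) L650664
theorem L650671 : sm gh N46491 = N46491 := ded_43_2 (flp_e L650664) L272926 L650664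
theorem L650672 : sm gi N32216 = N46492 := rfl
theorem L650674 : sm ga N46492 = N32218 := ded_18_1 (flp_i L272935) L272919 L650672
theorem L650676 : sm gc N46492 = N46492 := ded_33_1 (flp_i L650672) L272921 L650672
theorem L650677 : sm gd N46492 = N32272 := ded_39_1 (flp_i L273366) (flp_d L272922) L650672
theorem L650679 : sm gg N46492 = N32226 := ded_51_1 (flp_i L272994) (flp_g L272924) L650672
theorem L650681 : sm gf N32217 = N46493 := rfl
theorem L650683 : sm gb N46493 = N32219 := ded_22_1 (flp_f L272944) (flp_b L272929) L650681
theorem L650685 : sm gc N46493 = N46493 := ded_29_1 (flp_f L650681) L272931 L650681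
theorem L650686 : sm gh N46493 = N46493 := ded_47_2 (flp_f L650681) L272934 L650681
theorem L650687 : sm gi N32217 = N46494 := rfl
theorem L650689 : sm gb N46494 = N32220 := ded_26_1 (flp_i L272949) (flp_b L272929) L650687
theorem L650691 : sm gc N46494 = N46494 := ded_33_1 (flp_i L650687) L272931 L650687
theorem L650692 : sm ge N46494 = N32218 := ded_44_1 (flp_i L272935) L272927 L650687
theorem L650694 : sm gg N46494 = N32228 := ded_51_1 (flp_i L273011) (flp_g L272932) L650687
theorem L650696 : sm gh N32218 = N46495 := rfl
theorem L650698 : sm gb N46495 = N32221 := ded_25_1 (flp_h L272957) (flp_b L272937) L650696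
theorem L650700 : sm gc N46495 = N46495 := ded_32_1 (flp_h L650696) L272939 L650696
theorem L650701 : sm gg N46495 = N32229 := ded_50_1 (flp_h L273019) (flp_g L272942) L650696
theorem L650703 : sm gi N46495 = N46495 := ded_54_2 (flp_h L650696) (flp_i L272935) L187750 L272935 L650696
theorem L650704 : sm gg N32219 = N46496 := rfl
theorem L650706 : sm gc N46496 = N32222 := ded_30_1 (flp_g L272964) (flp_c L272946) L650704
theorem L650708 : sm gh N46496 = N46496 := ded_50_2 (flp_g L650704) L272948 L650704
theorem L650709 : sm gf N46496 = N32230 := ded_45_1 (flp_g L273027) (flp_f L187813) (flp_g L187756) L272944 L650704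
theorem L650711 : sm gi N32219 = N46497 := rfl
theorem L650713 : sm gc N46497 = N32223 := ded_33_1 (flp_i L272972) (flp_c L272946) L650711
theorem L650715 : sm gf N46497 = N32220 := ded_48_1 (flp_i L272949) L272944 L650711
theorem L650717 : sm gh N32220 = N46498 := rfl
theorem L650719 : sm gc N46498 = N32224 := ded_32_1 (flp_h L272979) (flp_c L272951) L650717
theorem L650721 : sm ge N46498 = N32221 := ded_43_1 (flp_h L272957) (flp_e L272953) L650717
theorem L650723 : sm gg N46498 = N32232 := ded_50_1 (flp_h L273041) (flp_g L272955) L650717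
theorem L650725 : sm gi N46498 = N46498 := ded_54_2 (flp_h L650717) (flp_i L272949) L187758 L272949 L650717
theorem L650726 : sm gd N32221 = N46499 := rfl
theorem L650728 : sm gg N46499 = N32233 := ded_36_2 (flp_d L273049) (flp_g L272961) L650726
theorem L650730 : sm gi N46499 = N46499 := ded_39_2 (flp_d L650726) L272963 L650726
theorem L650731 : sm gc N46499 = N46499 := ded_27_1 (flp_d L650726) L272959 L187787 (flp_c L272959) L650726
theorem L650732 : sm gh N46499 = N32274 := ded_38_2 (flp_d L273384) (flp_h L188091) (flp_d L187763) L272957 L650726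
theorem L650734 : sm gj N32222 = N46500 := rfl
theorem L650736 : sm gb N46500 = N46500 := ded_24_1 (flp_j L650734) L272966 L650734
theorem L650737 : sm gd N46500 = N32241 := ded_37_1 (flp_j L273112) (flp_d L272967) L650734
theorem L650739 : sm gf N46500 = N32234 := ded_46_1 (flp_j L273057) (flp_f L272970) L650734
theorem L650741 : sm gh N46500 = N46500 := ded_52_2 (flp_j L650734) L272969 L650734
theorem L650742 : sm gi N32222 = N46501 := rfl
theorem L650744 : sm gb N46501 = N46501 := ded_26_1 (flp_i L650742) L272966 L650742
theorem L650745 : sm gd N46501 = N32242 := ded_39_1 (flp_i L273119) (flp_d L272967) L650742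
theorem L650747 : sm gf N46501 = N32235 := ded_48_1 (flp_i L273065) (flp_f L272970) L650742
theorem L650749 : sm gg N46501 = N32223 := ded_51_1 (flp_i L272972) L272964 L650742
theorem L650751 : sm gh N32223 = N46502 := rfl
theorem L650753 : sm gb N46502 = N46502 := ded_25_1 (flp_h L650751) L272974 L650751
theorem L650754 : sm gf N46502 = N32224 := ded_47_1 (flp_h L272979) (flp_f L272977) L650751
theorem L650756 : sm gi N46502 = N46502 := ded_54_2 (flp_h L650751) (flp_i L272972) L187772 L272972 L650751
theorem L650757 : sm gf N32225 = N46503 := rfl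
theorem L650759 : sm ga N46503 = N32227 := ded_14_1 (flp_f L273003) (flp_a L272989) L650757
theorem L650761 : sm gc N46503 = N46503 := ded_29_1 (flp_f L650757) L272991 L650757
theorem L650762 : sm gj N46503 = N46503 := ded_46_2 (flp_f L650757) L272992 L650757
theorem L650763 : sm gh N46503 = N46503 := ded_47_2 (flp_f L650757) L272993 L650757
theorem L650764 : sm ge N46503 = N46503 := ded_40_1 (flp_f L650757) (flp_e L272987) L187794 L272987 L650757
theorem L650765 : sm gi N32225 = N46504 := rfl
theorem L650767 : sm ga N46504 = N32228 := ded_18_1 (flp_i L273011) (flp_a L272989) L650765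
theorem L650769 : sm gc N46504 = N46504 := ded_33_1 (flp_i L650765) L272991 L650765
theorem L650770 : sm ge N46504 = N32226 := ded_44_1 (flp_i L272994) L272987 L650765
theorem L650772 : sm gj N46504 = N46504 := ded_53_1 (flp_i L650765) L272992 L650765
theorem L650773 : sm gh N32226 = N46505 := rfl
theorem L650775 : sm ga N46505 = N32229 := ded_17_1 (flp_h L273019) (flp_a L272996) L650773
theorem L650777 : sm gc N46505 = N46505 := ded_32_1 (flp_h L650773) L272998 L650773
theorem L650778 : sm gf N46505 = N46505 := ded_47_1 (flp_h L650773) L273001 L650773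
theorem L650779 : sm gj N46505 = N46505 := ded_52_1 (flp_h L650773) L273002 L650773
theorem L650780 : sm gi N46505 = N46505 := ded_54_2 (flp_h L650773) (flp_i L272994) L187796 L272994 L650773
theorem L650781 : sm gg N32227 = N46506 := rfl
theorem L650783 : sm gb N46506 = N32230 := ded_23_1 (flp_g L273027) (flp_b L273005) L650781
theorem L650785 : sm gc N46506 = N46506 := ded_30_1 (flp_g L650781) L273007 L650781
theorem L650786 : sm ge N46506 = N46506 := ded_41_1 (flp_g L650781) L273010 L650781
theorem L650787 : sm gh N46506 = N46506 := ded_50_2 (flp_g L650781) L273009 L650781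
theorem L650788 : sm gi N32227 = N46507 := rfl
theorem L650790 : sm gb N46507 = N32231 := ded_26_1 (flp_i L273033) (flp_b L273005) L650788
theorem L650792 : sm gc N46507 = N46507 := ded_33_1 (flp_i L650788) L273007 L650788
theorem L650793 : sm ge N46507 = N46507 := ded_44_1 (flp_i L650788) L273010 L650788
theorem L650794 : sm gf N46507 = N32228 := ded_48_1 (flp_i L273011) L273003 L650788
theorem L650796 : sm gj N46507 = N46507 := ded_53_1 (flp_i L650788) L273008 L650788
theorem L650797 : sm gh N32228 = N46508 := rfl
theorem L650799 : sm gb N46508 = N32232 := ded_25_1 (flp_h L273041) (flp_b L273013) L650797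
theorem L650801 : sm gc N46508 = N46508 := ded_32_1 (flp_h L650797) L273015 L650797
theorem L650802 : sm ge N46508 = N32229 := ded_43_1 (flp_h L273019) (flp_e L273016) L650797
theorem L650804 : sm gj N46508 = N46508 := ded_52_1 (flp_h L650797) L273018 L650797
theorem L650805 : sm gi N46508 = N46508 := ded_54_2 (flp_h L650797) (flp_i L273011) L187803 L273011 L650797
theorem L650806 : sm gd N32229 = N46509 := rfl
theorem L650808 : sm gb N46509 = N32233 := ded_20_1 (flp_d L273049) (flp_b L273021) L650806
theorem L650810 : sm gf N46509 = N46509 := ded_35_2 (flp_d L650806) L273024 L650806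
theorem L650811 : sm gj N46509 = N46509 := ded_37_2 (flp_d L650806) L273025 L650806
theorem L650812 : sm gi N46509 = N46509 := ded_39_2 (flp_d L650806) L273026 L650806
theorem L650813 : sm gh N46509 = N32276 := ded_38_2 (flp_d L273401) (flp_h L188107) (flp_d L187809) L273019 L650806
theorem L650815 : sm gj N32230 = N46510 := rfl
theorem L650817 : sm gc N46510 = N32234 := ded_31_1 (flp_j L273057) (flp_c L273029) L650815
theorem L650819 : sm ge N46510 = N46510 := ded_42_1 (flp_j L650815) L273031 L650815
theorem L650820 : sm gh N46510 = N46510 := ded_52_2 (flp_j L650815) L273032 L650815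
theorem L650821 : sm gg N46510 = N46510 := ded_49_1 (flp_j L650815) (flp_g L273027) L187817 L273027 L650815
theorem L650822 : sm gi N32230 = N46511 := rfl
theorem L650824 : sm gc N46511 = N32235 := ded_33_1 (flp_i L273065) (flp_c L273029) L650822
theorem L650826 : sm ge N46511 = N46511 := ded_44_1 (flp_i L650822) L273031 L650822
theorem L650827 : sm gg N46511 = N32231 := ded_51_1 (flp_i L273033) L273027 L650822
theorem L650829 : sm gh N32231 = N46512 := rfl
theorem L650831 : sm gc N46512 = N32236 := ded_32_1 (flp_h L273073) (flp_c L273035) L650829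
theorem L650833 : sm ge N46512 = N46512 := ded_43_1 (flp_h L650829) L273037 L650829
theorem L650834 : sm gf N46512 = N32232 := ded_47_1 (flp_h L273041) (flp_f L273038) L650829
theorem L650836 : sm gj N46512 = N46512 := ded_52_1 (flp_h L650829) L273040 L650829
theorem L650837 : sm gi N46512 = N46512 := ded_54_2 (flp_h L650829) (flp_i L273033) L187818 L273033 L650829
theorem L650838 : sm gd N32232 = N46513 := rfl
theorem L650840 : sm gj N46513 = N46513 := ded_37_2 (flp_d L650838) L273047 L650838
theorem L650841 : sm gi N46513 = N46513 := ded_39_2 (flp_d L650838) L273048 L650838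
theorem L650842 : sm ge N32233 = N46514 := rfl
theorem L650844 : sm gc N46514 = N46514 := ded_28_1 (flp_e L650842) L273054 L650842
theorem L650845 : sm gj N46514 = N46514 := ded_42_2 (flp_e L650842) L273052 L650842
theorem L650846 : sm gh N46514 = N32277 := ded_43_2 (flp_e L273409) (flp_h L273055) L650842
theorem L650848 : sm gi N46514 = N46514 := ded_44_2 (flp_e L650842) L273053 L650842
theorem L650849 : sm gi N32234 = N46515 := rfl
theorem L650851 : sm gb N46515 = N46515 := ded_26_1 (flp_i L650849) L273059 L650849
theorem L650852 : sm gd N46515 = N32245 := ded_39_1 (flp_i L273141) (flp_d L273060) L650849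
theorem L650854 : sm ge N46515 = N46515 := ded_44_1 (flp_i L650849) L273062 L650849
theorem L650855 : sm gg N46515 = N46515 := ded_51_1 (flp_i L650849) L273064 L650849
theorem L650856 : sm gj N46515 = N32235 := ded_53_1 (flp_i L273065) L273057 L650849
theorem L650858 : sm gh N32235 = N46516 := rfl
theorem L650860 : sm gb N46516 = N46516 := ded_25_1 (flp_h L650858) L273067 L650858
theorem L650861 : sm ge N46516 = N46516 := ded_43_1 (flp_h L650858) L273070 L650858
theorem L650862 : sm gg N46516 = N32236 := ded_50_1 (flp_h L273073) (flp_g L273071) L650858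
theorem L650864 : sm gi N46516 = N46516 := ded_54_2 (flp_h L650858) (flp_i L273065) L187840 L273065 L650858
theorem L650865 : sm gj N32238 = N46517 := rfl
theorem L650867 : sm gb N46517 = N46517 := ded_24_1 (flp_j L650865) L273091 L650865
theorem L650868 : sm gf N46517 = N46517 := ded_46_1 (flp_j L650865) L273094 L650865
theorem L650869 : sm gh N46517 = N35305 := ded_52_2 (flp_j L299213) (flp_h L273092) L650865
theorem L650871 : sm gg N46517 = N32241 := ded_49_1 (flp_j L273112) (flp_g L187881) (flp_j L187860) L273089 L650865
theorem L650873 : sm gi N32238 = N46518 := rfl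
theorem L650875 : sm gb N46518 = N46518 := ded_26_1 (flp_i L650873) L273091 L650873
theorem L650876 : sm gf N46518 = N46518 := ded_48_1 (flp_i L650873) L273094 L650873
theorem L650877 : sm gg N46518 = N32239 := ded_51_1 (flp_i L273095) L273089 L650873
theorem L650879 : sm gi N32241 = N46519 := rfl
theorem L650881 : sm gb N46519 = N46519 := ded_26_1 (flp_i L650879) L273114 L650879
theorem L650882 : sm gf N46519 = N32245 := ded_48_1 (flp_i L273141) (flp_f L273115) L650879
theorem L650884 : sm gj N46519 = N32242 := ded_53_1 (flp_i L273119) L273112 L650879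
theorem L650886 : sm gh N32265 = N46520 := rfl
theorem L650888 : sm gg N46520 = N46520 := ded_50_1 (flp_h L650886) L273313 L650886
theorem L650889 : sm gd N46520 = N32353 := ded_38_1 (flp_h L274059) (flp_d L188587) (flp_h L188023) L273311 L650886
theorem L650891 : sm gi N32265 = N46521 := rfl
theorem L650893 : sm gd N46521 = N32266 := ded_39_1 (flp_i L273314) L273311 L650891
theorem L650895 : sm gg N46521 = N46521 := ded_51_1 (flp_i L650891) L273313 L650891
theorem L650896 : sm ge N32274 = N46522 := rfl
theorem L650898 : sm gc N46522 = N46522 := ded_28_1 (flp_e L650896) L273390 L650896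
theorem L650899 : sm gg N46522 = N32277 := ded_41_2 (flp_e L273409) (flp_g L273386) L650896
theorem L650901 : sm gi N46522 = N32363 := ded_44_2 (flp_e L274133) (flp_i L273388) L650896
theorem L650903 : sm gh N32322 = N46523 := rfl
theorem L650905 : sm ga N46523 = N32353 := ded_17_1 (flp_h L274059) (flp_a L273803) L650903
theorem L650907 : sm gc N46523 = N46523 := ded_32_1 (flp_h L650903) L273806 L650903
theorem L650908 : sm ge N46523 = N46523 := ded_43_1 (flp_h L650903) L273807 L650903
theorem L650909 : sm gg N46523 = N46523 := ded_50_1 (flp_h L650903) L273805 L650903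
theorem L650910 : sm gd N32330 = N46524 := rfl
theorem L650912 : sm gb N46524 = N32331 := ded_20_1 (flp_d L273878) (flp_b L273873) L650910
theorem L650914 : sm gg N46524 = N32333 := ded_36_2 (flp_d L273895) (flp_g L273876) L650910
theorem L650916 : sm gh N46524 = N46524 := ded_38_2 (flp_d L650910) (flp_h L273871) L188459 L273871 L650910
theorem L650917 : sm ge N32331 = N46525 := rfl
theorem L650919 : sm ga N46525 = N32363 := ded_13_1 (flp_e L274133) (flp_a L273880) L650917
theorem L650921 : sm gc N46525 = N46525 := ded_28_1 (flp_e L650917) L273884 L650917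
theorem L650922 : sm gg N46525 = N32334 := ded_41_2 (flp_e L273902) (flp_g L273882) L650917
theorem L650924 : sm gh N46525 = N46525 := ded_43_2 (flp_e L650917) L273885 L650917
theorem L650925 : sm gi N32353 = N46526 := rfl
theorem L650927 : sm gc N46526 = N46526 := ded_33_1 (flp_i L650925) L274061 L650925
theorem L650928 : sm ge N46526 = N46526 := ded_44_1 (flp_i L650925) L274062 L650925
theorem L650929 : sm gg N46526 = N46526 := ded_51_1 (flp_i L650925) L274063 L650925
theorem L650930 : sm gf N32363 = N46527 := rfl
theorem L650932 : sm gc N46527 = N46527 := ded_29_1 (flp_f L650930) L274135 L650930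
theorem L650933 : sm gh N46527 = N46527 := ded_47_2 (flp_f L650930) L274138 L650930
theorem L650934 : sm gj N33488 = N46528 := rfl
theorem L650936 : sm gb N46528 = N34387 := ded_24_1 (flp_j L291640) (flp_b L284051) L650934
theorem L650938 : sm gc N46528 = N46528 := ded_31_1 (flp_j L650934) L284053 L650934
theorem L650939 : sm ge N46528 = N33491 := ded_42_1 (flp_j L284072) (flp_e L284054) L650934
theorem L650941 : sm gi N33719 = N46529 := rfl
theorem L650943 : sm ga N46529 = N33873 := ded_18_1 (flp_i L287370) L614944 L650941
theorem L650945 : sm gb N46529 = N34513 := ded_26_1 (flp_i L292716) (flp_b L286059) L650941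
theorem L650947 : sm gc N46529 = N46529 := ded_33_1 (flp_i L650941) L286061 L650941
theorem L650948 : sm gd N46529 = N34651 := ded_39_1 (flp_i L293789) (flp_d L534070) L650941
theorem L650950 : sm gf N46529 = N33722 := ded_48_1 (flp_i L286081) (flp_f L286062) L650941
theorem L650952 : sm gg N46529 = N46529 := ded_51_1 (flp_i L650941) L286064 L650941
theorem L650953 : sm gj N46529 = N33822 := ded_53_1 (flp_i L286935) (flp_j L614942) L650941
theorem L650955 : sm gh N46529 = N33871 := ded_54_1 (flp_i L287353) (flp_h L197611) (flp_i L196730) L286057 L650941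
theorem L650957 : sm gi N33720 = N46530 := rfl
theorem L650959 : sm ga N46530 = N33871 := ded_18_1 (flp_i L287353) (flp_a L615010) L650957
theorem L650961 : sm gb N46530 = N34515 := ded_26_1 (flp_i L292732) (flp_b L286067) L650957
theorem L650963 : sm gc N46530 = N46530 := ded_33_1 (flp_i L650957) L286069 L650957
theorem L650964 : sm gd N46530 = N34653 := ded_39_1 (flp_i L293808) (flp_d L534038) L650957
theorem L650966 : sm gf N46530 = N33822 := ded_48_1 (flp_i L286935) (flp_f L615013) L650957
theorem L650968 : sm gg N46530 = N46530 := ded_51_1 (flp_i L650957) L286070 L650957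
theorem L650969 : sm gj N46530 = N33722 := ded_53_1 (flp_i L286081) (flp_j L286071) L650957
theorem L650971 : sm gh N46530 = N33873 := ded_54_1 (flp_i L287370) (flp_h L197619) (flp_i L196740) L286065 L650957
theorem L650973 : sm gi N33789 = N46531 := rfl
theorem L650975 : sm ga N46531 = N34518 := ded_18_1 (flp_i L292755) (flp_a L547250) L650973
theorem L650977 : sm gb N46531 = N33822 := ded_26_1 (flp_i L286935) (flp_b L286638) L650973
theorem L650979 : sm gc N46531 = N34816 := ded_33_1 (flp_i L295148) (flp_c L615183) L650973
theorem L650981 : sm gd N46531 = N34465 := ded_39_1 (flp_i L292285) (flp_d L547252) L650973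
theorem L650983 : sm gf N46531 = N34515 := ded_48_1 (flp_i L292732) (flp_f L615185) L650973
theorem L650985 : sm gg N46531 = N33791 := ded_51_1 (flp_i L286652) (flp_g L286640) L650973
theorem L650987 : sm gj N46531 = N34513 := ded_53_1 (flp_i L292716) (flp_j L615187) L650973
theorem L650989 : sm gh N46531 = N33876 := ded_54_1 (flp_i L287394) L197633 (flp_i L590463) L286634 L650973
theorem L650991 : sm gi N33821 = N46532 := rfl
theorem L650993 : sm ga N46532 = N33876 := ded_18_1 (flp_i L287394) (flp_a L286929) L650991
theorem L650995 : sm gb N46532 = N34465 := ded_26_1 (flp_i L292285) (flp_b L508084) L650991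
theorem L650997 : sm gc N46532 = N34891 := ded_33_1 (flp_i L295743) (flp_c L615048) L650991
theorem L650999 : sm gd N46532 = N33822 := ded_39_1 (flp_i L286935) L286927 L650991
theorem L651001 : sm gf N46532 = N34653 := ded_48_1 (flp_i L293808) (flp_f L615050) L650991
theorem L651003 : sm gg N46532 = N33825 := ded_51_1 (flp_i L286958) (flp_g L286931) L650991
theorem L651005 : sm gj N46532 = N34651 := ded_53_1 (flp_i L293789) (flp_j L615052) L650991
theorem L651007 : sm gh N46532 = N34518 := ded_54_1 (flp_i L292755) L201375 L508118 (flp_h L286933) L650991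
theorem L651009 : sm gi N33867 = N46533 := rfl
theorem L651011 : sm gb N46533 = N34690 := ded_26_1 (flp_i L294130) (flp_b L287320) L651009
theorem L651013 : sm gc N46533 = N46533 := ded_33_1 (flp_i L651009) L287322 L651009
theorem L651014 : sm ge N46533 = N33871 := ded_44_1 (flp_i L287353) (flp_e L287323) L651009
theorem L651016 : sm gg N46533 = N46533 := ded_51_1 (flp_i L651009) L287325 L651009
theorem L651017 : sm gj N46533 = N34699 := ded_53_1 (flp_i L294197) (flp_j L615007) L651009
theorem L651019 : sm gi N33875 = N46534 := rfl
theorem L651021 : sm gb N46534 = N34699 := ded_26_1 (flp_i L294197) (flp_b L287388) L651019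
theorem L651023 : sm gc N46534 = N34895 := ded_33_1 (flp_i L295773) (flp_c L615041) L651019
theorem L651025 : sm ge N46534 = N33876 := ded_44_1 (flp_i L287394) L287386 L651019
theorem L651027 : sm gg N46534 = N33880 := ded_51_1 (flp_i L287426) (flp_g L287390) L651019
theorem L651029 : sm gj N46534 = N34690 := ded_53_1 (flp_i L294130) (flp_j L615045) L651019
theorem L651031 : sm gj N33905 = N46535 := rfl
theorem L651033 : sm gb N46535 = N34724 := ded_24_1 (flp_j L294371) (flp_b L287631) L651031
theorem L651035 : sm gc N46535 = N46535 := ded_31_1 (flp_j L651031) L287633 L651031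
theorem L651036 : sm gf N46535 = N33908 := ded_46_1 (flp_j L287652) (flp_f L287634) L651031
theorem L651038 : sm gg N34354 = N46536 := rfl
theorem L651040 : sm ge N46536 = N46536 := ded_41_1 (flp_g L651038) L291428 L651038
theorem L651041 : sm gh N46536 = N34378 := ded_50_2 (flp_g L291576) (flp_h L291426) L651038
theorem L651043 : sm gj N34378 = N46537 := rfl
theorem L651045 : sm gd N46537 = N34387 := ded_37_1 (flp_j L291640) (flp_d L291578) L651043
theorem L651047 : sm ge N46537 = N46537 := ded_42_1 (flp_j L651043) L291580 L651043
theorem L651048 : sm gj N34384 = N46538 := rfl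
theorem L651050 : sm gc N46538 = N35219 := ded_31_1 (flp_j L298533) (flp_c L291618) L651048
theorem L651052 : sm ge N46538 = N34724 := ded_42_1 (flp_j L294371) (flp_e L291620) L651048
theorem L651054 : sm gf N46538 = N34387 := ded_46_1 (flp_j L291640) (flp_f L291622) L651048
theorem L651056 : sm gi N34462 = N46539 := rfl
theorem L651058 : sm ga N46539 = N34513 := ded_18_1 (flp_i L292716) (flp_a L292261) L651056
theorem L651060 : sm gb N46539 = N34653 := ded_26_1 (flp_i L293808) (flp_b L615353) L651056
theorem L651062 : sm gc N46539 = N34776 := ded_33_1 (flp_i L294801) (flp_c L292263) L651056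
theorem L651064 : sm gd N46539 = N34515 := ded_39_1 (flp_i L292732) (flp_d L615355) L651056
theorem L651066 : sm gf N46539 = N34465 := ded_48_1 (flp_i L292285) (flp_f L292265) L651056
theorem L651068 : sm gg N46539 = N46539 := ded_51_1 (flp_i L651056) L292267 L651056
theorem L651069 : sm gj N46539 = N34518 := ded_53_1 (flp_i L292755) (flp_j L615360) L651056
theorem L651071 : sm gh N46539 = N34651 := ded_54_1 (flp_i L293789) (flp_h L202081) (flp_i L201036) L292259 L651056
theorem L651073 : sm gi N34463 = N46540 := rfl
theorem L651075 : sm ga N46540 = N34515 := ded_18_1 (flp_i L292732) (flp_a L292270) L651073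
theorem L651077 : sm gb N46540 = N34651 := ded_26_1 (flp_i L293789) (flp_b L614700) L651073
theorem L651079 : sm gc N46540 = N34778 := ded_33_1 (flp_i L294819) (flp_c L292272) L651073
theorem L651081 : sm gd N46540 = N34513 := ded_39_1 (flp_i L292716) (flp_d L614702) L651073
theorem L651083 : sm gf N46540 = N34518 := ded_48_1 (flp_i L292755) (flp_f L614704) L651073
theorem L651085 : sm gg N46540 = N46540 := ded_51_1 (flp_i L651073) L292274 L651073
theorem L651086 : sm gj N46540 = N34465 := ded_53_1 (flp_i L292285) (flp_j L292275) L651073
theorem L651088 : sm gh N46540 = N34653 := ded_54_1 (flp_i L293808) (flp_h L202090) (flp_i L201047) L292268 L651073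
theorem L651090 : sm gd N34509 = N46541 := rfl
theorem L651092 : sm gg N46541 = N46541 := ded_36_2 (flp_d L651090) L292690 L651090
theorem L651093 : sm gi N34509 = N46542 := rfl
theorem L651095 : sm gc N46542 = N34813 := ded_33_1 (flp_i L295124) (flp_c L292686) L651093
theorem L651097 : sm ge N46542 = N34513 := ded_44_1 (flp_i L292716) (flp_e L292688) L651093
theorem L651099 : sm gg N46542 = N46542 := ded_51_1 (flp_i L651093) L292690 L651093
theorem L651100 : sm gh N46542 = N34690 := ded_54_1 (flp_i L294130) (flp_h L202363) (flp_i L201345) L292684 L651093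
theorem L651102 : sm gi N34516 = N46543 := rfl
theorem L651104 : sm ga N46543 = N34816 := ded_18_1 (flp_i L295148) (flp_a L616232) L651102
theorem L651106 : sm gb N46543 = N34877 := ded_26_1 (flp_i L295629) (flp_b L547241) L651102
theorem L651108 : sm gc N46543 = N34518 := ded_33_1 (flp_i L292755) L292741 L651102
theorem L651110 : sm gd N46543 = N34825 := ded_39_1 (flp_i L295218) (flp_d L292747) L651102
theorem L651112 : sm gf N46543 = N34778 := ded_48_1 (flp_i L294819) (flp_f L616234) L651102
theorem L651114 : sm gg N46543 = N34521 := ded_51_1 (flp_i L292776) (flp_g L292743) L651102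
theorem L651116 : sm gj N46543 = N34776 := ded_53_1 (flp_i L294801) (flp_j L616236) L651102
theorem L651118 : sm gh N46543 = N34891 := ded_54_1 (flp_i L295743) (flp_h L203581) L614457 (flp_h L292745) L651102
theorem L651120 : sm gd N34647 = N46544 := rfl
theorem L651122 : sm ga N46544 = N34689 := ded_12_1 (flp_d L294127) (flp_a L293752) L651120
theorem L651124 : sm gg N46544 = N46544 := ded_36_2 (flp_d L651120) L293758 L651120
theorem L651125 : sm gi N34647 = N46545 := rfl
theorem L651127 : sm ga N46545 = N34690 := ded_18_1 (flp_i L294130) (flp_a L293752) L651125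
theorem L651129 : sm gc N46545 = N34889 := ded_33_1 (flp_i L295727) (flp_c L293754) L651125
theorem L651131 : sm ge N46545 = N34651 := ded_44_1 (flp_i L293789) (flp_e L293756) L651125
theorem L651133 : sm gg N46545 = N46545 := ded_51_1 (flp_i L651125) L293758 L651125
theorem L651134 : sm gc N34689 = N46546 := rfl
theorem L651136 : sm gg N46546 = N46546 := ded_30_2 (flp_c L651134) L294129 L651134
theorem L651137 : sm gd N46546 = N34896 := ded_27_2 (flp_c L295780) (flp_d L203620) (flp_c L202365) L294127 L651134
theorem L651139 : sm gi N34689 = N46547 := rfl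
theorem L651141 : sm gd N46547 = N34690 := ded_39_1 (flp_i L294130) L294127 L651139
theorem L651143 : sm gg N46547 = N46547 := ded_51_1 (flp_i L651139) L294129 L651139
theorem L651144 : sm gg N34698 = N46548 := rfl
theorem L651146 : sm gc N46548 = N46548 := ded_30_1 (flp_g L651144) L294194 L651144
theorem L651147 : sm gh N46548 = N34714 := ded_50_2 (flp_g L294301) (flp_h L294195) L651144
theorem L651149 : sm gf N46548 = N34701 := ded_45_1 (flp_g L294211) (flp_f L202430) (flp_g L202419) L294192 L651144
theorem L651151 : sm gi N34698 = N46549 := rfl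
theorem L651153 : sm gc N46549 = N46549 := ded_33_1 (flp_i L651151) L294194 L651151
theorem L651154 : sm gf N46549 = N34699 := ded_48_1 (flp_i L294197) L294192 L651151
theorem L651156 : sm gj N34701 = N46550 := rfl
theorem L651158 : sm gc N46550 = N46550 := ded_31_1 (flp_j L651156) L294213 L651156
theorem L651159 : sm ge N46550 = N46550 := ded_42_1 (flp_j L651156) L294214 L651156
theorem L651160 : sm gh N46550 = N34717 := ded_52_2 (flp_j L294322) (flp_h L294215) L651156
theorem L651162 : sm gg N46550 = N46550 := ded_49_1 (flp_j L651156) (flp_g L294211) L202433 L294211 L651156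
theorem L651163 : sm gi N34701 = N46551 := rfl
theorem L651165 : sm gc N46551 = N46551 := ded_33_1 (flp_i L651163) L294213 L651163
theorem L651166 : sm ge N46551 = N46551 := ded_44_1 (flp_i L651163) L294214 L651163
theorem L651167 : sm gg N46551 = N34702 := ded_51_1 (flp_i L294217) L294211 L651163
theorem L651169 : sm gj N34714 = N46552 := rfl
theorem L651171 : sm gc N46552 = N46552 := ded_31_1 (flp_j L651169) L294303 L651169
theorem L651172 : sm gd N46552 = N34724 := ded_37_1 (flp_j L294371) (flp_d L294304) L651169
theorem L651174 : sm gf N46552 = N34717 := ded_46_1 (flp_j L294322) (flp_f L294306) L651169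
theorem L651176 : sm gj N34721 = N46553 := rfl
theorem L651178 : sm gc N46553 = N35305 := ded_31_1 (flp_j L299213) (flp_c L294351) L651176
theorem L651180 : sm gf N46553 = N46553 := ded_46_1 (flp_j L651176) L294353 L651176
theorem L651181 : sm gg N46553 = N34724 := ded_49_1 (flp_j L294371) (flp_g L202563) (flp_j L202545) L294349 L651176
theorem L651183 : sm gd N34772 = N46554 := rfl
theorem L651185 : sm ga N46554 = N34812 := ded_12_1 (flp_d L295119) (flp_a L294769) L651183
theorem L651187 : sm gg N46554 = N46554 := ded_36_2 (flp_d L651183) L294773 L651183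
theorem L651188 : sm gh N46554 = N46554 := ded_38_2 (flp_d L651183) (flp_h L294767) L202846 L294767 L651183
theorem L651189 : sm gi N34772 = N46555 := rfl
theorem L651191 : sm ga N46555 = N34813 := ded_18_1 (flp_i L295124) (flp_a L294769) L651189
theorem L651193 : sm ge N46555 = N34776 := ded_44_1 (flp_i L294801) (flp_e L294771) L651189
theorem L651195 : sm gg N46555 = N46555 := ded_51_1 (flp_i L651189) L294773 L651189
theorem L651196 : sm gh N46555 = N34889 := ded_54_1 (flp_i L295727) (flp_h L203566) (flp_i L202844) L294767 L651189
theorem L651198 : sm gi N34811 = N46556 := rfl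
theorem L651200 : sm gb N46556 = N46556 := ded_26_1 (flp_i L651198) L295114 L651198
theorem L651201 : sm ge N46556 = N34816 := ded_44_1 (flp_i L295148) (flp_e L295115) L651198
theorem L651203 : sm gj N46556 = N34813 := ded_53_1 (flp_i L295124) (flp_j L295117) L651198
theorem L651205 : sm gh N46556 = N34895 := ded_54_1 (flp_i L295773) (flp_h L203613) (flp_i L203100) L295112 L651198
theorem L651207 : sm gi N34812 = N46557 := rfl
theorem L651209 : sm gb N46557 = N46557 := ded_26_1 (flp_i L651207) L295121 L651207
theorem L651210 : sm gd N46557 = N34813 := ded_39_1 (flp_i L295124) L295119 L651207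
theorem L651212 : sm gg N46557 = N46557 := ded_51_1 (flp_i L651207) L295122 L651207
theorem L651213 : sm gc N34888 = N46558 := rfl
theorem L651215 : sm ga N46558 = N34896 := ded_11_1 (flp_c L295780) (flp_a L295722) L651213
theorem L651217 : sm ge N46558 = N46558 := ded_28_2 (flp_c L651213) L295725 L651213
theorem L651218 : sm gg N46558 = N46558 := ded_30_2 (flp_c L651213) L295724 L651213
theorem L651219 : sm gh N46558 = N46558 := ded_32_2 (flp_c L651213) L295726 L651213
theorem L651220 : sm gi N34888 = N46559 := rfl
theorem L651222 : sm ga N46559 = N34897 := ded_18_1 (flp_i L295785) (flp_a L295722) L651220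
theorem L651224 : sm gd N46559 = N34889 := ded_39_1 (flp_i L295727) L295720 L651220
theorem L651226 : sm ge N46559 = N46559 := ded_44_1 (flp_i L651220) L295725 L651220
theorem L651227 : sm gg N46559 = N46559 := ded_51_1 (flp_i L651220) L295724 L651220
theorem L651228 : sm gc N34894 = N46560 := rfl
theorem L651230 : sm ge N46560 = N46560 := ded_28_2 (flp_c L651228) L295771 L651228
theorem L651231 : sm gj N46560 = N34896 := ded_31_2 (flp_c L295780) (flp_j L295769) L651228
theorem L651233 : sm gh N46560 = N46560 := ded_32_2 (flp_c L651228) L295772 L651228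
theorem L651234 : sm gi N34894 = N46561 := rfl
theorem L651236 : sm gb N46561 = N46561 := ded_26_1 (flp_i L651234) L295768 L651234
theorem L651237 : sm gd N46561 = N34895 := ded_39_1 (flp_i L295773) L295766 L651234
theorem L651239 : sm ge N46561 = N46561 := ded_44_1 (flp_i L651234) L295771 L651234
theorem L651240 : sm gj N46561 = N34897 := ded_53_1 (flp_i L295785) (flp_j L295769) L651234
theorem L651242 : sm gb N34896 = N46562 := rfl
theorem L651244 : sm ge N46562 = N46562 := ded_21_2 (flp_b L651242) L295782 L651242
theorem L651245 : sm gg N46562 = N46562 := ded_23_2 (flp_b L651242) L295783 L651242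
theorem L651246 : sm gh N46562 = N46562 := ded_25_2 (flp_b L651242) L295784 L651242
theorem L651247 : sm gc N46562 = N46562 := ded_19_2 (flp_b L651242) (flp_c L295780) L203622 L295780 L651242
theorem L651248 : sm gi N34896 = N46563 := rfl
theorem L651250 : sm gc N46563 = N34897 := ded_33_1 (flp_i L295785) L295780 L651248
theorem L651252 : sm ge N46563 = N46563 := ded_44_1 (flp_i L651248) L295782 L651248
theorem L651253 : sm gg N46563 = N46563 := ded_51_1 (flp_i L651248) L295783 L651248
theorem L651254 : sm gh N34897 = N46564 := rfl
theorem L651256 : sm gb N46564 = N46564 := ded_25_1 (flp_h L651254) L295787 L651254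
theorem L651257 : sm ge N46564 = N46564 := ded_43_1 (flp_h L651254) L295790 L651254
theorem L651258 : sm gg N46564 = N46564 := ded_50_1 (flp_h L651254) L295791 L651254
theorem L651259 : sm gi N46564 = N46564 := ded_54_2 (flp_h L651254) (flp_i L295785) L203625 L295785 L651254
theorem L651260 : sm gg N35175 = N46565 := rfl
theorem L651262 : sm gb N46565 = N46565 := ded_23_1 (flp_g L651260) L298217 L651260
theorem L651263 : sm ge N46565 = N46565 := ded_41_1 (flp_g L651260) L298220 L651260
theorem L651264 : sm gh N46565 = N35200 := ded_50_2 (flp_g L298398) (flp_h L298218) L651260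
theorem L651266 : sm gf N46565 = N35185 := ded_45_1 (flp_g L298285) (flp_f L205326) (flp_g L205293) L298215 L651260
theorem L651268 : sm gi N35175 = N46566 := rfl
theorem L651270 : sm gb N46566 = N46566 := ded_26_1 (flp_i L651268) L298217 L651268
theorem L651271 : sm gd N46566 = N35219 := ded_39_1 (flp_i L648304) L648975 L651268
theorem L651273 : sm ge N46566 = N46566 := ded_44_1 (flp_i L651268) L298220 L651268
theorem L651274 : sm gf N46566 = N35176 := ded_48_1 (flp_i L298221) L298215 L651268
theorem L651276 : sm gj N46566 = N35200 := ded_53_1 (flp_i L648280) L648961 L651268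
theorem L651278 : sm gj N35216 = N46567 := rfl
theorem L651280 : sm gb N46567 = N46567 := ded_24_1 (flp_j L651278) L298514 L651278
theorem L651281 : sm ge N46567 = N35305 := ded_42_1 (flp_j L299213) (flp_e L298515) L651278
theorem L651283 : sm gg N46567 = N35219 := ded_49_1 (flp_j L298533) (flp_g L205495) (flp_j L205476) L298512 L651278
theorem L651285 : sm gf N41535 = N46568 := rfl
theorem L651287 : sm ga N46568 = N45139 := ded_14_1 L381933 (flp_a L649343) L651285
theorem L651289 : sm gb N46568 = N46568 := ded_22_1 (flp_f L651285) L350806 L651285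
theorem L651290 : sm gc N46568 = N41950 := ded_29_1 (flp_f L354533) (flp_c L350807) L651285
theorem L651292 : sm gd N46568 = N46568 := ded_35_1 (flp_f L651285) L350813 L651285
theorem L651293 : sm gj N46568 = N41585 := ded_46_2 (flp_f L351249) (flp_j L350810) L651285
theorem L651295 : sm gh N46568 = N46568 := ded_47_2 (flp_f L651285) L350812 L651285
theorem L651296 : sm ge N46568 = N45090 := ded_40_1 L381545 L262243 L627530 L350804 L651285
theorem L651298 : sm gi N41535 = N46569 := rfl
theorem L651300 : sm ga N46569 = N46350 := ded_18_1 (flp_i L649490) (flp_a L649343) L651298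
theorem L651302 : sm gb N46569 = N46569 := ded_26_1 (flp_i L651298) L350806 L651298
theorem L651303 : sm gc N46569 = N41951 := ded_33_1 (flp_i L354542) (flp_c L350807) L651298
theorem L651305 : sm gd N46569 = N46569 := ded_39_1 (flp_i L651298) L350813 L651298
theorem L651306 : sm ge N46569 = N41536 := ded_44_1 (flp_i L350814) L350804 L651298
theorem L651308 : sm gg N46569 = N46569 := ded_51_1 (flp_i L651298) L350809 L651298
theorem L651309 : sm gj N46569 = N41586 := ded_53_1 (flp_i L351256) (flp_j L350810) L651298
theorem L651311 : sm gh N41536 = N46570 := rfl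
theorem L651313 : sm ga N46570 = N46351 := ded_17_1 (flp_h L649498) (flp_a L649005) L651311
theorem L651315 : sm gb N46570 = N46570 := ded_25_1 (flp_h L651311) L350816 L651311
theorem L651316 : sm gc N46570 = N41952 := ded_32_1 (flp_h L354553) (flp_c L350817) L651311
theorem L651318 : sm gf N46570 = N46341 := ded_47_1 (flp_h L649407) (flp_f L648993) L651311
theorem L651320 : sm gg N46570 = N46570 := ded_50_1 (flp_h L651311) L350821 L651311
theorem L651321 : sm gj N46570 = N41587 := ded_52_1 (flp_h L351266) (flp_j L350822) L651311
theorem L651323 : sm gd N46570 = N46570 := ded_38_1 (flp_h L651311) L350819 L241524 (flp_d L350819) L651311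
theorem L651324 : sm gi N46570 = N46570 := ded_54_2 (flp_h L651311) (flp_i L350814) L241514 L350814 L651311
theorem L651325 : sm gf N41564 = N46571 := rfl
theorem L651327 : sm ga N46571 = N41585 := ded_14_1 (flp_f L351249) (flp_a L351070) L651325
theorem L651329 : sm gb N46571 = N45152 := ded_22_1 L382049 L649277 L651325
theorem L651331 : sm gc N46571 = N42049 := ded_29_1 (flp_f L355441) (flp_c L351072) L651325
theorem L651333 : sm gd N46571 = N46571 := ded_35_1 (flp_f L651325) L351077 L651325
theorem L651334 : sm gj N46571 = N45139 := ded_46_2 L381933 (flp_j L649345) L651325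
theorem L651336 : sm gh N46571 = N46571 := ded_47_2 (flp_f L651325) L351076 L651325
theorem L651337 : sm ge N46571 = N45136 := ded_40_1 L381908 L262505 L648139 L351068 L651325
theorem L651339 : sm gi N41564 = N46572 := rfl
theorem L651341 : sm ga N46572 = N41586 := ded_18_1 (flp_i L351256) (flp_a L351070) L651339
theorem L651343 : sm gb N46572 = N46359 := ded_26_1 (flp_i L649568) L649277 L651339
theorem L651345 : sm gc N46572 = N42050 := ded_33_1 (flp_i L355448) (flp_c L351072) L651339
theorem L651347 : sm gd N46572 = N46572 := ded_39_1 (flp_i L651339) L351077 L651339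
theorem L651348 : sm ge N46572 = N41565 := ded_44_1 (flp_i L351078) L351068 L651339
theorem L651350 : sm gg N46572 = N41630 := ded_51_1 (flp_i L351637) (flp_g L351074) L651339
theorem L651352 : sm gj N46572 = N46350 := ded_53_1 (flp_i L649490) (flp_j L649345) L651339
theorem L651354 : sm gh N41565 = N46573 := rfl
theorem L651356 : sm ga N46573 = N41587 := ded_17_1 (flp_h L351266) (flp_a L351080) L651354
theorem L651358 : sm gb N46573 = N46360 := ded_25_1 (flp_h L649576) L649279 L651354
theorem L651360 : sm gc N46573 = N42051 := ded_32_1 (flp_h L355458) (flp_c L351082) L651354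
theorem L651362 : sm gf N46573 = N46352 := ded_47_1 (flp_h L649507) (flp_f L648182) L651354
theorem L651364 : sm gg N46573 = N41631 := ded_50_1 (flp_h L351647) (flp_g L351086) L651354
theorem L651366 : sm gj N46573 = N46351 := ded_52_1 (flp_h L649498) L649309 L651354
theorem L651368 : sm gd N46573 = N46573 := ded_38_1 (flp_h L651354) L351084 L241695 (flp_d L351084) L651354
theorem L651369 : sm gi N46573 = N46573 := ded_54_2 (flp_h L651354) (flp_i L351078) L241685 L351078 L651354
theorem L651370 : sm gf N41583 = N46574 := rfl
theorem L651372 : sm ga N46574 = N45136 := ded_14_1 L381908 (flp_a L648116) L651370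
theorem L651374 : sm gb N46574 = N46574 := ded_22_1 (flp_f L651370) L351236 L651370
theorem L651375 : sm gc N46574 = N42077 := ded_29_1 (flp_f L355675) (flp_c L351237) L651370
theorem L651377 : sm gd N46574 = N45089 := ded_35_1 L381536 (flp_d L648119) L651370
theorem L651379 : sm gj N46574 = N45090 := ded_46_2 L381545 (flp_j L648123) L651370
theorem L651381 : sm gh N46574 = N46574 := ded_47_2 (flp_f L651370) L351239 L651370
theorem L651382 : sm ge N46574 = N41585 := ded_40_1 (flp_f L351249) (flp_e L241799) (flp_f L241786) L351234 L651370
theorem L651384 : sm gi N41583 = N46575 := rfl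
theorem L651386 : sm ga N46575 = N45142 := ded_18_1 (flp_i L381952) (flp_a L648116) L651384
theorem L651388 : sm gb N46575 = N46575 := ded_26_1 (flp_i L651384) L351236 L651384
theorem L651389 : sm gc N46575 = N42078 := ded_33_1 (flp_i L355682) (flp_c L351237) L651384
theorem L651391 : sm gd N46575 = N45093 := ded_39_1 (flp_i L381568) (flp_d L648119) L651384
theorem L651393 : sm ge N46575 = N41584 := ded_44_1 (flp_i L351240) L351234 L651384
theorem L651395 : sm gg N46575 = N45365 := ded_51_1 (flp_i L383757) (flp_g L648121) L651384
theorem L651397 : sm gj N46575 = N45095 := ded_53_1 (flp_i L381588) (flp_j L648123) L651384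
theorem L651399 : sm gh N41584 = N46576 := rfl
theorem L651401 : sm ga N46576 = N46352 := ded_17_1 (flp_h L649507) (flp_a L649315) L651399
theorem L651403 : sm gb N46576 = N46576 := ded_25_1 (flp_h L651399) L351242 L651399
theorem L651404 : sm gc N46576 = N42079 := ded_32_1 (flp_h L355688) (flp_c L351243) L651399
theorem L651406 : sm gf N46576 = N41587 := ded_47_1 (flp_h L351266) (flp_f L351247) L651399
theorem L651408 : sm gg N46576 = N46376 := ded_50_1 (flp_h L649712) (flp_g L648997) L651399
theorem L651410 : sm gj N46576 = N46341 := ded_52_1 (flp_h L649407) L648995 L651399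
theorem L651412 : sm gd N46576 = N46576 := ded_38_1 (flp_h L651399) L351245 L241798 (flp_d L351245) L651399
theorem L651413 : sm gi N46576 = N46576 := ded_54_2 (flp_h L651399) (flp_i L351240) L241790 L351240 L651399
theorem L651414 : sm gg N41585 = N46577 := rfl
theorem L651416 : sm gb N46577 = N46577 := ded_23_1 (flp_g L651414) L351251 L651414
theorem L651417 : sm gc N46577 = N42080 := ded_30_1 (flp_g L355695) (flp_c L351252) L651414
theorem L651419 : sm gd N46577 = N46577 := ded_36_1 (flp_g L651414) L351254 L651414
theorem L651420 : sm gh N46577 = N46577 := ded_50_2 (flp_g L651414) L351255 L651414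
theorem L651421 : sm gf N46577 = N41660 := ded_45_1 (flp_g L351895) (flp_f L242232) (flp_g L241804) L351249 L651414
theorem L651423 : sm gi N41585 = N46578 := rfl
theorem L651425 : sm gb N46578 = N46578 := ded_26_1 (flp_i L651423) L351251 L651423
theorem L651426 : sm gc N46578 = N42081 := ded_33_1 (flp_i L355704) (flp_c L351252) L651423
theorem L651428 : sm gd N46578 = N46578 := ded_39_1 (flp_i L651423) L351254 L651423
theorem L651429 : sm gf N46578 = N41586 := ded_48_1 (flp_i L351256) L351249 L651423
theorem L651431 : sm gh N41586 = N46579 := rfl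
theorem L651433 : sm gb N46579 = N46579 := ded_25_1 (flp_h L651431) L351258 L651431
theorem L651434 : sm gc N46579 = N42082 := ded_32_1 (flp_h L355712) (flp_c L351259) L651431
theorem L651436 : sm ge N46579 = N41587 := ded_43_1 (flp_h L351266) (flp_e L351262) L651431
theorem L651438 : sm gg N46579 = N41662 := ded_50_1 (flp_h L351911) (flp_g L351264) L651431
theorem L651440 : sm gi N46579 = N46579 := ded_54_2 (flp_h L651431) (flp_i L351256) L241806 L351256 L651431
theorem L651441 : sm gi N41614 = N46580 := rfl
theorem L651443 : sm ga N46580 = N46580 := ded_18_1 (flp_i L651441) L351498 L651441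
theorem L651444 : sm gb N46580 = N42204 := ded_26_1 (flp_i L356826) (flp_b L351501) L651441
theorem L651446 : sm gc N46580 = N41616 := ded_33_1 (flp_i L351512) L351496 L651441
theorem L651448 : sm gd N46580 = N46580 := ded_39_1 (flp_i L651441) L351503 L651441
theorem L651449 : sm ge N46580 = N42750 := ded_44_1 (flp_i L361488) (flp_e L550473) L651441
theorem L651451 : sm gf N46580 = N45649 := ded_48_1 L385986 (flp_f L548431) L651441
theorem L651453 : sm gg N46580 = N46358 := ded_51_1 (flp_i L649558) L648552 L651441
theorem L651455 : sm gj N46580 = N46580 := ded_53_1 (flp_i L651441) L351499 L651441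
theorem L651456 : sm gi N41615 = N46581 := rfl
theorem L651458 : sm ga N46581 = N46581 := ded_18_1 (flp_i L651456) L351506 L651456
theorem L651459 : sm gb N46581 = N41630 := ded_26_1 (flp_i L351637) (flp_b L351507) L651456
theorem L651461 : sm gc N46581 = N42750 := ded_33_1 (flp_i L361488) (flp_c L526636) L651456
theorem L651463 : sm gd N46581 = N46581 := ded_39_1 (flp_i L651456) L351511 L651456
theorem L651464 : sm ge N46581 = N41616 := ded_44_1 (flp_i L351512) L351504 L651456
theorem L651466 : sm gf N46581 = N43123 := ded_48_1 L364649 (flp_f L548425) L651456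
theorem L651468 : sm gg N46581 = N46359 := ded_51_1 (flp_i L649568) (flp_g L649023) L651456
theorem L651470 : sm gj N46581 = N46581 := ded_53_1 (flp_i L651456) L351509 L651456
theorem L651471 : sm gh N41616 = N46582 := rfl
theorem L651473 : sm ga N46582 = N46582 := ded_17_1 (flp_h L651471) L351514 L651471
theorem L651474 : sm gb N46582 = N41631 := ded_25_1 (flp_h L351647) (flp_b L351515) L651471
theorem L651476 : sm gf N46582 = N44964 := ded_47_1 L380406 (flp_f L548354) L651471
theorem L651478 : sm gg N46582 = N46360 := ded_50_1 (flp_h L649576) L648550 L651471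
theorem L651480 : sm gj N46582 = N46582 := ded_52_1 (flp_h L651471) L351519 L651471
theorem L651481 : sm gd N46582 = N46582 := ded_38_1 (flp_h L651471) L351517 L241985 (flp_d L351517) L651471
theorem L651482 : sm gi N46582 = N46582 := ded_54_2 (flp_h L651471) (flp_i L351512) L241976 L351512 L651471
theorem L651483 : sm gh N41628 = N46583 := rfl
theorem L651485 : sm ga N46583 = N41659 := ded_17_1 (flp_h L351885) (flp_a L351619) L651483
theorem L651487 : sm gb N46583 = N44964 := ded_25_1 L380406 (flp_b L553765) L651483
theorem L651489 : sm gc N46583 = N42227 := ded_32_1 (flp_h L357024) (flp_c L351621) L651483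
theorem L651491 : sm ge N46583 = N44963 := ded_43_1 L380400 (flp_e L553767) L651483
theorem L651493 : sm gf N46583 = N41631 := ded_47_1 (flp_h L351647) (flp_f L351625) L651483
theorem L651495 : sm gg N46583 = N46409 := ded_50_1 (flp_h L649956) L648632 L651483
theorem L651497 : sm gj N46583 = N46583 := ded_52_1 (flp_h L651483) L351627 L651483
theorem L651498 : sm gd N46583 = N46583 := ded_38_1 (flp_h L651483) L351623 L242050 (flp_d L351623) L651483
theorem L651499 : sm gi N46583 = N46583 := ded_54_2 (flp_h L651483) (flp_i L351617) L242040 L351617 L651483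
theorem L651500 : sm gg N41629 = N46584 := rfl
theorem L651502 : sm ga N46584 = N41660 := ded_15_1 (flp_g L351895) (flp_a L351630) L651500
theorem L651504 : sm gb N46584 = N43723 := ded_23_1 L369746 (flp_b L553725) L651500
theorem L651506 : sm gc N46584 = N42228 := ded_30_1 (flp_g L357032) (flp_c L351632) L651500
theorem L651508 : sm gd N46584 = N46584 := ded_36_1 (flp_g L651500) L351634 L651500
theorem L651509 : sm ge N46584 = N43722 := ded_41_1 L369740 (flp_e L553728) L651500
theorem L651511 : sm gh N46584 = N46584 := ded_50_2 (flp_g L651500) L351636 L651500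
theorem L651512 : sm gi N41629 = N46585 := rfl
theorem L651514 : sm ga N46585 = N41661 := ded_18_1 (flp_i L351902) (flp_a L351630) L651512
theorem L651516 : sm gb N46585 = N43123 := ded_26_1 L364649 (flp_b L553725) L651512
theorem L651518 : sm gc N46585 = N42229 := ded_33_1 (flp_i L357039) (flp_c L351632) L651512
theorem L651520 : sm gd N46585 = N46585 := ded_39_1 (flp_i L651512) L351634 L651512
theorem L651521 : sm ge N46585 = N43122 := ded_44_1 L364643 (flp_e L553728) L651512
theorem L651523 : sm gf N46585 = N41630 := ded_48_1 (flp_i L351637) L351628 L651512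
theorem L651525 : sm gj N46585 = N46585 := ded_53_1 (flp_i L651512) L351635 L651512
theorem L651526 : sm gh N41630 = N46586 := rfl
theorem L651528 : sm ga N46586 = N41662 := ded_17_1 (flp_h L351911) (flp_a L351639) L651526
theorem L651530 : sm gc N46586 = N42230 := ded_32_1 (flp_h L357048) (flp_c L351641) L651526
theorem L651532 : sm ge N46586 = N41631 := ded_43_1 (flp_h L351647) (flp_e L351644) L651526
theorem L651534 : sm gj N46586 = N46586 := ded_52_1 (flp_h L651526) L351646 L651526
theorem L651535 : sm gi N46586 = N46586 := ded_54_2 (flp_h L651526) (flp_i L351637) L242058 L351637 L651526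
theorem L651536 : sm gh N41638 = N46587 := rfl
theorem L651538 : sm ga N46587 = N41673 := ded_17_1 (flp_h L352006) (flp_a L351714) L651536
theorem L651540 : sm gb N46587 = N46587 := ded_25_1 (flp_h L651536) L351716 L651536
theorem L651541 : sm gc N46587 = N46509 := ded_32_1 L650813 (flp_c L648560) L651536
theorem L651543 : sm ge N46587 = N42241 := ded_43_1 (flp_h L357144) (flp_e L351719) L651536
theorem L651545 : sm gf N46587 = N46587 := ded_47_1 (flp_h L651536) L351721 L651536
theorem L651546 : sm gg N46587 = N46472 := ded_50_1 (flp_h L650501) L649097 L651536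
theorem L651548 : sm gj N46587 = N46587 := ded_52_1 (flp_h L651536) L351722 L651536
theorem L651549 : sm gd N46587 = N46587 := ded_38_1 (flp_h L651536) L351717 L242115 (flp_d L351717) L651536
theorem L651550 : sm gi N46587 = N46587 := ded_54_2 (flp_h L651536) (flp_i L351712) L242105 L351712 L651536
theorem L651551 : sm gf N41655 = N46588 := rfl
theorem L651553 : sm ga N46588 = N45430 := ded_14_1 (flp_f L645698) (flp_a L648546) L651551
theorem L651555 : sm gb N46588 = N46588 := ded_22_1 (flp_f L651551) L351853 L651551
theorem L651556 : sm gc N46588 = N42268 := ded_29_1 (flp_f L357371) (flp_c L351854) L651551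
theorem L651558 : sm gd N46588 = N45763 := ded_35_1 (flp_f L629643) L648537 L651551
theorem L651560 : sm gj N46588 = N45362 := ded_46_2 L383737 (flp_j L649001) L651551
theorem L651562 : sm gh N46588 = N46588 := ded_47_2 (flp_f L651551) L351858 L651551
theorem L651563 : sm ge N46588 = N45359 := ded_40_1 L383706 L263720 (flp_f L627572) L351851 L651551
theorem L651565 : sm gi N41655 = N46589 := rfl
theorem L651567 : sm ga N46589 = N45913 := ded_18_1 L388124 (flp_a L648546) L651565
theorem L651569 : sm gb N46589 = N46589 := ded_26_1 (flp_i L651565) L351853 L651565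
theorem L651570 : sm gc N46589 = N42269 := ded_33_1 (flp_i L357376) (flp_c L351854) L651565
theorem L651572 : sm gd N46589 = N45912 := ded_39_1 L388116 L648537 L651565
theorem L651574 : sm ge N46589 = N41656 := ded_44_1 (flp_i L351859) L351851 L651565
theorem L651576 : sm gg N46589 = N41658 := ded_51_1 (flp_i L351877) (flp_g L351856) L651565
theorem L651578 : sm gj N46589 = N46374 := ded_53_1 (flp_i L649692) (flp_j L649001) L651565
theorem L651580 : sm gh N41656 = N46590 := rfl
theorem L651582 : sm ga N46590 = N46409 := ded_17_1 (flp_h L649956) (flp_a L649319) L651580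
theorem L651584 : sm gb N46590 = N46590 := ded_25_1 (flp_h L651580) L351861 L651580
theorem L651585 : sm gc N46590 = N42270 := ded_32_1 (flp_h L357384) (flp_c L351862) L651580
theorem L651587 : sm gf N46590 = N46376 := ded_47_1 (flp_h L649712) L648999 L651580
theorem L651589 : sm gg N46590 = N41659 := ded_50_1 (flp_h L351885) (flp_g L351866) L651580
theorem L651591 : sm gj N46590 = N46375 := ded_52_1 (flp_h L649702) (flp_j L649003) L651580
theorem L651593 : sm gd N46590 = N46590 := ded_38_1 (flp_h L651580) L351864 L242214 (flp_d L351864) L651580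
theorem L651594 : sm gi N46590 = N46590 := ded_54_2 (flp_h L651580) (flp_i L351859) L242206 L351859 L651580
theorem L651595 : sm gg N41657 = N46591 := rfl
theorem L651597 : sm ga N46591 = N43722 := ded_15_1 L369740 (flp_a L547963) L651595
theorem L651599 : sm gb N46591 = N46591 := ded_23_1 (flp_g L651595) L351870 L651595
theorem L651600 : sm gc N46591 = N42271 := ded_30_1 (flp_g L357391) (flp_c L351871) L651595
theorem L651602 : sm gd N46591 = N43721 := ded_36_1 L369734 (flp_d L547966) L651595
theorem L651604 : sm ge N46591 = N41660 := ded_41_1 (flp_g L351895) (flp_e L351875) L651595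
theorem L651606 : sm gh N46591 = N46591 := ded_50_2 (flp_g L651595) L351874 L651595
theorem L651607 : sm gi N41657 = N46592 := rfl
theorem L651609 : sm ga N46592 = N43122 := ded_18_1 L364643 (flp_a L547963) L651607
theorem L651611 : sm gb N46592 = N46592 := ded_26_1 (flp_i L651607) L351870 L651607
theorem L651612 : sm gc N46592 = N42272 := ded_33_1 (flp_i L357398) (flp_c L351871) L651607
theorem L651614 : sm gd N46592 = N43121 := ded_39_1 L364634 (flp_d L547966) L651607
theorem L651616 : sm ge N46592 = N41661 := ded_44_1 (flp_i L351902) (flp_e L351875) L651607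
theorem L651618 : sm gf N46592 = N41658 := ded_48_1 (flp_i L351877) L351868 L651607
theorem L651620 : sm gj N46592 = N46592 := ded_53_1 (flp_i L651607) L351873 L651607
theorem L651621 : sm gh N41658 = N46593 := rfl
theorem L651623 : sm ga N46593 = N44963 := ded_17_1 L380400 (flp_a L547957) L651621
theorem L651625 : sm gb N46593 = N46593 := ded_25_1 (flp_h L651621) L351879 L651621
theorem L651626 : sm gc N46593 = N42273 := ded_32_1 (flp_h L357407) (flp_c L351880) L651621
theorem L651628 : sm ge N46593 = N41659 := ded_43_1 (flp_h L351885) (flp_e L351882) L651621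
theorem L651630 : sm gj N46593 = N46593 := ded_52_1 (flp_h L651621) L351884 L651621
theorem L651631 : sm gd N46593 = N44962 := ded_38_1 (flp_h L380386) L261457 L266698 (flp_d L547960) L651621
theorem L651633 : sm gi N46593 = N46593 := ded_54_2 (flp_h L651621) (flp_i L351877) L242221 L351877 L651621
theorem L651634 : sm gj N41660 = N46594 := rfl
theorem L651636 : sm gb N46594 = N46594 := ded_24_1 (flp_j L651634) L351897 L651634
theorem L651637 : sm gc N46594 = N42274 := ded_31_1 (flp_j L357415) (flp_c L351898) L651634
theorem L651639 : sm gd N46594 = N46594 := ded_37_1 (flp_j L651634) L351900 L651634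
theorem L651640 : sm gh N46594 = N46594 := ded_52_2 (flp_j L651634) L351901 L651634
theorem L651641 : sm gg N46594 = N46594 := ded_49_1 (flp_j L651634) (flp_g L351895) L242238 L351895 L651634
theorem L651642 : sm gi N41660 = N46595 := rfl
theorem L651644 : sm gb N46595 = N46595 := ded_26_1 (flp_i L651642) L351897 L651642
theorem L651645 : sm gc N46595 = N42275 := ded_33_1 (flp_i L357423) (flp_c L351898) L651642
theorem L651647 : sm gd N46595 = N46595 := ded_39_1 (flp_i L651642) L351900 L651642
theorem L651648 : sm gg N46595 = N41661 := ded_51_1 (flp_i L351902) L351895 L651642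
theorem L651650 : sm gh N41661 = N46596 := rfl
theorem L651652 : sm gb N46596 = N46596 := ded_25_1 (flp_h L651650) L351904 L651650
theorem L651653 : sm gc N46596 = N42276 := ded_32_1 (flp_h L357431) (flp_c L351905) L651650
theorem L651655 : sm gf N46596 = N41662 := ded_47_1 (flp_h L351911) (flp_f L351908) L651650
theorem L651657 : sm gj N46596 = N46596 := ded_52_1 (flp_h L651650) L351910 L651650
theorem L651658 : sm gi N46596 = N46596 := ded_54_2 (flp_h L651650) (flp_i L351902) L242239 L351902 L651650
theorem L651659 : sm gd N41662 = N46597 := rfl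
theorem L651661 : sm gb N46597 = N46597 := ded_20_1 (flp_d L651659) L351913 L651659
theorem L651662 : sm gj N46597 = N46597 := ded_37_2 (flp_d L651659) L351918 L651659
theorem L651663 : sm gi N46597 = N46597 := ded_39_2 (flp_d L651659) L351919 L651659
theorem L651664 : sm ge N46597 = N46597 := ded_34_2 (flp_d L651659) L351916 L242255 (flp_e L351916) L651659
theorem L651665 : sm gh N46597 = N46597 := ded_38_2 (flp_d L651659) (flp_h L351911) L242245 L351911 L651659
theorem L651666 : sm gb N41669 = N46598 := rfl
theorem L651668 : sm gd N46598 = N46454 := ded_20_2 (flp_b L650318) L648548 L651666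
theorem L651670 : sm ge N46598 = N42286 := ded_21_2 (flp_b L357512) (flp_e L351974) L651666
theorem L651672 : sm gf N46598 = N46445 := ded_22_2 (flp_b L650237) L649095 L651666
theorem L651674 : sm gg N46598 = N41671 := ded_23_2 (flp_b L351989) (flp_g L351976) L651666
theorem L651676 : sm gj N46598 = N46442 := ded_24_2 (flp_b L650209) (flp_j L649183) L651666
theorem L651678 : sm gh N46598 = N46598 := ded_25_2 (flp_b L651666) L351978 L651666
theorem L651679 : sm ga N46598 = N46524 := ded_10_1 L650912 L273880 (flp_b L646413) (flp_a L648554) L651666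
theorem L651681 : sm gc N46598 = N41682 := ded_19_2 (flp_b L352084) (flp_c L242376) (flp_b L242283) L351972 L651666
theorem L651683 : sm gi N41669 = N46599 := rfl
theorem L651685 : sm ga N46599 = N46471 := ded_18_1 (flp_i L650487) (flp_a L648554) L651683
theorem L651687 : sm gc N46599 = N41670 := ded_33_1 (flp_i L351979) L351972 L651683
theorem L651689 : sm gd N46599 = N46455 := ded_39_1 (flp_i L650331) L648548 L651683
theorem L651691 : sm ge N46599 = N42287 := ded_44_1 (flp_i L357519) (flp_e L351974) L651683
theorem L651693 : sm gf N46599 = N46446 := ded_48_1 (flp_i L650245) L649095 L651683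
theorem L651695 : sm gg N46599 = N41672 := ded_51_1 (flp_i L351998) (flp_g L351976) L651683
theorem L651697 : sm gj N46599 = N46443 := ded_53_1 (flp_i L650217) (flp_j L649183) L651683
theorem L651699 : sm gh N41670 = N46600 := rfl
theorem L651701 : sm ga N46600 = N46472 := ded_17_1 (flp_h L650501) (flp_a L649093) L651699
theorem L651703 : sm gb N46600 = N41684 := ded_25_1 (flp_h L352102) (flp_b L351981) L651699
theorem L651705 : sm ge N46600 = N42288 := ded_43_1 (flp_h L357525) (flp_e L351985) L651699
theorem L651707 : sm gf N46600 = N46447 := ded_47_1 (flp_h L650256) L649091 L651699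
theorem L651709 : sm gg N46600 = N41673 := ded_50_1 (flp_h L352006) (flp_g L351987) L651699
theorem L651711 : sm gj N46600 = N46444 := ded_52_1 (flp_h L650228) (flp_j L649177) L651699
theorem L651713 : sm gd N46600 = N46600 := ded_38_1 (flp_h L651699) L351983 L242298 (flp_d L351983) L651699
theorem L651714 : sm gi N46600 = N46600 := ded_54_2 (flp_h L651699) (flp_i L351979) L242289 L351979 L651699
theorem L651715 : sm gi N41671 = N46601 := rfl
theorem L651717 : sm ga N46601 = N46469 := ded_18_1 L650477 (flp_a L648558) L651715
theorem L651719 : sm gb N46601 = N41672 := ded_26_1 (flp_i L351998) L351989 L651715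
theorem L651721 : sm gc N46601 = N41686 := ded_33_1 (flp_i L352120) (flp_c L351996) L651715
theorem L651723 : sm gd N46601 = N46468 := ded_39_1 L650469 L648442 L651715
theorem L651725 : sm ge N46601 = N42290 := ded_44_1 (flp_i L357540) (flp_e L351991) L651715
theorem L651727 : sm gf N46601 = N46601 := ded_48_1 (flp_i L651715) L351993 L651715
theorem L651728 : sm gj N46601 = N46601 := ded_53_1 (flp_i L651715) L351994 L651715
theorem L651729 : sm gh N41672 = N46602 := rfl
theorem L651731 : sm ga N46602 = N46509 := ded_17_1 L650813 (flp_a L648556) L651729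
theorem L651733 : sm gc N46602 = N41673 := ded_32_1 (flp_h L352006) (flp_c L352000) L651729
theorem L651735 : sm ge N46602 = N42291 := ded_43_1 (flp_h L357549) (flp_e L352002) L651729
theorem L651737 : sm gf N46602 = N46602 := ded_47_1 (flp_h L651729) L352004 L651729
theorem L651738 : sm gj N46602 = N46602 := ded_52_1 (flp_h L651729) L352005 L651729
theorem L651739 : sm gd N46602 = N46505 := ded_38_1 (flp_h L650773) L272999 L273391 (flp_d L648507) L651729
theorem L651741 : sm gi N46602 = N46602 := ded_54_2 (flp_h L651729) (flp_i L351998) L242305 L351998 L651729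
theorem L651742 : sm gb N41677 = N46603 := rfl
theorem L651744 : sm gd N46603 = N46603 := ded_20_2 (flp_b L651742) L352048 L651742
theorem L651745 : sm ge N46603 = N44776 := ded_21_2 (flp_b L378823) (flp_e L640756) L651742
theorem L651747 : sm gf N46603 = N41682 := ded_22_2 (flp_b L352084) (flp_f L352044) L651742
theorem L651749 : sm gg N46603 = N46603 := ded_23_2 (flp_b L651742) L352046 L651742
theorem L651750 : sm gj N46603 = N44657 := ded_24_2 (flp_b L377812) (flp_j L640759) L651742
theorem L651752 : sm gh N46603 = N46603 := ded_25_2 (flp_b L651742) L352047 L651742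
theorem L651753 : sm gc N46603 = N46445 := ded_19_2 (flp_b L650237) (flp_c L272326) (flp_b L640731) L352041 L651742
theorem L651755 : sm gi N41677 = N46604 := rfl
theorem L651757 : sm ga N46604 = N46604 := ded_18_1 (flp_i L651755) L352043 L651755
theorem L651758 : sm gc N46604 = N41679 := ded_33_1 (flp_i L352056) L352041 L651755
theorem L651760 : sm gd N46604 = N46604 := ded_39_1 (flp_i L651755) L352048 L651755
theorem L651761 : sm ge N46604 = N44777 := ded_44_1 (flp_i L378831) (flp_e L640756) L651755
theorem L651763 : sm gf N46604 = N41683 := ded_48_1 (flp_i L352092) (flp_f L352044) L651755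
theorem L651765 : sm gg N46604 = N46604 := ded_51_1 (flp_i L651755) L352046 L651755
theorem L651766 : sm gj N46604 = N44658 := ded_53_1 (flp_i L377820) (flp_j L640759) L651755
theorem L651768 : sm gh N41679 = N46605 := rfl
theorem L651770 : sm ga N46605 = N46605 := ded_17_1 (flp_h L651768) L352058 L651768
theorem L651771 : sm gb N46605 = N46447 := ded_25_1 (flp_h L650256) (flp_b L648364) L651768
theorem L651773 : sm ge N46605 = N44778 := ded_43_1 (flp_h L378841) (flp_e L640749) L651768
theorem L651775 : sm gf N46605 = N41684 := ded_47_1 (flp_h L352102) (flp_f L352061) L651768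
theorem L651777 : sm gg N46605 = N46605 := ded_50_1 (flp_h L651768) L352063 L651768
theorem L651778 : sm gj N46605 = N44659 := ded_52_1 (flp_h L377830) (flp_j L640752) L651768
theorem L651780 : sm gd N46605 = N46605 := ded_38_1 (flp_h L651768) L352059 L242356 (flp_d L352059) L651768
theorem L651781 : sm gi N46605 = N46605 := ded_54_2 (flp_h L651768) (flp_i L352056) L242348 L352056 L651768
theorem L651782 : sm gb N41680 = N46606 := rfl
theorem L651784 : sm gd N46606 = N46606 := ded_20_2 (flp_b L651782) L352073 L651782
theorem L651785 : sm ge N46606 = N42302 := ded_21_2 (flp_b L357644) (flp_e L352067) L651782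
theorem L651787 : sm gf N46606 = N44657 := ded_22_2 (flp_b L377812) (flp_f L640936) L651782
theorem L651789 : sm gg N46606 = N46606 := ded_23_2 (flp_b L651782) L352069 L651782
theorem L651790 : sm gj N46606 = N41682 := ded_24_2 (flp_b L352084) (flp_j L352070) L651782
theorem L651792 : sm gh N46606 = N46606 := ded_25_2 (flp_b L651782) L352072 L651782
theorem L651793 : sm gc N46606 = N46442 := ded_19_2 (flp_b L650209) (flp_c L272301) L640940 L352064 L651782
theorem L651795 : sm gi N41680 = N46607 := rfl
theorem L651797 : sm ga N46607 = N46607 := ded_18_1 (flp_i L651795) L352066 L651795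
theorem L651798 : sm gc N46607 = N41681 := ded_33_1 (flp_i L352074) L352064 L651795
theorem L651800 : sm gd N46607 = N46607 := ded_39_1 (flp_i L651795) L352073 L651795
theorem L651801 : sm ge N46607 = N42303 := ded_44_1 (flp_i L357652) (flp_e L352067) L651795
theorem L651803 : sm gf N46607 = N44658 := ded_48_1 (flp_i L377820) (flp_f L640936) L651795
theorem L651805 : sm gg N46607 = N46607 := ded_51_1 (flp_i L651795) L352069 L651795
theorem L651806 : sm gj N46607 = N41683 := ded_53_1 (flp_i L352092) (flp_j L352070) L651795
theorem L651808 : sm gh N41681 = N46608 := rfl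
theorem L651810 : sm ga N46608 = N46608 := ded_17_1 (flp_h L651808) L352076 L651808
theorem L651811 : sm gb N46608 = N46444 := ded_25_1 (flp_h L650228) L648582 L651808
theorem L651813 : sm ge N46608 = N42304 := ded_43_1 (flp_h L357662) (flp_e L352079) L651808
theorem L651815 : sm gf N46608 = N44659 := ded_47_1 (flp_h L377830) (flp_f L635266) L651808
theorem L651817 : sm gg N46608 = N46608 := ded_50_1 (flp_h L651808) L352081 L651808
theorem L651818 : sm gj N46608 = N41684 := ded_52_1 (flp_h L352102) (flp_j L352082) L651808
theorem L651820 : sm gd N46608 = N46608 := ded_38_1 (flp_h L651808) L352077 L242375 (flp_d L352077) L651808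
theorem L651821 : sm gi N46608 = N46608 := ded_54_2 (flp_h L651808) (flp_i L352074) L242365 L352074 L651808
theorem L651822 : sm ga N41682 = N46609 := rfl
theorem L651824 : sm gc N46609 = N46524 := ded_11_2 (flp_a L651679) L651681 L651822
theorem L651826 : sm gd N46609 = N46609 := ded_12_2 (flp_a L651822) L352086 L651822
theorem L651827 : sm ge N46609 = N42305 := ded_13_2 (flp_a L357669) (flp_e L352087) L651822
theorem L651829 : sm gg N46609 = N41685 := ded_15_2 (flp_a L352111) (flp_g L352089) L651822
theorem L651831 : sm gh N46609 = N46609 := ded_17_2 (flp_a L651822) L352091 L651822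
theorem L651832 : sm gb N46609 = N46609 := ded_10_2 (flp_a L651822) (flp_b L352084) L242378 L352084 L651822
theorem L651833 : sm gi N41682 = N46610 := rfl
theorem L651835 : sm gb N46610 = N41683 := ded_26_1 (flp_i L352092) L352084 L651833
theorem L651837 : sm gd N46610 = N46610 := ded_39_1 (flp_i L651833) L352086 L651833
theorem L651838 : sm ge N46610 = N42306 := ded_44_1 (flp_i L357677) (flp_e L352087) L651833
theorem L651840 : sm gg N46610 = N41686 := ded_51_1 (flp_i L352120) (flp_g L352089) L651833
theorem L651842 : sm gh N41683 = N46611 := rfl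
theorem L651844 : sm ga N46611 = N46611 := ded_17_1 (flp_h L651842) L352094 L651842
theorem L651845 : sm gc N46611 = N41684 := ded_32_1 (flp_h L352102) (flp_c L352095) L651842
theorem L651847 : sm ge N46611 = N42307 := ded_43_1 (flp_h L357685) (flp_e L352098) L651842
theorem L651849 : sm gg N46611 = N41687 := ded_50_1 (flp_h L352129) (flp_g L352100) L651842
theorem L651851 : sm gi N46611 = N46611 := ded_54_2 (flp_h L651842) (flp_i L352092) L242383 L352092 L651842
theorem L651852 : sm gi N41685 = N46612 := rfl
theorem L651854 : sm ga N46612 = N41686 := ded_18_1 (flp_i L352120) L352111 L651852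
theorem L651856 : sm gb N46612 = N46612 := ded_26_1 (flp_i L651852) L352119 L651852
theorem L651857 : sm gc N46612 = N46469 := ded_33_1 L650477 L648495 L651852
theorem L651859 : sm gd N46612 = N46612 := ded_39_1 (flp_i L651852) L352113 L651852
theorem L651860 : sm ge N46612 = N42308 := ded_44_1 (flp_i L357693) (flp_e L352114) L651852
theorem L651862 : sm gf N46612 = N46612 := ded_48_1 (flp_i L651852) L352116 L651852
theorem L651863 : sm gj N46612 = N46612 := ded_53_1 (flp_i L651852) L352117 L651852
theorem L651864 : sm gh N41686 = N46613 := rfl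
theorem L651866 : sm gb N46613 = N41687 := ded_25_1 (flp_h L352129) (flp_b L352122) L651864
theorem L651868 : sm ge N46613 = N42309 := ded_43_1 (flp_h L357703) (flp_e L352125) L651864
theorem L651870 : sm gf N46613 = N46613 := ded_47_1 (flp_h L651864) L352127 L651864
theorem L651871 : sm gj N46613 = N46613 := ded_52_1 (flp_h L651864) L352128 L651864
theorem L651872 : sm gi N46613 = N46613 := ded_54_2 (flp_h L651864) (flp_i L352120) L242401 L352120 L651864
theorem L651873 : sm gd N41687 = N46614 := rfl
theorem L651875 : sm ga N46614 = N46614 := ded_12_1 (flp_d L651873) L352131 L651873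
theorem L651876 : sm gf N46614 = N46614 := ded_35_2 (flp_d L651873) L352136 L651873
theorem L651877 : sm gj N46614 = N46614 := ded_37_2 (flp_d L651873) L352137 L651873
theorem L651878 : sm gi N46614 = N46614 := ded_39_2 (flp_d L651873) L352138 L651873
theorem L651879 : sm gc N46614 = N46614 := ded_27_1 (flp_d L651873) L352132 L242419 (flp_c L352132) L651873
theorem L651880 : sm gh N46614 = N46614 := ded_38_2 (flp_d L651873) (flp_h L352129) L242407 L352129 L651873
theorem L651881 : sm gg N41802 = N46615 := rfl
theorem L651883 : sm ga N46615 = N44134 := ded_15_1 L373287 L645125 L651881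
theorem L651885 : sm gb N46615 = N46615 := ded_23_1 (flp_g L651881) L353196 L651881
theorem L651886 : sm gc N46615 = N41993 := ded_30_1 (flp_g L354932) (flp_c L353201) L651881
theorem L651888 : sm gd N46615 = N41803 := ded_36_1 (flp_g L353204) L353194 L651881
theorem L651890 : sm ge N46615 = N46615 := ded_41_1 (flp_g L651881) L353203 L651881
theorem L651891 : sm gi N46615 = N41847 := ded_51_2 (flp_g L353585) (flp_i L353199) L651881
theorem L651893 : sm gf N46615 = N44502 := ded_45_1 (flp_g L376534) L258854 (flp_g L621464) (flp_f L353197) L651881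
theorem L651895 : sm gj N46615 = N46386 := ded_49_2 (flp_g L649792) L649199 L354365 (flp_j L621473) L651881
theorem L651897 : sm gh N46403 = N46615 := ded_38_0 L651888 L648704 L641451 (flp_h L271516) (flp_d L649912)
theorem L651899 : sm gh N41802 = N46616 := rfl
theorem L651901 : sm ga N46616 = N44137 := ded_17_1 (flp_h L373301) L645125 L651899
theorem L651903 : sm gb N46616 = N46616 := ded_25_1 (flp_h L651899) L353196 L651899
theorem L651904 : sm gc N46616 = N41994 := ded_32_1 (flp_h L354941) (flp_c L353201) L651899
theorem L651906 : sm ge N46616 = N46616 := ded_43_1 (flp_h L651899) L353203 L651899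
theorem L651907 : sm gf N46616 = N44038 := ded_47_1 (flp_h L372534) (flp_f L353197) L651899
theorem L651909 : sm gg N46616 = N46403 := ded_50_1 L651897 (flp_g L651881) L651899
theorem L651911 : sm gj N46616 = N44269 := ded_52_1 (flp_h L374536) (flp_j L621473) L651899
theorem L651913 : sm gd N46616 = N46349 := ded_38_1 L649484 L271284 L630942 L353194 L651899
theorem L651915 : sm gi N46616 = N44512 := ded_54_2 (flp_h L376613) (flp_i L258896) L645198 (flp_i L353199) L651899
theorem L651917 : sm gf N41803 = N46617 := rfl
theorem L651919 : sm ga N46617 = N44127 := ded_14_1 L635060 (flp_a L645105) L651917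
theorem L651921 : sm gb N46617 = N46617 := ded_22_1 (flp_f L651917) L353206 L651917
theorem L651922 : sm gc N46617 = N41811 := ded_29_1 (flp_f L353270) (flp_c L353207) L651917
theorem L651924 : sm gd N46617 = N44502 := ded_35_1 (flp_f L651893) L651888 L651917
theorem L651926 : sm gj N46617 = N46565 := ded_46_2 L651266 L649193 L651917
theorem L651928 : sm gh N46617 = N46566 := ded_47_2 L651274 (flp_h L648704) L651917
theorem L651930 : sm gi N46617 = N41849 := ded_48_2 (flp_f L353601) (flp_i L353211) L651917
theorem L651932 : sm ge N46617 = N46617 := ded_40_1 (flp_f L651917) L353209 L243143 (flp_e L353209) L651917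
theorem L651933 : sm gg N46617 = N44039 := ded_45_2 (flp_f L372541) (flp_g L256162) (flp_f L243133) L353204 L651917
theorem L651935 : sm gj N41811 = N46618 := rfl
theorem L651937 : sm ga N46618 = N46566 := ded_16_1 L651276 (flp_a L648706) L651935
theorem L651939 : sm gb N46618 = N41818 := ded_24_1 (flp_j L353336) (flp_b L353272) L651935
theorem L651941 : sm gc N46618 = N46565 := ded_31_1 (flp_j L651926) L651922 L651935
theorem L651943 : sm gd N46618 = N42008 := ded_37_1 (flp_j L355074) (flp_d L353274) L651935
theorem L651945 : sm ge N46618 = N46618 := ded_42_1 (flp_j L651935) L353278 L651935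
theorem L651946 : sm gf N46618 = N41812 := ded_46_1 (flp_j L353281) L353270 L651935
theorem L651948 : sm gi N46618 = N41862 := ded_53_2 (flp_j L353692) (flp_i L353276) L651935
theorem L651950 : sm gg N46618 = N44128 := ded_49_1 L373239 (flp_g L353708) L644442 (flp_g L353279) L651935
theorem L651952 : sm gh N44127 = N46618 := ded_17_0 L651937 (flp_h L651928) L651919
theorem L651954 : sm gh N41811 = N46619 := rfl
theorem L651956 : sm ga N46619 = N46565 := ded_17_1 L651264 (flp_a L648706) L651954
theorem L651958 : sm gb N46619 = N41819 := ded_25_1 (flp_h L353347) (flp_b L353272) L651954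
theorem L651960 : sm gc N46619 = N46566 := ded_32_1 (flp_h L651928) L651922 L651954
theorem L651962 : sm ge N46619 = N46619 := ded_43_1 (flp_h L651954) L353278 L651954
theorem L651963 : sm gf N46619 = N41813 := ded_47_1 (flp_h L353291) L353270 L651954
theorem L651965 : sm gg N46619 = N41862 := ded_50_1 L644275 (flp_g L353279) L651954
theorem L651967 : sm gj N46619 = N44127 := ded_52_1 L651952 (flp_j L651935) L651954
theorem L651969 : sm gi N46619 = N44128 := ded_54_2 (flp_h L373232) (flp_i L644444) (flp_h L353701) (flp_i L353276) L651954
theorem L651971 : sm gd N42083 = N46619 := ded_20_0 L651958 L631818 (flp_b L355723)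
theorem L651973 : sm gd N41813 = N46620 := rfl
theorem L651975 : sm ga N46620 = N46386 := ded_12_1 L649795 (flp_a L648708) L651973
theorem L651977 : sm gb N46620 = N41821 := ded_20_1 (flp_d L353364) (flp_b L353293) L651973
theorem L651979 : sm gf N46620 = N42083 := ded_35_2 L651971 L651963 L651973
theorem L651981 : sm gg N46620 = N41814 := ded_36_2 (flp_d L353299) (flp_g L353297) L651973
theorem L651983 : sm gj N46620 = N44134 := ded_37_2 L373284 (flp_j L644551) L651973
theorem L651985 : sm gi N46620 = N44131 := ded_39_2 (flp_d L373256) (flp_i L644553) L651973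
theorem L651987 : sm gc N46620 = N46537 := ded_27_1 L651045 L291642 (flp_d L641451) L648440 L651973
theorem L651989 : sm ge N46620 = N46620 := ded_34_2 (flp_d L651973) L353295 L243201 (flp_e L353295) L651973
theorem L651990 : sm gh N46620 = N42011 := ded_38_2 (flp_d L355102) (flp_h L244373) (flp_d L243171) L353291 L651973
theorem L651992 : sm gc N41814 = N46621 := rfl
theorem L651994 : sm ga N46621 = N46384 := ded_11_1 L649777 (flp_a L648658) L651992
theorem L651996 : sm ge N46621 = N46621 := ded_28_2 (flp_c L651992) L353305 L651992
theorem L651997 : sm gf N46621 = N41941 := ded_29_2 L354452 (flp_f L644107) L651992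
theorem L651999 : sm gg N46621 = N46537 := ded_30_2 (flp_c L651987) L651981 L651992
theorem L652001 : sm gj N46621 = N41940 := ded_31_2 L354443 (flp_j L644109) L651992
theorem L652003 : sm gh N46621 = N42013 := ded_32_2 (flp_c L355119) (flp_h L353306) L651992
theorem L652005 : sm gi N46621 = N46383 := ded_33_2 L649772 L649267 L651992
theorem L652007 : sm gb N46621 = N42440 := ded_19_1 L358935 L247062 L632069 (flp_b L353301) L651992
theorem L652009 : sm gd N46621 = N46385 := ded_27_2 L649784 L271284 (flp_c L645100) L353299 L651992
theorem L652011 : sm gj N41847 = N46622 := rfl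
theorem L652013 : sm ga N46622 = N44131 := ded_16_1 L373260 (flp_a L645141) L652011
theorem L652015 : sm gb N46622 = N46622 := ded_24_1 (flp_j L652011) L353587 L652011
theorem L652016 : sm gc N46622 = N42061 := ded_31_1 (flp_j L355542) (flp_c L353588) L652011
theorem L652018 : sm gd N46622 = N41850 := ded_37_1 (flp_j L353609) (flp_d L353590) L652011
theorem L652020 : sm ge N46622 = N46622 := ded_42_1 (flp_j L652011) L353592 L652011
theorem L652021 : sm gf N46622 = N46567 := ded_46_1 (flp_j L651278) (flp_f L648963) L652011
theorem L652023 : sm gh N46622 = N44506 := ded_52_2 L376573 (flp_h L645145) L652011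
theorem L652025 : sm gi N46622 = N46386 := ded_53_2 (flp_j L651895) L651891 L652011
theorem L652027 : sm gg N46622 = N44042 := ded_49_1 L649029 (flp_g L296907) L611526 L353585 L652011
theorem L652029 : sm gj N41849 = N46623 := rfl
theorem L652031 : sm ga N46623 = N44128 := ded_16_1 L373239 (flp_a L634597) L652029
theorem L652033 : sm gb N46623 = N46623 := ded_24_1 (flp_j L652029) L353603 L652029
theorem L652034 : sm gc N46623 = N41862 := ded_31_1 (flp_j L353692) (flp_c L353604) L652029
theorem L652036 : sm gd N46623 = N46567 := ded_37_1 (flp_j L651278) L648921 L652029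
theorem L652038 : sm ge N46623 = N46623 := ded_42_1 (flp_j L652029) L353606 L652029
theorem L652039 : sm gf N46623 = N41850 := ded_46_1 (flp_j L353609) L353601 L652029
theorem L652041 : sm gh N46623 = N44039 := ded_52_2 L621345 (flp_h L634601) L652029
theorem L652043 : sm gi N46623 = N46565 := ded_53_2 (flp_j L651926) L651930 L652029
theorem L652045 : sm gg N46623 = N46566 := ded_49_1 L651276 (flp_g L298398) L621397 (flp_g L353607) L652029
theorem L652047 : sm gg N41893 = N46624 := rfl
theorem L652049 : sm ga N46624 = N41940 := ded_15_1 L354446 (flp_a L621596) L652047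
theorem L652051 : sm gb N46624 = N42368 := ded_23_1 (flp_g L358289) (flp_b L353976) L652047
theorem L652053 : sm gc N46624 = N41931 := ded_30_1 L354365 (flp_c L621598) L652047
theorem L652055 : sm gd N46624 = N41894 := ded_36_1 (flp_g L353985) L353974 L652047
theorem L652057 : sm ge N46624 = N46624 := ded_41_1 (flp_g L652047) L353984 L652047
theorem L652058 : sm gi N46624 = N41938 := ded_51_2 (flp_g L354423) (flp_i L353982) L652047
theorem L652060 : sm gf N46624 = N41923 := ded_45_1 (flp_g L354282) L243851 (flp_g L621593) (flp_f L353978) L652047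
theorem L652062 : sm gj N46384 = N46624 := ded_16_0 L652049 (flp_j L652001) L651994
theorem L652064 : sm gh N46345 = N46624 := ded_32_0 L652053 L649203 (flp_c L649445)
theorem L652066 : sm gh N41893 = N46625 := rfl
theorem L652068 : sm ga N46625 = N44282 := ded_17_1 (flp_h L374649) (flp_a L621596) L652066
theorem L652070 : sm gb N46625 = N42369 := ded_25_1 (flp_h L358297) (flp_b L353976) L652066
theorem L652072 : sm gc N46625 = N44269 := ded_32_1 (flp_h L374536) (flp_c L621598) L652066
theorem L652074 : sm ge N46625 = N46625 := ded_43_1 (flp_h L652066) L353984 L652066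
theorem L652075 : sm gf N46625 = N44210 := ded_47_1 (flp_h L373992) (flp_f L353978) L652066
theorem L652077 : sm gg N46625 = N46345 := ded_50_1 L652064 (flp_g L652047) L652066
theorem L652079 : sm gj N46625 = N41994 := ded_52_1 (flp_h L354941) (flp_j L353980) L652066
theorem L652081 : sm gf N41894 = N46626 := rfl
theorem L652083 : sm ga N46626 = N41938 := ded_14_1 (flp_f L648965) L648662 L652081
theorem L652085 : sm gb N46626 = N42370 := ded_22_1 (flp_f L358305) (flp_b L353987) L652081
theorem L652087 : sm gc N46626 = N41902 := ded_29_1 (flp_f L354071) (flp_c L353989) L652081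
theorem L652089 : sm gd N46626 = N41923 := ded_35_1 (flp_f L652060) L652055 L652081
theorem L652091 : sm gi N46626 = N41940 := ded_48_2 (flp_f L354439) (flp_i L353993) L652081
theorem L652093 : sm ge N46626 = N46626 := ded_40_1 (flp_f L652081) L353991 L243667 (flp_e L353991) L652081
theorem L652094 : sm gg N46626 = N41922 := ded_45_2 L620519 (flp_g L257141) (flp_f L243656) L353985 L652081
theorem L652096 : sm gj N46383 = N46626 := ded_31_0 L652087 (flp_j L648955) (flp_c L649772)
theorem L652098 : sm gh N44305 = N46626 := ded_32_0 L652087 L640369 L374858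
theorem L652100 : sm gj N41894 = N46627 := rfl
theorem L652102 : sm ga N46627 = N46385 := ded_16_1 L649790 L648662 L652100
theorem L652104 : sm gb N46627 = N42371 := ded_24_1 (flp_j L358314) (flp_b L353987) L652100
theorem L652106 : sm gc N46627 = N41903 := ded_31_1 (flp_j L354080) (flp_c L353989) L652100
theorem L652108 : sm gd N46627 = N46384 := ded_37_1 L652062 L652055 L652100
theorem L652110 : sm ge N46627 = N41896 := ded_42_1 (flp_j L354007) (flp_e L353991) L652100
theorem L652112 : sm gf N46627 = N46383 := ded_46_1 L652096 (flp_f L652081) L652100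
theorem L652114 : sm gi N46627 = N41941 := ded_53_2 (flp_j L354448) (flp_i L353993) L652100
theorem L652116 : sm gg N46627 = N41996 := ded_49_1 (flp_j L354960) (flp_g L244277) (flp_j L243652) L353985 L652100
theorem L652118 : sm gh N41894 = N46628 := rfl
theorem L652120 : sm ga N46628 = N45128 := ded_17_1 L381840 L648662 L652118
theorem L652122 : sm gb N46628 = N42372 := ded_25_1 (flp_h L358324) (flp_b L353987) L652118
theorem L652124 : sm gc N46628 = N41904 := ded_32_1 (flp_h L354090) (flp_c L353989) L652118
theorem L652126 : sm ge N46628 = N41897 := ded_43_1 (flp_h L354019) (flp_e L353991) L652118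
theorem L652128 : sm gf N46628 = N44305 := ded_47_1 L652098 (flp_f L652081) L652118
theorem L652130 : sm gg N46628 = N41895 := ded_50_1 (flp_h L353995) L353985 L652118
theorem L652132 : sm gd N41895 = N46629 := rfl
theorem L652134 : sm ga N46629 = N45120 := ded_12_1 L381773 (flp_a L554723) L652132
theorem L652136 : sm gb N46629 = N42373 := ded_20_1 (flp_d L358332) (flp_b L353997) L652132
theorem L652138 : sm gf N46629 = N44214 := ded_35_2 (flp_d L374031) (flp_f L354003) L652132
theorem L652140 : sm gj N46629 = N41998 := ded_37_2 (flp_d L354980) (flp_j L354005) L652132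
theorem L652142 : sm gi N41895 = N46630 := rfl
theorem L652144 : sm ga N46630 = N45129 := ded_18_1 (flp_i L381842) (flp_a L554723) L652142
theorem L652146 : sm gb N46630 = N42374 := ded_26_1 (flp_i L358338) (flp_b L353997) L652142
theorem L652148 : sm gc N46630 = N41906 := ded_33_1 (flp_i L354107) (flp_c L353999) L652142
theorem L652150 : sm ge N46630 = N41899 := ded_44_1 (flp_i L354038) (flp_e L354001) L652142
theorem L652152 : sm gf N46630 = N44215 := ded_48_1 (flp_i L374037) (flp_f L354003) L652142
theorem L652154 : sm gj N46630 = N41999 := ded_53_1 (flp_i L354986) (flp_j L354005) L652142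
theorem L652156 : sm gh N46630 = N41944 := ded_54_1 (flp_i L354476) (flp_h L243952) (flp_i L243654) L353995 L652142
theorem L652158 : sm gh N41896 = N46631 := rfl
theorem L652160 : sm ga N46631 = N45131 := ded_17_1 (flp_h L642550) L648676 L652158
theorem L652162 : sm gb N46631 = N42375 := ded_25_1 (flp_h L358350) (flp_b L354009) L652158
theorem L652164 : sm gc N46631 = N41907 := ded_32_1 (flp_h L354119) (flp_c L354011) L652158
theorem L652166 : sm gf N46631 = N46631 := ded_47_1 (flp_h L652158) L354014 L652158
theorem L652167 : sm gg N46631 = N42000 := ded_50_1 (flp_h L354998) (flp_g L354017) L652158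
theorem L652169 : sm gj N46631 = N41897 := ded_52_1 (flp_h L354019) L354007 L652158
theorem L652171 : sm gi N46631 = N46373 := ded_54_2 (flp_h L649685) (flp_i L270926) L642452 (flp_i L354015) L652158
theorem L652173 : sm gd N41897 = N46632 := rfl
theorem L652175 : sm ga N46632 = N42455 := ded_12_1 L359051 (flp_a L554829) L652173
theorem L652177 : sm gb N46632 = N42376 := ded_20_1 (flp_d L358359) (flp_b L354021) L652173
theorem L652179 : sm gf N46632 = N46632 := ded_35_2 (flp_d L652173) L354025 L652173
theorem L652180 : sm gg N46632 = N41898 := ded_36_2 (flp_d L354028) (flp_g L354026) L652173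
theorem L652182 : sm gc N46632 = N46632 := ded_27_1 (flp_d L652173) L354023 L243736 (flp_c L354023) L652173
theorem L652183 : sm gh N46632 = N46632 := ded_38_2 (flp_d L652173) (flp_h L354019) L243664 L354019 L652173
theorem L652184 : sm gi N41897 = N46633 := rfl
theorem L652186 : sm ga N46633 = N45132 := ded_18_1 (flp_i L381871) (flp_a L554829) L652184
theorem L652188 : sm gb N46633 = N42377 := ded_26_1 (flp_i L358365) (flp_b L354021) L652184
theorem L652190 : sm gc N46633 = N41908 := ded_33_1 (flp_i L354129) (flp_c L354023) L652184
theorem L652192 : sm gf N46633 = N46633 := ded_48_1 (flp_i L652184) L354025 L652184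
theorem L652193 : sm gg N46633 = N41899 := ded_51_1 (flp_i L354038) (flp_g L354026) L652184
theorem L652195 : sm gj N46633 = N46373 := ded_53_1 (flp_i L652171) L652169 L652184
theorem L652197 : sm gh N46633 = N41947 := ded_54_1 (flp_i L354507) (flp_h L243974) (flp_i L243665) L354019 L652184
theorem L652199 : sm ge N41898 = N46634 := rfl
theorem L652201 : sm ga N46634 = N42452 := ded_13_1 L359031 (flp_a L550515) L652199
theorem L652203 : sm gb N46634 = N42378 := ded_21_1 (flp_e L358374) (flp_b L354030) L652199
theorem L652205 : sm gc N46634 = N46634 := ded_28_1 (flp_e L652199) L354036 L652199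
theorem L652206 : sm gj N46634 = N42003 := ded_42_2 (flp_e L355030) (flp_j L354034) L652199
theorem L652208 : sm gh N46634 = N46634 := ded_43_2 (flp_e L652199) L354037 L652199
theorem L652209 : sm gf N46634 = N42422 := ded_40_2 (flp_e L358765) L246837 (flp_e L575408) (flp_f L354032) L652199
theorem L652211 : sm gi N41898 = N46635 := rfl
theorem L652213 : sm ga N46635 = N42456 := ded_18_1 (flp_i L359055) (flp_a L550515) L652211
theorem L652215 : sm gb N46635 = N42379 := ded_26_1 (flp_i L358379) (flp_b L354030) L652211
theorem L652217 : sm gc N46635 = N46635 := ded_33_1 (flp_i L652211) L354036 L652211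
theorem L652218 : sm gd N46635 = N41899 := ded_39_1 (flp_i L354038) L354028 L652211
theorem L652220 : sm gf N46635 = N41901 := ded_48_1 (flp_i L354061) (flp_f L354032) L652211
theorem L652222 : sm gj N46635 = N42004 := ded_53_1 (flp_i L355036) (flp_j L354034) L652211
theorem L652224 : sm gh N41901 = N46636 := rfl
theorem L652226 : sm ga N46636 = N42457 := ded_17_1 (flp_h L359064) (flp_a L575438) L652224
theorem L652228 : sm gb N46636 = N42382 := ded_25_1 (flp_h L358403) (flp_b L354063) L652224
theorem L652230 : sm gc N46636 = N46636 := ded_32_1 (flp_h L652224) L354065 L652224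
theorem L652231 : sm ge N46636 = N42426 := ded_43_1 (flp_h L358806) (flp_e L575441) L652224
theorem L652233 : sm gg N46636 = N46636 := ded_50_1 (flp_h L652224) L354068 L652224
theorem L652234 : sm gj N46636 = N42007 := ded_52_1 (flp_h L355064) (flp_j L354069) L652224
theorem L652236 : sm gd N46636 = N41952 := ded_38_1 (flp_h L354553) L244016 (flp_h L243698) (flp_d L354066) L652224
theorem L652238 : sm gi N46636 = N46636 := ded_54_2 (flp_h L652224) (flp_i L354061) L243686 L354061 L652224
theorem L652239 : sm gh N41903 = N46637 := rfl
theorem L652241 : sm ga N46637 = N46349 := ded_17_1 L649484 L648312 L652239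
theorem L652243 : sm gb N46637 = N41911 := ded_25_1 (flp_h L354159) (flp_b L354082) L652239
theorem L652245 : sm ge N46637 = N41907 := ded_43_1 (flp_h L354119) (flp_e L354084) L652239
theorem L652247 : sm gf N46637 = N44303 := ded_47_1 (flp_h L648953) L648777 L652239
theorem L652249 : sm gg N46637 = N42010 := ded_50_1 (flp_h L355094) (flp_g L354088) L652239
theorem L652251 : sm gj N46637 = N41904 := ded_52_1 (flp_h L354090) L354080 L652239
theorem L652253 : sm gd N46637 = N44137 := ded_38_1 (flp_h L373301) L256673 (flp_h L256263) (flp_d L634660) L652239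
theorem L652255 : sm gi N46637 = N44445 := ded_54_2 (flp_h L376057) (flp_i L258528) L634670 (flp_i L354086) L652239
theorem L652257 : sm gi N41904 = N46638 := rfl
theorem L652259 : sm ga N46638 = N46348 := ded_18_1 L649477 L648666 L652257
theorem L652261 : sm gb N46638 = N41913 := ded_26_1 (flp_i L354176) (flp_b L354092) L652257
theorem L652263 : sm gd N46638 = N44302 := ded_39_1 (flp_i L374832) (flp_d L640277) L652257
theorem L652265 : sm ge N46638 = N41908 := ded_44_1 (flp_i L354129) (flp_e L354094) L652257
theorem L652267 : sm gf N46638 = N44306 := ded_48_1 (flp_i L374863) (flp_f L640279) L652257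
theorem L652269 : sm gg N46638 = N41906 := ded_51_1 (flp_i L354107) (flp_g L354096) L652257
theorem L652271 : sm gj N46638 = N44445 := ded_53_1 (flp_i L652255) L652251 L652257
theorem L652273 : sm gh N46638 = N41957 := ded_54_1 (flp_i L354593) (flp_h L244036) (flp_i L243706) L354090 L652257
theorem L652275 : sm gc N41905 = N46639 := rfl
theorem L652277 : sm ga N46639 = N46345 := ded_11_1 L649445 (flp_a L648656) L652275
theorem L652279 : sm ge N46639 = N46639 := ded_28_2 (flp_c L652275) L354106 L652275
theorem L652280 : sm gf N46639 = N41942 := ded_29_2 L354462 (flp_f L644150) L652275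
theorem L652282 : sm gg N46639 = N44282 := ded_30_2 L374653 (flp_g L644152) L652275
theorem L652284 : sm gj N46639 = N42013 := ded_31_2 (flp_c L355119) (flp_j L354104) L652275
theorem L652286 : sm gh N46639 = N41940 := ded_32_2 L354443 (flp_h L644154) L652275
theorem L652288 : sm gb N46639 = N42441 := ded_19_1 L358942 L247070 L644142 (flp_b L354100) L652275
theorem L652290 : sm gi N41905 = N46640 := rfl
theorem L652292 : sm ga N46640 = N46347 := ded_18_1 (flp_i L649458) (flp_a L648656) L652290
theorem L652294 : sm gb N46640 = N41915 := ded_26_1 (flp_i L354197) (flp_b L354100) L652290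
theorem L652296 : sm gd N46640 = N41906 := ded_39_1 (flp_i L354107) L354098 L652290
theorem L652298 : sm ge N46640 = N46640 := ded_44_1 (flp_i L652290) L354106 L652290
theorem L652299 : sm gf N46640 = N41957 := ded_48_1 (flp_i L354593) (flp_f L644150) L652290
theorem L652301 : sm gg N46640 = N44302 := ded_51_1 (flp_i L374832) (flp_g L644152) L652290
theorem L652303 : sm gj N46640 = N42014 := ded_53_1 (flp_i L355124) (flp_j L354104) L652290
theorem L652305 : sm gh N46640 = N44306 := ded_54_1 (flp_i L374863) (flp_h L640369) L354075 (flp_h L644154) L652290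
theorem L652307 : sm gg N41917 = N46641 := rfl
theorem L652309 : sm ga N46641 = N42403 := ded_15_1 (flp_g L358589) (flp_a L354222) L652307
theorem L652311 : sm gb N46641 = N41923 := ded_23_1 (flp_g L354282) (flp_b L354224) L652307
theorem L652313 : sm gc N46641 = N46641 := ded_30_1 (flp_g L652307) L354226 L652307
theorem L652314 : sm gd N46641 = N42370 := ded_36_1 L358312 (flp_d L612345) L652307
theorem L652316 : sm ge N46641 = N41918 := ded_41_1 (flp_g L354231) L354220 L652307
theorem L652318 : sm gi N46641 = N42435 := ded_51_2 L358901 (flp_i L612347) L652307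
theorem L652320 : sm gf N46641 = N42368 := ded_45_1 (flp_g L358289) L246530 (flp_g L611944) (flp_f L354229) L652307
theorem L652322 : sm gj N46381 = N46641 := ded_24_0 L652311 (flp_j L649197) (flp_b L649754)
theorem L652324 : sm gh N46343 = N46641 := ded_25_0 L652311 L649201 (flp_b L649428)
theorem L652326 : sm gh N41917 = N46642 := rfl
theorem L652328 : sm ga N46642 = N42404 := ded_17_1 (flp_h L358596) (flp_a L354222) L652326
theorem L652330 : sm gb N46642 = N41924 := ded_25_1 (flp_h L354290) (flp_b L354224) L652326
theorem L652332 : sm gc N46642 = N46642 := ded_32_1 (flp_h L652326) L354226 L652326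
theorem L652333 : sm ge N46642 = N41919 := ded_43_1 (flp_h L354240) L354220 L652326
theorem L652335 : sm gf N46642 = N44245 := ded_47_1 (flp_h L374301) (flp_f L354229) L652326
theorem L652337 : sm gg N46642 = N46343 := ded_50_1 L652324 (flp_g L652307) L652326
theorem L652339 : sm gj N46642 = N42029 := ded_52_1 (flp_h L355262) (flp_j L354227) L652326
theorem L652341 : sm gi N41919 = N46643 := rfl
theorem L652343 : sm ga N46643 = N42408 := ded_18_1 (flp_i L358633) (flp_a L354242) L652341
theorem L652345 : sm gb N46643 = N41928 := ded_26_1 (flp_i L354330) (flp_b L354244) L652341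
theorem L652347 : sm gc N46643 = N46643 := ded_33_1 (flp_i L652341) L354246 L652341
theorem L652348 : sm gd N46643 = N46353 := ded_39_1 (flp_i L649517) (flp_d L648630) L652341
theorem L652350 : sm gf N46643 = N41921 := ded_48_1 (flp_i L354261) (flp_f L354247) L652341
theorem L652352 : sm gg N46643 = N46344 := ded_51_1 (flp_i L649433) (flp_g L649127) L652341
theorem L652354 : sm gj N46643 = N42033 := ded_53_1 (flp_i L355303) (flp_j L354249) L652341
theorem L652356 : sm gh N46643 = N44297 := ded_54_1 (flp_i L374789) L257668 (flp_i L501931) L354240 L652341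
theorem L652358 : sm gi N41920 = N46644 := rfl
theorem L652360 : sm ga N46644 = N42381 := ded_18_1 (flp_i L358394) (flp_a L550766) L652358
theorem L652362 : sm gb N46644 = N41930 := ded_26_1 (flp_i L354350) (flp_b L354255) L652358
theorem L652364 : sm gc N46644 = N46361 := ded_33_1 (flp_i L649585) (flp_c L649159) L652358
theorem L652366 : sm gd N46644 = N41921 := ded_39_1 (flp_i L354261) L354251 L652358
theorem L652368 : sm ge N46644 = N42360 := ded_44_1 (flp_i L358205) (flp_e L550769) L652358
theorem L652370 : sm gf N46644 = N46353 := ded_48_1 (flp_i L649517) L648628 L652358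
theorem L652372 : sm gg N46644 = N46644 := ded_51_1 (flp_i L652358) L354257 L652358
theorem L652373 : sm gj N46644 = N42036 := ded_53_1 (flp_i L355331) (flp_j L354258) L652358
theorem L652375 : sm gd N41924 = N46645 := rfl
theorem L652377 : sm ga N46645 = N41943 := ded_12_1 (flp_d L354468) (flp_a L354292) L652375
theorem L652379 : sm gf N46645 = N44258 := ded_35_2 (flp_d L374433) (flp_f L354298) L652375
theorem L652381 : sm gg N46645 = N45118 := ded_36_2 L381761 (flp_g L649129) L652375
theorem L652383 : sm gj N46645 = N42042 := ded_37_2 (flp_d L355383) (flp_j L354300) L652375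
theorem L652385 : sm gc N46645 = N44279 := ded_27_1 (flp_d L374624) L621643 L645181 (flp_c L354294) L652375
theorem L652387 : sm ge N46645 = N45114 := ded_34_2 L381735 L262520 (flp_d L635733) (flp_e L354296) L652375
theorem L652389 : sm gh N46645 = N44286 := ded_38_2 L374690 (flp_h L636083) (flp_d L354273) L354290 L652375
theorem L652391 : sm gi N41924 = N46646 := rfl
theorem L652393 : sm ga N46646 = N41944 := ded_18_1 (flp_i L354476) (flp_a L354292) L652391
theorem L652395 : sm gc N46646 = N41935 := ded_33_1 (flp_i L354394) (flp_c L354294) L652391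
theorem L652397 : sm ge N46646 = N41928 := ded_44_1 (flp_i L354330) (flp_e L354296) L652391
theorem L652399 : sm gf N46646 = N44259 := ded_48_1 (flp_i L374439) (flp_f L354298) L652391
theorem L652401 : sm gg N46646 = N46346 := ded_51_1 (flp_i L649450) (flp_g L649129) L652391
theorem L652403 : sm gj N46646 = N42043 := ded_53_1 (flp_i L355389) (flp_j L354300) L652391
theorem L652405 : sm gh N46646 = N45129 := ded_54_1 (flp_i L381842) L262418 L591783 L354290 L652391
theorem L652407 : sm gf N41929 = N46647 := rfl
theorem L652409 : sm ga N46647 = N41950 := ded_14_1 (flp_f L354533) (flp_a L354342) L652407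
theorem L652411 : sm gb N46647 = N42357 := ded_22_1 L358178 (flp_b L526584) L652407
theorem L652413 : sm gc N46647 = N45139 := ded_29_1 L381933 (flp_c L648212) L652407
theorem L652415 : sm gd N46647 = N42349 := ded_35_1 L358095 L576219 L652407
theorem L652417 : sm gj N46647 = N42049 := ded_46_2 (flp_f L355441) (flp_j L354345) L652407
theorem L652419 : sm gh N46647 = N46647 := ded_47_2 (flp_f L652407) L354347 L652407
theorem L652420 : sm ge N46647 = N45138 := ded_40_1 L381924 L262520 (flp_f L635728) L354340 L652407
theorem L652422 : sm gi N41929 = N46648 := rfl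
theorem L652424 : sm ga N46648 = N41951 := ded_18_1 (flp_i L354542) (flp_a L354342) L652422
theorem L652426 : sm gb N46648 = N42360 := ded_26_1 (flp_i L358205) (flp_b L526584) L652422
theorem L652428 : sm gc N46648 = N46350 := ded_33_1 (flp_i L649490) (flp_c L648212) L652422
theorem L652430 : sm gd N46648 = N42351 := ded_39_1 (flp_i L358107) L576219 L652422
theorem L652432 : sm ge N46648 = N41930 := ded_44_1 (flp_i L354350) L354340 L652422
theorem L652434 : sm gg N46648 = N46648 := ded_51_1 (flp_i L652422) L354344 L652422
theorem L652435 : sm gj N46648 = N42050 := ded_53_1 (flp_i L355448) (flp_j L354345) L652422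
theorem L652437 : sm gh N41930 = N46649 := rfl
theorem L652439 : sm ga N46649 = N41952 := ded_17_1 (flp_h L354553) (flp_a L354352) L652437
theorem L652441 : sm gc N46649 = N46351 := ded_32_1 (flp_h L649498) L649311 L652437
theorem L652443 : sm gf N46649 = N46354 := ded_47_1 (flp_h L649525) L649125 L652437
theorem L652445 : sm gg N46649 = N46649 := ded_50_1 (flp_h L652437) L354356 L652437
theorem L652446 : sm gj N46649 = N42051 := ded_52_1 (flp_h L355458) (flp_j L354357) L652437
theorem L652448 : sm gd N46649 = N42457 := ded_38_1 (flp_h L359064) L247046 (flp_h L575472) (flp_d L354354) L652437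
theorem L652450 : sm gi N46649 = N46649 := ded_54_2 (flp_h L652437) (flp_i L354350) L243878 L354350 L652437
theorem L652451 : sm gj N41938 = N46650 := rfl
theorem L652453 : sm ga N46650 = N46383 := ded_16_1 L652096 L652083 L652451
theorem L652455 : sm gb N46650 = N42436 := ded_24_1 (flp_j L358903) (flp_b L354425) L652451
theorem L652457 : sm gc N46650 = N44042 := ded_31_1 L649029 L648803 L652451
theorem L652459 : sm gd N46650 = N41941 := ded_37_1 (flp_j L354448) (flp_d L354427) L652451
theorem L652461 : sm ge N46650 = N46650 := ded_42_1 (flp_j L652451) L354429 L652451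
theorem L652462 : sm gf N46650 = N46385 := ded_46_1 L649790 L648965 L652451
theorem L652464 : sm gi N46650 = N46384 := ded_53_2 L652062 L652058 L652451
theorem L652466 : sm gg N46650 = N42061 := ded_49_1 (flp_j L355542) (flp_g L244677) (flp_j L243941) L354423 L652451
theorem L652468 : sm gh N41938 = N46651 := rfl
theorem L652470 : sm ga N46651 = N44305 := ded_17_1 L652098 L652083 L652468
theorem L652472 : sm gb N46651 = N42437 := ded_25_1 (flp_h L358911) (flp_b L354425) L652468
theorem L652474 : sm gc N46651 = N44271 := ded_32_1 L648945 L648803 L652468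
theorem L652476 : sm ge N46651 = N46651 := ded_43_1 (flp_h L652468) L354429 L652468
theorem L652477 : sm gf N46651 = N45128 := ded_47_1 L381840 L648965 L652468
theorem L652479 : sm gg N46651 = N41939 := ded_50_1 (flp_h L354430) L354423 L652468
theorem L652481 : sm gd N41939 = N46652 := rfl
theorem L652483 : sm ga N46652 = N44286 := ded_12_1 L374690 (flp_a L640444) L652481
theorem L652485 : sm gb N46652 = N42438 := ded_20_1 (flp_d L358917) (flp_b L354432) L652481
theorem L652487 : sm gf N46652 = N44279 := ded_35_2 (flp_d L374624) (flp_f L354435) L652481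
theorem L652489 : sm gj N46652 = N42063 := ded_37_2 (flp_d L355556) (flp_j L354437) L652481
theorem L652491 : sm gc N46652 = N44258 := ded_27_1 (flp_d L374433) L257424 L257515 L640451 L652481
theorem L652493 : sm gh N46652 = N41943 := ded_38_2 (flp_d L354468) (flp_h L243952) L243935 L354430 L652481
theorem L652495 : sm gi N41939 = N46653 := rfl
theorem L652497 : sm ga N46653 = N44308 := ded_18_1 (flp_i L374879) (flp_a L640444) L652495
theorem L652499 : sm gb N46653 = N42439 := ded_26_1 (flp_i L358925) (flp_b L354432) L652495
theorem L652501 : sm gc N46653 = N44274 := ded_33_1 (flp_i L374579) L640451 L652495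
theorem L652503 : sm ge N46653 = N46653 := ded_44_1 (flp_i L652495) L354434 L652495
theorem L652504 : sm gf N46653 = N44280 := ded_48_1 (flp_i L374632) (flp_f L354435) L652495
theorem L652506 : sm gj N46653 = N42064 := ded_53_1 (flp_i L355564) (flp_j L354437) L652495
theorem L652508 : sm gd N41942 = N46654 := rfl
theorem L652510 : sm ga N46654 = N45118 := ded_12_1 L381761 L648420 L652508
theorem L652512 : sm gb N46654 = N42443 := ded_20_1 (flp_d L358959) (flp_b L354460) L652508
theorem L652514 : sm gg N46654 = N41943 := ded_36_2 (flp_d L354468) (flp_g L354466) L652508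
theorem L652516 : sm gj N46654 = N44422 := ded_37_2 L375885 (flp_j L642729) L652508
theorem L652518 : sm gc N46654 = N44214 := ded_27_1 (flp_d L374031) L257155 (flp_d L642721) (flp_c L354462) L652508
theorem L652520 : sm ge N46654 = N45075 := ded_34_2 L381392 L262259 (flp_d L642733) (flp_e L354464) L652508
theorem L652522 : sm gi N41942 = N46655 := rfl
theorem L652524 : sm ga N46655 = N46346 := ded_18_1 (flp_i L649450) L648420 L652522
theorem L652526 : sm gb N46655 = N42444 := ded_26_1 (flp_i L358963) (flp_b L354460) L652522
theorem L652528 : sm gc N46655 = N41957 := ded_33_1 (flp_i L354593) (flp_c L354462) L652522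
theorem L652530 : sm ge N46655 = N41947 := ded_44_1 (flp_i L354507) (flp_e L354464) L652522
theorem L652532 : sm gg N46655 = N41944 := ded_51_1 (flp_i L354476) (flp_g L354466) L652522
theorem L652534 : sm gj N46655 = N44444 := ded_53_1 (flp_i L376053) (flp_j L642729) L652522
theorem L652536 : sm gc N41943 = N46656 := rfl
theorem L652538 : sm ga N46656 = N44279 := ded_11_1 (flp_c L652385) L652377 L652536
theorem L652540 : sm gf N46656 = N44286 := ded_29_2 (flp_c L374686) (flp_f L354472) L652536
theorem L652542 : sm gg N46656 = N44214 := ded_30_2 (flp_c L652518) L652514 L652536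
theorem L652544 : sm gj N46656 = N42070 := ded_31_2 (flp_c L355619) (flp_j L354474) L652536
theorem L652546 : sm gh N46656 = N44258 := ded_32_2 (flp_c L652491) L652493 L652536
theorem L652548 : sm gd N46656 = N41958 := ded_27_2 (flp_c L354601) (flp_d L244044) (flp_c L243956) L354468 L652536
theorem L652550 : sm ge N45073 = N46656 := ded_13_0 L652538 L621653 (flp_a L381372)
theorem L652552 : sm gb N45006 = N46656 := ded_23_3 L652542 L374033 (flp_g L380807)
theorem L652554 : sm ge N41943 = N46657 := rfl
theorem L652556 : sm ga N46657 = N45114 := ded_13_1 (flp_e L652387) L652377 L652554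
theorem L652558 : sm gb N46657 = N42446 := ded_21_1 (flp_e L358979) (flp_b L354470) L652554
theorem L652560 : sm gc N46657 = N45073 := ded_28_1 L652550 (flp_c L652536) L652554
theorem L652562 : sm gg N46657 = N45075 := ded_41_2 (flp_e L652520) L652514 L652554
theorem L652564 : sm gj N46657 = N42071 := ded_42_2 (flp_e L355625) (flp_j L354474) L652554
theorem L652566 : sm gd N46657 = N41948 := ded_34_1 (flp_e L354516) (flp_d L243983) (flp_e L243958) L354468 L652554
theorem L652568 : sm gi N41943 = N46658 := rfl
theorem L652570 : sm gb N46658 = N42447 := ded_26_1 (flp_i L358985) (flp_b L354470) L652568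
theorem L652572 : sm gd N46658 = N41944 := ded_39_1 (flp_i L354476) L354468 L652568
theorem L652574 : sm gf N46658 = N44288 := ded_48_1 (flp_i L374700) (flp_f L354472) L652568
theorem L652576 : sm gj N46658 = N42072 := ded_53_1 (flp_i L355631) (flp_j L354474) L652568
theorem L652578 : sm gf N41948 = N46659 := rfl
theorem L652580 : sm ga N46659 = N45138 := ded_14_1 L381924 (flp_a L648159) L652578
theorem L652582 : sm gb N46659 = N42452 := ded_22_1 (flp_f L359025) (flp_b L354518) L652578
theorem L652584 : sm gc N46659 = N45090 := ded_29_1 L381545 (flp_c L648161) L652578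
theorem L652586 : sm gj N46659 = N42077 := ded_46_2 (flp_f L355675) (flp_j L354520) L652578
theorem L652588 : sm gh N46659 = N46659 := ded_47_2 (flp_f L652578) L354522 L652578
theorem L652589 : sm ge N46659 = N41950 := ded_40_1 (flp_f L354533) (flp_e L244002) (flp_f L243987) L354516 L652578
theorem L652591 : sm gi N41948 = N46660 := rfl
theorem L652593 : sm ga N46660 = N45144 := ded_18_1 (flp_i L381973) (flp_a L648159) L652591
theorem L652595 : sm gb N46660 = N42453 := ded_26_1 (flp_i L359033) (flp_b L354518) L652591
theorem L652597 : sm gc N46660 = N45095 := ded_33_1 (flp_i L381588) (flp_c L648161) L652591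
theorem L652599 : sm ge N46660 = N41949 := ded_44_1 (flp_i L354523) L354516 L652591
theorem L652601 : sm gg N46660 = N45097 := ded_51_1 (flp_i L381607) (flp_g L648163) L652591
theorem L652603 : sm gj N46660 = N42078 := ded_53_1 (flp_i L355682) (flp_j L354520) L652591
theorem L652605 : sm gh N41949 = N46661 := rfl
theorem L652607 : sm ga N46661 = N46354 := ded_17_1 (flp_h L649525) L649339 L652605
theorem L652609 : sm gb N46661 = N42454 := ded_25_1 (flp_h L359040) (flp_b L354525) L652605
theorem L652611 : sm gc N46661 = N46341 := ded_32_1 (flp_h L649407) L649313 L652605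
theorem L652613 : sm gf N46661 = N41952 := ded_47_1 (flp_h L354553) (flp_f L354529) L652605
theorem L652615 : sm gg N46661 = N46342 := ded_50_1 (flp_h L649416) L649341 L652605
theorem L652617 : sm gj N46661 = N42079 := ded_52_1 (flp_h L355688) (flp_j L354531) L652605
theorem L652619 : sm gi N46661 = N46661 := ded_54_2 (flp_h L652605) (flp_i L354523) L243991 L354523 L652605
theorem L652620 : sm gg N41950 = N46662 := rfl
theorem L652622 : sm gb N46662 = N42455 := ded_23_1 (flp_g L359048) (flp_b L354535) L652620
theorem L652624 : sm gd N46662 = N44296 := ded_36_1 (flp_g L374781) (flp_d L354537) L652620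
theorem L652626 : sm gh N46662 = N46662 := ded_50_2 (flp_g L652620) L354541 L652620
theorem L652627 : sm gf N46662 = N46662 := ded_45_1 (flp_g L652620) (flp_f L354533) L244006 L354533 L652620
theorem L652628 : sm gi N41950 = N46663 := rfl
theorem L652630 : sm gb N46663 = N42456 := ded_26_1 (flp_i L359055) (flp_b L354535) L652628
theorem L652632 : sm gd N46663 = N44297 := ded_39_1 (flp_i L374789) (flp_d L354537) L652628
theorem L652634 : sm gf N46663 = N41951 := ded_48_1 (flp_i L354542) L354533 L652628
theorem L652636 : sm gj N46663 = N42081 := ded_53_1 (flp_i L355704) (flp_j L354539) L652628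
theorem L652638 : sm gh N41951 = N46664 := rfl
theorem L652640 : sm gb N46664 = N42457 := ded_25_1 (flp_h L359064) (flp_b L354544) L652638
theorem L652642 : sm ge N46664 = N41952 := ded_43_1 (flp_h L354553) (flp_e L354548) L652638
theorem L652644 : sm gg N46664 = N46664 := ded_50_1 (flp_h L652638) L354550 L652638
theorem L652645 : sm gj N46664 = N42082 := ded_52_1 (flp_h L355712) (flp_j L354551) L652638
theorem L652647 : sm gi N46664 = N46664 := ded_54_2 (flp_h L652638) (flp_i L354542) L244009 L354542 L652638
theorem L652648 : sm gi N41958 = N46665 := rfl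
theorem L652650 : sm ga N46665 = N44280 := ded_18_1 (flp_i L374632) (flp_a L640401) L652648
theorem L652652 : sm gb N46665 = N45007 := ded_26_1 (flp_i L380809) (flp_b L640403) L652648
theorem L652654 : sm gc N46665 = N41959 := ded_33_1 (flp_i L354607) L354601 L652648
theorem L652656 : sm ge N46665 = N44218 := ded_44_1 (flp_i L374069) (flp_e L640405) L652648
theorem L652658 : sm gf N46665 = N44308 := ded_48_1 (flp_i L374879) (flp_f L354603) L652648
theorem L652660 : sm gg N46665 = N44215 := ded_51_1 (flp_i L374037) (flp_g L640407) L652648
theorem L652662 : sm gj N46665 = N42092 := ded_53_1 (flp_i L355789) (flp_j L354605) L652648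
theorem L652664 : sm gh N46665 = N44285 := ded_54_1 (flp_i L374676) (flp_h L257585) (flp_i L257149) (flp_h L640409) L652648
theorem L652666 : sm gf N41993 = N46666 := rfl
theorem L652668 : sm ga N46666 = N44522 := ded_14_1 L648943 (flp_a L648678) L652666
theorem L652670 : sm gb N46666 = N42571 := ded_22_1 (flp_f L360081) (flp_b L354934) L652666
theorem L652672 : sm gc N46666 = N44502 := ded_29_1 (flp_f L651893) L651886 L652666
theorem L652674 : sm gd N46666 = N41995 := ded_35_1 (flp_f L354948) (flp_d L354936) L652666
theorem L652676 : sm gi N46666 = N42060 := ded_48_2 (flp_f L355534) (flp_i L354939) L652666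
theorem L652678 : sm gg N46666 = N44412 := ded_45_2 (flp_f L375793) (flp_g L258354) (flp_f L244272) L354932 L652666
theorem L652680 : sm ge N44826 = N46666 := ded_13_0 L652668 L376689 (flp_a L379281)
theorem L652682 : sm gj N41993 = N46667 := rfl
theorem L652684 : sm ga N46667 = N46537 := ded_16_1 (flp_j L651043) (flp_a L648678) L652682
theorem L652686 : sm gb N46667 = N42572 := ded_24_1 (flp_j L360090) (flp_b L354934) L652682
theorem L652688 : sm gc N46667 = N46386 := ded_31_1 (flp_j L651895) L651886 L652682
theorem L652690 : sm gd N46667 = N41996 := ded_37_1 (flp_j L354960) (flp_d L354936) L652682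
theorem L652692 : sm ge N46667 = N46667 := ded_42_1 (flp_j L652682) L354938 L652682
theorem L652693 : sm gi N46667 = N42061 := ded_53_2 (flp_j L355542) (flp_i L354939) L652682
theorem L652695 : sm gg N46667 = N46384 := ded_49_1 L652062 (flp_g L652047) L353980 L354932 L652682
theorem L652697 : sm gh N46399 = N46667 := ded_32_0 L652688 L649798 (flp_c L649887)
theorem L652699 : sm gh N41993 = N46668 := rfl
theorem L652701 : sm ga N46668 = N46536 := ded_17_1 L651041 (flp_a L648678) L652699
theorem L652703 : sm gb N46668 = N42573 := ded_25_1 (flp_h L360098) (flp_b L354934) L652699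
theorem L652705 : sm gc N46668 = N46403 := ded_32_1 L651897 L651886 L652699
theorem L652707 : sm ge N46668 = N46668 := ded_43_1 (flp_h L652699) L354938 L652699
theorem L652708 : sm gg N46668 = N41994 := ded_50_1 (flp_h L354941) L354932 L652699
theorem L652710 : sm gj N46668 = N46399 := ded_52_1 L652697 (flp_j L652682) L652699
theorem L652712 : sm gd N41994 = N46669 := rfl
theorem L652714 : sm ga N46669 = N45386 := ded_12_1 L383911 L648214 L652712
theorem L652716 : sm gb N46669 = N42574 := ded_20_1 (flp_d L360104) (flp_b L354943) L652712
theorem L652718 : sm gf N46669 = N44415 := ded_35_2 (flp_d L375819) (flp_f L354946) L652712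
theorem L652720 : sm gh N46669 = N41998 := ded_38_2 (flp_d L354980) (flp_h L244287) L244268 L354941 L652712
theorem L652722 : sm gi N41994 = N46670 := rfl
theorem L652724 : sm ga N46670 = N44562 := ded_18_1 L648322 L648214 L652722
theorem L652726 : sm gb N46670 = N42575 := ded_26_1 (flp_i L360110) (flp_b L354943) L652722
theorem L652728 : sm gc N46670 = N44512 := ded_33_1 (flp_i L651915) L651904 L652722
theorem L652730 : sm ge N46670 = N46670 := ded_44_1 (flp_i L652722) L354945 L652722
theorem L652731 : sm gf N46670 = N44416 := ded_48_1 (flp_i L375825) (flp_f L354946) L652722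
theorem L652733 : sm gh N46670 = N42064 := ded_54_1 (flp_i L355564) (flp_h L244684) (flp_i L244274) L354941 L652722
theorem L652735 : sm gj N41995 = N46671 := rfl
theorem L652737 : sm ga N46671 = N46538 := ded_16_1 (flp_j L651048) (flp_a L648680) L652735
theorem L652739 : sm gb N46671 = N42576 := ded_24_1 (flp_j L360118) (flp_b L354950) L652735
theorem L652741 : sm gc N46671 = N42008 := ded_31_1 (flp_j L355074) (flp_c L354952) L652735
theorem L652743 : sm ge N46671 = N42146 := ded_42_1 (flp_j L356287) (flp_e L354956) L652735
theorem L652745 : sm gf N46671 = N41996 := ded_46_1 (flp_j L354960) L354948 L652735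
theorem L652747 : sm gi N46671 = N42065 := ded_53_2 (flp_j L355571) (flp_i L354954) L652735
theorem L652749 : sm gh N41995 = N46672 := rfl
theorem L652751 : sm ga N46672 = N45416 := ded_17_1 L384103 (flp_a L648680) L652749
theorem L652753 : sm gb N46672 = N42577 := ded_25_1 (flp_h L360128) (flp_b L354950) L652749
theorem L652755 : sm gc N46672 = N42009 := ded_32_1 (flp_h L355084) (flp_c L354952) L652749
theorem L652757 : sm ge N46672 = N42147 := ded_43_1 (flp_h L356297) (flp_e L354956) L652749
theorem L652759 : sm gf N46672 = N41997 := ded_47_1 (flp_h L354970) L354948 L652749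
theorem L652761 : sm gg N46672 = N44418 := ded_50_1 (flp_h L375845) (flp_g L354958) L652749
theorem L652763 : sm gh N41996 = N46673 := rfl
theorem L652765 : sm ga N46673 = N45419 := ded_17_1 L384131 L648306 L652763
theorem L652767 : sm gb N46673 = N42578 := ded_25_1 (flp_h L360138) (flp_b L354962) L652763
theorem L652769 : sm gc N46673 = N42010 := ded_32_1 (flp_h L355094) (flp_c L354964) L652763
theorem L652771 : sm ge N46673 = N42000 := ded_43_1 (flp_h L354998) (flp_e L354966) L652763
theorem L652773 : sm gj N46673 = N41997 := ded_52_1 (flp_h L354970) L354960 L652763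
theorem L652775 : sm gd N41997 = N46674 := rfl
theorem L652777 : sm ga N46674 = N45410 := ded_12_1 L384057 (flp_a L501817) L652775
theorem L652779 : sm gb N46674 = N42579 := ded_20_1 (flp_d L360146) (flp_b L354972) L652775
theorem L652781 : sm gg N46674 = N41998 := ded_36_2 (flp_d L354980) (flp_g L354978) L652775
theorem L652783 : sm gi N41997 = N46675 := rfl
theorem L652785 : sm ga N46675 = N45420 := ded_18_1 (flp_i L384133) (flp_a L501817) L652783
theorem L652787 : sm gb N46675 = N42580 := ded_26_1 (flp_i L360150) (flp_b L354972) L652783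
theorem L652789 : sm gc N46675 = N42012 := ded_33_1 (flp_i L355109) (flp_c L354974) L652783
theorem L652791 : sm ge N46675 = N42002 := ded_44_1 (flp_i L355018) (flp_e L354976) L652783
theorem L652793 : sm gg N46675 = N41999 := ded_51_1 (flp_i L354986) (flp_g L354978) L652783
theorem L652795 : sm gh N46675 = N42069 := ded_54_1 (flp_i L355609) (flp_h L244709) (flp_i L244285) L354970 L652783
theorem L652797 : sm gc N41998 = N46676 := rfl
theorem L652799 : sm ga N46676 = N45407 := ded_11_1 L384039 (flp_a L521723) L652797
theorem L652801 : sm gf N46676 = N44422 := ded_29_2 (flp_c L375883) (flp_f L354984) L652797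
theorem L652803 : sm gd N46676 = N42013 := ded_27_2 (flp_c L355119) (flp_d L244381) (flp_c L244291) L354980 L652797
theorem L652805 : sm ge N41998 = N46677 := rfl
theorem L652807 : sm ga N46677 = N42693 := ded_13_1 L361040 (flp_a L521723) L652805
theorem L652809 : sm gb N46677 = N42582 := ded_21_1 (flp_e L360166) (flp_b L354982) L652805
theorem L652811 : sm gd N46677 = N42003 := ded_34_1 (flp_e L355030) (flp_d L244318) (flp_e L244293) L354980 L652805
theorem L652813 : sm gf N46677 = N42649 := ded_40_2 (flp_e L360687) L248131 L552235 (flp_f L354984) L652805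
theorem L652815 : sm gi N41998 = N46678 := rfl
theorem L652817 : sm ga N46678 = N45411 := ded_18_1 (flp_i L384059) (flp_a L521723) L652815
theorem L652819 : sm gb N46678 = N42583 := ded_26_1 (flp_i L360170) (flp_b L354982) L652815
theorem L652821 : sm gd N46678 = N41999 := ded_39_1 (flp_i L354986) L354980 L652815
theorem L652823 : sm gf N46678 = N44424 := ded_48_1 (flp_i L375893) (flp_f L354984) L652815
theorem L652825 : sm gd N42000 = N46679 := rfl
theorem L652827 : sm ga N46679 = N42704 := ded_12_1 L361110 (flp_a L554861) L652825
theorem L652829 : sm gb N46679 = N42584 := ded_20_1 (flp_d L360176) (flp_b L355000) L652825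
theorem L652831 : sm gf N46679 = N42154 := ded_35_2 (flp_d L356359) (flp_f L355004) L652825
theorem L652833 : sm gj N46679 = N42001 := ded_37_2 (flp_d L355008) (flp_j L355006) L652825
theorem L652835 : sm gc N46679 = N46679 := ded_27_1 (flp_d L652825) L355002 L244406 (flp_c L355002) L652825
theorem L652836 : sm gh N46679 = N46679 := ded_38_2 (flp_d L652825) (flp_h L354998) L244303 L354998 L652825
theorem L652837 : sm gi N42000 = N46680 := rfl
theorem L652839 : sm ga N46680 = N45423 := ded_18_1 (flp_i L384155) (flp_a L554861) L652837
theorem L652841 : sm gb N46680 = N42585 := ded_26_1 (flp_i L360183) (flp_b L355000) L652837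
theorem L652843 : sm gc N46680 = N42015 := ded_33_1 (flp_i L355133) (flp_c L355002) L652837
theorem L652845 : sm gf N46680 = N42155 := ded_48_1 (flp_i L356368) (flp_f L355004) L652837
theorem L652847 : sm gg N46680 = N46373 := ded_51_1 (flp_i L652171) L652167 L652837
theorem L652849 : sm gj N46680 = N42002 := ded_53_1 (flp_i L355018) (flp_j L355006) L652837
theorem L652851 : sm gh N46680 = N42074 := ded_54_1 (flp_i L355648) (flp_h L244735) (flp_i L244306) L354998 L652837
theorem L652853 : sm ge N42001 = N46681 := rfl
theorem L652855 : sm ga N46681 = N42701 := ded_13_1 L361091 (flp_a L550521) L652853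
theorem L652857 : sm gb N46681 = N42586 := ded_21_1 (flp_e L360193) (flp_b L355010) L652853
theorem L652859 : sm gc N46681 = N46681 := ded_28_1 (flp_e L652853) L355016 L652853
theorem L652860 : sm gg N46681 = N42003 := ded_41_2 (flp_e L355030) (flp_g L355014) L652853
theorem L652862 : sm gh N46681 = N46681 := ded_43_2 (flp_e L652853) L355017 L652853
theorem L652863 : sm gi N42001 = N46682 := rfl
theorem L652865 : sm ga N46682 = N42705 := ded_18_1 (flp_i L361115) (flp_a L550521) L652863
theorem L652867 : sm gb N46682 = N42587 := ded_26_1 (flp_i L360198) (flp_b L355010) L652863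
theorem L652869 : sm gc N46682 = N46682 := ded_33_1 (flp_i L652863) L355016 L652863
theorem L652870 : sm gd N46682 = N42002 := ded_39_1 (flp_i L355018) L355008 L652863
theorem L652872 : sm gf N46682 = N42157 := ded_48_1 (flp_i L356387) (flp_f L355012) L652863
theorem L652874 : sm gg N46682 = N42004 := ded_51_1 (flp_i L355036) (flp_g L355014) L652863
theorem L652876 : sm gi N42003 = N46683 := rfl
theorem L652878 : sm ga N46683 = N42702 := ded_18_1 (flp_i L361094) (flp_a L550527) L652876
theorem L652880 : sm gb N46683 = N42589 := ded_26_1 (flp_i L360211) (flp_b L355032) L652876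
theorem L652882 : sm gc N46683 = N46683 := ded_33_1 (flp_i L652876) L355034 L652876
theorem L652883 : sm ge N46683 = N42004 := ded_44_1 (flp_i L355036) L355030 L652876
theorem L652885 : sm gf N46683 = N42656 := ded_48_1 (flp_i L360748) (flp_f L550530) L652876
theorem L652887 : sm gh N42004 = N46684 := rfl
theorem L652889 : sm ga N46684 = N42706 := ded_17_1 (flp_h L361124) (flp_a L550510) L652887
theorem L652891 : sm gb N46684 = N42590 := ded_25_1 (flp_h L360215) (flp_b L355038) L652887
theorem L652893 : sm gc N46684 = N46684 := ded_32_1 (flp_h L652887) L355040 L652887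
theorem L652894 : sm gf N46684 = N42007 := ded_47_1 (flp_h L355064) (flp_f L355043) L652887
theorem L652896 : sm gd N46684 = N42079 := ded_38_1 (flp_h L355688) L244773 (flp_h L244334) (flp_d L355041) L652887
theorem L652898 : sm gi N46684 = N46684 := ded_54_2 (flp_h L652887) (flp_i L355036) L244325 L355036 L652887
theorem L652899 : sm gg N42008 = N46685 := rfl
theorem L652901 : sm ga N46685 = N46567 := ded_15_1 L651283 L648310 L652899
theorem L652903 : sm gb N46685 = N42016 := ded_23_1 (flp_g L355144) (flp_b L355076) L652899
theorem L652905 : sm gd N46685 = N44128 := ded_36_1 (flp_g L651950) L651943 L652899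
theorem L652907 : sm ge N46685 = N42164 := ded_41_1 (flp_g L356451) (flp_e L355078) L652899
theorem L652909 : sm gi N46685 = N42083 := ded_51_2 (flp_g L355721) (flp_i L355082) L652899
theorem L652911 : sm gf N46685 = N44131 := ded_45_1 (flp_g L648957) L648777 L354088 (flp_f L355080) L652899
theorem L652913 : sm gj N46685 = N44129 := ded_49_2 L641004 (flp_j L258484) (flp_g L244363) L355074 L652899
theorem L652915 : sm gh N44550 = N46685 := ded_25_0 L652903 L635071 (flp_b L376913)
theorem L652917 : sm gh N42008 = N46686 := rfl
theorem L652919 : sm ga N46686 = N46407 := ded_17_1 L649945 L648310 L652917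
theorem L652921 : sm gb N46686 = N42017 := ded_25_1 (flp_h L355155) (flp_b L355076) L652917
theorem L652923 : sm ge N46686 = N42165 := ded_43_1 (flp_h L356461) (flp_e L355078) L652917
theorem L652925 : sm gf N46686 = N42010 := ded_47_1 (flp_h L355094) (flp_f L355080) L652917
theorem L652927 : sm gg N46686 = N44550 := ded_50_1 L652915 (flp_g L652899) L652917
theorem L652929 : sm gj N46686 = N42009 := ded_52_1 (flp_h L355084) L355074 L652917
theorem L652931 : sm gd N46686 = N44549 := ded_38_1 (flp_h L376903) (flp_d L373229) L651952 L651943 L652917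
theorem L652933 : sm gd N42009 = N46687 := rfl
theorem L652935 : sm ga N46687 = N46391 := ded_12_1 L649831 L648260 L652933
theorem L652937 : sm gb N46687 = N42018 := ded_20_1 (flp_d L355166) (flp_b L355086) L652933
theorem L652939 : sm gf N46687 = N42011 := ded_35_2 (flp_d L355102) (flp_f L355090) L652933
theorem L652941 : sm gg N46687 = N42084 := ded_36_2 L644268 (flp_g L355092) L652933
theorem L652943 : sm gj N46687 = N44549 := ded_37_2 (flp_d L652931) L652929 L652933
theorem L652945 : sm gh N46687 = N42083 := ded_38_2 L651971 (flp_h L651954) L353274 L355084 L652933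
theorem L652947 : sm ge N42278 = N46687 := ded_21_0 L652937 L644247 (flp_b L357449)
theorem L652949 : sm gi N42009 = N46688 := rfl
theorem L652951 : sm ga N46688 = N46408 := ded_18_1 (flp_i L649947) L648260 L652949
theorem L652953 : sm gb N46688 = N42019 := ded_26_1 (flp_i L355173) (flp_b L355086) L652949
theorem L652955 : sm ge N46688 = N42167 := ded_44_1 (flp_i L356478) (flp_e L355088) L652949
theorem L652957 : sm gf N46688 = N42012 := ded_48_1 (flp_i L355109) (flp_f L355090) L652949
theorem L652959 : sm gg N46688 = N44438 := ded_51_1 (flp_i L376011) (flp_g L355092) L652949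
theorem L652961 : sm gh N46688 = N42086 := ded_54_1 (flp_i L355747) (flp_h L244809) (flp_i L244359) L355084 L652949
theorem L652963 : sm gd N42010 = N46689 := rfl
theorem L652965 : sm ga N46689 = N46403 := ded_12_1 L649912 L648314 L652963
theorem L652967 : sm gb N46689 = N42020 := ded_20_1 (flp_d L355186) (flp_b L355096) L652963
theorem L652969 : sm gf N46689 = N44549 := ded_35_2 (flp_d L652931) L652925 L652963
theorem L652971 : sm gg N46689 = N44137 := ded_36_2 (flp_d L652253) L652249 L652963
theorem L652973 : sm gj N46689 = N42011 := ded_37_2 (flp_d L355102) (flp_j L355100) L652963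
theorem L652975 : sm ge N46689 = N46689 := ded_34_2 (flp_d L652963) L355098 L244406 (flp_e L355098) L652963
theorem L652976 : sm gh N46689 = N44134 := ded_38_2 L373284 (flp_h L644281) L353285 L355094 L652963
theorem L652978 : sm gc N46536 = N46689 := ded_11_0 L652965 (flp_c L652705) L652701
theorem L652980 : sm gi N44559 = N46689 := ded_26_0 L652967 L648989 (flp_b L376978)
theorem L652982 : sm gi N42010 = N46690 := rfl
theorem L652984 : sm ga N46690 = N46393 := ded_18_1 L649851 L648314 L652982
theorem L652986 : sm gb N46690 = N42021 := ded_26_1 (flp_i L355192) (flp_b L355096) L652982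
theorem L652988 : sm gd N46690 = N44559 := ded_39_1 L652980 (flp_d L652963) L652982
theorem L652990 : sm ge N46690 = N42015 := ded_44_1 (flp_i L355133) (flp_e L355098) L652982
theorem L652992 : sm gg N46690 = N44445 := ded_51_1 (flp_i L652255) L652249 L652982
theorem L652994 : sm gj N46690 = N42012 := ded_53_1 (flp_i L355109) (flp_j L355100) L652982
theorem L652996 : sm gh N46690 = N42088 := ded_54_1 (flp_i L355763) (flp_h L244819) (flp_i L244371) L355094 L652982
theorem L652998 : sm gc N42011 = N46691 := rfl
theorem L653000 : sm ga N46691 = N46399 := ded_11_1 L649887 L648316 L652998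
theorem L653002 : sm ge N46691 = N46691 := ded_28_2 (flp_c L652998) L355108 L652998
theorem L653003 : sm gg N46691 = N42013 := ded_30_2 (flp_c L355119) (flp_g L355106) L652998
theorem L653005 : sm gj N46691 = N46536 := ded_31_2 L652978 L652973 L652998
theorem L653007 : sm gh N46691 = N46537 := ded_32_2 (flp_c L651987) L651990 L652998
theorem L653009 : sm gi N42011 = N46692 := rfl
theorem L653011 : sm ga N46692 = N46404 := ded_18_1 (flp_i L649915) L648316 L653009
theorem L653013 : sm gb N46692 = N42023 := ded_26_1 (flp_i L355211) (flp_b L355104) L653009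
theorem L653015 : sm gd N46692 = N42012 := ded_39_1 (flp_i L355109) L355102 L653009
theorem L653017 : sm ge N46692 = N46692 := ded_44_1 (flp_i L653009) L355108 L653009
theorem L653018 : sm gg N46692 = N42014 := ded_51_1 (flp_i L355124) (flp_g L355106) L653009
theorem L653020 : sm gj N46692 = N44559 := ded_53_1 L652980 L652973 L653009
theorem L653022 : sm gh N46692 = N44556 := ded_54_1 (flp_i L376953) (flp_h L373263) (flp_i L651985) L651990 L653009
theorem L653024 : sm gb N42013 = N46693 := rfl
theorem L653026 : sm ge N46693 = N46693 := ded_21_2 (flp_b L653024) L355121 L653024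
theorem L653027 : sm gf N46693 = N42442 := ded_22_2 L637564 (flp_f L355122) L653024
theorem L653029 : sm gj N46693 = N42441 := ded_24_2 (flp_b L652288) L652284 L653024
theorem L653031 : sm gh N46693 = N42440 := ded_25_2 (flp_b L652007) L652003 L653024
theorem L653033 : sm gc N46693 = N42024 := ded_19_2 (flp_b L355219) (flp_c L244466) (flp_b L244383) L355119 L653024
theorem L653035 : sm gi N42013 = N46694 := rfl
theorem L653037 : sm ga N46694 = N46400 := ded_18_1 (flp_i L649890) L648416 L653035
theorem L653039 : sm gc N46694 = N42014 := ded_33_1 (flp_i L355124) L355119 L653035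
theorem L653041 : sm ge N46694 = N46694 := ded_44_1 (flp_i L653035) L355121 L653035
theorem L653042 : sm gf N46694 = N44444 := ded_48_1 (flp_i L376053) (flp_f L355122) L653035
theorem L653044 : sm gh N42014 = N46695 := rfl
theorem L653046 : sm ga N46695 = N46405 := ded_17_1 (flp_h L649923) (flp_a L648660) L653044
theorem L653048 : sm gb N46695 = N42026 := ded_25_1 (flp_h L355236) (flp_b L355126) L653044
theorem L653050 : sm ge N46695 = N46695 := ded_43_1 (flp_h L653044) L355130 L653044
theorem L653051 : sm gf N46695 = N44445 := ded_47_1 (flp_h L376057) (flp_f L355131) L653044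
theorem L653053 : sm gg N46695 = N44556 := ded_50_1 (flp_h L653022) L653018 L653044
theorem L653055 : sm gj N46695 = N44306 := ded_52_1 (flp_h L652305) L652303 L653044
theorem L653057 : sm gd N46695 = N42093 := ded_38_1 (flp_h L355795) L244849 (flp_h L244396) (flp_d L355128) L653044
theorem L653059 : sm gi N46695 = N44303 := ded_54_2 (flp_h L648953) L649267 L353306 L355124 L653044
theorem L653061 : sm gi N42017 = N46696 := rfl
theorem L653063 : sm ga N46696 = N46696 := ded_18_1 (flp_i L653061) L355157 L653061
theorem L653064 : sm gc N46696 = N42607 := ded_33_1 (flp_i L360353) (flp_c L355158) L653061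
theorem L653066 : sm gd N46696 = N44564 := ded_39_1 (flp_i L377005) (flp_d L649034) L653061
theorem L653068 : sm ge N46696 = N42177 := ded_44_1 (flp_i L356569) (flp_e L355160) L653061
theorem L653070 : sm gf N46696 = N42021 := ded_48_1 (flp_i L355192) (flp_f L355162) L653061
theorem L653072 : sm gg N46696 = N44567 := ded_51_1 (flp_i L377031) (flp_g L649036) L653061
theorem L653074 : sm gj N46696 = N42019 := ded_53_1 (flp_i L355173) (flp_j L355164) L653061
theorem L653076 : sm gh N46696 = N42096 := ded_54_1 (flp_i L355819) (flp_h L244870) (flp_i L244427) L355155 L653061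
theorem L653078 : sm gi N42018 = N46697 := rfl
theorem L653080 : sm ga N46697 = N46697 := ded_18_1 (flp_i L653078) L355168 L653078
theorem L653081 : sm gc N46697 = N42723 := ded_33_1 (flp_i L361264) (flp_c L644245) L653078
theorem L653083 : sm gd N46697 = N42019 := ded_39_1 (flp_i L355173) L355166 L653078
theorem L653085 : sm ge N46697 = N42293 := ded_44_1 (flp_i L357566) (flp_e L644247) L653078
theorem L653087 : sm gf N46697 = N42023 := ded_48_1 (flp_i L355211) (flp_f L355169) L653078
theorem L653089 : sm gg N46697 = N42096 := ded_51_1 (flp_i L355819) (flp_g L644249) L653078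
theorem L653091 : sm gj N46697 = N44564 := ded_53_1 (flp_i L377005) (flp_j L644251) L653078
theorem L653093 : sm gh N46697 = N44567 := ded_54_1 (flp_i L377031) (flp_h L635071) L355151 (flp_h L644253) L653078
theorem L653095 : sm gb N42022 = N46698 := rfl
theorem L653097 : sm gd N46698 = N42613 := ded_20_2 (flp_b L360402) (flp_d L355209) L653095
theorem L653099 : sm ge N46698 = N46698 := ded_21_2 (flp_b L653095) L355206 L653095
theorem L653100 : sm gf N46698 = N42708 := ded_22_2 L361139 (flp_f L644074) L653095
theorem L653102 : sm gg N46698 = N42024 := ded_23_2 (flp_b L355219) (flp_g L355207) L653095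
theorem L653104 : sm gj N46698 = N45135 := ded_24_2 L381897 (flp_j L644076) L653095
theorem L653106 : sm gh N46698 = N42458 := ded_25_2 L359075 (flp_h L644078) L653095
theorem L653108 : sm gi N42022 = N46699 := rfl
theorem L653110 : sm ga N46699 = N46699 := ded_18_1 (flp_i L653108) L355205 L653108
theorem L653111 : sm gc N46699 = N42023 := ded_33_1 (flp_i L355211) L355203 L653108
theorem L653113 : sm gd N46699 = N42614 := ded_39_1 (flp_i L360407) (flp_d L355209) L653108
theorem L653115 : sm ge N46699 = N46699 := ded_44_1 (flp_i L653108) L355206 L653108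
theorem L653116 : sm gf N46699 = N42723 := ded_48_1 (flp_i L361264) (flp_f L644074) L653108
theorem L653118 : sm gg N46699 = N42025 := ded_51_1 (flp_i L355226) (flp_g L355207) L653108
theorem L653120 : sm gj N46699 = N44578 := ded_53_1 L641177 (flp_j L644076) L653108
theorem L653122 : sm gh N46699 = N44574 := ded_54_1 (flp_i L377081) (flp_h L641078) L358490 (flp_h L644078) L653108
theorem L653124 : sm ga N42024 = N46700 := rfl
theorem L653126 : sm gd N46700 = N42616 := ded_12_2 (flp_a L360422) (flp_d L355221) L653124
theorem L653128 : sm ge N46700 = N46700 := ded_13_2 (flp_a L653124) L355223 L653124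
theorem L653129 : sm gf N46700 = N42429 := ded_14_2 L358836 (flp_f L644091) L653124
theorem L653131 : sm gj N46700 = N42428 := ded_16_2 L358826 (flp_j L644093) L653124
theorem L653133 : sm gh N46700 = N42427 := ded_17_2 L358817 (flp_h L644095) L653124
theorem L653135 : sm gb N46700 = N46700 := ded_10_2 (flp_a L653124) (flp_b L355219) L244468 L355219 L653124
theorem L653136 : sm gi N42024 = N46701 := rfl
theorem L653138 : sm gb N46701 = N42025 := ded_26_1 (flp_i L355226) L355219 L653136
theorem L653140 : sm gd N46701 = N42617 := ded_39_1 (flp_i L360428) (flp_d L355221) L653136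
theorem L653142 : sm ge N46701 = N46701 := ded_44_1 (flp_i L653136) L355223 L653136
theorem L653143 : sm gf N46701 = N42463 := ded_48_1 (flp_i L359120) (flp_f L644091) L653136
theorem L653145 : sm gj N46701 = N42461 := ded_53_1 (flp_i L359101) (flp_j L644093) L653136
theorem L653147 : sm gh N42025 = N46702 := rfl
theorem L653149 : sm ga N46702 = N46702 := ded_17_1 (flp_h L653147) L355228 L653147
theorem L653150 : sm gc N46702 = N42026 := ded_32_1 (flp_h L355236) (flp_c L355229) L653147
theorem L653152 : sm ge N46702 = N46702 := ded_43_1 (flp_h L653147) L355233 L653147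
theorem L653153 : sm gf N46702 = N42396 := ded_47_1 L358539 L632120 L653147
theorem L653155 : sm gg N46702 = N44574 := ded_50_1 (flp_h L653122) L653118 L653147
theorem L653157 : sm gj N46702 = N42394 := ded_52_1 L358520 (flp_j L632106) L653147
theorem L653159 : sm gi N46702 = N42392 := ded_54_2 (flp_h L358496) L246680 (flp_h L632096) L355226 L653147
theorem L653161 : sm gd N45160 = N46702 := ded_27_0 L653150 L355242 L641202 (flp_d L262618) (flp_c L382106)
theorem L653163 : sm gg N42027 = N46703 := rfl
theorem L653165 : sm ga N46703 = N42620 := ded_15_1 (flp_g L360449) (flp_a L355246) L653163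
theorem L653167 : sm gb N46703 = N42037 := ded_23_1 (flp_g L355341) (flp_b L355248) L653163
theorem L653169 : sm gc N46703 = N44146 := ded_30_1 L373376 L641106 L653163
theorem L653171 : sm gd N46703 = N42028 := ded_36_1 (flp_g L355253) L355244 L653163
theorem L653173 : sm ge N46703 = N46703 := ded_41_1 (flp_g L653163) L355252 L653163
theorem L653174 : sm gh N46703 = N44557 := ded_50_2 L376965 (flp_h L640399) L653163
theorem L653176 : sm gi N46703 = N45108 := ded_51_2 (flp_g L381688) (flp_i L617611) L653163
theorem L653178 : sm gf N46703 = N45230 := ded_45_1 (flp_g L382699) L263015 L622144 (flp_f L355250) L653163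
theorem L653180 : sm gf N42028 = N46704 := rfl
theorem L653182 : sm ga N46704 = N42622 := ded_14_1 (flp_f L360463) (flp_a L355255) L653180
theorem L653184 : sm gb N46704 = N42039 := ded_22_1 (flp_f L355355) (flp_b L355257) L653180
theorem L653186 : sm gc N46704 = N46704 := ded_29_1 (flp_f L653180) L355259 L653180
theorem L653187 : sm gd N46704 = N45230 := ded_35_1 (flp_f L653178) L653171 L653180
theorem L653189 : sm gi N46704 = N45374 := ded_48_2 L648967 (flp_i L648324) L653180
theorem L653191 : sm ge N46704 = N42192 := ded_40_1 (flp_f L356711) L245493 (flp_f L244511) (flp_e L355260) L653180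
theorem L653193 : sm gg N46704 = N44463 := ded_45_2 (flp_f L376188) (flp_g L258634) (flp_f L244501) L355253 L653180
theorem L653195 : sm gj N42028 = N46705 := rfl
theorem L653197 : sm ga N46705 = N42623 := ded_16_1 (flp_j L360472) (flp_a L355255) L653195
theorem L653199 : sm gb N46705 = N42040 := ded_24_1 (flp_j L355365) (flp_b L355257) L653195
theorem L653201 : sm gc N46705 = N46705 := ded_31_1 (flp_j L653195) L355259 L653195
theorem L653202 : sm ge N46705 = N42030 := ded_42_1 (flp_j L355273) (flp_e L355260) L653195
theorem L653204 : sm gi N46705 = N46528 := ded_53_2 (flp_j L650934) (flp_i L648324) L653195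
theorem L653206 : sm gg N46705 = N46381 := ded_49_1 L652322 (flp_g L652307) L354227 L355253 L653195
theorem L653208 : sm gh N46387 = N46705 := ded_25_0 L653199 L649241 (flp_b L649802)
theorem L653210 : sm gh N42028 = N46706 := rfl
theorem L653212 : sm ga N46706 = N42624 := ded_17_1 (flp_h L360479) (flp_a L355255) L653210
theorem L653214 : sm gb N46706 = N42041 := ded_25_1 (flp_h L355373) (flp_b L355257) L653210
theorem L653216 : sm gc N46706 = N46706 := ded_32_1 (flp_h L653210) L355259 L653210
theorem L653217 : sm ge N46706 = N42031 := ded_43_1 (flp_h L355283) (flp_e L355260) L653210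
theorem L653219 : sm gg N46706 = N42029 := ded_50_1 (flp_h L355262) L355253 L653210
theorem L653221 : sm gj N46706 = N46387 := ded_52_1 L653208 (flp_j L653195) L653210
theorem L653223 : sm gd N42029 = N46707 := rfl
theorem L653225 : sm ga N46707 = N42625 := ded_12_1 (flp_d L360488) (flp_a L355264) L653223
theorem L653227 : sm gb N46707 = N42042 := ded_20_1 (flp_d L355383) (flp_b L355266) L653223
theorem L653229 : sm gf N46707 = N44466 := ded_35_2 (flp_d L376217) (flp_f L355271) L653223
theorem L653231 : sm gh N46707 = N44531 := ded_38_2 L376759 (flp_h L640399) (flp_d L355244) L355262 L653223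
theorem L653233 : sm gc N45383 = N46707 := ded_19_0 L653227 L649163 L258938 L263813 L383893
theorem L653235 : sm gi N42029 = N46708 := rfl
theorem L653237 : sm ga N46708 = N42626 := ded_18_1 (flp_i L360494) (flp_a L355264) L653235
theorem L653239 : sm gb N46708 = N42043 := ded_26_1 (flp_i L355389) (flp_b L355266) L653235
theorem L653241 : sm gc N46708 = N46708 := ded_33_1 (flp_i L653235) L355268 L653235
theorem L653242 : sm ge N46708 = N42033 := ded_44_1 (flp_i L355303) (flp_e L355269) L653235
theorem L653244 : sm gf N46708 = N44467 := ded_48_1 (flp_i L376223) (flp_f L355271) L653235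
theorem L653246 : sm gh N46708 = N44543 := ded_54_1 (flp_i L376850) L259056 L501898 L355262 L653235
theorem L653248 : sm gi N42031 = N46709 := rfl
theorem L653250 : sm ga N46709 = N42629 := ded_18_1 (flp_i L360521) (flp_a L355285) L653248
theorem L653252 : sm gb N46709 = N42046 := ded_26_1 (flp_i L355418) (flp_b L355287) L653248
theorem L653254 : sm gc N46709 = N46709 := ded_33_1 (flp_i L653248) L355289 L653248
theorem L653255 : sm gd N46709 = N46416 := ded_39_1 (flp_i L650011) L648624 L653248
theorem L653257 : sm gf N46709 = N42199 := ded_48_1 (flp_i L356781) (flp_f L355290) L653248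
theorem L653259 : sm gg N46709 = N42033 := ded_51_1 (flp_i L355303) (flp_g L355292) L653248
theorem L653261 : sm gj N46709 = N46388 := ded_53_1 (flp_i L649807) L649111 L653248
theorem L653263 : sm gh N46709 = N44546 := ded_54_1 (flp_i L376877) L259081 (flp_i L554902) L355283 L653248
theorem L653265 : sm ge N42032 = N46710 := rfl
theorem L653267 : sm ga N46710 = N42588 := ded_13_1 L360209 L550795 L653265
theorem L653269 : sm gb N46710 = N42047 := ded_21_1 (flp_e L355428) (flp_b L355298) L653265
theorem L653271 : sm gc N46710 = N45159 := ded_28_1 L382096 L648652 L653265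
theorem L653273 : sm gg N46710 = N45437 := ded_41_2 L384269 (flp_g L648606) L653265
theorem L653275 : sm gj N46710 = N45143 := ded_42_2 L381966 (flp_j L649121) L653265
theorem L653277 : sm gh N46710 = N46710 := ded_43_2 (flp_e L653265) L355302 L653265
theorem L653278 : sm gf N46710 = N42558 := ded_40_2 (flp_e L359964) L247642 L550783 (flp_f L355300) L653265
theorem L653280 : sm gi N42032 = N46711 := rfl
theorem L653282 : sm ga N46711 = N42592 := ded_18_1 (flp_i L360229) L550795 L653280
theorem L653284 : sm gb N46711 = N42048 := ded_26_1 (flp_i L355433) (flp_b L355298) L653280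
theorem L653286 : sm gc N46711 = N46365 := ded_33_1 (flp_i L649617) L648652 L653280
theorem L653288 : sm gd N46711 = N42033 := ded_39_1 (flp_i L355303) L355294 L653280
theorem L653290 : sm gf N46711 = N42036 := ded_48_1 (flp_i L355331) (flp_f L355300) L653280
theorem L653292 : sm gg N46711 = N46416 := ded_51_1 (flp_i L650011) (flp_g L648606) L653280
theorem L653294 : sm gj N46711 = N46353 := ded_53_1 (flp_i L649517) (flp_j L649121) L653280
theorem L653296 : sm gi N42034 = N46712 := rfl
theorem L653298 : sm ga N46712 = N42517 := ded_18_1 (flp_i L359595) (flp_a L550786) L653296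
theorem L653300 : sm gb N46712 = N46358 := ded_26_1 (flp_i L649558) L648604 L653296
theorem L653302 : sm gc N46712 = N42036 := ded_33_1 (flp_i L355331) L355312 L653296
theorem L653304 : sm gd N46712 = N46712 := ded_39_1 (flp_i L653296) L355319 L653296
theorem L653305 : sm ge N46712 = N42496 := ded_44_1 (flp_i L359412) (flp_e L550789) L653296
theorem L653307 : sm gf N46712 = N46365 := ded_48_1 (flp_i L649617) L648761 L653296
theorem L653309 : sm gg N46712 = N42204 := ded_51_1 (flp_i L356826) (flp_g L355316) L653296
theorem L653311 : sm gj N46712 = N46361 := ded_53_1 (flp_i L649585) (flp_j L649375) L653296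
theorem L653313 : sm gh N42036 = N46713 := rfl
theorem L653315 : sm ga N46713 = N42593 := ded_17_1 (flp_h L360235) L553570 L653313
theorem L653317 : sm gb N46713 = N42051 := ded_25_1 (flp_h L355458) (flp_b L355335) L653313
theorem L653319 : sm ge N46713 = N42562 := ded_43_1 (flp_h L359994) (flp_e L506425) L653313
theorem L653321 : sm gg N46713 = N42207 := ded_50_1 (flp_h L356855) (flp_g L355339) L653313
theorem L653323 : sm gd N46713 = N42082 := ded_38_1 (flp_h L355712) L244788 L554645 (flp_d L355337) L653313
theorem L653325 : sm gi N46713 = N46713 := ded_54_2 (flp_h L653313) (flp_i L355331) L244530 L355331 L653313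
theorem L653326 : sm gf N42037 = N46714 := rfl
theorem L653328 : sm ga N46714 = N42060 := ded_14_1 (flp_f L355534) (flp_a L355343) L653326
theorem L653330 : sm gb N46714 = N45230 := ded_22_1 (flp_f L653178) L653167 L653326
theorem L653332 : sm gc N46714 = N44129 := ded_29_1 L373245 (flp_c L640390) L653326
theorem L653334 : sm gd N46714 = N42039 := ded_35_1 (flp_f L355355) (flp_d L355345) L653326
theorem L653336 : sm gh N46714 = N44552 := ded_47_2 L376931 (flp_h L640393) L653326
theorem L653338 : sm gi N46714 = N44522 := ded_48_2 L648943 (flp_i L648320) L653326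
theorem L653340 : sm gg N46714 = N44417 := ded_45_2 L375841 (flp_g L617614) (flp_f L244546) L355341 L653326
theorem L653342 : sm ge N44725 = N46714 := ded_13_0 L653328 (flp_e L648801) L648272
theorem L653344 : sm gj N42037 = N46715 := rfl
theorem L653346 : sm ga N46715 = N42061 := ded_16_1 (flp_j L355542) (flp_a L355343) L653344
theorem L653348 : sm gc N46715 = N44131 := ded_31_1 L373260 (flp_c L640390) L653344
theorem L653350 : sm gd N46715 = N42040 := ded_37_1 (flp_j L355365) (flp_d L355345) L653344
theorem L653352 : sm ge N46715 = N46715 := ded_42_1 (flp_j L653344) L355347 L653344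
theorem L653353 : sm gh N46715 = N44555 := ded_52_2 L376951 (flp_h L640393) L653344
theorem L653355 : sm gi N46715 = N46537 := ded_53_2 (flp_j L651043) (flp_i L648320) L653344
theorem L653357 : sm gg N46715 = N46383 := ded_49_1 L652096 L652094 L354279 L355341 L653344
theorem L653359 : sm gj N42039 = N46716 := rfl
theorem L653361 : sm ga N46716 = N42065 := ded_16_1 (flp_j L355571) (flp_a L355357) L653359
theorem L653363 : sm gc N46716 = N42052 := ded_31_1 (flp_j L355465) (flp_c L355359) L653359
theorem L653365 : sm ge N46716 = N42213 := ded_42_1 (flp_j L356907) (flp_e L355361) L653359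
theorem L653367 : sm gf N46716 = N42040 := ded_46_1 (flp_j L355365) L355355 L653359
theorem L653369 : sm gi N46716 = N46538 := ded_53_2 (flp_j L651048) L648684 L653359
theorem L653371 : sm gh N46389 = N46716 := ded_32_0 L653363 L649243 (flp_c L649818)
theorem L653373 : sm gh N42039 = N46717 := rfl
theorem L653375 : sm ga N46717 = N42066 := ded_17_1 (flp_h L355581) (flp_a L355357) L653373
theorem L653377 : sm gc N46717 = N42053 := ded_32_1 (flp_h L355474) (flp_c L355359) L653373
theorem L653379 : sm ge N46717 = N42214 := ded_43_1 (flp_h L356915) (flp_e L355361) L653373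
theorem L653381 : sm gf N46717 = N42041 := ded_47_1 (flp_h L355373) L355355 L653373
theorem L653383 : sm gg N46717 = N44485 := ded_50_1 (flp_h L376387) (flp_g L355363) L653373
theorem L653385 : sm gj N46717 = N46389 := ded_52_1 L653371 (flp_j L653359) L653373
theorem L653387 : sm gd N42041 = N46718 := rfl
theorem L653389 : sm ga N46718 = N42068 := ded_12_1 (flp_d L355603) (flp_a L355375) L653387
theorem L653391 : sm gg N46718 = N42042 := ded_36_2 (flp_d L355383) (flp_g L355381) L653387
theorem L653393 : sm gj N46718 = N45399 := ded_37_2 L383995 L649113 L653387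
theorem L653395 : sm gc N46718 = N44517 := ded_27_1 (flp_d L376649) (flp_c L611552) L645190 (flp_c L355377) L653387
theorem L653397 : sm ge N46718 = N45395 := ded_34_2 L383969 L264063 L635695 (flp_e L355379) L653387
theorem L653399 : sm gh N46718 = N44528 := ded_38_2 L376739 (flp_h L640393) L355345 L355373 L653387
theorem L653401 : sm gi N42041 = N46719 := rfl
theorem L653403 : sm ga N46719 = N42069 := ded_18_1 (flp_i L355609) (flp_a L355375) L653401
theorem L653405 : sm gc N46719 = N42056 := ded_33_1 (flp_i L355501) (flp_c L355377) L653401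
theorem L653407 : sm ge N46719 = N42046 := ded_44_1 (flp_i L355418) (flp_e L355379) L653401
theorem L653409 : sm gg N46719 = N42043 := ded_51_1 (flp_i L355389) (flp_g L355381) L653401
theorem L653411 : sm gj N46719 = N46390 := ded_53_1 (flp_i L649820) L649113 L653401
theorem L653413 : sm gh N46719 = N45420 := ded_54_1 (flp_i L384133) L263964 (flp_i L554898) L355373 L653401
theorem L653415 : sm ge N42042 = N46720 := rfl
theorem L653417 : sm ga N46720 = N42071 := ded_13_1 (flp_e L355625) (flp_a L355385) L653415
theorem L653419 : sm gc N46720 = N44520 := ded_28_1 (flp_e L376669) (flp_c L649163) L653415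
theorem L653421 : sm gg N46720 = N45395 := ded_41_2 (flp_e L653397) L653391 L653415
theorem L653423 : sm gj N46720 = N45114 := ded_42_2 (flp_e L652387) L652383 L653415
theorem L653425 : sm gh N46720 = N44532 := ded_43_2 (flp_e L376763) (flp_h L649165) L653415
theorem L653427 : sm gd N46720 = N42047 := ded_34_1 (flp_e L355428) (flp_d L244586) (flp_e L244563) L355383 L653415
theorem L653429 : sm gi N42042 = N46721 := rfl
theorem L653431 : sm ga N46721 = N42072 := ded_18_1 (flp_i L355631) (flp_a L355385) L653429
theorem L653433 : sm gc N46721 = N44521 := ded_33_1 (flp_i L376677) (flp_c L649163) L653429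
theorem L653435 : sm gd N46721 = N42043 := ded_39_1 (flp_i L355389) L355383 L653429
theorem L653437 : sm gf N46721 = N44491 := ded_48_1 (flp_i L376435) (flp_f L355387) L653429
theorem L653439 : sm gf N42047 = N46722 := rfl
theorem L653441 : sm ga N46722 = N42077 := ded_14_1 (flp_f L355675) (flp_a L355430) L653439
theorem L653443 : sm gb N46722 = N42558 := ded_22_1 (flp_f L653278) L653269 L653439
theorem L653445 : sm gc N46722 = N45136 := ded_29_1 L381908 (flp_c L635746) L653439
theorem L653447 : sm gj N46722 = N45138 := ded_46_2 L381924 (flp_j L635750) L653439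
theorem L653449 : sm gh N46722 = N46722 := ded_47_2 (flp_f L653439) L355432 L653439
theorem L653450 : sm ge N46722 = N42049 := ded_40_1 (flp_f L355441) (flp_e L244601) (flp_f L244590) L355428 L653439
theorem L653452 : sm gi N42047 = N46723 := rfl
theorem L653454 : sm ga N46723 = N42078 := ded_18_1 (flp_i L355682) (flp_a L355430) L653452
theorem L653456 : sm gc N46723 = N45142 := ded_33_1 (flp_i L381952) (flp_c L635746) L653452
theorem L653458 : sm ge N46723 = N42048 := ded_44_1 (flp_i L355433) L355428 L653452
theorem L653460 : sm gg N46723 = N45438 := ded_51_1 (flp_i L384276) (flp_g L635748) L653452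
theorem L653462 : sm gj N46723 = N45144 := ded_53_1 (flp_i L381973) (flp_j L635750) L653452
theorem L653464 : sm gh N42048 = N46724 := rfl
theorem L653466 : sm ga N46724 = N42079 := ded_17_1 (flp_h L355688) (flp_a L355435) L653464
theorem L653468 : sm gc N46724 = N46352 := ded_32_1 (flp_h L649507) L648586 L653464
theorem L653470 : sm gf N46724 = N42051 := ded_47_1 (flp_h L355458) (flp_f L355439) L653464
theorem L653472 : sm gg N46724 = N46417 := ded_50_1 (flp_h L650019) L649119 L653464
theorem L653474 : sm gj N46724 = N46354 := ded_52_1 (flp_h L649525) (flp_j L649123) L653464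
theorem L653476 : sm gd N46724 = N42706 := ded_38_1 (flp_h L361124) L248435 (flp_h L554925) (flp_d L355437) L653464
theorem L653478 : sm gi N46724 = N46724 := ded_54_2 (flp_h L653464) (flp_i L355433) L244592 L355433 L653464
theorem L653479 : sm gg N42049 = N46725 := rfl
theorem L653481 : sm ga N46725 = N42080 := ded_15_1 (flp_g L355695) (flp_a L355443) L653479
theorem L653483 : sm gb N46725 = N42556 := ded_23_1 L359949 (flp_b L554656) L653479
theorem L653485 : sm gd N46725 = N42542 := ded_36_1 L359824 (flp_d L554658) L653479
theorem L653487 : sm gh N46725 = N46725 := ded_50_2 (flp_g L653479) L355447 L653479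
theorem L653488 : sm gf N46725 = N42228 := ded_45_1 (flp_g L357032) (flp_f L245672) (flp_g L244605) L355441 L653479
theorem L653490 : sm gi N42049 = N46726 := rfl
theorem L653492 : sm ga N46726 = N42081 := ded_18_1 (flp_i L355704) (flp_a L355443) L653490
theorem L653494 : sm gb N46726 = N42559 := ded_26_1 (flp_i L359969) (flp_b L554656) L653490
theorem L653496 : sm gd N46726 = N42544 := ded_39_1 (flp_i L359833) (flp_d L554658) L653490
theorem L653498 : sm gf N46726 = N42050 := ded_48_1 (flp_i L355448) L355441 L653490
theorem L653500 : sm gh N42050 = N46727 := rfl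
theorem L653502 : sm ga N46727 = N42082 := ded_17_1 (flp_h L355712) (flp_a L355450) L653500
theorem L653504 : sm gb N46727 = N42562 := ded_25_1 (flp_h L359994) (flp_b L554635) L653500
theorem L653506 : sm ge N46727 = N42051 := ded_43_1 (flp_h L355458) (flp_e L355454) L653500
theorem L653508 : sm gg N46727 = N42230 := ded_50_1 (flp_h L357048) (flp_g L355456) L653500
theorem L653510 : sm gd N46727 = N42593 := ded_38_1 (flp_h L360235) L553574 (flp_h L247585) (flp_d L554637) L653500
theorem L653512 : sm gi N46727 = N46727 := ded_54_2 (flp_h L653500) (flp_i L355448) L244607 L355448 L653500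
theorem L653513 : sm gg N42052 = N46728 := rfl
theorem L653515 : sm ga N46728 = N42083 := ded_15_1 (flp_g L355721) (flp_a L355467) L653513
theorem L653517 : sm gb N46728 = N46728 := ded_23_1 (flp_g L653513) L355469 L653513
theorem L653518 : sm gd N46728 = N46565 := ded_36_1 (flp_g L651260) (flp_d L648975) L653513
theorem L653520 : sm ge N46728 = N42231 := ded_41_1 (flp_g L357056) (flp_e L355470) L653513
theorem L653522 : sm gh N46728 = N46391 := ded_50_2 (flp_g L649828) (flp_h L649243) L653513
theorem L653524 : sm gi N46728 = N46567 := ded_51_2 L651283 (flp_i L648304) L653513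
theorem L653526 : sm gf N46728 = N46386 := ded_45_1 (flp_g L649792) (flp_f L271273) (flp_g L642588) (flp_f L355472) L653513
theorem L653528 : sm gj N46728 = N44502 := ded_49_2 (flp_g L376534) (flp_j L258847) (flp_g L244625) L355465 L653513
theorem L653530 : sm gi N42053 = N46729 := rfl
theorem L653532 : sm ga N46729 = N42086 := ded_18_1 (flp_i L355747) (flp_a L355476) L653530
theorem L653534 : sm gb N46729 = N46729 := ded_26_1 (flp_i L653530) L355478 L653530
theorem L653535 : sm gd N46729 = N46406 := ded_39_1 (flp_i L649929) (flp_d L648511) L653530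
theorem L653537 : sm ge N46729 = N42234 := ded_44_1 (flp_i L357084) (flp_e L355479) L653530
theorem L653539 : sm gf N46729 = N42056 := ded_48_1 (flp_i L355501) (flp_f L355481) L653530
theorem L653541 : sm gg N46729 = N44505 := ded_51_1 (flp_i L376559) (flp_g L355483) L653530
theorem L653543 : sm gj N46729 = N46392 := ded_53_1 (flp_i L649835) L649245 L653530
theorem L653545 : sm gh N46729 = N46408 := ded_54_1 (flp_i L649947) L271491 (flp_i L567860) L355474 L653530
theorem L653547 : sm gh N42058 = N46730 := rfl
theorem L653549 : sm ga N46730 = N42093 := ded_17_1 (flp_h L355795) (flp_a L355518) L653547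
theorem L653551 : sm gb N46730 = N46730 := ded_25_1 (flp_h L653547) L355520 L653547
theorem L653552 : sm gc N46730 = N44416 := ded_32_1 L375831 (flp_c L630863) L653547
theorem L653554 : sm ge N46730 = N44275 := ded_43_1 (flp_h L648252) (flp_e L630865) L653547
theorem L653556 : sm gf N46730 = N44512 := ded_47_1 (flp_h L376613) (flp_f L355523) L653547
theorem L653558 : sm gg N46730 = N44507 := ded_50_1 (flp_h L648250) (flp_g L648797) L653547
theorem L653560 : sm gj N46730 = N44272 := ded_52_1 (flp_h L648600) (flp_j L648799) L653547
theorem L653562 : sm gd N46730 = N46405 := ded_38_1 (flp_h L649923) L271450 L501721 (flp_d L355521) L653547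
theorem L653564 : sm gi N46730 = N44038 := ded_54_2 (flp_h L372534) L256156 L630877 L355516 L653547
theorem L653566 : sm gj N42060 = N46731 := rfl
theorem L653568 : sm gb N46731 = N42673 := ded_24_1 (flp_j L360903) (flp_b L355536) L653566
theorem L653570 : sm gc N46731 = N46567 := ded_31_1 (flp_j L651278) (flp_c L648919) L653566
theorem L653572 : sm gd N46731 = N42065 := ded_37_1 (flp_j L355571) (flp_d L355538) L653566
theorem L653574 : sm ge N46731 = N46553 := ded_42_1 (flp_j L651176) L648801 L653566
theorem L653576 : sm gf N46731 = N42061 := ded_46_1 (flp_j L355542) L355534 L653566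
theorem L653578 : sm gg N46731 = N46538 := ded_49_1 (flp_j L651048) (flp_g L291616) L617225 (flp_g L355540) L653566
theorem L653580 : sm gh N42060 = N46732 := rfl
theorem L653582 : sm ga N46732 = N44552 := ded_17_1 (flp_h L653336) L653328 L653580
theorem L653584 : sm gb N46732 = N42674 := ded_25_1 (flp_h L360910) (flp_b L355536) L653580
theorem L653586 : sm gc N46732 = N44504 := ded_32_1 L649060 (flp_c L648919) L653580
theorem L653588 : sm ge N46732 = N45846 := ded_43_1 L387552 L648801 L653580
theorem L653590 : sm gf N46732 = N42062 := ded_47_1 (flp_h L355549) L355534 L653580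
theorem L653592 : sm gg N46732 = N44515 := ded_50_1 (flp_h L376635) (flp_g L355540) L653580
theorem L653594 : sm gh N42061 = N46733 := rfl
theorem L653596 : sm ga N46733 = N44555 := ded_17_1 (flp_h L653353) L653346 L653594
theorem L653598 : sm gb N46733 = N42675 := ded_25_1 (flp_h L360917) (flp_b L355544) L653594
theorem L653600 : sm gc N46733 = N44506 := ded_32_1 (flp_h L652023) L652016 L653594
theorem L653602 : sm ge N46733 = N46733 := ded_43_1 (flp_h L653594) L355548 L653594
theorem L653603 : sm gj N46733 = N42062 := ded_52_1 (flp_h L355549) L355542 L653594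
theorem L653605 : sm gd N42062 = N46734 := rfl
theorem L653607 : sm ga N46734 = N44528 := ded_12_1 L376739 (flp_a L640458) L653605
theorem L653609 : sm gb N46734 = N42676 := ded_20_1 (flp_d L360923) (flp_b L355551) L653605
theorem L653611 : sm gg N46734 = N42063 := ded_36_2 (flp_d L355556) (flp_g L355554) L653605
theorem L653613 : sm gc N46734 = N44487 := ded_27_1 (flp_d L376407) L258757 L258874 (flp_c L640460) L653605
theorem L653615 : sm gh N46734 = N42068 := ded_38_2 (flp_d L355603) (flp_h L244709) (flp_d L244681) L355549 L653605
theorem L653617 : sm gi N42062 = N46735 := rfl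
theorem L653619 : sm ga N46735 = N44558 := ded_18_1 (flp_i L376969) (flp_a L640458) L653617
theorem L653621 : sm gb N46735 = N42677 := ded_26_1 (flp_i L360929) (flp_b L355551) L653617
theorem L653623 : sm gc N46735 = N44509 := ded_33_1 (flp_i L376592) (flp_c L640460) L653617
theorem L653625 : sm ge N46735 = N46735 := ded_44_1 (flp_i L653617) L355553 L653617
theorem L653626 : sm gg N46735 = N42064 := ded_51_1 (flp_i L355564) (flp_g L355554) L653617
theorem L653628 : sm ge N42063 = N46736 := rfl
theorem L653630 : sm ga N46736 = N44532 := ded_13_1 (flp_e L376763) (flp_a L640463) L653628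
theorem L653632 : sm gb N46736 = N42679 := ded_21_1 (flp_e L360942) (flp_b L355558) L653628
theorem L653634 : sm gc N46736 = N44490 := ded_28_1 (flp_e L376429) (flp_c L640465) L653628
theorem L653636 : sm gh N46736 = N42071 := ded_43_2 (flp_e L355625) (flp_h L355562) L653628
theorem L653638 : sm gd N46736 = N46736 := ded_34_1 (flp_e L653628) (flp_d L355556) L244688 L355556 L653628
theorem L653639 : sm gi N42063 = N46737 := rfl
theorem L653641 : sm ga N46737 = N44533 := ded_18_1 (flp_i L376768) (flp_a L640463) L653639
theorem L653643 : sm gb N46737 = N42680 := ded_26_1 (flp_i L360947) (flp_b L355558) L653639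
theorem L653645 : sm gc N46737 = N44491 := ded_33_1 (flp_i L376435) (flp_c L640465) L653639
theorem L653647 : sm gd N46737 = N42064 := ded_39_1 (flp_i L355564) L355556 L653639
theorem L653649 : sm gf N46737 = N44521 := ded_48_1 (flp_i L376677) (flp_f L355560) L653639
theorem L653651 : sm gg N42065 = N46738 := rfl
theorem L653653 : sm gb N46738 = N42681 := ded_23_1 (flp_g L360953) (flp_b L355573) L653651
theorem L653655 : sm gc N46738 = N42083 := ded_30_1 (flp_g L355721) (flp_c L355575) L653651
theorem L653657 : sm gd N46738 = N46538 := ded_36_1 (flp_g L653578) L653572 L653651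
theorem L653659 : sm ge N46738 = N42251 := ded_41_1 (flp_g L357229) (flp_e L355577) L653651
theorem L653661 : sm gf N46738 = N46537 := ded_45_1 (flp_g L651999) L651997 L354456 (flp_f L355579) L653651
theorem L653663 : sm gj N46738 = N44522 := ded_49_2 (flp_g L376683) (flp_j L258948) (flp_g L244699) L355571 L653651
theorem L653665 : sm gh N42065 = N46739 := rfl
theorem L653667 : sm ga N46739 = N46389 := ded_17_1 L653371 L653361 L653665
theorem L653669 : sm gb N46739 = N42682 := ded_25_1 (flp_h L360961) (flp_b L355573) L653665
theorem L653671 : sm gc N46739 = N42084 := ded_32_1 (flp_h L355729) (flp_c L355575) L653665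
theorem L653673 : sm ge N46739 = N42252 := ded_43_1 (flp_h L357238) (flp_e L355577) L653665
theorem L653675 : sm gf N46739 = N42067 := ded_47_1 (flp_h L355593) (flp_f L355579) L653665
theorem L653677 : sm gj N46739 = N42066 := ded_52_1 (flp_h L355581) L355571 L653665
theorem L653679 : sm gd N42066 = N46740 := rfl
theorem L653681 : sm gb N46740 = N42683 := ded_20_1 (flp_d L360971) (flp_b L355583) L653679
theorem L653683 : sm gf N46740 = N42068 := ded_35_2 (flp_d L355603) (flp_f L355589) L653679
theorem L653685 : sm gg N46740 = N44524 := ded_36_2 (flp_d L376703) (flp_g L355591) L653679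
theorem L653687 : sm gi N42066 = N46741 := rfl
theorem L653689 : sm gb N46741 = N42684 := ded_26_1 (flp_i L360977) (flp_b L355583) L653687
theorem L653691 : sm gc N46741 = N42086 := ded_33_1 (flp_i L355747) (flp_c L355585) L653687
theorem L653693 : sm ge N46741 = N42254 := ded_44_1 (flp_i L357256) (flp_e L355587) L653687
theorem L653695 : sm gf N46741 = N42069 := ded_48_1 (flp_i L355609) (flp_f L355589) L653687
theorem L653697 : sm gg N46741 = N44525 := ded_51_1 (flp_i L376709) (flp_g L355591) L653687
theorem L653699 : sm gd N42067 = N46742 := rfl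
theorem L653701 : sm ga N46742 = N45399 := ded_12_1 L383995 L648418 L653699
theorem L653703 : sm gb N46742 = N42685 := ded_20_1 (flp_d L360987) (flp_b L355595) L653699
theorem L653705 : sm gg N46742 = N44422 := ded_36_2 L375885 (flp_g L642639) L653699
theorem L653707 : sm gj N46742 = N42068 := ded_37_2 (flp_d L355603) (flp_j L355601) L653699
theorem L653709 : sm gc N46742 = N44420 := ded_27_1 (flp_d L375865) L258394 (flp_d L642632) (flp_c L355597) L653699
theorem L653711 : sm ge N46742 = N45337 := ded_34_2 L383514 L263736 (flp_d L642655) (flp_e L355599) L653699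
theorem L653713 : sm gi N42067 = N46743 := rfl
theorem L653715 : sm ga N46743 = N46390 := ded_18_1 (flp_i L649820) L648418 L653713
theorem L653717 : sm gb N46743 = N42686 := ded_26_1 (flp_i L360991) (flp_b L355595) L653713
theorem L653719 : sm gc N46743 = N42088 := ded_33_1 (flp_i L355763) (flp_c L355597) L653713
theorem L653721 : sm ge N46743 = N42074 := ded_44_1 (flp_i L355648) (flp_e L355599) L653713
theorem L653723 : sm gg N46743 = N44444 := ded_51_1 (flp_i L376053) (flp_g L642639) L653713
theorem L653725 : sm gj N46743 = N42069 := ded_53_1 (flp_i L355609) (flp_j L355601) L653713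
theorem L653727 : sm gc N42068 = N46744 := rfl
theorem L653729 : sm ga N46744 = N44517 := ded_11_1 (flp_c L653395) L653389 L653727
theorem L653731 : sm gg N46744 = N42070 := ded_30_2 (flp_c L355619) (flp_g L355607) L653727
theorem L653733 : sm gj N46744 = N44420 := ded_31_2 (flp_c L653709) L653707 L653727
theorem L653735 : sm gh N46744 = N44487 := ded_32_2 (flp_c L653613) L653615 L653727
theorem L653737 : sm gd N46744 = N42089 := ded_27_2 (flp_c L355771) (flp_d L244827) (flp_c L244713) L355603 L653727
theorem L653739 : sm ge N45335 = N46744 := ded_13_0 L653729 L611547 (flp_a L383494)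
theorem L653741 : sm gb N45234 = N46744 := ded_24_3 L653733 L375867 (flp_j L382733)
theorem L653743 : sm ge N42068 = N46745 := rfl
theorem L653745 : sm ga N46745 = N45395 := ded_13_1 (flp_e L653397) L653389 L653743
theorem L653747 : sm gb N46745 = N42688 := ded_21_1 (flp_e L361005) (flp_b L355605) L653743
theorem L653749 : sm gc N46745 = N45335 := ded_28_1 L653739 (flp_c L653727) L653743
theorem L653751 : sm gg N46745 = N42071 := ded_41_2 (flp_e L355625) (flp_g L355607) L653743
theorem L653753 : sm gj N46745 = N45337 := ded_42_2 (flp_e L653711) L653707 L653743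
theorem L653755 : sm gd N46745 = N42075 := ded_34_1 (flp_e L355658) (flp_d L244745) (flp_e L244715) L355603 L653743
theorem L653757 : sm gi N42068 = N46746 := rfl
theorem L653759 : sm gb N46746 = N42689 := ded_26_1 (flp_i L361011) (flp_b L355605) L653757
theorem L653761 : sm gd N46746 = N42069 := ded_39_1 (flp_i L355609) L355603 L653757
theorem L653763 : sm gg N46746 = N42072 := ded_51_1 (flp_i L355631) (flp_g L355607) L653757
theorem L653765 : sm gb N42070 = N46747 := rfl
theorem L653767 : sm gd N46747 = N42091 := ded_20_2 (flp_b L355783) (flp_d L355623) L653765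
theorem L653769 : sm gf N46747 = N44531 := ded_22_2 (flp_b L376757) (flp_f L355621) L653765
theorem L653771 : sm gg N46747 = N45234 := ded_23_2 L653741 L653731 L653765
theorem L653773 : sm gj N46747 = N45006 := ded_24_2 L652552 L652544 L653765
theorem L653775 : sm gh N46747 = N44466 := ded_25_2 L376221 (flp_h L640476) L653765
theorem L653777 : sm ga N46747 = N45228 := ded_10_1 L504829 L263500 (flp_b L258938) (flp_a L640474) L653765
theorem L653779 : sm gc N46747 = N42690 := ded_19_2 (flp_b L361017) (flp_c L248360) (flp_b L244721) L355619 L653765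
theorem L653781 : sm ge N45190 = N46747 := ded_34_0 L653767 L640480 (flp_d L611743) (flp_e L262777) L382360
theorem L653783 : sm ge N42070 = N46748 := rfl
theorem L653785 : sm ga N46748 = N44520 := ded_13_1 (flp_e L376669) (flp_a L640474) L653783
theorem L653787 : sm gb N46748 = N45190 := ded_21_1 L653781 (flp_b L653765) L653783
theorem L653789 : sm gc N46748 = N42071 := ded_28_1 (flp_e L355625) L355619 L653783
theorem L653791 : sm gg N46748 = N45335 := ded_41_2 L653739 L653731 L653783
theorem L653793 : sm gj N46748 = N45073 := ded_42_2 L652550 L652544 L653783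
theorem L653795 : sm gh N46748 = N44490 := ded_43_2 (flp_e L376429) (flp_h L640476) L653783
theorem L653797 : sm gd N46748 = N45072 := ded_34_1 L381364 L617521 L640471 (flp_d L355623) L653783
theorem L653799 : sm gi N42070 = N46749 := rfl
theorem L653801 : sm ga N46749 = N44521 := ded_18_1 (flp_i L376677) (flp_a L640474) L653799
theorem L653803 : sm gc N46749 = N42072 := ded_33_1 (flp_i L355631) L355619 L653799
theorem L653805 : sm gd N46749 = N42092 := ded_39_1 (flp_i L355789) (flp_d L355623) L653799
theorem L653807 : sm gf N46749 = N44533 := ded_48_1 (flp_i L376768) (flp_f L355621) L653799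
theorem L653809 : sm gf N42071 = N46750 := rfl
theorem L653811 : sm gb N46750 = N42693 := ded_22_1 (flp_f L361036) (flp_b L355627) L653809
theorem L653813 : sm gd N46750 = N42077 := ded_35_1 (flp_f L355675) (flp_d L355629) L653809
theorem L653815 : sm ge N46750 = N44534 := ded_40_1 (flp_f L376774) (flp_e L258998) (flp_f L244723) L355625 L653809
theorem L653817 : sm gi N42071 = N46751 := rfl
theorem L653819 : sm gb N46751 = N42694 := ded_26_1 (flp_i L361042) (flp_b L355627) L653817
theorem L653821 : sm gd N46751 = N42078 := ded_39_1 (flp_i L355682) (flp_d L355629) L653817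
theorem L653823 : sm ge N46751 = N42072 := ded_44_1 (flp_i L355631) L355625 L653817
theorem L653825 : sm gh N42072 = N46752 := rfl
theorem L653827 : sm gb N46752 = N42695 := ded_25_1 (flp_h L361048) (flp_b L355633) L653825
theorem L653829 : sm gf N46752 = N44536 := ded_47_1 (flp_h L376788) (flp_f L355637) L653825
theorem L653831 : sm gf N42075 = N46753 := rfl
theorem L653833 : sm ga N46753 = N45429 := ded_14_1 L384204 (flp_a L648109) L653831
theorem L653835 : sm gb N46753 = N42698 := ded_22_1 (flp_f L361067) (flp_b L355660) L653831
theorem L653837 : sm gc N46753 = N45359 := ded_29_1 L383706 (flp_c L648111) L653831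
theorem L653839 : sm gj N46753 = N45361 := ded_46_2 L383726 (flp_j L648113) L653831
theorem L653841 : sm gh N46753 = N46753 := ded_47_2 (flp_f L653831) L355664 L653831
theorem L653842 : sm ge N46753 = N42268 := ded_40_1 (flp_f L357371) (flp_e L245894) (flp_f L244749) L355658 L653831
theorem L653844 : sm gi N42075 = N46754 := rfl
theorem L653846 : sm ga N46754 = N45438 := ded_18_1 (flp_i L384276) (flp_a L648109) L653844
theorem L653848 : sm gb N46754 = N42699 := ded_26_1 (flp_i L361073) (flp_b L355660) L653844
theorem L653850 : sm gc N46754 = N45365 := ded_33_1 (flp_i L383757) (flp_c L648111) L653844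
theorem L653852 : sm ge N46754 = N42076 := ded_44_1 (flp_i L355665) L355658 L653844
theorem L653854 : sm gg N46754 = N42078 := ded_51_1 (flp_i L355682) (flp_g L355662) L653844
theorem L653856 : sm gj N46754 = N45367 := ded_53_1 (flp_i L383776) (flp_j L648113) L653844
theorem L653858 : sm gh N42076 = N46755 := rfl
theorem L653860 : sm ga N46755 = N46417 := ded_17_1 (flp_h L650019) L649335 L653858
theorem L653862 : sm gb N46755 = N42700 := ded_25_1 (flp_h L361080) (flp_b L355667) L653858
theorem L653864 : sm gc N46755 = N46376 := ded_32_1 (flp_h L649712) L649317 L653858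
theorem L653866 : sm gf N46755 = N42270 := ded_47_1 (flp_h L357384) (flp_f L355671) L653858
theorem L653868 : sm gg N46755 = N42079 := ded_50_1 (flp_h L355688) (flp_g L355673) L653858
theorem L653870 : sm gj N46755 = N46377 := ded_52_1 (flp_h L649721) L649337 L653858
theorem L653872 : sm gi N46755 = N46755 := ded_54_2 (flp_h L653858) (flp_i L355665) L244753 L355665 L653858
theorem L653873 : sm gg N42077 = N46756 := rfl
theorem L653875 : sm gb N46756 = N42701 := ded_23_1 (flp_g L361088) (flp_b L355677) L653873
theorem L653877 : sm ge N46756 = N42080 := ded_41_1 (flp_g L355695) (flp_e L355680) L653873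
theorem L653879 : sm gh N46756 = N46756 := ded_50_2 (flp_g L653873) L355679 L653873
theorem L653880 : sm gi N42077 = N46757 := rfl
theorem L653882 : sm gb N46757 = N42702 := ded_26_1 (flp_i L361094) (flp_b L355677) L653880
theorem L653884 : sm ge N46757 = N42081 := ded_44_1 (flp_i L355704) (flp_e L355680) L653880
theorem L653886 : sm gf N46757 = N42078 := ded_48_1 (flp_i L355682) L355675 L653880
theorem L653888 : sm gh N42078 = N46758 := rfl
theorem L653890 : sm gb N46758 = N42703 := ded_25_1 (flp_h L361101) (flp_b L355684) L653888
theorem L653892 : sm ge N46758 = N42079 := ded_43_1 (flp_h L355688) (flp_e L355686) L653888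
theorem L653894 : sm gi N46758 = N46758 := ded_54_2 (flp_h L653888) (flp_i L355682) L244768 L355682 L653888
theorem L653895 : sm gj N42080 = N46759 := rfl
theorem L653897 : sm gb N46759 = N42704 := ded_24_1 (flp_j L361107) (flp_b L355697) L653895
theorem L653899 : sm gd N46759 = N44545 := ded_37_1 (flp_j L376868) (flp_d L355699) L653895
theorem L653901 : sm gf N46759 = N42274 := ded_46_1 (flp_j L357415) (flp_f L355702) L653895
theorem L653903 : sm gh N46759 = N46759 := ded_52_2 (flp_j L653895) L355701 L653895
theorem L653904 : sm gi N42080 = N46760 := rfl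
theorem L653906 : sm gb N46760 = N42705 := ded_26_1 (flp_i L361115) (flp_b L355697) L653904
theorem L653908 : sm gd N46760 = N44546 := ded_39_1 (flp_i L376877) (flp_d L355699) L653904
theorem L653910 : sm gf N46760 = N42275 := ded_48_1 (flp_i L357423) (flp_f L355702) L653904
theorem L653912 : sm gg N46760 = N42081 := ded_51_1 (flp_i L355704) L355695 L653904
theorem L653914 : sm gh N42081 = N46761 := rfl
theorem L653916 : sm gb N46761 = N42706 := ded_25_1 (flp_h L361124) (flp_b L355706) L653914
theorem L653918 : sm gf N46761 = N42082 := ded_47_1 (flp_h L355712) (flp_f L355710) L653914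
theorem L653920 : sm gi N46761 = N46761 := ded_54_2 (flp_h L653914) (flp_i L355704) L244783 L355704 L653914
theorem L653921 : sm gi N42084 = N46762 := rfl
theorem L653923 : sm ga N46762 = N46392 := ded_18_1 (flp_i L649835) L648783 L653921
theorem L653925 : sm gb N46762 = N42096 := ded_26_1 (flp_i L355819) (flp_b L355731) L653921
theorem L653927 : sm gd N46762 = N44438 := ded_39_1 (flp_i L376011) (flp_d L644268) L653921
theorem L653929 : sm ge N46762 = N42280 := ded_44_1 (flp_i L357465) (flp_e L355733) L653921
theorem L653931 : sm gf N46762 = N42088 := ded_48_1 (flp_i L355763) (flp_f L355735) L653921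
theorem L653933 : sm gj N46762 = N42086 := ded_53_1 (flp_i L355747) (flp_j L355737) L653921
theorem L653935 : sm gc N42085 = N46763 := rfl
theorem L653937 : sm ga N46763 = N44515 := ded_11_1 L611449 L648722 L653935
theorem L653939 : sm ge N46763 = N44726 := ded_28_2 L378441 (flp_e L640979) L653935
theorem L653941 : sm gf N46763 = N42089 := ded_29_2 (flp_c L355771) (flp_f L355743) L653935
theorem L653943 : sm gg N46763 = N44552 := ded_30_2 (flp_c L376929) (flp_g L355745) L653935
theorem L653945 : sm gj N46763 = N44418 := ded_31_2 L375849 (flp_j L640981) L653935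
theorem L653947 : sm gh N46763 = N44417 := ded_32_2 L375837 (flp_h L640983) L653935
theorem L653949 : sm gb N46763 = N45231 := ded_19_1 L382709 L263149 L641018 (flp_b L355741) L653935
theorem L653951 : sm gi N42085 = N46764 := rfl
theorem L653953 : sm ga N46764 = N46406 := ded_18_1 (flp_i L649929) L648722 L653951
theorem L653955 : sm gb N46764 = N42099 := ded_26_1 (flp_i L355846) (flp_b L355741) L653951
theorem L653957 : sm gd N46764 = N42086 := ded_39_1 (flp_i L355747) L355739 L653951
theorem L653959 : sm ge N46764 = N44754 := ded_44_1 (flp_i L378662) (flp_e L640979) L653951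
theorem L653961 : sm gf N46764 = N42090 := ded_48_1 (flp_i L355775) (flp_f L355743) L653951
theorem L653963 : sm gg N46764 = N44554 := ded_51_1 (flp_i L376940) (flp_g L355745) L653951
theorem L653965 : sm gj N46764 = N44438 := ded_53_1 (flp_i L376011) (flp_j L640981) L653951
theorem L653967 : sm gh N46764 = N44551 := ded_54_1 (flp_i L376919) (flp_h L259109) (flp_i L258492) (flp_h L640983) L653951
theorem L653969 : sm gi N42089 = N46765 := rfl
theorem L653971 : sm ga N46765 = N44518 := ded_18_1 (flp_i L376657) (flp_a L636007) L653969
theorem L653973 : sm gb N46765 = N45235 := ded_26_1 (flp_i L382735) (flp_b L636009) L653969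
theorem L653975 : sm gc N46765 = N42090 := ded_33_1 (flp_i L355775) L355771 L653969
theorem L653977 : sm ge N46765 = N44426 := ded_44_1 (flp_i L375909) (flp_e L636011) L653969
theorem L653979 : sm gg N46765 = N42092 := ded_51_1 (flp_i L355789) (flp_g L355773) L653969
theorem L653981 : sm gj N46765 = N44421 := ded_53_1 (flp_i L375871) (flp_j L636016) L653969
theorem L653983 : sm gh N46765 = N44527 := ded_54_1 (flp_i L376725) (flp_h L258968) (flp_i L258388) (flp_h L636018) L653969
theorem L653985 : sm gi N42091 = N46766 := rfl
theorem L653987 : sm ga N46766 = N45296 := ded_18_1 (flp_i L383175) (flp_a L640478) L653985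
theorem L653989 : sm gb N46766 = N42092 := ded_26_1 (flp_i L355789) L355783 L653985
theorem L653991 : sm gc N46766 = N42106 := ded_33_1 (flp_i L355896) (flp_c L355787) L653985
theorem L653993 : sm ge N46766 = N45012 := ded_44_1 (flp_i L380847) (flp_e L640480) L653985
theorem L653995 : sm gf N46766 = N44561 := ded_48_1 (flp_i L376988) (flp_f L355785) L653985
theorem L653997 : sm gg N46766 = N45235 := ded_51_1 (flp_i L382735) (flp_g L640482) L653985
theorem L653999 : sm gj N46766 = N45007 := ded_53_1 (flp_i L380809) (flp_j L640484) L653985
theorem L654001 : sm gh N46766 = N45113 := ded_54_1 (flp_i L381721) (flp_h L262335) L611256 (flp_h L640486) L653985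
theorem L654003 : sm gi N42105 = N46767 := rfl
theorem L654005 : sm ga N46767 = N42106 := ded_18_1 (flp_i L355896) L355889 L654003
theorem L654007 : sm gb N46767 = N46767 := ded_26_1 (flp_i L654003) L355895 L654003
theorem L654008 : sm gc N46767 = N45296 := ded_33_1 (flp_i L383175) (flp_c L637471) L654003
theorem L654010 : sm gd N46767 = N42738 := ded_39_1 (flp_i L361386) (flp_d L355891) L654003
theorem L654012 : sm ge N46767 = N44997 := ded_44_1 (flp_i L380726) (flp_e L637473) L654003
theorem L654014 : sm gf N46767 = N44579 := ded_48_1 (flp_i L377122) (flp_f L355893) L654003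
theorem L654016 : sm gg N46767 = N45215 := ded_51_1 (flp_i L382589) (flp_g L637475) L654003
theorem L654018 : sm gj N46767 = N44994 := ded_53_1 (flp_i L380697) (flp_j L637477) L654003
theorem L654020 : sm gh N46767 = N45093 := ded_54_1 (flp_i L381568) (flp_h L262225) (flp_i L261635) (flp_h L637479) L654003
theorem L654022 : sm ge N42141 = N46768 := rfl
theorem L654024 : sm ga N46768 = N44869 := ded_13_1 L648851 (flp_a L648461) L654022
theorem L654026 : sm gb N46768 = N42875 := ded_21_1 (flp_e L362618) (flp_b L356239) L654022
theorem L654028 : sm gc N46768 = N46768 := ded_28_1 (flp_e L654022) L356241 L654022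
theorem L654029 : sm gg N46768 = N44716 := ded_41_2 (flp_e L378350) (flp_g L356246) L654022
theorem L654031 : sm gi N46768 = N42242 := ded_44_2 (flp_e L357153) (flp_i L356244) L654022
theorem L654033 : sm gd N46768 = N44826 := ded_34_1 L652680 L652674 L354956 (flp_d L356242) L654022
theorem L654035 : sm gf N46768 = N46768 := ded_40_2 (flp_e L654022) (flp_f L356237) L245164 L356237 L654022
theorem L654036 : sm gj N42141 = N46769 := rfl
theorem L654038 : sm ga N46769 = N46552 := ded_16_1 (flp_j L651169) (flp_a L648461) L654036
theorem L654040 : sm gb N46769 = N42876 := ded_24_1 (flp_j L362627) (flp_b L356239) L654036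
theorem L654042 : sm gc N46769 = N46769 := ded_31_1 (flp_j L654036) L356241 L654036
theorem L654043 : sm gd N46769 = N42146 := ded_37_1 (flp_j L356287) (flp_d L356242) L654036
theorem L654045 : sm gf N46769 = N42142 := ded_46_1 (flp_j L356248) L356237 L654036
theorem L654047 : sm gi N46769 = N42243 := ded_53_2 (flp_j L357161) (flp_i L356244) L654036
theorem L654049 : sm gh N42141 = N46770 := rfl
theorem L654051 : sm ga N46770 = N46548 := ded_17_1 L651147 (flp_a L648461) L654049
theorem L654053 : sm gb N46770 = N42877 := ded_25_1 (flp_h L362637) (flp_b L356239) L654049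
theorem L654055 : sm gc N46770 = N46770 := ded_32_1 (flp_h L654049) L356241 L654049
theorem L654056 : sm gf N46770 = N42143 := ded_47_1 (flp_h L356259) L356237 L654049
theorem L654058 : sm gg N46770 = N44718 := ded_50_1 (flp_h L378370) (flp_g L356246) L654049
theorem L654060 : sm gh N42142 = N46771 := rfl
theorem L654062 : sm ga N46771 = N46550 := ded_17_1 L651160 L648340 L654060
theorem L654064 : sm gb N46771 = N42878 := ded_25_1 (flp_h L362645) (flp_b L356250) L654060
theorem L654066 : sm gc N46771 = N46771 := ded_32_1 (flp_h L654060) L356252 L654060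
theorem L654067 : sm ge N46771 = N46771 := ded_43_1 (flp_h L654060) L356255 L654060
theorem L654068 : sm gg N46771 = N46771 := ded_50_1 (flp_h L654060) L356258 L654060
theorem L654069 : sm gj N46771 = N42143 := ded_52_1 (flp_h L356259) L356248 L654060
theorem L654071 : sm gd N42143 = N46772 := rfl
theorem L654073 : sm ga N46772 = N45804 := ded_12_1 L387278 (flp_a L648463) L654071
theorem L654075 : sm gb N46772 = N42879 := ded_20_1 (flp_d L362653) (flp_b L356261) L654071
theorem L654077 : sm gg N46772 = N42144 := ded_36_2 (flp_d L356267) (flp_g L356265) L654071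
theorem L654079 : sm gh N46772 = N42149 := ded_38_2 (flp_d L356318) (flp_h L245197) (flp_d L245162) L356259 L654071
theorem L654081 : sm gi N42143 = N46773 := rfl
theorem L654083 : sm ga N46773 = N46551 := ded_18_1 (flp_i L651163) (flp_a L648463) L654081
theorem L654085 : sm gb N46773 = N42880 := ded_26_1 (flp_i L362659) (flp_b L356261) L654081
theorem L654087 : sm gc N46773 = N46773 := ded_33_1 (flp_i L654081) L356263 L654081
theorem L654088 : sm ge N46773 = N46773 := ded_44_1 (flp_i L654081) L356264 L654081
theorem L654089 : sm gg N46773 = N42145 := ded_51_1 (flp_i L356276) (flp_g L356265) L654081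
theorem L654091 : sm gh N46773 = N42247 := ded_54_1 (flp_i L357196) (flp_h L245783) (flp_i L245165) L356259 L654081
theorem L654093 : sm gc N42144 = N46774 := rfl
theorem L654095 : sm ga N46774 = N45801 := ded_11_1 L387255 (flp_a L534166) L654093
theorem L654097 : sm gf N46774 = N43694 := ded_29_2 L512670 (flp_f L356271) L654093
theorem L654099 : sm gj N46774 = N46774 := ded_31_2 (flp_c L654093) L356273 L654093
theorem L654100 : sm gh N46774 = N42151 := ded_32_2 (flp_c L356336) (flp_h L356274) L654093
theorem L654102 : sm gb N46774 = N44836 := ded_19_1 L379361 L554300 (flp_c L546902) (flp_b L356269) L654093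
theorem L654104 : sm gd N46774 = N46774 := ded_27_2 (flp_c L654093) (flp_d L356267) L245171 L356267 L654093
theorem L654105 : sm ge N44835 = N46774 := ded_40_5 L654097 (flp_e L369500) L254132 L269123 L648574
theorem L654107 : sm ge N42144 = N46775 := rfl
theorem L654109 : sm ga N46775 = N43040 := ded_13_1 L363983 (flp_a L534166) L654107
theorem L654111 : sm gb N46775 = N42882 := ded_21_1 (flp_e L362677) (flp_b L356269) L654107
theorem L654113 : sm gc N46775 = N44835 := ded_28_1 L654105 (flp_c L654093) L654107
theorem L654115 : sm gj N46775 = N46775 := ded_42_2 (flp_e L654107) L356273 L654107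
theorem L654116 : sm gh N46775 = N42152 := ded_43_2 (flp_e L356343) (flp_h L356274) L654107
theorem L654118 : sm gd N46775 = N46775 := ded_34_1 (flp_e L654107) (flp_d L356267) L245172 L356267 L654107
theorem L654119 : sm gf N46775 = N42983 := ded_40_2 (flp_e L363475) L250001 (flp_e L547333) (flp_f L356271) L654107
theorem L654121 : sm gi N42144 = N46776 := rfl
theorem L654123 : sm ga N46776 = N45805 := ded_18_1 (flp_i L387282) (flp_a L534166) L654121
theorem L654125 : sm gb N46776 = N42883 := ded_26_1 (flp_i L362683) (flp_b L356269) L654121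
theorem L654127 : sm gd N46776 = N42145 := ded_39_1 (flp_i L356276) L356267 L654121
theorem L654129 : sm gf N46776 = N44724 := ded_48_1 (flp_i L378421) (flp_f L356271) L654121
theorem L654131 : sm gj N46776 = N46776 := ded_53_1 (flp_i L654121) L356273 L654121
theorem L654132 : sm gg N42146 = N46777 := rfl
theorem L654134 : sm ga N46777 = N46553 := ded_15_1 L651181 L648342 L654132
theorem L654136 : sm gb N46777 = N42884 := ded_23_1 (flp_g L362690) (flp_b L356289) L654132
theorem L654138 : sm gc N46777 = N42164 := ded_30_1 (flp_g L356451) (flp_c L356291) L654132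
theorem L654140 : sm gi N46777 = N42251 := ded_51_2 (flp_g L357229) (flp_i L356295) L654132
theorem L654142 : sm gf N46777 = N46777 := ded_45_1 (flp_g L654132) L356293 L245196 (flp_f L356293) L654132
theorem L654143 : sm gj N46777 = N44725 := ded_49_2 (flp_g L378428) (flp_j L260120) (flp_g L245184) L356287 L654132
theorem L654145 : sm gh N42146 = N46778 := rfl
theorem L654147 : sm ga N46778 = N45849 := ded_17_1 L387580 L648342 L654145
theorem L654149 : sm gb N46778 = N42885 := ded_25_1 (flp_h L362699) (flp_b L356289) L654145
theorem L654151 : sm gc N46778 = N42165 := ded_32_1 (flp_h L356461) (flp_c L356291) L654145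
theorem L654153 : sm gf N46778 = N42148 := ded_47_1 (flp_h L356307) (flp_f L356293) L654145
theorem L654155 : sm gj N46778 = N42147 := ded_52_1 (flp_h L356297) L356287 L654145
theorem L654157 : sm gd N42147 = N46779 := rfl
theorem L654159 : sm ga N46779 = N45830 := ded_12_1 L387449 (flp_a L567821) L654157
theorem L654161 : sm gb N46779 = N42886 := ded_20_1 (flp_d L362707) (flp_b L356299) L654157
theorem L654163 : sm gf N46779 = N42149 := ded_35_2 (flp_d L356318) (flp_f L356303) L654157
theorem L654165 : sm gg N46779 = N44727 := ded_36_2 (flp_d L378447) (flp_g L356305) L654157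
theorem L654167 : sm gi N42147 = N46780 := rfl
theorem L654169 : sm ga N46780 = N45850 := ded_18_1 (flp_i L387582) (flp_a L567821) L654167
theorem L654171 : sm gb N46780 = N42887 := ded_26_1 (flp_i L362713) (flp_b L356299) L654167
theorem L654173 : sm gc N46780 = N42167 := ded_33_1 (flp_i L356478) (flp_c L356301) L654167
theorem L654175 : sm gf N46780 = N42150 := ded_48_1 (flp_i L356324) (flp_f L356303) L654167
theorem L654177 : sm gg N46780 = N44728 := ded_51_1 (flp_i L378453) (flp_g L356305) L654167
theorem L654179 : sm gh N46780 = N42254 := ded_54_1 (flp_i L357256) (flp_h L245817) (flp_i L245182) L356297 L654167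
theorem L654181 : sm gd N42148 = N46781 := rfl
theorem L654183 : sm ga N46781 = N45842 := ded_12_1 L387529 (flp_a L502305) L654181
theorem L654185 : sm gb N46781 = N42888 := ded_20_1 (flp_d L362723) (flp_b L356309) L654181
theorem L654187 : sm gg N46781 = N46781 := ded_36_2 (flp_d L654181) L356315 L654181
theorem L654188 : sm gj N46781 = N42149 := ded_37_2 (flp_d L356318) (flp_j L356316) L654181
theorem L654190 : sm gi N42148 = N46782 := rfl
theorem L654192 : sm ga N46782 = N45853 := ded_18_1 (flp_i L387604) (flp_a L502305) L654190
theorem L654194 : sm gb N46782 = N42889 := ded_26_1 (flp_i L362728) (flp_b L356309) L654190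
theorem L654196 : sm gc N46782 = N42169 := ded_33_1 (flp_i L356497) (flp_c L356311) L654190
theorem L654198 : sm ge N46782 = N42155 := ded_44_1 (flp_i L356368) (flp_e L356313) L654190
theorem L654200 : sm gg N46782 = N46782 := ded_51_1 (flp_i L654190) L356315 L654190
theorem L654201 : sm gj N46782 = N42150 := ded_53_1 (flp_i L356324) (flp_j L356316) L654190
theorem L654203 : sm gh N46782 = N42256 := ded_54_1 (flp_i L357273) (flp_h L245827) (flp_i L245194) L356307 L654190
theorem L654205 : sm gc N42149 = N46783 := rfl
theorem L654207 : sm ga N46783 = N45838 := ded_11_1 L387502 (flp_a L575769) L654205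
theorem L654209 : sm gg N46783 = N42151 := ded_30_2 (flp_c L356336) (flp_g L356322) L654205
theorem L654211 : sm gd N46783 = N42170 := ded_27_2 (flp_c L356508) (flp_d L245325) (flp_c L245201) L356318 L654205
theorem L654213 : sm ge N42149 = N46784 := rfl
theorem L654215 : sm ga N46784 = N43064 := ded_13_1 L364148 (flp_a L575769) L654213
theorem L654217 : sm gb N46784 = N42891 := ded_21_1 (flp_e L362745) (flp_b L356320) L654213
theorem L654219 : sm gg N46784 = N42152 := ded_41_2 (flp_e L356343) (flp_g L356322) L654213
theorem L654221 : sm gd N46784 = N42156 := ded_34_1 (flp_e L356379) (flp_d L245236) (flp_e L245203) L356318 L654213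
theorem L654223 : sm gi N42149 = N46785 := rfl
theorem L654225 : sm ga N46785 = N45843 := ded_18_1 (flp_i L387532) (flp_a L575769) L654223
theorem L654227 : sm gb N46785 = N42892 := ded_26_1 (flp_i L362751) (flp_b L356320) L654223
theorem L654229 : sm gd N46785 = N42150 := ded_39_1 (flp_i L356324) L356318 L654223
theorem L654231 : sm gg N46785 = N42153 := ded_51_1 (flp_i L356350) (flp_g L356322) L654223
theorem L654233 : sm gb N42151 = N46786 := rfl
theorem L654235 : sm gd N46786 = N42172 := ded_20_2 (flp_b L356523) (flp_d L356341) L654233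
theorem L654237 : sm gf N46786 = N44734 := ded_22_2 (flp_b L378505) (flp_f L356338) L654233
theorem L654239 : sm gj N46786 = N46786 := ded_24_2 (flp_b L654233) L356340 L654233
theorem L654240 : sm gh N46786 = N44836 := ded_25_2 (flp_b L654102) L654100 L654233
theorem L654242 : sm gc N46786 = N42893 := ded_19_2 (flp_b L362757) (flp_c L249525) (flp_b L245209) L356336 L654233
theorem L654244 : sm ga N44879 = N46786 := ded_17_3 L654240 L379359 (flp_h L379727)
theorem L654246 : sm ge N44823 = N46786 := ded_43_3 L654240 (flp_e L379357) (flp_h L379260)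
theorem L654248 : sm ge N42151 = N46787 := rfl
theorem L654250 : sm ga N46787 = N43061 := ded_13_1 L364127 (flp_a L547429) L654248
theorem L654252 : sm gb N46787 = N44823 := ded_21_1 L654246 (flp_b L654233) L654248
theorem L654254 : sm gc N46787 = N42152 := ded_28_1 (flp_e L356343) L356336 L654248
theorem L654256 : sm gj N46787 = N46787 := ded_42_2 (flp_e L654248) L356340 L654248
theorem L654257 : sm gh N46787 = N44835 := ded_43_2 L654105 L654100 L654248
theorem L654259 : sm gd N46787 = N46787 := ded_34_1 (flp_e L654248) L356341 L245345 (flp_d L356341) L654248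
theorem L654260 : sm gf N46787 = N42995 := ded_40_2 (flp_e L363578) L250065 L547418 (flp_f L356338) L654248
theorem L654262 : sm gi N42151 = N46788 := rfl
theorem L654264 : sm ga N46788 = N45839 := ded_18_1 (flp_i L387506) (flp_a L547429) L654262
theorem L654266 : sm gc N46788 = N42153 := ded_33_1 (flp_i L356350) L356336 L654262
theorem L654268 : sm gd N46788 = N42173 := ded_39_1 (flp_i L356532) (flp_d L356341) L654262
theorem L654270 : sm gf N46788 = N44736 := ded_48_1 (flp_i L378517) (flp_f L356338) L654262
theorem L654272 : sm gj N46788 = N46788 := ded_53_1 (flp_i L654262) L356340 L654262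
theorem L654273 : sm gi N42152 = N46789 := rfl
theorem L654275 : sm ga N46789 = N43065 := ded_18_1 (flp_i L364150) (flp_a L550665) L654273
theorem L654277 : sm gb N46789 = N42897 := ded_26_1 (flp_i L362785) (flp_b L356345) L654273
theorem L654279 : sm gd N46789 = N42159 := ded_39_1 (flp_i L356405) (flp_d L356348) L654273
theorem L654281 : sm ge N46789 = N42153 := ded_44_1 (flp_i L356350) L356343 L654273
theorem L654283 : sm gf N46789 = N42998 := ded_48_1 (flp_i L363606) (flp_f L550668) L654273
theorem L654285 : sm gj N46789 = N46789 := ded_53_1 (flp_i L654273) L356347 L654273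
theorem L654286 : sm gh N42153 = N46790 := rfl
theorem L654288 : sm ga N46790 = N45844 := ded_17_1 (flp_h L387538) (flp_a L575747) L654286
theorem L654290 : sm gb N46790 = N42898 := ded_25_1 (flp_h L362792) (flp_b L356352) L654286
theorem L654292 : sm gf N46790 = N44739 := ded_47_1 (flp_h L378540) (flp_f L356356) L654286
theorem L654294 : sm gj N46790 = N46790 := ded_52_1 (flp_h L654286) L356358 L654286
theorem L654295 : sm gd N46790 = N42265 := ded_38_1 (flp_h L357347) L245872 (flp_h L245225) (flp_d L356354) L654286
theorem L654297 : sm ge N42154 = N46791 := rfl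
theorem L654299 : sm ga N46791 = N43073 := ded_13_1 L364207 (flp_a L575702) L654297
theorem L654301 : sm gb N46791 = N42899 := ded_21_1 (flp_e L362799) (flp_b L356361) L654297
theorem L654303 : sm gc N46791 = N46791 := ded_28_1 (flp_e L654297) L356366 L654297
theorem L654304 : sm gg N46791 = N46791 := ded_41_2 (flp_e L654297) L356363 L654297
theorem L654305 : sm gj N46791 = N42156 := ded_42_2 (flp_e L356379) (flp_j L356364) L654297
theorem L654307 : sm gh N46791 = N46791 := ded_43_2 (flp_e L654297) L356367 L654297
theorem L654308 : sm gi N42154 = N46792 := rfl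
theorem L654310 : sm ga N46792 = N43077 := ded_18_1 (flp_i L364231) (flp_a L575702) L654308
theorem L654312 : sm gb N46792 = N42900 := ded_26_1 (flp_i L362805) (flp_b L356361) L654308
theorem L654314 : sm gc N46792 = N46792 := ded_33_1 (flp_i L654308) L356366 L654308
theorem L654315 : sm gd N46792 = N42155 := ded_39_1 (flp_i L356368) L356359 L654308
theorem L654317 : sm gg N46792 = N46792 := ded_51_1 (flp_i L654308) L356363 L654308
theorem L654318 : sm gj N46792 = N42157 := ded_53_1 (flp_i L356387) (flp_j L356364) L654308
theorem L654320 : sm gf N42156 = N46793 := rfl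
theorem L654322 : sm ga N46793 = N43070 := ded_14_1 L364189 (flp_a L550660) L654320
theorem L654324 : sm gb N46793 = N42901 := ded_22_1 (flp_f L362812) (flp_b L356381) L654320
theorem L654326 : sm gc N46793 = N46793 := ded_29_1 (flp_f L654320) L356383 L654320
theorem L654327 : sm gh N46793 = N46793 := ded_47_2 (flp_f L654320) L356386 L654320
theorem L654328 : sm gg N46793 = N43002 := ded_45_2 (flp_f L363641) L250109 L550684 (flp_g L356384) L654320
theorem L654330 : sm gi N42156 = N46794 := rfl
theorem L654332 : sm ga N46794 = N43074 := ded_18_1 (flp_i L364211) (flp_a L550660) L654330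
theorem L654334 : sm gb N46794 = N42902 := ded_26_1 (flp_i L362815) (flp_b L356381) L654330
theorem L654336 : sm gc N46794 = N46794 := ded_33_1 (flp_i L654330) L356383 L654330
theorem L654337 : sm ge N46794 = N42157 := ded_44_1 (flp_i L356387) L356379 L654330
theorem L654339 : sm gg N46794 = N42159 := ded_51_1 (flp_i L356405) (flp_g L356384) L654330
theorem L654341 : sm gh N42157 = N46795 := rfl
theorem L654343 : sm ga N46795 = N43078 := ded_17_1 (flp_h L364239) (flp_a L575729) L654341
theorem L654345 : sm gb N46795 = N42903 := ded_25_1 (flp_h L362821) (flp_b L356389) L654341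
theorem L654347 : sm gc N46795 = N46795 := ded_32_1 (flp_h L654341) L356391 L654341
theorem L654348 : sm gg N46795 = N42160 := ded_50_1 (flp_h L356413) (flp_g L356394) L654341
theorem L654350 : sm gd N46795 = N42270 := ded_38_1 (flp_h L357384) L245905 (flp_h L245252) (flp_d L356392) L654341
theorem L654352 : sm gi N46795 = N46795 := ded_54_2 (flp_h L654341) (flp_i L356387) L245243 L356387 L654341
theorem L654353 : sm gh N42159 = N46796 := rfl
theorem L654355 : sm ga N46796 = N43075 := ded_17_1 (flp_h L364218) (flp_a L550615) L654353
theorem L654357 : sm gb N46796 = N42906 := ded_25_1 (flp_h L362840) (flp_b L356407) L654353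
theorem L654359 : sm gc N46796 = N46796 := ded_32_1 (flp_h L654353) L356409 L654353
theorem L654360 : sm ge N46796 = N42160 := ded_43_1 (flp_h L356413) (flp_e L356410) L654353
theorem L654362 : sm gf N46796 = N43007 := ded_47_1 (flp_h L363682) (flp_f L550618) L654353
theorem L654364 : sm gj N46796 = N46796 := ded_52_1 (flp_h L654353) L356412 L654353
theorem L654365 : sm gi N46796 = N46796 := ded_54_2 (flp_h L654353) (flp_i L356405) L245260 L356405 L654353
theorem L654366 : sm gh N42164 = N46797 := rfl
theorem L654368 : sm ga N46797 = N46517 := ded_17_1 L650869 L648276 L654366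
theorem L654370 : sm gb N46797 = N42175 := ded_25_1 (flp_h L356551) (flp_b L356453) L654366
theorem L654372 : sm ge N46797 = N44550 := ded_43_1 L652915 L652907 L654366
theorem L654374 : sm gf N46797 = N46797 := ded_47_1 (flp_h L654366) L356458 L654366
theorem L654375 : sm gg N46797 = N42165 := ded_50_1 (flp_h L356461) L356451 L654366
theorem L654377 : sm gj N46797 = N44553 := ded_52_1 L635164 (flp_j L356459) L654366
theorem L654379 : sm gd N44925 = N46797 := ded_20_0 L654370 L635150 (flp_b L380090)
theorem L654381 : sm gd N42165 = N46798 := rfl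
theorem L654383 : sm ga N46798 = N46500 := ded_12_1 L650737 L648262 L654381
theorem L654385 : sm gb N46798 = N42176 := ded_20_1 (flp_d L356561) (flp_b L356463) L654381
theorem L654387 : sm gf N46798 = N42168 := ded_35_2 (flp_d L356488) (flp_f L356465) L654381
theorem L654389 : sm gg N46798 = N44925 := ded_36_2 L654379 L654375 L654381
theorem L654391 : sm gj N46798 = N42166 := ded_37_2 (flp_d L356469) (flp_j L356467) L654381
theorem L654393 : sm ge N46798 = N44922 := ded_34_2 (flp_d L380066) (flp_e L376907) (flp_d L652931) L652923 L654381
theorem L654395 : sm gh N46798 = N46798 := ded_38_2 (flp_d L654381) (flp_h L356461) L245303 L356461 L654381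
theorem L654396 : sm gi N42165 = N46799 := rfl
theorem L654398 : sm ga N46799 = N46519 := ded_18_1 (flp_i L650879) L648262 L654396
theorem L654400 : sm gb N46799 = N42177 := ded_26_1 (flp_i L356569) (flp_b L356463) L654396
theorem L654402 : sm gf N46799 = N42169 := ded_48_1 (flp_i L356497) (flp_f L356465) L654396
theorem L654404 : sm gj N46799 = N42167 := ded_53_1 (flp_i L356478) (flp_j L356467) L654396
theorem L654406 : sm gh N46799 = N42280 := ded_54_1 (flp_i L357465) (flp_h L245964) (flp_i L245306) L356461 L654396
theorem L654408 : sm gc N42166 = N46800 := rfl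
theorem L654410 : sm ga N46800 = N46496 := ded_11_1 L650706 L648258 L654408
theorem L654412 : sm gf N46800 = N42170 := ded_29_2 (flp_c L356508) (flp_f L356473) L654408
theorem L654414 : sm gg N46800 = N44755 := ded_30_2 (flp_c L378672) (flp_g L356475) L654408
theorem L654416 : sm gh N46800 = N46800 := ded_32_2 (flp_c L654408) L356477 L654408
theorem L654417 : sm ge N42166 = N46801 := rfl
theorem L654419 : sm ga N46801 = N46480 := ded_13_1 L650572 L648258 L654417
theorem L654421 : sm gb N46801 = N42179 := ded_21_1 (flp_e L356590) (flp_b L356471) L654417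
theorem L654423 : sm gg N46801 = N42279 := ded_41_2 L640952 (flp_g L356475) L654417
theorem L654425 : sm gj N46801 = N44922 := ded_42_2 (flp_e L654393) L654391 L654417
theorem L654427 : sm gh N46801 = N46801 := ded_43_2 (flp_e L654417) L356477 L654417
theorem L654428 : sm gd N46801 = N42278 := ded_34_1 L652947 (flp_d L652933) L355088 L356469 L654417
theorem L654430 : sm gf N46801 = N46801 := ded_40_2 (flp_e L654417) L356473 L245331 (flp_f L356473) L654417
theorem L654431 : sm gi N42166 = N46802 := rfl
theorem L654433 : sm ga N46802 = N46501 := ded_18_1 (flp_i L650742) L648258 L654431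
theorem L654435 : sm gb N46802 = N42180 := ded_26_1 (flp_i L356597) (flp_b L356471) L654431
theorem L654437 : sm gd N46802 = N42167 := ded_39_1 (flp_i L356478) L356469 L654431
theorem L654439 : sm gf N46802 = N42171 := ded_48_1 (flp_i L356514) (flp_f L356473) L654431
theorem L654441 : sm gg N46802 = N44757 := ded_51_1 (flp_i L378682) (flp_g L356475) L654431
theorem L654443 : sm gc N42168 = N46803 := rfl
theorem L654445 : sm ga N46803 = N46510 := ded_11_1 L650817 L648378 L654443
theorem L654447 : sm ge N46803 = N46803 := ded_28_2 (flp_c L654443) L356495 L654443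
theorem L654448 : sm gg N46803 = N46803 := ded_30_2 (flp_c L654443) L356492 L654443
theorem L654449 : sm gj N46803 = N42170 := ded_31_2 (flp_c L356508) (flp_j L356493) L654443
theorem L654451 : sm gh N46803 = N46803 := ded_32_2 (flp_c L654443) L356496 L654443
theorem L654452 : sm gb N46803 = N46558 := ded_19_1 (flp_c L651213) (flp_b L648871) (flp_c L356606) (flp_b L356490) L654443
theorem L654454 : sm gi N42168 = N46804 := rfl
theorem L654456 : sm ga N46804 = N46515 := ded_18_1 (flp_i L650849) L648378 L654454
theorem L654458 : sm gb N46804 = N42182 := ded_26_1 (flp_i L356616) (flp_b L356490) L654454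
theorem L654460 : sm gd N46804 = N42169 := ded_39_1 (flp_i L356497) L356488 L654454
theorem L654462 : sm ge N46804 = N46804 := ded_44_1 (flp_i L654454) L356495 L654454
theorem L654463 : sm gg N46804 = N46804 := ded_51_1 (flp_i L654454) L356492 L654454
theorem L654464 : sm gj N46804 = N42171 := ded_53_1 (flp_i L356514) (flp_j L356493) L654454
theorem L654466 : sm gb N42170 = N46805 := rfl
theorem L654468 : sm ge N46805 = N46805 := ded_21_2 (flp_b L654466) L356510 L654466
theorem L654469 : sm gg N46805 = N42172 := ded_23_2 (flp_b L356523) (flp_g L356511) L654466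
theorem L654471 : sm gj N46805 = N46558 := ded_24_2 (flp_b L654452) L654449 L654466
theorem L654473 : sm gh N46805 = N46805 := ded_25_2 (flp_b L654466) L356513 L654466
theorem L654474 : sm gc N46805 = N42183 := ded_19_2 (flp_b L356625) (flp_c L245429) (flp_b L245327) L356508 L654466
theorem L654476 : sm ga N46560 = N46805 := ded_16_3 L654471 L651215 (flp_j L651231)
theorem L654478 : sm gi N42170 = N46806 := rfl
theorem L654480 : sm ga N46806 = N46511 := ded_18_1 (flp_i L650822) L648376 L654478
theorem L654482 : sm gc N46806 = N42171 := ded_33_1 (flp_i L356514) L356508 L654478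
theorem L654484 : sm ge N46806 = N46806 := ded_44_1 (flp_i L654478) L356510 L654478
theorem L654485 : sm gg N46806 = N42173 := ded_51_1 (flp_i L356532) (flp_g L356511) L654478
theorem L654487 : sm gh N42171 = N46807 := rfl
theorem L654489 : sm ga N46807 = N46516 := ded_17_1 (flp_h L650858) L648380 L654487
theorem L654491 : sm gb N46807 = N42185 := ded_25_1 (flp_h L356643) (flp_b L356516) L654487
theorem L654493 : sm ge N46807 = N46807 := ded_43_1 (flp_h L654487) L356520 L654487
theorem L654494 : sm gg N46807 = N42174 := ded_50_1 (flp_h L356540) (flp_g L356521) L654487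
theorem L654496 : sm gd N46807 = N42288 := ded_38_1 (flp_h L357525) L246015 (flp_h L245341) (flp_d L356518) L654487
theorem L654498 : sm gi N46807 = N46807 := ded_54_2 (flp_h L654487) (flp_i L356514) L245332 L356514 L654487
theorem L654499 : sm ga N42172 = N46808 := rfl
theorem L654501 : sm gc N46808 = N42186 := ded_11_2 (flp_a L356652) (flp_c L356530) L654499
theorem L654503 : sm gd N46808 = N44879 := ded_12_2 L654244 L654235 L654499
theorem L654505 : sm ge N46808 = N46808 := ded_13_2 (flp_a L654499) L356525 L654499
theorem L654506 : sm gf N46808 = N44763 := ded_14_2 (flp_a L378727) (flp_f L356526) L654499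
theorem L654508 : sm gg N46808 = N46560 := ded_15_2 L654476 L654469 L654499
theorem L654510 : sm gj N46808 = N46808 := ded_16_2 (flp_a L654499) L356528 L654499
theorem L654511 : sm gh N46808 = N46808 := ded_17_2 (flp_a L654499) L356529 L654499
theorem L654512 : sm gb N46808 = N46503 := ded_10_2 L650759 L273005 (flp_a L507816) L356523 L654499
theorem L654514 : sm gi N42172 = N46809 := rfl
theorem L654516 : sm gb N46809 = N42173 := ded_26_1 (flp_i L356532) L356523 L654514
theorem L654518 : sm gc N46809 = N42187 := ded_33_1 (flp_i L356662) (flp_c L356530) L654514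
theorem L654520 : sm ge N46809 = N46809 := ded_44_1 (flp_i L654514) L356525 L654514
theorem L654521 : sm gf N46809 = N44764 := ded_48_1 (flp_i L378733) (flp_f L356526) L654514
theorem L654523 : sm gj N46809 = N46809 := ded_53_1 (flp_i L654514) L356528 L654514
theorem L654524 : sm gh N42173 = N46810 := rfl
theorem L654526 : sm ga N46810 = N46512 := ded_17_1 (flp_h L650829) L648382 L654524
theorem L654528 : sm gc N46810 = N42174 := ded_32_1 (flp_h L356540) (flp_c L356534) L654524
theorem L654530 : sm ge N46810 = N46810 := ded_43_1 (flp_h L654524) L356536 L654524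
theorem L654531 : sm gf N46810 = N44765 := ded_47_1 (flp_h L378740) (flp_f L356537) L654524
theorem L654533 : sm gj N46810 = N46810 := ded_52_1 (flp_h L654524) L356539 L654524
theorem L654534 : sm gi N46810 = N46810 := ded_54_2 (flp_h L654524) (flp_i L356532) L245349 L356532 L654524
theorem L654535 : sm gi N42175 = N46811 := rfl
theorem L654537 : sm ga N46811 = N46811 := ded_18_1 (flp_i L654535) L356553 L654535
theorem L654538 : sm gc N46811 = N42926 := ded_33_1 (flp_i L363004) (flp_c L356554) L654535
theorem L654540 : sm gd N46811 = N44947 := ded_39_1 (flp_i L380263) (flp_d L635150) L654535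
theorem L654542 : sm ge N46811 = N44567 := ded_44_1 (flp_i L377031) (flp_e L635152) L654535
theorem L654544 : sm gf N46811 = N46811 := ded_48_1 (flp_i L654535) L356556 L654535
theorem L654545 : sm gg N46811 = N42177 := ded_51_1 (flp_i L356569) (flp_g L356557) L654535
theorem L654547 : sm gj N46811 = N44571 := ded_53_1 (flp_i L377061) (flp_j L635155) L654535
theorem L654549 : sm gh N46811 = N42293 := ded_54_1 (flp_i L357566) (flp_h L246042) (flp_i L245376) L356551 L654535
theorem L654551 : sm gc N42176 = N46812 := rfl
theorem L654553 : sm ga N46812 = N46812 := ded_11_1 (flp_c L654551) L356563 L654551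
theorem L654554 : sm ge N46812 = N43717 := ded_28_2 L646877 (flp_e L649086) L654551
theorem L654556 : sm gf N46812 = N42181 := ded_29_2 (flp_c L356606) (flp_f L356564) L654551
theorem L654558 : sm gg N46812 = N44945 := ded_30_2 L380246 (flp_g L649088) L654551
theorem L654560 : sm gj N46812 = N42178 := ded_31_2 (flp_c L356580) (flp_j L356566) L654551
theorem L654562 : sm gh N46812 = N46812 := ded_32_2 (flp_c L654551) L356568 L654551
theorem L654563 : sm gd N46812 = N42927 := ded_27_2 (flp_c L363014) (flp_d L249715) (flp_c L245384) L356561 L654551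
theorem L654565 : sm gb N46201 = N46812 := ded_22_3 L654556 L648871 (flp_f L390467)
theorem L654567 : sm gi N42176 = N46813 := rfl
theorem L654569 : sm ga N46813 = N46813 := ded_18_1 (flp_i L654567) L356563 L654567
theorem L654570 : sm gd N46813 = N42177 := ded_39_1 (flp_i L356569) L356561 L654567
theorem L654572 : sm ge N46813 = N44943 := ded_44_1 (flp_i L380226) (flp_e L649086) L654567
theorem L654574 : sm gf N46813 = N42182 := ded_48_1 (flp_i L356616) (flp_f L356564) L654567
theorem L654576 : sm gg N46813 = N44947 := ded_51_1 (flp_i L380263) (flp_g L649088) L654567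
theorem L654578 : sm gj N46813 = N42180 := ded_53_1 (flp_i L356597) (flp_j L356566) L654567
theorem L654580 : sm gb N42178 = N46814 := rfl
theorem L654582 : sm gd N46814 = N42930 := ded_20_2 (flp_b L363039) (flp_d L356588) L654580
theorem L654584 : sm gf N46814 = N42183 := ded_22_2 (flp_b L356625) (flp_f L356583) L654580
theorem L654586 : sm gg N46814 = N44771 := ded_23_2 (flp_b L378788) (flp_g L356585) L654580
theorem L654588 : sm gj N46814 = N46201 := ded_24_2 L654565 L654560 L654580
theorem L654590 : sm gh N46814 = N46814 := ded_25_2 (flp_b L654580) L356587 L654580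
theorem L654591 : sm ga N46262 = N46814 := ded_12_3 L654582 L615945 L390976
theorem L654593 : sm ge N42178 = N46815 := rfl
theorem L654595 : sm ga N46815 = N46815 := ded_13_1 (flp_e L654593) L356582 L654593
theorem L654596 : sm gc N46815 = N42179 := ded_28_1 (flp_e L356590) L356580 L654593
theorem L654598 : sm gg N46815 = N42294 := ded_41_2 L640949 (flp_g L356585) L654593
theorem L654600 : sm gj N46815 = N43717 := ded_42_2 (flp_e L654554) L654560 L654593
theorem L654602 : sm gh N46815 = N46815 := ded_43_2 (flp_e L654593) L356587 L654593
theorem L654603 : sm gd N46815 = N43100 := ded_34_1 L646867 (flp_d L615921) (flp_e L363047) (flp_d L356588) L654593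
theorem L654605 : sm gf N46815 = N46815 := ded_40_2 (flp_e L654593) L356583 L245432 (flp_f L356583) L654593
theorem L654606 : sm gi N42178 = N46816 := rfl
theorem L654608 : sm ga N46816 = N46816 := ded_18_1 (flp_i L654606) L356582 L654606
theorem L654609 : sm gc N46816 = N42180 := ded_33_1 (flp_i L356597) L356580 L654606
theorem L654611 : sm gd N46816 = N42932 := ded_39_1 (flp_i L363056) (flp_d L356588) L654606
theorem L654613 : sm gf N46816 = N42184 := ded_48_1 (flp_i L356633) (flp_f L356583) L654606
theorem L654615 : sm gg N46816 = N44773 := ded_51_1 (flp_i L378801) (flp_g L356585) L654606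
theorem L654617 : sm gi N42179 = N46817 := rfl
theorem L654619 : sm ga N46817 = N46817 := ded_18_1 (flp_i L654617) L356592 L654617
theorem L654620 : sm gd N46817 = N42293 := ded_39_1 (flp_i L357566) (flp_d L635227) L654617
theorem L654622 : sm ge N46817 = N42180 := ded_44_1 (flp_i L356597) L356590 L654617
theorem L654624 : sm gf N46817 = N46817 := ded_48_1 (flp_i L654617) L356596 L654617
theorem L654625 : sm gg N46817 = N42296 := ded_51_1 (flp_i L357592) (flp_g L635230) L654617
theorem L654627 : sm gj N46817 = N44943 := ded_53_1 (flp_i L380226) (flp_j L635232) L654617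
theorem L654629 : sm gh N42180 = N46818 := rfl
theorem L654631 : sm ga N46818 = N46818 := ded_17_1 (flp_h L654629) L356599 L654629
theorem L654632 : sm gf N46818 = N42185 := ded_47_1 (flp_h L356643) (flp_f L356602) L654629
theorem L654634 : sm gg N46818 = N44775 := ded_50_1 (flp_h L378815) (flp_g L356604) L654629
theorem L654636 : sm gd N46818 = N42301 := ded_38_1 (flp_h L357636) L246088 (flp_h L245407) (flp_d L356600) L654629
theorem L654638 : sm gi N46818 = N46818 := ded_54_2 (flp_h L654629) (flp_i L356597) L245397 L356597 L654629
theorem L654639 : sm gi N42181 = N46819 := rfl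
theorem L654641 : sm ga N46819 = N46819 := ded_18_1 (flp_i L654639) L356608 L654639
theorem L654642 : sm gb N46819 = N46559 := ded_26_1 (flp_i L651220) (flp_b L648871) L654639
theorem L654644 : sm gc N46819 = N42182 := ded_33_1 (flp_i L356616) L356606 L654639
theorem L654646 : sm gd N46819 = N42936 := ded_39_1 (flp_i L363090) (flp_d L356614) L654639
theorem L654648 : sm ge N46819 = N46819 := ded_44_1 (flp_i L654639) L356609 L654639
theorem L654649 : sm gg N46819 = N46819 := ded_51_1 (flp_i L654639) L356610 L654639
theorem L654650 : sm gj N46819 = N42184 := ded_53_1 (flp_i L356633) (flp_j L356611) L654639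
theorem L654652 : sm gh N42182 = N46820 := rfl
theorem L654654 : sm ga N46820 = N46820 := ded_17_1 (flp_h L654652) L356618 L654652
theorem L654655 : sm ge N46820 = N46820 := ded_43_1 (flp_h L654652) L356621 L654652
theorem L654656 : sm gg N46820 = N46820 := ded_50_1 (flp_h L654652) L356622 L654652
theorem L654657 : sm gj N46820 = N42185 := ded_52_1 (flp_h L356643) (flp_j L356623) L654652
theorem L654659 : sm gd N46820 = N42304 := ded_38_1 (flp_h L357662) L246106 (flp_h L245427) (flp_d L356619) L654652
theorem L654661 : sm gi N46820 = N46820 := ded_54_2 (flp_h L654652) (flp_i L356616) L245416 L356616 L654652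
theorem L654662 : sm gi N42183 = N46821 := rfl
theorem L654664 : sm ga N46821 = N46561 := ded_18_1 (flp_i L651234) L648877 L654662
theorem L654666 : sm gb N46821 = N42184 := ded_26_1 (flp_i L356633) L356625 L654662
theorem L654668 : sm gd N46821 = N42939 := ded_39_1 (flp_i L363115) (flp_d L356627) L654662
theorem L654670 : sm ge N46821 = N46821 := ded_44_1 (flp_i L654662) L356629 L654662
theorem L654671 : sm gg N46821 = N42187 := ded_51_1 (flp_i L356662) (flp_g L356630) L654662
theorem L654673 : sm gj N46821 = N46559 := ded_53_1 (flp_i L651220) L648883 L654662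
theorem L654675 : sm gh N42184 = N46822 := rfl
theorem L654677 : sm ga N46822 = N46822 := ded_17_1 (flp_h L654675) L356635 L654675
theorem L654678 : sm gc N46822 = N42185 := ded_32_1 (flp_h L356643) (flp_c L356636) L654675
theorem L654680 : sm ge N46822 = N46822 := ded_43_1 (flp_h L654675) L356640 L654675
theorem L654681 : sm gg N46822 = N42188 := ded_50_1 (flp_h L356672) (flp_g L356641) L654675
theorem L654683 : sm gi N46822 = N46822 := ded_54_2 (flp_h L654675) (flp_i L356633) L245435 L356633 L654675
theorem L654684 : sm gi N42186 = N46823 := rfl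
theorem L654686 : sm ga N46823 = N42187 := ded_18_1 (flp_i L356662) L356652 L654684
theorem L654688 : sm gb N46823 = N46823 := ded_26_1 (flp_i L654684) L356661 L654684
theorem L654689 : sm gd N46823 = N42941 := ded_39_1 (flp_i L363130) (flp_d L356654) L654684
theorem L654691 : sm ge N46823 = N46823 := ded_44_1 (flp_i L654684) L356656 L654684
theorem L654692 : sm gf N46823 = N44782 := ded_48_1 (flp_i L378874) (flp_f L356657) L654684
theorem L654694 : sm gg N46823 = N46561 := ded_51_1 (flp_i L651234) L648875 L654684
theorem L654696 : sm gj N46823 = N46823 := ded_53_1 (flp_i L654684) L356659 L654684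
theorem L654697 : sm gh N42187 = N46824 := rfl
theorem L654699 : sm gb N46824 = N42188 := ded_25_1 (flp_h L356672) (flp_b L356664) L654697
theorem L654701 : sm ge N46824 = N46824 := ded_43_1 (flp_h L654697) L356668 L654697
theorem L654702 : sm gf N46824 = N44783 := ded_47_1 (flp_h L378882) (flp_f L356669) L654697
theorem L654704 : sm gj N46824 = N46824 := ded_52_1 (flp_h L654697) L356671 L654697
theorem L654705 : sm gi N46824 = N46824 := ded_54_2 (flp_h L654697) (flp_i L356662) L245454 L356662 L654697
theorem L654706 : sm gd N42188 = N46825 := rfl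
theorem L654708 : sm ga N46825 = N46825 := ded_12_1 (flp_d L654706) L356674 L654706
theorem L654709 : sm gf N46825 = N44784 := ded_35_2 (flp_d L378888) (flp_f L356678) L654706
theorem L654711 : sm gj N46825 = N46825 := ded_37_2 (flp_d L654706) L356680 L654706
theorem L654712 : sm gi N46825 = N46825 := ded_39_2 (flp_d L654706) L356681 L654706
theorem L654713 : sm gc N46825 = N42310 := ded_27_1 (flp_d L357711) L246154 (flp_d L245473) (flp_c L356675) L654706
theorem L654715 : sm gh N46825 = N42943 := ded_38_2 (flp_d L363147) (flp_h L249811) (flp_d L245460) L356672 L654706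
theorem L654717 : sm gf N42190 = N46826 := rfl
theorem L654719 : sm ga N46826 = N42946 := ded_14_1 (flp_f L363175) (flp_a L356694) L654717
theorem L654721 : sm gb N46826 = N42208 := ded_22_1 (flp_f L356863) (flp_b L356696) L654717
theorem L654723 : sm gc N46826 = N46034 := ded_29_1 L615782 (flp_c L542513) L654717
theorem L654725 : sm gd N46826 = N42192 := ded_35_1 (flp_f L356711) (flp_d L356698) L654717
theorem L654727 : sm gi N46826 = N45779 := ded_48_2 L615814 (flp_i L542516) L654717
theorem L654729 : sm gg N46826 = N44787 := ded_45_2 (flp_f L378917) (flp_g L260470) (flp_f L245482) L356692 L654717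
theorem L654731 : sm ge N45554 = N46826 := ded_28_0 L654723 L389177 (flp_c L385260)
theorem L654733 : sm gj N42190 = N46827 := rfl
theorem L654735 : sm ga N46827 = N42947 := ded_16_1 (flp_j L363183) (flp_a L356694) L654733
theorem L654737 : sm gb N46827 = N42209 := ded_24_1 (flp_j L356872) (flp_b L356696) L654733
theorem L654739 : sm gc N46827 = N46153 := ded_31_1 L390073 (flp_c L542513) L654733
theorem L654741 : sm gd N46827 = N42193 := ded_37_1 (flp_j L356720) (flp_d L356698) L654733
theorem L654743 : sm ge N46827 = N46827 := ded_42_1 (flp_j L654733) L356700 L654733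
theorem L654744 : sm gi N46827 = N46121 := ded_53_2 L389829 (flp_i L542516) L654733
theorem L654746 : sm gg N46827 = N46827 := ded_49_1 (flp_j L654733) (flp_g L356692) L245484 L356692 L654733
theorem L654747 : sm gh N42190 = N46828 := rfl
theorem L654749 : sm ga N46828 = N42948 := ded_17_1 (flp_h L363191) (flp_a L356694) L654747
theorem L654751 : sm gb N46828 = N42210 := ded_25_1 (flp_h L356881) (flp_b L356696) L654747
theorem L654753 : sm gc N46828 = N46156 := ded_32_1 (flp_h L390092) (flp_c L542513) L654747
theorem L654755 : sm ge N46828 = N46828 := ded_43_1 (flp_h L654747) L356700 L654747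
theorem L654756 : sm gg N46828 = N42191 := ded_50_1 (flp_h L356701) L356692 L654747
theorem L654758 : sm gd N42191 = N46829 := rfl
theorem L654760 : sm ga N46829 = N42949 := ded_12_1 (flp_d L363198) (flp_a L356703) L654758
theorem L654762 : sm gb N46829 = N42211 := ded_20_1 (flp_d L356889) (flp_b L356705) L654758
theorem L654764 : sm gf N46829 = N42894 := ded_35_2 L546922 (flp_f L356708) L654758
theorem L654766 : sm gj N46829 = N46829 := ded_37_2 (flp_d L654758) L356710 L654758
theorem L654767 : sm gc N46829 = N42896 := ded_27_1 L362780 (flp_c L361856) L648451 (flp_c L542489) L654758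
theorem L654769 : sm gh N46829 = N42195 := ded_38_2 (flp_d L356741) (flp_h L245495) L245476 L356701 L654758
theorem L654771 : sm ge N42956 = N46829 := ded_40_5 L654764 (flp_e L362764) L249527 L264877 (flp_f L534611)
theorem L654773 : sm gi N42191 = N46830 := rfl
theorem L654775 : sm ga N46830 = N42950 := ded_18_1 (flp_i L363207) (flp_a L356703) L654773
theorem L654777 : sm gb N46830 = N42212 := ded_26_1 (flp_i L356898) (flp_b L356705) L654773
theorem L654779 : sm gc N46830 = N45647 := ded_33_1 L385971 (flp_c L542489) L654773
theorem L654781 : sm ge N46830 = N46830 := ded_44_1 (flp_i L654773) L356707 L654773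
theorem L654782 : sm gf N46830 = N44791 := ded_48_1 (flp_i L378955) (flp_f L356708) L654773
theorem L654784 : sm gj N46830 = N46830 := ded_53_1 (flp_i L654773) L356710 L654773
theorem L654785 : sm gh N46830 = N45623 := ded_54_1 (flp_i L385767) L265092 L551301 L356701 L654773
theorem L654787 : sm gj N42192 = N46831 := rfl
theorem L654789 : sm ga N46831 = N42951 := ded_16_1 (flp_j L363215) (flp_a L356713) L654787
theorem L654791 : sm gb N46831 = N42213 := ded_24_1 (flp_j L356907) (flp_b L356715) L654787
theorem L654793 : sm gc N46831 = N46831 := ded_31_1 (flp_j L654787) L356717 L654787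
theorem L654794 : sm gf N46831 = N42193 := ded_46_1 (flp_j L356720) L356711 L654787
theorem L654796 : sm gi N46831 = N46535 := ded_53_2 (flp_j L651031) L648348 L654787
theorem L654798 : sm gh N42192 = N46832 := rfl
theorem L654800 : sm ga N46832 = N42952 := ded_17_1 (flp_h L363222) (flp_a L356713) L654798
theorem L654802 : sm gb N46832 = N42214 := ded_25_1 (flp_h L356915) (flp_b L356715) L654798
theorem L654804 : sm gc N46832 = N46832 := ded_32_1 (flp_h L654798) L356717 L654798
theorem L654805 : sm gf N46832 = N42194 := ded_47_1 (flp_h L356730) L356711 L654798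
theorem L654807 : sm gg N46832 = N44793 := ded_50_1 (flp_h L378973) (flp_g L356718) L654798
theorem L654809 : sm gh N42193 = N46833 := rfl
theorem L654811 : sm ga N46833 = N42953 := ded_17_1 (flp_h L363231) (flp_a L356722) L654809
theorem L654813 : sm gb N46833 = N42215 := ded_25_1 (flp_h L356925) (flp_b L356724) L654809
theorem L654815 : sm gc N46833 = N46833 := ded_32_1 (flp_h L654809) L356726 L654809
theorem L654816 : sm ge N46833 = N42197 := ded_43_1 (flp_h L356762) (flp_e L356727) L654809
theorem L654818 : sm gg N46833 = N46833 := ded_50_1 (flp_h L654809) L356729 L654809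
theorem L654819 : sm gj N46833 = N42194 := ded_52_1 (flp_h L356730) L356720 L654809
theorem L654821 : sm gd N42194 = N46834 := rfl
theorem L654823 : sm ga N46834 = N42954 := ded_12_1 (flp_d L363241) (flp_a L356732) L654821
theorem L654825 : sm gb N46834 = N42216 := ded_20_1 (flp_d L356936) (flp_b L356734) L654821
theorem L654827 : sm gg N46834 = N42195 := ded_36_2 (flp_d L356741) (flp_g L356739) L654821
theorem L654829 : sm gi N42194 = N46835 := rfl
theorem L654831 : sm ga N46835 = N42955 := ded_18_1 (flp_i L363247) (flp_a L356732) L654829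
theorem L654833 : sm gb N46835 = N42217 := ded_26_1 (flp_i L356942) (flp_b L356734) L654829
theorem L654835 : sm gc N46835 = N46835 := ded_33_1 (flp_i L654829) L356736 L654829
theorem L654836 : sm ge N46835 = N42199 := ded_44_1 (flp_i L356781) (flp_e L356737) L654829
theorem L654838 : sm gg N46835 = N42196 := ded_51_1 (flp_i L356750) (flp_g L356739) L654829
theorem L654840 : sm gh N46835 = N44915 := ded_54_1 (flp_i L380006) L261162 (flp_i L502365) L356730 L654829
theorem L654842 : sm gc N42195 = N46836 := rfl
theorem L654844 : sm ga N46836 = N42956 := ded_11_1 (flp_c L363256) (flp_a L356743) L654842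
theorem L654846 : sm gf N46836 = N42882 := ded_29_2 L534697 (flp_f L356747) L654842
theorem L654848 : sm gj N46836 = N46836 := ded_31_2 (flp_c L654842) L356749 L654842
theorem L654849 : sm gh N46836 = N42896 := ded_32_2 (flp_c L654767) L654769 L654842
theorem L654851 : sm gb N46836 = N42983 := ded_19_1 L543068 (flp_b L648398) (flp_c L356952) (flp_b L356745) L654842
theorem L654853 : sm gd N46836 = N46836 := ded_27_2 (flp_c L654842) (flp_d L356741) L245501 L356741 L654842
theorem L654854 : sm ge N42949 = N46836 := ded_56_2 L654853 (flp_c L654842) L356745 L245617 (flp_h L245798) L245795 L260982 L260989 L547057 L249803 (flp_a L249796) L172080 L120133 L87638 L87637 (flp_c L126895) (flp_b L126891) (flp_a L562028) L171839 L171844 L125453 L138663 L201385 L547261 L140219 (flp_h L140217) L96781 L561568 L120141 L120139 (flp_b L562566) L60648 L60767 (flp_f L83224) L83223 L120446 L174706 L253726 L368948 L368954 L253886 L185022 L185020 L127531 L88131 (flp_a L88125) (flp_h L87169) (flp_f L119114) L119113 (flp_d L169618) (flp_c L246025) (flp_b L246019) (flp_a L245741) L245746 L245743 L179534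 (flp_d L260729) (flp_c L260724) (flp_b L260521) (flp_a L547338) (flp_h L264802) (flp_f L547301)
theorem L654856 : sm ge N42195 = N46837 := rfl
theorem L654858 : sm ga N46837 = N42896 := ded_13_1 L550673 (flp_a L356743) L654856
theorem L654860 : sm gb N46837 = N42219 := ded_21_1 (flp_e L356961) (flp_b L356745) L654856
theorem L654862 : sm gc N46837 = N42949 := ded_28_1 L654854 (flp_c L654842) L654856
theorem L654864 : sm gj N46837 = N46837 := ded_42_2 (flp_e L654856) L356749 L654856
theorem L654865 : sm gh N46837 = N42956 := ded_43_2 L654771 L654769 L654856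
theorem L654867 : sm gd N46837 = N42201 := ded_34_1 (flp_e L356799) (flp_d L245525) (flp_e L245502) L356741 L654856
theorem L654869 : sm gf N46837 = N42852 := ded_40_2 (flp_e L362408) L249281 L547351 (flp_f L356747) L654856
theorem L654871 : sm gi N42195 = N46838 := rfl
theorem L654873 : sm ga N46838 = N42958 := ded_18_1 (flp_i L363269) (flp_a L356743) L654871
theorem L654875 : sm gb N46838 = N42220 := ded_26_1 (flp_i L356968) (flp_b L356745) L654871
theorem L654877 : sm gd N46838 = N42196 := ded_39_1 (flp_i L356750) L356741 L654871
theorem L654879 : sm gf N46838 = N44799 := ded_48_1 (flp_i L379028) (flp_f L356747) L654871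
theorem L654881 : sm gj N46838 = N46838 := ded_53_1 (flp_i L654871) L356749 L654871
theorem L654882 : sm gi N42197 = N46839 := rfl
theorem L654884 : sm ga N46839 = N42960 := ded_18_1 (flp_i L363286) (flp_a L356764) L654882
theorem L654886 : sm gb N46839 = N42222 := ded_26_1 (flp_i L356985) (flp_b L356766) L654882
theorem L654888 : sm gc N46839 = N46839 := ded_33_1 (flp_i L654882) L356768 L654882
theorem L654889 : sm gd N46839 = N46411 := ded_39_1 (flp_i L649974) (flp_d L648618) L654882
theorem L654891 : sm gf N46839 = N46388 := ded_48_1 (flp_i L649807) (flp_f L649109) L654882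
theorem L654893 : sm gg N46839 = N46839 := ded_51_1 (flp_i L654882) L356769 L654882
theorem L654894 : sm gj N46839 = N42199 := ded_53_1 (flp_i L356781) (flp_j L356770) L654882
theorem L654896 : sm gh N46839 = N44918 := ded_54_1 (flp_i L380034) L261189 (flp_i L502244) L356762 L654882
theorem L654898 : sm ge N42198 = N46840 := rfl
theorem L654900 : sm ga N46840 = N42904 := ded_13_1 L362830 (flp_a L552030) L654898
theorem L654902 : sm gb N46840 = N42223 := ded_21_1 (flp_e L356994) (flp_b L356776) L654898
theorem L654904 : sm gc N46840 = N46157 := ded_28_1 L648650 (flp_c L649333) L654898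
theorem L654906 : sm gg N46840 = N42201 := ded_41_2 (flp_e L356799) (flp_g L356778) L654898
theorem L654908 : sm gj N46840 = N46410 := ded_42_2 (flp_e L649966) (flp_j L649133) L654898
theorem L654910 : sm gh N46840 = N46840 := ded_43_2 (flp_e L654898) L356780 L654898
theorem L654911 : sm gi N42198 = N46841 := rfl
theorem L654913 : sm ga N46841 = N42908 := ded_18_1 (flp_i L362852) (flp_a L552030) L654911
theorem L654915 : sm gb N46841 = N42224 := ded_26_1 (flp_i L357001) (flp_b L356776) L654911
theorem L654917 : sm gc N46841 = N46424 := ded_33_1 (flp_i L650067) (flp_c L649333) L654911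
theorem L654919 : sm gd N46841 = N42199 := ded_39_1 (flp_i L356781) L356772 L654911
theorem L654921 : sm gf N46841 = N46416 := ded_48_1 (flp_i L650011) L648614 L654911
theorem L654923 : sm gg N46841 = N42202 := ded_51_1 (flp_i L356807) (flp_g L356778) L654911
theorem L654925 : sm gj N46841 = N46411 := ded_53_1 (flp_i L649974) (flp_j L649133) L654911
theorem L654927 : sm gi N42200 = N46842 := rfl
theorem L654929 : sm ga N46842 = N42795 := ded_18_1 (flp_i L361887) L550695 L654927
theorem L654931 : sm gb N46842 = N45649 := ded_26_1 L385986 (flp_b L554429) L654927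
theorem L654933 : sm gc N46842 = N42202 := ded_33_1 (flp_i L356807) L356790 L654927
theorem L654935 : sm gd N46842 = N46842 := ded_39_1 (flp_i L654927) L356798 L654927
theorem L654936 : sm ge N46842 = N45648 := ded_44_1 L385978 (flp_e L554432) L654927
theorem L654938 : sm gf N46842 = N42204 := ded_48_1 (flp_i L356826) (flp_f L356794) L654927
theorem L654940 : sm gg N46842 = N46424 := ded_51_1 (flp_i L650067) L648648 L654927
theorem L654942 : sm gj N46842 = N46842 := ded_53_1 (flp_i L654927) L356796 L654927
theorem L654943 : sm gi N42201 = N46843 := rfl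
theorem L654945 : sm ga N46843 = N42905 := ded_18_1 (flp_i L362833) (flp_a L550688) L654943
theorem L654947 : sm gb N46843 = N42226 := ded_26_1 (flp_i L357017) (flp_b L356803) L654943
theorem L654949 : sm gc N46843 = N45648 := ded_33_1 L385978 (flp_c L553791) L654943
theorem L654951 : sm ge N46843 = N42202 := ded_44_1 (flp_i L356807) L356799 L654943
theorem L654953 : sm gf N46843 = N42859 := ded_48_1 (flp_i L362466) (flp_f L550691) L654943
theorem L654955 : sm gj N46843 = N46843 := ded_53_1 (flp_i L654943) L356805 L654943
theorem L654956 : sm gh N42202 = N46844 := rfl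
theorem L654958 : sm ga N46844 = N42909 := ded_17_1 (flp_h L362858) (flp_a L552018) L654956
theorem L654960 : sm gb N46844 = N42227 := ded_25_1 (flp_h L357024) (flp_b L356811) L654956
theorem L654962 : sm gf N46844 = N42207 := ded_47_1 (flp_h L356855) (flp_f L356815) L654956
theorem L654964 : sm gj N46844 = N46844 := ded_52_1 (flp_h L654956) L356817 L654956
theorem L654965 : sm gd N46844 = N42276 := ded_38_1 (flp_h L357431) L245943 L554468 (flp_d L356813) L654956
theorem L654967 : sm gi N46844 = N46844 := ded_54_2 (flp_h L654956) (flp_i L356807) L245534 L356807 L654956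
theorem L654968 : sm gh N42204 = N46845 := rfl
theorem L654970 : sm ga N46845 = N42796 := ded_17_1 (flp_h L361896) (flp_a L550751) L654968
theorem L654972 : sm gc N46845 = N42207 := ded_32_1 (flp_h L356855) (flp_c L356830) L654968
theorem L654974 : sm ge N46845 = N42765 := ded_43_1 (flp_h L361625) (flp_e L550754) L654968
theorem L654976 : sm gj N46845 = N46845 := ded_52_1 (flp_h L654968) L356833 L654968
theorem L654977 : sm gi N46845 = N46845 := ded_54_2 (flp_h L654968) (flp_i L356826) L245550 L356826 L654968
theorem L654978 : sm ge N42208 = N46846 := rfl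
theorem L654980 : sm ga N46846 = N42242 := ded_13_1 (flp_e L357153) (flp_a L356865) L654978
theorem L654982 : sm gb N46846 = N45554 := ded_21_1 L654731 L654721 L654978
theorem L654984 : sm gc N46846 = N46846 := ded_28_1 (flp_e L654978) L356867 L654978
theorem L654985 : sm gg N46846 = N44717 := ded_41_2 L615090 (flp_g L356870) L654978
theorem L654987 : sm gi N46846 = N44869 := ded_44_2 L648851 L648465 L654978
theorem L654989 : sm gd N46846 = N44725 := ded_34_1 L653342 L653334 L355361 (flp_d L356868) L654978
theorem L654991 : sm gf N46846 = N46846 := ded_40_2 (flp_e L654978) (flp_f L356863) L245578 L356863 L654978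
theorem L654992 : sm gj N42208 = N46847 := rfl
theorem L654994 : sm ga N46847 = N42243 := ded_16_1 (flp_j L357161) (flp_a L356865) L654992
theorem L654996 : sm gc N46847 = N46847 := ded_31_1 (flp_j L654992) L356867 L654992
theorem L654997 : sm gd N46847 = N42213 := ded_37_1 (flp_j L356907) (flp_d L356868) L654992
theorem L654999 : sm gf N46847 = N42209 := ded_46_1 (flp_j L356872) L356863 L654992
theorem L655001 : sm gi N46847 = N46552 := ded_53_2 (flp_j L651169) L648465 L654992
theorem L655003 : sm gh N42208 = N46848 := rfl
theorem L655005 : sm ga N46848 = N42244 := ded_17_1 (flp_h L357170) (flp_a L356865) L655003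
theorem L655007 : sm gc N46848 = N46848 := ded_32_1 (flp_h L655003) L356867 L655003
theorem L655008 : sm gf N46848 = N42210 := ded_47_1 (flp_h L356881) L356863 L655003
theorem L655010 : sm gg N46848 = N44819 := ded_50_1 (flp_h L379221) (flp_g L356870) L655003
theorem L655012 : sm gh N42209 = N46849 := rfl
theorem L655014 : sm ga N46849 = N42245 := ded_17_1 (flp_h L357179) (flp_a L356874) L655012
theorem L655016 : sm gc N46849 = N46849 := ded_32_1 (flp_h L655012) L356876 L655012
theorem L655017 : sm ge N46849 = N46849 := ded_43_1 (flp_h L655012) L356879 L655012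
theorem L655018 : sm gg N46849 = N46849 := ded_50_1 (flp_h L655012) L356880 L655012
theorem L655019 : sm gj N46849 = N42210 := ded_52_1 (flp_h L356881) L356872 L655012
theorem L655021 : sm gd N42210 = N46850 := rfl
theorem L655023 : sm ga N46850 = N42246 := ded_12_1 (flp_d L357188) (flp_a L356883) L655021
theorem L655025 : sm gg N46850 = N42211 := ded_36_2 (flp_d L356889) (flp_g L356887) L655021
theorem L655027 : sm gh N46850 = N42216 := ded_38_2 (flp_d L356936) (flp_h L245605) (flp_d L245576) L356881 L655021
theorem L655029 : sm gi N42210 = N46851 := rfl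
theorem L655031 : sm ga N46851 = N42247 := ded_18_1 (flp_i L357196) (flp_a L356883) L655029
theorem L655033 : sm gc N46851 = N46851 := ded_33_1 (flp_i L655029) L356885 L655029
theorem L655034 : sm ge N46851 = N46851 := ded_44_1 (flp_i L655029) L356886 L655029
theorem L655035 : sm gg N46851 = N42212 := ded_51_1 (flp_i L356898) (flp_g L356887) L655029
theorem L655037 : sm gh N46851 = N46551 := ded_54_1 (flp_i L651163) L294215 (flp_i L534164) L356881 L655029
theorem L655039 : sm gc N42211 = N46852 := rfl
theorem L655041 : sm ga N46852 = N42248 := ded_11_1 (flp_c L357204) (flp_a L356891) L655039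
theorem L655043 : sm gf N46852 = N44823 := ded_29_2 (flp_c L379255) (flp_f L356893) L655039
theorem L655045 : sm gj N46852 = N46852 := ded_31_2 (flp_c L655039) L356895 L655039
theorem L655046 : sm gh N46852 = N42218 := ded_32_2 (flp_c L356952) (flp_h L356896) L655039
theorem L655048 : sm gb N46852 = N42995 := ded_19_1 L363582 (flp_b L550671) (flp_c L654767) L654762 L655039
theorem L655050 : sm gd N46852 = N46852 := ded_27_2 (flp_c L655039) (flp_d L356889) L245583 L356889 L655039
theorem L655051 : sm ge N42994 = N46852 := ded_40_5 L655043 L654246 L654237 L547422 (flp_f L363575)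
theorem L655053 : sm ge N42211 = N46853 := rfl
theorem L655055 : sm ga N46853 = N42249 := ded_13_1 (flp_e L357212) (flp_a L356891) L655053
theorem L655057 : sm gb N46853 = N42956 := ded_21_1 L654771 L654762 L655053
theorem L655059 : sm gc N46853 = N42994 := ded_28_1 L655051 (flp_c L655039) L655053
theorem L655061 : sm gj N46853 = N46853 := ded_42_2 (flp_e L655053) L356895 L655053
theorem L655062 : sm gh N46853 = N42219 := ded_43_2 (flp_e L356961) (flp_h L356896) L655053
theorem L655064 : sm gd N46853 = N46853 := ded_34_1 (flp_e L655053) (flp_d L356889) L245584 L356889 L655053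
theorem L655065 : sm gf N46853 = N45585 := ded_40_2 (flp_e L385473) (flp_f L362761) L547037 (flp_f L356893) L655053
theorem L655067 : sm gi N42211 = N46854 := rfl
theorem L655069 : sm ga N46854 = N42250 := ded_18_1 (flp_i L357220) (flp_a L356891) L655067
theorem L655071 : sm gd N46854 = N42212 := ded_39_1 (flp_i L356898) L356889 L655067
theorem L655073 : sm gf N46854 = N44825 := ded_48_1 (flp_i L379272) (flp_f L356893) L655067
theorem L655075 : sm gj N46854 = N46854 := ded_53_1 (flp_i L655067) L356895 L655067
theorem L655076 : sm gg N42213 = N46855 := rfl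
theorem L655078 : sm ga N46855 = N42251 := ded_15_1 (flp_g L357229) (flp_a L356909) L655076
theorem L655080 : sm gc N46855 = N42231 := ded_30_1 (flp_g L357056) (flp_c L356911) L655076
theorem L655082 : sm gi N46855 = N46553 := ded_51_2 L651181 (flp_i L648338) L655076
theorem L655084 : sm gf N46855 = N46855 := ded_45_1 (flp_g L655076) L356913 L245604 (flp_f L356913) L655076
theorem L655085 : sm gj N46855 = N44826 := ded_49_2 (flp_g L379279) (flp_j L260681) (flp_g L245594) L356907 L655076
theorem L655087 : sm gh N42213 = N46856 := rfl
theorem L655089 : sm ga N46856 = N42252 := ded_17_1 (flp_h L357238) (flp_a L356909) L655087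
theorem L655091 : sm gc N46856 = N42232 := ded_32_1 (flp_h L357065) (flp_c L356911) L655087
theorem L655093 : sm ge N46856 = N46389 := ded_43_1 L653371 L653365 L655087
theorem L655095 : sm gf N46856 = N42215 := ded_47_1 (flp_h L356925) (flp_f L356913) L655087
theorem L655097 : sm gj N46856 = N42214 := ded_52_1 (flp_h L356915) L356907 L655087
theorem L655099 : sm gd N42214 = N46857 := rfl
theorem L655101 : sm ga N46857 = N42253 := ded_12_1 (flp_d L357248) (flp_a L356917) L655099
theorem L655103 : sm gf N46857 = N42216 := ded_35_2 (flp_d L356936) (flp_f L356921) L655099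
theorem L655105 : sm gg N46857 = N44828 := ded_36_2 (flp_d L379296) (flp_g L356923) L655099
theorem L655107 : sm gi N42214 = N46858 := rfl
theorem L655109 : sm ga N46858 = N42254 := ded_18_1 (flp_i L357256) (flp_a L356917) L655107
theorem L655111 : sm gc N46858 = N42234 := ded_33_1 (flp_i L357084) (flp_c L356919) L655107
theorem L655113 : sm gf N46858 = N42217 := ded_48_1 (flp_i L356942) (flp_f L356921) L655107
theorem L655115 : sm gg N46858 = N44829 := ded_51_1 (flp_i L379302) (flp_g L356923) L655107
theorem L655117 : sm gh N46858 = N45850 := ded_54_1 (flp_i L387582) L266269 (flp_i L567862) L356915 L655107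
theorem L655119 : sm gd N42215 = N46859 := rfl
theorem L655121 : sm ga N46859 = N42255 := ded_12_1 (flp_d L357266) (flp_a L356927) L655119
theorem L655123 : sm gg N46859 = N46859 := ded_36_2 (flp_d L655119) L356933 L655119
theorem L655124 : sm gj N46859 = N42216 := ded_37_2 (flp_d L356936) (flp_j L356934) L655119
theorem L655126 : sm gc N46859 = N46476 := ded_27_1 (flp_d L650542) L272834 L635658 (flp_c L356929) L655119
theorem L655128 : sm ge N46859 = N46412 := ded_34_2 (flp_d L649983) (flp_e L271625) L635762 (flp_e L356931) L655119
theorem L655130 : sm gi N42215 = N46860 := rfl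
theorem L655132 : sm ga N46860 = N42256 := ded_18_1 (flp_i L357273) (flp_a L356927) L655130
theorem L655134 : sm gc N46860 = N42236 := ded_33_1 (flp_i L357102) (flp_c L356929) L655130
theorem L655136 : sm ge N46860 = N42222 := ded_44_1 (flp_i L356985) (flp_e L356931) L655130
theorem L655138 : sm gg N46860 = N46860 := ded_51_1 (flp_i L655130) L356933 L655130
theorem L655139 : sm gj N46860 = N42217 := ded_53_1 (flp_i L356942) (flp_j L356934) L655130
theorem L655141 : sm gh N46860 = N45853 := ded_54_1 (flp_i L387604) L266295 L502275 L356925 L655130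
theorem L655143 : sm gc N42216 = N46861 := rfl
theorem L655145 : sm ga N46861 = N42257 := ded_11_1 (flp_c L357284) (flp_a L356938) L655143
theorem L655147 : sm gg N46861 = N42218 := ded_30_2 (flp_c L356952) (flp_g L356940) L655143
theorem L655149 : sm gj N46861 = N46476 := ded_31_2 (flp_c L655126) L655124 L655143
theorem L655151 : sm gd N46861 = N42237 := ded_27_2 (flp_c L357112) (flp_d L245722) (flp_c L245609) L356936 L655143
theorem L655153 : sm gb N46338 = N46861 := ded_23_3 L655147 L648398 (flp_g L391561)
theorem L655155 : sm ge N46337 = N46861 := ded_41_3 L655147 (flp_e L648394) (flp_g L391557)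
theorem L655157 : sm ge N42216 = N46862 := rfl
theorem L655159 : sm ga N46862 = N42258 := ded_13_1 (flp_e L357290) (flp_a L356938) L655157
theorem L655161 : sm gc N46862 = N46337 := ded_28_1 L655155 (flp_c L655143) L655157
theorem L655163 : sm gg N46862 = N42219 := ded_41_2 (flp_e L356961) (flp_g L356940) L655157
theorem L655165 : sm gj N46862 = N46412 := ded_42_2 (flp_e L655128) L655124 L655157
theorem L655167 : sm gd N46862 = N42223 := ded_34_1 (flp_e L356994) (flp_d L245642) (flp_e L245611) L356936 L655157
theorem L655169 : sm gi N42216 = N46863 := rfl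
theorem L655171 : sm ga N46863 = N42259 := ded_18_1 (flp_i L357298) (flp_a L356938) L655169
theorem L655173 : sm gd N46863 = N42217 := ded_39_1 (flp_i L356942) L356936 L655169
theorem L655175 : sm gg N46863 = N42220 := ded_51_1 (flp_i L356968) (flp_g L356940) L655169
theorem L655177 : sm gi N42218 = N46864 := rfl
theorem L655179 : sm ga N46864 = N42262 := ded_18_1 (flp_i L357320) (flp_a L356954) L655177
theorem L655181 : sm gb N46864 = N45885 := ded_26_1 L387883 (flp_b L648398) L655177
theorem L655183 : sm gc N46864 = N42220 := ded_33_1 (flp_i L356968) L356952 L655177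
theorem L655185 : sm gd N46864 = N42240 := ded_39_1 (flp_i L357135) (flp_d L356959) L655177
theorem L655187 : sm ge N46864 = N45884 := ded_44_1 L387878 L648394 L655177
theorem L655189 : sm gf N46864 = N44837 := ded_48_1 (flp_i L379365) (flp_f L356956) L655177
theorem L655191 : sm gj N46864 = N46864 := ded_53_1 (flp_i L655177) L356958 L655177
theorem L655192 : sm gf N42219 = N46865 := rfl
theorem L655194 : sm ga N46865 = N42263 := ded_14_1 (flp_f L357329) (flp_a L356963) L655192
theorem L655196 : sm gb N46865 = N42852 := ded_22_1 (flp_f L654869) L654860 L655192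
theorem L655198 : sm gc N46865 = N43693 := ded_29_1 L369497 (flp_c L553787) L655192
theorem L655200 : sm gd N46865 = N42225 := ded_35_1 (flp_f L357009) (flp_d L356966) L655192
theorem L655202 : sm gj N46865 = N46865 := ded_46_2 (flp_f L655192) L356965 L655192
theorem L655203 : sm gh N46865 = N45585 := ded_47_2 (flp_f L655065) L655062 L655192
theorem L655205 : sm ge N46865 = N42828 := ded_40_1 L554313 (flp_e L260731) (flp_f L245619) L356961 L655192
theorem L655207 : sm gi N42219 = N46866 := rfl
theorem L655209 : sm ga N46866 = N42264 := ded_18_1 (flp_i L357338) (flp_a L356963) L655207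
theorem L655211 : sm gc N46866 = N45884 := ded_33_1 L387878 (flp_c L553787) L655207
theorem L655213 : sm gd N46866 = N42226 := ded_39_1 (flp_i L357017) (flp_d L356966) L655207
theorem L655215 : sm ge N46866 = N42220 := ded_44_1 (flp_i L356968) L356961 L655207
theorem L655217 : sm gj N46866 = N46866 := ded_53_1 (flp_i L655207) L356965 L655207
theorem L655218 : sm gh N42220 = N46867 := rfl
theorem L655220 : sm ga N46867 = N42265 := ded_17_1 (flp_h L357347) (flp_a L356970) L655218
theorem L655222 : sm gf N46867 = N44840 := ded_47_1 (flp_h L379390) (flp_f L356974) L655218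
theorem L655224 : sm gj N46867 = N46867 := ded_52_1 (flp_h L655218) L356976 L655218
theorem L655225 : sm gd N46867 = N45844 := ded_38_1 (flp_h L387538) L266229 L575761 (flp_d L356972) L655218
theorem L655227 : sm gf N42223 = N46868 := rfl
theorem L655229 : sm ga N46868 = N42268 := ded_14_1 (flp_f L357371) (flp_a L356996) L655227
theorem L655231 : sm gc N46868 = N45430 := ded_29_1 (flp_f L645698) L648636 L655227
theorem L655233 : sm gj N46868 = N45433 := ded_46_2 L384242 (flp_j L649135) L655227
theorem L655235 : sm gh N46868 = N46868 := ded_47_2 (flp_f L655227) L357000 L655227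
theorem L655236 : sm ge N46868 = N45429 := ded_40_1 L384204 L264063 (flp_f L635755) L356994 L655227
theorem L655238 : sm gi N42223 = N46869 := rfl
theorem L655240 : sm ga N46869 = N42269 := ded_18_1 (flp_i L357376) (flp_a L356996) L655238
theorem L655242 : sm gc N46869 = N45913 := ded_33_1 L388124 L648636 L655238
theorem L655244 : sm ge N46869 = N42224 := ded_44_1 (flp_i L357001) L356994 L655238
theorem L655246 : sm gg N46869 = N42226 := ded_51_1 (flp_i L357017) (flp_g L356998) L655238
theorem L655248 : sm gj N46869 = N46413 := ded_53_1 (flp_i L649988) (flp_j L649135) L655238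
theorem L655250 : sm gh N42224 = N46870 := rfl
theorem L655252 : sm ga N46870 = N42270 := ded_17_1 (flp_h L357384) (flp_a L357003) L655250
theorem L655254 : sm gc N46870 = N46409 := ded_32_1 (flp_h L649956) (flp_c L649321) L655250
theorem L655256 : sm gf N46870 = N46417 := ded_47_1 (flp_h L650019) L649131 L655250
theorem L655258 : sm gg N46870 = N42227 := ded_50_1 (flp_h L357024) (flp_g L357007) L655250
theorem L655260 : sm gj N46870 = N46414 := ded_52_1 (flp_h L649995) (flp_j L649137) L655250
theorem L655262 : sm gd N46870 = N43078 := ded_38_1 (flp_h L364239) L250514 L575738 (flp_d L357005) L655250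
theorem L655264 : sm gi N46870 = N46870 := ded_54_2 (flp_h L655250) (flp_i L357001) L245648 L357001 L655250
theorem L655265 : sm gg N42225 = N46871 := rfl
theorem L655267 : sm ga N46871 = N42271 := ded_15_1 (flp_g L357391) (flp_a L357011) L655265
theorem L655269 : sm gb N46871 = N42856 := ded_23_1 L362447 (flp_b L554502) L655265
theorem L655271 : sm gc N46871 = N43722 := ded_30_1 L369740 (flp_c L503121) L655265
theorem L655273 : sm ge N46871 = N42228 := ded_41_1 (flp_g L357032) (flp_e L357015) L655265
theorem L655275 : sm gh N46871 = N46871 := ded_50_2 (flp_g L655265) L357014 L655265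
theorem L655276 : sm gi N42225 = N46872 := rfl
theorem L655278 : sm ga N46872 = N42272 := ded_18_1 (flp_i L357398) (flp_a L357011) L655276
theorem L655280 : sm gb N46872 = N42859 := ded_26_1 (flp_i L362466) (flp_b L554502) L655276
theorem L655282 : sm gc N46872 = N43122 := ded_33_1 L364643 (flp_c L503121) L655276
theorem L655284 : sm ge N46872 = N42229 := ded_44_1 (flp_i L357039) (flp_e L357015) L655276
theorem L655286 : sm gf N46872 = N42226 := ded_48_1 (flp_i L357017) L357009 L655276
theorem L655288 : sm gj N46872 = N46872 := ded_53_1 (flp_i L655276) L357013 L655276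
theorem L655289 : sm gh N42226 = N46873 := rfl
theorem L655291 : sm ga N46873 = N42273 := ded_17_1 (flp_h L357407) (flp_a L357019) L655289
theorem L655293 : sm gc N46873 = N44963 := ded_32_1 L380400 (flp_c L553761) L655289
theorem L655295 : sm ge N46873 = N42227 := ded_43_1 (flp_h L357024) (flp_e L357021) L655289
theorem L655297 : sm gj N46873 = N46873 := ded_52_1 (flp_h L655289) L357023 L655289
theorem L655298 : sm gi N46873 = N46873 := ded_54_2 (flp_h L655289) (flp_i L357017) L245662 L357017 L655289
theorem L655299 : sm gj N42228 = N46874 := rfl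
theorem L655301 : sm ga N46874 = N42274 := ded_16_1 (flp_j L357415) (flp_a L357034) L655299
theorem L655303 : sm gb N46874 = N42854 := ded_24_1 L362429 (flp_b L554478) L655299
theorem L655305 : sm gd N46874 = N42830 := ded_37_1 L362219 (flp_d L554480) L655299
theorem L655307 : sm gh N46874 = N46874 := ded_52_2 (flp_j L655299) L357038 L655299
theorem L655308 : sm gg N46874 = N46874 := ded_49_1 (flp_j L655299) (flp_g L357032) L245678 L357032 L655299
theorem L655309 : sm gi N42228 = N46875 := rfl
theorem L655311 : sm ga N46875 = N42275 := ded_18_1 (flp_i L357423) (flp_a L357034) L655309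
theorem L655313 : sm gb N46875 = N42857 := ded_26_1 (flp_i L362450) (flp_b L554478) L655309
theorem L655315 : sm gd N46875 = N42832 := ded_39_1 (flp_i L362228) (flp_d L554480) L655309
theorem L655317 : sm gg N46875 = N42229 := ded_51_1 (flp_i L357039) L357032 L655309
theorem L655319 : sm gh N42229 = N46876 := rfl
theorem L655321 : sm ga N46876 = N42276 := ded_17_1 (flp_h L357431) (flp_a L357041) L655319
theorem L655323 : sm gb N46876 = N42860 := ded_25_1 (flp_h L362473) (flp_b L554454) L655319
theorem L655325 : sm gf N46876 = N42230 := ded_47_1 (flp_h L357048) (flp_f L357045) L655319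
theorem L655327 : sm gj N46876 = N46876 := ded_52_1 (flp_h L655319) L357047 L655319
theorem L655328 : sm gd N46876 = N42909 := ded_38_1 (flp_h L362858) (flp_d L553387) (flp_h L249203) (flp_d L554456) L655319
theorem L655330 : sm gi N46876 = N46876 := ded_54_2 (flp_h L655319) (flp_i L357039) L245679 L357039 L655319
theorem L655331 : sm gh N42231 = N46877 := rfl
theorem L655333 : sm ga N46877 = N42278 := ded_17_1 (flp_h L357447) (flp_a L357058) L655331
theorem L655335 : sm gb N46877 = N46877 := ded_25_1 (flp_h L655331) L357060 L655331
theorem L655336 : sm ge N46877 = N46391 := ded_43_1 (flp_h L653522) L653520 L655331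
theorem L655338 : sm gf N46877 = N46877 := ded_47_1 (flp_h L655331) L357062 L655331
theorem L655339 : sm gg N46877 = N42232 := ded_50_1 (flp_h L357065) L357056 L655331
theorem L655341 : sm gj N46877 = N44853 := ded_52_1 (flp_h L379501) (flp_j L357063) L655331
theorem L655343 : sm gd N46480 = N46877 := ded_12_0 L655333 (flp_d L654428) L654419
theorem L655345 : sm gi N42232 = N46878 := rfl
theorem L655347 : sm ga N46878 = N42280 := ded_18_1 (flp_i L357465) (flp_a L357067) L655345
theorem L655349 : sm gb N46878 = N46878 := ded_26_1 (flp_i L655345) L357069 L655345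
theorem L655350 : sm gd N46878 = N46481 := ded_39_1 (flp_i L650576) (flp_d L649103) L655345
theorem L655352 : sm ge N46878 = N46392 := ded_44_1 (flp_i L649835) (flp_e L649257) L655345
theorem L655354 : sm gf N46878 = N42236 := ded_48_1 (flp_i L357102) (flp_f L357070) L655345
theorem L655356 : sm gj N46878 = N42234 := ded_53_1 (flp_i L357084) (flp_j L357072) L655345
theorem L655358 : sm gh N46878 = N46519 := ded_54_1 (flp_i L650879) L273117 (flp_i L567857) L357065 L655345
theorem L655360 : sm gc N42233 = N46879 := rfl
theorem L655362 : sm ga N46879 = N42281 := ded_11_1 (flp_c L357473) (flp_a L357076) L655360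
theorem L655364 : sm ge N46879 = N46486 := ded_28_2 L650624 L649169 L655360
theorem L655366 : sm gf N46879 = N42237 := ded_29_2 (flp_c L357112) (flp_f L357079) L655360
theorem L655368 : sm gg N46879 = N44856 := ded_30_2 (flp_c L379528) (flp_g L357081) L655360
theorem L655370 : sm gj N46879 = N46477 := ded_31_2 L650549 L649173 L655360
theorem L655372 : sm gh N46879 = N46879 := ded_32_2 (flp_c L655360) L357083 L655360
theorem L655373 : sm gb N46527 = N46879 := ded_22_3 L655366 L648566 L650930
theorem L655375 : sm gi N42233 = N46880 := rfl
theorem L655377 : sm ga N46880 = N42283 := ded_18_1 (flp_i L357487) (flp_a L357076) L655375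
theorem L655379 : sm gb N46880 = N46880 := ded_26_1 (flp_i L655375) L357078 L655375
theorem L655380 : sm gd N46880 = N42234 := ded_39_1 (flp_i L357084) L357074 L655375
theorem L655382 : sm ge N46880 = N46489 := ded_44_1 (flp_i L650646) L649169 L655375
theorem L655384 : sm gf N46880 = N42238 := ded_48_1 (flp_i L357119) (flp_f L357079) L655375
theorem L655386 : sm gg N46880 = N44858 := ded_51_1 (flp_i L379542) (flp_g L357081) L655375
theorem L655388 : sm gj N46880 = N46481 := ded_53_1 (flp_i L650576) L649173 L655375
theorem L655390 : sm gi N42237 = N46881 := rfl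
theorem L655392 : sm ga N46881 = N42287 := ded_18_1 (flp_i L357519) (flp_a L357114) L655390
theorem L655394 : sm gb N46881 = N46522 := ded_26_1 L650901 (flp_b L648566) L655390
theorem L655396 : sm gc N46881 = N42238 := ded_33_1 (flp_i L357119) L357112 L655390
theorem L655398 : sm ge N46881 = N46471 := ded_44_1 (flp_i L650487) L648562 L655390
theorem L655400 : sm gg N46881 = N42240 := ded_51_1 (flp_i L357135) (flp_g L357116) L655390
theorem L655402 : sm gj N46881 = N46478 := ded_53_1 (flp_i L650554) L649171 L655390
theorem L655404 : sm gh N42238 = N46882 := rfl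
theorem L655406 : sm ga N46882 = N42288 := ded_17_1 (flp_h L357525) (flp_a L357121) L655404
theorem L655408 : sm gb N46882 = N46882 := ded_25_1 (flp_h L655404) L357123 L655404
theorem L655409 : sm ge N46882 = N46472 := ded_43_1 (flp_h L650501) L649167 L655404
theorem L655411 : sm gg N46882 = N42241 := ded_50_1 (flp_h L357144) (flp_g L357126) L655404
theorem L655413 : sm gj N46882 = N46482 := ded_52_1 (flp_h L650583) L649175 L655404
theorem L655415 : sm gd N46882 = N46516 := ded_38_1 (flp_h L650858) L273068 L554958 (flp_d L357124) L655404
theorem L655417 : sm gi N46882 = N46882 := ded_54_2 (flp_h L655404) (flp_i L357119) L245729 L357119 L655404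
theorem L655418 : sm gh N42240 = N46883 := rfl
theorem L655420 : sm ga N46883 = N42291 := ded_17_1 (flp_h L357549) (flp_a L357137) L655418
theorem L655422 : sm gb N46883 = N46514 := ded_25_1 L650846 (flp_b L648568) L655418
theorem L655424 : sm gc N46883 = N42241 := ded_32_1 (flp_h L357144) (flp_c L357139) L655418
theorem L655426 : sm ge N46883 = N46509 := ded_43_1 L650813 L648564 L655418
theorem L655428 : sm gf N46883 = N44866 := ded_47_1 (flp_h L379611) (flp_f L357141) L655418
theorem L655430 : sm gj N46883 = N46883 := ded_52_1 (flp_h L655418) L357143 L655418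
theorem L655431 : sm gi N46883 = N46883 := ded_54_2 (flp_h L655418) (flp_i L357135) L245746 L357135 L655418
theorem L655432 : sm gj N42242 = N46884 := rfl
theorem L655434 : sm gb N46884 = N43026 := ded_24_1 (flp_j L363867) (flp_b L357155) L655432
theorem L655436 : sm gc N46884 = N46884 := ded_31_1 (flp_j L655432) L357157 L655432
theorem L655437 : sm gd N46884 = N46553 := ded_37_1 (flp_j L651176) L648923 L655432
theorem L655439 : sm ge N46884 = N42243 := ded_42_1 (flp_j L357161) L357153 L655432
theorem L655441 : sm gf N46884 = N46884 := ded_46_1 (flp_j L655432) L357160 L655432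
theorem L655442 : sm gg N46884 = N46552 := ded_49_1 (flp_j L651169) (flp_g L294301) (flp_j L617253) (flp_g L357158) L655432
theorem L655444 : sm gh N42242 = N46885 := rfl
theorem L655446 : sm gb N46885 = N43027 := ded_25_1 (flp_h L363874) (flp_b L357155) L655444
theorem L655448 : sm gc N46885 = N46885 := ded_32_1 (flp_h L655444) L357157 L655444
theorem L655449 : sm ge N46885 = N42244 := ded_43_1 (flp_h L357170) L357153 L655444
theorem L655451 : sm gf N46885 = N46885 := ded_47_1 (flp_h L655444) L357160 L655444
theorem L655452 : sm gg N46885 = N44868 := ded_50_1 (flp_h L379629) (flp_g L357158) L655444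
theorem L655454 : sm gg N42243 = N46886 := rfl
theorem L655456 : sm gb N46886 = N43028 := ded_23_1 (flp_g L363883) (flp_b L357163) L655454
theorem L655458 : sm gc N46886 = N46886 := ded_30_1 (flp_g L655454) L357165 L655454
theorem L655459 : sm gd N46886 = N42251 := ded_36_1 (flp_g L357229) (flp_d L357166) L655454
theorem L655461 : sm ge N46886 = N46552 := ded_41_1 (flp_g L655442) L655439 L655454
theorem L655463 : sm gf N46886 = N46886 := ded_45_1 (flp_g L655454) L357168 L245782 (flp_f L357168) L655454
theorem L655464 : sm gj N46886 = N44869 := ded_49_2 (flp_g L379638) (flp_j L260933) (flp_g L245772) L357161 L655454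
theorem L655466 : sm gh N42243 = N46887 := rfl
theorem L655468 : sm gb N46887 = N43029 := ded_25_1 (flp_h L363892) (flp_b L357163) L655466
theorem L655470 : sm gc N46887 = N46887 := ded_32_1 (flp_h L655466) L357165 L655466
theorem L655471 : sm gf N46887 = N42245 := ded_47_1 (flp_h L357179) (flp_f L357168) L655466
theorem L655473 : sm gj N46887 = N42244 := ded_52_1 (flp_h L357170) L357161 L655466
theorem L655475 : sm gd N42244 = N46888 := rfl
theorem L655477 : sm gb N46888 = N43030 := ded_20_1 (flp_d L363900) (flp_b L357172) L655475
theorem L655479 : sm gf N46888 = N42246 := ded_35_2 (flp_d L357188) (flp_f L357175) L655475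
theorem L655481 : sm gg N46888 = N44871 := ded_36_2 (flp_d L379655) (flp_g L357177) L655475
theorem L655483 : sm gh N46888 = N42253 := ded_38_2 (flp_d L357248) (flp_h L245817) (flp_d L245770) L357170 L655475
theorem L655485 : sm gi N42244 = N46889 := rfl
theorem L655487 : sm gb N46889 = N43031 := ded_26_1 (flp_i L363908) (flp_b L357172) L655485
theorem L655489 : sm gc N46889 = N46889 := ded_33_1 (flp_i L655485) L357174 L655485
theorem L655490 : sm gf N46889 = N42247 := ded_48_1 (flp_i L357196) (flp_f L357175) L655485
theorem L655492 : sm gg N46889 = N44872 := ded_51_1 (flp_i L379663) (flp_g L357177) L655485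
theorem L655494 : sm gd N42245 = N46890 := rfl
theorem L655496 : sm gb N46890 = N43032 := ded_20_1 (flp_d L363916) (flp_b L357181) L655494
theorem L655498 : sm gg N46890 = N46890 := ded_36_2 (flp_d L655494) L357185 L655494
theorem L655499 : sm gj N46890 = N42246 := ded_37_2 (flp_d L357188) (flp_j L357186) L655494
theorem L655501 : sm gh N46890 = N42255 := ded_38_2 (flp_d L357266) (flp_h L245827) (flp_d L245779) L357179 L655494
theorem L655503 : sm gi N42245 = N46891 := rfl
theorem L655505 : sm gb N46891 = N43033 := ded_26_1 (flp_i L363923) (flp_b L357181) L655503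
theorem L655507 : sm gc N46891 = N46891 := ded_33_1 (flp_i L655503) L357183 L655503
theorem L655508 : sm ge N46891 = N46891 := ded_44_1 (flp_i L655503) L357184 L655503
theorem L655509 : sm gg N46891 = N46891 := ded_51_1 (flp_i L655503) L357185 L655503
theorem L655510 : sm gj N46891 = N42247 := ded_53_1 (flp_i L357196) (flp_j L357186) L655503
theorem L655512 : sm gc N42246 = N46892 := rfl
theorem L655514 : sm gg N46892 = N42248 := ded_30_2 (flp_c L357204) (flp_g L357192) L655512
theorem L655516 : sm gh N46892 = N42257 := ded_32_2 (flp_c L357284) (flp_h L357194) L655512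
theorem L655518 : sm gd N46892 = N46892 := ded_27_2 (flp_c L655512) (flp_d L357188) L245787 L357188 L655512
theorem L655519 : sm ge N42246 = N46893 := rfl
theorem L655521 : sm gb N46893 = N43035 := ded_21_1 (flp_e L363939) (flp_b L357190) L655519
theorem L655523 : sm gg N46893 = N42249 := ded_41_2 (flp_e L357212) (flp_g L357192) L655519
theorem L655525 : sm gh N46893 = N42258 := ded_43_2 (flp_e L357290) (flp_h L357194) L655519
theorem L655527 : sm gd N46893 = N46893 := ded_34_1 (flp_e L655519) (flp_d L357188) L245788 L357188 L655519
theorem L655528 : sm gi N42246 = N46894 := rfl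
theorem L655530 : sm gb N46894 = N43036 := ded_26_1 (flp_i L363946) (flp_b L357190) L655528
theorem L655532 : sm gd N46894 = N42247 := ded_39_1 (flp_i L357196) L357188 L655528
theorem L655534 : sm gg N46894 = N42250 := ded_51_1 (flp_i L357220) (flp_g L357192) L655528
theorem L655536 : sm gb N42248 = N46895 := rfl
theorem L655538 : sm gd N46895 = N46895 := ded_20_2 (flp_b L655536) L357211 L655536
theorem L655539 : sm gf N46895 = N44878 := ded_22_2 (flp_b L379714) (flp_f L357206) L655536
theorem L655541 : sm gj N46895 = N46895 := ded_24_2 (flp_b L655536) L357208 L655536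
theorem L655542 : sm gh N46895 = N42260 := ded_25_2 (flp_b L357306) (flp_h L357209) L655536
theorem L655544 : sm ga N46895 = N43059 := ded_10_1 L364108 (flp_a L363580) (flp_b L655048) L655041 L655536
theorem L655546 : sm gc N46895 = N43037 := ded_19_2 (flp_b L363952) (flp_c L250327) (flp_b L245793) L357204 L655536
theorem L655548 : sm ge N43058 = N46895 := ded_56_2 L655538 L655546 (flp_b L363952) (flp_a L543473) (flp_h L546588) L250065 L547418 L260170 (flp_c L179160) L123437 L85288 L85290 (flp_f L116719) L116722 (flp_d L116716) L80737 (flp_b L81987) (flp_a L118465) (flp_h L118463) L81899 (flp_e L59834) L41498 L28855 L22067 L17245 L12052 (flp_f L12046) (flp_e L8405) L5815 L5822 (flp_b L5813) (flp_a L5190) L5195 L5192 L5241 L7586 L7594 (flp_b L10862) (flp_a L15540) L22300 (flp_f L32083) (flp_e L46202) L66739 L96540 L418032 L96542 (flp_h L95753) L95751 L95750 (flp_d L138719) (flp_c L138715) (flp_b L590599) L66287 L66430 L66434 (flp_e L86947) L126007 L182996 L266048 L387231 L387236 (flp_f L364103)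
theorem L655550 : sm ge N42248 = N46896 := rfl
theorem L655552 : sm ga N46896 = N42994 := ded_13_1 L655051 L655041 L655550
theorem L655554 : sm gb N46896 = N43058 := ded_21_1 L655548 (flp_b L655536) L655550
theorem L655556 : sm gc N46896 = N42249 := ded_28_1 (flp_e L357212) L357204 L655550
theorem L655558 : sm gj N46896 = N46896 := ded_42_2 (flp_e L655550) L357208 L655550
theorem L655559 : sm gh N46896 = N42261 := ded_43_2 (flp_e L357315) (flp_h L357209) L655550
theorem L655561 : sm gd N46896 = N43023 := ded_56_3 L363837 L363844 (flp_a L250628) L172621 L120643 L88020 L62082 L62085 (flp_b L43131) L29984 (flp_h L42913) L42911 (flp_e L60272) (flp_d L85590) (flp_c L85584) (flp_b L85516) (flp_a L123679) L123684 (flp_f L169335) (flp_e L242103) (flp_d L242096) (flp_c L647821) L129477 L89433 (flp_h L89431) L61855 (flp_e L88855) L88854 L88853 (flp_b L647856) L115194 L115272 L115277 L79794 L115280 L115284 L80866 (flp_a L82117) L82121 (flp_f L118780) L172265 (flp_d L250075) (flp_c L363582) (flp_b L655048) L655041 L357209 L245856 L261076 L261081 L261078 L179646 (flp_a L575794) (flp_h L260108)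 (flp_f L356271) L654107 L654118 L654113 (flp_b L379352) L260726 (flp_h L260979) (flp_f L357206) L655550
theorem L655563 : sm gf N45737 = N46896 := ded_14_0 L655552 L363575 L386697
theorem L655565 : sm gi N42248 = N46897 := rfl
theorem L655567 : sm gc N46897 = N42250 := ded_33_1 (flp_i L357220) L357204 L655565
theorem L655569 : sm gd N46897 = N46897 := ded_39_1 (flp_i L655565) L357211 L655565
theorem L655570 : sm gf N46897 = N44880 := ded_48_1 (flp_i L379729) (flp_f L357206) L655565
theorem L655572 : sm gj N46897 = N46897 := ded_53_1 (flp_i L655565) L357208 L655565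
theorem L655573 : sm gf N42249 = N46898 := rfl
theorem L655575 : sm ga N46898 = N45585 := ded_14_1 (flp_f L655065) L655055 L655573
theorem L655577 : sm gb N46898 = N43040 := ded_22_1 (flp_f L363977) (flp_b L357214) L655573
theorem L655579 : sm gc N46898 = N45737 := ded_29_1 L655563 L655556 L655573
theorem L655581 : sm gd N46898 = N46898 := ded_35_1 (flp_f L655573) L357219 L655573
theorem L655582 : sm gj N46898 = N46898 := ded_46_2 (flp_f L655573) L357216 L655573
theorem L655583 : sm gh N46898 = N42263 := ded_47_2 (flp_f L357329) (flp_h L357217) L655573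
theorem L655585 : sm ge N46898 = N44881 := ded_40_1 (flp_f L379735) (flp_e L260982) (flp_f L245795) L357212 L655573
theorem L655587 : sm gi N42249 = N46899 := rfl
theorem L655589 : sm gb N46899 = N43041 := ded_26_1 (flp_i L363985) (flp_b L357214) L655587
theorem L655591 : sm gd N46899 = N46899 := ded_39_1 (flp_i L655587) L357219 L655587
theorem L655592 : sm ge N46899 = N42250 := ded_44_1 (flp_i L357220) L357212 L655587
theorem L655594 : sm gj N46899 = N46899 := ded_53_1 (flp_i L655587) L357216 L655587
theorem L655595 : sm gh N42250 = N46900 := rfl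
theorem L655597 : sm gb N46900 = N43042 := ded_25_1 (flp_h L363991) (flp_b L357222) L655595
theorem L655599 : sm gf N46900 = N44883 := ded_47_1 (flp_h L379753) (flp_f L357226) L655595
theorem L655601 : sm gj N46900 = N46900 := ded_52_1 (flp_h L655595) L357228 L655595
theorem L655602 : sm gi N46900 = N42265 := ded_54_2 (flp_h L357347) (flp_i L245868) (flp_h L245798) L357220 L655595
theorem L655604 : sm gh N42251 = N46901 := rfl

end Cfsg.Agent.Helper28.FicA
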